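import Mathlib

set_option autoImplicit false
set_option linter.style.haveILetI false
set_option linter.unusedSectionVars false
set_option linter.unusedVariables false

namespace Groth.Agent.H9.PSN

open PowerSeries nonZeroDivisors

universe u

variable (R : Type u) [CommRing R] [IsDomain R]

/-- the fraction field of `R` -/
abbrev K := FractionRing R

/-- `R⟦X⟧ → K⟦X⟧` as an algebra -/
noncomputable instance algPQ : Algebra (PowerSeries R) (PowerSeries (K R)) :=
  (PowerSeries.map (algebraMap R (K R))).toAlgebra

lemma algebraMap_PQ_apply (f : PowerSeries R) :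
    algebraMap (PowerSeries R) (PowerSeries (K R)) f = PowerSeries.map (algebraMap R (K R)) f := rfl

lemma algebraMap_PQ_injective :
    Function.Injective (algebraMap (PowerSeries R) (PowerSeries (K R))) := by
  intro f g h
  ext n
  have := congrArg (coeff n) h
  rw [algebraMap_PQ_apply, algebraMap_PQ_apply, coeff_map, coeff_map] at this
  exact IsFractionRing.injective R (K R) this

instance : FaithfulSMul (PowerSeries R) (PowerSeries (K R)) :=
  (faithfulSMul_iff_algebraMap_injective _ _).mpr (algebraMap_PQ_injective R)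

lemma mem_range_iff (u : PowerSeries (K R)) :
    u ∈ (algebraMap (PowerSeries R) (PowerSeries (K R))).range ↔
      ∀ j, coeff j u ∈ (algebraMap R (K R)).range := by
  constructor
  · rintro ⟨f, rfl⟩ j
    exact ⟨coeff j f, by rw [algebraMap_PQ_apply, coeff_map]⟩
  · intro h
    choose c hc using h
    refine ⟨PowerSeries.mk c, ?_⟩
    ext j
    rw [algebraMap_PQ_apply, coeff_map, coeff_mk, hc]

variable [IsNoetherianRing R] [IsIntegrallyClosed R]

/-- constant coefficient of an almost integral element lies in `R` -/
lemma coeff_zero_mem {w : PowerSeries (K R)} (hw : IsAlmostIntegral (PowerSeries R) w) :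
    coeff 0 w ∈ (algebraMap R (K R)).range := by
  obtain ⟨d, hd, hdw⟩ := hw
  have hd0 : d ≠ 0 := nonZeroDivisors.ne_zero hd
  set m := d.order.toNat with hm
  have hdm : coeff m d ≠ 0 := coeff_order hd0
  have key : ∀ n, (coeff m d) • (coeff 0 w) ^ n ∈ (algebraMap R (K R)).range := by
    intro n
    have h1 := (mem_range_iff R _).mp (hdw n) m
    rw [Algebra.smul_def, algebraMap_PQ_apply, coeff_mul] at h1
    rw [Finset.sum_eq_single (m, 0)] at h1
    · have h0 : coeff 0 (w ^ n) = (coeff 0 w) ^ n := by
        simp only [coeff_zero_eq_constantCoeff, map_pow]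
      rw [coeff_map] at h1
      dsimp only at h1
      rw [h0] at h1
      rwa [Algebra.smul_def]
    · rintro ⟨i, j⟩ hij hne
      rw [Finset.HasAntidiagonal.mem_antidiagonal] at hij
      dsimp only at hij ⊢
      have hi : i < m := by
        rcases Nat.lt_or_ge i m with h | h
        · exact h
        · exfalso
          apply hne
          have : i = m ∧ j = 0 := by omega
          rw [this.1, this.2]
      rw [coeff_map, coeff_of_lt_order_toNat i hi, map_zero, zero_mul]
    · intro h
      exact absurd (Finset.HasAntidiagonal.mem_antidiagonal.mpr (by simp)) h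
  have hai : IsAlmostIntegral R (coeff 0 w) :=
    ⟨coeff m d, mem_nonZeroDivisors_of_ne_zero hdm, key⟩
  have hint : IsIntegral R (coeff 0 w) := hai.isIntegral
  obtain ⟨y, hy⟩ := (isIntegrallyClosed_iff (K R)).mp inferInstance hint
  exact ⟨y, hy⟩

/-- the shift of an almost integral element is almost integral -/
lemma shift_isAlmostIntegral {w : PowerSeries (K R)} (hw : IsAlmostIntegral (PowerSeries R) w) :
    IsAlmostIntegral (PowerSeries R) (PowerSeries.mk fun p => coeff (p + 1) w) := by
  obtain ⟨r₀, hr₀⟩ := coeff_zero_mem R hw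
  have h1 : w - algebraMap (PowerSeries R) (PowerSeries (K R)) (C r₀) =
      X * PowerSeries.mk fun p => coeff (p + 1) w := by
    rw [algebraMap_PQ_apply, map_C, hr₀, coeff_zero_eq_constantCoeff_apply]
    exact sub_const_eq_X_mul_shift w
  have h2 : IsAlmostIntegral (PowerSeries R)
      (w - algebraMap (PowerSeries R) (PowerSeries (K R)) (C r₀)) :=
    (completeIntegralClosure (PowerSeries R) (PowerSeries (K R))).sub_mem hw
      (Subalgebra.algebraMap_mem _ _)
  rw [h1] at h2
  obtain ⟨d, hd, hdw⟩ := h2
  refine ⟨d, hd, fun n => ?_⟩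
  rw [mem_range_iff]
  intro j
  have h3 := (mem_range_iff R _).mp (hdw n) (j + n)
  rw [mul_pow, Algebra.smul_def, mul_left_comm, coeff_X_pow_mul] at h3
  rwa [Algebra.smul_def]

lemma coeff_mem (k : ℕ) : ∀ {w : PowerSeries (K R)}, IsAlmostIntegral (PowerSeries R) w →
    coeff k w ∈ (algebraMap R (K R)).range := by
  induction k with
  | zero => exact fun hw => coeff_zero_mem R hw
  | succ k ih =>
    intro w hw
    have := ih (shift_isAlmostIntegral R hw)
    rwa [coeff_mk] at this

theorem main : IsIntegrallyClosed (PowerSeries R) ∧ IsNoetherianRing (PowerSeries R) := by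
  refine ⟨?_, inferInstance⟩
  rw [isIntegrallyClosed_iff (FractionRing (PowerSeries R))]
  intro z hz
  -- z is almost integral
  obtain ⟨d, hd, hdz⟩ := hz.isAlmostIntegral
  obtain ⟨g, h, rfl⟩ := IsLocalization.exists_mk'_eq (PowerSeries R)⁰ z
  have hh0 : (h : PowerSeries R) ≠ 0 := nonZeroDivisors.ne_zero h.2
  choose e he using hdz
  -- relation in P
  have hrel : ∀ n, d * g ^ n = e n * (h : PowerSeries R) ^ n := by
    intro n
    apply IsFractionRing.injective (PowerSeries R) (FractionRing (PowerSeries R))
    have h1 := he n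
    have h2 : IsLocalization.mk' (FractionRing (PowerSeries R)) g h *
        algebraMap (PowerSeries R) (FractionRing (PowerSeries R)) (h : PowerSeries R) =
        algebraMap (PowerSeries R) (FractionRing (PowerSeries R)) g := IsLocalization.mk'_spec _ g h
    rw [map_mul, map_mul, map_pow, map_pow, h1, Algebra.smul_def, ← h2, mul_pow]
    ring
  -- map to Q
  set φ := algebraMap (PowerSeries R) (PowerSeries (K R)) with hφ
  have hφinj := algebraMap_PQ_injective R
  have hφh0 : φ (h : PowerSeries R) ≠ 0 := fun h0 => hh0 (hφinj (by rw [h0, map_zero]))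
  -- the element φ g / φ h of Frac Q is almost integral over Q, hence in Q
  let FQ := FractionRing (PowerSeries (K R))
  let ψ := algebraMap (PowerSeries (K R)) FQ
  have hψinj : Function.Injective ψ := IsFractionRing.injective _ _
  have hψh0 : ψ (φ (h : PowerSeries R)) ≠ 0 := fun h0 => hφh0 (hψinj (by rw [h0, map_zero]))
  have hai : IsAlmostIntegral (PowerSeries (K R)) (ψ (φ g) / ψ (φ (h : PowerSeries R))) := by
    refine ⟨φ d, mem_nonZeroDivisors_of_ne_zero
      (fun h0 => nonZeroDivisors.ne_zero hd (hφinj (by rw [h0, map_zero]))), fun n => ?_⟩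
    refine ⟨φ (e n), ?_⟩
    rw [Algebra.smul_def, div_pow, eq_comm, mul_div_assoc', div_eq_iff (pow_ne_zero _ hψh0)]
    rw [← map_pow, ← map_pow, ← map_mul, ← map_mul, ← map_pow, ← map_pow, ← map_mul, ← map_mul,
      hrel n]
  have hint : IsIntegral (PowerSeries (K R)) (ψ (φ g) / ψ (φ (h : PowerSeries R))) := hai.isIntegral
  obtain ⟨w, hw⟩ := (isIntegrallyClosed_iff FQ).mp inferInstance hint
  have hw' : φ g = φ (h : PowerSeries R) * w := by
    apply hψinj
    rw [map_mul, hw, mul_div_cancel₀ _ hψh0]
  -- w is almost integral over P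
  have hwai : IsAlmostIntegral (PowerSeries R) w := by
    refine ⟨d, hd, fun n => ⟨e n, ?_⟩⟩
    have h3 : φ (h : PowerSeries R) ^ n * (d • w ^ n) = φ (h : PowerSeries R) ^ n * φ (e n) := by
      rw [Algebra.smul_def, ← hφ]
      calc φ (h : PowerSeries R) ^ n * (φ d * w ^ n) = φ d * (φ (h : PowerSeries R) * w) ^ n := by
            ring
        _ = φ (d * g ^ n) := by rw [← hw', map_mul, map_pow]
        _ = φ (h : PowerSeries R) ^ n * φ (e n) := by rw [hrel n, map_mul, map_pow]; ring
    exact (mul_left_cancel₀ (pow_ne_zero n hφh0) h3).symm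
  obtain ⟨w', hw'2⟩ := (mem_range_iff R w).mpr (fun j => coeff_mem R j hwai)
  refine ⟨w', ?_⟩
  rw [eq_comm, IsLocalization.mk'_eq_iff_eq_mul, ← map_mul]
  congr 1
  apply hφinj
  rw [map_mul, ← hφ, hw', ← hw'2, mul_comm]

end Groth.Agent.H9.PSN
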