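import Mathlib
import Groth.Prelude.Def_CAlg
import Groth.Agent.Lib.Helper9.Misc.PCM2
import Groth.Agent.Lib.Helper6.SkKit
import Groth.Agent.Lib.Helper6.SkQuot
import Groth.Agent.Lib.Helper6.SkSurj
import Groth.Agent.Lib.Helper6.DepthInf
import Groth.Agent.Lib.Helper6.ReflKer

/-! # Serre's condition `(S₁)` for the local rings of `Proj` -/

set_option autoImplicit false
set_option linter.style.haveILetI false
set_option linter.unusedSectionVars false
set_option linter.unusedVariables false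

universe u

namespace Groth.Agent.H9.PSO

open HomogeneousLocalization Groth.Agent.H9.PCM Groth.Agent.H6

section SOne

variable {B : Type u} [CommRing B] [IsNoetherianRing B]

/-- `(S₁)` says that the associated primes of `B` are minimal -/
theorem mem_minimalPrimes_of_hasSk_one (hS1 : LocCoh.HasSk 1 B B) (q : Ideal B)
    (hq : q ∈ associatedPrimes B B) : q ∈ minimalPrimes B := by
  haveI : q.IsPrime := hq.isPrime
  have h1 : ¬ Depth.LocDepthGE B q 1 := fun h =>
    Depth.not_mem_associatedPrimes_of_locDepthGE B q h hq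
  have h2 := (Sk.hasSk_iff 1 B).mp hS1 q 1 le_rfl
  rw [Sk.supportDim_localizedModule_self] at h2
  have h3 : ¬ ((1 : ℕ) : WithBot ℕ∞) ≤ ((q.height : ℕ∞) : WithBot ℕ∞) := fun h => h1 (h2 h)
  have h4 : q.height = 0 := by
    by_contra hne
    apply h3
    have : (1 : ℕ∞) ≤ q.height := Order.one_le_iff_pos.mpr (pos_iff_ne_zero.mpr hne)
    exact_mod_cast WithBot.coe_le_coe.mpr this
  exact Ideal.height_eq_zero_iff.mp h4

/-- conversely, if the associated primes are minimal then `(S₁)` holds -/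
theorem hasSk_one_of_ass_minimal
    (h : ∀ q ∈ associatedPrimes B B, q ∈ minimalPrimes B) : LocCoh.HasSk 1 B B := by
  rw [Sk.hasSk_iff]
  intro p _ j hj1 hj
  interval_cases j
  · intro i hi
    omega
  · apply Depth.locDepthGE_one_of_not_mem_associatedPrimes
    intro hp
    have h0 := Ideal.height_eq_zero_iff.mpr (h p hp)
    rw [Sk.supportDim_localizedModule_self, h0] at hj
    have : ((1 : ℕ) : ℕ∞) ≤ (0 : ℕ∞) := by exact_mod_cast WithBot.coe_le_coe.mp hj
    simp at this

end SOne

section Main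

variable {A : Type u} {σ : Type*} [CommRing A] [SetLike σ A] [AddSubgroupClass σ A]
  (𝒜 : ℕ → σ) [GradedRing 𝒜] (p : Ideal A) [p.IsPrime]

theorem minimalPrime_isHomogeneous (P : Ideal A) (hP : P ∈ minimalPrimes A) :
    P.IsHomogeneous 𝒜 := by
  have hPp : P.IsPrime := hP.1.1
  have hcore : (P.homogeneousCore 𝒜).toIdeal.IsPrime := hPp.homogeneousCore
  have hle : (P.homogeneousCore 𝒜).toIdeal ≤ P := Ideal.toIdeal_homogeneousCore_le 𝒜 P
  have := hP.2 ⟨hcore, bot_le⟩ hle
  have heq : (P.homogeneousCore 𝒜).toIdeal = P := le_antisymm hle this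
  rw [← heq]
  exact (P.homogeneousCore 𝒜).isHomogeneous

omit [SetLike σ A] [AddSubgroupClass σ A] in
theorem exists_kill (P : Ideal A) (hP : P ∈ minimalPrimes A) (x : A) (hx : x ∈ P) :
    ∃ z, z ∉ P ∧ ∃ k : ℕ, z * x ^ k = 0 := by
  haveI : P.IsPrime := hP.1.1
  have h := IsLocalization.AtPrime.radical_map_of_mem_minimalPrimes
    (A := Localization.AtPrime P) P ⊥ hP
  have hx' : algebraMap A (Localization.AtPrime P) x ∈
      (Ideal.map (algebraMap A (Localization.AtPrime P)) ⊥).radical := by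
    rw [h]
    exact Ideal.mem_map_of_mem _ hx
  obtain ⟨k, hk⟩ := hx'
  rw [Ideal.map_bot, Ideal.mem_bot, ← map_pow] at hk
  obtain ⟨z, hz⟩ := (IsLocalization.map_eq_zero_iff P.primeCompl _ _).mp hk
  exact ⟨z, z.2, k, hz⟩

/-- if the associated primes of `A` are minimal, so are those of the homogeneous
localization at a point of `Proj` -/
theorem ass_minimal_atPrime [IsNoetherianRing A]
    (hA : ∀ P ∈ associatedPrimes A A, P ∈ minimalPrimes A)
    (hirr : ¬ (HomogeneousIdeal.irrelevant 𝒜).toIdeal ≤ p)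
    (q : Ideal (AtPrime 𝒜 p)) (hq : q ∈ associatedPrimes (AtPrime 𝒜 p) (AtPrime 𝒜 p)) :
    q ∈ minimalPrimes (AtPrime 𝒜 p) := by
  classical
  haveI : IsNoetherianRing (Localization.AtPrime p) :=
    IsLocalization.isNoetherianRing p.primeCompl _ inferInstance
  haveI : IsNoetherianRing (AtPrime 𝒜 p) := (cpure 𝒜 p).isNoetherianRing
  obtain ⟨d, f, hd, hfd, hfp⟩ := exists_pos_homogeneous_notMem 𝒜 p hirr
  rw [AssociatedPrimes.mem_iff, isAssociatedPrime_iff] at hq
  obtain ⟨hqp, r, hqr⟩ := hq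
  have hr0 : r ≠ 0 := by
    rintro rfl
    apply hqp.ne_top
    rw [hqr, Ideal.eq_top_iff_one, Submodule.mem_colon_singleton]
    simp
  have hφr : algebraMap (AtPrime 𝒜 p) (Localization.AtPrime p) r ≠ 0 := fun h =>
    hr0 (cpure_aux_inj 𝒜 p (h.trans (map_zero _).symm))
  obtain ⟨P', hP', hle⟩ := exists_le_isAssociatedPrime_of_isNoetherianRing
    (Localization.AtPrime p) (algebraMap (AtPrime 𝒜 p) (Localization.AtPrime p) r) hφr
  haveI hP'p : P'.IsPrime := hP'.isPrime
  set P := P'.comap (algebraMap A (Localization.AtPrime p)) with hPdef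
  haveI hPprime : P.IsPrime := Ideal.comap_isPrime _ P'
  have hPass : P ∈ associatedPrimes A A :=
    Module.associatedPrimes.comap_mem_associatedPrimes_of_mem_associatedPrimes_of_isLocalizedModule_of_fg
      p.primeCompl (Algebra.linearMap A (Localization.AtPrime p)) P' hP'
      (IsNoetherian.noetherian _)
  have hPmin := hA P hPass
  set Q := P'.comap (algebraMap (AtPrime 𝒜 p) (Localization.AtPrime p)) with hQdef
  have hqQ : q ≤ Q := by
    intro y hy
    rw [hqr, Submodule.mem_colon_singleton, Submodule.mem_bot, smul_eq_mul] at hy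
    apply hle
    rw [Submodule.mem_colon_singleton, Submodule.mem_bot, smul_eq_mul, ← map_mul, hy, map_zero]
  have key : ∀ Q' : Ideal (AtPrime 𝒜 p), Q'.IsPrime → Q' ≤ Q → Q ≤ Q' := by
    intro Q' hQ' hQ'Q y hy
    obtain ⟨⟨m, ⟨b, hb⟩, ⟨t, ht⟩, htp⟩, rfl⟩ := mk_surjective y
    have hy' := val_mul_den 𝒜 p (mk ⟨m, ⟨b, hb⟩, ⟨t, ht⟩, htp⟩) b t htp (by rw [val_mk])
    have hbP : b ∈ P := by
      change algebraMap A (Localization.AtPrime p) b ∈ P'
      rw [← hy']
      exact Ideal.mul_mem_right _ _ hy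
    obtain ⟨z, hzP, k, hzk⟩ := exists_kill P hPmin b hbP
    obtain ⟨j, hj⟩ : ∃ j, GradedRing.proj 𝒜 j z ∉ P := by
      by_contra hcon
      push Not at hcon
      apply hzP
      rw [← DirectSum.sum_support_decompose 𝒜 z]
      exact Ideal.sum_mem _ (fun m _ => hcon m)
    have hbk : b ^ k ∈ 𝒜 (k * m) := by
      have := SetLike.pow_mem_graded k hb
      rwa [smul_eq_mul] at this
    have hzj : GradedRing.proj 𝒜 j z * b ^ k = 0 := by
      have := congrArg (GradedRing.proj 𝒜 (j + k * m)) hzk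
      rw [map_zero, GradedRing.proj_apply,
        DirectSum.coe_decompose_mul_add_of_right_mem 𝒜 hbk] at this
      exact this
    set zj := GradedRing.proj 𝒜 j z with hzjdef
    have hzjmem : zj ∈ 𝒜 j := by
      rw [hzjdef, GradedRing.proj_apply]
      exact SetLike.coe_mem _
    have h1 : zj ^ d ∈ 𝒜 (d * j) := by
      have := SetLike.pow_mem_graded d hzjmem
      rwa [smul_eq_mul] at this
    have h2 : f ^ j ∈ 𝒜 (d * j) := by
      have := SetLike.pow_mem_graded j hfd
      rwa [smul_eq_mul, mul_comm] at this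
    have h3 : f ^ j ∈ p.primeCompl := p.primeCompl.pow_mem hfp j
    let h : AtPrime 𝒜 p := mk ⟨d * j, ⟨zj ^ d, h1⟩, ⟨f ^ j, h2⟩, h3⟩
    have hh : algebraMap (AtPrime 𝒜 p) (Localization.AtPrime p) h * algebraMap A _ (f ^ j) =
        algebraMap A _ (zj ^ d) := val_mul_den 𝒜 p h _ _ h3 (by rw [val_mk])
    have hhQ : h ∉ Q := by
      intro hmem
      have hm2 : algebraMap A (Localization.AtPrime p) (zj ^ d) ∈ P' := by
        rw [← hh]
        exact Ideal.mul_mem_right _ _ hmem
      have hm3 : zj ^ d ∈ P := hm2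
      exact hj (hPprime.mem_of_pow_mem d hm3)
    have hhy : h * (mk ⟨m, ⟨b, hb⟩, ⟨t, ht⟩, htp⟩ : AtPrime 𝒜 p) ^ k = 0 := by
      apply cpure_aux_inj 𝒜 p
      rw [map_zero, map_mul, map_pow]
      have hu : IsUnit (algebraMap A (Localization.AtPrime p) (f ^ j * t ^ k)) :=
        IsLocalization.map_units (Localization.AtPrime p)
          (⟨_, p.primeCompl.mul_mem h3 (p.primeCompl.pow_mem htp k)⟩ : p.primeCompl)
      apply hu.mul_right_cancel
      rw [zero_mul]
      calc _ = (algebraMap (AtPrime 𝒜 p) (Localization.AtPrime p) h *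
              algebraMap A _ (f ^ j)) *
            (algebraMap (AtPrime 𝒜 p) (Localization.AtPrime p)
              (mk ⟨m, ⟨b, hb⟩, ⟨t, ht⟩, htp⟩) * algebraMap A _ t) ^ k := by
            rw [map_mul (algebraMap A (Localization.AtPrime p)),
              map_pow (algebraMap A (Localization.AtPrime p)) t k]
            ring
        _ = algebraMap A (Localization.AtPrime p) (zj ^ d) *
            algebraMap A (Localization.AtPrime p) b ^ k := by rw [hh, hy']
        _ = algebraMap A (Localization.AtPrime p) (zj ^ (d - 1) * (zj * b ^ k)) := by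
            rw [← map_pow (algebraMap A (Localization.AtPrime p)) b k,
              ← map_mul (algebraMap A (Localization.AtPrime p))]
            congr 1
            rw [← mul_assoc, ← pow_succ, Nat.sub_add_cancel hd]
        _ = 0 := by rw [hzj, mul_zero, map_zero]
    have hmem : h * (mk ⟨m, ⟨b, hb⟩, ⟨t, ht⟩, htp⟩ : AtPrime 𝒜 p) ^ k ∈ Q' := by
      rw [hhy]
      exact Q'.zero_mem
    rcases hQ'.mem_or_mem hmem with h' | h'
    · exact absurd (hQ'Q h') hhQ
    · exact hQ'.mem_of_pow_mem k h'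
  have hQprime : Q.IsPrime := Ideal.comap_isPrime _ P'
  have hqeq : q = Q := le_antisymm hqQ (key q hqp hqQ)
  rw [hqeq]
  exact ⟨⟨hQprime, bot_le⟩, fun Q' hQ' hle => key Q' hQ'.1 hle⟩

/-- `(S₁)` passes to the local rings of `Proj` -/
theorem hasSk_one_atPrime [IsNoetherianRing A] (hA : LocCoh.HasSk 1 A A)
    (hirr : ¬ (HomogeneousIdeal.irrelevant 𝒜).toIdeal ≤ p) :
    LocCoh.HasSk 1 (AtPrime 𝒜 p) (AtPrime 𝒜 p) := by
  haveI : IsNoetherianRing (Localization.AtPrime p) :=
    IsLocalization.isNoetherianRing p.primeCompl _ inferInstance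
  haveI : IsNoetherianRing (AtPrime 𝒜 p) := (cpure 𝒜 p).isNoetherianRing
  apply hasSk_one_of_ass_minimal
  exact ass_minimal_atPrime 𝒜 p (mem_minimalPrimes_of_hasSk_one hA) hirr

end Main

section Equiv

variable {R₁ R₂ : Type u} [CommRing R₁] [CommRing R₂]

/-- Serre's conditions are invariant under ring isomorphisms -/
theorem hasSk_of_ringEquiv [IsNoetherianRing R₁] (σ : R₁ ≃+* R₂) (k : ℕ)
    (h : LocCoh.HasSk k R₁ R₁) : LocCoh.HasSk k R₂ R₂ := by
  haveI : IsNoetherianRing R₂ := isNoetherianRing_of_ringEquiv R₁ σ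
  letI : Algebra R₂ R₁ := σ.symm.toRingHom.toAlgebra
  have halg : ∀ r : R₂, algebraMap R₂ R₁ r = σ.symm r := fun r => rfl
  have hsurj : Function.Surjective (algebraMap R₂ R₁) := σ.symm.surjective
  let l : R₁ ≃ₗ[R₂] R₂ :=
    { σ.toAddEquiv with
      map_smul' := fun r x => by
        change σ (σ.symm r * x) = r * σ x
        rw [map_mul, RingEquiv.apply_symm_apply] }
  haveI : Module.Finite R₂ R₁ := Module.Finite.equiv l.symm
  have h1 : LocCoh.HasSk k R₂ R₁ := (SkSurj.hasSk_iff hsurj R₁ k).mp h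
  exact Sk.hasSk_of_linearEquiv k l h1

end Equiv

end Groth.Agent.H9.PSO
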