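import Mathlib
import Groth.Prelude.Def_ParBun

set_option autoImplicit false
set_option linter.style.haveILetI false
set_option linter.unusedSectionVars false
set_option linter.unusedVariables false

universe v u

open CategoryTheory CategoryTheory.Limits

namespace Groth.Agent.H9.ParExtGen

open ParSh

section Sum

theorem tele {n : ℕ} (g : Fin (n + 1) → ℝ) :
    ∑ j : Fin n, (g j.succ - g j.castSucc) = g (Fin.last n) - g 0 := by
  rw [Finset.sum_sub_distrib]
  have h1 := Fin.sum_univ_succ g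
  have h2 := Fin.sum_univ_castSucc g
  linarith

theorem sum_lemma (n : ℕ) (w : Fin (n + 1) → ℝ) (x y z : Fin (n + 2) → ℝ)
    (h : ∀ j, x j + y j = z j) :
    (x (Fin.last (n + 1)) + ∑ j : Fin (n + 1), w j * (x j.castSucc - x j.succ)) +
      (y (Fin.last (n + 1)) + ∑ j : Fin (n + 1), w j * (y j.castSucc - y j.succ)) =
    z (Fin.last (n + 1)) + ∑ j : Fin (n + 1), w j * (z j.castSucc - z j.succ) := by
  have hs : ∑ j : Fin (n + 1), w j * (x j.castSucc - x j.succ) +
      ∑ j : Fin (n + 1), w j * (y j.castSucc - y j.succ) =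
      ∑ j : Fin (n + 1), w j * (z j.castSucc - z j.succ) := by
    rw [← Finset.sum_add_distrib]
    refine Finset.sum_congr rfl fun j _ => ?_
    rw [← h j.castSucc, ← h j.succ]; ring
  have h1 := h (Fin.last (n + 1))
  linarith

end Sum

section Generic

variable {C : Type u} [Category.{v} C] {E : C}

theorem parSum_eq (𝓔 : Str E) (f : C → ℝ) :
    𝓔.parSum f = f (𝓔.pieceX (Fin.last (𝓔.l + 1)) : C) +
      ∑ j : Fin (𝓔.l + 1), 𝓔.wt j *
        (f (𝓔.pieceX j.castSucc : C) - f (𝓔.pieceX j.succ : C)) := by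
  unfold Str.parSum
  simp only [Str.pieceX_last, Str.pieceX_castSucc]

end Generic

section Abelian

variable {C : Type u} [Category.{v} C] [Abelian C] {F E G : C}
  (i : F ⟶ E) (p : E ⟶ G) (K : Subobject E)

lemma pbπ_comp (w : i ≫ p = 0) : Subobject.pullbackπ i K ≫ (K.arrow ≫ p) = 0 := by
  rw [← Category.assoc, (Subobject.isPullback i K).w, Category.assoc, w, comp_zero]

lemma mono_pbπ [Mono i] : Mono (Subobject.pullbackπ i K) := by
  have h : Mono (Subobject.pullbackπ i K ≫ K.arrow) := by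
    rw [(Subobject.isPullback i K).w]; infer_instance
  exact mono_of_mono _ K.arrow

/-- the pullback of `K` along the kernel `i` of `p` is the kernel of `K → E → G`. -/
noncomputable def isKernelPbπ (w : i ≫ p = 0) (hS : (ShortComplex.mk i p w).ShortExact) :
    IsLimit (KernelFork.ofι (Subobject.pullbackπ i K) (pbπ_comp i p K w)) := by
  haveI : Mono i := hS.mono_f
  haveI := mono_pbπ i K
  refine KernelFork.IsLimit.ofι' _ _ (fun {T} t ht => ?_)
  have h1 : (t ≫ K.arrow) ≫ p = 0 := by rw [Category.assoc]; exact ht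
  have hs := (KernelFork.IsLimit.lift' hS.fIsKernel (t ≫ K.arrow) h1).2
  have hs' : (KernelFork.IsLimit.lift' hS.fIsKernel (t ≫ K.arrow) h1).1 ≫ i = t ≫ K.arrow := hs
  exact ⟨(Subobject.isPullback i K).lift t _ hs'.symm, (Subobject.isPullback i K).lift_fst _ _ _⟩

lemma pbπ_comp_factor (w : i ≫ p = 0) :
    Subobject.pullbackπ i K ≫ factorThruImageSubobject (K.arrow ≫ p) = 0 := by
  rw [← cancel_mono (imageSubobject (K.arrow ≫ p)).arrow, Category.assoc,
    imageSubobject_arrow_comp, zero_comp]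
  exact pbπ_comp i p K w

/-- `0 → i⁻¹K → K → p(K) → 0` is short exact. -/
theorem shortExact_pb (w : i ≫ p = 0) (hS : (ShortComplex.mk i p w).ShortExact) :
    (ShortComplex.mk (Subobject.pullbackπ i K) (factorThruImageSubobject (K.arrow ≫ p))
      (pbπ_comp_factor i p K w)).ShortExact := by
  haveI : Mono i := hS.mono_f
  haveI := mono_pbπ i K
  have hk : IsLimit (KernelFork.ofι (Subobject.pullbackπ i K) (pbπ_comp_factor i p K w)) :=
    isKernelOfComp (imageSubobject (K.arrow ≫ p)).arrow (K.arrow ≫ p) (isKernelPbπ i p K w hS)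
      (pbπ_comp_factor i p K w) (imageSubobject_arrow_comp _)
  exact ShortComplex.ShortExact.mk' (ShortComplex.exact_of_f_is_kernel _ hk) ‹_› inferInstance

theorem induced_pieceX (𝓔 : Str E) (j : Fin (𝓔.l + 2)) :
    (𝓔.induced i).pieceX j = (Subobject.pullback i).obj (𝓔.pieceX j) := by
  induction j using Fin.lastCases with
  | last =>
    have h1 : (𝓔.induced i).pieceX (Fin.last (𝓔.l + 1)) = (𝓔.induced i).bot :=
      (𝓔.induced i).pieceX_last
    rw [h1, 𝓔.pieceX_last]; rfl
  | cast j =>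
    have h1 : (𝓔.induced i).pieceX j.castSucc = (𝓔.induced i).piece j :=
      (𝓔.induced i).pieceX_castSucc j
    rw [h1, 𝓔.pieceX_castSucc]; rfl

theorem coinduced_pieceX (𝓔 : Str E) [Epi p] (j : Fin (𝓔.l + 2)) :
    (𝓔.coinduced p).pieceX j = imageSubobject ((𝓔.pieceX j).arrow ≫ p) := by
  induction j using Fin.lastCases with
  | last =>
    have h1 : (𝓔.coinduced p).pieceX (Fin.last (𝓔.l + 1)) = (𝓔.coinduced p).bot :=
      (𝓔.coinduced p).pieceX_last
    rw [h1, 𝓔.pieceX_last]; rfl
  | cast j =>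
    have h1 : (𝓔.coinduced p).pieceX j.castSucc = (𝓔.coinduced p).piece j :=
      (𝓔.coinduced p).pieceX_castSucc j
    rw [h1, 𝓔.pieceX_castSucc]; rfl

theorem parSum_induced (𝓔 : Str E) (f : C → ℝ) :
    (𝓔.induced i).parSum f =
      f (((Subobject.pullback i).obj (𝓔.pieceX (Fin.last (𝓔.l + 1))) : Subobject F) : C) +
      ∑ j : Fin (𝓔.l + 1), 𝓔.wt j *
        (f (((Subobject.pullback i).obj (𝓔.pieceX j.castSucc) : Subobject F) : C) -
          f (((Subobject.pullback i).obj (𝓔.pieceX j.succ) : Subobject F) : C)) := by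
  rw [parSum_eq]
  show f (((𝓔.induced i).pieceX (Fin.last (𝓔.l + 1)) : Subobject F) : C) +
    ∑ j : Fin (𝓔.l + 1), 𝓔.wt j * (f (((𝓔.induced i).pieceX (Fin.castSucc j) : Subobject F) : C) -
      f (((𝓔.induced i).pieceX (Fin.succ j) : Subobject F) : C)) = _
  rw [induced_pieceX]
  congr 1
  refine Finset.sum_congr rfl fun j _ => ?_
  rw [induced_pieceX, induced_pieceX]
  try rfl

theorem parSum_coinduced (𝓔 : Str E) [Epi p] (f : C → ℝ) :
    (𝓔.coinduced p).parSum f =
      f ((imageSubobject ((𝓔.pieceX (Fin.last (𝓔.l + 1))).arrow ≫ p) : Subobject G) : C) +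
      ∑ j : Fin (𝓔.l + 1), 𝓔.wt j *
        (f ((imageSubobject ((𝓔.pieceX j.castSucc).arrow ≫ p) : Subobject G) : C) -
          f ((imageSubobject ((𝓔.pieceX j.succ).arrow ≫ p) : Subobject G) : C)) := by
  rw [parSum_eq]
  show f (((𝓔.coinduced p).pieceX (Fin.last (𝓔.l + 1)) : Subobject G) : C) +
    ∑ j : Fin (𝓔.l + 1), 𝓔.wt j * (f (((𝓔.coinduced p).pieceX (Fin.castSucc j) : Subobject G) : C) -
      f (((𝓔.coinduced p).pieceX (Fin.succ j) : Subobject G) : C)) = _
  rw [coinduced_pieceX]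
  congr 1
  refine Finset.sum_congr rfl fun j _ => ?_
  rw [coinduced_pieceX, coinduced_pieceX]
  try rfl

/-- additivity of `parSum` in a parabolic extension, for a function additive on the sequences
`0 → i⁻¹K → K → p(K) → 0`. -/
theorem parSum_add (𝓔 : Str E) [Epi p] (f : C → ℝ)
    (hf : ∀ j : Fin (𝓔.l + 2),
      f (((Subobject.pullback i).obj (𝓔.pieceX j) : Subobject F) : C) +
        f ((imageSubobject ((𝓔.pieceX j).arrow ≫ p) : Subobject G) : C) = f (𝓔.pieceX j : C)) :
    (𝓔.induced i).parSum f + (𝓔.coinduced p).parSum f = 𝓔.parSum f := by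
  rw [parSum_induced, parSum_coinduced, parSum_eq]
  exact sum_lemma 𝓔.l 𝓔.wt
    (fun j => f (((Subobject.pullback i).obj (𝓔.pieceX j) : Subobject F) : C))
    (fun j => f ((imageSubobject ((𝓔.pieceX j).arrow ≫ p) : Subobject G) : C))
    (fun j => f (𝓔.pieceX j : C)) hf

end Abelian

end Groth.Agent.H9.ParExtGen
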