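import Mathlib
import Groth.Prelude.Def_ParBun
import Groth.Agent.Lib.Lead.QC.SuppSES
import Groth.Agent.Lib.Lead.QC.Stalk

set_option autoImplicit false
set_option linter.style.haveILetI false
set_option linter.unusedSectionVars false
set_option linter.unusedVariables false

universe u

open CategoryTheory CategoryTheory.Limits AlgebraicGeometry TopologicalSpace Opposite

namespace Groth.Agent.H9.ParSupp

open Groth.Agent.LD Groth.Agent.LD.QC

variable {X : Scheme.{u}}

lemma twistMap_app_tmul (E : X.Modules) (I : X.IdealSheafData) (V : X.Opens) (m : Γ(E, V))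
    (c : Γ(ClSub.idealMod I, V)) :
    (ParSh.twistMap I E).app V (SecTwist.tmul E (ClSub.idealMod I) V m c) =
      (show Γ(X, V) from (ClSub.idealModι I).app V c) • m := by
  change (SecTwist.unitorR E).hom.app V ((KoszTw.tensorMap (𝟙 E) (ClSub.idealModι I)).app V
    (SecTwist.tmul E (ClSub.idealMod I) V m c)) = _
  rw [KoszTw.tensorMap_tmul]
  exact SecTwist.unitorR_tmul E V _ _

/-- away from the support of `I`, the multiplication map `E ⊗ I ⟶ E` is surjective on stalks. -/
theorem stalk_twistMap_surjective (I : X.IdealSheafData) (E : X.Modules) (x : X)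
    (hx : x ∉ I.support) :
    Function.Surjective
      ((TopCat.Presheaf.stalkFunctor _ x).map (ParSh.twistMap I E).mapPresheaf).hom := by
  intro b
  obtain ⟨V, hxV, s, rfl⟩ := TopCat.Presheaf.exists_germ_eq E.presheaf b
  obtain ⟨U, hU, hxU, hUV⟩ := exists_isAffineOpen_mem_and_subset (x := x) (U := V) hxV
  have h1 : x ∉ X.zeroLocus (U := U) (I.ideal ⟨U, hU⟩) := fun h =>
    hx ((Scheme.IdealSheafData.mem_support_iff_of_mem (U := ⟨U, hU⟩) hxU).mpr h)
  rw [Scheme.mem_zeroLocus_iff] at h1
  push Not at h1
  obtain ⟨f, hfI, hxf⟩ := h1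
  obtain ⟨t, ht⟩ := (exists_idealModι_app_eq_iff I ⟨U, hU⟩ f).mpr hfI
  have hWU : X.basicOpen f ≤ U := X.basicOpen_le f
  have hunit : IsUnit (X.presheaf.map (homOfLE hWU).op f) :=
    X.toRingedSpace.isUnit_res_basicOpen f
  obtain ⟨u, hu⟩ := hunit.exists_left_inv
  have hWV : X.basicOpen f ≤ V := hWU.trans hUV
  refine ⟨(CohB1.tensorMod E (ClSub.idealMod I)).presheaf.germ (X.basicOpen f) x hxf
    (SecTwist.tmul E (ClSub.idealMod I) (X.basicOpen f)
      (u • (E.presheaf.map (homOfLE hWV).op s : Γ(E, X.basicOpen f)))
      ((ClSub.idealMod I).presheaf.map (homOfLE hWU).op t)), ?_⟩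
  rw [stalkMap_germ, twistMap_app_tmul]
  have h2 : (ClSub.idealModι I).app (X.basicOpen f)
      ((ClSub.idealMod I).presheaf.map (homOfLE hWU).op t) =
      X.presheaf.map (homOfLE hWU).op f := by
    rw [app_res, ht]
    rfl
  rw [h2, smul_smul, mul_comm, hu, one_smul]
  exact TopCat.Presheaf.germ_res_apply E.presheaf (homOfLE hWV) x hxf s

theorem support_cokernel_twistMap_subset (I : X.IdealSheafData) (E : X.Modules) :
    CohB1.support (cokernel (ParSh.twistMap I E)) ⊆ (I.support : Set X) := by
  intro x hx
  by_contra hxI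
  exact hx (subsingleton_stalk_cokernel _ x (stalk_twistMap_surjective I E x hxI))

/-- a subobject containing `I · E` has quotient supported in `Supp E ∩ V(I)`. -/
theorem support_cokernel_subset (I : X.IdealSheafData) (E : X.Modules) (K : Subobject E)
    (hK : ParSh.twistSub I E ≤ K) :
    CohB1.support (cokernel K.arrow) ⊆ CohB1.support E ∩ (I.support : Set X) := by
  refine Set.subset_inter (support_subset_of_epi (cokernel.π K.arrow)) ?_
  -- an epimorphism `coker (twistMap) ⟶ coker K.arrow`
  have hK' : imageSubobject (ParSh.twistMap I E) ≤ K := hK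
  have hfac : (ParSh.twistMap I E) ≫ cokernel.π K.arrow = 0 := by
    have h1 := imageSubobject_arrow_comp (ParSh.twistMap I E)
    have h2 := Subobject.ofLE_arrow hK'
    calc ParSh.twistMap I E ≫ cokernel.π K.arrow
        = (factorThruImageSubobject (ParSh.twistMap I E) ≫
            (imageSubobject (ParSh.twistMap I E)).arrow) ≫ cokernel.π K.arrow := by rw [h1]
      _ = (factorThruImageSubobject (ParSh.twistMap I E) ≫
            (Subobject.ofLE _ _ hK' ≫ K.arrow)) ≫ cokernel.π K.arrow := by rw [h2]
      _ = 0 := by simp only [Category.assoc, cokernel.condition, comp_zero]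
  let q : cokernel (ParSh.twistMap I E) ⟶ cokernel K.arrow :=
    cokernel.desc _ (cokernel.π K.arrow) hfac
  haveI : Epi q := by
    have : Epi (cokernel.π (ParSh.twistMap I E) ≫ q) := by
      rw [cokernel.π_desc]; infer_instance
    exact epi_of_epi (cokernel.π (ParSh.twistMap I E)) q
  exact (support_subset_of_epi q).trans (support_cokernel_twistMap_subset I E)

theorem dim_mono {T : Type*} [TopologicalSpace T] {A B : Set T} (h : A ⊆ B) :
    topologicalKrullDim ↥A ≤ topologicalKrullDim ↥B := by
  have hc : Continuous (Set.inclusion h) := continuous_inclusion h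
  have hind : Topology.IsInducing (Set.inclusion h) := by
    refine Topology.IsInducing.of_comp hc continuous_subtype_val ?_
    exact Topology.IsInducing.subtypeVal
  exact hind.topologicalKrullDim_le

end Groth.Agent.H9.ParSupp
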