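import Mathlib

set_option autoImplicit false
set_option linter.style.haveILetI false
set_option linter.unusedSectionVars false
set_option linter.unusedVariables false

namespace Groth.Agent.H9.PolyAsymp

open Polynomial Filter

/-- a real polynomial of degree at most `e` with negative coefficient in degree `e` is eventually
negative on the natural numbers. -/
theorem eventually_neg_of_coeff_neg (A : ℝ[X]) (e : ℕ) (hdeg : A.natDegree ≤ e)
    (hc : A.coeff e < 0) : ∃ M : ℕ, ∀ m : ℕ, M ≤ m → A.eval (m : ℝ) < 0 := by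
  rcases Nat.eq_zero_or_pos e with he | he
  · subst he
    have h1 : A = C (A.coeff 0) := Polynomial.eq_C_of_natDegree_le_zero hdeg
    refine ⟨0, fun m _ => ?_⟩
    rw [h1, eval_C]
    exact hc
  · have hnat : A.natDegree = e :=
      Polynomial.natDegree_eq_of_le_of_coeff_ne_zero hdeg hc.ne
    have hlead : A.leadingCoeff = A.coeff e := by
      rw [Polynomial.leadingCoeff, hnat]
    have hdeg' : 0 < A.degree := by
      rw [← Polynomial.natDegree_pos_iff_degree_pos, hnat]; exact he
    have ht := Polynomial.tendsto_atBot_of_leadingCoeff_nonpos A hdeg' (by rw [hlead]; exact hc.le)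
    have ht' : Tendsto (fun m : ℕ => A.eval (m : ℝ)) atTop atBot :=
      ht.comp tendsto_natCast_atTop_atTop
    have hev := ht'.eventually_lt_atBot 0
    exact Filter.eventually_atTop.mp hev

/-- a real polynomial of degree at most `e` with positive coefficient in degree `e` is eventually
positive on the natural numbers. -/
theorem eventually_pos_of_coeff_pos (A : ℝ[X]) (e : ℕ) (hdeg : A.natDegree ≤ e)
    (hc : 0 < A.coeff e) : ∃ M : ℕ, ∀ m : ℕ, M ≤ m → 0 < A.eval (m : ℝ) := by
  obtain ⟨M, hM⟩ := eventually_neg_of_coeff_neg (-A) e (by rw [natDegree_neg]; exact hdeg)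
    (by rw [coeff_neg]; linarith)
  refine ⟨M, fun m hm => ?_⟩
  have := hM m hm
  rw [eval_neg] at this
  linarith

theorem coeff_nonpos_of_eventually_nonpos (A : ℝ[X]) (e : ℕ) (hdeg : A.natDegree ≤ e)
    (h : ∃ M : ℕ, ∀ m : ℕ, M ≤ m → A.eval (m : ℝ) ≤ 0) : A.coeff e ≤ 0 := by
  by_contra hc
  push Not at hc
  obtain ⟨M, hM⟩ := h
  obtain ⟨M', hM'⟩ := eventually_pos_of_coeff_pos A e hdeg hc
  have h1 := hM (max M M') (le_max_left _ _)
  have h2 := hM' (max M M') (le_max_right _ _)
  linarith

/-- comparison form: if `A` and `B` have degree at most `e + 1`, the same coefficient in degree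
`e + 1`, then eventual `A ≤ B` gives the inequality of the coefficients in degree `e`, and a strict
inequality of these coefficients gives eventual `A < B`. -/
theorem compare (A B : ℝ[X]) (e : ℕ) (hA : A.natDegree ≤ e + 1) (hB : B.natDegree ≤ e + 1)
    (htop : A.coeff (e + 1) = B.coeff (e + 1)) :
    ((∃ M : ℕ, ∀ m : ℕ, M ≤ m → A.eval (m : ℝ) ≤ B.eval (m : ℝ)) → A.coeff e ≤ B.coeff e) ∧
    (A.coeff e < B.coeff e → ∃ M : ℕ, ∀ m : ℕ, M ≤ m → A.eval (m : ℝ) < B.eval (m : ℝ)) := by
  have hdeg : (A - B).natDegree ≤ e := by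
    rw [Polynomial.natDegree_le_iff_coeff_eq_zero]
    intro n hn
    rw [coeff_sub]
    rcases Nat.lt_or_ge (e + 1) n with h | h
    · rw [Polynomial.coeff_eq_zero_of_natDegree_lt (lt_of_le_of_lt hA h),
        Polynomial.coeff_eq_zero_of_natDegree_lt (lt_of_le_of_lt hB h), sub_zero]
    · have : n = e + 1 := by omega
      rw [this, htop, sub_self]
  constructor
  · rintro ⟨M, hM⟩
    have := coeff_nonpos_of_eventually_nonpos (A - B) e hdeg
      ⟨M, fun m hm => by rw [eval_sub]; linarith [hM m hm]⟩
    rw [coeff_sub] at this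
    linarith
  · intro hlt
    obtain ⟨M, hM⟩ := eventually_neg_of_coeff_neg (A - B) e hdeg (by rw [coeff_sub]; linarith)
    refine ⟨M, fun m hm => ?_⟩
    have := hM m hm
    rw [eval_sub] at this
    linarith

end Groth.Agent.H9.PolyAsymp
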