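import Mathlib
import Groth.Prelude.Def_W4swparbununimodPar
import Groth.Agent.Lib.Helper5.Deg.Deg7
import Groth.Agent.Lib.Helper9.Misc.ParSupp
import Groth.Agent.Lib.Helper9.Misc.ParExtGen
import Groth.Agent.Lib.Helper9.Misc.PolyAsymp

set_option autoImplicit false
set_option linter.style.haveILetI false
set_option linter.unusedSectionVars false
set_option linter.unusedVariables false

universe v u

open CategoryTheory CategoryTheory.Limits AlgebraicGeometry

namespace Groth.Agent.H9.ParCoeff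

open Groth.Agent.H5.HP Groth.Agent.H5.Deg Groth.Agent.LD Groth.Agent.LD.QC ParSh
  Groth.Agent.H9.ParSupp Groth.Agent.H9.ParExtGen W4swparbununimod

section Generic

variable {C : Type u} [Category.{v} C] {E : C}

theorem teleR {R : Type*} [CommRing R] {n : ℕ} (g : Fin (n + 1) → R) :
    ∑ j : Fin n, (g j.succ - g j.castSucc) = g (Fin.last n) - g 0 := by
  rw [Finset.sum_sub_distrib]
  have h1 := Fin.sum_univ_succ g
  have h2 := Fin.sum_univ_castSucc g
  linear_combination h2 - h1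

theorem pieceX_succ_le (𝓔 : Str E) (j : Fin (𝓔.l + 1)) :
    𝓔.pieceX j.succ ≤ 𝓔.pieceX j.castSucc := by
  rw [Str.pieceX_castSucc]
  induction j using Fin.lastCases with
  | last => rw [Str.pieceX_succ_last]; exact 𝓔.bot_le _
  | cast i =>
    rw [Str.pieceX_succ_castSucc]
    exact 𝓔.piece_anti (by simp [Fin.le_iff_val_le_val])

theorem pieceX_zero (𝓔 : Str E) : 𝓔.pieceX 0 = ⊤ := by
  have h1 := 𝓔.pieceX_castSucc 0
  rw [Fin.castSucc_zero] at h1
  rw [h1, 𝓔.piece_zero]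

theorem wt_nonneg' (𝓔 : Str E) (j : Fin (𝓔.l + 1)) : 0 ≤ 𝓔.wt j :=
  le_trans 𝓔.wt_nonneg (𝓔.wt_strictMono.monotone (Fin.zero_le j))

theorem wtX_diff_nonneg (𝓔 : Str E) (j : Fin (𝓔.l + 1)) :
    0 ≤ 𝓔.wtX j.succ - 𝓔.wtX j.castSucc := by
  rw [Str.wtX_castSucc]
  induction j using Fin.lastCases with
  | last =>
    rw [Fin.succ_last, Str.wtX_last]
    linarith [𝓔.wt_lt_one]
  | cast i =>
    rw [Fin.succ_castSucc, Str.wtX_castSucc]
    have hlt : i.castSucc < i.succ := by simp [Fin.lt_def]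
    have := 𝓔.wt_strictMono hlt
    linarith

/-- the coefficients of the parabolic polynomial. -/
theorem parPoly_coeff (𝓔 : Str E) (PX : Fin (𝓔.l + 2) → Polynomial ℚ) (n : ℕ) :
    (parPoly 𝓔 PX).coeff n = (((PX (Fin.last (𝓔.l + 1))).coeff n : ℚ) : ℝ) +
      ∑ j : Fin (𝓔.l + 1), 𝓔.wt j *
        ((((PX j.castSucc).coeff n : ℚ) : ℝ) - (((PX j.succ).coeff n : ℚ) : ℝ)) := by
  unfold parPoly
  rw [Polynomial.coeff_add, Polynomial.finsetSum_coeff]
  simp only [rpoly, Polynomial.coeff_C_mul, Polynomial.coeff_sub, Polynomial.coeff_map,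
    eq_ratCast]

/-- summation by parts for the parabolic polynomial. -/
theorem parPoly_formula (𝓔 : Str E) (PX H : Fin (𝓔.l + 2) → Polynomial ℚ) (P : Polynomial ℚ)
    (hPX : ∀ j, PX j = P - H j) (h0 : H 0 = 0) :
    parPoly 𝓔 PX = Polynomial.map (Rat.castHom ℝ) P - ∑ j : Fin (𝓔.l + 1),
      Polynomial.C (𝓔.wtX j.succ - 𝓔.wtX j.castSucc) *
        Polynomial.map (Rat.castHom ℝ) (H j.succ) := by
  unfold parPoly
  simp only [rpoly]
  have ht := teleR (fun j : Fin (𝓔.l + 1 + 1) =>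
    Polynomial.C (𝓔.wtX j) * Polynomial.map (Rat.castHom ℝ) (H j))
  simp only [h0, Polynomial.map_zero, mul_zero, sub_zero, Str.wtX_last, Polynomial.C_1,
    one_mul] at ht
  have key : ∑ j : Fin (𝓔.l + 1), Polynomial.C (𝓔.wt j) *
        (Polynomial.map (Rat.castHom ℝ) (PX j.castSucc) -
          Polynomial.map (Rat.castHom ℝ) (PX j.succ)) +
      ∑ j : Fin (𝓔.l + 1), Polynomial.C (𝓔.wtX j.succ - 𝓔.wtX j.castSucc) *
        Polynomial.map (Rat.castHom ℝ) (H j.succ) =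
      ∑ j : Fin (𝓔.l + 1), (Polynomial.C (𝓔.wtX j.succ) *
          Polynomial.map (Rat.castHom ℝ) (H j.succ) -
        Polynomial.C (𝓔.wtX j.castSucc) * Polynomial.map (Rat.castHom ℝ) (H j.castSucc)) := by
    rw [← Finset.sum_add_distrib]
    refine Finset.sum_congr rfl fun j _ => ?_
    rw [hPX j.castSucc, hPX j.succ, Str.wtX_castSucc]
    simp only [Polynomial.map_sub, Polynomial.C_sub]
    ring
  rw [hPX (Fin.last _), Polynomial.map_sub]
  linear_combination key + ht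

theorem parPoly_coeff_formula (𝓔 : Str E) (PX H : Fin (𝓔.l + 2) → Polynomial ℚ)
    (P : Polynomial ℚ) (hPX : ∀ j, PX j = P - H j) (h0 : H 0 = 0) (n : ℕ) :
    (parPoly 𝓔 PX).coeff n = ((P.coeff n : ℚ) : ℝ) -
      ∑ j : Fin (𝓔.l + 1), (𝓔.wtX j.succ - 𝓔.wtX j.castSucc) *
        (((H j.succ).coeff n : ℚ) : ℝ) := by
  rw [parPoly_formula 𝓔 PX H P hPX h0, Polynomial.coeff_sub, Polynomial.finsetSum_coeff]
  simp only [Polynomial.coeff_C_mul, Polynomial.coeff_map, eq_ratCast]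

theorem parPoly_eval_formula (𝓔 : Str E) (PX H : Fin (𝓔.l + 2) → Polynomial ℚ)
    (P : Polynomial ℚ) (hPX : ∀ j, PX j = P - H j) (h0 : H 0 = 0) (m : ℕ) :
    (parPoly 𝓔 PX).eval (m : ℝ) = ((P.eval (m : ℚ) : ℚ) : ℝ) -
      ∑ j : Fin (𝓔.l + 1), (𝓔.wtX j.succ - 𝓔.wtX j.castSucc) *
        (((H j.succ).eval (m : ℚ) : ℚ) : ℝ) := by
  rw [parPoly_formula 𝓔 PX H P hPX h0, Polynomial.eval_sub, Polynomial.eval_finsetSum]
  simp only [Polynomial.eval_mul, Polynomial.eval_C, Polynomial.eval_natCast_map, eq_ratCast]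

theorem parPolyOne_coeff (𝓔 : Str E) (d : ℕ) (Q : Polynomial ℚ)
    (QH H : Fin (𝓔.l + 2) → Polynomial ℚ) (n : ℕ) :
    (parPolyOne 𝓔 d Q QH H).coeff n = ((Q.coeff n : ℚ) : ℝ) -
      ∑ j : Fin (𝓔.l + 1), ((𝓔.wtX j.succ - 𝓔.wtX j.castSucc) *
        ((StabCat.alpha (d - 1) (QH j.succ) / StabCat.alpha (d - 1) (H j.succ) : ℚ) : ℝ)) *
          (((H j.succ).coeff n : ℚ) : ℝ) := by
  unfold parPolyOne
  rw [Polynomial.coeff_sub, Polynomial.finsetSum_coeff]
  simp only [rpoly, Polynomial.coeff_C_mul, Polynomial.coeff_map, eq_ratCast]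

theorem parPolyOne_eval (𝓔 : Str E) (d : ℕ) (Q : Polynomial ℚ)
    (QH H : Fin (𝓔.l + 2) → Polynomial ℚ) (m : ℕ) :
    (parPolyOne 𝓔 d Q QH H).eval (m : ℝ) = ((Q.eval (m : ℚ) : ℚ) : ℝ) -
      ∑ j : Fin (𝓔.l + 1), ((𝓔.wtX j.succ - 𝓔.wtX j.castSucc) *
        ((StabCat.alpha (d - 1) (QH j.succ) / StabCat.alpha (d - 1) (H j.succ) : ℚ) : ℝ)) *
          (((H j.succ).eval (m : ℚ) : ℚ) : ℝ) := by
  unfold parPolyOne
  rw [Polynomial.eval_sub, Polynomial.eval_finsetSum]
  simp only [rpoly, Polynomial.eval_mul, Polynomial.eval_C, Polynomial.eval_natCast_map,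
    eq_ratCast]

end Generic

section Support

variable {X : Scheme.{u}}

theorem dim_coker_lt {E : X.Modules} (I : X.IdealSheafData) (𝓔 : Str E) (h𝓔 : 𝓔.Along I) (d : ℕ)
    (hsupp : topologicalKrullDim ↥(CohB1.support E ∩ (I.support : Set X)) < (d : WithBot ℕ∞))
    (j : Fin (𝓔.l + 2)) :
    topologicalKrullDim ↥(CohB1.support (cokernel (𝓔.pieceX j).arrow)) < (d : WithBot ℕ∞) := by
  have h1 : ParSh.twistSub I E ≤ 𝓔.pieceX j := by
    have h : 𝓔.bot = ParSh.twistSub I E := h𝓔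
    rw [← h]; exact 𝓔.bot_le_pieceX j
  exact lt_of_le_of_lt (dim_mono (support_cokernel_subset I E _ h1)) hsupp

theorem support_cokernel_pullback_subset {W E : X.Modules} (ι : W ⟶ E) (K : Subobject E) :
    CohB1.support (cokernel ((Subobject.pullback ι).obj K).arrow) ⊆
      CohB1.support (cokernel K.arrow) := by
  have sq := (Subobject.isPullback ι K).flip
  haveI := Abelian.mono_cokernel_map_of_isPullback sq
  exact support_subset_of_mono (cokernel.map _ _ _ _ sq.w)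

theorem dim_coker_induced_lt {W E : X.Modules} (ι : W ⟶ E) (𝓔 : Str E) (d : ℕ)
    (hq : ∀ j, topologicalKrullDim ↥(CohB1.support (cokernel (𝓔.pieceX j).arrow)) <
      (d : WithBot ℕ∞)) (j : Fin (𝓔.l + 2)) :
    topologicalKrullDim ↥(CohB1.support (cokernel ((𝓔.induced ι).pieceX j).arrow)) <
      (d : WithBot ℕ∞) := by
  rw [induced_pieceX ι 𝓔 j]
  exact lt_of_le_of_lt (dim_mono (support_cokernel_pullback_subset ι _)) (hq j)

end Support

section Scheme

variable (k : Type u) [Field k] (X : Scheme.{u}) [X.Over (Spec (CommRingCat.of k))]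
  [IsProper (X ↘ Spec (CommRingCat.of k))] (L : X.Modules) (hA : CohB1.IsAmple L)

include hA in
theorem natDegree_lt_of_dim_lt (M : X.Modules) (hM : Coh.IsCoh M) (hz : ¬ IsZero M) (d : ℕ)
    (hdim : topologicalKrullDim ↥(CohB1.support M) < (d : WithBot ℕ∞))
    {R : Polynomial ℚ} (hR : ShStab.IsHilbPoly k X L M R) : R.natDegree < d := by
  have h1 := natDegree_eq_dim k X hA M hM hz hR
  rw [← h1] at hdim
  by_contra hcon
  push Not at hcon
  have h3 : ((d : ℕ) : WithBot ℕ∞) ≤ ((R.natDegree : ℕ) : WithBot ℕ∞) := by exact_mod_cast hcon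
  exact absurd hdim (not_lt.mpr h3)

include hA in
theorem eq_zero_of_isZero (M : X.Modules) (hz : IsZero M) {R : Polynomial ℚ}
    (hR : ShStab.IsHilbPoly k X L M R) : R = 0 :=
  isHilbPoly_unique k X L M hR (isHilbPoly_of_isZero k X L hA.1 hz)

include hA in
theorem coeff_eq_zero_of_dim_lt (M : X.Modules) (hM : Coh.IsCoh M) (d : ℕ)
    (hdim : topologicalKrullDim ↥(CohB1.support M) < (d : WithBot ℕ∞))
    {R : Polynomial ℚ} (hR : ShStab.IsHilbPoly k X L M R) (n : ℕ) (hn : d ≤ n) :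
    R.coeff n = 0 := by
  by_cases hz : IsZero M
  · rw [eq_zero_of_isZero k X L hA M hz hR, Polynomial.coeff_zero]
  · exact Polynomial.coeff_eq_zero_of_natDegree_lt
      (lt_of_lt_of_le (natDegree_lt_of_dim_lt k X L hA M hM hz d hdim hR) hn)

include hA in
theorem natDegree_le_pred_of_dim_lt (M : X.Modules) (hM : Coh.IsCoh M) (d : ℕ)
    (hdim : topologicalKrullDim ↥(CohB1.support M) < (d : WithBot ℕ∞))
    {R : Polynomial ℚ} (hR : ShStab.IsHilbPoly k X L M R) : R.natDegree ≤ d - 1 := by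
  by_cases hz : IsZero M
  · rw [eq_zero_of_isZero k X L hA M hz hR, Polynomial.natDegree_zero]; exact Nat.zero_le _
  · have := natDegree_lt_of_dim_lt k X L hA M hM hz d hdim hR
    omega

include hA in
theorem coeff_pred_nonneg_of_dim_lt (M : X.Modules) (hM : Coh.IsCoh M) (d : ℕ)
    (hdim : topologicalKrullDim ↥(CohB1.support M) < (d : WithBot ℕ∞))
    {R : Polynomial ℚ} (hR : ShStab.IsHilbPoly k X L M R) : 0 ≤ R.coeff (d - 1) := by
  by_cases hz : IsZero M
  · rw [eq_zero_of_isZero k X L hA M hz hR, Polynomial.coeff_zero]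
  · have hl := leadingCoeff_pos k X L hA M hM hz hR
    have h2 := natDegree_lt_of_dim_lt k X L hA M hM hz d hdim hR
    rcases Nat.lt_or_ge R.natDegree (d - 1) with h | h
    · rw [Polynomial.coeff_eq_zero_of_natDegree_lt h]
    · have h3 : R.natDegree = d - 1 := by omega
      rw [← h3, Polynomial.coeff_natDegree]; exact hl.le

include hA in
theorem natDegree_le_of_pure {E : X.Modules} (d : ℕ) (hpure : ShStab.IsPure X E d)
    {F : X.Modules} (i : F ⟶ E) [Mono i] (hF : Coh.IsCoh F) {R : Polynomial ℚ}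
    (hR : ShStab.IsHilbPoly k X L F R) : R.natDegree ≤ d := by
  by_cases hz : IsZero F
  · rw [eq_zero_of_isZero k X L hA F hz hR, Polynomial.natDegree_zero]; exact Nat.zero_le _
  · exact (natDegree_eq_of_dim k X hA F hF hz hR d (hpure F i inferInstance hF hz)).le

include hA in
theorem piece_poly {E : X.Modules} (hE : Coh.IsCoh E) (K : Subobject E)
    (hK : Coh.IsCoh (K : X.Modules)) {P R H : Polynomial ℚ} (hP : ShStab.IsHilbPoly k X L E P)
    (hR : ShStab.IsHilbPoly k X L (K : X.Modules) R)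
    (hH : ShStab.IsHilbPoly k X L (cokernel K.arrow) H) : R = P - H := by
  have hadd := isHilbPoly_add k X L hA.1 (shortExact_coker K.arrow) hK hE
    (isCoh_cokernel K.arrow hK hE) hR hH
  have h1 : P = R + H := isHilbPoly_unique k X L E hP hadd
  rw [h1]; ring

include hA in
theorem quot_top_poly {E : X.Modules} (K : Subobject E) (hK : K = ⊤) {H : Polynomial ℚ}
    (hH : ShStab.IsHilbPoly k X L (cokernel K.arrow) H) : H = 0 := by
  subst hK
  exact eq_zero_of_isZero k X L hA _ (isZero_cokernel_of_epi _) hH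

include hA in
theorem coeff_pred_mono {E : X.Modules} (hE : Coh.IsCoh E) (K' K : Subobject E) (hle : K' ≤ K)
    (hK' : Coh.IsCoh (K' : X.Modules)) (hK : Coh.IsCoh (K : X.Modules)) (d : ℕ)
    (hdim : topologicalKrullDim ↥(CohB1.support (cokernel K'.arrow)) < (d : WithBot ℕ∞))
    {H' H : Polynomial ℚ} (hH' : ShStab.IsHilbPoly k X L (cokernel K'.arrow) H')
    (hH : ShStab.IsHilbPoly k X L (cokernel K.arrow) H) :
    H.coeff (d - 1) ≤ H'.coeff (d - 1) := by
  have hfac : K'.arrow ≫ cokernel.π K.arrow = 0 := by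
    rw [← Subobject.ofLE_arrow hle, Category.assoc, cokernel.condition, comp_zero]
  let q : cokernel K'.arrow ⟶ cokernel K.arrow := cokernel.desc _ (cokernel.π K.arrow) hfac
  haveI : Epi q := by
    have : Epi (cokernel.π K'.arrow ≫ q) := by rw [cokernel.π_desc]; infer_instance
    exact epi_of_epi (cokernel.π K'.arrow) q
  have hc' := isCoh_cokernel K'.arrow hK' hE
  have hc := isCoh_cokernel K.arrow hK hE
  have hN := isCoh_kernel' k X hc' hc q
  obtain ⟨R, hR⟩ := exists_isHilbPoly k X L hA (kernel q) hN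
  have hadd := isHilbPoly_add k X L hA.1 (shortExact_ker q) hN hc' hc hR hH
  have h1 : H' = R + H := isHilbPoly_unique k X L _ hH' hadd
  have hdimN : topologicalKrullDim ↥(CohB1.support (kernel q)) < (d : WithBot ℕ∞) :=
    lt_of_le_of_lt (dim_mono (support_subset_of_mono (kernel.ι q))) hdim
  have h2 := coeff_pred_nonneg_of_dim_lt k X L hA (kernel q) hN d hdimN hR
  rw [h1, Polynomial.coeff_add]; linarith

include k in
theorem isCoh_pullback {W E : X.Modules} (ι : W ⟶ E) [Mono ι] (hW : Coh.IsCoh W)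
    (hE : Coh.IsCoh E) (K : Subobject E) (hK : Coh.IsCoh (K : X.Modules)) :
    Coh.IsCoh (((Subobject.pullback ι).obj K : Subobject W) : X.Modules) := by
  haveI := Curve.isLocallyNoetherian k X
  have hS := shortExact_coker ι
  have e : (((Subobject.pullback ι).obj K : Subobject W) : X.Modules) ≅
      kernel (K.arrow ≫ cokernel.π ι) :=
    IsLimit.conePointUniqueUpToIso
      (isKernelPbπ ι (cokernel.π ι) K (cokernel.condition ι) hS) (limit.isLimit _)
  exact isCoh_of_iso e.symm (isCoh_kernel _ hK (isCoh_cokernel ι hW hE))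

include k in
theorem isCoh_induced {W E : X.Modules} (ι : W ⟶ E) [Mono ι] (hW : Coh.IsCoh W)
    (hE : Coh.IsCoh E) (𝓔 : Str E)
    (hcoh : ∀ j, Coh.IsCoh ((𝓔.pieceX j : Subobject E) : X.Modules)) (j : Fin (𝓔.l + 2)) :
    Coh.IsCoh (((𝓔.induced ι).pieceX j : Subobject W) : X.Modules) := by
  rw [induced_pieceX ι 𝓔 j]
  exact isCoh_pullback k X ι hW hE _ (hcoh j)

/-! ### the package: a coherent module with a filtration whose quotients are small -/

section Package

variable {E : X.Modules} (hE : Coh.IsCoh E) (𝓔 : Str E)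
  (hcoh : ∀ j, Coh.IsCoh ((𝓔.pieceX j : Subobject E) : X.Modules)) (d : ℕ)
  (hq : ∀ j, topologicalKrullDim ↥(CohB1.support (cokernel (𝓔.pieceX j).arrow)) <
    (d : WithBot ℕ∞))
  {P : Polynomial ℚ} (hP : ShStab.IsHilbPoly k X L E P) {PX : Fin (𝓔.l + 2) → Polynomial ℚ}
  (hPX : ∀ j, ShStab.IsHilbPoly k X L ((𝓔.pieceX j : Subobject E) : X.Modules) (PX j))
  {H : Fin (𝓔.l + 2) → Polynomial ℚ}
  (hH : ∀ j, ShStab.IsHilbPoly k X L (cokernel (𝓔.pieceX j).arrow) (H j))

include hA hE hcoh hP hPX hH in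
theorem PX_eq (j : Fin (𝓔.l + 2)) : PX j = P - H j :=
  piece_poly k X L hA hE (𝓔.pieceX j) (hcoh j) hP (hPX j) (hH j)

include hA hH in
theorem H_zero : H 0 = 0 :=
  quot_top_poly k X L hA (𝓔.pieceX 0) (pieceX_zero 𝓔) (hH 0)

include hA hE hcoh in
theorem exists_H : ∃ H : Fin (𝓔.l + 2) → Polynomial ℚ,
    ∀ j, ShStab.IsHilbPoly k X L (cokernel (𝓔.pieceX j).arrow) (H j) := by
  have hcq : ∀ j, Coh.IsCoh (cokernel (𝓔.pieceX j).arrow) :=
    fun j => isCoh_cokernel _ (hcoh j) hE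
  choose H hH using fun j => exists_isHilbPoly k X L hA _ (hcq j)
  exact ⟨H, hH⟩

include hA hE hcoh hq hH in
theorem H_coeff_zero (j : Fin (𝓔.l + 2)) (n : ℕ) (hn : d ≤ n) : (H j).coeff n = 0 :=
  coeff_eq_zero_of_dim_lt k X L hA _ (isCoh_cokernel _ (hcoh j) hE) d (hq j) (hH j) n hn

include hA hE hcoh hq hH in
theorem H_coeff_pred_nonneg (j : Fin (𝓔.l + 2)) : 0 ≤ (H j).coeff (d - 1) :=
  coeff_pred_nonneg_of_dim_lt k X L hA _ (isCoh_cokernel _ (hcoh j) hE) d (hq j) (hH j)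

include hA hE hcoh hq hH in
theorem H_natDegree_le (j : Fin (𝓔.l + 2)) : (H j).natDegree ≤ d - 1 :=
  natDegree_le_pred_of_dim_lt k X L hA _ (isCoh_cokernel _ (hcoh j) hE) d (hq j) (hH j)

include hA hE hcoh hq hH in
theorem H_coeff_pred_mono (j : Fin (𝓔.l + 1)) :
    (H j.castSucc).coeff (d - 1) ≤ (H j.succ).coeff (d - 1) :=
  coeff_pred_mono k X L hA hE (𝓔.pieceX j.succ) (𝓔.pieceX j.castSucc) (pieceX_succ_le 𝓔 j)
    (hcoh j.succ) (hcoh j.castSucc) d (hq j.succ) (hH j.succ) (hH j.castSucc)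

include hA hE hcoh hq hP hPX in
/-- the coefficients of the parabolic polynomial in degrees `≥ d` are those of `P`. -/
theorem parPoly_coeff_ge (n : ℕ) (hn : d ≤ n) :
    (parPoly 𝓔 PX).coeff n = ((P.coeff n : ℚ) : ℝ) := by
  obtain ⟨H, hH⟩ := exists_H k X L hA hE 𝓔 hcoh
  rw [parPoly_coeff_formula 𝓔 PX H P (PX_eq k X L hA hE 𝓔 hcoh hP hPX hH)
    (H_zero k X L hA 𝓔 hH) n]
  have hz : ∀ j : Fin (𝓔.l + 1), (((H j.succ).coeff n : ℚ) : ℝ) = 0 := fun j => by
    rw [H_coeff_zero k X L hA hE 𝓔 hcoh d hq hH j.succ n hn]; simp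
  simp only [hz, mul_zero, Finset.sum_const_zero, sub_zero]

include hA hE hcoh hq hP hPX in
theorem parPoly_natDegree_le (hPd : P.natDegree ≤ d) : (parPoly 𝓔 PX).natDegree ≤ d := by
  rw [Polynomial.natDegree_le_iff_coeff_eq_zero]
  intro n hn
  rw [parPoly_coeff_ge k X L hA hE 𝓔 hcoh d hq hP hPX n hn.le,
    Polynomial.coeff_eq_zero_of_natDegree_lt (lt_of_le_of_lt hPd hn)]
  simp

include hA hE hcoh hq hP hPX in
/-- bounds for the coefficient of degree `d - 1` of the parabolic polynomial. -/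
theorem parPoly_coeff_pred_bounds :
    (((PX (Fin.last (𝓔.l + 1))).coeff (d - 1) : ℚ) : ℝ) ≤ (parPoly 𝓔 PX).coeff (d - 1) ∧
      (parPoly 𝓔 PX).coeff (d - 1) ≤ ((P.coeff (d - 1) : ℚ) : ℝ) := by
  obtain ⟨H, hH⟩ := exists_H k X L hA hE 𝓔 hcoh
  have hPXeq := PX_eq k X L hA hE 𝓔 hcoh hP hPX hH
  constructor
  · rw [parPoly_coeff]
    have hterm : ∀ j : Fin (𝓔.l + 1), 0 ≤ 𝓔.wt j *
        ((((PX j.castSucc).coeff (d - 1) : ℚ) : ℝ) - (((PX j.succ).coeff (d - 1) : ℚ) : ℝ)) := by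
      intro j
      refine mul_nonneg (wt_nonneg' 𝓔 j) ?_
      rw [hPXeq j.castSucc, hPXeq j.succ, Polynomial.coeff_sub, Polynomial.coeff_sub]
      have hm := H_coeff_pred_mono k X L hA hE 𝓔 hcoh d hq hH j
      have hm' : (((H j.castSucc).coeff (d - 1) : ℚ) : ℝ) ≤ (((H j.succ).coeff (d - 1) : ℚ) : ℝ) := by
        exact_mod_cast hm
      push_cast
      linarith
    have := Finset.sum_nonneg fun j (_ : j ∈ Finset.univ) => hterm j
    linarith
  · rw [parPoly_coeff_formula 𝓔 PX H P hPXeq (H_zero k X L hA 𝓔 hH) (d - 1)]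
    have hterm : ∀ j : Fin (𝓔.l + 1), 0 ≤ (𝓔.wtX j.succ - 𝓔.wtX j.castSucc) *
        (((H j.succ).coeff (d - 1) : ℚ) : ℝ) := by
      intro j
      refine mul_nonneg (wtX_diff_nonneg 𝓔 j) ?_
      exact_mod_cast H_coeff_pred_nonneg k X L hA hE 𝓔 hcoh d hq hH j.succ
    have := Finset.sum_nonneg fun j (_ : j ∈ Finset.univ) => hterm j
    linarith

end Package

end Scheme

end Groth.Agent.H9.ParCoeff
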