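import Mathlib
import Groth.Prelude.Def_ParBun
import Groth.Agent.Lib.Helper5.HP.HP4
import Groth.Agent.Lib.Helper9.Misc.ParExtGen

set_option autoImplicit false
set_option linter.style.haveILetI false
set_option linter.unusedSectionVars false
set_option linter.unusedVariables false

universe u

open CategoryTheory CategoryTheory.Limits AlgebraicGeometry

namespace Groth.Agent.H9.ParExt2

open Groth.Agent.H5.HP Groth.Agent.LD Groth.Agent.LD.QC ParSh Groth.Agent.H9.ParExtGen

variable (k : Type u) [Field k] (X : Scheme.{u}) [X.Over (Spec (CommRingCat.of k))]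
  [IsProper (X ↘ Spec (CommRingCat.of k))]

/-- additivity of the Euler characteristic of the twists in a short exact sequence. -/
theorem euler_twist_add (L : X.Modules) (hL : CohB1.IsAmple L) {S : ShortComplex X.Modules}
    (hS : S.ShortExact) (h₁ : Coh.IsCoh S.X₁) (h₂ : Coh.IsCoh S.X₂) (h₃ : Coh.IsCoh S.X₃) (m : ℕ) :
    Curv2.euler k X (ShStab.twist X L S.X₂ m) =
      Curv2.euler k X (ShStab.twist X L S.X₁ m) + Curv2.euler k X (ShStab.twist X L S.X₃ m) := by
  obtain ⟨P₁, hP₁⟩ := exists_isHilbPoly k X L hL S.X₁ h₁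
  obtain ⟨P₃, hP₃⟩ := exists_isHilbPoly k X L hL S.X₃ h₃
  have h := isHilbPoly_add k X L hL.1 hS h₁ h₂ h₃ hP₁ hP₃ m
  rw [Polynomial.eval_add, ← hP₁ m, ← hP₃ m] at h
  exact_mod_cast h

theorem s18524 (L : X.Modules) (hL : CohB1.IsAmple L) {F E G : X.Modules}
    (hF : Coh.IsCoh F) (hE : Coh.IsCoh E) (hG : Coh.IsCoh G)
    (i : F ⟶ E) (p : E ⟶ G) [Epi p] (𝓕 : ParSh.Str F) (𝓔 : ParSh.Str E) (𝓖 : ParSh.Str G)
    (hext : ParSh.IsParExt i p 𝓕 𝓔 𝓖)
    (hcoh : ∀ j, Coh.IsCoh ((𝓔.piece j : Subobject E) : X.Modules))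
    (hbot : Coh.IsCoh ((𝓔.bot : Subobject E) : X.Modules)) (m : ℕ) :
    𝓕.parHilb k X L m + 𝓖.parHilb k X L m = 𝓔.parHilb k X L m := by
  obtain ⟨w, hS, rfl, rfl⟩ := hext
  unfold Str.parHilb
  apply parSum_add i p 𝓔
  intro j
  have hK : Coh.IsCoh ((𝓔.pieceX j : Subobject E) : X.Modules) := by
    induction j using Fin.lastCases with
    | last => rw [𝓔.pieceX_last]; exact hbot
    | cast j => rw [𝓔.pieceX_castSucc]; exact hcoh j
  have hSE := shortExact_pb i p (𝓔.pieceX j) w hS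
  haveI := Curve.isLocallyNoetherian k X
  have hA : Coh.IsCoh (((Subobject.pullback i).obj (𝓔.pieceX j) : Subobject F) : X.Modules) := by
    have e : (((Subobject.pullback i).obj (𝓔.pieceX j) : Subobject F) : X.Modules) ≅
        kernel ((𝓔.pieceX j).arrow ≫ p) :=
      IsLimit.conePointUniqueUpToIso (isKernelPbπ i p (𝓔.pieceX j) w hS) (limit.isLimit _)
    exact isCoh_of_iso e.symm (isCoh_kernel _ hK hG)
  have hB : Coh.IsCoh ((imageSubobject ((𝓔.pieceX j).arrow ≫ p) : Subobject G) : X.Modules) := by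
    have e : cokernel (Subobject.pullbackπ i (𝓔.pieceX j)) ≅
        ((imageSubobject ((𝓔.pieceX j).arrow ≫ p) : Subobject G) : X.Modules) :=
      IsColimit.coconePointUniqueUpToIso (cokernelIsCokernel _) hSE.gIsCokernel
    exact isCoh_of_iso e (isCoh_cokernel _ hA hK)
  have h := euler_twist_add k X L hL hSE hA hK hB m
  have h' := congrArg (fun z : ℤ => (z : ℝ)) h
  simp only [Int.cast_add] at h'
  exact h'.symm

end Groth.Agent.H9.ParExt2
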