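import Mathlib
import Groth.Prelude.Def_ParBun
import Groth.Agent.Lib.Helper5.HP.HP4

set_option autoImplicit false
set_option linter.style.haveILetI false
set_option linter.unusedSectionVars false
set_option linter.unusedVariables false

universe v u

open CategoryTheory CategoryTheory.Limits AlgebraicGeometry

namespace Groth.Agent.H9.ParHilb

open Groth.Agent.H5.HP Groth.Agent.LD.QC ParSh

section Generic

variable {C : Type u} [Category.{v} C] {E : C}

theorem tele {n : ℕ} (g : Fin (n + 1) → ℝ) :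
    ∑ j : Fin n, (g j.succ - g j.castSucc) = g (Fin.last n) - g 0 := by
  rw [Finset.sum_sub_distrib]
  have h1 := Fin.sum_univ_succ g
  have h2 := Fin.sum_univ_castSucc g
  linarith

theorem parSum_eq (𝓔 : Str E) (f : C → ℝ) :
    𝓔.parSum f = f (𝓔.pieceX (Fin.last (𝓔.l + 1)) : C) +
      ∑ j : Fin (𝓔.l + 1), 𝓔.wtX j.castSucc *
        (f (𝓔.pieceX j.castSucc : C) - f (𝓔.pieceX j.succ : C)) := by
  unfold Str.parSum
  simp only [Str.pieceX_last, Str.pieceX_castSucc, Str.wtX_castSucc]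

/-- the abstract summation by parts behind the parabolic Hilbert function. -/
theorem parSum_formula (𝓔 : Str E) (f : C → ℝ) (p : ℝ) (h : Fin (𝓔.l + 2) → ℝ)
    (hf : ∀ j, f (𝓔.pieceX j : C) = p - h j) (h0 : h 0 = 0) :
    𝓔.parSum f = p - ∑ j : Fin (𝓔.l + 1), (𝓔.wtX j.succ - 𝓔.wtX j.castSucc) * h j.succ := by
  rw [parSum_eq]
  simp only [hf]
  have ht := tele (fun j : Fin (𝓔.l + 1 + 1) => 𝓔.wtX j * h j)
  simp only [h0, mul_zero, sub_zero, Str.wtX_last, one_mul] at ht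
  have key : ∑ j : Fin (𝓔.l + 1), 𝓔.wtX j.castSucc * (p - h j.castSucc - (p - h j.succ)) +
      ∑ j : Fin (𝓔.l + 1), (𝓔.wtX j.succ - 𝓔.wtX j.castSucc) * h j.succ =
      ∑ j : Fin (𝓔.l + 1), (𝓔.wtX j.succ * h j.succ - 𝓔.wtX j.castSucc * h j.castSucc) := by
    rw [← Finset.sum_add_distrib]
    refine Finset.sum_congr rfl fun j _ => ?_
    ring
  linarith

end Generic

variable (k : Type u) [Field k] (X : Scheme.{u}) [X.Over (Spec (CommRingCat.of k))]
  [IsProper (X ↘ Spec (CommRingCat.of k))]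

/-- `χ(K(m)) = P(m) − H(m)` for a coherent subobject `K` of `E` with quotient polynomial `H`. -/
theorem euler_sub (L : X.Modules) (hL : CohB1.IsAmple L) {E : X.Modules} (hE : Coh.IsCoh E)
    (K : Subobject E) (hK : Coh.IsCoh (K : X.Modules)) {P H : Polynomial ℚ}
    (hP : ShStab.IsHilbPoly k X L E P) (hH : ShStab.IsHilbPoly k X L (cokernel K.arrow) H) (m : ℕ) :
    (Curv2.euler k X (ShStab.twist X L (K : X.Modules) m) : ℚ) =
      P.eval (m : ℚ) - H.eval (m : ℚ) := by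
  obtain ⟨Q, hQ⟩ := exists_isHilbPoly k X L hL (K : X.Modules) hK
  have hadd := isHilbPoly_add k X L hL.1 (shortExact_coker K.arrow) hK hE
    (isCoh_cokernel K.arrow hK hE) hQ hH
  have h1 := isHilbPoly_unique k X L E hP hadd
  rw [hQ m, h1, Polynomial.eval_add]; ring

theorem s18526 (L : X.Modules) (hL : CohB1.IsAmple L) (E : X.Modules) (hE : Coh.IsCoh E)
    (𝓔 : ParSh.Str E)
    (hcoh : ∀ j, Coh.IsCoh ((𝓔.pieceX j : Subobject E) : X.Modules))
    (P : Polynomial ℚ) (hP : ShStab.IsHilbPoly k X L E P) (H : Fin (𝓔.l + 2) → Polynomial ℚ)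
    (hH : ∀ j, ShStab.IsHilbPoly k X L (cokernel (𝓔.pieceX j).arrow) (H j)) (m : ℕ) :
    𝓔.parHilb k X L m =
      ((P.eval (m : ℚ) : ℚ) : ℝ) -
        ∑ j : Fin (𝓔.l + 1), (𝓔.wtX j.succ - 𝓔.wtX j.castSucc) *
          (((H j.succ).eval (m : ℚ) : ℚ) : ℝ) := by
  unfold Str.parHilb
  have hf : ∀ j : Fin (𝓔.l + 2),
      (fun G : X.Modules => (Curv2.euler k X (ShStab.twist X L G m) : ℝ)) (𝓔.pieceX j : X.Modules) =
        ((P.eval (m : ℚ) : ℚ) : ℝ) - (((H j).eval (m : ℚ) : ℚ) : ℝ) := by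
    intro j
    have h1 := euler_sub k X L hL hE (𝓔.pieceX j) (hcoh j) hP (hH j) m
    have h2 := congrArg (fun q : ℚ => (q : ℝ)) h1
    simp only [Rat.cast_intCast, Rat.cast_sub] at h2
    exact h2
  have htop : 𝓔.pieceX 0 = ⊤ := by
    have h1 := 𝓔.pieceX_castSucc 0
    rw [Fin.castSucc_zero] at h1
    rw [h1, 𝓔.piece_zero]
  have h0 : (((H 0).eval (m : ℚ) : ℚ) : ℝ) = 0 := by
    have h1 := euler_sub k X L hL hE (𝓔.pieceX 0) (hcoh 0) hP (hH 0) m
    have h2 : ShStab.IsHilbPoly k X L ((𝓔.pieceX 0 : Subobject E) : X.Modules) P := by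
      rw [htop]
      exact isHilbPoly_of_iso k X L (asIso (⊤ : Subobject E).arrow).symm hP
    rw [h2 m] at h1
    have h3 : (H 0).eval (m : ℚ) = 0 := by linarith
    rw [h3]; simp
  exact parSum_formula 𝓔 _ _ (fun j => (((H j).eval (m : ℚ) : ℚ) : ℝ)) hf h0

end Groth.Agent.H9.ParHilb
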