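import Mathlib

set_option autoImplicit false
set_option linter.style.haveILetI false
set_option linter.unusedSectionVars false
set_option linter.unusedVariables false

namespace Groth.Agent.H9.PolyLim

open Polynomial Filter Topology

/-- the quotient of two real polynomials of degree at most `e`, the denominator having nonzero
coefficient in degree `e`, tends to the quotient of the coefficients of degree `e`. -/
theorem tendsto_div_real (A B : ℝ[X]) (e : ℕ) (hA : A.natDegree ≤ e) (hB : B.natDegree ≤ e)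
    (hBc : B.coeff e ≠ 0) :
    Tendsto (fun x : ℝ => A.eval x / B.eval x) atTop (𝓝 (A.coeff e / B.coeff e)) := by
  have hBn : B.natDegree = e := Polynomial.natDegree_eq_of_le_of_coeff_ne_zero hB hBc
  have hB0 : B ≠ 0 := by rintro rfl; simp at hBc
  have hBdeg : B.degree = (e : WithBot ℕ) := by rw [Polynomial.degree_eq_natDegree hB0, hBn]
  have hBl : B.leadingCoeff = B.coeff e := by rw [Polynomial.leadingCoeff, hBn]
  by_cases hAc : A.coeff e = 0
  · have hlt : A.degree < B.degree := by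
      rw [hBdeg, Polynomial.degree_lt_iff_coeff_zero]
      intro m hm
      rcases Nat.eq_or_lt_of_le hm with h | h
      · rw [← h]; exact hAc
      · exact Polynomial.coeff_eq_zero_of_natDegree_lt (lt_of_le_of_lt hA h)
    have := Polynomial.div_tendsto_atTop_zero_of_degree_lt A B hlt
    rw [hAc, zero_div]; exact this
  · have hAn : A.natDegree = e := Polynomial.natDegree_eq_of_le_of_coeff_ne_zero hA hAc
    have hA0 : A ≠ 0 := by rintro rfl; simp at hAc
    have hdeg : A.degree = B.degree := by rw [hBdeg, Polynomial.degree_eq_natDegree hA0, hAn]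
    have := Polynomial.div_tendsto_atTop_leadingCoeff_div_of_degree_eq A B hdeg
    rw [hBl, Polynomial.leadingCoeff, hAn] at this
    exact this

/-- rational polynomials, evaluated at natural numbers. -/
theorem tendsto_ratio (A B : ℚ[X]) (e : ℕ) (hA : A.natDegree ≤ e) (hB : B.natDegree ≤ e)
    (hBc : B.coeff e ≠ 0) :
    Tendsto (fun n : ℕ => (((A.eval (n : ℚ) / B.eval (n : ℚ) : ℚ)) : ℝ)) atTop
      (𝓝 (((A.coeff e / B.coeff e : ℚ)) : ℝ)) := by
  have hBc' : (B.map (Rat.castHom ℝ)).coeff e ≠ 0 := by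
    rw [Polynomial.coeff_map, eq_ratCast]
    exact_mod_cast hBc
  have h := (tendsto_div_real (A.map (Rat.castHom ℝ)) (B.map (Rat.castHom ℝ)) e
    (le_trans Polynomial.natDegree_map_le hA) (le_trans Polynomial.natDegree_map_le hB)
    hBc').comp tendsto_natCast_atTop_atTop
  have hfun : ((fun x : ℝ => (A.map (Rat.castHom ℝ)).eval x / (B.map (Rat.castHom ℝ)).eval x) ∘
      (Nat.cast : ℕ → ℝ)) = fun n : ℕ => (((A.eval (n : ℚ) / B.eval (n : ℚ) : ℚ)) : ℝ) := by
    funext n
    simp only [Function.comp_apply, Polynomial.eval_natCast_map, eq_ratCast, Rat.cast_div]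
  rw [hfun] at h
  simpa only [Polynomial.coeff_map, eq_ratCast, Rat.cast_div] using h

/-- a rational polynomial of degree at most `e` divided by `n ^ e`. -/
theorem tendsto_div_pow (A : ℚ[X]) (e : ℕ) (hA : A.natDegree ≤ e) :
    Tendsto (fun n : ℕ => ((A.eval (n : ℚ) : ℚ) : ℝ) / (n : ℝ) ^ e) atTop
      (𝓝 ((A.coeff e : ℚ) : ℝ)) := by
  have h := tendsto_ratio A (X ^ e) e hA (by rw [Polynomial.natDegree_X_pow])
    (by rw [Polynomial.coeff_X_pow_self]; exact one_ne_zero)
  rw [Polynomial.coeff_X_pow_self, div_one] at h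
  refine h.congr fun n => ?_
  simp only [Polynomial.eval_pow, Polynomial.eval_X]
  push_cast
  rfl

theorem le_of_eventually (f a b : ℕ → ℝ) (c fl pd qd : ℝ) (d : ℕ)
    (hf : Tendsto f atTop (𝓝 fl))
    (ha : Tendsto (fun n : ℕ => a n / (n : ℝ) ^ d) atTop (𝓝 pd))
    (hb : Tendsto (fun n : ℕ => b n / (n : ℝ) ^ d) atTop (𝓝 qd))
    (h : ∃ N : ℕ, ∀ n : ℕ, N ≤ n → f n * a n ≤ c * b n) : fl * pd ≤ c * qd := by
  obtain ⟨N, hN⟩ := h
  refine le_of_tendsto_of_tendsto (hf.mul ha) (hb.const_mul c) ?_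
  filter_upwards [Filter.eventually_ge_atTop (max N 1)] with n hn
  have hn0 : (0 : ℝ) < (n : ℝ) := by
    exact_mod_cast lt_of_lt_of_le Nat.zero_lt_one (le_trans (le_max_right _ _) hn)
  have hn1 : (0 : ℝ) < (n : ℝ) ^ d := by positivity
  have h1 := hN n (le_trans (le_max_left _ _) hn)
  rw [← mul_div_assoc, ← mul_div_assoc]
  exact div_le_div_of_nonneg_right h1 hn1.le

theorem eventually_lt_of (f a b : ℕ → ℝ) (c fl pd qd : ℝ) (d : ℕ)
    (hf : Tendsto f atTop (𝓝 fl))
    (ha : Tendsto (fun n : ℕ => a n / (n : ℝ) ^ d) atTop (𝓝 pd))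
    (hb : Tendsto (fun n : ℕ => b n / (n : ℝ) ^ d) atTop (𝓝 qd))
    (h : fl * pd < c * qd) : ∃ N : ℕ, ∀ n : ℕ, N ≤ n → f n * a n < c * b n := by
  have hev := (hf.mul ha).eventually_lt (hb.const_mul c) h
  have hev2 := hev.and (Filter.eventually_ge_atTop 1)
  obtain ⟨N, hN⟩ := Filter.eventually_atTop.mp hev2
  refine ⟨N, fun n hn => ?_⟩
  obtain ⟨h1, h2⟩ := hN n hn
  have hn0 : (0 : ℝ) < (n : ℝ) := by exact_mod_cast h2
  have hn1 : (0 : ℝ) < (n : ℝ) ^ d := by positivity
  rw [← mul_div_assoc, ← mul_div_assoc] at h1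
  exact (div_lt_div_iff_of_pos_right hn1).mp h1

end Groth.Agent.H9.PolyLim
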