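import Mathlib
import Groth.Agent.Lib.Helper9.Misc.ParCoeff
import Groth.Agent.Lib.Helper9.Misc.PolyLim

set_option autoImplicit false
set_option linter.style.haveILetI false
set_option linter.unusedSectionVars false
set_option linter.unusedVariables false

universe u

open CategoryTheory CategoryTheory.Limits AlgebraicGeometry

namespace Groth.Agent.H9.ParRows

open Groth.Agent.H5.HP Groth.Agent.LD Groth.Agent.LD.QC ParSh
  Groth.Agent.H9.ParCoeff W4swparbununimod Filter Topology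

variable (k : Type u) [Field k] (X : Scheme.{u}) [X.Over (Spec (CommRingCat.of k))]
  [IsProper (X ↘ Spec (CommRingCat.of k))]

theorem rpoly_coeff (P : Polynomial ℚ) (n : ℕ) : (rpoly P).coeff n = ((P.coeff n : ℚ) : ℝ) := by
  simp only [rpoly, Polynomial.coeff_map, eq_ratCast]

theorem s18525 (L : X.Modules) (hL : CohB1.IsAmple L) (I : X.IdealSheafData)
    (E : X.Modules) (hE : Coh.IsCoh E) (𝓔 : ParSh.Str E) (h𝓔 : 𝓔.Along I)
    (hcoh : ∀ j, Coh.IsCoh ((𝓔.pieceX j : Subobject E) : X.Modules)) (d : ℕ)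
    (hsupp : topologicalKrullDim ↥(CohB1.support E ∩ (I.support : Set X)) < (d : WithBot ℕ∞))
    (P : Polynomial ℚ) (hP : ShStab.IsHilbPoly k X L E P) (PX : Fin (𝓔.l + 2) → Polynomial ℚ)
    (hPX : ∀ j, ShStab.IsHilbPoly k X L ((𝓔.pieceX j : Subobject E) : X.Modules) (PX j))
    (n : ℕ) (hn : d ≤ n) :
    (W4swparbununimod.parPoly 𝓔 PX).coeff n = (W4swparbununimod.rpoly P).coeff n := by
  rw [parPoly_coeff_ge k X L hL hE 𝓔 hcoh d (dim_coker_lt I 𝓔 h𝓔 d hsupp) hP hPX n hn,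
    rpoly_coeff]

theorem s18527 (L : X.Modules) (hL : CohB1.IsAmple L) (I : X.IdealSheafData)
    (E : X.Modules) (hE : Coh.IsCoh E) (𝓔 : ParSh.Str E) (h𝓔 : 𝓔.Along I)
    (hcoh : ∀ j, Coh.IsCoh ((𝓔.pieceX j : Subobject E) : X.Modules)) (d : ℕ)
    (hsupp : topologicalKrullDim ↥(CohB1.support E ∩ (I.support : Set X)) < (d : WithBot ℕ∞))
    (P : Polynomial ℚ) (hP : ShStab.IsHilbPoly k X L E P) (PX : Fin (𝓔.l + 2) → Polynomial ℚ)
    (hPX : ∀ j, ShStab.IsHilbPoly k X L ((𝓔.pieceX j : Subobject E) : X.Modules) (PX j)) :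
    (W4swparbununimod.rpoly (PX (Fin.last (𝓔.l + 1)))).coeff (d - 1) ≤
        (W4swparbununimod.parPoly 𝓔 PX).coeff (d - 1) ∧
      (W4swparbununimod.parPoly 𝓔 PX).coeff (d - 1) ≤ (W4swparbununimod.rpoly P).coeff (d - 1) := by
  have h := parPoly_coeff_pred_bounds k X L hL hE 𝓔 hcoh d (dim_coker_lt I 𝓔 h𝓔 d hsupp) hP hPX
  rw [rpoly_coeff, rpoly_coeff]
  exact h

theorem s18530 (L : X.Modules) (hL : CohB1.IsAmple L) (I : X.IdealSheafData)
    (E : X.Modules) (hE : Coh.IsCoh E) (𝓔 : ParSh.Str E) (h𝓔 : 𝓔.Along I)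
    (hcoh : ∀ j, Coh.IsCoh ((𝓔.pieceX j : Subobject E) : X.Modules)) (d : ℕ)
    (hsupp : topologicalKrullDim ↥(CohB1.support E ∩ (I.support : Set X)) < (d : WithBot ℕ∞))
    (H : Fin (𝓔.l + 2) → Polynomial ℚ)
    (hH : ∀ j, ShStab.IsHilbPoly k X L (cokernel (𝓔.pieceX j).arrow) (H j))
    (hHa : ∀ j : Fin (𝓔.l + 1), StabCat.alpha (d - 1) (H j.succ) ≠ 0)
    {W : X.Modules} (ι : W ⟶ E) [Mono ι] (hW : Coh.IsCoh W)
    (Q : Polynomial ℚ) (hQ : ShStab.IsHilbPoly k X L W Q) (QX : Fin (𝓔.l + 2) → Polynomial ℚ)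
    (hQX : ∀ j, ShStab.IsHilbPoly k X L
      (((𝓔.induced ι).pieceX j : Subobject W) : X.Modules) (QX j))
    (QH : Fin (𝓔.l + 2) → Polynomial ℚ)
    (hQH : ∀ j, ShStab.IsHilbPoly k X L (cokernel ((𝓔.induced ι).pieceX j).arrow) (QH j)) :
    (W4swparbununimod.parPolyOne 𝓔 d Q QH H).coeff d =
        (W4swparbununimod.parPoly (𝓔.induced ι) QX).coeff d ∧
      (W4swparbununimod.parPolyOne 𝓔 d Q QH H).coeff (d - 1) =
        (W4swparbununimod.parPoly (𝓔.induced ι) QX).coeff (d - 1) := by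
  have hq := dim_coker_lt I 𝓔 h𝓔 d hsupp
  have hcW := isCoh_induced k X ι hW hE 𝓔 hcoh
  have hqW := dim_coker_induced_lt ι 𝓔 d hq
  have hQXeq := PX_eq k X L hL hW (𝓔.induced ι) hcW hQ hQX hQH
  have hQH0 := H_zero k X L hL (𝓔.induced ι) hQH
  have hWf : ∀ n, (parPoly (𝓔.induced ι) QX).coeff n = ((Q.coeff n : ℚ) : ℝ) -
      ∑ j : Fin (𝓔.l + 1), (𝓔.wtX j.succ - 𝓔.wtX j.castSucc) *
        (((QH j.succ).coeff n : ℚ) : ℝ) :=
    fun n => parPoly_coeff_formula (𝓔.induced ι) QX QH Q hQXeq hQH0 n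
  constructor
  · rw [hWf d, parPolyOne_coeff]
    have h1 : ∀ j : Fin (𝓔.l + 1), (((H j.succ).coeff d : ℚ) : ℝ) = 0 := fun j => by
      rw [H_coeff_zero k X L hL hE 𝓔 hcoh d hq hH j.succ d le_rfl]; simp
    have h2 : ∀ j : Fin (𝓔.l + 1), (((QH j.succ).coeff d : ℚ) : ℝ) = 0 := fun j => by
      rw [H_coeff_zero k X L hL hW (𝓔.induced ι) hcW d hqW hQH j.succ d le_rfl]; simp
    simp only [h1, h2, mul_zero, Finset.sum_const_zero]
  · rw [hWf (d - 1), parPolyOne_coeff]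
    congr 1
    refine Finset.sum_congr rfl fun j _ => ?_
    have hf : ((d - 1).factorial : ℚ) ≠ 0 := by
      exact_mod_cast (Nat.factorial_pos (d - 1)).ne'
    have hb : (H j.succ).coeff (d - 1) ≠ 0 := by
      have := hHa j
      unfold StabCat.alpha at this
      exact right_ne_zero_of_mul this
    have hr : StabCat.alpha (d - 1) (QH j.succ) / StabCat.alpha (d - 1) (H j.succ) *
        (H j.succ).coeff (d - 1) = (QH j.succ).coeff (d - 1) := by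
      unfold StabCat.alpha
      field_simp
    have hr' := congrArg (fun q : ℚ => (q : ℝ)) hr
    simp only [Rat.cast_mul] at hr'
    rw [mul_assoc, hr']

theorem s18528 (L : X.Modules) (hL : CohB1.IsAmple L) (I : X.IdealSheafData)
    (E : X.Modules) (hE : Coh.IsCoh E) (d : ℕ) (hd : 1 ≤ d)
    (hpure : ShStab.IsPure X E d) (𝓔 : ParSh.Str E) (h𝓔 : 𝓔.Along I)
    (hcoh : ∀ j, Coh.IsCoh ((𝓔.pieceX j : Subobject E) : X.Modules))
    (hsupp : topologicalKrullDim ↥(CohB1.support E ∩ (I.support : Set X)) < (d : WithBot ℕ∞))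
    (P : Polynomial ℚ) (hP : ShStab.IsHilbPoly k X L E P) (PX : Fin (𝓔.l + 2) → Polynomial ℚ)
    (hPX : ∀ j, ShStab.IsHilbPoly k X L ((𝓔.pieceX j : Subobject E) : X.Modules) (PX j))
    {W : X.Modules} (ι : W ⟶ E) [Mono ι] (hW : Coh.IsCoh W)
    (Q : Polynomial ℚ) (hQ : ShStab.IsHilbPoly k X L W Q) (QX : Fin (𝓔.l + 2) → Polynomial ℚ)
    (hQX : ∀ j, ShStab.IsHilbPoly k X L
      (((𝓔.induced ι).pieceX j : Subobject W) : X.Modules) (QX j)) :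
    ((∃ M : ℕ, ∀ m : ℕ, M ≤ m →
        (W4swparbununimod.parPoly (𝓔.induced ι) QX).eval (m : ℝ) * (StabCat.alpha d P : ℝ) ≤
          (W4swparbununimod.parPoly 𝓔 PX).eval (m : ℝ) * (StabCat.alpha d Q : ℝ)) →
      (W4swparbununimod.parPoly (𝓔.induced ι) QX).coeff (d - 1) * (StabCat.alpha d P : ℝ) ≤
        (W4swparbununimod.parPoly 𝓔 PX).coeff (d - 1) * (StabCat.alpha d Q : ℝ)) ∧
    ((W4swparbununimod.parPoly (𝓔.induced ι) QX).coeff (d - 1) * (StabCat.alpha d P : ℝ) <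
        (W4swparbununimod.parPoly 𝓔 PX).coeff (d - 1) * (StabCat.alpha d Q : ℝ) →
      ∃ M : ℕ, ∀ m : ℕ, M ≤ m →
        (W4swparbununimod.parPoly (𝓔.induced ι) QX).eval (m : ℝ) * (StabCat.alpha d P : ℝ) <
          (W4swparbununimod.parPoly 𝓔 PX).eval (m : ℝ) * (StabCat.alpha d Q : ℝ)) := by
  have hq := dim_coker_lt I 𝓔 h𝓔 d hsupp
  have hcW := isCoh_induced k X ι hW hE 𝓔 hcoh
  have hqW := dim_coker_induced_lt ι 𝓔 d hq
  have hPd : P.natDegree ≤ d := natDegree_le_of_pure k X L hL d hpure (𝟙 E) hE hP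
  have hQd : Q.natDegree ≤ d := natDegree_le_of_pure k X L hL d hpure ι hW hQ
  have hA1 := parPoly_natDegree_le k X L hL hW (𝓔.induced ι) hcW d hqW hQ hQX hQd
  have hB1 := parPoly_natDegree_le k X L hL hE 𝓔 hcoh d hq hP hPX hPd
  have hA2 := parPoly_coeff_ge k X L hL hW (𝓔.induced ι) hcW d hqW hQ hQX d le_rfl
  have hB2 := parPoly_coeff_ge k X L hL hE 𝓔 hcoh d hq hP hPX d le_rfl
  have hcmp := PolyAsymp.compare
    (parPoly (𝓔.induced ι) QX * Polynomial.C ((StabCat.alpha d P : ℚ) : ℝ))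
    (parPoly 𝓔 PX * Polynomial.C ((StabCat.alpha d Q : ℚ) : ℝ)) (d - 1)
    (by rw [Nat.sub_add_cancel hd]; exact le_trans (Polynomial.natDegree_mul_C_le _ _) hA1)
    (by rw [Nat.sub_add_cancel hd]; exact le_trans (Polynomial.natDegree_mul_C_le _ _) hB1)
    (by
      rw [Nat.sub_add_cancel hd, Polynomial.coeff_mul_C, Polynomial.coeff_mul_C, hA2, hB2]
      unfold StabCat.alpha
      push_cast
      ring)
  simp only [Polynomial.eval_mul, Polynomial.eval_C, Polynomial.coeff_mul_C] at hcmp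
  exact hcmp

theorem s18532 (L : X.Modules) (hL : CohB1.IsAmple L) (I : X.IdealSheafData)
    (E : X.Modules) (hE : Coh.IsCoh E) (𝓔 : ParSh.Str E) (h𝓔 : 𝓔.Along I)
    (hcoh : ∀ j, Coh.IsCoh ((𝓔.pieceX j : Subobject E) : X.Modules)) (d : ℕ) (hd : 1 ≤ d)
    (hsupp : topologicalKrullDim ↥(CohB1.support E ∩ (I.support : Set X)) < (d : WithBot ℕ∞))
    (hpure : ShStab.IsPure X E d)
    (P : Polynomial ℚ) (hP : ShStab.IsHilbPoly k X L E P) (PX : Fin (𝓔.l + 2) → Polynomial ℚ)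
    (H : Fin (𝓔.l + 2) → Polynomial ℚ)
    (hH : ∀ j, ShStab.IsHilbPoly k X L (cokernel (𝓔.pieceX j).arrow) (H j))
    (hHa : ∀ j : Fin (𝓔.l + 1), StabCat.alpha (d - 1) (H j.succ) ≠ 0)
    {W : X.Modules} (ι : W ⟶ E) [Mono ι] (hW : Coh.IsCoh W)
    (Q : Polynomial ℚ) (hQ : ShStab.IsHilbPoly k X L W Q) (QH : Fin (𝓔.l + 2) → Polynomial ℚ)
    (hQH : ∀ j, ShStab.IsHilbPoly k X L (cokernel ((𝓔.induced ι).pieceX j).arrow) (QH j)) :
    ((∃ M : ℕ, ∀ m : ℕ, M ≤ m → ∃ N : ℕ, ∀ n : ℕ, N ≤ n →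
        (((Q.eval (m : ℚ) : ℚ) : ℝ) -
            ∑ j : Fin (𝓔.l + 1), (𝓔.wtX j.succ - 𝓔.wtX j.castSucc) *
              ((((QH j.succ).eval (n : ℚ) / (H j.succ).eval (n : ℚ) : ℚ) : ℝ) *
                (((H j.succ).eval (m : ℚ) : ℚ) : ℝ))) *
          ((P.eval (n : ℚ) : ℚ) : ℝ) ≤
        (W4swparbununimod.parPoly 𝓔 PX).eval (m : ℝ) * ((Q.eval (n : ℚ) : ℚ) : ℝ)) →
      ∃ M : ℕ, ∀ m : ℕ, M ≤ m →
        (W4swparbununimod.parPolyOne 𝓔 d Q QH H).eval (m : ℝ) * (StabCat.alpha d P : ℝ) ≤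
          (W4swparbununimod.parPoly 𝓔 PX).eval (m : ℝ) * (StabCat.alpha d Q : ℝ)) ∧
    ((∃ M : ℕ, ∀ m : ℕ, M ≤ m →
        (W4swparbununimod.parPolyOne 𝓔 d Q QH H).eval (m : ℝ) * (StabCat.alpha d P : ℝ) <
          (W4swparbununimod.parPoly 𝓔 PX).eval (m : ℝ) * (StabCat.alpha d Q : ℝ)) →
      ∃ M : ℕ, ∀ m : ℕ, M ≤ m → ∃ N : ℕ, ∀ n : ℕ, N ≤ n →
        (((Q.eval (m : ℚ) : ℚ) : ℝ) -
            ∑ j : Fin (𝓔.l + 1), (𝓔.wtX j.succ - 𝓔.wtX j.castSucc) *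
              ((((QH j.succ).eval (n : ℚ) / (H j.succ).eval (n : ℚ) : ℚ) : ℝ) *
                (((H j.succ).eval (m : ℚ) : ℚ) : ℝ))) *
          ((P.eval (n : ℚ) : ℚ) : ℝ) <
        (W4swparbununimod.parPoly 𝓔 PX).eval (m : ℝ) * ((Q.eval (n : ℚ) : ℚ) : ℝ)) := by
  have hq := dim_coker_lt I 𝓔 h𝓔 d hsupp
  have hcW := isCoh_induced k X ι hW hE 𝓔 hcoh
  have hqW := dim_coker_induced_lt ι 𝓔 d hq
  have hPd : P.natDegree ≤ d := natDegree_le_of_pure k X L hL d hpure (𝟙 E) hE hP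
  have hQd : Q.natDegree ≤ d := natDegree_le_of_pure k X L hL d hpure ι hW hQ
  have hHd : ∀ j, (H j).natDegree ≤ d - 1 := H_natDegree_le k X L hL hE 𝓔 hcoh d hq hH
  have hQHd : ∀ j : Fin (𝓔.l + 2), (QH j).natDegree ≤ d - 1 :=
    fun j => H_natDegree_le k X L hL hW (𝓔.induced ι) hcW d hqW hQH j
  have hHc : ∀ j : Fin (𝓔.l + 1), (H j.succ).coeff (d - 1) ≠ 0 := fun j => by
    have := hHa j
    unfold StabCat.alpha at this
    exact right_ne_zero_of_mul this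
  have hfac : ((d - 1).factorial : ℚ) ≠ 0 := by
    exact_mod_cast (Nat.factorial_pos (d - 1)).ne'
  have hratio : ∀ j : Fin (𝓔.l + 1),
      StabCat.alpha (d - 1) (QH j.succ) / StabCat.alpha (d - 1) (H j.succ) =
        (QH j.succ).coeff (d - 1) / (H j.succ).coeff (d - 1) := fun j => by
    unfold StabCat.alpha
    exact mul_div_mul_left _ _ hfac
  have hlim : ∀ m : ℕ, Tendsto (fun n : ℕ => ((Q.eval (m : ℚ) : ℚ) : ℝ) -
      ∑ j : Fin (𝓔.l + 1), (𝓔.wtX j.succ - 𝓔.wtX j.castSucc) *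
        ((((QH j.succ).eval (n : ℚ) / (H j.succ).eval (n : ℚ) : ℚ) : ℝ) *
          (((H j.succ).eval (m : ℚ) : ℚ) : ℝ))) atTop
      (𝓝 ((parPolyOne 𝓔 d Q QH H).eval (m : ℝ))) := by
    intro m
    rw [parPolyOne_eval]
    refine tendsto_const_nhds.sub (tendsto_finsetSum _ fun j _ => ?_)
    have h1 := PolyLim.tendsto_ratio (QH j.succ) (H j.succ) (d - 1) (hQHd j.succ) (hHd j.succ)
      (hHc j)
    rw [hratio j, mul_assoc]
    exact (h1.mul_const _).const_mul _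
  have hfd : (0 : ℝ) < (d.factorial : ℝ) := by exact_mod_cast Nat.factorial_pos d
  have hαP : ((StabCat.alpha d P : ℚ) : ℝ) = (d.factorial : ℝ) * ((P.coeff d : ℚ) : ℝ) := by
    unfold StabCat.alpha; push_cast; rfl
  have hαQ : ((StabCat.alpha d Q : ℚ) : ℝ) = (d.factorial : ℝ) * ((Q.coeff d : ℚ) : ℝ) := by
    unfold StabCat.alpha; push_cast; rfl
  constructor
  · rintro ⟨M, hM⟩
    refine ⟨M, fun m hm => ?_⟩
    obtain ⟨N, hN⟩ := hM m hm
    have hle := PolyLim.le_of_eventually _ (fun n : ℕ => ((P.eval (n : ℚ) : ℚ) : ℝ))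
      (fun n : ℕ => ((Q.eval (n : ℚ) : ℚ) : ℝ)) ((parPoly 𝓔 PX).eval (m : ℝ)) _ _ _ d (hlim m)
      (PolyLim.tendsto_div_pow P d hPd) (PolyLim.tendsto_div_pow Q d hQd) ⟨N, hN⟩
    rw [hαP, hαQ]
    have := mul_le_mul_of_nonneg_left hle hfd.le
    linarith
  · rintro ⟨M, hM⟩
    refine ⟨M, fun m hm => ?_⟩
    have hlt := hM m hm
    rw [hαP, hαQ] at hlt
    have hlt' : (parPolyOne 𝓔 d Q QH H).eval (m : ℝ) * ((P.coeff d : ℚ) : ℝ) <
        (parPoly 𝓔 PX).eval (m : ℝ) * ((Q.coeff d : ℚ) : ℝ) := by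
      refine lt_of_mul_lt_mul_left ?_ hfd.le
      linarith
    exact PolyLim.eventually_lt_of _ (fun n : ℕ => ((P.eval (n : ℚ) : ℚ) : ℝ))
      (fun n : ℕ => ((Q.eval (n : ℚ) : ℚ) : ℝ)) ((parPoly 𝓔 PX).eval (m : ℝ)) _ _ _ d (hlim m)
      (PolyLim.tendsto_div_pow P d hPd) (PolyLim.tendsto_div_pow Q d hQd) hlt'

end Groth.Agent.H9.ParRows
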