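import Mathlib
import Groth.Prelude.Def_W4c5modbuncurvesppStab

set_option autoImplicit false
set_option linter.style.haveILetI false
set_option linter.unusedSectionVars false
set_option linter.unusedVariables false

universe u

namespace Groth.Agent.H9.PhiElem

open PhiStab

variable {V E : Type u} [Fintype V] [Fintype E] [DecidableEq V] [DecidableEq E]

/-- some edge joins a vertex of `A` to a vertex of `B`. -/
def Joined (ends : E → V × V) (A B : Finset V) : Prop :=
  ∃ x ∈ A, ∃ y ∈ B, LabGraph.Adj ends x y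

variable {ends : E → V × V}

theorem adj_symm {x y : V} (h : LabGraph.Adj ends x y) : LabGraph.Adj ends y x := by
  obtain ⟨e, he⟩ := h
  exact ⟨e, he.symm⟩

theorem adj_edge (e : E) : LabGraph.Adj ends (ends e).1 (ends e).2 := ⟨e, Or.inl rfl⟩

theorem joined_symm {A B : Finset V} (h : Joined ends A B) : Joined ends B A := by
  obtain ⟨x, hx, y, hy, hxy⟩ := h
  exact ⟨y, hy, x, hx, adj_symm hxy⟩

theorem joined_mono {A B A' B' : Finset V} (hA : A ⊆ A') (hB : B ⊆ B')
    (h : Joined ends A B) : Joined ends A' B' := by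
  obtain ⟨x, hx, y, hy, hxy⟩ := h
  exact ⟨x, hA hx, y, hB hy, hxy⟩

variable (ends)

/-- connectedness of the subgraph induced on `S`, phrased through separations. -/
def ConnSep (S : Finset V) : Prop :=
  S.Nonempty ∧ ∀ A : Finset V, A ⊆ S → A.Nonempty → A ≠ S → Joined ends A (S \ A)

theorem connSep_univ (h : LabGraph.Connected ends) : ConnSep ends Finset.univ := by
  obtain ⟨⟨v0⟩, hc⟩ := h
  refine ⟨⟨v0, Finset.mem_univ _⟩, fun A _ hA hne => ?_⟩
  by_contra hno
  obtain ⟨u, hu⟩ := hA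
  have hall : ∀ x, Relation.ReflTransGen (LabGraph.Adj ends) u x → x ∈ A := by
    intro x hx
    induction hx with
    | refl => exact hu
    | tail _ hxy ih =>
      by_contra hy
      exact hno ⟨_, ih, _, Finset.mem_sdiff.mpr ⟨Finset.mem_univ _, hy⟩, hxy⟩
  apply hne
  exact Finset.eq_univ_iff_forall.mpr fun x => hall x (hc u x)

theorem connected_ind (S : Finset V) (h : ConnSep ends S) :
    LabGraph.Connected (indEnds ends S) := by
  classical
  obtain ⟨⟨s0, hs0⟩, hsep⟩ := h
  refine ⟨⟨⟨s0, hs0⟩⟩, fun u v => ?_⟩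
  obtain ⟨A, hAdef⟩ : ∃ A : Finset V, ∀ x, x ∈ A ↔ ∃ hx : x ∈ S,
      Relation.ReflTransGen (LabGraph.Adj (indEnds ends S)) u ⟨x, hx⟩ :=
    ⟨S.filter (fun x => ∃ hx : x ∈ S,
      Relation.ReflTransGen (LabGraph.Adj (indEnds ends S)) u ⟨x, hx⟩), fun x => by
      rw [Finset.mem_filter]; exact ⟨fun h => h.2, fun h => ⟨h.fst, h⟩⟩⟩
  have huA : u.1 ∈ A := (hAdef _).mpr ⟨u.2, Relation.ReflTransGen.refl⟩
  have hAS : A ⊆ S := fun x hx => ((hAdef x).mp hx).fst
  by_cases hAeq : A = S
  · have hv : v.1 ∈ A := hAeq ▸ v.2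
    obtain ⟨hx, hr⟩ := (hAdef _).mp hv
    exact hr
  · exfalso
    obtain ⟨x, hxA, y, hy, hxy⟩ := hsep A hAS ⟨u.1, huA⟩ hAeq
    obtain ⟨hyS, hyA⟩ := Finset.mem_sdiff.mp hy
    obtain ⟨hxS, hxr⟩ := (hAdef _).mp hxA
    apply hyA
    refine (hAdef _).mpr ⟨hyS, hxr.tail ?_⟩
    obtain ⟨e, he⟩ := hxy
    rcases he with he | he
    · have heI : e ∈ inner ends S :=
        Finset.mem_filter.mpr ⟨Finset.mem_univ _, by rw [he]; exact ⟨hxS, hyS⟩⟩
      refine ⟨⟨e, heI⟩, Or.inl ?_⟩
      exact Prod.ext (Subtype.ext (by simp [indEnds, he])) (Subtype.ext (by simp [indEnds, he]))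
    · have heI : e ∈ inner ends S :=
        Finset.mem_filter.mpr ⟨Finset.mem_univ _, by rw [he]; exact ⟨hyS, hxS⟩⟩
      refine ⟨⟨e, heI⟩, Or.inr ?_⟩
      exact Prod.ext (Subtype.ext (by simp [indEnds, he])) (Subtype.ext (by simp [indEnds, he]))

theorem elem_nonempty {S : Finset V} (h : IsElementary ends S) :
    S.Nonempty ∧ S ≠ Finset.univ := by
  obtain ⟨⟨⟨⟨a, ha⟩⟩, _⟩, ⟨⟨⟨b, hb⟩⟩, _⟩⟩ := h
  refine ⟨⟨a, ha⟩, fun hS => ?_⟩
  rw [hS] at hb
  simp at hb

theorem isElementary_of_connSep {S : Finset V} (h1 : ConnSep ends S) (h2 : ConnSep ends Sᶜ) :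
    IsElementary ends S :=
  ⟨connected_ind ends S h1, connected_ind ends Sᶜ h2⟩

/-- enlarging a connected set by a part of its complement not joined to the rest. -/
theorem connSep_union (hG : ConnSep ends Finset.univ) (S : Finset V) (hS : ConnSep ends S)
    (T : Finset V) (hT : T ⊆ Sᶜ) (hno : ¬ Joined ends T (Sᶜ \ T)) : ConnSep ends (S ∪ T) := by
  obtain ⟨⟨s0, hs0⟩, hsep⟩ := hS
  refine ⟨⟨s0, Finset.mem_union_left _ hs0⟩, fun A hA hAne hAU => ?_⟩
  -- an edge leaving a subset of `T` and staying out of `S ∪ T` is impossible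
  have hout : ∀ B : Finset V, B ⊆ T → B.Nonempty → Joined ends B ((S ∪ T) \ B) := by
    intro B hBT hBne
    have hBuniv : B ≠ Finset.univ := by
      intro hB
      have : s0 ∈ B := hB ▸ Finset.mem_univ _
      have h1 := hT (hBT this)
      exact (Finset.mem_compl.mp h1) hs0
    obtain ⟨x, hx, y, hy, hxy⟩ := hG.2 B (Finset.subset_univ _) hBne hBuniv
    have hyB : y ∉ B := (Finset.mem_sdiff.mp hy).2
    by_cases hyU : y ∈ S ∪ T
    · exact ⟨x, hx, y, Finset.mem_sdiff.mpr ⟨hyU, hyB⟩, hxy⟩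
    · exfalso
      apply hno
      refine ⟨x, hBT hx, y, ?_, hxy⟩
      rw [Finset.mem_union, not_or] at hyU
      exact Finset.mem_sdiff.mpr ⟨Finset.mem_compl.mpr hyU.1, hyU.2⟩
  by_cases h1 : (A ∩ S).Nonempty
  · by_cases h2 : A ∩ S = S
    · -- `S ⊆ A`
      have hSA : S ⊆ A := by
        intro x hx
        have : x ∈ A ∩ S := by rw [h2]; exact hx
        exact (Finset.mem_inter.mp this).1
      have hBT : (S ∪ T) \ A ⊆ T := by
        intro x hx
        obtain ⟨hxU, hxA⟩ := Finset.mem_sdiff.mp hx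
        rcases Finset.mem_union.mp hxU with h | h
        · exact absurd (hSA h) hxA
        · exact h
      have hBne : ((S ∪ T) \ A).Nonempty := by
        rw [Finset.nonempty_iff_ne_empty]
        intro h
        apply hAU
        exact Finset.Subset.antisymm hA (Finset.sdiff_eq_empty_iff_subset.mp h)
      have hj := hout _ hBT hBne
      have hAeq : (S ∪ T) \ ((S ∪ T) \ A) = A := by
        rw [Finset.sdiff_sdiff_eq_self hA]
      rw [hAeq] at hj
      exact joined_symm hj
    · obtain ⟨x, hx, y, hy, hxy⟩ := hsep (A ∩ S) Finset.inter_subset_right h1 h2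
      refine ⟨x, (Finset.mem_inter.mp hx).1, y, ?_, hxy⟩
      obtain ⟨hyS, hyn⟩ := Finset.mem_sdiff.mp hy
      refine Finset.mem_sdiff.mpr ⟨Finset.mem_union_left _ hyS, fun hyA => ?_⟩
      exact hyn (Finset.mem_inter.mpr ⟨hyA, hyS⟩)
  · -- `A ⊆ T`
    have hAT : A ⊆ T := by
      intro x hx
      rcases Finset.mem_union.mp (hA hx) with h | h
      · exact absurd ⟨x, Finset.mem_inter.mpr ⟨hx, h⟩⟩ h1
      · exact h
    exact hout A hAT hAne

/-! ### the defect function -/

/-- `deg_S - Σ_S φ + cut(S)/2`. -/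
noncomputable def F (φ : V → ℝ) (m : V → ℤ) (N : Finset E) (S : Finset V) : ℝ :=
  (degOn ends m N S : ℝ) - (∑ v ∈ S, φ v) + (LabGraph.cut ends S : ℝ) / 2

/-- the contribution of an edge. -/
noncomputable def ec (N : Finset E) (S : Finset V) (e : E) : ℝ :=
  (if e ∈ N ∧ (ends e).1 ∈ S ∧ (ends e).2 ∈ S then 1 else 0) +
    (if ((ends e).1 ∈ S ∧ (ends e).2 ∉ S) ∨ ((ends e).1 ∉ S ∧ (ends e).2 ∈ S) then 1 else 0) / 2

theorem F_eq (φ : V → ℝ) (m : V → ℤ) (N : Finset E) (S : Finset V) :
    F ends φ m N S =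
      ∑ v, (if v ∈ S then ((m v : ℝ) - φ v) else 0) + ∑ e, ec ends N S e := by
  unfold F degOn LabGraph.cut ec
  have h1 : N ∩ inner ends S =
      Finset.univ.filter (fun e => e ∈ N ∧ (ends e).1 ∈ S ∧ (ends e).2 ∈ S) := by
    ext e; simp [PhiStab.inner]
  rw [h1]
  push_cast
  rw [Finset.natCast_card_filter, Finset.natCast_card_filter, Finset.sum_add_distrib,
    ← Finset.sum_div, Fintype.sum_ite_mem, Finset.sum_sub_distrib]
  ring

theorem F_univ (φ : V → ℝ) (m : V → ℤ) (N : Finset E)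
    (hdeg : (∑ v : V, φ v) = (totDeg m N : ℝ)) : F ends φ m N Finset.univ = 0 := by
  unfold F degOn LabGraph.cut
  have h1 : N ∩ inner ends Finset.univ = N := by
    ext e; simp [PhiStab.inner]
  have h2 : (Finset.univ.filter (fun e : E =>
      ((ends e).1 ∈ (Finset.univ : Finset V) ∧ (ends e).2 ∉ (Finset.univ : Finset V)) ∨
        ((ends e).1 ∉ (Finset.univ : Finset V) ∧ (ends e).2 ∈ (Finset.univ : Finset V)))) = ∅ := by
    ext e; simp
  rw [h1, h2, hdeg]
  unfold totDeg
  simp

/-- additivity on unions of sets not joined by an edge. -/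
theorem F_union (φ : V → ℝ) (m : V → ℤ) (N : Finset E) (S₁ S₂ : Finset V)
    (hdisj : Disjoint S₁ S₂) (hno : ¬ Joined ends S₁ S₂) :
    F ends φ m N (S₁ ∪ S₂) = F ends φ m N S₁ + F ends φ m N S₂ := by
  rw [F_eq, F_eq, F_eq]
  have hv : ∀ v : V, (if v ∈ S₁ ∪ S₂ then ((m v : ℝ) - φ v) else 0) =
      (if v ∈ S₁ then ((m v : ℝ) - φ v) else 0) + (if v ∈ S₂ then ((m v : ℝ) - φ v) else 0) := by
    intro v
    have h12 : ¬ (v ∈ S₁ ∧ v ∈ S₂) := fun h => Finset.disjoint_left.mp hdisj h.1 h.2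
    by_cases a1 : v ∈ S₁ <;> by_cases a2 : v ∈ S₂ <;>
      simp [Finset.mem_union, a1, a2] at h12 ⊢
  have he : ∀ e : E, ec ends N (S₁ ∪ S₂) e = ec ends N S₁ e + ec ends N S₂ e := by
    intro e
    have hx : ¬ ((ends e).1 ∈ S₁ ∧ (ends e).1 ∈ S₂) :=
      fun h => Finset.disjoint_left.mp hdisj h.1 h.2
    have hy : ¬ ((ends e).2 ∈ S₁ ∧ (ends e).2 ∈ S₂) :=
      fun h => Finset.disjoint_left.mp hdisj h.1 h.2
    have h12 : ¬ ((ends e).1 ∈ S₁ ∧ (ends e).2 ∈ S₂) :=
      fun h => hno ⟨_, h.1, _, h.2, adj_edge e⟩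
    have h21 : ¬ ((ends e).2 ∈ S₁ ∧ (ends e).1 ∈ S₂) :=
      fun h => hno ⟨_, h.1, _, h.2, adj_symm (adj_edge e)⟩
    unfold ec
    by_cases a1 : (ends e).1 ∈ S₁ <;> by_cases a2 : (ends e).1 ∈ S₂ <;>
      by_cases b1 : (ends e).2 ∈ S₁ <;> by_cases b2 : (ends e).2 ∈ S₂ <;>
      by_cases hn : e ∈ N <;>
      simp [Finset.mem_union, a1, a2, b1, b2, hn] at hx hy h12 h21 ⊢
  simp only [hv, he, Finset.sum_add_distrib]
  ring

/-- the splitting identity along a part of the complement. -/
theorem F_split (φ : V → ℝ) (m : V → ℤ) (N : Finset E) (S T : Finset V)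
    (hST : Disjoint S T) (hno : ¬ Joined ends T (Sᶜ \ T)) :
    F ends φ m N S + F ends φ m N Finset.univ =
      F ends φ m N (S ∪ T) + F ends φ m N (S ∪ (Sᶜ \ T)) := by
  rw [F_eq, F_eq, F_eq, F_eq]
  have hv : ∀ v : V, (if v ∈ S then ((m v : ℝ) - φ v) else 0) +
      (if v ∈ (Finset.univ : Finset V) then ((m v : ℝ) - φ v) else 0) =
      (if v ∈ S ∪ T then ((m v : ℝ) - φ v) else 0) +
        (if v ∈ S ∪ (Sᶜ \ T) then ((m v : ℝ) - φ v) else 0) := by
    intro v
    have h12 : ¬ (v ∈ S ∧ v ∈ T) := fun h => Finset.disjoint_left.mp hST h.1 h.2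
    by_cases a1 : v ∈ S <;> by_cases a2 : v ∈ T <;>
      simp [Finset.mem_union, Finset.mem_sdiff, Finset.mem_compl, a1, a2] at h12 ⊢
  have he : ∀ e : E, ec ends N S e + ec ends N Finset.univ e =
      ec ends N (S ∪ T) e + ec ends N (S ∪ (Sᶜ \ T)) e := by
    intro e
    have hx : ¬ ((ends e).1 ∈ S ∧ (ends e).1 ∈ T) :=
      fun h => Finset.disjoint_left.mp hST h.1 h.2
    have hy : ¬ ((ends e).2 ∈ S ∧ (ends e).2 ∈ T) :=
      fun h => Finset.disjoint_left.mp hST h.1 h.2
    have h12 : ¬ ((ends e).1 ∈ T ∧ ((ends e).2 ∉ S ∧ (ends e).2 ∉ T)) :=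
      fun h => hno ⟨_, h.1, _, Finset.mem_sdiff.mpr ⟨Finset.mem_compl.mpr h.2.1, h.2.2⟩,
        adj_edge e⟩
    have h21 : ¬ ((ends e).2 ∈ T ∧ ((ends e).1 ∉ S ∧ (ends e).1 ∉ T)) :=
      fun h => hno ⟨_, h.1, _, Finset.mem_sdiff.mpr ⟨Finset.mem_compl.mpr h.2.1, h.2.2⟩,
        adj_symm (adj_edge e)⟩
    unfold ec
    by_cases a1 : (ends e).1 ∈ S <;> by_cases a2 : (ends e).1 ∈ T <;>
      by_cases b1 : (ends e).2 ∈ S <;> by_cases b2 : (ends e).2 ∈ T <;>
      by_cases hn : e ∈ N <;>
      simp [Finset.mem_union, Finset.mem_sdiff, Finset.mem_compl, a1, a2, b1, b2, hn]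
        at hx hy h12 h21 ⊢ <;> norm_num
  have hsum : (∑ v, (if v ∈ S then ((m v : ℝ) - φ v) else 0) + ∑ e, ec ends N S e) +
      (∑ v, (if v ∈ (Finset.univ : Finset V) then ((m v : ℝ) - φ v) else 0) +
        ∑ e, ec ends N Finset.univ e) =
      ∑ v, ((if v ∈ S then ((m v : ℝ) - φ v) else 0) +
        (if v ∈ (Finset.univ : Finset V) then ((m v : ℝ) - φ v) else 0)) +
      ∑ e, (ec ends N S e + ec ends N Finset.univ e) := by
    rw [Finset.sum_add_distrib, Finset.sum_add_distrib]; ring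
  rw [hsum]
  simp only [hv, he, Finset.sum_add_distrib]
  ring

/-! ### the two inductions -/

section Induction

variable (φ : V → ℝ) (m : V → ℤ) (N : Finset E) (P : ℝ → Prop)

theorem stage1 (hG : ConnSep ends Finset.univ) (hF0 : F ends φ m N Finset.univ = 0)
    (hadd : ∀ a b, P a → P b → P (a + b))
    (helem : ∀ S : Finset V, IsElementary ends S → P (F ends φ m N S)) :
    ∀ (n : ℕ) (S : Finset V), Sᶜ.card = n → ConnSep ends S → S ≠ Finset.univ →
      P (F ends φ m N S) := by
  intro n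
  induction n using Nat.strong_induction_on with
  | _ n ih =>
    intro S hn hS hne
    by_cases hc : ConnSep ends Sᶜ
    · exact helem S (isElementary_of_connSep ends hS hc)
    · have hcne : Sᶜ.Nonempty := by
        rw [Finset.nonempty_iff_ne_empty]
        intro h
        exact hne ((Finset.compl_eq_empty_iff S).mp h)
      have : ∃ A : Finset V, A ⊆ Sᶜ ∧ A.Nonempty ∧ A ≠ Sᶜ ∧ ¬ Joined ends A (Sᶜ \ A) := by
        by_contra hcon
        apply hc
        refine ⟨hcne, fun A hA hAne hAeq => ?_⟩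
        by_contra hj
        exact hcon ⟨A, hA, hAne, hAeq, hj⟩
      obtain ⟨T, hT, hTne, hTeq, hno⟩ := this
      have hST : Disjoint S T := by
        rw [Finset.disjoint_left]
        intro x hxS hxT
        exact (Finset.mem_compl.mp (hT hxT)) hxS
      have hsplit := F_split ends φ m N S T hST hno
      rw [hF0, add_zero] at hsplit
      rw [hsplit]
      -- the other part
      have hT' : Sᶜ \ T ⊆ Sᶜ := Finset.sdiff_subset
      have hT'ne : (Sᶜ \ T).Nonempty := by
        rw [Finset.nonempty_iff_ne_empty]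
        intro h
        exact hTeq (Finset.Subset.antisymm hT (Finset.sdiff_eq_empty_iff_subset.mp h))
      have hno' : ¬ Joined ends (Sᶜ \ T) (Sᶜ \ (Sᶜ \ T)) := by
        rw [Finset.sdiff_sdiff_eq_self hT]
        exact fun h => hno (joined_symm h)
      have hc1 : (S ∪ T)ᶜ = Sᶜ \ T := by
        ext x; simp [Finset.mem_sdiff]
      have hc2 : (S ∪ (Sᶜ \ T))ᶜ = T := by
        ext x
        simp only [Finset.mem_compl, Finset.mem_union, Finset.mem_sdiff, not_or, not_and,
          not_not]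
        constructor
        · rintro ⟨h1, h2⟩; exact h2 h1
        · intro h; exact ⟨Finset.mem_compl.mp (hT h), fun _ => h⟩
      have hlt1 : (Sᶜ \ T).card < n := by
        rw [← hn]
        apply Finset.card_lt_card
        refine ⟨Finset.sdiff_subset, fun h => ?_⟩
        obtain ⟨t, ht⟩ := hTne
        have := h (hT ht)
        exact (Finset.mem_sdiff.mp this).2 ht
      have hlt2 : T.card < n := by
        rw [← hn]
        exact Finset.card_lt_card ⟨hT, fun h => hTeq (Finset.Subset.antisymm hT h)⟩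
      refine hadd _ _ ?_ ?_
      · refine ih _ hlt1 (S ∪ T) (by rw [hc1]) (connSep_union ends hG S hS T hT hno) ?_
        intro h
        have : (S ∪ T)ᶜ = ∅ := by rw [h]; simp
        rw [hc1] at this
        exact hT'ne.ne_empty this
      · refine ih _ hlt2 (S ∪ (Sᶜ \ T)) (by rw [hc2])
          (connSep_union ends hG S hS (Sᶜ \ T) hT' hno') ?_
        intro h
        have : (S ∪ (Sᶜ \ T))ᶜ = ∅ := by rw [h]; simp
        rw [hc2] at this
        exact hTne.ne_empty this

theorem stage2 (hG : ConnSep ends Finset.univ) (hF0 : F ends φ m N Finset.univ = 0)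
    (hadd : ∀ a b, P a → P b → P (a + b))
    (helem : ∀ S : Finset V, IsElementary ends S → P (F ends φ m N S)) :
    ∀ (n : ℕ) (S : Finset V), S.card = n → S.Nonempty → S ≠ Finset.univ →
      P (F ends φ m N S) := by
  intro n
  induction n using Nat.strong_induction_on with
  | _ n ih =>
    intro S hn hSne hne
    by_cases hc : ConnSep ends S
    · exact stage1 ends φ m N P hG hF0 hadd helem _ S rfl hc hne
    · have : ∃ A : Finset V, A ⊆ S ∧ A.Nonempty ∧ A ≠ S ∧ ¬ Joined ends A (S \ A) := by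
        by_contra hcon
        apply hc
        refine ⟨hSne, fun A hA hAne hAeq => ?_⟩
        by_contra hj
        exact hcon ⟨A, hA, hAne, hAeq, hj⟩
      obtain ⟨A, hA, hAne, hAeq, hno⟩ := this
      have hdisj : Disjoint A (S \ A) := Finset.disjoint_sdiff
      have hun : A ∪ (S \ A) = S := Finset.union_sdiff_of_subset hA
      have hBne : (S \ A).Nonempty := by
        rw [Finset.nonempty_iff_ne_empty]
        intro h
        exact hAeq (Finset.Subset.antisymm hA (Finset.sdiff_eq_empty_iff_subset.mp h))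
      have hlt1 : A.card < n := by
        rw [← hn]
        exact Finset.card_lt_card ⟨hA, fun h => hAeq (Finset.Subset.antisymm hA h)⟩
      have hlt2 : (S \ A).card < n := by
        rw [← hn]
        apply Finset.card_lt_card
        refine ⟨Finset.sdiff_subset, fun h => ?_⟩
        obtain ⟨a, ha⟩ := hAne
        exact (Finset.mem_sdiff.mp (h (hA ha))).2 ha
      have hnu : ∀ B : Finset V, B ⊆ S → B ≠ Finset.univ := by
        intro B hB h
        apply hne
        rw [h] at hB
        exact Finset.univ_subset_iff.mp hB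
      rw [← hun, F_union ends φ m N A (S \ A) hdisj hno]
      exact hadd _ _ (ih _ hlt1 A rfl hAne (hnu A hA))
        (ih _ hlt2 (S \ A) rfl hBne (hnu _ Finset.sdiff_subset))

end Induction

theorem main (hconn : LabGraph.Connected ends)
    (φ : V → ℝ) (m : V → ℤ) (N : Finset E) (hdeg : (∑ v : V, φ v) = (totDeg m N : ℝ)) :
    (IsSemistable ends φ m N ↔
      ∀ S : Finset V, IsElementary ends S →
        (∑ v ∈ S, φ v) - (LabGraph.cut ends S : ℝ) / 2 ≤ (degOn ends m N S : ℝ)) ∧
    (IsStable ends φ m N ↔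
      ∀ S : Finset V, IsElementary ends S →
        (∑ v ∈ S, φ v) - (LabGraph.cut ends S : ℝ) / 2 < (degOn ends m N S : ℝ)) := by
  have hG := connSep_univ ends hconn
  have hF0 := F_univ ends φ m N hdeg
  constructor
  · constructor
    · intro h S hS
      obtain ⟨h1, h2⟩ := elem_nonempty ends hS
      exact h S h1 h2
    · intro h S hSne hne
      have := stage2 ends φ m N (fun a => 0 ≤ a) hG hF0 (fun a b ha hb => add_nonneg ha hb)
        (fun S hS => by
          have := h S hS
          unfold F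
          linarith) _ S rfl hSne hne
      unfold F at this
      linarith
  · constructor
    · intro h S hS
      obtain ⟨h1, h2⟩ := elem_nonempty ends hS
      exact h S h1 h2
    · intro h S hSne hne
      have := stage2 ends φ m N (fun a => 0 < a) hG hF0 (fun a b ha hb => add_pos ha hb)
        (fun S hS => by
          have := h S hS
          unfold F
          linarith) _ S rfl hSne hne
      unfold F at this
      linarith

end Groth.Agent.H9.PhiElem
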