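import Mathlib
import Groth.Prelude.Def_W4c5modbuncurvesppStab
import Groth.Agent.Lib.Helper9.Misc.CircCop

set_option autoImplicit false
set_option linter.style.haveILetI false
set_option linter.unusedSectionVars false
set_option linter.unusedVariables false

universe u

namespace Groth.Agent.H9.TreeSys

open LabGraph PhiStab

variable {V E : Type u} [Fintype V] [Fintype E] [DecidableEq V] [DecidableEq E]

theorem mem_side (ends : E → V × V) (e : E) (v : V) :
    v ∈ side ends e ↔
      Relation.ReflTransGen (Adj (spanEnds ends (Finset.univ.erase e))) (ends e).1 v := by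
  classical
  unfold side
  simp only [Finset.mem_filter, Finset.mem_univ, true_and]

theorem fst_mem_side (ends : E → V × V) (e : E) : (ends e).1 ∈ side ends e :=
  (mem_side ends e _).2 Relation.ReflTransGen.refl

theorem adj_of_ne (ends : E → V × V) (e e' : E) (h : e' ≠ e) :
    Adj (spanEnds ends (Finset.univ.erase e)) (ends e').1 (ends e').2 ∧
    Adj (spanEnds ends (Finset.univ.erase e)) (ends e').2 (ends e').1 := by
  have hm : e' ∈ Finset.univ.erase e := Finset.mem_erase.2 ⟨h, Finset.mem_univ _⟩
  exact ⟨⟨⟨e', hm⟩, Or.inl rfl⟩, ⟨⟨e', hm⟩, Or.inr rfl⟩⟩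

theorem side_iff_of_ne (ends : E → V × V) (e e' : E) (h : e' ≠ e) :
    (ends e').1 ∈ side ends e ↔ (ends e').2 ∈ side ends e := by
  rw [mem_side, mem_side]
  exact ⟨fun h1 => h1.tail (adj_of_ne ends e e' h).1, fun h1 => h1.tail (adj_of_ne ends e e' h).2⟩

theorem snd_not_mem_side (ends : E → V × V) (hF : DualGr.IsForest ends) (e : E) :
    (ends e).2 ∉ side ends e := by
  intro hmem
  rw [mem_side] at hmem
  obtain ⟨φ, hφ⟩ := Groth.Agent.H9.CircCop.forest ends (fun e' => if e' = e then 1 else 0) Finset.univ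
    (fun C _ => hF C)
  have key : ∀ v, Relation.ReflTransGen (Adj (spanEnds ends (Finset.univ.erase e))) (ends e).1 v →
      φ v = φ (ends e).1 := by
    intro v hv
    induction hv with
    | refl => rfl
    | @tail b c _ hadj ih =>
      obtain ⟨⟨e'', he''⟩, h2⟩ := hadj
      have hne : e'' ≠ e := (Finset.mem_erase.1 he'').1
      have h3 := hφ e'' (Finset.mem_univ _)
      simp only [if_neg hne] at h3
      unfold Groth.Agent.H9.CircCop.dl at h3
      have h4 : φ (ends e'').2 = φ (ends e'').1 := by linarith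
      rcases h2 with h2 | h2
      · have h5 : ends e'' = (b, c) := h2
        rw [h5] at h4
        simp only at h4
        rw [h4]; exact ih
      · have h5 : ends e'' = (c, b) := h2
        rw [h5] at h4
        simp only at h4
        rw [← h4]; exact ih
  have h1 := key _ hmem
  have h3 := hφ e (Finset.mem_univ _)
  simp only [if_true] at h3
  unfold Groth.Agent.H9.CircCop.dl at h3
  linarith

theorem const_of_connected (ends : E → V × V) (hC : Connected ends) (g : V → ℝ)
    (hg : ∀ e, g (ends e).2 = g (ends e).1) (v w : V) : g v = g w := by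
  have h := hC.2 w v
  induction h with
  | refl => rfl
  | @tail b c _ hadj ih =>
    obtain ⟨e, h2⟩ := hadj
    have h4 := hg e
    rcases h2 with h2 | h2
    · rw [h2] at h4; simp only at h4; rw [h4]; exact ih
    · rw [h2] at h4; simp only at h4; rw [← h4]; exact ih

noncomputable def cob (ends : E → V × V) (γ : E → ℝ) (v : V) : ℝ :=
  ∑ e, γ e * ((if (ends e).2 = v then 1 else 0) - (if (ends e).1 = v then 1 else 0))

theorem sum_cob (ends : E → V × V) (γ : E → ℝ) (S : Finset V) :
    ∑ v ∈ S, cob ends γ v =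
      ∑ e, γ e * ((if (ends e).2 ∈ S then 1 else 0) - (if (ends e).1 ∈ S then 1 else 0)) := by
  unfold cob
  rw [Finset.sum_comm]
  refine Finset.sum_congr rfl fun e _ => ?_
  rw [← Finset.mul_sum, Finset.sum_sub_distrib]
  simp only [Finset.sum_ite_eq]

theorem side_ind (ends : E → V × V) (hF : DualGr.IsForest ends) (e₀ e : E) :
    ((if (ends e).2 ∈ side ends e₀ then (1:ℝ) else 0) - (if (ends e).1 ∈ side ends e₀ then 1 else 0)) =
      if e = e₀ then -1 else 0 := by
  by_cases h : e = e₀
  · subst h
    rw [if_neg (snd_not_mem_side ends hF e), if_pos (fst_mem_side ends e), if_pos rfl]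
    ring
  · rw [if_neg h]
    by_cases h1 : (ends e).1 ∈ side ends e₀
    · rw [if_pos h1, if_pos ((side_iff_of_ne ends e₀ e h).1 h1)]; ring
    · rw [if_neg h1, if_neg (fun h2 => h1 ((side_iff_of_ne ends e₀ e h).2 h2))]; ring

theorem exists_sol (ends : E → V × V) (hT : DualGr.IsTree ends) (c : E → ℝ) (c₀ : ℝ) :
    ∃ φ : V → ℝ, (∀ e : E, (∑ v ∈ side ends e, φ v) = c e) ∧ (∑ v : V, φ v) = c₀ := by
  obtain ⟨hC, hF⟩ := hT
  have hne : Nonempty V := hC.1
  have hN : (Fintype.card V : ℝ) ≠ 0 := by
    have : 0 < Fintype.card V := Fintype.card_pos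
    exact_mod_cast this.ne'
  set t : ℝ := c₀ / Fintype.card V with ht
  set γ : E → ℝ := fun e => t * (side ends e).card - c e with hγ
  refine ⟨fun v => t + cob ends γ v, ?_, ?_⟩
  · intro e₀
    rw [Finset.sum_add_distrib, sum_cob, Finset.sum_const, nsmul_eq_mul]
    simp only [side_ind ends hF e₀]
    rw [Finset.sum_eq_single e₀]
    · rw [if_pos rfl, hγ]; ring
    · intro b _ hb; rw [if_neg hb, mul_zero]
    · intro h; exact absurd (Finset.mem_univ _) h
  · rw [Finset.sum_add_distrib, sum_cob, Finset.sum_const, nsmul_eq_mul, Finset.card_univ]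
    simp only [Finset.mem_univ, if_true, sub_self, mul_zero, Finset.sum_const_zero, add_zero]
    rw [ht]; field_simp

theorem zero_of_orth (ends : E → V × V) (hC : Connected ends) (hF : DualGr.IsForest ends) (ψ : V → ℝ)
    (h1 : ∀ e, ∑ v ∈ side ends e, ψ v = 0) (h2 : ∑ v, ψ v = 0) : ψ = 0 := by
  obtain ⟨v₀⟩ := hC.1
  set g : V → ℝ := fun v => ψ v + ∑ e, (ψ (ends e).2 - ψ (ends e).1) *
    (if v ∈ side ends e then 1 else 0) with hg
  have hdg : ∀ e', g (ends e').2 = g (ends e').1 := by
    intro e'
    have h0 : g (ends e').2 - g (ends e').1 = 0 := by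
      have hthis : ∀ e, (ψ (ends e).2 - ψ (ends e).1) *
            (if (ends e').2 ∈ side ends e then (1:ℝ) else 0) -
          (ψ (ends e).2 - ψ (ends e).1) * (if (ends e').1 ∈ side ends e then 1 else 0) =
          (ψ (ends e).2 - ψ (ends e).1) * (if e' = e then -1 else 0) := by
        intro e; rw [← mul_sub, side_ind ends hF e e']
      calc g (ends e').2 - g (ends e').1
          = (ψ (ends e').2 - ψ (ends e').1) + ∑ e, ((ψ (ends e).2 - ψ (ends e).1) *
              (if (ends e').2 ∈ side ends e then (1:ℝ) else 0) -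
            (ψ (ends e).2 - ψ (ends e).1) * (if (ends e').1 ∈ side ends e then 1 else 0)) := by
            rw [Finset.sum_sub_distrib]; simp only [hg]; ring
        _ = (ψ (ends e').2 - ψ (ends e').1) + ∑ e, (ψ (ends e).2 - ψ (ends e).1) *
              (if e' = e then -1 else 0) := by simp only [hthis]
        _ = 0 := by
            simp only [mul_ite, mul_neg, mul_one, mul_zero, Finset.sum_ite_eq, Finset.mem_univ, if_true]
            ring
    linarith
  have hconst : ∀ v, g v = g v₀ := fun v => const_of_connected ends hC g hdg v v₀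
  have e1 : ∑ v, ψ v * g v = 0 := by
    calc ∑ v, ψ v * g v = ∑ v, ψ v * g v₀ :=
          Finset.sum_congr rfl (fun v _ => by rw [hconst v])
      _ = (∑ v, ψ v) * g v₀ := (Finset.sum_mul _ _ _).symm
      _ = 0 := by rw [h2, zero_mul]
  have e2 : ∑ v, ψ v * g v = ∑ v, ψ v * ψ v := by
    calc ∑ v, ψ v * g v
        = ∑ v, (ψ v * ψ v + ∑ e, (ψ (ends e).2 - ψ (ends e).1) *
            (ψ v * if v ∈ side ends e then 1 else 0)) := by
          refine Finset.sum_congr rfl fun v _ => ?_
          simp only [hg, mul_add, Finset.mul_sum]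
          congr 1
          refine Finset.sum_congr rfl fun e _ => ?_
          ring
      _ = ∑ v, ψ v * ψ v + ∑ e, (ψ (ends e).2 - ψ (ends e).1) *
            ∑ v, (ψ v * if v ∈ side ends e then 1 else 0) := by
          rw [Finset.sum_add_distrib, Finset.sum_comm]
          simp only [Finset.mul_sum]
      _ = ∑ v, ψ v * ψ v := by
          have hthis : ∀ e, ∑ v, (ψ v * if v ∈ side ends e then (1:ℝ) else 0) = 0 := by
            intro e
            simp only [mul_ite, mul_one, mul_zero]
            rw [Finset.sum_ite_mem, Finset.univ_inter, h1 e]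
          simp only [hthis, mul_zero, Finset.sum_const_zero, add_zero]
  rw [e2] at e1
  have e3 := (Finset.sum_eq_zero_iff_of_nonneg (fun v _ => mul_self_nonneg (ψ v))).1 e1
  funext v
  exact mul_self_eq_zero.1 (e3 v (Finset.mem_univ _))

theorem main (ends : E → V × V) (hT : DualGr.IsTree ends) (c : E → ℝ) (c₀ : ℝ) :
    ∃! φ : V → ℝ, (∀ e : E, (∑ v ∈ side ends e, φ v) = c e) ∧ (∑ v : V, φ v) = c₀ := by
  obtain ⟨φ₀, h0⟩ := exists_sol ends hT c c₀
  refine ⟨φ₀, h0, fun φ' h' => ?_⟩
  have hA : ∀ e, ∑ v ∈ side ends e, (fun v => φ' v - φ₀ v) v = 0 := by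
    intro e; rw [Finset.sum_sub_distrib, h'.1 e, h0.1 e, sub_self]
  have hB : ∑ v, (fun v => φ' v - φ₀ v) v = 0 := by
    rw [Finset.sum_sub_distrib, h'.2, h0.2, sub_self]
  have hz := zero_of_orth ends hT.1 hT.2 _ hA hB
  funext v
  have := congrFun hz v
  simp only [Pi.zero_apply] at this
  linarith

end Groth.Agent.H9.TreeSys
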