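import Mathlib
import Groth.Prelude.Def_W4c5modbuncurvesppStab
import Groth.Agent.Lib.Helper9.Misc.PhiElem
import Groth.Agent.Lib.Helper9.Misc.TreeSys

set_option autoImplicit false
set_option linter.style.haveILetI false
set_option linter.unusedSectionVars false
set_option linter.unusedVariables false

universe u

namespace Groth.Agent.H9.PhiTree

open PhiStab LabGraph Groth.Agent.H9.PhiElem Groth.Agent.H9.TreeSys

variable {V E : Type u} [Fintype V] [Fintype E] [DecidableEq V] [DecidableEq E]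

/-! ### integral solutions of the tree system -/

theorem sum_cob_side (ends' : E → V × V) (hF : DualGr.IsForest ends') (γ : E → ℝ) (e₀ : E) :
    ∑ v ∈ side ends' e₀, cob ends' γ v = - γ e₀ := by
  rw [sum_cob]
  simp only [side_ind ends' hF e₀]
  simp

theorem sum_cob_univ (ends' : E → V × V) (γ : E → ℝ) : ∑ v, cob ends' γ v = 0 := by
  rw [sum_cob]; simp

theorem exists_int_sol (ends' : E → V × V) (hT : DualGr.IsTree ends') (c : E → ℤ) (c₀ : ℤ) :
    ∃ m : V → ℤ, (∀ e, ∑ v ∈ side ends' e, m v = c e) ∧ ∑ v, m v = c₀ := by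
  classical
  obtain ⟨hC, hF⟩ := hT
  obtain ⟨v₀⟩ := hC.1
  let γ : E → ℤ := fun e => c₀ * (if v₀ ∈ side ends' e then 1 else 0) - c e
  let m : V → ℤ := fun v => c₀ * (if v = v₀ then 1 else 0) +
    ∑ e, γ e * ((if (ends' e).2 = v then 1 else 0) - (if (ends' e).1 = v then 1 else 0))
  have hcast : ∀ v, ((m v : ℤ) : ℝ) =
      (c₀ : ℝ) * (if v = v₀ then 1 else 0) + cob ends' (fun e => (γ e : ℝ)) v := by
    intro v
    simp only [m, cob]
    push_cast
    try rfl
  refine ⟨m, fun e => ?_, ?_⟩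
  · have : ((∑ v ∈ side ends' e, m v : ℤ) : ℝ) = (c e : ℝ) := by
      push_cast
      simp only [hcast]
      rw [Finset.sum_add_distrib, sum_cob_side ends' hF, ← Finset.mul_sum, Finset.sum_ite_eq']
      simp only [γ]
      push_cast
      ring
    exact_mod_cast this
  · have : ((∑ v, m v : ℤ) : ℝ) = (c₀ : ℝ) := by
      push_cast
      simp only [hcast]
      rw [Finset.sum_add_distrib, sum_cob_univ, ← Finset.mul_sum, Finset.sum_ite_eq']
      simp
    exact_mod_cast this

/-- the flow identity on a tree: a vertex function of total sum zero is the divergence of the flow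
given by its sums over the sides. -/
theorem flow (ends' : E → V × V) (hT : DualGr.IsTree ends') (c : V → ℝ) (hc : ∑ v, c v = 0)
    (S : Finset V) :
    ∑ v ∈ S, c v = ∑ e, (∑ v ∈ side ends' e, c v) *
      ((if (ends' e).1 ∈ S then (1:ℝ) else 0) - (if (ends' e).2 ∈ S then 1 else 0)) := by
  obtain ⟨hC, hF⟩ := hT
  set x : E → ℝ := fun e => ∑ v ∈ side ends' e, c v with hx
  have hψ : (fun v => c v + cob ends' x v) = 0 :=
    zero_of_orth ends' hC hF _
      (fun e => by rw [Finset.sum_add_distrib, sum_cob_side ends' hF]; simp [hx])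
      (by rw [Finset.sum_add_distrib, hc, sum_cob_univ, add_zero])
  have hcv : ∀ v, c v = - cob ends' x v := fun v => by
    have := congrFun hψ v
    simp only [Pi.zero_apply] at this
    linarith
  calc ∑ v ∈ S, c v = - ∑ v ∈ S, cob ends' x v := by
        rw [← Finset.sum_neg_distrib]; exact Finset.sum_congr rfl fun v _ => hcv v
    _ = _ := by
        rw [sum_cob, ← Finset.sum_neg_distrib]
        refine Finset.sum_congr rfl fun e _ => ?_
        ring

/-! ### the defect function when the non-free nodes are the complement of a spanning tree -/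

variable (ends : E → V × V) (T : Finset E)

/-- vertex weights absorbing the non-tree edges. -/
noncomputable def nN (v : V) : ℝ :=
  ∑ e ∈ Tᶜ, ((if (ends e).1 = v then (1:ℝ) else 0) + (if (ends e).2 = v then 1 else 0)) / 2

noncomputable def cw (φ : V → ℝ) (m : V → ℤ) (v : V) : ℝ := ((m v : ℝ) - φ v) + nN ends T v

/-- the contribution of a tree edge to the cut. -/
noncomputable def cr (S : Finset V) (e' : {e // e ∈ T}) : ℝ :=
  (if (((ends e'.1).1 ∈ S ∧ (ends e'.1).2 ∉ S) ∨ ((ends e'.1).1 ∉ S ∧ (ends e'.1).2 ∈ S))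
    then (1:ℝ) else 0) / 2

theorem F_tree (φ : V → ℝ) (m : V → ℤ) (S : Finset V) :
    F ends φ m Tᶜ S = ∑ v ∈ S, cw ends T φ m v + ∑ e' : {e // e ∈ T}, cr ends T S e' := by
  rw [F_eq]
  have h1 : ∑ v, (if v ∈ S then ((m v : ℝ) - φ v) else 0) = ∑ v ∈ S, ((m v : ℝ) - φ v) :=
    Fintype.sum_ite_mem S _
  have h2 : ∑ v ∈ S, cw ends T φ m v = ∑ v ∈ S, ((m v : ℝ) - φ v) +
      ∑ e ∈ Tᶜ, ((if (ends e).1 ∈ S then (1:ℝ) else 0) +
        (if (ends e).2 ∈ S then 1 else 0)) / 2 := by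
    unfold cw nN
    rw [Finset.sum_add_distrib, Finset.sum_comm]
    congr 1
    refine Finset.sum_congr rfl fun e _ => ?_
    rw [← Finset.sum_div, Finset.sum_add_distrib, Finset.sum_ite_eq, Finset.sum_ite_eq]
  have h3 : ∑ e, ec ends Tᶜ S e = ∑ e ∈ T, ec ends Tᶜ S e + ∑ e ∈ Tᶜ, ec ends Tᶜ S e :=
    (Finset.sum_add_sum_compl T _).symm
  have h4 : ∑ e ∈ Tᶜ, ec ends Tᶜ S e = ∑ e ∈ Tᶜ, ((if (ends e).1 ∈ S then (1:ℝ) else 0) +
      (if (ends e).2 ∈ S then 1 else 0)) / 2 := by
    refine Finset.sum_congr rfl fun e he => ?_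
    unfold ec
    by_cases a : (ends e).1 ∈ S <;> by_cases b : (ends e).2 ∈ S <;> simp [he, a, b]
  have h5 : ∑ e ∈ T, ec ends Tᶜ S e = ∑ e' : {e // e ∈ T}, cr ends T S e' := by
    rw [← Finset.sum_coe_sort T]
    refine Finset.sum_congr rfl fun e' _ => ?_
    unfold ec cr
    have : e'.1 ∉ Tᶜ := by simp [e'.2]
    simp [this]
  rw [h1, h2, h3, h4, h5]; ring

section Formula

variable (hT : DualGr.IsTree (spanEnds ends T)) (φ : V → ℝ) (m : V → ℤ)
  (hdeg : (∑ v : V, φ v) = (totDeg m Tᶜ : ℝ))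

/-- the flow of `m` through a tree edge. -/
noncomputable def xs (e' : {e // e ∈ T}) : ℝ :=
  ∑ v ∈ side (spanEnds ends T) e', cw ends T φ m v

include hdeg in
theorem sum_cw : ∑ v, cw ends T φ m v = 0 := by
  have h := F_tree ends T φ m Finset.univ
  rw [F_univ ends φ m Tᶜ hdeg] at h
  have h2 : ∑ e' : {e // e ∈ T}, cr ends T Finset.univ e' = 0 := by
    refine Finset.sum_eq_zero fun e' _ => ?_
    unfold cr; simp
  rw [h2, add_zero] at h
  exact h.symm

/-- the contribution of a tree edge to the defect of `S`. -/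
noncomputable def tt (S : Finset V) (e' : {e // e ∈ T}) : ℝ :=
  xs ends T φ m e' * ((if (ends e'.1).1 ∈ S then (1:ℝ) else 0) -
    (if (ends e'.1).2 ∈ S then 1 else 0)) + cr ends T S e'

include hT hdeg in
theorem F_formula (S : Finset V) :
    F ends φ m Tᶜ S = ∑ e' : {e // e ∈ T}, tt ends T φ m S e' := by
  rw [F_tree, flow (spanEnds ends T) hT (cw ends T φ m) (sum_cw ends T φ m hdeg) S,
    ← Finset.sum_add_distrib]
  rfl

theorem tt_nonneg (S : Finset V) (e' : {e // e ∈ T})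
    (h1 : -(1/2 : ℝ) ≤ xs ends T φ m e') (h2 : xs ends T φ m e' ≤ 1/2) :
    0 ≤ tt ends T φ m S e' := by
  unfold tt cr
  by_cases a : (ends e'.1).1 ∈ S <;> by_cases b : (ends e'.1).2 ∈ S <;> simp [a, b] <;> linarith

include hT hdeg in
theorem F_side (e₀ : {e // e ∈ T}) :
    F ends φ m Tᶜ (side (spanEnds ends T) e₀) = xs ends T φ m e₀ + 1/2 := by
  rw [F_formula ends T hT φ m hdeg, Finset.sum_eq_single e₀]
  · unfold tt cr
    have h1 : (ends e₀.1).1 ∈ side (spanEnds ends T) e₀ := fst_mem_side (spanEnds ends T) e₀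
    have h2 : (ends e₀.1).2 ∉ side (spanEnds ends T) e₀ :=
      snd_not_mem_side (spanEnds ends T) hT.2 e₀
    simp [h1, h2]
  · intro e' _ hne
    unfold tt cr
    have h := side_iff_of_ne (spanEnds ends T) e₀ e' hne
    have h' : (ends e'.1).1 ∈ side (spanEnds ends T) e₀ ↔
        (ends e'.1).2 ∈ side (spanEnds ends T) e₀ := h
    by_cases a : (ends e'.1).1 ∈ side (spanEnds ends T) e₀
    · have b := h'.1 a
      simp [a, b]
    · have b : (ends e'.1).2 ∉ side (spanEnds ends T) e₀ := fun hb => a (h'.2 hb)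
      simp [a, b]
  · intro h; exact absurd (Finset.mem_univ _) h

include hT hdeg in
theorem F_side_compl (e₀ : {e // e ∈ T}) :
    F ends φ m Tᶜ (side (spanEnds ends T) e₀)ᶜ = 1/2 - xs ends T φ m e₀ := by
  rw [F_formula ends T hT φ m hdeg, Finset.sum_eq_single e₀]
  · unfold tt cr
    have h1 : (ends e₀.1).1 ∈ side (spanEnds ends T) e₀ := fst_mem_side (spanEnds ends T) e₀
    have h2 : (ends e₀.1).2 ∉ side (spanEnds ends T) e₀ :=
      snd_not_mem_side (spanEnds ends T) hT.2 e₀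
    simp [Finset.mem_compl, h1, h2]
    ring
  · intro e' _ hne
    unfold tt cr
    have h := side_iff_of_ne (spanEnds ends T) e₀ e' hne
    have h' : (ends e'.1).1 ∈ side (spanEnds ends T) e₀ ↔
        (ends e'.1).2 ∈ side (spanEnds ends T) e₀ := h
    by_cases a : (ends e'.1).1 ∈ side (spanEnds ends T) e₀
    · have b := h'.1 a
      simp [Finset.mem_compl, a, b]
    · have b : (ends e'.1).2 ∉ side (spanEnds ends T) e₀ := fun hb => a (h'.2 hb)
      simp [Finset.mem_compl, a, b]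
  · intro h; exact absurd (Finset.mem_univ _) h

/-- the flow in terms of the sums of `m` over the sides. -/
theorem xs_eq (e' : {e // e ∈ T}) :
    xs ends T φ m e' = ((∑ v ∈ side (spanEnds ends T) e', m v : ℤ) : ℝ) -
      ∑ v ∈ side (spanEnds ends T) e', (φ v - nN ends T v) := by
  unfold xs cw
  push_cast
  rw [← Finset.sum_sub_distrib]
  refine Finset.sum_congr rfl fun v _ => ?_
  ring

end Formula

theorem side_nonempty (hT : DualGr.IsTree (spanEnds ends T)) (e₀ : {e // e ∈ T}) :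
    (side (spanEnds ends T) e₀).Nonempty ∧ side (spanEnds ends T) e₀ ≠ Finset.univ ∧
      (side (spanEnds ends T) e₀)ᶜ.Nonempty ∧ (side (spanEnds ends T) e₀)ᶜ ≠ Finset.univ := by
  have h1 : (ends e₀.1).1 ∈ side (spanEnds ends T) e₀ := fst_mem_side (spanEnds ends T) e₀
  have h2 : (ends e₀.1).2 ∉ side (spanEnds ends T) e₀ :=
    snd_not_mem_side (spanEnds ends T) hT.2 e₀
  refine ⟨⟨_, h1⟩, fun h => h2 (h ▸ Finset.mem_univ _), ⟨_, Finset.mem_compl.mpr h2⟩, fun h => ?_⟩
  have : (ends e₀.1).1 ∈ (side (spanEnds ends T) e₀)ᶜ := h ▸ Finset.mem_univ _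
  exact (Finset.mem_compl.mp this) h1

theorem main (hT : DualGr.IsTree (spanEnds ends T)) (b : ℤ) (φ : V → ℝ)
    (hφ : (∑ v : V, φ v) = (b : ℝ)) (hnd : Nondegenerate ends φ) :
    ∃! m : V → ℤ, totDeg m Tᶜ = b ∧ IsStable ends φ m Tᶜ := by
  classical
  -- uniqueness
  have huniq : ∀ m m' : V → ℤ, (totDeg m Tᶜ = b ∧ IsStable ends φ m Tᶜ) →
      (totDeg m' Tᶜ = b ∧ IsStable ends φ m' Tᶜ) → m = m' := by
    intro m m' ⟨hm1, hm2⟩ ⟨hm1', hm2'⟩
    have hdeg : (∑ v : V, φ v) = (totDeg m Tᶜ : ℝ) := by rw [hφ, hm1]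
    have hdeg' : (∑ v : V, φ v) = (totDeg m' Tᶜ : ℝ) := by rw [hφ, hm1']
    have hbound : ∀ (μ : V → ℤ), (∑ v : V, φ v) = (totDeg μ Tᶜ : ℝ) → IsStable ends φ μ Tᶜ →
        ∀ e₀ : {e // e ∈ T}, -(1/2 : ℝ) < xs ends T φ μ e₀ ∧ xs ends T φ μ e₀ < 1/2 := by
      intro μ hμ hst e₀
      obtain ⟨n1, n2, n3, n4⟩ := side_nonempty ends T hT e₀
      have s1 := hst _ n1 n2
      have s2 := hst _ n3 n4
      have f1 := F_side ends T hT φ μ hμ e₀
      have f2 := F_side_compl ends T hT φ μ hμ e₀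
      unfold F at f1 f2
      constructor <;> linarith
    have hside : ∀ e₀ : {e // e ∈ T}, ∑ v ∈ side (spanEnds ends T) e₀, m v =
        ∑ v ∈ side (spanEnds ends T) e₀, m' v := by
      intro e₀
      obtain ⟨a1, a2⟩ := hbound m hdeg hm2 e₀
      obtain ⟨b1, b2⟩ := hbound m' hdeg' hm2' e₀
      rw [xs_eq] at a1 a2 b1 b2
      have c1 : ((∑ v ∈ side (spanEnds ends T) e₀, m v : ℤ) : ℝ) -
          ((∑ v ∈ side (spanEnds ends T) e₀, m' v : ℤ) : ℝ) < 1 := by linarith
      have c2 : (-1 : ℝ) < ((∑ v ∈ side (spanEnds ends T) e₀, m v : ℤ) : ℝ) -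
          ((∑ v ∈ side (spanEnds ends T) e₀, m' v : ℤ) : ℝ) := by linarith
      have d1 : (∑ v ∈ side (spanEnds ends T) e₀, m v) -
          (∑ v ∈ side (spanEnds ends T) e₀, m' v) < 1 := by exact_mod_cast c1
      have d2 : -1 < (∑ v ∈ side (spanEnds ends T) e₀, m v) -
          (∑ v ∈ side (spanEnds ends T) e₀, m' v) := by exact_mod_cast c2
      omega
    have htot : ∑ v, m v = ∑ v, m' v := by
      unfold totDeg at hm1 hm1'
      omega
    have hz := zero_of_orth (spanEnds ends T) hT.1 hT.2 (fun v => ((m v : ℝ) - (m' v : ℝ)))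
      (fun e₀ => by
        rw [Finset.sum_sub_distrib]
        have := hside e₀
        have h' : ((∑ v ∈ side (spanEnds ends T) e₀, m v : ℤ) : ℝ) =
            ((∑ v ∈ side (spanEnds ends T) e₀, m' v : ℤ) : ℝ) := by rw [this]
        push_cast at h'
        linarith)
      (by
        rw [Finset.sum_sub_distrib]
        have h' : ((∑ v, m v : ℤ) : ℝ) = ((∑ v, m' v : ℤ) : ℝ) := by rw [htot]
        push_cast at h'
        linarith)
    funext v
    have := congrFun hz v
    simp only [Pi.zero_apply] at this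
    have h2 : (m v : ℝ) = (m' v : ℝ) := by linarith
    exact_mod_cast h2
  -- existence
  let A : {e // e ∈ T} → ℝ := fun e' =>
    ∑ v ∈ side (spanEnds ends T) e', (φ v - nN ends T v)
  obtain ⟨m, hm1, hm2⟩ := exists_int_sol (spanEnds ends T) hT
    (fun e' => ⌈A e' - 1/2⌉) (b - (Tᶜ.card : ℤ))
  have htd : totDeg m Tᶜ = b := by
    unfold totDeg; rw [hm2]; ring
  have hdeg : (∑ v : V, φ v) = (totDeg m Tᶜ : ℝ) := by rw [hφ, htd]
  have hx : ∀ e' : {e // e ∈ T}, -(1/2 : ℝ) ≤ xs ends T φ m e' ∧ xs ends T φ m e' ≤ 1/2 := by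
    intro e'
    rw [xs_eq, hm1 e']
    have h1 := Int.le_ceil (A e' - 1/2)
    have h2 := Int.ceil_lt_add_one (A e' - 1/2)
    constructor <;> simp only [A] at h1 h2 ⊢ <;> linarith
  have hss : IsSemistable ends φ m Tᶜ := by
    intro S _ _
    have hF : 0 ≤ F ends φ m Tᶜ S := by
      rw [F_formula ends T hT φ m hdeg]
      exact Finset.sum_nonneg fun e' _ => tt_nonneg ends T φ m S e' (hx e').1 (hx e').2
    unfold F at hF
    linarith
  have hst := hnd m Tᶜ hdeg hss
  exact ⟨m, ⟨htd, hst⟩, fun m' hm' => huniq m' m hm' ⟨htd, hst⟩⟩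

end Groth.Agent.H9.PhiTree
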