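import Mathlib
import Groth.Prelude.Def_W4c5modbuncurvesppStab
import Groth.Agent.Lib.Helper9.Misc.PhiElem
import Groth.Agent.Lib.Helper9.Misc.PhiTree
import Groth.Agent.Lib.Helper9.Misc.SpanTree

set_option autoImplicit false
set_option linter.style.haveILetI false
set_option linter.unusedSectionVars false
set_option linter.unusedVariables false

universe u

namespace Groth.Agent.H9.PhiPoly

open PhiStab LabGraph Groth.Agent.H9.PhiElem Groth.Agent.H9.TreeSys Groth.Agent.H9.PhiTree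
  Groth.Agent.H9.SpanTree

variable {V E : Type u} [Fintype V] [Fintype E] [DecidableEq V] [DecidableEq E]
variable (ends : E → V × V)

/-- a set closed under the inner edges of `S` contains all or none of `S`, when the induced graph
is connected. -/
theorem mem_iff_of_conn (S K : Finset V)
    (hK : ∀ e ∈ PhiStab.inner ends S, ((ends e).1 ∈ K ↔ (ends e).2 ∈ K))
    (hc : LabGraph.Connected (indEnds ends S)) (x y : V) (hx : x ∈ S) (hy : y ∈ S) :
    x ∈ K ↔ y ∈ K := by
  have hp := hc.2 ⟨x, hx⟩ ⟨y, hy⟩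
  have key : ∀ z : {v : V // v ∈ S},
      Relation.ReflTransGen (LabGraph.Adj (indEnds ends S)) ⟨x, hx⟩ z → (x ∈ K ↔ z.1 ∈ K) := by
    intro z hz
    induction hz with
    | refl => exact Iff.rfl
    | @tail b c _ hbc ih =>
      obtain ⟨e', h⟩ := hbc
      have hk := hK e'.1 e'.2
      rcases h with h | h
      · have h1 : (ends e'.1).1 = b.1 := congrArg (fun p => p.1.1) h
        have h2 : (ends e'.1).2 = c.1 := congrArg (fun p => p.2.1) h
        rw [h1, h2] at hk
        exact ih.trans hk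
      · have h1 : (ends e'.1).1 = c.1 := congrArg (fun p => p.1.1) h
        have h2 : (ends e'.1).2 = b.1 := congrArg (fun p => p.2.1) h
        rw [h1, h2] at hk
        exact ih.trans hk.symm
  exact key ⟨y, hy⟩ hp

/-- a spanning tree with at most one edge crossing an elementary vertex set. -/
theorem exists_tree (hconn : LabGraph.Connected ends) (S : Finset V)
    (hS : IsElementary ends S) :
    ∃ (T : Finset E) (e₀ : E), DualGr.IsTree (spanEnds ends T) ∧
      ∀ e ∈ T, (((ends e).1 ∈ S ∧ (ends e).2 ∉ S) ∨ ((ends e).1 ∉ S ∧ (ends e).2 ∈ S)) →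
        e = e₀ := by
  classical
  obtain ⟨hne, hneq⟩ := elem_nonempty ends hS
  obtain ⟨hc1, hc2⟩ := hS
  have hG := connSep_univ ends hconn
  obtain ⟨x, hx, y, hy, e₀, he₀⟩ := hG.2 S (Finset.subset_univ _) hne hneq
  have hyS : y ∉ S := (Finset.mem_sdiff.mp hy).2
  -- endpoints of `e₀`, one in `S` and one outside
  have hcross : ((ends e₀).1 ∈ S ∧ (ends e₀).2 ∈ Sᶜ) ∨ ((ends e₀).1 ∈ Sᶜ ∧ (ends e₀).2 ∈ S) := by
    rcases he₀ with h | h
    · left; rw [h]; exact ⟨hx, Finset.mem_compl.mpr hyS⟩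
    · right; rw [h]; exact ⟨Finset.mem_compl.mpr hyS, hx⟩
  let S' : Finset E := PhiStab.inner ends S ∪ PhiStab.inner ends Sᶜ ∪ {e₀}
  have hCC : CutConn ends S' := by
    intro K hK
    by_cases hKe : K = ∅
    · exact Or.inl hKe
    · right
      obtain ⟨k, hk⟩ := Finset.nonempty_iff_ne_empty.mpr hKe
      have hK1 : ∀ e ∈ PhiStab.inner ends S, ((ends e).1 ∈ K ↔ (ends e).2 ∈ K) := fun e he =>
        hK e (Finset.mem_union_left _ (Finset.mem_union_left _ he))
      have hK2 : ∀ e ∈ PhiStab.inner ends Sᶜ, ((ends e).1 ∈ K ↔ (ends e).2 ∈ K) := fun e he =>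
        hK e (Finset.mem_union_left _ (Finset.mem_union_right _ he))
      have hK0 : (ends e₀).1 ∈ K ↔ (ends e₀).2 ∈ K :=
        hK e₀ (Finset.mem_union_right _ (Finset.mem_singleton_self _))
      have m1 := mem_iff_of_conn ends S K hK1 hc1
      have m2 := mem_iff_of_conn ends Sᶜ K hK2 hc2
      -- both sides lie in `K`
      have hboth : (∀ v ∈ S, v ∈ K) ∧ (∀ v ∈ Sᶜ, v ∈ K) := by
        rcases hcross with ⟨hp, hq⟩ | ⟨hp, hq⟩
        · by_cases hkS : k ∈ S
          · have a1 : ∀ v ∈ S, v ∈ K := fun v hv => (m1 k v hkS hv).1 hk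
            have a2 : (ends e₀).2 ∈ K := hK0.1 (a1 _ hp)
            exact ⟨a1, fun v hv => (m2 _ v hq hv).1 a2⟩
          · have hkS' : k ∈ Sᶜ := Finset.mem_compl.mpr hkS
            have a1 : ∀ v ∈ Sᶜ, v ∈ K := fun v hv => (m2 k v hkS' hv).1 hk
            have a2 : (ends e₀).1 ∈ K := hK0.2 (a1 _ hq)
            exact ⟨fun v hv => (m1 _ v hp hv).1 a2, a1⟩
        · by_cases hkS : k ∈ S
          · have a1 : ∀ v ∈ S, v ∈ K := fun v hv => (m1 k v hkS hv).1 hk
            have a2 : (ends e₀).1 ∈ K := hK0.2 (a1 _ hq)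
            exact ⟨a1, fun v hv => (m2 _ v hp hv).1 a2⟩
          · have hkS' : k ∈ Sᶜ := Finset.mem_compl.mpr hkS
            have a1 : ∀ v ∈ Sᶜ, v ∈ K := fun v hv => (m2 k v hkS' hv).1 hk
            have a2 : (ends e₀).2 ∈ K := hK0.1 (a1 _ hp)
            exact ⟨fun v hv => (m1 _ v hq hv).1 a2, a1⟩
      refine Finset.eq_univ_iff_forall.mpr fun v => ?_
      by_cases hv : v ∈ S
      · exact hboth.1 v hv
      · exact hboth.2 v (Finset.mem_compl.mpr hv)
  obtain ⟨T, hTS, hT⟩ := exists_spanningTree_subset ends hconn.1 S' hCC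
  refine ⟨T, e₀, hT, fun e he hcr => ?_⟩
  have heS' := hTS he
  simp only [S', Finset.mem_union, Finset.mem_singleton, PhiStab.inner, Finset.mem_filter,
    Finset.mem_univ, true_and, Finset.mem_compl] at heS'
  rcases heS' with (⟨h1, h2⟩ | ⟨h1, h2⟩) | h
  · rcases hcr with ⟨_, h4⟩ | ⟨h3, _⟩
    · exact absurd h2 h4
    · exact absurd h1 h3
  · rcases hcr with ⟨h3, _⟩ | ⟨_, h4⟩
    · exact absurd h3 h1
    · exact absurd h4 h2
  · exact h

/-- a stable datum on the complement of a spanning tree has all flows in `(-1/2, 1/2)`. -/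
theorem xs_bound (T : Finset E) (hT : DualGr.IsTree (spanEnds ends T)) (φ : V → ℝ) (μ : V → ℤ)
    (hμ : (∑ v : V, φ v) = (totDeg μ Tᶜ : ℝ)) (hst : IsStable ends φ μ Tᶜ)
    (e₀ : {e // e ∈ T}) : -(1/2 : ℝ) < xs ends T φ μ e₀ ∧ xs ends T φ μ e₀ < 1/2 := by
  obtain ⟨n1, n2, n3, n4⟩ := side_nonempty ends T hT e₀
  have s1 := hst _ n1 n2
  have s2 := hst _ n3 n4
  have f1 := F_side ends T hT φ μ hμ e₀
  have f2 := F_side_compl ends T hT φ μ hμ e₀
  unfold F at f1 f2
  constructor <;> linarith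

/-- the defect of a set crossed by at most one tree edge is less than one. -/
theorem F_lt_one (T : Finset E) (hT : DualGr.IsTree (spanEnds ends T)) (φ : V → ℝ) (μ : V → ℤ)
    (hμ : (∑ v : V, φ v) = (totDeg μ Tᶜ : ℝ)) (hst : IsStable ends φ μ Tᶜ) (S : Finset V) (e₀ : E)
    (hone : ∀ e ∈ T, (((ends e).1 ∈ S ∧ (ends e).2 ∉ S) ∨ ((ends e).1 ∉ S ∧ (ends e).2 ∈ S)) →
      e = e₀) : F ends φ μ Tᶜ S < 1 := by
  rw [F_formula ends T hT φ μ hμ]
  have hzero : ∀ e' : {e // e ∈ T}, e'.1 ≠ e₀ → tt ends T φ μ S e' = 0 := by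
    intro e' hne
    have hnc : ¬ (((ends e'.1).1 ∈ S ∧ (ends e'.1).2 ∉ S) ∨ ((ends e'.1).1 ∉ S ∧ (ends e'.1).2 ∈ S)) :=
      fun h => hne (hone e'.1 e'.2 h)
    unfold tt cr
    by_cases a : (ends e'.1).1 ∈ S <;> by_cases b : (ends e'.1).2 ∈ S <;> simp [a, b] at hnc ⊢
  have hlt : ∀ e' : {e // e ∈ T}, tt ends T φ μ S e' < 1 := by
    intro e'
    obtain ⟨b1, b2⟩ := xs_bound ends T hT φ μ hμ hst e'
    unfold tt cr
    by_cases a : (ends e'.1).1 ∈ S <;> by_cases b : (ends e'.1).2 ∈ S <;> simp [a, b] <;> linarith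
  by_cases he₀ : e₀ ∈ T
  · rw [Finset.sum_eq_single (⟨e₀, he₀⟩ : {e // e ∈ T})]
    · exact hlt _
    · intro e' _ hne
      exact hzero e' (fun h => hne (Subtype.ext h))
    · intro h; exact absurd (Finset.mem_univ _) h
  · rw [Finset.sum_eq_zero]
    · exact zero_lt_one
    · intro e' _
      exact hzero e' (fun h => he₀ (h ▸ e'.2))

theorem main (hconn : LabGraph.Connected ends) (b : ℤ) (φ₁ φ₂ : V → ℝ)
    (h₁ : (∑ v : V, φ₁ v) = (b : ℝ)) (h₂ : (∑ v : V, φ₂ v) = (b : ℝ))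
    (hnd : Nondegenerate ends φ₁) :
    (∀ (m : V → ℤ) (N : Finset E), totDeg m N = b → IsStable ends φ₁ m N →
        IsSemistable ends φ₂ m N) ↔ InClosedPolytope ends φ₁ φ₂ := by
  constructor
  · intro H S hS d hd
    obtain ⟨hne, hneq⟩ := elem_nonempty ends hS
    obtain ⟨T, e₀, hT, hone⟩ := exists_tree ends hconn S hS
    obtain ⟨m, ⟨htd, hst⟩, _⟩ := PhiTree.main ends T hT b φ₁ h₁ hnd
    have hμ : (∑ v : V, φ₁ v) = (totDeg m Tᶜ : ℝ) := by rw [h₁, htd]
    have hlt := F_lt_one ends T hT φ₁ m hμ hst S e₀ hone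
    have hss := H m Tᶜ htd hst S hne hneq
    unfold F at hlt
    unfold ell at hd ⊢
    have hD : (degOn ends m Tᶜ S : ℝ) < (d : ℝ) + 1 := by linarith
    have hD' : degOn ends m Tᶜ S < d + 1 := by exact_mod_cast hD
    have hD'' : (degOn ends m Tᶜ S : ℝ) ≤ (d : ℝ) := by
      have : degOn ends m Tᶜ S ≤ d := by omega
      exact_mod_cast this
    linarith
  · intro hP m N htd hst
    have hdeg : (∑ v : V, φ₂ v) = (totDeg m N : ℝ) := by rw [h₂, htd]
    rw [(PhiElem.main ends hconn φ₂ m N hdeg).1]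
    intro S hS
    obtain ⟨hne, hneq⟩ := elem_nonempty ends hS
    have h1 := hst S hne hneq
    have h2 := hP S hS (degOn ends m N S) (by unfold ell; linarith)
    unfold ell at h2
    linarith

end Groth.Agent.H9.PhiPoly
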