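import Mathlib
import Groth.Prelude.Def_Models

/-! Helper9: Picard group of a numerical type maps injectively to coker a -/

namespace Groth.Agent.H9.Pic

open Models Finset

theorem pic_inj {n : ℕ} (T : Models.NumericalType n) :
    ∃ f : T.Pic →+ T.CokerA, Function.Injective f ∧
      ∀ x : Fin n → ℤ, f (Submodule.Quotient.mk x) = Submodule.Quotient.mk (fun i => T.w i * x i) := by
  classical
  -- the diagonal map
  let D : (Fin n → ℤ) →ₗ[ℤ] (Fin n → ℤ) :=
    { toFun := fun x i => T.w i * x i
      map_add' := by intro x y; funext i; simp [mul_add]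
      map_smul' := by intro c x; funext i; simp; ring }
  have hDa : ∀ y : Fin n → ℤ, D (T.picMatrix.mulVec y) = T.a.mulVec y := by
    intro y
    funext i
    change T.w i * (T.picMatrix.mulVec y) i = (T.a.mulVec y) i
    simp only [Matrix.mulVec, dotProduct, NumericalType.picMatrix, Finset.mul_sum]
    refine Finset.sum_congr rfl (fun j _ => ?_)
    rw [← mul_assoc, Int.mul_ediv_cancel' (T.w_dvd i j)]
  have hle : LinearMap.range (Matrix.mulVecLin T.picMatrix) ≤
      (LinearMap.range (Matrix.mulVecLin T.a)).comap D := by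
    rintro _ ⟨y, rfl⟩
    refine ⟨y, ?_⟩
    simp only [Matrix.mulVecLin_apply]
    exact (hDa y).symm
  let F := Submodule.mapQ _ _ D hle
  refine ⟨F.toAddMonoidHom, ?_, ?_⟩
  · rw [injective_iff_map_eq_zero]
    intro x hx
    obtain ⟨x, rfl⟩ := Submodule.Quotient.mk_surjective _ x
    change F (Submodule.Quotient.mk x) = 0 at hx
    rw [Submodule.mapQ_apply, Submodule.Quotient.mk_eq_zero] at hx
    obtain ⟨y, hy⟩ := hx
    rw [Submodule.Quotient.mk_eq_zero]
    refine ⟨y, ?_⟩
    simp only [Matrix.mulVecLin_apply] at hy ⊢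
    funext i
    have h1 : T.w i * (T.picMatrix.mulVec y) i = T.w i * x i := by
      have := congrFun (hDa y) i
      change T.w i * (T.picMatrix.mulVec y) i = _ at this
      rw [this, hy]
      rfl
    exact mul_left_cancel₀ (T.w_pos i).ne' h1
  · intro x
    rfl

end Groth.Agent.H9.Pic
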