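import Mathlib
import Groth.Agent.H4.NumType

/-! Helper9: the Picard group of a numerical type has rank one -/

namespace Groth.Agent.H9.Pic

open Models Finset Groth.Agent.H4.NumType Module

variable {n : ℕ} (T : NumericalType n)

/-- the kernel of `a` is the line through `m` -/
theorem ker_line (y : Fin n → ℤ) (hy : ∀ l, ∑ j, T.a l j * y j = 0) (i j : Fin n) :
    T.m i * y j = T.m j * y i := by
  classical
  have : Nonempty (Fin n) := ⟨⟨0, T.pos⟩⟩
  obtain ⟨i0, -, hi0⟩ := Finset.exists_min_image (Finset.univ : Finset (Fin n))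
    (fun i => (y i : ℚ) / T.m i) Finset.univ_nonempty
  have hmq : ∀ i, (0 : ℚ) < T.m i := fun i => by exact_mod_cast T.m_pos i
  have hX0 : ∀ i, 0 ≤ T.m i0 * y i - y i0 * T.m i := by
    intro i
    have h := hi0 i (Finset.mem_univ i)
    rw [div_le_div_iff₀ (hmq i0) (hmq i)] at h
    have h' : y i0 * T.m i ≤ y i * T.m i0 := by exact_mod_cast h
    linarith
  have hXz : ∀ i, ¬ 0 < T.m i0 * y i - y i0 * T.m i := by
    intro i hi
    refine key T (fun i => T.m i0 * y i - y i0 * T.m i) hX0 ⟨i, hi⟩ ⟨i0, by ring⟩ ?_
    intro l _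
    have : ∑ j, T.a l j * (T.m i0 * y j - y i0 * T.m j) =
        T.m i0 * ∑ j, T.a l j * y j - y i0 * ∑ j, T.a l j * T.m j := by
      rw [Finset.mul_sum, Finset.mul_sum, ← Finset.sum_sub_distrib]
      exact Finset.sum_congr rfl (fun j _ => by ring)
    rw [this, hy, row_eq]
    simp
  have hX : ∀ i, T.m i0 * y i = y i0 * T.m i := by
    intro i
    have h1 := hX0 i
    have h2 := hXz i
    linarith
  have h1 := hX i
  have h2 := hX j
  have h3 : T.m i0 * (T.m i * y j) = T.m i0 * (T.m j * y i) := by
    calc T.m i0 * (T.m i * y j) = T.m i * (T.m i0 * y j) := by ring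
      _ = T.m i * (y i0 * T.m j) := by rw [h2]
      _ = T.m j * (y i0 * T.m i) := by ring
      _ = T.m j * (T.m i0 * y i) := by rw [h1]
      _ = T.m i0 * (T.m j * y i) := by ring
  exact mul_left_cancel₀ (T.m_pos i0).ne' h3

theorem pic_mulVec (y : Fin n → ℤ) (i : Fin n) :
    T.w i * (T.picMatrix.mulVec y) i = (T.a.mulVec y) i := by
  simp only [Matrix.mulVec, dotProduct, NumericalType.picMatrix, Finset.mul_sum]
  refine Finset.sum_congr rfl (fun j _ => ?_)
  rw [← mul_assoc, Int.mul_ediv_cancel' (T.w_dvd i j)]

theorem finrank_pic : Module.finrank ℤ T.Pic = 1 := by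
  classical
  set P := Matrix.mulVecLin T.picMatrix with hP
  have h1 := (LinearMap.range P).finrank_quotient_add_finrank
  have h2 : finrank ℤ (LinearMap.range P) + finrank ℤ (LinearMap.ker P) = finrank ℤ (Fin n → ℤ) := by
    rw [← P.quotKerEquivRange.finrank_eq]
    exact Submodule.finrank_quotient_add_finrank _
  have hker : finrank ℤ (LinearMap.ker P) = 1 := by
    have hmem : ∀ y : Fin n → ℤ, y ∈ LinearMap.ker P ↔ ∀ l, ∑ j, T.a l j * y j = 0 := by
      intro y
      rw [LinearMap.mem_ker, hP, Matrix.mulVecLin_apply]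
      constructor
      · intro h l
        have := pic_mulVec T y l
        rw [h] at this
        simp only [Pi.zero_apply, mul_zero] at this
        have e : (T.a.mulVec y) l = ∑ j, T.a l j * y j := by
          simp [Matrix.mulVec, dotProduct]
        rw [← e, ← this]
      · intro h
        funext l
        have := pic_mulVec T y l
        have h' : (T.a.mulVec y) l = 0 := by
          simpa [Matrix.mulVec, dotProduct] using h l
        rw [h'] at this
        rcases mul_eq_zero.1 this with h0 | h0
        · exact absurd h0 (T.w_pos l).ne'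
        · exact h0
    apply le_antisymm
    · -- injective map to ℤ
      let i0 : Fin n := ⟨0, T.pos⟩
      let φ : LinearMap.ker P →ₗ[ℤ] ℤ := (LinearMap.proj i0).comp (LinearMap.ker P).subtype
      have hφ : Function.Injective φ := by
        rw [injective_iff_map_eq_zero]
        intro ⟨y, hyk⟩ hy0
        have hy0' : y i0 = 0 := hy0
        have hy := (hmem y).1 hyk
        apply Subtype.ext
        funext j
        have := ker_line T y hy i0 j
        rw [hy0', mul_zero] at this
        rcases mul_eq_zero.1 this with h0 | h0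
        · exact absurd h0 (T.m_pos i0).ne'
        · exact h0
      have := LinearMap.finrank_le_finrank_of_injective hφ
      simpa using this
    · have hm : T.m ∈ LinearMap.ker P := (hmem T.m).2 (row_eq T)
      rw [Nat.succ_le_iff, Module.finrank_pos_iff_exists_ne_zero]
      refine ⟨⟨T.m, hm⟩, ?_⟩
      intro h0
      have := congrArg Subtype.val h0
      have h00 : T.m ⟨0, T.pos⟩ = 0 := congrFun this ⟨0, T.pos⟩
      exact (T.m_pos _).ne' h00
  have hn : finrank ℤ (Fin n → ℤ) = n := by simp
  change finrank ℤ ((Fin n → ℤ) ⧸ LinearMap.range P) = 1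
  omega

end Groth.Agent.H9.Pic
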