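import Mathlib

set_option linter.style.longLine false
set_option linter.unusedVariables false
set_option linter.unusedSectionVars false

namespace Groth.Agent.H9.PicLift

open CommRing TensorProduct

universe u v w

/-- Avoidance in a product of characteristic zero fields: adjust `v` by an integer multiple of an
element of an additive subgroup so that prescribed components become nonzero. -/
theorem avoid {ι : Type*} (L : ι → Type v) [∀ i, Field (L i)] [∀ i, CharZero (L i)]
    (N : AddSubgroup (∀ i, L i)) (hN : ∀ i, ∃ z ∈ N, z i ≠ 0) (v : ∀ i, L i) (n : ℤ) (hn : n ≠ 0)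
    (T : Finset ι) : ∃ w ∈ N, ∀ i ∈ T, (v + n • w) i ≠ 0 := by
  classical
  induction T using Finset.induction_on with
  | empty => exact ⟨0, N.zero_mem, by simp⟩
  | insert i₀ T' hi₀ ih =>
    obtain ⟨w, hw, hT'⟩ := ih
    by_cases h0 : (v + n • w) i₀ ≠ 0
    · refine ⟨w, hw, fun i hi => ?_⟩
      rcases Finset.mem_insert.mp hi with rfl | hi
      · exact h0
      · exact hT' i hi
    · rw [not_not] at h0
      obtain ⟨z, hz, hzi⟩ := hN i₀
      obtain ⟨uu, hu⟩ : ∃ uu : ∀ i, L i, uu = v + n • w := ⟨_, rfl⟩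
      rw [← hu] at h0 hT'
      obtain ⟨a, ha⟩ := Infinite.exists_notMem_finset (insert (0 : ℤ) (T'.image (fun i =>
        if h : ∃ a : ℤ, uu i + ((n * a : ℤ) : L i) * z i = 0 then h.choose else 0)))
      have ha0 : a ≠ 0 := fun h => ha (by rw [h]; exact Finset.mem_insert_self _ _)
      have hcomp : ∀ i, (v + n • (w + a • z)) i = uu i + ((n * a : ℤ) : L i) * z i := by
        intro i
        rw [hu]
        simp only [Pi.add_apply, Pi.smul_apply, Pi.mul_apply, Pi.intCast_apply, zsmul_eq_mul,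
          Int.cast_mul]
        ring
      refine ⟨w + a • z, N.add_mem hw (N.zsmul_mem hz a), fun i hi => ?_⟩
      rw [hcomp]
      rcases Finset.mem_insert.mp hi with rfl | hi
      · rw [h0, zero_add]
        exact mul_ne_zero (Int.cast_ne_zero.mpr (mul_ne_zero hn ha0)) hzi
      · intro hzero
        have hex : ∃ a : ℤ, uu i + ((n * a : ℤ) : L i) * z i = 0 := ⟨a, hzero⟩
        have hch := hex.choose_spec
        have hzi' : z i ≠ 0 := by
          intro h; rw [h, mul_zero, add_zero] at hzero; exact hT' i hi hzero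
        have heq : ((n * a : ℤ) : L i) = ((n * hex.choose : ℤ) : L i) := by
          have h3 : ((n * a : ℤ) : L i) * z i = ((n * hex.choose : ℤ) : L i) * z i :=
            add_left_cancel (hzero.trans hch.symm)
          exact mul_right_cancel₀ hzi' h3
        have hach : a = hex.choose := by
          have h4 := Int.cast_injective (α := L i) heq
          exact mul_left_cancel₀ hn h4
        apply ha
        refine Finset.mem_insert_of_mem (Finset.mem_image.mpr ⟨i, hi, ?_⟩)
        rw [dif_pos hex]; exact hach.symm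

/-- An invertible module over a ring whose quotient by `𝔠` is semilocal is generated by one element
modulo `𝔠`. -/
theorem exists_gen_mod {S : Type u} [CommRing S] (𝔠 : Ideal S) [Finite (MaximalSpectrum (S ⧸ 𝔠))]
    (M : Type v) [AddCommGroup M] [Module S M] [Module.Invertible S M] :
    ∃ v : M, ∀ x : M, ∃ s : S, x - s • v ∈ (𝔠 • (⊤ : Submodule S M)) := by
  have hfree : Module.Free (S ⧸ 𝔠) ((S ⧸ 𝔠) ⊗[S] M) := inferInstance
  obtain ⟨e⟩ := Module.Invertible.free_iff_linearEquiv.mp hfree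
  have hrep : ∀ t : (S ⧸ 𝔠) ⊗[S] M, ∃ v : M, t = (1 : S ⧸ 𝔠) ⊗ₜ[S] v := by
    intro t
    induction t using TensorProduct.induction_on with
    | zero => exact ⟨0, (TensorProduct.tmul_zero _ _).symm⟩
    | tmul s m =>
      obtain ⟨s, rfl⟩ := Ideal.Quotient.mk_surjective s
      refine ⟨s • m, ?_⟩
      rw [← TensorProduct.smul_tmul]
      congr 1
      rw [Algebra.smul_def, mul_one]; rfl
    | add x y hx hy =>
      obtain ⟨a, rfl⟩ := hx; obtain ⟨b, rfl⟩ := hy
      exact ⟨a + b, (TensorProduct.tmul_add _ _ _).symm⟩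
  obtain ⟨v, hv⟩ := hrep (e.symm 1)
  have hev : e ((1 : S ⧸ 𝔠) ⊗ₜ[S] v) = 1 := by rw [← hv, LinearEquiv.apply_symm_apply]
  refine ⟨v, fun x => ?_⟩
  obtain ⟨s, hs⟩ := Ideal.Quotient.mk_surjective (e ((1 : S ⧸ 𝔠) ⊗ₜ[S] x))
  refine ⟨s, ?_⟩
  have h2 : e ((1 : S ⧸ 𝔠) ⊗ₜ[S] (s • v)) = Ideal.Quotient.mk 𝔠 s := by
    have h3 : (1 : S ⧸ 𝔠) ⊗ₜ[S] (s • v) = (Ideal.Quotient.mk 𝔠 s) • ((1 : S ⧸ 𝔠) ⊗ₜ[S] v) := by
      rw [TensorProduct.smul_tmul', smul_eq_mul, mul_one, ← TensorProduct.smul_tmul]
      congr 1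
      rw [Algebra.smul_def, mul_one]; rfl
    rw [h3, map_smul, hev, smul_eq_mul, mul_one]
  have h0 : (1 : S ⧸ 𝔠) ⊗ₜ[S] (x - s • v) = 0 := by
    apply e.injective
    rw [TensorProduct.tmul_sub, map_sub, h2, ← hs, sub_self, map_zero]
  have h5 := congrArg (TensorProduct.quotTensorEquivQuotSMul M 𝔠) h0
  rw [map_zero, ← map_one (Ideal.Quotient.mk 𝔠), TensorProduct.quotTensorEquivQuotSMul_mk_tmul, one_smul,
    Submodule.Quotient.mk_eq_zero] at h5
  exact h5

/-- Normalising an invertible submodule so that it is an ideal comaximal with `𝔠`. -/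
theorem exists_good_unit {ι : Type*} [Finite ι] (L : ι → Type v) [∀ i, Field (L i)]
    [∀ i, CharZero (L i)]
    {S : Type u} [CommRing S] [Algebra S (∀ i, L i)] [FaithfulSMul S (∀ i, L i)]
    (𝔠 : Ideal S) [Finite (MaximalSpectrum (S ⧸ 𝔠))] (n : ℤ) (hn : n ≠ 0) (hnc : (n : S) ∈ 𝔠)
    (y : Pic S) :
    ∃ I : (Submodule S (∀ i, L i))ˣ, Submodule.unitsToPic S (∀ i, L i) I = y ∧
      (I : Submodule S (∀ i, L i)) ≤ 1 ∧
      ∃ i₀ ∈ (I : Submodule S (∀ i, L i)), ∃ c₀ ∈ 𝔠, i₀ + algebraMap S (∀ i, L i) c₀ = 1 := by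
  classical
  cases nonempty_fintype ι
  have hy : y ∈ relPic S (∀ i, L i) := by rw [relPic_eq_top]; trivial
  rw [← Submodule.range_unitsToPic] at hy
  obtain ⟨I, rfl⟩ := hy
  have hIN0 : (I : Submodule S (∀ i, L i)) *
      ((I⁻¹ : (Submodule S (∀ i, L i))ˣ) : Submodule S (∀ i, L i)) = 1 := by
    rw [← Units.val_mul, mul_inv_cancel, Units.val_one]
  have hNI0 : ((I⁻¹ : (Submodule S (∀ i, L i))ˣ) : Submodule S (∀ i, L i)) *
      (I : Submodule S (∀ i, L i)) = 1 := by
    rw [← Units.val_mul, inv_mul_cancel, Units.val_one]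
  have hinvN0 : Module.Invertible S
      ↥((I⁻¹ : (Submodule S (∀ i, L i))ˣ) : Submodule S (∀ i, L i)) := inferInstance
  obtain ⟨N, hNdef⟩ : ∃ N : Submodule S (∀ i, L i),
      N = ((I⁻¹ : (Submodule S (∀ i, L i))ˣ) : Submodule S (∀ i, L i)) := ⟨_, rfl⟩
  have hIN : (I : Submodule S (∀ i, L i)) * N = 1 := by rw [hNdef]; exact hIN0
  have hNI : N * (I : Submodule S (∀ i, L i)) = 1 := by rw [hNdef]; exact hNI0
  have hinvN : Module.Invertible S ↥N := by rw [hNdef]; exact hinvN0
  have h1mem : (1 : ∀ i, L i) ∈ (I : Submodule S (∀ i, L i)) * N := by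
    rw [hIN]; exact Submodule.one_le.mp le_rfl
  -- components
  have hNi : ∀ i, ∃ z ∈ N, z i ≠ 0 := by
    intro i
    have hgen : ∀ y ∈ (I : Submodule S (∀ i, L i)) * N, y i ≠ 0 → ∃ z ∈ N, z i ≠ 0 := by
      intro y hy
      refine Submodule.mul_induction_on hy ?_ ?_
      · intro a ha b hb hab
        refine ⟨b, hb, fun hb0 => hab ?_⟩
        rw [Pi.mul_apply, hb0, mul_zero]
      · intro x y hx hy hxy
        by_cases hx0 : x i ≠ 0
        · exact hx hx0
        · rw [not_not] at hx0
          apply hy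
          intro hy0; apply hxy; rw [Pi.add_apply, hx0, hy0, add_zero]
    exact hgen 1 h1mem (by simp)
  -- generator modulo 𝔠
  obtain ⟨v₀, hv₀⟩ := exists_gen_mod 𝔠 ↥N
  have hgen : ∀ x ∈ N, ∃ s : S, x - s • (v₀ : ∀ i, L i) ∈ 𝔠 • N := by
    intro x hx
    obtain ⟨s, hs⟩ := hv₀ ⟨x, hx⟩
    refine ⟨s, ?_⟩
    have h6 := Submodule.mem_map_of_mem (f := N.subtype) hs
    rw [Submodule.map_smul'', Submodule.map_subtype_top] at h6
    simpa using h6
  -- avoidance
  obtain ⟨w, hw, hwne⟩ := avoid L N.toAddSubgroup hNi (v₀ : ∀ i, L i) n hn Finset.univ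
  have hwN : w ∈ N := hw
  obtain ⟨v', hv'def⟩ : ∃ v' : ∀ i, L i, v' = (v₀ : ∀ i, L i) + n • w := ⟨_, rfl⟩
  have hnw : n • w ∈ 𝔠 • N := by
    rw [← Int.cast_smul_eq_zsmul S n w]; exact Submodule.smul_mem_smul hnc hwN
  have hv'N : v' ∈ N := by
    rw [hv'def]; exact N.add_mem v₀.2 (zsmul_mem hwN n)
  have hv'unit : IsUnit v' := by
    rw [Pi.isUnit_iff]; intro i
    have h7 := hwne i (Finset.mem_univ i)
    rw [← hv'def] at h7
    exact h7.isUnit
  have hgen' : ∀ x ∈ N, ∃ s : S, x - s • v' ∈ 𝔠 • N := by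
    intro x hx
    obtain ⟨s, hs⟩ := hgen x hx
    refine ⟨s, ?_⟩
    have h8 : x - s • v' = (x - s • (v₀ : ∀ i, L i)) - s • (n • w) := by
      rw [hv'def, smul_add]; abel
    rw [h8]
    exact sub_mem hs (Submodule.smul_mem _ s hnw)
  -- the new unit
  obtain ⟨v'u, hv'u⟩ : ∃ v'u : (∀ i, L i)ˣ, (v'u : ∀ i, L i) = v' := ⟨hv'unit.unit, rfl⟩
  obtain ⟨I₁, hI₁def⟩ : ∃ I₁ : (Submodule S (∀ i, L i))ˣ,
      I₁ = Units.map (Submodule.spanSingleton S).toMonoidHom v'u * I := ⟨_, rfl⟩
  have hI₁coe : (I₁ : Submodule S (∀ i, L i)) =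
      Submodule.span S {v'} * (I : Submodule S (∀ i, L i)) := by
    rw [hI₁def, ← hv'u]; rfl
  have hI₁pic : Submodule.unitsToPic S (∀ i, L i) I₁ = Submodule.unitsToPic S (∀ i, L i) I := by
    have hker : Units.map (Submodule.spanSingleton S).toMonoidHom v'u ∈
        (Submodule.unitsToPic S (∀ i, L i)).ker := by
      rw [Submodule.ker_unitsToPic]; exact ⟨v'u, rfl⟩
    rw [hI₁def, map_mul, MonoidHom.mem_ker.mp hker, one_mul]
  have hmulmem : ∀ a ∈ (I : Submodule S (∀ i, L i)), ∀ w ∈ 𝔠 • N,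
      a * w ∈ 𝔠 • (1 : Submodule S (∀ i, L i)) := by
    intro a ha w hw
    refine Submodule.smul_induction_on hw ?_ ?_
    · intro c hc m hm
      rw [mul_smul_comm]
      refine Submodule.smul_mem_smul hc ?_
      rw [← hIN]; exact Submodule.mul_mem_mul ha hm
    · intro x y hx hy
      rw [mul_add]; exact add_mem hx hy
  have hone : ∀ z ∈ 𝔠 • (1 : Submodule S (∀ i, L i)),
      ∃ c₀ ∈ 𝔠, algebraMap S (∀ i, L i) c₀ = z := by
    intro z hz
    refine Submodule.smul_induction_on hz ?_ ?_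
    · intro c hc m hm
      obtain ⟨s, rfl⟩ := Submodule.mem_one.mp hm
      exact ⟨c * s, 𝔠.mul_mem_right _ hc, by rw [map_mul, Algebra.smul_def]⟩
    · rintro x y ⟨a, ha, rfl⟩ ⟨b, hb, rfl⟩
      exact ⟨a + b, 𝔠.add_mem ha hb, map_add _ _ _⟩
  refine ⟨I₁, hI₁pic, ?_, ?_⟩
  · rw [hI₁coe]
    intro x hx
    obtain ⟨a, ha, rfl⟩ := Submodule.mem_span_singleton_mul.mp hx
    rw [← hNI]; exact Submodule.mul_mem_mul hv'N ha
  · have hsum : ∀ y ∈ (I : Submodule S (∀ i, L i)) * N,
        y ∈ (I₁ : Submodule S (∀ i, L i)) ⊔ 𝔠 • (1 : Submodule S (∀ i, L i)) := by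
      intro y hy
      refine Submodule.mul_induction_on hy ?_ ?_
      · intro a ha b hb
        obtain ⟨s, hs⟩ := hgen' b hb
        have h9 : a * b = s • (v' * a) + a * (b - s • v') := by
          rw [mul_sub, mul_smul_comm, mul_comm a v']
          exact (add_sub_cancel _ _).symm
        rw [h9]
        refine Submodule.add_mem_sup ?_ (hmulmem a ha _ hs)
        rw [hI₁coe]
        exact Submodule.smul_mem _ s (Submodule.mem_span_singleton_mul.mpr ⟨a, ha, rfl⟩)
      · intro x y hx hy; exact add_mem hx hy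
    obtain ⟨i₀, hi₀, z, hz, hsum1⟩ := Submodule.mem_sup.mp (hsum 1 h1mem)
    obtain ⟨c₀, hc₀, rfl⟩ := hone z hz
    exact ⟨i₀, hi₀, c₀, hc₀, hsum1⟩

/-- Lifting an invertible ideal comaximal with the conductor through a Milnor square. -/
theorem lift_of_comax {R S : Type u} [CommRing R] [CommRing S] [Algebra R S]
    {B : Type v} [CommRing B] [Algebra S B] [Algebra R B] [IsScalarTower R S B] [FaithfulSMul S B]
    {C : Type w} [CommRing C] [Algebra R C]
    (hRS : Function.Surjective (algebraMap R S))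
    (hinj : ∀ r : R, algebraMap R S r = 0 → algebraMap R C r = 0 → r = 0)
    (I : (Submodule S B)ˣ) (hI1 : (I : Submodule S B) ≤ 1)
    (i₀ : B) (hi₀ : i₀ ∈ (I : Submodule S B)) (c : R) (hc : algebraMap R C c = 0)
    (h1 : i₀ + algebraMap R B c = 1) :
    ∃ x : Pic R, Pic.mapAlgebra R S x = Submodule.unitsToPic S B I := by
  classical
  have hfst : ∀ r : R, (algebraMap R (B × C) r).1 = algebraMap R B r := fun r => rfl
  have hsnd : ∀ r : R, (algebraMap R (B × C) r).2 = algebraMap R C r := fun r => rfl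
  have hfaith : FaithfulSMul R (B × C) := by
    rw [faithfulSMul_iff_algebraMap_injective]
    intro a b hab
    have h0 : algebraMap R (B × C) (a - b) = 0 := by rw [map_sub, hab, sub_self]
    have hB : algebraMap R B (a - b) = 0 := by
      rw [← hfst, h0]; rfl
    have hC : algebraMap R C (a - b) = 0 := by
      rw [← hsnd, h0]; rfl
    have hS : algebraMap R S (a - b) = 0 := by
      apply FaithfulSMul.algebraMap_injective S B
      rw [← IsScalarTower.algebraMap_apply, hB, map_zero]
    exact sub_eq_zero.mp (hinj _ hS hC)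
  have F2 : ∀ a ∈ (I : Submodule S B), ∃ r : R, algebraMap R B r = a := by
    intro a ha
    obtain ⟨s, hs⟩ := Submodule.mem_one.mp (hI1 ha)
    obtain ⟨r, rfl⟩ := hRS s
    exact ⟨r, by rw [IsScalarTower.algebraMap_apply R S B, hs]⟩
  obtain ⟨I', hI'def⟩ : ∃ I' : Submodule R (B × C), I' = (1 : Submodule R (B × C)) ⊓
      Submodule.comap (LinearMap.fst R B C) ((I : Submodule S B).restrictScalars R) := ⟨_, rfl⟩
  have memI' : ∀ a : B × C, a ∈ I' ↔
      (∃ r : R, algebraMap R (B × C) r = a) ∧ a.1 ∈ (I : Submodule S B) := by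
    intro a
    rw [hI'def, Submodule.mem_inf, Submodule.mem_one, Submodule.mem_comap, LinearMap.fst_apply,
      Submodule.restrictScalars_mem]
  have F1 : ∀ r : R, algebraMap R B r ∈ (I : Submodule S B) → algebraMap R (B × C) r ∈ I' := by
    intro r hr
    rw [memI']; exact ⟨⟨r, rfl⟩, hr⟩
  have hI'le : I' ≤ 1 := by rw [hI'def]; exact inf_le_left
  have hINmem : (1 : B) ∈ (I : Submodule S B) * ((I⁻¹ : (Submodule S B)ˣ) : Submodule S B) := by
    rw [← Units.val_mul, mul_inv_cancel, Units.val_one]; exact Submodule.one_le.mp le_rfl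
  have hNI0 : ((I⁻¹ : (Submodule S B)ˣ) : Submodule S B) * (I : Submodule S B) = 1 := by
    rw [← Units.val_mul, inv_mul_cancel, Units.val_one]
  have hmul : I' * (1 / I') = 1 := by
    apply le_antisymm Submodule.mul_one_div_le_one
    rw [Submodule.one_le]
    have hx1 : algebraMap R (B × C) (1 - c) ∈ I' * (1 / I') := by
      have h1' : algebraMap R (B × C) (1 - c) ∈ I' := by
        apply F1
        have h10 : algebraMap R B (1 - c) = i₀ := by
          rw [map_sub, map_one, ← h1]; ring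
        rw [h10]; exact hi₀
      have h1'' : (1 : B × C) ∈ (1 / I' : Submodule R (B × C)) := by
        rw [Submodule.mem_div_iff_forall_mul_mem]
        intro y hy; rw [one_mul]; exact hI'le hy
      have h11 := Submodule.mul_mem_mul h1' h1''
      rwa [mul_one] at h11
    have hx2 : algebraMap R (B × C) c ∈ I' * (1 / I') := by
      have key : ∀ y ∈ (I : Submodule S B) * ((I⁻¹ : (Submodule S B)ˣ) : Submodule S B),
          ((algebraMap R B c * y, 0) : B × C) ∈ I' * (1 / I') := by
        intro y hy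
        refine Submodule.mul_induction_on hy ?_ ?_
        · intro a ha b hb
          obtain ⟨r, hr⟩ := F2 a ha
          have ha' : algebraMap R (B × C) r ∈ I' := F1 r (by rw [hr]; exact ha)
          have hb' : ((algebraMap R B c * b, 0) : B × C) ∈ (1 / I' : Submodule R (B × C)) := by
            rw [Submodule.mem_div_iff_forall_mul_mem]
            intro z hz
            rw [memI'] at hz
            obtain ⟨⟨r', rfl⟩, hz2⟩ := hz
            have hbz : b * algebraMap R B r' ∈ (1 : Submodule S B) := by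
              rw [← hNI0]; exact Submodule.mul_mem_mul hb hz2
            obtain ⟨s, hs⟩ := Submodule.mem_one.mp hbz
            obtain ⟨r'', rfl⟩ := hRS s
            rw [Submodule.mem_one]
            refine ⟨c * r'', ?_⟩
            refine Prod.ext ?_ ?_
            · simp only [Prod.fst_mul, hfst, map_mul]
              rw [IsScalarTower.algebraMap_apply R S B r'', hs]; ring
            · simp only [Prod.snd_mul, hsnd, map_mul, hc, zero_mul]
          have h12 := Submodule.mul_mem_mul ha' hb'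
          have h13 : ((algebraMap R B c * (a * b), 0) : B × C) =
              algebraMap R (B × C) r * ((algebraMap R B c * b, 0) : B × C) := by
            refine Prod.ext ?_ ?_
            · simp only [Prod.fst_mul, hfst, hr]; ring
            · simp only [Prod.snd_mul, mul_zero]
          rw [h13]; exact h12
        · intro x y hx hy
          have h14 : ((algebraMap R B c * (x + y), 0) : B × C) =
              (algebraMap R B c * x, 0) + (algebraMap R B c * y, 0) := by
            refine Prod.ext ?_ ?_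
            · simp only [Prod.fst_add, mul_add]
            · simp only [Prod.snd_add, add_zero]
          rw [h14]; exact add_mem hx hy
      have h15 := key 1 hINmem
      have h16 : algebraMap R (B × C) c = ((algebraMap R B c * 1, 0) : B × C) := by
        refine Prod.ext ?_ ?_
        · simp only [hfst, mul_one]
        · simp only [hsnd, hc]
      rw [h16]; exact h15
    have h17 : (1 : B × C) = algebraMap R (B × C) (1 - c) + algebraMap R (B × C) c := by
      rw [← map_add, sub_add_cancel, map_one]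
    rw [h17]; exact add_mem hx1 hx2
  obtain ⟨I'u, hI'u⟩ : ∃ I'u : (Submodule R (B × C))ˣ, (I'u : Submodule R (B × C)) = I' :=
    ⟨Units.mkOfMulEqOne I' (1 / I') hmul, rfl⟩
  refine ⟨Submodule.unitsToPic R (B × C) I'u, ?_⟩
  rw [Pic.mapAlgebra_apply]
  show Pic.mk S _ = Pic.mk S ↥(I : Submodule S B)
  rw [Pic.mk_eq_mk_iff]
  have hmemu : ∀ a : ↥(I'u : Submodule R (B × C)), (a : B × C).1 ∈ (I : Submodule S B) := by
    intro a
    have h18 : (a : B × C) ∈ I' := by rw [← hI'u]; exact a.2
    exact ((memI' _).mp h18).2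
  let g₀ : ↥(I'u : Submodule R (B × C)) →ₗ[R] ↥(I : Submodule S B) :=
    { toFun := fun a => ⟨(a : B × C).1, hmemu a⟩
      map_add' := fun a b => Subtype.ext rfl
      map_smul' := fun r a => Subtype.ext rfl }
  have hg : Function.Surjective (LinearMap.liftBaseChange S g₀) := by
    intro y
    obtain ⟨r, hr⟩ := F2 y.1 y.2
    have h19 : algebraMap R (B × C) r ∈ (I'u : Submodule R (B × C)) := by
      rw [hI'u]; exact F1 r (by rw [hr]; exact y.2)
    refine ⟨(1 : S) ⊗ₜ[R] ⟨algebraMap R (B × C) r, h19⟩, ?_⟩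
    rw [LinearMap.liftBaseChange_tmul, one_smul]
    exact Subtype.ext hr
  have hbij := Module.Invertible.bijective_of_surjective hg
  exact ⟨TensorProduct.AlgebraTensorModule.congr (LinearEquiv.refl S S)
    (Submodule.unitsToPicEquiv I'u) ≪≫ₗ LinearEquiv.ofBijective _ hbij⟩

/-- Surjectivity of the map of Picard groups along a surjection in a Milnor square with
semilocal corner. -/
theorem pic_surj {R S : Type u} [CommRing R] [CommRing S] [Algebra R S]
    {ι : Type*} [Finite ι] (L : ι → Type v) [∀ i, Field (L i)] [∀ i, CharZero (L i)]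
    [Algebra S (∀ i, L i)] [Algebra R (∀ i, L i)] [IsScalarTower R S (∀ i, L i)]
    [FaithfulSMul S (∀ i, L i)]
    {C : Type w} [CommRing C] [Algebra R C]
    (hRS : Function.Surjective (algebraMap R S))
    (hinj : ∀ r : R, algebraMap R S r = 0 → algebraMap R C r = 0 → r = 0)
    [Finite (MaximalSpectrum (S ⧸ Ideal.map (algebraMap R S) (RingHom.ker (algebraMap R C))))]
    (n : ℤ) (hn : n ≠ 0)
    (hnc : (n : S) ∈ Ideal.map (algebraMap R S) (RingHom.ker (algebraMap R C))) :
    Function.Surjective (Pic.mapAlgebra R S) := by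
  intro y
  obtain ⟨I, hIy, hI1, i₀, hi₀, c₀, hc₀, h1⟩ :=
    exists_good_unit L (Ideal.map (algebraMap R S) (RingHom.ker (algebraMap R C))) n hn hnc y
  obtain ⟨c, hc, rfl⟩ := (Ideal.mem_map_iff_of_surjective _ hRS).mp hc₀
  obtain ⟨x, hx⟩ := lift_of_comax (C := C) hRS hinj I hI1 i₀ hi₀ c (RingHom.mem_ker.mp hc)
    (by rw [IsScalarTower.algebraMap_apply R S (∀ i, L i)]; exact h1)
  exact ⟨x, hx.trans hIy⟩

end Groth.Agent.H9.PicLift
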