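import Mathlib
import Groth.Agent.Lib.Helper9.Misc.PlkA
set_option autoImplicit false
set_option linter.unusedSectionVars false
set_option linter.unusedVariables false

namespace Groth.Agent.H9.Plk

open W4bk4grassmannian MvPolynomial

variable {e n : ℕ} (K : Type*) [CommRing K]

theorem eval_quadric (f : Idx (e + 1) n → K) (i' : Idx e n) (j' : Idx (e + 2) n) :
    MvPolynomial.eval f (quadric K i' j') =
      ∑ h : Fin (e + 2), (-1) ^ (h.val + 1) *
        EC K f (Fin.snoc i'.1 (j'.1 h) : Fin (e + 1) → Fin n) * EC K f (j'.1 ∘ h.succAbove) := by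
  unfold quadric EC
  rw [map_sum]
  apply Finset.sum_congr rfl
  intro h _
  rw [map_mul, map_mul, map_pow, map_neg, map_one]

theorem plucker_det (A : Matrix (Fin n) (Fin (e + 1)) K) (u : Fin e → Fin n)
    (v : Fin (e + 2) → Fin n) :
    ∑ h : Fin (e + 2), (-1) ^ (h.val + 1) *
      (A.submatrix (Fin.snoc u (v h) : Fin (e + 1) → Fin n) id).det *
        (A.submatrix (v ∘ h.succAbove) id).det = 0 := by
  set G : Fin (e + 1) → K := fun j => (A.submatrix u j.succAbove).det with hG
  have hrow : ∀ h : Fin (e + 2),
      (A.submatrix (Fin.snoc u (v h) : Fin (e + 1) → Fin n) id).det =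
        ∑ j : Fin (e + 1), (-1) ^ (e + j.val) * A (v h) j * G j := by
    intro h
    rw [Matrix.det_succ_row _ (Fin.last e)]
    apply Finset.sum_congr rfl
    intro j _
    have h1 : (A.submatrix (Fin.snoc u (v h) : Fin (e + 1) → Fin n) id) (Fin.last e) j =
        A (v h) j := by
      simp [Matrix.submatrix_apply]
    have h2 : (A.submatrix (Fin.snoc u (v h) : Fin (e + 1) → Fin n) id).submatrix
        (Fin.last e).succAbove j.succAbove = A.submatrix u j.succAbove := by
      ext s c
      simp [Matrix.submatrix_apply, Fin.succAbove_last]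
    rw [h1, h2]
    simp only [Fin.val_last, hG]
  have hcol : ∀ j : Fin (e + 1), ∑ h : Fin (e + 2),
      (-1) ^ (h.val) * A (v h) j * (A.submatrix (v ∘ h.succAbove) id).det = 0 := by
    intro j
    let W : Matrix (Fin (e + 2)) (Fin (e + 2)) K :=
      Matrix.of fun h c => Fin.cases (A (v h) j) (fun c' => A (v h) c') c
    have hW : W.det = 0 :=
      Matrix.det_zero_of_column_eq (i := 0) (j := j.succ) (Fin.succ_ne_zero j).symm
        (by intro k; simp [W])
    rw [Matrix.det_succ_column_zero] at hW
    rw [← hW]
    apply Finset.sum_congr rfl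
    intro h _
    have h1 : W h 0 = A (v h) j := by simp [W]
    have h2 : W.submatrix h.succAbove Fin.succ = A.submatrix (v ∘ h.succAbove) id := by
      ext s c; simp [W, Matrix.submatrix_apply]
    rw [h1, h2]
  calc ∑ h : Fin (e + 2), (-1) ^ (h.val + 1) *
      (A.submatrix (Fin.snoc u (v h) : Fin (e + 1) → Fin n) id).det *
        (A.submatrix (v ∘ h.succAbove) id).det
      = ∑ h : Fin (e + 2), ∑ j : Fin (e + 1), (-((-1) ^ (e + j.val)) * G j) *
          ((-1) ^ (h.val) * A (v h) j * (A.submatrix (v ∘ h.succAbove) id).det) := by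
        apply Finset.sum_congr rfl
        intro h _
        rw [hrow h, Finset.mul_sum, Finset.sum_mul]
        apply Finset.sum_congr rfl
        intro j _
        ring
    _ = ∑ j : Fin (e + 1), (-((-1) ^ (e + j.val)) * G j) * ∑ h : Fin (e + 2),
          ((-1) ^ (h.val) * A (v h) j * (A.submatrix (v ∘ h.succAbove) id).det) := by
        rw [Finset.sum_comm]
        apply Finset.sum_congr rfl
        intro j _
        rw [Finset.mul_sum]
    _ = 0 := by
        apply Finset.sum_eq_zero
        intro j _
        rw [hcol j, mul_zero]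

theorem minors_quadric (A : Matrix (Fin n) (Fin (e + 1)) K) (i' : Idx e n)
    (j' : Idx (e + 2) n) :
    MvPolynomial.eval (fun θ : Idx (e + 1) n => (A.submatrix θ.1 id).det) (quadric K i' j') = 0 := by
  rw [eval_quadric]
  have := plucker_det K A i'.1 j'.1
  rw [← this]
  apply Finset.sum_congr rfl
  intro h _
  rw [EC_minors, EC_minors]

end Groth.Agent.H9.Plk
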