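import Mathlib
import Groth.Agent.Lib.Helper9.Misc.PlkB
import Groth.Agent.Lib.Helper9.Misc.SmtA
set_option autoImplicit false
set_option linter.unusedSectionVars false
set_option linter.unusedVariables false

namespace Groth.Agent.H9.Plk

open W4bk4grassmannian MvPolynomial

variable {n : ℕ}

/-- the index attached to a finite set -/
def idxOf {m : ℕ} (S : Finset (Fin n)) (h : S.card = m) : Idx m n :=
  ⟨fun t => S.orderEmbOfFin h t, (S.orderEmbOfFin h).strictMono⟩

/-- the set of entries of an index -/
abbrev img {m : ℕ} (τ : Idx m n) : Finset (Fin n) := Finset.univ.image τ.1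

theorem card_img {m : ℕ} (τ : Idx m n) : (img τ).card = m := by
  rw [Finset.card_image_of_injective _ τ.2.injective, Finset.card_univ, Fintype.card_fin]

theorem img_idxOf {m : ℕ} (S : Finset (Fin n)) (h : S.card = m) : img (idxOf S h) = S :=
  Finset.image_orderEmbOfFin_univ S h

theorem idx_ext {m : ℕ} {τ τ' : Idx m n} (h : img τ = img τ') : τ = τ' := by
  have h1 := Finset.orderEmbOfFin_unique (card_img τ) (f := τ.1)
    (fun x => Finset.mem_image_of_mem _ (Finset.mem_univ x)) τ.2
  have h2 := Finset.orderEmbOfFin_unique (card_img τ) (f := τ'.1)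
    (fun x => by rw [h]; exact Finset.mem_image_of_mem _ (Finset.mem_univ x)) τ'.2
  exact Subtype.ext (h1.trans h2.symm)

theorem img_sortIdx {d : ℕ} (a : Fin d → Fin n) (h : (Finset.univ.image a).card = d) :
    img (sortIdx d n a h) = Finset.univ.image a :=
  Finset.image_orderEmbOfFin_univ _ h

theorem image_snoc {m : ℕ} (u : Fin m → Fin n) (y : Fin n) :
    Finset.univ.image (Fin.snoc u y : Fin (m + 1) → Fin n) =
      insert y (Finset.univ.image u) := by
  ext z
  simp only [Finset.mem_image, Finset.mem_univ, true_and, Finset.mem_insert]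
  constructor
  · rintro ⟨t, rfl⟩
    refine Fin.lastCases ?_ (fun s => ?_) t
    · left; simp
    · right; exact ⟨s, by simp⟩
  · rintro (rfl | ⟨s, rfl⟩)
    · exact ⟨Fin.last m, by simp⟩
    · exact ⟨Fin.castSucc s, by simp⟩

theorem image_comp_succAbove {m : ℕ} (v : Fin (m + 1) → Fin n) (hv : Function.Injective v)
    (h : Fin (m + 1)) :
    Finset.univ.image (v ∘ h.succAbove) = (Finset.univ.image v).erase (v h) := by
  rw [← Finset.image_image, Fin.image_succAbove_univ, Finset.compl_singleton,
    Finset.image_erase hv]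

variable (K : Type*) [CommRing K]

theorem EC_sorted {d : ℕ} (f : Idx d n → K) (τ : Idx d n) : EC K f τ.1 = f τ := by
  unfold EC; rw [Groth.Agent.H9.SMT.coord_mono, eval_X]

theorem EC_of_img {d : ℕ} (f : Idx d n → K) (a : Fin d → Fin n) (θ : Idx d n)
    (h : Finset.univ.image a = img θ) :
    EC K f a = (-1) ^ invCount d n a * f θ := by
  have hc : (Finset.univ.image a).card = d := by rw [h, card_img]
  rw [EC_eq, dif_pos hc]
  congr 2
  apply idx_ext
  rw [img_sortIdx, h]

theorem unique_of_quadrics {e : ℕ} (f g : Idx (e + 1) n → K) (θ0 : Idx (e + 1) n)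
    (hf : ∀ (i' : Idx e n) (j' : Idx (e + 2) n), MvPolynomial.eval f (quadric K i' j') = 0)
    (hg : ∀ (i' : Idx e n) (j' : Idx (e + 2) n), MvPolynomial.eval g (quadric K i' j') = 0)
    (hf0 : f θ0 = 1) (hg0 : g θ0 = 1)
    (h1 : ∀ θ : Idx (e + 1) n, (img θ \ img θ0).card ≤ 1 → f θ = g θ) :
    ∀ θ, f θ = g θ := by
  classical
  intro θ
  induction' hk : (img θ \ img θ0).card using Nat.strong_induction_on with k ih generalizing θ
  by_cases hk1 : k ≤ 1
  · exact h1 θ (by rw [hk]; exact hk1)
  · have hne : (img θ \ img θ0).Nonempty := by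
      rw [← Finset.card_pos, hk]; omega
    obtain ⟨x, hx⟩ := hne
    obtain ⟨hxθ, hx0⟩ := Finset.mem_sdiff.1 hx
    have hS' : ((img θ).erase x).card = e := by
      rw [Finset.card_erase_of_mem hxθ, card_img]; rfl
    have hJ : (insert x (img θ0)).card = e + 2 := by
      rw [Finset.card_insert_of_notMem hx0, card_img]
    have himg_i : img (idxOf _ hS') = (img θ).erase x := img_idxOf _ hS'
    have himg_j : img (idxOf _ hJ) = insert x (img θ0) := img_idxOf _ hJ
    generalize idxOf _ hS' = i' at himg_i
    generalize idxOf _ hJ = j' at himg_j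
    have hxj : x ∈ img j' := by rw [himg_j]; exact Finset.mem_insert_self _ _
    obtain ⟨p, -, hp⟩ := Finset.mem_image.1 hxj
    have hjinj : Function.Injective j'.1 := j'.2.injective
    have rf := hf i' j'
    have rg := hg i' j'
    rw [eval_quadric] at rf rg
    -- second factors
    have hB : ∀ h : Fin (e + 2), ∀ F : Idx (e + 1) n → K,
        EC K F (j'.1 ∘ h.succAbove) =
          F ⟨j'.1 ∘ h.succAbove, j'.2.comp (Fin.strictMono_succAbove h)⟩ := by
      intro h F
      exact EC_sorted K F ⟨j'.1 ∘ h.succAbove, j'.2.comp (Fin.strictMono_succAbove h)⟩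
    have hBimg : ∀ h : Fin (e + 2),
        img (⟨j'.1 ∘ h.succAbove, j'.2.comp (Fin.strictMono_succAbove h)⟩ : Idx (e + 1) n) =
          (insert x (img θ0)).erase (j'.1 h) := by
      intro h
      show Finset.univ.image (j'.1 ∘ h.succAbove) = _
      rw [image_comp_succAbove j'.1 hjinj h, ← himg_j]
    have hterm : ∀ h : Fin (e + 2), h ≠ p →
        (-1) ^ (h.val + 1) * EC K f (Fin.snoc i'.1 (j'.1 h) : Fin (e + 1) → Fin n) *
            EC K f (j'.1 ∘ h.succAbove) =
          (-1) ^ (h.val + 1) * EC K g (Fin.snoc i'.1 (j'.1 h) : Fin (e + 1) → Fin n) *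
            EC K g (j'.1 ∘ h.succAbove) := by
      intro h hhp
      have hy : j'.1 h ≠ x := by
        rw [← hp]; exact fun hh => hhp (hjinj hh)
      have hy0 : j'.1 h ∈ img θ0 := by
        have : j'.1 h ∈ img j' := Finset.mem_image_of_mem _ (Finset.mem_univ h)
        rw [himg_j, Finset.mem_insert] at this
        exact this.resolve_left hy
      -- second factor
      have e2 : EC K f (j'.1 ∘ h.succAbove) = EC K g (j'.1 ∘ h.succAbove) := by
        rw [hB h f, hB h g]
        apply h1
        rw [hBimg h]
        have hsub : (insert x (img θ0)).erase (j'.1 h) \ img θ0 ⊆ {x} := by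
          intro z hz
          obtain ⟨hz1, hz2⟩ := Finset.mem_sdiff.1 hz
          have hz3 := (Finset.mem_erase.1 hz1).2
          rw [Finset.mem_insert] at hz3
          rcases hz3 with rfl | hz3
          · exact Finset.mem_singleton_self _
          · exact absurd hz3 hz2
        exact le_trans (Finset.card_le_card hsub) (by simp)
      -- first factor
      have e1 : EC K f (Fin.snoc i'.1 (j'.1 h) : Fin (e + 1) → Fin n) =
          EC K g (Fin.snoc i'.1 (j'.1 h) : Fin (e + 1) → Fin n) := by
        rw [EC_eq, EC_eq]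
        by_cases hc : (Finset.univ.image
            (Fin.snoc i'.1 (j'.1 h) : Fin (e + 1) → Fin n)).card = e + 1
        · rw [dif_pos hc, dif_pos hc]
          congr 1
          have himg : img (sortIdx (e + 1) n _ hc) \ img θ0 = (img θ \ img θ0).erase x := by
            rw [img_sortIdx, image_snoc, Finset.insert_sdiff_of_mem _ hy0]
            show img i' \ img θ0 = _
            rw [himg_i, Finset.erase_sdiff_comm]
          refine ih ((img (sortIdx (e + 1) n _ hc) \ img θ0).card) ?_ _ rfl
          rw [himg, Finset.card_erase_of_mem hx, hk]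
          omega
        · rw [dif_neg hc, dif_neg hc]
      rw [e1, e2]
    rw [← Finset.add_sum_erase _ _ (Finset.mem_univ p)] at rf rg
    have hsum : ∑ h ∈ Finset.univ.erase p, (-1) ^ (h.val + 1) *
          EC K f (Fin.snoc i'.1 (j'.1 h) : Fin (e + 1) → Fin n) *
            EC K f (j'.1 ∘ h.succAbove) =
        ∑ h ∈ Finset.univ.erase p, (-1) ^ (h.val + 1) *
          EC K g (Fin.snoc i'.1 (j'.1 h) : Fin (e + 1) → Fin n) *
            EC K g (j'.1 ∘ h.succAbove) :=
      Finset.sum_congr rfl (fun h hh => hterm h (Finset.ne_of_mem_erase hh))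
    rw [hsum] at rf
    -- p-terms
    have hBp : ∀ F : Idx (e + 1) n → K, EC K F (j'.1 ∘ p.succAbove) = F θ0 := by
      intro F
      rw [hB p F]
      congr 1
      apply idx_ext
      rw [hBimg p, hp, Finset.erase_insert hx0]
    have hAp : ∀ F : Idx (e + 1) n → K,
        EC K F (Fin.snoc i'.1 (j'.1 p) : Fin (e + 1) → Fin n) =
          (-1) ^ invCount (e + 1) n (Fin.snoc i'.1 (j'.1 p) : Fin (e + 1) → Fin n) * F θ := by
      intro F
      apply EC_of_img
      rw [image_snoc, hp]
      show insert x (img i') = img θ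
      rw [himg_i, Finset.insert_erase hxθ]
    rw [hBp f, hAp f, hf0] at rf
    rw [hBp g, hAp g, hg0] at rg
    set ε : K := (-1) ^ (p.val + 1) *
      (-1) ^ invCount (e + 1) n (Fin.snoc i'.1 (j'.1 p) : Fin (e + 1) → Fin n) with hε
    have hεε : ε * ε = 1 := by
      rw [hε, ← pow_add, ← pow_add, ← two_mul, pow_mul]; norm_num
    have hmain : ε * f θ = ε * g θ := by
      rw [hε]
      linear_combination rf - rg
    linear_combination ε * hmain + (g θ - f θ) * hεε

end Groth.Agent.H9.Plk
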