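import Mathlib
import Groth.Agent.Lib.Helper9.Misc.PlkC
set_option autoImplicit false
set_option linter.unusedSectionVars false
set_option linter.unusedVariables false

namespace Groth.Agent.H9.Plk

open W4bk4grassmannian MvPolynomial

variable {e n : ℕ}

theorem image_update {m : ℕ} (u : Fin m → Fin n) (hu : Function.Injective u) (t : Fin m)
    (s : Fin n) :
    Finset.univ.image (Function.update u t s) = insert s ((Finset.univ.image u).erase (u t)) := by
  rw [← Finset.image_erase hu]
  ext z
  simp only [Finset.mem_image, Finset.mem_univ, true_and, Finset.mem_insert, Finset.mem_erase]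
  constructor
  · rintro ⟨r, rfl⟩
    by_cases hr : r = t
    · left; rw [hr, Function.update_self]
    · right; exact ⟨r, ⟨hr, trivial⟩, by rw [Function.update_of_ne hr]⟩
  · rintro (rfl | ⟨r, ⟨hr, -⟩, rfl⟩)
    · exact ⟨t, Function.update_self _ _ _⟩
    · exact ⟨r, Function.update_of_ne hr _ _⟩

theorem exists_matrix_of_normalized (K : Type*) [CommRing K] (q : Idx (e + 1) n → K)
    (θ0 : Idx (e + 1) n) (h0 : q θ0 = 1)
    (hq : ∀ (i' : Idx e n) (j' : Idx (e + 2) n), MvPolynomial.eval q (quadric K i' j') = 0) :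
    ∃ A : Matrix (Fin n) (Fin (e + 1)) K,
      ∀ θ : Idx (e + 1) n, q θ = (A.submatrix θ.1 id).det := by
  classical
  let A : Matrix (Fin n) (Fin (e + 1)) K :=
    Matrix.of fun s t => EC K q (Function.update θ0.1 t s)
  have hA : ∀ s t, A s t = EC K q (Function.update θ0.1 t s) := fun s t => rfl
  have hC0 : ∀ t' c : Fin (e + 1), A (θ0.1 t') c = if t' = c then 1 else 0 := by
    intro t' c
    rw [hA]
    by_cases htc : t' = c
    · subst htc
      rw [if_pos rfl, Function.update_eq_self, EC_sorted, h0]
    · rw [if_neg htc, EC_eq, dif_neg]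
      intro hcard
      have hinj := (card_image_iff_injective _).1 hcard
      have : Function.update θ0.1 c (θ0.1 t') c = Function.update θ0.1 c (θ0.1 t') t' := by
        rw [Function.update_self, Function.update_of_ne htc]
      exact htc (hinj this).symm
  have hsub0 : A.submatrix θ0.1 id = 1 := by
    ext s c
    rw [Matrix.submatrix_apply, id, hC0, Matrix.one_apply]
  have hC1 : ∀ (t : Fin (e + 1)) (s : Fin n),
      (A.submatrix (Function.update θ0.1 t s) id).det = A s t := by
    intro t s
    have h1 : A.submatrix (Function.update θ0.1 t s) id =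
        (1 : Matrix (Fin (e + 1)) (Fin (e + 1)) K).updateRow t (A s) := by
      ext r c
      rw [Matrix.submatrix_apply, id, Matrix.updateRow_apply]
      by_cases hr : r = t
      · subst hr; rw [if_pos rfl, Function.update_self]
      · rw [if_neg hr, Function.update_of_ne hr, hC0, Matrix.one_apply]
    rw [h1, ← Matrix.cramer_transpose_apply, Matrix.transpose_one, Matrix.cramer_one]
    rfl
  refine ⟨A, fun θ => ?_⟩
  symm
  refine unique_of_quadrics K (fun θ : Idx (e + 1) n => (A.submatrix θ.1 id).det) q θ0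
    (minors_quadric K A) hq (by show (A.submatrix θ0.1 id).det = 1; rw [hsub0, Matrix.det_one])
    h0 ?_ θ
  intro θ hk
  show (A.submatrix θ.1 id).det = q θ
  by_cases hk0 : (img θ \ img θ0).card = 0
  · have hsub : img θ ⊆ img θ0 :=
      Finset.sdiff_eq_empty_iff_subset.1 (Finset.card_eq_zero.1 hk0)
    have himg : img θ = img θ0 :=
      Finset.eq_of_subset_of_card_le hsub (by rw [card_img, card_img])
    have hθ : θ = θ0 := idx_ext himg
    rw [hθ, hsub0, Matrix.det_one, h0]
  · have hk1 : (img θ \ img θ0).card = 1 := by omega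
    obtain ⟨s, hs⟩ := Finset.card_eq_one.1 hk1
    have hk1' : (img θ0 \ img θ).card = 1 := by
      have e1 := Finset.card_sdiff_add_card_inter (img θ) (img θ0)
      have e2 := Finset.card_sdiff_add_card_inter (img θ0) (img θ)
      rw [Finset.inter_comm] at e2
      rw [card_img] at e1 e2
      omega
    obtain ⟨y, hy⟩ := Finset.card_eq_one.1 hk1'
    have hy' : y ∈ img θ0 \ img θ := by rw [hy]; exact Finset.mem_singleton_self y
    obtain ⟨hy0, hyθ⟩ := Finset.mem_sdiff.1 hy'
    obtain ⟨t, -, ht⟩ := Finset.mem_image.1 hy0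
    have hs' : s ∈ img θ \ img θ0 := by rw [hs]; exact Finset.mem_singleton_self s
    obtain ⟨hsθ, hs0⟩ := Finset.mem_sdiff.1 hs'
    have himg : Finset.univ.image (Function.update θ0.1 t s) = img θ := by
      rw [image_update θ0.1 θ0.2.injective t s, ht]
      ext z
      rw [Finset.mem_insert, Finset.mem_erase]
      constructor
      · rintro (rfl | ⟨hzy, hz0⟩)
        · exact hsθ
        · by_contra hzθ
          have : z ∈ img θ0 \ img θ := Finset.mem_sdiff.2 ⟨hz0, hzθ⟩
          rw [hy, Finset.mem_singleton] at this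
          exact hzy this
      · intro hzθ
        by_cases hz0 : z ∈ img θ0
        · right
          refine ⟨?_, hz0⟩
          rintro rfl
          exact hyθ hzθ
        · left
          have : z ∈ img θ \ img θ0 := Finset.mem_sdiff.2 ⟨hzθ, hz0⟩
          rw [hs, Finset.mem_singleton] at this
          exact this
    have e1 := EC_of_img K q _ θ himg
    have e2 := EC_of_img K (fun θ : Idx (e + 1) n => (A.submatrix θ.1 id).det) _ θ himg
    have e3 := EC_minors K A (Function.update θ0.1 t s)
    have e4 := hC1 t s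
    rw [hA] at e4
    set ε : K := (-1) ^ invCount (e + 1) n (Function.update θ0.1 t s) with hε
    have hεε : ε * ε = 1 := by
      rw [hε, ← pow_add, ← two_mul, pow_mul]; norm_num
    have hmain : ε * (A.submatrix θ.1 id).det = ε * q θ := by
      rw [← e1, ← e4, ← e3, e2]
    linear_combination ε * hmain + (q θ - (A.submatrix θ.1 id).det) * hεε

theorem result' (K : Type*) [Field K] (e n : ℕ) (q : Idx (e + 1) n → K) (hq : q ≠ 0) :
    (∀ (i' : Idx e n) (j' : Idx (e + 2) n), MvPolynomial.eval q (quadric K i' j') = 0) ↔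
      ∃ A : Matrix (Fin n) (Fin (e + 1)) K,
        ∀ θ : Idx (e + 1) n, q θ = (A.submatrix θ.1 id).det := by
  constructor
  · intro hquad
    obtain ⟨θ0, hθ0⟩ : ∃ θ0, q θ0 ≠ 0 := by
      by_contra hcon
      push Not at hcon
      exact hq (funext hcon)
    have hEC : ∀ a : Fin (e + 1) → Fin n,
        EC K (fun θ => (q θ0)⁻¹ * q θ) a = (q θ0)⁻¹ * EC K q a := by
      intro a
      rw [EC_eq, EC_eq]
      split_ifs with h
      · ring
      · rw [mul_zero]
    have hq' : ∀ (i' : Idx e n) (j' : Idx (e + 2) n),
        MvPolynomial.eval (fun θ => (q θ0)⁻¹ * q θ) (quadric K i' j') = 0 := by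
      intro i' j'
      have h1 := hquad i' j'
      rw [eval_quadric] at h1 ⊢
      have h2 : ∑ h : Fin (e + 2), (-1) ^ (h.val + 1) *
          EC K (fun θ => (q θ0)⁻¹ * q θ) (Fin.snoc i'.1 (j'.1 h) : Fin (e + 1) → Fin n) *
            EC K (fun θ => (q θ0)⁻¹ * q θ) (j'.1 ∘ h.succAbove) =
          (q θ0)⁻¹ * (q θ0)⁻¹ * ∑ h : Fin (e + 2), (-1) ^ (h.val + 1) *
            EC K q (Fin.snoc i'.1 (j'.1 h) : Fin (e + 1) → Fin n) *
              EC K q (j'.1 ∘ h.succAbove) := by
        rw [Finset.mul_sum]
        apply Finset.sum_congr rfl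
        intro h _
        rw [hEC, hEC]
        ring
      rw [h2, h1, mul_zero]
    obtain ⟨A', hA'⟩ := exists_matrix_of_normalized K (fun θ => (q θ0)⁻¹ * q θ) θ0
      (inv_mul_cancel₀ hθ0) hq'
    refine ⟨A' * Matrix.diagonal (Function.update (fun _ : Fin (e + 1) => (1 : K)) 0 (q θ0)),
      fun θ => ?_⟩
    have h1 : (A' * Matrix.diagonal (Function.update (fun _ : Fin (e + 1) => (1 : K)) 0 (q θ0))).submatrix
        θ.1 id = (A'.submatrix θ.1 id) *
          Matrix.diagonal (Function.update (fun _ : Fin (e + 1) => (1 : K)) 0 (q θ0)) := by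
      ext s t
      rw [Matrix.submatrix_apply, Matrix.mul_diagonal, Matrix.mul_diagonal,
        Matrix.submatrix_apply]
      rfl
    have hv : ∏ t : Fin (e + 1), Function.update (fun _ : Fin (e + 1) => (1 : K)) 0 (q θ0) t = q θ0 := by
      rw [Fin.prod_univ_succ]
      simp
    rw [h1, Matrix.det_mul, Matrix.det_diagonal, ← hA' θ, hv]
    field_simp
  · rintro ⟨A, hA⟩ i' j'
    have : q = fun θ : Idx (e + 1) n => (A.submatrix θ.1 id).det := funext hA
    rw [this]
    exact minors_quadric K A i' j'

end Groth.Agent.H9.Plk
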