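import Mathlib

/-! Helper9: Chu-Vandermonde for rising products with a step -/

namespace Groth.Agent.H9.Poch

open Finset

variable {A : Type*} [CommRing A]

/-- rising product with step `τ` -/
def R (τ : A) (k : ℕ) (x : A) : A := ∏ i ∈ range k, (x + (i : A) * τ)

theorem R_succ (τ : A) (k : ℕ) (x : A) : R τ (k + 1) x = R τ k x * (x + (k : A) * τ) := by
  simp [R, Finset.prod_range_succ]

theorem R_add (τ x y : A) (n : ℕ) :
    R τ n (x + y) = ∑ ij ∈ antidiagonal n, (n.choose ij.1 : A) * (R τ ij.1 x * R τ ij.2 y) := by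
  induction n with
  | zero => simp [R]
  | succ n ih =>
    rw [R_succ, ih, Finset.sum_antidiagonal_choose_succ_mul (fun i j => R τ i x * R τ j y), Finset.sum_mul,
      ← Finset.sum_add_distrib]
    refine Finset.sum_congr rfl ?_
    intro ij hij
    have hij' : ij.1 + ij.2 = n := by simpa using hij
    have hc : n.choose ij.2 = n.choose ij.1 := by
      rw [← hij']
      exact (Nat.choose_symm_add).symm
    rw [R_succ, R_succ, hc]
    have : (n : A) = (ij.1 : A) + (ij.2 : A) := by rw [← hij']; push_cast; ring
    rw [this]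
    ring

theorem R_neg (τ : A) (m s : ℕ) :
    R τ s (-((m : A) * τ)) = (-1) ^ s * (s.factorial : A) * (m.choose s : A) * τ ^ s := by
  induction s with
  | zero => simp [R]
  | succ s ih =>
    rw [R_succ, ih]
    have h1 : ((s + 1).factorial : A) * ((m.choose (s + 1) : ℕ) : A) =
        (s.factorial : A) * (m.choose s : A) * ((m : A) - s) := by
      by_cases hsm : s ≤ m
      · have := Nat.choose_succ_right_eq m s
        have h2 : ((m.choose (s + 1) * (s + 1) : ℕ) : A) = ((m.choose s * (m - s) : ℕ) : A) := by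
          rw [this]
        rw [Nat.factorial_succ]
        push_cast [Nat.cast_sub hsm] at h2 ⊢
        linear_combination (s.factorial : A) * h2
      · push Not at hsm
        rw [Nat.choose_eq_zero_of_lt hsm, Nat.choose_eq_zero_of_lt (by omega : m < s + 1)]
        simp
    rw [pow_succ, pow_succ]
    linear_combination ((-1 : A) ^ s * τ ^ s * τ) * h1

theorem main (h τ : A) (n m : ℕ) (hnm : n ≤ m) :
    (∏ i ∈ Finset.range n, (h + (i : A) * τ) ^ 2) * ∏ i ∈ Finset.Ico n m, (h + (i : A) * τ) =
      ∑ s ∈ Finset.range (n + 1), (-1 : A) ^ s * (Nat.factorial s : A) * (Nat.choose n s : A) *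
        (Nat.choose m s : A) * τ ^ s * ∏ i ∈ Finset.range (m + n - s), (h + (i : A) * τ) := by
  have hL : (∏ i ∈ Finset.range n, (h + (i : A) * τ) ^ 2) * ∏ i ∈ Finset.Ico n m, (h + (i : A) * τ) =
      R τ n h * R τ m h := by
    rw [Finset.prod_pow, sq, mul_assoc]
    unfold R
    rw [Finset.prod_range_mul_prod_Ico _ hnm]
  rw [hL]
  have hx : h = -((m : A) * τ) + (h + (m : A) * τ) := by ring
  conv_lhs => rw [hx, R_add, ← hx]
  rw [Finset.Nat.sum_antidiagonal_eq_sum_range_succ_mk, Finset.sum_mul]
  refine Finset.sum_congr rfl ?_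
  intro s hs
  have hs' : s ≤ n := by
    have := Finset.mem_range.1 hs
    omega
  rw [R_neg]
  have hshift : R τ (n - s) (h + (m : A) * τ) * R τ m h =
      ∏ i ∈ Finset.range (m + n - s), (h + (i : A) * τ) := by
    unfold R
    have hm : m ≤ m + n - s := by omega
    rw [← Finset.prod_range_mul_prod_Ico _ hm, mul_comm]
    congr 1
    rw [Finset.prod_Ico_eq_prod_range]
    have : m + n - s - m = n - s := by omega
    rw [this]
    refine Finset.prod_congr rfl ?_
    intro i _
    push_cast
    ring
  rw [← hshift]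
  ring

end Groth.Agent.H9.Poch
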