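import Mathlib

set_option autoImplicit false
set_option linter.unusedSectionVars false
set_option linter.unusedVariables false

namespace Groth.Agent.H9.PrdQ

universe u

variable {A : Type u} [CommRing A] [IsDomain A]

theorem prod_dvd_of_primes {ι : Type*} (s : Finset ι) (p : ι → A) (hp : ∀ i ∈ s, Prime (p i))
    (hnd : ∀ i ∈ s, ∀ j ∈ s, i ≠ j → ¬ p i ∣ p j) (x : A) (hx : ∀ i ∈ s, p i ∣ x) :
    ∏ i ∈ s, p i ∣ x := by
  classical
  induction s using Finset.induction_on generalizing x with
  | empty => simp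
  | insert i s hi ih =>
    rw [Finset.prod_insert hi]
    obtain ⟨y, rfl⟩ := ih (fun j hj => hp j (Finset.mem_insert_of_mem hj))
      (fun j hj k hk => hnd j (Finset.mem_insert_of_mem hj) k (Finset.mem_insert_of_mem hk)) x
      (fun j hj => hx j (Finset.mem_insert_of_mem hj))
    have hpi := hp i (Finset.mem_insert_self i s)
    have h1 : p i ∣ (∏ j ∈ s, p j) * y := hx i (Finset.mem_insert_self i s)
    rcases hpi.dvd_or_dvd h1 with h | h
    · exfalso
      obtain ⟨j, hj, hij⟩ := (Prime.dvd_finsetProd_iff hpi _).mp h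
      exact hnd i (Finset.mem_insert_self i s) j (Finset.mem_insert_of_mem hj)
        (by rintro rfl; exact hi hj) hij
    · obtain ⟨z, rfl⟩ := h
      exact ⟨z, by ring⟩

theorem length_pair_mul (a b c : A) (ha : Prime a) (hab : ¬ a ∣ b) :
    Module.length A (A ⧸ Ideal.span ({a, b * c} : Set A)) =
      Module.length A (A ⧸ Ideal.span ({a, c} : Set A)) +
        Module.length A (A ⧸ Ideal.span ({a, b} : Set A)) := by
  have h1 : (Ideal.span ({a, c} : Set A)) ≤
      Submodule.comap (LinearMap.lsmul A A b) (Ideal.span ({a, b * c} : Set A)) := by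
    intro x hx
    rw [Submodule.mem_comap, LinearMap.lsmul_apply, smul_eq_mul]
    obtain ⟨u, v, rfl⟩ := Ideal.mem_span_pair.mp hx
    exact Ideal.mem_span_pair.mpr ⟨b * u, v, by ring⟩
  have h2 : (Ideal.span ({a, b * c} : Set A)) ≤
      Submodule.comap (LinearMap.id : A →ₗ[A] A) (Ideal.span ({a, b} : Set A)) := by
    intro x hx
    obtain ⟨u, v, rfl⟩ := Ideal.mem_span_pair.mp hx
    exact Ideal.mem_span_pair.mpr ⟨u, v * c, by ring⟩
  refine Module.length_eq_add_of_exact
    (Submodule.mapQ (Ideal.span ({a, c} : Set A)) (Ideal.span ({a, b * c} : Set A))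
      (LinearMap.lsmul A A b) h1)
    (Submodule.mapQ (Ideal.span ({a, b * c} : Set A)) (Ideal.span ({a, b} : Set A))
      LinearMap.id h2) ?_ ?_ ?_
  · rw [injective_iff_map_eq_zero]
    intro q hq
    obtain ⟨x, rfl⟩ := Submodule.Quotient.mk_surjective _ q
    rw [Submodule.mapQ_apply, Submodule.Quotient.mk_eq_zero, LinearMap.lsmul_apply,
      smul_eq_mul] at hq
    obtain ⟨u, v, huv⟩ := Ideal.mem_span_pair.mp hq
    have hdvd : a ∣ b * (x - v * c) := ⟨u, by rw [mul_sub, ← huv]; ring⟩
    rcases ha.dvd_or_dvd hdvd with h | h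
    · exact absurd h hab
    · obtain ⟨w, hw⟩ := h
      rw [Submodule.Quotient.mk_eq_zero]
      refine Ideal.mem_span_pair.mpr ⟨w, v, ?_⟩
      have : x = a * w + v * c := by rw [← hw]; ring
      rw [this]; ring
  · intro q
    obtain ⟨x, rfl⟩ := Submodule.Quotient.mk_surjective _ q
    exact ⟨Submodule.Quotient.mk x, by rw [Submodule.mapQ_apply]; rfl⟩
  · intro y
    obtain ⟨x, rfl⟩ := Submodule.Quotient.mk_surjective _ y
    rw [Submodule.mapQ_apply, LinearMap.id_apply, Submodule.Quotient.mk_eq_zero]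
    constructor
    · intro hx
      obtain ⟨u, v, rfl⟩ := Ideal.mem_span_pair.mp hx
      refine ⟨Submodule.Quotient.mk v, ?_⟩
      rw [Submodule.mapQ_apply, LinearMap.lsmul_apply, smul_eq_mul, Submodule.Quotient.eq]
      refine Ideal.mem_span_pair.mpr ⟨-u, 0, by ring⟩
    · rintro ⟨q, hq⟩
      obtain ⟨z, rfl⟩ := Submodule.Quotient.mk_surjective _ q
      rw [Submodule.mapQ_apply, LinearMap.lsmul_apply, smul_eq_mul, Submodule.Quotient.eq] at hq
      obtain ⟨u, v, huv⟩ := Ideal.mem_span_pair.mp hq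
      refine Ideal.mem_span_pair.mpr ⟨-u, z - v * c, ?_⟩
      have : x = b * z - (u * a + v * (b * c)) := by rw [huv]; ring
      rw [this]; ring

theorem length_pair_prod {ι : Type*} (s : Finset ι) (a : A) (g : ι → A) (ha : Prime a)
    (hg : ∀ i ∈ s, ¬ a ∣ g i) :
    Module.length A (A ⧸ Ideal.span ({a, ∏ i ∈ s, g i} : Set A)) =
      ∑ i ∈ s, Module.length A (A ⧸ Ideal.span ({a, g i} : Set A)) := by
  classical
  induction s using Finset.induction_on with
  | empty =>
    rw [Finset.prod_empty, Finset.sum_empty, Module.length_eq_zero_iff]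
    have : Ideal.span ({a, 1} : Set A) = ⊤ :=
      Ideal.eq_top_of_isUnit_mem _ (Ideal.subset_span (by simp)) isUnit_one
    rw [this]
    exact Ideal.Quotient.subsingleton_iff.mpr rfl
  | insert i s hi ih =>
    rw [Finset.prod_insert hi, Finset.sum_insert hi,
      length_pair_mul a (g i) _ ha (hg i (Finset.mem_insert_self i s)),
      ih (fun j hj => hg j (Finset.mem_insert_of_mem hj)), add_comm]

theorem sum_lt_succ {M : Type*} [AddCommMonoid M] (n : ℕ) (F : Fin (n + 1) → Fin (n + 1) → M) :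
    ∑ p ∈ (Finset.univ : Finset (Fin (n + 1) × Fin (n + 1))) with p.1 < p.2, F p.1 p.2 =
      ∑ j : Fin n, F 0 j.succ +
        ∑ p ∈ (Finset.univ : Finset (Fin n × Fin n)) with p.1 < p.2, F p.1.succ p.2.succ := by
  rw [Finset.sum_filter, Finset.sum_filter, Fintype.sum_prod_type, Fintype.sum_prod_type,
    Fin.sum_univ_succ]
  congr 1
  · rw [Fin.sum_univ_succ]
    simp [Fin.succ_pos]
  · apply Finset.sum_congr rfl
    intro i _
    rw [Fin.sum_univ_succ]
    simp [Fin.succ_lt_succ_iff]

end Groth.Agent.H9.PrdQ
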