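import Mathlib
import Groth.Agent.Lib.Helper9.Misc.PrdQA
import Groth.Agent.Lib.Helper3.CA.ABufd2

set_option autoImplicit false
set_option linter.unusedSectionVars false
set_option linter.unusedVariables false

namespace Groth.Agent.H9.PrdQ

universe u

variable {A : Type u} [CommRing A] [IsDomain A]

theorem inj_of {n : ℕ} (f : Fin n → A) (hp : ∀ i, Prime (f i))
    (hnd : ∀ i j, i ≠ j → ¬ f i ∣ f j)
    (φ : (A ⧸ Ideal.span {∏ i, f i}) →ₗ[A] ((i : Fin n) → A ⧸ Ideal.span {f i}))
    (hφ : ∀ (x : A) (i : Fin n), φ (Submodule.Quotient.mk x) i = Submodule.Quotient.mk x) :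
    Function.Injective φ := by
  rw [injective_iff_map_eq_zero]
  intro q hq
  obtain ⟨x, rfl⟩ := Submodule.Quotient.mk_surjective _ q
  rw [Submodule.Quotient.mk_eq_zero, Ideal.mem_span_singleton]
  apply prod_dvd_of_primes Finset.univ f (fun i _ => hp i) (fun i _ j _ hij => hnd i j hij)
  intro i _
  have := congrFun hq i
  rw [hφ, Pi.zero_apply, Submodule.Quotient.mk_eq_zero, Ideal.mem_span_singleton] at this
  exact this

theorem main_aux : ∀ (n : ℕ) (f : Fin n → A) (hp : ∀ i, Prime (f i))
    (hnd : ∀ i j, i ≠ j → ¬ f i ∣ f j)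
    (φ : (A ⧸ Ideal.span {∏ i, f i}) →ₗ[A] ((i : Fin n) → A ⧸ Ideal.span {f i}))
    (hφ : ∀ (x : A) (i : Fin n), φ (Submodule.Quotient.mk x) i = Submodule.Quotient.mk x),
    Module.length A (((i : Fin n) → A ⧸ Ideal.span {f i}) ⧸ LinearMap.range φ) =
      ∑ p ∈ (Finset.univ : Finset (Fin n × Fin n)) with p.1 < p.2,
        Module.length A (A ⧸ Ideal.span ({f p.1, f p.2} : Set A)) := by
  intro n
  induction n with
  | zero =>
    intro f hp hnd φ hφ
    rw [Module.length_eq_zero_iff.mpr inferInstance]
    simp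
  | succ n ih =>
    intro f hp hnd φ hφ
    have hinj := inj_of f hp hnd φ hφ
    have hPle : ∀ i : Fin n, Ideal.span {∏ j : Fin n, f j.succ} ≤ Ideal.span {f i.succ} := fun i =>
      Ideal.span_singleton_le_span_singleton.mpr
        (Finset.dvd_prod_of_mem (fun j : Fin n => f j.succ) (Finset.mem_univ i))
    let φ' : (A ⧸ Ideal.span {∏ i : Fin n, f i.succ}) →ₗ[A]
        ((i : Fin n) → A ⧸ Ideal.span {f i.succ}) :=
      LinearMap.pi (fun i => Submodule.mapQ (Ideal.span {∏ j : Fin n, f j.succ})
        (Ideal.span {f i.succ}) LinearMap.id (hPle i))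
    have hφ' : ∀ (x : A) (i : Fin n), φ' (Submodule.Quotient.mk x) i = Submodule.Quotient.mk x :=
      fun x i => rfl
    have hp' : ∀ i : Fin n, Prime (f i.succ) := fun i => hp _
    have hnd' : ∀ i j : Fin n, i ≠ j → ¬ f i.succ ∣ f j.succ := fun i j hij =>
      hnd _ _ (by simpa [Fin.succ_inj] using hij)
    have hinj' := inj_of (fun i : Fin n => f i.succ) hp' hnd' φ' hφ'
    have hlen' := ih (fun i : Fin n => f i.succ) hp' hnd' φ' hφ'
    let proj : ((i : Fin (n + 1)) → A ⧸ Ideal.span {f i}) →ₗ[A]
        ((i : Fin n) → A ⧸ Ideal.span {f i.succ}) :=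
      LinearMap.pi (fun i => LinearMap.proj i.succ)
    have hproj : ∀ t i, proj t i = t i.succ := fun t i => rfl
    have hle : LinearMap.range φ ≤ Submodule.comap proj (LinearMap.range φ') := by
      rintro _ ⟨q, rfl⟩
      obtain ⟨x, rfl⟩ := Submodule.Quotient.mk_surjective _ q
      refine ⟨Submodule.Quotient.mk x, ?_⟩
      funext i
      rw [hφ', hproj, hφ]
    let gbar := Submodule.mapQ (LinearMap.range φ) (LinearMap.range φ') proj hle
    have hgsurj : Function.Surjective gbar := by
      intro c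
      obtain ⟨t', rfl⟩ := Submodule.Quotient.mk_surjective _ c
      refine ⟨Submodule.Quotient.mk
        (Fin.cons (α := fun i => A ⧸ Ideal.span {f i}) 0 t'), ?_⟩
      rw [Submodule.mapQ_apply]
      congr 1
    let σ : A →ₗ[A] (((i : Fin (n + 1)) → A ⧸ Ideal.span {f i}) ⧸ LinearMap.range φ) :=
      (LinearMap.range φ).mkQ ∘ₗ (LinearMap.single A (fun i => A ⧸ Ideal.span {f i}) 0) ∘ₗ
        (Submodule.mkQ (Ideal.span {f 0}))
    have hσ : ∀ x, σ x = Submodule.Quotient.mk
        (Pi.single (M := fun i => A ⧸ Ideal.span {f i}) 0 (Submodule.Quotient.mk x)) :=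
      fun x => rfl
    have hprod : ∏ i, f i = f 0 * ∏ i : Fin n, f i.succ := Fin.prod_univ_succ f
    have hrange : LinearMap.range σ = LinearMap.ker gbar := by
      ext c
      obtain ⟨t, rfl⟩ := Submodule.Quotient.mk_surjective _ c
      constructor
      · rintro ⟨x, hx⟩
        rw [LinearMap.mem_ker, ← hx, hσ, Submodule.mapQ_apply]
        have : proj (Pi.single (M := fun i => A ⧸ Ideal.span {f i}) 0
            (Submodule.Quotient.mk x)) = 0 := by
          funext i
          rw [hproj, Pi.single_eq_of_ne (Fin.succ_ne_zero i)]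
          rfl
        rw [this, Submodule.Quotient.mk_zero]
      · intro ht
        rw [LinearMap.mem_ker, Submodule.mapQ_apply, Submodule.Quotient.mk_eq_zero] at ht
        obtain ⟨q', hq'⟩ := ht
        obtain ⟨z, rfl⟩ := Submodule.Quotient.mk_surjective _ q'
        obtain ⟨x₀, hx₀⟩ := Submodule.Quotient.mk_surjective _ (t 0)
        refine ⟨x₀ - z, ?_⟩
        rw [hσ, eq_comm, Submodule.Quotient.eq]
        refine ⟨Submodule.Quotient.mk z, ?_⟩
        funext i
        refine Fin.cases ?_ (fun j => ?_) i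
        · rw [hφ, Pi.sub_apply, Pi.single_eq_same, ← hx₀, Submodule.Quotient.mk_sub]
          abel
        · rw [hφ, Pi.sub_apply, Pi.single_eq_of_ne (Fin.succ_ne_zero j), sub_zero]
          have := congrFun hq' j
          rw [hφ', hproj] at this
          exact this
    have hker : LinearMap.ker σ = Ideal.span ({f 0, ∏ i : Fin n, f i.succ} : Set A) := by
      ext x
      rw [LinearMap.mem_ker, hσ, Submodule.Quotient.mk_eq_zero]
      constructor
      · rintro ⟨q, hq⟩
        obtain ⟨w, rfl⟩ := Submodule.Quotient.mk_surjective _ q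
        have h0 := congrFun hq 0
        rw [hφ, Pi.single_eq_same, Submodule.Quotient.eq, Ideal.mem_span_singleton] at h0
        have hsucc : ∀ i : Fin n, f i.succ ∣ w := by
          intro i
          have := congrFun hq i.succ
          rw [hφ, Pi.single_eq_of_ne (Fin.succ_ne_zero i), Submodule.Quotient.mk_eq_zero,
            Ideal.mem_span_singleton] at this
          exact this
        have hP : ∏ i : Fin n, f i.succ ∣ w :=
          prod_dvd_of_primes Finset.univ (fun i : Fin n => f i.succ) (fun i _ => hp' i)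
            (fun i _ j _ hij => hnd' i j hij) w (fun i _ => hsucc i)
        obtain ⟨v, hv⟩ := hP
        obtain ⟨u, hu⟩ := h0
        refine Ideal.mem_span_pair.mpr ⟨-u, v, ?_⟩
        have : x = w - f 0 * u := by rw [← hu]; ring
        rw [this, hv]; ring
      · intro hx
        obtain ⟨u, v, rfl⟩ := Ideal.mem_span_pair.mp hx
        refine ⟨Submodule.Quotient.mk (v * ∏ i : Fin n, f i.succ), ?_⟩
        funext i
        refine Fin.cases ?_ (fun j => ?_) i
        · rw [hφ, Pi.single_eq_same, Submodule.Quotient.eq, Ideal.mem_span_singleton]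
          exact ⟨-u, by ring⟩
        · rw [hφ, Pi.single_eq_of_ne (Fin.succ_ne_zero j), Submodule.Quotient.mk_eq_zero,
            Ideal.mem_span_singleton]
          exact Dvd.dvd.mul_left (Finset.dvd_prod_of_mem (fun j : Fin n => f j.succ)
            (Finset.mem_univ j)) v
    have hstep := Module.length_eq_add_of_exact (LinearMap.ker gbar).subtype gbar
      (Submodule.injective_subtype _) hgsurj (LinearMap.exact_subtype_ker_map gbar)
    have hK : Module.length A (LinearMap.ker gbar) =
        ∑ j : Fin n, Module.length A (A ⧸ Ideal.span ({f 0, f j.succ} : Set A)) := by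
      rw [← hrange, ← (LinearMap.quotKerEquivRange σ).length_eq,
        (Submodule.quotEquivOfEq _ _ hker).length_eq]
      exact length_pair_prod Finset.univ (f 0) (fun j : Fin n => f j.succ) (hp 0)
        (fun j _ => hnd 0 j.succ (Fin.succ_ne_zero j).symm)
    rw [hstep, hK, hlen']
    exact (sum_lt_succ n (fun i j => Module.length A (A ⧸ Ideal.span ({f i, f j} : Set A)))).symm

theorem main (A : Type u) [CommRing A] [IsRegularLocalRing A]
    {n : ℕ} (f : Fin n → A) (hirr : ∀ i, Irreducible (f i))
    (hcop : ∀ i j, i ≠ j → IsRelPrime (f i) (f j))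
    (φ : (A ⧸ Ideal.span {∏ i, f i}) →ₗ[A] ((i : Fin n) → A ⧸ Ideal.span {f i}))
    (hφ : ∀ (x : A) (i : Fin n), φ (Submodule.Quotient.mk x) i = Submodule.Quotient.mk x) :
    Function.Injective φ ∧
      Module.length A (((i : Fin n) → A ⧸ Ideal.span {f i}) ⧸ LinearMap.range φ) =
        ∑ p ∈ (Finset.univ : Finset (Fin n × Fin n)) with p.1 < p.2,
          Module.length A (A ⧸ Ideal.span ({f p.1, f p.2} : Set A)) := by
  obtain ⟨hdom, hufd⟩ := Groth.Agent.H3.ABufd.main A
  haveI := hdom
  haveI := hufd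
  have hp : ∀ i, Prime (f i) := fun i => UniqueFactorizationMonoid.irreducible_iff_prime.mp (hirr i)
  have hnd : ∀ i j, i ≠ j → ¬ f i ∣ f j := by
    intro i j hij hdvd
    exact (hirr i).not_isUnit (hcop i j hij (dvd_refl _) hdvd)
  exact ⟨inj_of f hp hnd φ hφ, main_aux n f hp hnd φ hφ⟩

end Groth.Agent.H9.PrdQ
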