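import Mathlib

/-! Helper9: Grothendieck topology generated by a precoverage with (Loc) and (Stab) -/

namespace Groth.Agent.H9.PreTop

open CategoryTheory

universe v u

theorem main {C : Type u} [Category.{v} C] (P : Precoverage C)
    (hloc : ∀ ⦃X : C⦄ (R : Presieve X), R ∈ P X →
      ∀ (Q : ∀ ⦃Y : C⦄ ⦃f : Y ⟶ X⦄, R f → Presieve Y),
        (∀ ⦃Y : C⦄ ⦃f : Y ⟶ X⦄ (hf : R f), Q hf ∈ P Y) →
          ∃ W ∈ P X, W ≤ (Sieve.generate (R.bind Q)).arrows)
    (hstab : ∀ ⦃X Y : C⦄ (f : Y ⟶ X) (R : Presieve X), R ∈ P X →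
      ∃ T ∈ P Y, T ≤ ((Sieve.generate R).pullback f).arrows) :
    ∃ J : GrothendieckTopology C, ∀ (X : C) (S : Sieve X),
      S ∈ J X ↔ S = ⊤ ∨ ∃ R ∈ P X, R ≤ S.arrows := by
  refine ⟨{ sieves := fun X => {S | S = ⊤ ∨ ∃ R ∈ P X, R ≤ S.arrows}
            top_mem' := fun X => Or.inl rfl
            pullback_stable' := ?_
            transitive' := ?_ }, fun X S => Iff.rfl⟩
  · intro X Y S f hS
    rcases hS with rfl | ⟨R, hR, hRS⟩
    · exact Or.inl (Sieve.pullback_top)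
    · obtain ⟨T, hT, hTle⟩ := hstab f R hR
      refine Or.inr ⟨T, hT, ?_⟩
      intro Z g hg
      have := hTle Z g hg
      exact Sieve.pullback_monotone f ((Sieve.generate_le_iff R S).mpr hRS) g this
  · intro X S hS R' hR'
    rcases hS with rfl | ⟨R, hR, hRS⟩
    · have := hR' (f := 𝟙 X) trivial
      simpa using this
    · -- choose Q_f
      have hQ : ∀ ⦃Y : C⦄ ⦃f : Y ⟶ X⦄ (hf : R f),
          ∃ Q : Presieve Y, Q ∈ P Y ∧ Q ≤ (R'.pullback f).arrows := by
        intro Y f hf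
        rcases hR' (hRS Y f hf) with htop | ⟨Q, hQ, hQle⟩
        · obtain ⟨T, hT, -⟩ := hstab f R hR
          exact ⟨T, hT, by rw [htop]; intro Z g _; trivial⟩
        · exact ⟨Q, hQ, hQle⟩
      choose Q hQP hQle using hQ
      obtain ⟨W, hW, hWle⟩ := hloc R hR Q hQP
      refine Or.inr ⟨W, hW, ?_⟩
      intro Z g hg
      obtain ⟨Y', a, b, ⟨Y, c, f, hf, hc, rfl⟩, rfl⟩ := hWle Z g hg
      have : R'.pullback f c := hQle hf Y' c hc
      exact R'.downward_closed this a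

end Groth.Agent.H9.PreTop
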