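import Mathlib

/-! Helper9: localizations of products of integrally closed domains at primes (S13359). -/

namespace Groth.Agent.H9.ProdNormal
open Polynomial

universe u

section C
variable {R₀ : Type*} [CommRing R₀] [IsDomain R₀] [IsIntegrallyClosed R₀]

lemma dvd_of_scaleRoots {q : R₀[X]} (hq : q.Monic) {a b : R₀} (hb : b ≠ 0)
    (h : eval a (scaleRoots q b) = 0) : ∃ w, w * b = a := by
  let K := FractionRing R₀
  let φ := algebraMap R₀ K
  have hφ : Function.Injective φ := IsFractionRing.injective R₀ K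
  have hb' : φ b ≠ 0 := by rwa [Ne, map_eq_zero_iff φ hφ]
  let v : K := φ a / φ b
  have hv : φ b * v = φ a := mul_div_cancel₀ _ hb'
  have h1 : eval₂ φ (φ b * v) (scaleRoots q b) = φ b ^ q.natDegree * eval₂ φ v q :=
    scaleRoots_eval₂_mul φ v b
  have h2 : eval₂ φ (φ b * v) (scaleRoots q b) = 0 := by
    rw [hv, Polynomial.eval₂_at_apply, h, map_zero]
  have h3 : eval₂ φ v q = 0 := by
    rw [h2] at h1
    exact (mul_eq_zero.1 h1.symm).resolve_left (pow_ne_zero _ hb')
  have hint : IsIntegral R₀ v := ⟨q, hq, h3⟩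
  obtain ⟨w, hw⟩ := IsIntegrallyClosed.isIntegral_iff.1 hint
  refine ⟨w, hφ ?_⟩
  rw [map_mul, hw, mul_comm]; exact hv

end C

variable {ι : Type u} (R : ι → Type u) [∀ i, CommRing (R i)] [∀ i, IsDomain (R i)]

open Classical in
/-- indicator idempotent -/
noncomputable def ind (S : ι → Prop) : (∀ i, R i) := fun i => if S i then 1 else 0

variable (P : Ideal (∀ i, R i)) [P.IsPrime]
variable (D : Type*) [CommRing D] [Algebra (∀ i, R i) D] [IsLocalization.AtPrime D P]

include P in
lemma isDomain : IsDomain D := by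
  classical
  have hnt : Nontrivial D := (IsLocalization.AtPrime.isLocalRing D P).toNontrivial
  have : NoZeroDivisors D := ⟨by
    intro a b hab
    obtain ⟨x, s, rfl⟩ := IsLocalization.exists_mk'_eq P.primeCompl a
    obtain ⟨y, t, rfl⟩ := IsLocalization.exists_mk'_eq P.primeCompl b
    rw [← IsLocalization.mk'_mul, IsLocalization.mk'_eq_zero_iff] at hab
    obtain ⟨u, hu⟩ := hab
    let e : (∀ i, R i) := ind R (fun i => x i = 0)
    have he1 : e * x = 0 := by
      funext i; by_cases h : x i = 0 <;> simp [e, ind, h]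
    have he2 : (1 - e) * ((u : ∀ i, R i) * y) = 0 := by
      funext i
      by_cases h : x i = 0
      · simp [e, ind, h]
      · have h3 : (u : ∀ i, R i) i * (x i * y i) = 0 := congrFun hu i
        have : (u : ∀ i, R i) i * y i = 0 := by
          have : x i * ((u : ∀ i, R i) i * y i) = 0 := by rw [← h3]; ring
          exact (mul_eq_zero.1 this).resolve_left h
        simp [e, ind, h, this]
    by_cases hP : e ∈ P
    · right
      rw [IsLocalization.mk'_eq_zero_iff]
      have h1 : (1 - e) ∉ P := fun h => by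
        have := P.add_mem hP h
        rw [add_sub_cancel] at this
        exact (Ideal.ne_top_iff_one P).1 (Ideal.IsPrime.ne_top ‹_›) this
      refine ⟨⟨(1 - e) * u, P.primeCompl.mul_mem h1 u.2⟩, ?_⟩
      change (1 - e) * (u : ∀ i, R i) * y = 0
      rw [mul_assoc]; exact he2
    · left
      rw [IsLocalization.mk'_eq_zero_iff]
      exact ⟨⟨e, hP⟩, he1⟩⟩
  exact NoZeroDivisors.to_isDomain _

/-- componentwise divisibility -/
lemma exists_quot [∀ i, IsIntegrallyClosed (R i)] {q : (∀ i, R i)[X]} (hq : q.Monic)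
    (x y u : ∀ i, R i) (h : u * eval x (scaleRoots q y) = 0) :
    ∃ w : ∀ i, R i, ∀ i, u i ≠ 0 → y i ≠ 0 → w i * y i = x i := by
  classical
  have key : ∀ i, ∃ wi : R i, u i ≠ 0 → y i ≠ 0 → wi * y i = x i := by
    intro i
    by_cases hi : u i ≠ 0 ∧ y i ≠ 0
    · have hT : (eval x (scaleRoots q y)) i = 0 := by
        have := congrFun h i
        exact (mul_eq_zero.1 this).resolve_left hi.1
      have hqi : (q.map (Pi.evalRingHom R i)).Monic := hq.map _
      have h1 : eval (x i) (scaleRoots (q.map (Pi.evalRingHom R i)) (y i)) = 0 := by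
        have h2 := map_scaleRoots q y (Pi.evalRingHom R i) (by
          rw [hq.leadingCoeff, map_one]; exact one_ne_zero)
        change eval (Pi.evalRingHom R i x) (scaleRoots (q.map (Pi.evalRingHom R i))
          (Pi.evalRingHom R i y)) = 0
        rw [← h2, eval_map, eval₂_at_apply]
        exact hT
      obtain ⟨w, hw⟩ := dvd_of_scaleRoots hqi hi.2 h1
      exact ⟨w, fun _ _ => hw⟩
    · exact ⟨0, fun h1 h2 => absurd ⟨h1, h2⟩ hi⟩
  choose w hw using key
  exact ⟨w, hw⟩

include P in
lemma isIntegrallyClosed [∀ i, IsIntegrallyClosed (R i)] [IsDomain D]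
    (K : Type*) [Field K] [Algebra D K] [IsFractionRing D K] [Algebra (∀ i, R i) K]
    [IsScalarTower (∀ i, R i) D K] :
    IsIntegrallyClosed D := by
  classical
  rw [isIntegrallyClosed_iff K]
  intro z hz
  -- notation
  let φD := algebraMap (∀ i, R i) D
  let ψ := algebraMap D K
  let φ := algebraMap (∀ i, R i) K
  have hφ : ∀ r, φ r = ψ (φD r) := fun r =>
    IsScalarTower.algebraMap_apply _ D _ r
  have hψ : Function.Injective ψ := IsFractionRing.injective _ _
  have hunit : ∀ m : P.primeCompl, φD m ≠ 0 := fun m =>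
    (IsLocalization.map_units D m).ne_zero
  -- z = a / b
  obtain ⟨a, b, hb, rfl⟩ := IsFractionRing.div_surjective (A := D) z
  obtain ⟨x, s₁, rfl⟩ := IsLocalization.exists_mk'_eq P.primeCompl a
  obtain ⟨y, t₁, rfl⟩ := IsLocalization.exists_mk'_eq P.primeCompl b
  set a := IsLocalization.mk' D x s₁ with ha
  set b := IsLocalization.mk' D y t₁ with hb'
  have hb0 : b ≠ 0 := nonZeroDivisors.ne_zero hb
  have hψb : ψ b ≠ 0 := by rwa [Ne, map_eq_zero_iff ψ hψ]
  have hax : a * φD s₁ = φD x := IsLocalization.mk'_spec _ x s₁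
  have hby : b * φD t₁ = φD y := IsLocalization.mk'_spec _ y t₁
  set x' := x * (t₁ : ∀ i, R i) with hx'
  set y' := y * (s₁ : ∀ i, R i) with hy'
  have hx'D : φD x' = a * φD s₁ * φD t₁ := by rw [hx', map_mul, hax]
  have hy'D : φD y' = b * φD t₁ * φD s₁ := by rw [hy', map_mul, hby]
  have hy'0 : φD y' ≠ 0 := by
    rw [hy'D]
    exact mul_ne_zero (mul_ne_zero hb0 (hunit t₁)) (hunit s₁)
  have hφy' : φ y' ≠ 0 := by rw [hφ]; rwa [Ne, map_eq_zero_iff ψ hψ]
  have hzxy : (ψ a / ψ b) * φ y' = φ x' := by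
    rw [hφ, hφ, hx'D, hy'D, map_mul, map_mul, map_mul, map_mul]
    field_simp
  obtain ⟨m, q, hq, hqz⟩ := IsIntegral.exists_multiple_integral_of_isLocalization P.primeCompl _ hz
  change eval₂ φ (m • (ψ a / ψ b)) q = 0 at hqz
  have hmz : m • (ψ a / ψ b) = φ m * (ψ a / ψ b) := by
    rw [Submonoid.smul_def, Algebra.smul_def]
  -- the homogeneous relation
  have hT : φ (eval ((m : ∀ i, R i) * x') (scaleRoots q y')) = 0 := by
    rw [← eval₂_at_apply]
    have h1 : φ ((m : ∀ i, R i) * x') = φ y' * (m • (ψ a / ψ b)) := by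
      rw [hmz, map_mul, ← hzxy]; ring
    rw [h1, scaleRoots_eval₂_mul, hqz, mul_zero]
  have hT' : φD (eval ((m : ∀ i, R i) * x') (scaleRoots q y')) = 0 := by
    apply hψ
    rw [← hφ, hT, map_zero]
  obtain ⟨u, hu⟩ := (IsLocalization.map_eq_zero_iff P.primeCompl D _).1 hT'
  obtain ⟨w, hw⟩ := exists_quot R hq ((m : ∀ i, R i) * x') y' u hu
  -- idempotent
  let e : (∀ i, R i) := ind R (fun i => (u : ∀ i, R i) i ≠ 0 ∧ y' i ≠ 0)
  have he1 : e * (w * y') = e * ((m : ∀ i, R i) * x') := by
    funext i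
    by_cases h : (u : ∀ i, R i) i ≠ 0 ∧ y' i ≠ 0
    · have := hw i h.1 h.2
      simp only [Pi.mul_apply]
      rw [this]
      rfl
    · simp [e, ind, h]
  have he2 : (1 - e) * ((u : ∀ i, R i) * y') = 0 := by
    funext i
    by_cases h : (u : ∀ i, R i) i ≠ 0 ∧ y' i ≠ 0
    · simp [e, ind, h]
    · have : (u : ∀ i, R i) i * y' i = 0 := by
        by_cases hu0 : (u : ∀ i, R i) i = 0
        · rw [hu0, zero_mul]
        · have : y' i = 0 := by
            by_contra hy
            exact h ⟨hu0, hy⟩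
          rw [this, mul_zero]
      simp [this]
  have he3 : φD e = 1 := by
    have h1 := congrArg φD he2
    rw [map_mul, map_mul, map_zero, map_sub, map_one] at h1
    have h2 : (1 - φD e) = 0 :=
      (mul_eq_zero.1 h1).resolve_right (mul_ne_zero (hunit u) hy'0)
    exact (sub_eq_zero.1 h2).symm
  have h4 : φD w * φD y' = φD m * φD x' := by
    have h1 := congrArg φD he1
    rw [map_mul φD e, map_mul φD e, he3, one_mul, one_mul, map_mul φD w y',
      map_mul φD (m : ∀ i, R i) x'] at h1
    exact h1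
  refine ⟨IsLocalization.mk' D w m, ?_⟩
  have hφm : φ m ≠ 0 := by rw [hφ]; rw [Ne, map_eq_zero_iff ψ hψ]; exact hunit m
  have h5 : ψ (IsLocalization.mk' D w m) * φ m = φ w := by
    rw [hφ, hφ, ← map_mul, IsLocalization.mk'_spec]
  have h6 : φ w * φ y' = φ m * φ x' := by
    rw [hφ, hφ, hφ, hφ, ← map_mul ψ, ← map_mul ψ, h4]
  have h7 : (ψ a / ψ b) * φ m = φ w := by
    have : (ψ a / ψ b) * φ m * φ y' = φ w * φ y' := by
      rw [h6, ← hzxy]; ring
    exact mul_right_cancel₀ hφy' this
  exact mul_right_cancel₀ hφm (h5.trans h7.symm)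

set_option synthInstance.maxHeartbeats 400000 in
set_option maxHeartbeats 1600000 in
omit [∀ i, IsDomain (R i)] [P.IsPrime] in
theorem main {ι : Type u} (R : ι → Type u)
    [∀ i, CommRing (R i)] [∀ i, IsDomain (R i)] [∀ i, IsIntegrallyClosed (R i)]
    (P : Ideal (∀ i, R i)) [P.IsPrime] :
    IsDomain (Localization.AtPrime P) ∧ IsIntegrallyClosed (Localization.AtPrime P) := by
  have hD : IsDomain (Localization.AtPrime P) := isDomain R P _
  exact ⟨hD, isIntegrallyClosed R P _ (FractionRing (Localization.AtPrime P))⟩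

end Groth.Agent.H9.ProdNormal
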