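import Mathlib

/-!
# Profinite completion of a discrete group as the fundamental group of finite `G`-sets
-/

set_option autoImplicit false
universe u

namespace Groth.Agent.H9.ProfCompl

open CategoryTheory ProfiniteGrp ProfiniteGrp.ProfiniteCompletion PreGaloisCategory

variable (G : Type u) [Group G]

/-- The carrier of the profinite completion. -/
abbrev Gh : Type u := ↥(completion (GrpCat.of G))

variable {G}

/-- Projection to a finite quotient. -/
def proj (U : FiniteIndexNormalSubgroup G) (x : Gh G) : G ⧸ U.toSubgroup := x.val U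

theorem proj_one (U : FiniteIndexNormalSubgroup G) : proj U (1 : Gh G) = 1 := rfl

theorem proj_mul (U : FiniteIndexNormalSubgroup G) (x y : Gh G) :
    proj U (x * y) = proj U x * proj U y := rfl

theorem proj_eta (U : FiniteIndexNormalSubgroup G) (g : G) :
    proj U (etaFn (GrpCat.of G) g) = (g : G ⧸ U.toSubgroup) := rfl

theorem proj_compat {U V : FiniteIndexNormalSubgroup G} (h : U ≤ V) (x : Gh G) :
    QuotientGroup.map U.toSubgroup V.toSubgroup (MonoidHom.id G) h (proj U x) = proj V x :=
  x.property (homOfLE h)

theorem ext_proj (x y : Gh G) (h : ∀ U, proj U x = proj U y) : x = y :=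
  Subtype.ext (funext h)

theorem isOpen_proj_fiber (U : FiniteIndexNormalSubgroup G) (q : G ⧸ U.toSubgroup) :
    IsOpen {x : Gh G | proj U x = q} := by
  have h1 : Continuous (fun x : Gh G => x.val U) :=
    (continuous_apply U).comp continuous_subtype_val
  have : DiscreteTopology ((diagram (GrpCat.of G)).obj U) := ⟨rfl⟩
  exact (isOpen_discrete ({q} : Set ((diagram (GrpCat.of G)).obj U))).preimage h1

/-- If `proj U x = g` then for all `V ≥ U`, `proj V x = g`. -/
theorem proj_of_le {U V : FiniteIndexNormalSubgroup G} (h : U ≤ V) (x : Gh G) (g : G)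
    (hx : proj U x = (g : G ⧸ U.toSubgroup)) : proj V x = (g : G ⧸ V.toSubgroup) := by
  rw [← proj_compat h, hx]
  rfl

theorem exists_repr (U : FiniteIndexNormalSubgroup G) (x : Gh G) :
    ∃ g : G, proj U x = (g : G ⧸ U.toSubgroup) := by
  obtain ⟨g, hg⟩ := QuotientGroup.mk_surjective (proj U x)
  exact ⟨g, hg.symm⟩

section Act

/-- The kernel of the action on a finite `G`-set, as a finite-index normal subgroup. -/
noncomputable def kerX (X : Action FintypeCat.{u} G) : FiniteIndexNormalSubgroup G :=
  FiniteIndexNormalSubgroup.ofSubgroup (MulAction.toPermHom G X.V).ker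

/-- The induced homomorphism from the quotient by the kernel. -/
noncomputable def liftHom (X : Action FintypeCat.{u} G) :
    G ⧸ (kerX X).toSubgroup →* Equiv.Perm X.V :=
  QuotientGroup.lift (kerX X).toSubgroup (MulAction.toPermHom G X.V)
    (show (MulAction.toPermHom G X.V).ker ≤ (MulAction.toPermHom G X.V).ker from le_rfl)

theorem liftHom_mk (X : Action FintypeCat.{u} G) (g : G) (v : X.V) :
    liftHom X (g : G ⧸ (kerX X).toSubgroup) v = g • v := rfl

/-- The action of the completion on a finite `G`-set. -/
noncomputable def smulFun (X : Action FintypeCat.{u} G) (x : Gh G) (v : X.V) : X.V :=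
  liftHom X (proj (kerX X) x) v

theorem smulFun_of_repr (X : Action FintypeCat.{u} G) {U : FiniteIndexNormalSubgroup G}
    (h : U ≤ kerX X) (x : Gh G) (g : G)
    (hx : proj U x = (g : G ⧸ U.toSubgroup)) (v : X.V) : smulFun X x v = g • v := by
  have h1 := proj_of_le h x g hx
  unfold smulFun
  rw [h1, liftHom_mk]

noncomputable instance instMulActionGh (X : Action FintypeCat.{u} G) :
    MulAction (Gh G) ((Action.forget FintypeCat.{u} G).obj X) where
  smul x v := smulFun X x v
  one_smul v := by
    change smulFun X 1 v = v
    unfold smulFun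
    rw [proj_one, map_one]
    rfl
  mul_smul x y v := by
    change smulFun X (x * y) v = smulFun X x (smulFun X y v)
    unfold smulFun
    rw [proj_mul, map_mul]
    rfl

theorem smul_def (X : Action FintypeCat.{u} G) (x : Gh G)
    (v : (Action.forget FintypeCat.{u} G).obj X) : x • v = smulFun X x v := rfl

theorem eta_smul (X : Action FintypeCat.{u} G) (g : G)
    (v : (Action.forget FintypeCat.{u} G).obj X) :
    (etaFn (GrpCat.of G) g : Gh G) • v = (X.ρ g).hom v :=
  smulFun_of_repr X le_rfl _ g (proj_eta _ g) v

end Act

section Fund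

variable (G)

instance instIsNaturalSMulGh : IsNaturalSMul (Action.forget FintypeCat.{u} G) (Gh G) where
  naturality x X Y f v := by
    obtain ⟨g, hg⟩ := exists_repr (kerX X ⊓ kerX Y) x
    have h1 : ∀ v : X.V, smulFun X x v = g • v := smulFun_of_repr X inf_le_left x g hg
    have h2 : ∀ w : Y.V, smulFun Y x w = g • w := smulFun_of_repr Y inf_le_right x g hg
    change f.hom (smulFun X x v) = smulFun Y x (f.hom v)
    exact (congrArg (fun z => f.hom z) (h1 v)).trans
      ((ConcreteCategory.congr_hom (f.comm g) v).trans (h2 (f.hom v)).symm)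

theorem transitive_of_isConnected (X : Action FintypeCat.{u} G) [IsConnected X] :
    MulAction.IsPretransitive (Gh G) ((Action.forget FintypeCat.{u} G).obj X) where
  exists_smul_eq v w := by
    have := FintypeCat.Action.pretransitive_of_isConnected G X
    obtain ⟨g, hg⟩ : ∃ g : G, g • (show X.V from v) = (show X.V from w) :=
      MulAction.exists_smul_eq G _ _
    exact ⟨etaFn (GrpCat.of G) g, (eta_smul X g v).trans hg⟩

theorem continuousSMul (X : Action FintypeCat.{u} G) :
    ContinuousSMul (Gh G) ((Action.forget FintypeCat.{u} G).obj X) where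
  continuous_smul := by
    rw [continuous_prod_of_discrete_right]
    intro v
    rw [continuous_discrete_rng]
    intro w
    have h : (fun x : Gh G => x • v) ⁻¹' {w}
        = ⋃ q ∈ {q : G ⧸ (kerX X).toSubgroup | liftHom X q v = w}, {x : Gh G | proj (kerX X) x = q} := by
      ext x
      simp only [Set.mem_preimage, Set.mem_singleton_iff, Set.mem_iUnion, Set.mem_ofPred_eq,
        exists_prop, exists_eq_right']
      rfl
    rw [h]
    exact isOpen_biUnion fun q _ => isOpen_proj_fiber _ q

theorem eq_one_of_trivial (x : Gh G)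
    (hx : ∀ (X : Action FintypeCat.{u} G) (v : (Action.forget FintypeCat.{u} G).obj X), x • v = v) :
    x = 1 := by
  refine ext_proj _ _ fun U => ?_
  rw [proj_one]
  let X : Action FintypeCat.{u} G := G ⧸ₐ U.toSubgroup
  obtain ⟨g, hg⟩ := exists_repr (kerX X ⊓ U) x
  have h1 : smulFun X x ((1 : G) : G ⧸ U.toSubgroup) = ((1 : G) : G ⧸ U.toSubgroup) :=
    hx X _
  have h2 : ((g * 1 : G) : G ⧸ U.toSubgroup) = ((1 : G) : G ⧸ U.toSubgroup) :=
    (smulFun_of_repr X inf_le_left x g hg _).symm.trans h1
  rw [mul_one] at h2
  rw [proj_of_le inf_le_right x g hg, h2]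
  rfl

instance instIsFundamentalGroupGh :
    IsFundamentalGroup (Action.forget FintypeCat.{u} G) (Gh G) where
  transitive_of_isGalois X _ := transitive_of_isConnected G X
  continuous_smul X := continuousSMul G X
  non_trivial' x hx := eq_one_of_trivial G x hx

theorem main : ∃ φ : (completion (GrpCat.of G)) ≃ₜ* Aut (Action.forget FintypeCat.{u} G),
    ∀ (g : G) (X : Action FintypeCat.{u} G) (x : X.V),
      (φ (etaFn (GrpCat.of G) g)).hom.app X x = (X.ρ g).hom x := by
  have he := toAutMulEquiv_isHomeomorph (Action.forget FintypeCat.{u} G) (Gh G)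
  refine ⟨{ toMulEquiv := toAutMulEquiv (Action.forget FintypeCat.{u} G) (Gh G)
            continuous_toFun := he.continuous
            continuous_invFun := ?_ }, ?_⟩
  · exact (Equiv.continuous_symm_iff
      (toAutMulEquiv (Action.forget FintypeCat.{u} G) (Gh G)).toEquiv).mpr he.isOpenMap
  · intro g X x
    exact eta_smul X g x

end Fund

end Groth.Agent.H9.ProfCompl
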