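import Mathlib
import Groth.Agent.Lib.Helper9.Misc.Miln

/-! Helper9: projectivity from projectivity modulo two ideals meeting in zero -/

set_option linter.style.haveILetI false
set_option linter.unusedSectionVars false

namespace Groth.Agent.H9.ProjIJ
open scoped TensorProduct

universe u
variable {R : Type u} [CommRing R]

section basic
variable (I : Ideal R) {M : Type u} [AddCommGroup M] [Module R M]

lemma tmul_eq_zero_of_mem (m : M) (hm : m ∈ I • (⊤ : Submodule R M)) :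
    (1 : R ⧸ I) ⊗ₜ[R] m = 0 := by
  refine Submodule.smul_induction_on (p := fun m => (1 : R ⧸ I) ⊗ₜ[R] m = 0) hm ?_ ?_
  · intro i hi n _
    rw [← TensorProduct.smul_tmul]
    have : (i • (1 : R ⧸ I)) = 0 := by
      rw [Algebra.smul_def, mul_one]
      exact Ideal.Quotient.eq_zero_iff_mem.mpr hi
    rw [this, TensorProduct.zero_tmul]
  · intro x y hx hy
    rw [TensorProduct.tmul_add, hx, hy, add_zero]

lemma mem_of_tmul_eq_zero (m : M) (h : (1 : R ⧸ I) ⊗ₜ[R] m = 0) :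
    m ∈ I • (⊤ : Submodule R M) := by
  have := Miln.mem_smul_top_of_tmul_eq_zero (A' := R) (A := R ⧸ I)
    Ideal.Quotient.mk_surjective m h
  rwa [Ideal.Quotient.algebraMap_eq, Ideal.mk_ker] at this

lemma exists_one_tmul (y : (R ⧸ I) ⊗[R] M) : ∃ m : M, y = (1 : R ⧸ I) ⊗ₜ[R] m :=
  Miln.exists_one_tmul (A' := R) (A := R ⧸ I) Ideal.Quotient.mk_surjective y

variable {P : Type u} [AddCommGroup P] [Module R P]

/-- the sub-module of `M` on which `1 ⊗ m = s (1 ⊗ π m)` -/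
def sub (π : M →ₗ[R] P) (s : (R ⧸ I) ⊗[R] P →ₗ[R ⧸ I] (R ⧸ I) ⊗[R] M) : Submodule R M :=
  LinearMap.eqLocus (TensorProduct.mk R (R ⧸ I) M 1)
    ((s.restrictScalars R) ∘ₗ (TensorProduct.mk R (R ⧸ I) P 1) ∘ₗ π)

lemma mem_sub (π : M →ₗ[R] P) (s : (R ⧸ I) ⊗[R] P →ₗ[R ⧸ I] (R ⧸ I) ⊗[R] M) (m : M) :
    m ∈ sub I π s ↔ (1 : R ⧸ I) ⊗ₜ[R] m = s ((1 : R ⧸ I) ⊗ₜ[R] π m) := Iff.rfl

lemma sub_surj (π : M →ₗ[R] P) (hπ : Function.Surjective π)
    (s : (R ⧸ I) ⊗[R] P →ₗ[R ⧸ I] (R ⧸ I) ⊗[R] M)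
    (hs : (π.baseChange (R ⧸ I)) ∘ₗ s = LinearMap.id) :
    ∀ p : P, ∃ m ∈ sub I π s, π m = p := by
  intro p
  obtain ⟨m₀, hm₀⟩ := exists_one_tmul I (s ((1 : R ⧸ I) ⊗ₜ[R] p))
  have h1 : (1 : R ⧸ I) ⊗ₜ[R] (π m₀) = (1 : R ⧸ I) ⊗ₜ[R] p := by
    have := LinearMap.congr_fun hs ((1 : R ⧸ I) ⊗ₜ[R] p)
    rw [LinearMap.comp_apply, hm₀, LinearMap.baseChange_tmul, LinearMap.id_apply] at this
    exact this
  have h2 : π m₀ - p ∈ I • (⊤ : Submodule R P) := by
    apply mem_of_tmul_eq_zero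
    rw [TensorProduct.tmul_sub, h1, sub_self]
  have h3 : I • (⊤ : Submodule R P) = (I • (⊤ : Submodule R M)).map π := by
    rw [Submodule.map_smul'', Submodule.map_top, LinearMap.range_eq_top.mpr hπ]
  rw [h3] at h2
  obtain ⟨g, hg, hgπ⟩ := h2
  refine ⟨m₀ - g, ?_, ?_⟩
  · rw [mem_sub, map_sub, hgπ, sub_sub_cancel, TensorProduct.tmul_sub,
      tmul_eq_zero_of_mem I g hg, sub_zero, hm₀]
  · rw [map_sub, hgπ, sub_sub_cancel]

lemma sub_ker (π : M →ₗ[R] P) (s : (R ⧸ I) ⊗[R] P →ₗ[R ⧸ I] (R ⧸ I) ⊗[R] M)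
    (m : M) (hm : m ∈ sub I π s) (h0 : π m = 0) : m ∈ I • (⊤ : Submodule R M) := by
  apply mem_of_tmul_eq_zero
  rw [(mem_sub I π s m).mp hm, h0, TensorProduct.tmul_zero, map_zero]

end basic

lemma finsupp_coord_mem (I : Ideal R) {ι : Type u} (x : ι →₀ R)
    (hx : x ∈ I • (⊤ : Submodule R (ι →₀ R))) (i : ι) : x i ∈ I := by
  refine Submodule.smul_induction_on (p := fun x : ι →₀ R => x i ∈ I) hx ?_ ?_
  · intro r hr n _
    rw [Finsupp.smul_apply, smul_eq_mul]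
    exact I.mul_mem_right _ hr
  · intro x y hx hy
    rw [Finsupp.add_apply]
    exact I.add_mem hx hy

/-- one step: shrink `M` so that `π` becomes injective modulo `I` -/
lemma step (I : Ideal R) {M P : Type u} [AddCommGroup M] [Module R M] [AddCommGroup P] [Module R P]
    (π : M →ₗ[R] P) (hπ : Function.Surjective π)
    (hI : Module.Projective (R ⧸ I) ((R ⧸ I) ⊗[R] P)) :
    ∃ N : Submodule R M, (∀ p : P, ∃ m ∈ N, π m = p) ∧
      ∀ m ∈ N, π m = 0 → m ∈ I • (⊤ : Submodule R M) := by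
  have hπI : Function.Surjective (π.baseChange (R ⧸ I)) := by
    intro y
    obtain ⟨p, rfl⟩ := exists_one_tmul I y
    obtain ⟨f, rfl⟩ := hπ p
    exact ⟨(1 : R ⧸ I) ⊗ₜ[R] f, LinearMap.baseChange_tmul _ _ _⟩
  obtain ⟨s₁, hs₁⟩ := Module.projective_lifting_property (π.baseChange (R ⧸ I))
    LinearMap.id hπI
  exact ⟨sub I π s₁, sub_surj I π hπ s₁ hs₁, fun m hm h0 => sub_ker I π s₁ m hm h0⟩

lemma free_inf_eq_zero (I J : Ideal R) (hIJ : I ⊓ J = ⊥) {F : Type u} [AddCommGroup F] [Module R F]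
    [Module.Free R F] (x : F) (hI : x ∈ I • (⊤ : Submodule R F))
    (hJ : x ∈ J • (⊤ : Submodule R F)) : x = 0 := by
  let b := Module.Free.chooseBasis R F
  have key : ∀ K : Ideal R, x ∈ K • (⊤ : Submodule R F) →
      b.repr x ∈ K • (⊤ : Submodule R (Module.Free.ChooseBasisIndex R F →₀ R)) := by
    intro K hK
    have : (K • (⊤ : Submodule R F)).map b.repr.toLinearMap ≤
        K • (⊤ : Submodule R (Module.Free.ChooseBasisIndex R F →₀ R)) := by
      rw [Submodule.map_smul'']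
      exact Submodule.smul_mono le_rfl le_top
    exact this ⟨x, hK, rfl⟩
  have h0 : b.repr x = 0 := by
    ext i
    have hi : b.repr x i ∈ I ⊓ J :=
      ⟨finsupp_coord_mem I _ (key I hI) i, finsupp_coord_mem J _ (key J hJ) i⟩
    rw [hIJ] at hi
    simpa using hi
  exact b.repr.map_eq_zero_iff.mp h0

theorem main_aux (I J : Ideal R) (hIJ : I ⊓ J = ⊥) (P : Type u) [AddCommGroup P] [Module R P]
    (hI : Module.Projective (R ⧸ I) ((R ⧸ I) ⊗[R] P))
    (hJ : Module.Projective (R ⧸ J) ((R ⧸ J) ⊗[R] P))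
    (F : Type u) [AddCommGroup F] [Module R F] [Module.Free R F]
    (π : F →ₗ[R] P) (hπ : Function.Surjective π) : Module.Projective R P := by
  obtain ⟨F₁, hs1, hk1⟩ := step I π hπ hI
  have hπ₁ : Function.Surjective (π ∘ₗ F₁.subtype) := by
    intro p
    obtain ⟨m, hm, hmp⟩ := hs1 p
    exact ⟨⟨m, hm⟩, hmp⟩
  obtain ⟨F₂, hs2, hk2⟩ := step J (π ∘ₗ F₁.subtype) hπ₁ hJ
  have hπ₂ : Function.Surjective ((π ∘ₗ F₁.subtype) ∘ₗ F₂.subtype) := by
    intro p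
    obtain ⟨m, hm, hmp⟩ := hs2 p
    exact ⟨⟨m, hm⟩, hmp⟩
  have hinj : Function.Injective ((π ∘ₗ F₁.subtype) ∘ₗ F₂.subtype) := by
    rw [injective_iff_map_eq_zero]
    intro z hz
    have h1 : (z : F₁) ∈ J • (⊤ : Submodule R F₁) := hk2 z.1 z.2 hz
    have h2 : ((z : F₁) : F) ∈ I • (⊤ : Submodule R F) :=
      hk1 _ z.1.2 hz
    have h3 : ((z : F₁) : F) ∈ J • (⊤ : Submodule R F) := by
      have : (J • (⊤ : Submodule R F₁)).map F₁.subtype ≤ J • (⊤ : Submodule R F) := by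
        rw [Submodule.map_smul'']
        exact Submodule.smul_mono le_rfl le_top
      exact this ⟨_, h1, rfl⟩
    have h4 : ((z : F₁) : F) = 0 := free_inf_eq_zero I J hIJ _ h2 h3
    apply Subtype.ext
    apply Subtype.ext
    exact h4
  let e : F₂ ≃ₗ[R] P := LinearEquiv.ofBijective _ ⟨hinj, hπ₂⟩
  refine Module.Projective.of_split (M := F)
    (F₁.subtype ∘ₗ F₂.subtype ∘ₗ e.symm.toLinearMap) π ?_
  ext p
  show π ((e.symm p : F₁) : F) = p
  exact e.apply_symm_apply p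

theorem main (I J : Ideal R) (hIJ : I ⊓ J = ⊥) (P : Type u) [AddCommGroup P] [Module R P]
    (hI : Module.Projective (R ⧸ I) ((R ⧸ I) ⊗[R] P))
    (hJ : Module.Projective (R ⧸ J) ((R ⧸ J) ⊗[R] P)) : Module.Projective R P :=
  main_aux I J hIJ P hI hJ (P →₀ R) (Finsupp.linearCombination R id)
    (Finsupp.linearCombination_id_surjective R P)

end Groth.Agent.H9.ProjIJ
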