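import Mathlib
import Groth.Prelude.Def_FlatCA

set_option autoImplicit false
universe u

open TensorProduct

namespace Groth.Agent.H9.PureA

attribute [local instance] Algebra.TensorProduct.rightAlgebra

/-! ### Base change along a pushout square -/
section L1
variable {R S A B : Type*} [CommRing R] [CommRing S] [CommRing A] [CommRing B]
  [Algebra R S] [Algebra R A] [Algebra A B] [Algebra S B] [Algebra R B]
  [IsScalarTower R A B] [IsScalarTower R S B] [Algebra.IsPushout R S A B]
  {M M' : Type*} [AddCommGroup M] [Module R M] [Module A M] [IsScalarTower R A M]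
  [AddCommGroup M'] [Module R M'] [Module A M'] [Module S M'] [Module B M']
  [IsScalarTower R A M'] [IsScalarTower A B M'] [IsScalarTower S B M'] [IsScalarTower R S M']

lemma lift_cancel (f : M →ₗ[A] M') (x : S ⊗[R] M) :
    f.liftBaseChange B ((Algebra.IsPushout.cancelBaseChange R S A B M).symm x) =
      (f.restrictScalars R).liftBaseChange S x := by
  induction x using TensorProduct.induction_on with
  | zero => simp
  | tmul s m =>
    rw [Algebra.IsPushout.cancelBaseChange_symm_tmul, LinearMap.liftBaseChange_tmul,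
      LinearMap.liftBaseChange_tmul, algebraMap_smul B s (f m)]
    rfl
  | add x y hx hy => simp only [map_add, hx, hy]

theorem isBaseChange_restrict (f : M →ₗ[A] M') (h : IsBaseChange B f) :
    IsBaseChange S (f.restrictScalars R) := by
  have hbij : Function.Bijective ((f.restrictScalars R).liftBaseChange S) := by
    have hfun : ⇑((f.restrictScalars R).liftBaseChange S) =
        ⇑h.equiv ∘ ⇑(Algebra.IsPushout.cancelBaseChange R S A B M).symm := by
      funext x
      rw [Function.comp_apply, ← lift_cancel (B := B) f x]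
      generalize (Algebra.IsPushout.cancelBaseChange R S A B M).symm x = y
      induction y using TensorProduct.induction_on with
      | zero => simp
      | tmul b m => exact (LinearMap.liftBaseChange_tmul B f b m).trans (h.equiv_tmul b m).symm
      | add x y hx hy => simp only [map_add, hx, hy]
    rw [hfun]
    exact h.equiv.bijective.comp (Algebra.IsPushout.cancelBaseChange R S A B M).symm.bijective
  exact IsBaseChange.of_equiv (LinearEquiv.ofBijective _ hbij) (fun x => by
    rw [LinearEquiv.ofBijective_apply, LinearMap.liftBaseChange_tmul, one_smul])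

end L1

/-! ### Primes of the fibre ring -/
section Fib
variable {R : Type*} [CommRing R] (p : Ideal R) [p.IsPrime] {S : Type*} [CommRing S] [Algebra R S]

/-- the inclusion `S → κ(p) ⊗ S` as a ring hom -/
noncomputable abbrev incl : S →+* p.Fiber S :=
  (Algebra.TensorProduct.includeRight (R := R) (A := p.ResidueField) (B := S)).toRingHom

lemma comap_map_incl (P : Ideal S) [P.IsPrime] [P.LiesOver p] :
    (P.map (incl p)).comap (incl p) = P := by
  apply le_antisymm _ Ideal.le_comap_map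
  let pp : PrimeSpectrum R := ⟨p, inferInstance⟩
  have hmem : (⟨P, inferInstance⟩ : PrimeSpectrum S) ∈
      PrimeSpectrum.comap (algebraMap R S) ⁻¹' {pp} := by
    rw [Set.mem_preimage, Set.mem_singleton_iff]
    exact PrimeSpectrum.ext (Ideal.LiesOver.over (P := P) (p := p)).symm
  let q0 : PrimeSpectrum.comap (algebraMap R S) ⁻¹' {pp} := ⟨⟨P, inferInstance⟩, hmem⟩
  let 𝔓 := PrimeSpectrum.preimageEquivFiber R S pp q0
  have h1 : PrimeSpectrum.comap Algebra.TensorProduct.includeRight.toRingHom 𝔓 =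
      ⟨P, inferInstance⟩ := by
    rw [← PrimeSpectrum.preimageEquivFiber_symm_apply_coe, Equiv.symm_apply_apply]
  have h2 : 𝔓.asIdeal.comap (incl p) = P := congrArg PrimeSpectrum.asIdeal h1
  have h3 : P.map (incl p) ≤ 𝔓.asIdeal := by
    rw [Ideal.map_le_iff_le_comap, h2]
  calc (P.map (incl p)).comap (incl p) ≤ 𝔓.asIdeal.comap (incl p) := Ideal.comap_mono h3
    _ = P := h2

lemma eq_map_comap_incl (𝔓 : Ideal (p.Fiber S)) [𝔓.IsPrime] :
    𝔓 = (𝔓.comap (incl p)).map (incl p) := by
  apply le_antisymm _ Ideal.map_comap_le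
  intro x hx
  obtain ⟨r, hr, s, e⟩ := Ideal.Fiber.exists_smul_eq_one_tmul p x
  have hs : (1 : p.ResidueField) ⊗ₜ[R] s ∈ 𝔓 := by
    rw [← e]; exact Submodule.smul_of_tower_mem 𝔓 r hx
  have hsI : (1 : p.ResidueField) ⊗ₜ[R] s ∈ (𝔓.comap (incl p)).map (incl p) := by
    have : s ∈ 𝔓.comap (incl p) := by
      rw [Ideal.mem_comap]
      exact hs
    exact Ideal.mem_map_of_mem (incl p) this
  have hu : algebraMap R p.ResidueField r ≠ 0 :=
    fun h0 => hr (Ideal.algebraMap_residueField_eq_zero.mp h0)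
  have hx' : x = ((algebraMap R p.ResidueField r)⁻¹ ⊗ₜ[R] (1 : S)) * (r • x) := by
    rw [Algebra.smul_def, Algebra.TensorProduct.algebraMap_apply, ← mul_assoc,
      Algebra.TensorProduct.tmul_mul_tmul, inv_mul_cancel₀ hu, mul_one,
      ← Algebra.TensorProduct.one_def, one_mul]
  rw [hx', e]
  exact Ideal.mul_mem_left _ _ hsI

end Fib

/-! ### Transfer of associated primes along a semilinear additive isomorphism -/
section Ass
variable {R1 R2 : Type*} [CommRing R1] [CommRing R2] (Ψ : R1 →+* R2)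
  {M1 M2 : Type*} [AddCommGroup M1] [AddCommGroup M2] [Module R1 M1] [Module R2 M2]
  (Θ : M1 ≃+ M2)

lemma pow_smul_iff (hΘ : ∀ (r : R1) (m : M1), Θ (r • m) = Ψ r • Θ m) (r : R1) (n : ℕ) (z : M1) :
    r ^ n • z = 0 ↔ (Ψ r) ^ n • Θ z = 0 := by
  constructor
  · intro h; rw [← map_pow, ← hΘ, h, map_zero]
  · intro h; rw [← map_pow, ← hΘ] at h; exact (AddEquiv.map_eq_zero_iff Θ).mp h

theorem ass_comap (hΘ : ∀ (r : R1) (m : M1), Θ (r • m) = Ψ r • Θ m) {J : Ideal R2}
    (hJ : J ∈ associatedPrimes R2 M2) : J.comap Ψ ∈ associatedPrimes R1 M1 := by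
  have hJ' : (⊥ : Submodule R2 M2).IsAssociatedPrime J := hJ
  obtain ⟨hJp, w, hw⟩ := (Submodule.isAssociatedPrime_def).mp hJ'
  have goal : (⊥ : Submodule R1 M1).IsAssociatedPrime (J.comap Ψ) := by
    refine (Submodule.isAssociatedPrime_def).mpr ⟨Ideal.comap_isPrime Ψ J, Θ.symm w, ?_⟩
    ext r
    rw [Ideal.mem_comap, hw, Ideal.mem_radical_iff, Ideal.mem_radical_iff]
    refine exists_congr fun n => ?_
    rw [Submodule.mem_colon_singleton, Submodule.mem_colon_singleton, Submodule.mem_bot,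
      Submodule.mem_bot, pow_smul_iff Ψ Θ hΘ r n (Θ.symm w), AddEquiv.apply_symm_apply]
  exact goal

theorem ass_map (hΘ : ∀ (r : R1) (m : M1), Θ (r • m) = Ψ r • Θ m)
    (hΨ : Function.Surjective Ψ) {I : Ideal R1} (hI : I ∈ associatedPrimes R1 M1) :
    RingHom.ker Ψ ≤ I ∧ I.map Ψ ∈ associatedPrimes R2 M2 := by
  have hI' : (⊥ : Submodule R1 M1).IsAssociatedPrime I := hI
  obtain ⟨hIp, z, hz⟩ := (Submodule.isAssociatedPrime_def).mp hI'
  have hker : RingHom.ker Ψ ≤ I := by
    intro r hr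
    rw [hz]
    apply Ideal.le_radical
    rw [Submodule.mem_colon_singleton, Submodule.mem_bot]
    have h0 := hΘ r z
    rw [RingHom.mem_ker.mp hr, zero_smul] at h0
    exact (AddEquiv.map_eq_zero_iff Θ).mp h0
  have hsup : I ⊔ Ideal.comap Ψ ⊥ = I := sup_eq_left.mpr hker
  have goal : (⊥ : Submodule R2 M2).IsAssociatedPrime (I.map Ψ) := by
    refine (Submodule.isAssociatedPrime_def).mpr
      ⟨Ideal.map_isPrime_of_surjective hΨ hker, Θ z, ?_⟩
    ext s
    obtain ⟨r, rfl⟩ := hΨ s
    have h1 : Ψ r ∈ I.map Ψ ↔ r ∈ I := by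
      rw [← Ideal.mem_comap, Ideal.comap_map_of_surjective Ψ hΨ, hsup]
    rw [h1, Ideal.mem_radical_iff]
    have h2 : r ∈ I ↔ ∃ n, r ^ n ∈ (⊥ : Submodule R1 M1).colon {z} := by
      rw [hz, Ideal.mem_radical_iff]
    rw [h2]
    refine exists_congr fun n => ?_
    rw [Submodule.mem_colon_singleton, Submodule.mem_colon_singleton, Submodule.mem_bot,
      Submodule.mem_bot]
    exact pow_smul_iff Ψ Θ hΘ r n z
  exact ⟨hker, goal⟩

end Ass

/-! ### Comparison of fibre modules -/
section FM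
variable {A' : Type u} [CommRing A'] (t' : Ideal A') [t'.IsPrime]

noncomputable def cB (B' : Type u) [CommRing B'] [Algebra A' B'] (NB : Type u) [AddCommGroup NB]
    [Module B' NB] [Module A' NB] [IsScalarTower A' B' NB] :
    (t'.Fiber B') ⊗[B'] NB ≃ₗ[t'.ResidueField] t'.ResidueField ⊗[A'] NB :=
  Algebra.IsPushout.cancelBaseChange A' t'.ResidueField B' (t'.Fiber B') NB

lemma cB_symm_tmul (B' : Type u) [CommRing B'] [Algebra A' B'] (NB : Type u) [AddCommGroup NB]
    [Module B' NB] [Module A' NB] [IsScalarTower A' B' NB] (k : t'.ResidueField) (n : NB) :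
    (cB t' B' NB).symm (k ⊗ₜ[A'] n) = ((k ⊗ₜ[A'] (1 : B') : t'.Fiber B')) ⊗ₜ[B'] n := by
  unfold cB
  rw [Algebra.IsPushout.cancelBaseChange_symm_tmul, Algebra.TensorProduct.algebraMap_apply]
  rfl

lemma tmul_smul_cB_symm (B' : Type u) [CommRing B'] [Algebra A' B'] (NB : Type u)
    [AddCommGroup NB] [Module B' NB] [Module A' NB] [IsScalarTower A' B' NB]
    (k k1 : t'.ResidueField) (b : B') (n : NB) :
    (k ⊗ₜ[A'] b : t'.Fiber B') • (cB t' B' NB).symm (k1 ⊗ₜ[A'] n) =
      (cB t' B' NB).symm ((k * k1) ⊗ₜ[A'] (b • n)) := by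
  rw [cB_symm_tmul, cB_symm_tmul, TensorProduct.smul_tmul', smul_eq_mul,
    Algebra.TensorProduct.tmul_mul_tmul, mul_one]
  have h : ((k * k1) ⊗ₜ[A'] b : t'.Fiber B') =
      b • ((k * k1) ⊗ₜ[A'] (1 : B') : t'.Fiber B') := by
    rw [Algebra.smul_def, Algebra.TensorProduct.right_algebraMap_apply,
      Algebra.TensorProduct.tmul_mul_tmul, one_mul, mul_one]
  rw [h, TensorProduct.smul_tmul]

variable {B' C' : Type u} [CommRing B'] [CommRing C'] [Algebra A' B'] [Algebra A' C']
  (χ : B' →ₐ[A'] C')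
  {NB NC : Type u} [AddCommGroup NB] [AddCommGroup NC]
  [Module B' NB] [Module A' NB] [IsScalarTower A' B' NB]
  [Module C' NC] [Module A' NC] [IsScalarTower A' C' NC]
  (θ : NB ≃ₗ[A'] NC)

noncomputable def Psi : t'.Fiber B' →ₐ[A'] t'.Fiber C' :=
  Algebra.TensorProduct.map (AlgHom.id A' t'.ResidueField) χ

lemma Psi_tmul (k : t'.ResidueField) (b : B') : Psi t' χ (k ⊗ₜ[A'] b) = k ⊗ₜ[A'] χ b := by
  unfold Psi
  rw [Algebra.TensorProduct.map_tmul]
  rfl

lemma Psi_surjective (hχ : Function.Surjective χ) : Function.Surjective (Psi t' χ) := by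
  intro y
  induction y using TensorProduct.induction_on with
  | zero => exact ⟨0, map_zero _⟩
  | tmul k c =>
    obtain ⟨b, rfl⟩ := hχ c
    exact ⟨k ⊗ₜ[A'] b, Psi_tmul t' χ k b⟩
  | add y1 y2 h1 h2 =>
    obtain ⟨x1, rfl⟩ := h1
    obtain ⟨x2, rfl⟩ := h2
    exact ⟨x1 + x2, map_add _ _ _⟩

lemma Psi_comp_incl :
    (Psi t' χ).toRingHom.comp (incl t' (S := B')) = (incl t' (S := C')).comp χ.toRingHom := by
  ext b
  show Psi t' χ (Algebra.TensorProduct.includeRight b) =
    Algebra.TensorProduct.includeRight (χ b)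
  rw [Algebra.TensorProduct.includeRight_apply, Algebra.TensorProduct.includeRight_apply, Psi_tmul]

noncomputable def Theta :
    (t'.Fiber B') ⊗[B'] NB ≃ₗ[t'.ResidueField] (t'.Fiber C') ⊗[C'] NC :=
  (cB t' B' NB) ≪≫ₗ
    (TensorProduct.AlgebraTensorModule.congr
      (LinearEquiv.refl t'.ResidueField t'.ResidueField) θ) ≪≫ₗ (cB t' C' NC).symm

lemma Theta_cB_symm (k : t'.ResidueField) (n : NB) :
    Theta t' (B' := B') (C' := C') θ ((cB t' B' NB).symm (k ⊗ₜ[A'] n)) =
      (cB t' C' NC).symm (k ⊗ₜ[A'] θ n) := by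
  unfold Theta
  rw [LinearEquiv.trans_apply, LinearEquiv.trans_apply, LinearEquiv.apply_symm_apply,
    TensorProduct.AlgebraTensorModule.congr_tmul, LinearEquiv.refl_apply]

theorem Theta_smul (hθ : ∀ (b : B') (n : NB), θ (b • n) = χ b • θ n)
    (X : t'.Fiber B') (z : (t'.Fiber B') ⊗[B'] NB) :
    Theta t' (B' := B') (C' := C') θ (X • z) = Psi t' χ X • Theta t' (B' := B') (C' := C') θ z := by
  obtain ⟨y, rfl⟩ := (cB t' B' NB).symm.surjective z
  induction y using TensorProduct.induction_on with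
  | zero => simp
  | add y1 y2 h1 h2 => simp only [map_add, smul_add, h1, h2]
  | tmul k1 n =>
    induction X using TensorProduct.induction_on with
    | zero => simp
    | add X1 X2 h1 h2 => simp only [add_smul, map_add, h1, h2]
    | tmul k b =>
      rw [tmul_smul_cB_symm, Theta_cB_symm, Theta_cB_symm, hθ, Psi_tmul, tmul_smul_cB_symm]

end FM

end Groth.Agent.H9.PureA
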