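import Groth.Agent.Lib.Helper9.Misc.PureA

set_option autoImplicit false
universe u

open TensorProduct

namespace Groth.Agent.H9.PureA

attribute [local instance] Algebra.TensorProduct.rightAlgebra

lemma under_comap_algHom {A' B' C' : Type u} [CommRing A'] [CommRing B'] [CommRing C']
    [Algebra A' B'] [Algebra A' C'] (χ : B' →ₐ[A'] C') (Q : Ideal C') :
    (Q.comap χ.toRingHom).under A' = Q.under A' := by
  ext a
  rw [Ideal.under_def, Ideal.under_def, Ideal.mem_comap, Ideal.mem_comap, Ideal.mem_comap]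
  rw [show χ.toRingHom (algebraMap A' B' a) = algebraMap A' C' a from χ.commutes a]

theorem exists_chi_theta {A B C : Type u} [CommRing A] [CommRing B] [CommRing C]
    [Algebra A B] [Algebra B C] [Algebra A C] [IsScalarTower A B C]
    (hBC : Function.Surjective (algebraMap B C))
    {N : Type u} [AddCommGroup N] [Module C N] [Module B N] [IsScalarTower B C N]
    {A' : Type u} [CommRing A'] [Algebra A A']
    {B' NB : Type u} [CommRing B'] [Algebra B B'] [Algebra A' B'] [Algebra A B']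
    [IsScalarTower A B B'] [IsScalarTower A A' B']
    [AddCommGroup NB] [Module B' NB] [Module B NB] [IsScalarTower B B' NB] [Module A' NB]
    [IsScalarTower A' B' NB] {fB : N →ₗ[B] NB}
    {C' NC : Type u} [CommRing C'] [Algebra C C'] [Algebra A' C'] [Algebra A C']
    [IsScalarTower A C C'] [IsScalarTower A A' C']
    [AddCommGroup NC] [Module C' NC] [Module C NC] [IsScalarTower C C' NC] [Module A' NC]
    [IsScalarTower A' C' NC] {fC : N →ₗ[C] NC}
    (hPB : Algebra.IsPushout A B A' B') (hPC : Algebra.IsPushout A C A' C')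
    (hfB : IsBaseChange B' fB) (hfC : IsBaseChange C' fC) :
    ∃ (χ : B' →ₐ[A'] C') (θ : NB ≃ₗ[A'] NC), Function.Surjective χ ∧
      ∀ (b : B') (n : NB), θ (b • n) = χ b • θ n := by
  haveI := hPB
  let g1 : B →ₐ[A] C' := (IsScalarTower.toAlgHom A C C').comp (IsScalarTower.toAlgHom A B C)
  let g2 : A' →ₐ[A] C' := IsScalarTower.toAlgHom A A' C'
  let χ₀ : B' →ₐ[A] C' := Algebra.pushoutDesc B' g1 g2 (fun x y => mul_comm _ _)
  have hχB : ∀ b : B, χ₀ (algebraMap B B' b) = algebraMap C C' (algebraMap B C b) := fun b => by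
    show Algebra.pushoutDesc B' g1 g2 _ (algebraMap B B' b) = _
    rw [Algebra.pushoutDesc_left]; rfl
  have hχA : ∀ a : A', χ₀ (algebraMap A' B' a) = algebraMap A' C' a := fun a => by
    show Algebra.pushoutDesc B' g1 g2 _ (algebraMap A' B' a) = _
    rw [Algebra.pushoutDesc_right]; rfl
  have hsurj : Function.Surjective χ₀ := by
    intro c'
    refine hPC.out.inductionOn c' (fun c' => ∃ b', χ₀ b' = c') ⟨0, map_zero _⟩ ?_ ?_ ?_
    · intro a'
      exact ⟨algebraMap A' B' a', hχA a'⟩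
    · rintro c x ⟨b', hb'⟩
      obtain ⟨b, rfl⟩ := hBC c
      exact ⟨algebraMap B B' b * b', by rw [map_mul, hχB, hb', Algebra.smul_def]⟩
    · rintro x y ⟨b1, h1⟩ ⟨b2, h2⟩
      exact ⟨b1 + b2, by rw [map_add, h1, h2]⟩
  let χ : B' →ₐ[A'] C' := { χ₀.toRingHom with commutes' := hχA }
  letI algBC' : Algebra B C' := ((algebraMap C C').comp (algebraMap B C)).toAlgebra
  letI algB'C' : Algebra B' C' := χ.toRingHom.toAlgebra
  haveI t1 : IsScalarTower B C C' := IsScalarTower.of_algebraMap_eq (fun _ => rfl)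
  haveI t2 : IsScalarTower B B' C' := IsScalarTower.of_algebraMap_eq (fun b => (hχB b).symm)
  haveI t3 : IsScalarTower A' B' C' := IsScalarTower.of_algebraMap_eq (fun a => (hχA a).symm)
  haveI t4 : IsScalarTower A B' C' :=
    IsScalarTower.of_algebraMap_eq (fun a => (χ₀.commutes a).symm)
  have hP3 : Algebra.IsPushout B C B' C' := (Algebra.IsPushout.comp_iff A B A' B').mp hPC
  haveI hP4 : Algebra.IsPushout B B' C C' := hP3.symm
  letI modB'NC : Module B' NC := Module.compHom NC (algebraMap B' C')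
  letI modBNC : Module B NC := Module.compHom NC (algebraMap B C)
  haveI s1 : IsScalarTower B C NC := ⟨fun b c n => by
    show (b • c) • n = algebraMap B C b • (c • n)
    rw [Algebra.smul_def, mul_smul]⟩
  haveI s2 : IsScalarTower B' C' NC := ⟨fun b c n => by
    show (b • c) • n = algebraMap B' C' b • (c • n)
    rw [Algebra.smul_def, mul_smul]⟩
  haveI s3 : IsScalarTower B B' NC := ⟨fun b b' n => by
    show algebraMap B' C' (b • b') • n = algebraMap B C b • (algebraMap B' C' b' • n)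
    rw [Algebra.smul_def, map_mul, mul_smul, ← IsScalarTower.algebraMap_apply B B' C',
      IsScalarTower.algebraMap_apply B C C', algebraMap_smul]⟩
  haveI s4 : IsScalarTower A' B' NC := ⟨fun a b n => by
    show algebraMap B' C' (a • b) • n = a • (algebraMap B' C' b • n)
    rw [Algebra.smul_def, map_mul, mul_smul, ← IsScalarTower.algebraMap_apply A' B' C',
      algebraMap_smul]⟩
  have hfC' : IsBaseChange B' (fC.restrictScalars B) :=
    isBaseChange_restrict (R := B) (S := B') (A := C) (B := C') fC hfC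
  let θ₀ : NB ≃ₗ[B'] NC := hfB.equiv.symm ≪≫ₗ hfC'.equiv
  refine ⟨χ, θ₀.restrictScalars A', fun c => ?_, fun b n => ?_⟩
  · obtain ⟨b, hb⟩ := hsurj c
    exact ⟨b, hb⟩
  · show θ₀ (b • n) = χ b • θ₀ n
    rw [θ₀.map_smul]
    rfl


theorem impurity_C_to_B {A B C : Type u} [CommRing A] [CommRing B] [CommRing C]
    [Algebra A B] [Algebra B C] [Algebra A C] [IsScalarTower A B C]
    (hBC : Function.Surjective (algebraMap B C))
    {N : Type u} [AddCommGroup N] [Module C N] [Module B N] [IsScalarTower B C N]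
    {p : Ideal A} [p.IsPrime]
    {A' : Type u} [CommRing A'] [Algebra A A']
    {B' NB : Type u} [CommRing B'] [Algebra B B'] [Algebra A' B'] [Algebra A B']
    [IsScalarTower A B B'] [IsScalarTower A A' B']
    [AddCommGroup NB] [Module B' NB] [Module B NB] [IsScalarTower B B' NB] [Module A' NB]
    [IsScalarTower A' B' NB] {fB : N →ₗ[B] NB}
    {C' NC : Type u} [CommRing C'] [Algebra C C'] [Algebra A' C'] [Algebra A C']
    [IsScalarTower A C C'] [IsScalarTower A A' C']
    [AddCommGroup NC] [Module C' NC] [Module C NC] [IsScalarTower C C' NC] [Module A' NC]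
    [IsScalarTower A' C' NC] {fC : N →ₗ[C] NC}
    (hPB : Algebra.IsPushout A B A' B') (hfB : IsBaseChange B' fB)
    {t' t : Ideal A'} [t'.IsPrime] [t.IsPrime] {Q : Ideal C'} [Q.IsPrime]
    (h : FlatCA.IsImpurity A C N p A' C' NC fC t' t Q) :
    ∃ (P : Ideal B') (_ : P.IsPrime), FlatCA.IsImpurity A B N p A' B' NB fB t' t P := by
  unfold FlatCA.IsImpurity at h
  obtain ⟨hPC, hfC, htt, htp, hQt, hass, hcl⟩ := h
  obtain ⟨χ, θ, hχ, hθ⟩ := exists_chi_theta hBC hPB hPC hfB hfC
  haveI := hQt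
  have hker0 : RingHom.ker χ.toRingHom ≤ Q.comap χ.toRingHom := fun x hx => by
    rw [Ideal.mem_comap, RingHom.mem_ker.mp hx]; exact Q.zero_mem
  have hχs : Function.Surjective χ.toRingHom := hχ
  haveI hPprime : (Q.comap χ.toRingHom).IsPrime := Ideal.comap_isPrime _ _
  refine ⟨Q.comap χ.toRingHom, hPprime, ?_⟩
  unfold FlatCA.IsImpurity
  refine ⟨hPB, hfB, htt, htp, ?_, ?_, ?_⟩
  · exact ⟨by rw [under_comap_algHom χ Q]; exact hQt.over⟩
  · have hass' : FlatCA.fiberIdeal t' Q ∈
        associatedPrimes (t'.Fiber C') ((t'.Fiber C') ⊗[C'] NC) := hass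
    have h1 := ass_comap (Psi t' χ).toRingHom (Theta t' (B' := B') (C' := C') θ).toAddEquiv
      (fun r m => Theta_smul t' χ θ hθ r m) hass'
    haveI hprime : ((FlatCA.fiberIdeal t' Q).comap (Psi t' χ).toRingHom).IsPrime :=
      IsAssociatedPrime.isPrime h1
    have h2 := eq_map_comap_incl t' ((FlatCA.fiberIdeal t' Q).comap (Psi t' χ).toRingHom)
    have h3 : ((FlatCA.fiberIdeal t' Q).comap (Psi t' χ).toRingHom).comap (incl t') =
        Q.comap χ.toRingHom := by
      rw [Ideal.comap_comap, Psi_comp_incl, ← Ideal.comap_comap]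
      congr 1
      exact comap_map_incl t' Q
    rw [h3] at h2
    show FlatCA.fiberIdeal t' (Q.comap χ.toRingHom) ∈
      associatedPrimes (t'.Fiber B') ((t'.Fiber B') ⊗[B'] NB)
    have h4 : FlatCA.fiberIdeal t' (Q.comap χ.toRingHom) =
        (FlatCA.fiberIdeal t' Q).comap (Psi t' χ).toRingHom := h2.symm
    rw [h4]; exact h1
  · intro P' _ hPP' hP't
    haveI := hP't
    have hker : RingHom.ker χ.toRingHom ≤ P' := le_trans hker0 hPP'
    haveI : (P'.map χ.toRingHom).IsPrime := Ideal.map_isPrime_of_surjective hχs hker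
    have hcm : (P'.map χ.toRingHom).comap χ.toRingHom = P' := by
      rw [Ideal.comap_map_of_surjective χ.toRingHom hχs]
      exact sup_eq_left.mpr hker
    refine hcl (P'.map χ.toRingHom) ?_ ?_
    · rw [← Ideal.map_comap_of_surjective χ.toRingHom hχs Q]
      exact Ideal.map_mono hPP'
    · exact ⟨by rw [← under_comap_algHom χ (P'.map χ.toRingHom), hcm]; exact hP't.over⟩

theorem impurity_B_to_C {A B C : Type u} [CommRing A] [CommRing B] [CommRing C]
    [Algebra A B] [Algebra B C] [Algebra A C] [IsScalarTower A B C]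
    (hBC : Function.Surjective (algebraMap B C))
    {N : Type u} [AddCommGroup N] [Module C N] [Module B N] [IsScalarTower B C N]
    {p : Ideal A} [p.IsPrime]
    {A' : Type u} [CommRing A'] [Algebra A A']
    {B' NB : Type u} [CommRing B'] [Algebra B B'] [Algebra A' B'] [Algebra A B']
    [IsScalarTower A B B'] [IsScalarTower A A' B']
    [AddCommGroup NB] [Module B' NB] [Module B NB] [IsScalarTower B B' NB] [Module A' NB]
    [IsScalarTower A' B' NB] {fB : N →ₗ[B] NB}
    {C' NC : Type u} [CommRing C'] [Algebra C C'] [Algebra A' C'] [Algebra A C']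
    [IsScalarTower A C C'] [IsScalarTower A A' C']
    [AddCommGroup NC] [Module C' NC] [Module C NC] [IsScalarTower C C' NC] [Module A' NC]
    [IsScalarTower A' C' NC] {fC : N →ₗ[C] NC}
    (hPC : Algebra.IsPushout A C A' C') (hfC : IsBaseChange C' fC)
    {t' t : Ideal A'} [t'.IsPrime] [t.IsPrime] {P : Ideal B'} [P.IsPrime]
    (h : FlatCA.IsImpurity A B N p A' B' NB fB t' t P) :
    ∃ (Q : Ideal C') (_ : Q.IsPrime), FlatCA.IsImpurity A C N p A' C' NC fC t' t Q := by
  unfold FlatCA.IsImpurity at h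
  obtain ⟨hPB, hfB, htt, htp, hPt, hass, hcl⟩ := h
  obtain ⟨χ, θ, hχ, hθ⟩ := exists_chi_theta hBC hPB hPC hfB hfC
  haveI := hPt
  have hχs : Function.Surjective χ.toRingHom := hχ
  have hass' : FlatCA.fiberIdeal t' P ∈
      associatedPrimes (t'.Fiber B') ((t'.Fiber B') ⊗[B'] NB) := hass
  obtain ⟨hkerΨ, hassC⟩ := ass_map (Psi t' χ).toRingHom
    (Theta t' (B' := B') (C' := C') θ).toAddEquiv
    (fun r m => Theta_smul t' χ θ hθ r m) (Psi_surjective t' χ hχ) hass'
  have hker : RingHom.ker χ.toRingHom ≤ P := by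
    intro b hb
    have h1 : incl t' b ∈ FlatCA.fiberIdeal t' P := hkerΨ (by
      rw [RingHom.mem_ker]
      have h0 := congrArg (fun φ => φ b) (Psi_comp_incl t' χ)
      simp only [RingHom.comp_apply] at h0
      rw [h0, RingHom.mem_ker.mp hb, map_zero])
    have h2 : b ∈ (FlatCA.fiberIdeal t' P).comap (incl t') := h1
    have h3 : (FlatCA.fiberIdeal t' P).comap (incl t') = P := comap_map_incl t' P
    rwa [h3] at h2
  haveI hQprime : (P.map χ.toRingHom).IsPrime := Ideal.map_isPrime_of_surjective hχs hker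
  have hcm : (P.map χ.toRingHom).comap χ.toRingHom = P := by
    rw [Ideal.comap_map_of_surjective χ.toRingHom hχs]
    exact sup_eq_left.mpr hker
  refine ⟨P.map χ.toRingHom, hQprime, ?_⟩
  unfold FlatCA.IsImpurity
  refine ⟨hPC, hfC, htt, htp, ?_, ?_, ?_⟩
  · exact ⟨by rw [← under_comap_algHom χ (P.map χ.toRingHom), hcm]; exact hPt.over⟩
  · have hmm : (FlatCA.fiberIdeal t' P).map (Psi t' χ).toRingHom =
        FlatCA.fiberIdeal t' (P.map χ.toRingHom) := by
      show (P.map (incl t')).map (Psi t' χ).toRingHom = (P.map χ.toRingHom).map (incl t')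
      rw [Ideal.map_map, Ideal.map_map, Psi_comp_incl]
    show FlatCA.fiberIdeal t' (P.map χ.toRingHom) ∈
      associatedPrimes (t'.Fiber C') ((t'.Fiber C') ⊗[C'] NC)
    rw [← hmm]; exact hassC
  · intro Q' _ hQQ' hQ't
    haveI := hQ't
    refine hcl (Q'.comap χ.toRingHom) ?_ ?_
    · rw [← hcm]; exact Ideal.comap_mono hQQ'
    · exact ⟨by rw [under_comap_algHom χ Q']; exact hQ't.over⟩


theorem main {A B C : Type u} [CommRing A] [CommRing B] [CommRing C] [Algebra A B] [Algebra B C]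
    [Algebra A C] [IsScalarTower A B C] (hBC : Function.Surjective (algebraMap B C))
    (N : Type u) [AddCommGroup N] [Module C N] [Module B N] [IsScalarTower B C N]
    (p : Ideal A) [p.IsPrime] :
    (FlatCA.IsPureAlong A C N p ↔ FlatCA.IsPureAlong A B N p) ∧
      (FlatCA.IsUnivPureAlong A C N p ↔ FlatCA.IsUnivPureAlong A B N p) := by
  refine ⟨⟨?_, ?_⟩, ⟨?_, ?_⟩⟩
  · intro hC A' B' NB _ _ _ _ _ _ _ _ _ _ _ _ _ _ fB t' t _ _ P _ het himp
    obtain ⟨Q, hQ, himpC⟩ := impurity_B_to_C hBC (C' := C ⊗[A] A')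
      (NC := (C ⊗[A] A') ⊗[C] N) (fC := TensorProduct.mk C (C ⊗[A] A') N 1) inferInstance
      (TensorProduct.isBaseChange C N (C ⊗[A] A')) himp
    haveI := hQ
    exact hC A' (C ⊗[A] A') ((C ⊗[A] A') ⊗[C] N) (TensorProduct.mk C (C ⊗[A] A') N 1) t' t Q
      het himpC
  · intro hB A' C' NC _ _ _ _ _ _ _ _ _ _ _ _ _ _ fC t' t _ _ Q _ het himp
    obtain ⟨P, hP, himpB⟩ := impurity_C_to_B hBC (B' := B ⊗[A] A')
      (NB := (B ⊗[A] A') ⊗[B] N) (fB := TensorProduct.mk B (B ⊗[A] A') N 1) inferInstance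
      (TensorProduct.isBaseChange B N (B ⊗[A] A')) himp
    haveI := hP
    exact hB A' (B ⊗[A] A') ((B ⊗[A] A') ⊗[B] N) (TensorProduct.mk B (B ⊗[A] A') N 1) t' t P
      het himpB
  · intro hC A' B' NB _ _ _ _ _ _ _ _ _ _ _ _ _ _ fB t' t _ _ P _ himp
    obtain ⟨Q, hQ, himpC⟩ := impurity_B_to_C hBC (C' := C ⊗[A] A')
      (NC := (C ⊗[A] A') ⊗[C] N) (fC := TensorProduct.mk C (C ⊗[A] A') N 1) inferInstance
      (TensorProduct.isBaseChange C N (C ⊗[A] A')) himp
    haveI := hQ
    exact hC A' (C ⊗[A] A') ((C ⊗[A] A') ⊗[C] N) (TensorProduct.mk C (C ⊗[A] A') N 1) t' t Q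
      himpC
  · intro hB A' C' NC _ _ _ _ _ _ _ _ _ _ _ _ _ _ fC t' t _ _ Q _ himp
    obtain ⟨P, hP, himpB⟩ := impurity_C_to_B hBC (B' := B ⊗[A] A')
      (NB := (B ⊗[A] A') ⊗[B] N) (fB := TensorProduct.mk B (B ⊗[A] A') N 1) inferInstance
      (TensorProduct.isBaseChange B N (B ⊗[A] A')) himp
    haveI := hP
    exact hB A' (B ⊗[A] A') ((B ⊗[A] A') ⊗[B] N) (TensorProduct.mk B (B ⊗[A] A') N 1) t' t P
      himpB

end Groth.Agent.H9.PureA
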