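import Groth.Agent.Lib.Helper9.Misc.PureB

set_option autoImplicit false
universe u

open TensorProduct

namespace Groth.Agent.H9.PureA

attribute [local instance] Algebra.TensorProduct.rightAlgebra

/-- coordinates of elements of `t • ⊤` in a free module lie in `t` -/
lemma coord_mem_of_mem_smul_top {A' : Type u} [CommRing A'] (t : Ideal A') {X : Type u}
    {z : X →₀ A'} (hz : z ∈ t • (⊤ : Submodule A' (X →₀ A'))) (i : X) : z i ∈ t := by
  refine Submodule.smul_induction_on (p := fun z => z i ∈ t) hz (fun a ha w _ => ?_)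
    (fun x y hx hy => ?_)
  · rw [Finsupp.smul_apply, smul_eq_mul]; exact t.mul_mem_right _ ha
  · rw [Finsupp.add_apply]; exact t.add_mem hx hy

theorem lTensor_injective_free {A' : Type u} [CommRing A'] (t' t : Ideal A') [t'.IsPrime]
    [t.IsPrime] (htt : t' ≤ t) (X : Type u) (U : (X →₀ A') →ₗ[A'] (X →₀ A')) (σ : A')
    (hσ : σ ∉ t) (hU : ∀ y, U y - σ • y ∈ t • (⊤ : Submodule A' (X →₀ A'))) :
    Function.Injective (LinearMap.lTensor t'.ResidueField U) := by
  classical
  rw [injective_iff_map_eq_zero]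
  intro w hw
  obtain ⟨v, hv⟩ : ∃ v, v = TensorProduct.finsuppScalarRight A' A' t'.ResidueField X w :=
    ⟨_, rfl⟩
  have hw' : w = ∑ j ∈ v.support, (v j) ⊗ₜ[A'] (Finsupp.single j (1 : A')) := by
    apply (TensorProduct.finsuppScalarRight A' A' t'.ResidueField X).injective
    rw [map_sum, ← hv]
    conv_lhs => rw [← Finsupp.sum_single v]
    rw [Finsupp.sum]
    refine Finset.sum_congr rfl fun j _ => ?_
    rw [TensorProduct.finsuppScalarRight_apply_tmul, Finsupp.sum_single_index, one_smul]
    rw [zero_smul, Finsupp.single_zero]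
  have hrow : ∀ i, ∑ j ∈ v.support, (U (Finsupp.single j 1)) i • v j = 0 := by
    intro i
    have h0 : (TensorProduct.finsuppScalarRight A' A' t'.ResidueField X
        (LinearMap.lTensor t'.ResidueField U w)) i = 0 := by rw [hw, map_zero]; rfl
    rw [hw', map_sum, map_sum, Finsupp.finsetSum_apply] at h0
    refine Eq.trans (Finset.sum_congr rfl fun j _ => ?_) h0
    rw [LinearMap.lTensor_tmul, TensorProduct.finsuppScalarRight_apply_tmul_apply]
  -- the matrix
  obtain ⟨m, hm⟩ : ∃ m : Matrix v.support v.support A',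
      ∀ i j, m i j = (U (Finsupp.single j.1 1)) i.1 := ⟨fun i j => _, fun _ _ => rfl⟩
  have hdet : m.det ∉ t := by
    intro hmem
    have h1 : (Ideal.Quotient.mk t) m.det = 0 := Ideal.Quotient.eq_zero_iff_mem.mpr hmem
    rw [RingHom.map_det] at h1
    have h2 : (Ideal.Quotient.mk t).mapMatrix m =
        Matrix.diagonal (fun _ : v.support => (Ideal.Quotient.mk t) σ) := by
      ext i j
      rw [RingHom.mapMatrix_apply, Matrix.map_apply, Matrix.diagonal_apply, hm]
      have h3 := coord_mem_of_mem_smul_top t (hU (Finsupp.single j.1 1)) i.1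
      rw [Finsupp.sub_apply, Finsupp.smul_apply, smul_eq_mul, Finsupp.single_apply] at h3
      by_cases hij : i = j
      · subst hij
        rw [if_pos rfl, mul_one] at h3
        rw [if_pos rfl]
        exact Ideal.Quotient.eq.mpr h3
      · have hij' : ¬ (j.1 = i.1) := fun h => hij (Subtype.ext h.symm)
        rw [if_neg hij', mul_zero, sub_zero] at h3
        rw [if_neg hij]
        exact Ideal.Quotient.eq_zero_iff_mem.mpr h3
    rw [h2, Matrix.det_diagonal, Finset.prod_const] at h1
    have hσ' : (Ideal.Quotient.mk t) σ ≠ 0 := fun h => hσ (Ideal.Quotient.eq_zero_iff_mem.mp h)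
    exact pow_ne_zero _ hσ' h1
  have hdet' : m.det ∉ t' := fun h => hdet (htt h)
  have hmv : (m.map (algebraMap A' t'.ResidueField)).mulVec (fun j : v.support => v j.1) = 0 := by
    funext i
    have h := hrow i.1
    rw [← Finset.sum_coe_sort] at h
    show ∑ j : v.support, (m.map (algebraMap A' t'.ResidueField)) i j * v j.1 = 0
    refine Eq.trans (Finset.sum_congr rfl fun j _ => ?_) h
    rw [Matrix.map_apply, hm, Algebra.smul_def]
  have hdetκ : (m.map (algebraMap A' t'.ResidueField)).det ≠ 0 := by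
    have hd : (m.map (algebraMap A' t'.ResidueField)).det =
        algebraMap A' t'.ResidueField m.det :=
      (RingHom.map_det (algebraMap A' t'.ResidueField) m).symm
    rw [hd]
    intro h0
    exact hdet' (Ideal.algebraMap_residueField_eq_zero.mp h0)
  have hv0 := Matrix.eq_zero_of_mulVec_eq_zero hdetκ hmv
  have hv00 : v = 0 := by
    ext j
    by_cases hj : j ∈ v.support
    · exact congrFun hv0 ⟨j, hj⟩
    · exact Finsupp.notMem_support_iff.mp hj
  apply (TensorProduct.finsuppScalarRight A' A' t'.ResidueField X).injective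
  rw [← hv, hv00, map_zero]

theorem lTensor_injective_projective {A' : Type u} [CommRing A'] (t' t : Ideal A') [t'.IsPrime]
    [t.IsPrime] (htt : t' ≤ t) (M : Type u) [AddCommGroup M] [Module A' M]
    [Module.Projective A' M] (ℓ : M →ₗ[A'] M) (σ : A') (hσ : σ ∉ t)
    (hℓ : ∀ y, ℓ y - σ • y ∈ t • (⊤ : Submodule A' M)) :
    Function.Injective (LinearMap.lTensor t'.ResidueField ℓ) := by
  obtain ⟨ι, hι⟩ := (Module.projective_def' (R := A') (P := M)).mp inferInstance
  obtain ⟨π, hπ⟩ : ∃ π : (M →₀ A') →ₗ[A'] M, π ∘ₗ ι = LinearMap.id := ⟨_, hι⟩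
  have hπι : ∀ y, π (ι y) = y := fun y => LinearMap.congr_fun hπ y
  obtain ⟨U, hUdef⟩ : ∃ U : (M →₀ A') →ₗ[A'] (M →₀ A'),
      U = ι ∘ₗ ℓ ∘ₗ π + σ • (LinearMap.id - ι ∘ₗ π) := ⟨_, rfl⟩
  have hUι : U ∘ₗ ι = ι ∘ₗ ℓ := by
    apply LinearMap.ext
    intro y
    simp only [hUdef, LinearMap.comp_apply, LinearMap.add_apply, LinearMap.smul_apply,
      LinearMap.sub_apply, LinearMap.id_apply, hπι, sub_self, smul_zero, add_zero]
  have hU : ∀ y, U y - σ • y ∈ t • (⊤ : Submodule A' (M →₀ A')) := by
    intro y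
    have h1 : U y - σ • y = ι (ℓ (π y) - σ • π y) := by
      rw [hUdef]
      simp only [LinearMap.comp_apply, LinearMap.add_apply, LinearMap.smul_apply,
        LinearMap.sub_apply, LinearMap.id_apply, map_sub, map_smul, smul_sub]
      abel
    rw [h1]
    have h2 := Submodule.mem_map_of_mem (f := ι) (hℓ (π y))
    rw [Submodule.map_smul''] at h2
    exact Submodule.smul_mono (le_refl t) le_top h2
  have hinj := lTensor_injective_free t' t htt M U σ hσ hU
  have h3 : ∀ z, LinearMap.lTensor t'.ResidueField U (LinearMap.lTensor t'.ResidueField ι z) =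
      LinearMap.lTensor t'.ResidueField ι (LinearMap.lTensor t'.ResidueField ℓ z) := by
    intro z
    rw [← LinearMap.lTensor_comp_apply, ← LinearMap.lTensor_comp_apply, hUι]
  have h4 : ∀ z, LinearMap.lTensor t'.ResidueField π (LinearMap.lTensor t'.ResidueField ι z) = z := by
    intro z
    rw [← LinearMap.lTensor_comp_apply, hπ, LinearMap.lTensor_id, LinearMap.id_apply]
  intro x y hxy
  have h5 : LinearMap.lTensor t'.ResidueField ι x = LinearMap.lTensor t'.ResidueField ι y := by
    apply hinj
    rw [h3, h3, hxy]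
  rw [← h4 x, ← h4 y, h5]

/-- elements of the extended ideal act into `t • ⊤` -/
lemma map_smul_mem_smul_top {A' B' : Type u} [CommRing A'] [CommRing B'] [Algebra A' B']
    (t : Ideal A') (NB : Type u) [AddCommGroup NB] [Module B' NB] [Module A' NB]
    [IsScalarTower A' B' NB] {d : B'} (hd : d ∈ t.map (algebraMap A' B')) (y : NB) :
    d • y ∈ t • (⊤ : Submodule A' NB) := by
  have hd' : d ∈ Submodule.span B' ((algebraMap A' B') '' (t : Set A')) := hd
  revert y
  refine Submodule.span_induction
    (p := fun d _ => ∀ y : NB, d • y ∈ t • (⊤ : Submodule A' NB)) ?_ ?_ ?_ ?_ hd'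
  · rintro _ ⟨a, ha, rfl⟩ y
    rw [algebraMap_smul]
    exact Submodule.smul_mem_smul ha Submodule.mem_top
  · intro y
    rw [zero_smul]; exact Submodule.zero_mem _
  · intro d1 d2 _ _ h1 h2 y
    rw [add_smul]; exact Submodule.add_mem _ (h1 y) (h2 y)
  · intro r d1 _ h1 y
    rw [smul_eq_mul, mul_comm, mul_smul]
    exact h1 (r • y)

section FM2
variable {A' : Type u} [CommRing A'] (t' : Ideal A') [t'.IsPrime]

lemma cB_incl_smul (B' : Type u) [CommRing B'] [Algebra A' B'] (NB : Type u) [AddCommGroup NB]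
    [Module B' NB] [Module A' NB] [IsScalarTower A' B' NB] (b : B')
    (z : (t'.Fiber B') ⊗[B'] NB) :
    cB t' B' NB (incl t' b • z) =
      LinearMap.lTensor t'.ResidueField ((LinearMap.lsmul B' NB b).restrictScalars A')
        (cB t' B' NB z) := by
  obtain ⟨y, rfl⟩ := (cB t' B' NB).symm.surjective z
  rw [LinearEquiv.apply_symm_apply]
  induction y using TensorProduct.induction_on with
  | zero => simp
  | tmul k n =>
    have h1 : incl t' b = ((1 : t'.ResidueField) ⊗ₜ[A'] b : t'.Fiber B') := rfl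
    rw [h1, tmul_smul_cB_symm, LinearEquiv.apply_symm_apply, one_mul, LinearMap.lTensor_tmul]
    rfl
  | add y1 y2 h1 h2 => rw [map_add, smul_add, map_add, map_add, h1, h2]

end FM2

theorem univPure_of_projective {A B : Type u} [CommRing A] [CommRing B] [Algebra A B]
    (N : Type u) [AddCommGroup N] [Module B N] [Module A N] [IsScalarTower A B N]
    [Module.Projective A N] : FlatCA.IsUnivPure A B N := by
  intro p _ A' B' N' _ _ _ _ _ _ _ _ _ _ _ _ _ _ f t' t _ _ P _ himp
  obtain ⟨hPB, hf, htt, htp, hPt', hass, hcl⟩ := himp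
  -- step 1 : N' is projective over A'
  letI : Module A N' := Module.compHom N' (algebraMap A A')
  haveI : IsScalarTower A A' N' := IsScalarTower.of_algebraMap_smul fun r m => rfl
  haveI : IsScalarTower A B N' := IsScalarTower.of_algebraMap_smul fun r m => by
    show algebraMap A B r • m = algebraMap A A' r • m
    rw [← algebraMap_smul B' (algebraMap A B r) m, ← algebraMap_smul B' (algebraMap A A' r) m,
      ← IsScalarTower.algebraMap_apply A B B', ← IsScalarTower.algebraMap_apply A A' B']
  haveI : Algebra.IsPushout A A' B B' := hPB.symm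
  have hf' : IsBaseChange A' (f.restrictScalars A) :=
    isBaseChange_restrict (R := A) (S := A') (A := B) (B := B') f hf
  haveI : Module.Projective A' N' := Module.Projective.of_equiv hf'.equiv
  -- step 2 : the element σ
  have hex : ∃ σ : A', σ ∉ t ∧ ∃ b ∈ P, ∃ c ∈ t.map (algebraMap A' B'),
      algebraMap A' B' σ = b + c := by
    by_contra hno
    have hdisj : Disjoint ((P ⊔ t.map (algebraMap A' B') : Ideal B') : Set B')
        (Algebra.algebraMapSubmonoid B' t.primeCompl : Set B') := by
      rw [Set.disjoint_left]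
      intro y hy hy'
      obtain ⟨σ, hσ, rfl⟩ := hy'
      obtain ⟨b, hb, c, hc, hbc⟩ := Submodule.mem_sup.mp hy
      exact hno ⟨σ, hσ, b, hb, c, hc, hbc.symm⟩
    obtain ⟨P', hP'prime, hle, hP'disj⟩ := Ideal.exists_le_prime_disjoint _ _ hdisj
    haveI := hP'prime
    refine hcl P' (le_sup_left.trans hle) ⟨?_⟩
    apply le_antisymm
    · intro a ha
      exact hle (Ideal.mem_sup_right (Ideal.mem_map_of_mem _ ha))
    · intro a ha
      by_contra hat
      exact Set.disjoint_left.mp hP'disj ha ⟨a, hat, rfl⟩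
  obtain ⟨σ, hσ, b, hb, c, hc, hbc⟩ := hex
  -- step 3 : the associated prime
  have hass' : (⊥ : Submodule (t'.Fiber B') (FlatCA.fiberMod t' B' N')).IsAssociatedPrime
      (FlatCA.fiberIdeal t' P) := hass
  obtain ⟨h𝔓, x, hx⟩ := (Submodule.isAssociatedPrime_def).mp hass'
  have hx0 : x ≠ 0 := by
    intro h0
    apply h𝔓.ne_top
    rw [hx, h0, Ideal.radical_eq_top, Ideal.eq_top_iff_one, Submodule.mem_colon_singleton,
      one_smul]
    exact Submodule.zero_mem _
  have hbmem : incl t' b ∈ FlatCA.fiberIdeal t' P := Ideal.mem_map_of_mem _ hb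
  rw [hx, Ideal.mem_radical_iff] at hbmem
  obtain ⟨n, hn⟩ := hbmem
  rw [Submodule.mem_colon_singleton, Submodule.mem_bot] at hn
  have hn' : incl t' (b ^ n) • (x : (t'.Fiber B') ⊗[B'] N') = 0 := by
    rw [map_pow]; exact hn
  have hσn : σ ^ n ∉ t := fun h => hσ (Ideal.IsPrime.mem_of_pow_mem inferInstance n h)
  have hℓ : ∀ y : N', ((LinearMap.lsmul B' N' (b ^ n)).restrictScalars A') y - (σ ^ n) • y ∈
      t • (⊤ : Submodule A' N') := by
    intro y
    obtain ⟨q, hq⟩ := sub_dvd_pow_sub_pow (algebraMap A' B' σ) b n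
    have hc' : algebraMap A' B' σ - b = c := by rw [hbc, add_sub_cancel_left]
    have h1 : ((LinearMap.lsmul B' N' (b ^ n)).restrictScalars A') y - (σ ^ n) • y =
        -((c * q) • y) := by
      rw [LinearMap.restrictScalars_apply, LinearMap.lsmul_apply,
        ← algebraMap_smul B' (σ ^ n) y, map_pow, ← sub_smul, ← hc', ← hq, ← neg_smul, neg_sub]
    rw [h1]
    exact neg_mem (map_smul_mem_smul_top t N' (Ideal.mul_mem_right q _ hc) y)
  have hinj := lTensor_injective_projective t' t htt N'
    ((LinearMap.lsmul B' N' (b ^ n)).restrictScalars A') (σ ^ n) hσn hℓ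
  have hcx : cB t' B' N' (x : (t'.Fiber B') ⊗[B'] N') = 0 := by
    apply hinj
    rw [map_zero, ← cB_incl_smul]
    exact (congrArg (cB t' B' N') hn').trans (map_zero _)
  exact hx0 ((cB t' B' N').map_eq_zero_iff.mp hcx)

end Groth.Agent.H9.PureA
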