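import Groth.Agent.Lib.Helper9.Misc.PureC

set_option autoImplicit false
universe u

open TensorProduct

namespace Groth.Agent.H9.PureA

attribute [local instance] Algebra.TensorProduct.rightAlgebra

/-- Associated primes lift along an injective semilinear map to a module over a Noetherian ring. -/
theorem exists_ass_over {R R₂ : Type*} [CommRing R] [CommRing R₂] [IsNoetherianRing R₂]
    (Φ : R →+* R₂) {M M₂ : Type*} [AddCommGroup M] [Module R M] [AddCommGroup M₂] [Module R₂ M₂]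
    (Λ : M →+ M₂) (hΛ : ∀ r m, Λ (r • m) = Φ r • Λ m) (hinj : Function.Injective Λ)
    {𝔓 : Ideal R} (h𝔓 : 𝔓 ∈ associatedPrimes R M) :
    ∃ 𝔓₂ ∈ associatedPrimes R₂ M₂, 𝔓₂.comap Φ = 𝔓 := by
  have h' : (⊥ : Submodule R M).IsAssociatedPrime 𝔓 := h𝔓
  obtain ⟨hp, x, hx⟩ := (Submodule.isAssociatedPrime_def).mp h'
  have hdisj : Disjoint (((⊥ : Submodule R₂ M₂).colon {Λ x} : Ideal R₂) : Set R₂)
      ((𝔓.primeCompl.map Φ : Submonoid R₂) : Set R₂) := by
    rw [Set.disjoint_left]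
    intro a ha hb
    obtain ⟨s, hs, rfl⟩ := hb
    rw [SetLike.mem_coe, Submodule.mem_colon_singleton, Submodule.mem_bot, ← hΛ] at ha
    have h0 : s • x = 0 := hinj (ha.trans (map_zero Λ).symm)
    apply hs
    rw [hx]
    apply Ideal.le_radical
    rw [Submodule.mem_colon_singleton, Submodule.mem_bot]
    exact h0
  obtain ⟨𝔔, h𝔔p, hle, h𝔔d⟩ := Ideal.exists_le_prime_disjoint _ _ hdisj
  haveI := h𝔔p
  obtain ⟨𝔓₂, hmin, h𝔓₂le⟩ := Ideal.exists_minimalPrimes_le hle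
  obtain ⟨y, hy⟩ := Submodule.exists_eq_colon_of_mem_minimalPrimes hmin
  haveI h𝔓₂p : 𝔓₂.IsPrime := hmin.1.1
  refine ⟨𝔓₂, ?_, ?_⟩
  · have h1 : (⊥ : Submodule R₂ M₂).IsAssociatedPrime 𝔓₂ :=
      (Submodule.isAssociatedPrime_def).mpr ⟨h𝔓₂p, y, by rw [← hy]; exact h𝔓₂p.radical.symm⟩
    exact h1
  · apply le_antisymm
    · intro r hr
      by_contra hr𝔓
      exact Set.disjoint_left.mp h𝔔d (h𝔓₂le (Ideal.mem_comap.mp hr)) ⟨r, hr𝔓, rfl⟩
    · intro r hr
      rw [hx, Ideal.mem_radical_iff] at hr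
      obtain ⟨n, hn⟩ := hr
      rw [Submodule.mem_colon_singleton, Submodule.mem_bot] at hn
      have h1 : (Φ r) ^ n ∈ (⊥ : Submodule R₂ M₂).colon {Λ x} := by
        rw [Submodule.mem_colon_singleton, Submodule.mem_bot, ← map_pow, ← hΛ, hn, map_zero]
      exact Ideal.mem_comap.mpr (h𝔓₂p.mem_of_pow_mem n (hmin.1.2 h1))

lemma exists_retraction {A₁ K L : Type*} [CommRing A₁] [Field K] [Field L] [Algebra A₁ K]
    [Algebra A₁ L] (ι : K →ₐ[A₁] L) : ∃ ρ : L →ₗ[A₁] K, ∀ k, ρ (ι k) = k := by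
  letI : Algebra K L := ι.toRingHom.toAlgebra
  obtain ⟨ρK, hρK⟩ := LinearMap.exists_leftInverse_of_injective (Algebra.linearMap K L)
    (LinearMap.ker_eq_bot.mpr (algebraMap K L).injective)
  have hρι : ∀ k, ρK (ι k) = k := fun k => LinearMap.congr_fun hρK k
  refine ⟨{ toFun := ρK, map_add' := ρK.map_add, map_smul' := fun a l => ?_ }, hρι⟩
  show ρK (a • l) = a • ρK l
  have h1 : a • l = (algebraMap A₁ K a) • l := by
    rw [Algebra.smul_def, Algebra.smul_def]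
    show _ = ι (algebraMap A₁ K a) * l
    rw [ι.commutes]
  rw [h1, ρK.map_smul, smul_eq_mul, Algebra.smul_def]

section Lift
variable {A₁ A₂ : Type u} (B₁ B₂ : Type u) [CommRing A₁] [CommRing A₂] [CommRing B₁] [CommRing B₂]
  [Algebra A₁ A₂] [Algebra A₁ B₁] [Algebra A₂ B₂] [Algebra B₁ B₂] [Algebra A₁ B₂]
  [IsScalarTower A₁ B₁ B₂] [IsScalarTower A₁ A₂ B₂]
  (t' : Ideal A₁) [t'.IsPrime] (s' : Ideal A₂) [s'.IsPrime] [hs' : s'.LiesOver t']

/-- the residue field map -/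
noncomputable def resMap : t'.ResidueField →ₐ[A₁] s'.ResidueField :=
  Ideal.ResidueField.mapₐ t' s' (Algebra.ofId A₁ A₂) hs'.over

/-- the map of fibre rings -/
noncomputable def fibMap : t'.Fiber B₁ →+* s'.Fiber B₂ :=
  Algebra.TensorProduct.mapRingHom (algebraMap A₁ A₂) (resMap t' s').toRingHom
    (algebraMap B₁ B₂)
    (by
      ext a
      simp only [RingHom.comp_apply]
      show (resMap t' s') (algebraMap A₁ t'.ResidueField a) = _
      rw [AlgHom.commutes, IsScalarTower.algebraMap_apply A₁ A₂ s'.ResidueField])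
    (by
      ext a
      simp only [RingHom.comp_apply]
      rw [← IsScalarTower.algebraMap_apply A₁ B₁ B₂, ← IsScalarTower.algebraMap_apply A₁ A₂ B₂])

lemma fibMap_tmul (k : t'.ResidueField) (b : B₁) :
    fibMap B₁ B₂ t' s' (k ⊗ₜ[A₁] b) = (resMap t' s' k) ⊗ₜ[A₂] (algebraMap B₁ B₂ b) := by
  unfold fibMap
  rw [Algebra.TensorProduct.mapRingHom_tmul]
  rfl

lemma fibMap_comp_incl :
    (fibMap B₁ B₂ t' s').comp (incl t' (S := B₁)) =
      (incl s' (S := B₂)).comp (algebraMap B₁ B₂) := by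
  ext b
  show fibMap B₁ B₂ t' s' ((1 : t'.ResidueField) ⊗ₜ[A₁] b) =
    (1 : s'.ResidueField) ⊗ₜ[A₂] (algebraMap B₁ B₂ b)
  rw [fibMap_tmul, map_one]

lemma fibMap_smul (b : B₁) (r : t'.Fiber B₁) :
    fibMap B₁ B₂ t' s' (b • r) = (algebraMap B₁ B₂ b) • fibMap B₁ B₂ t' s' r := by
  rw [Algebra.smul_def, Algebra.smul_def, map_mul, Algebra.TensorProduct.right_algebraMap_apply,
    Algebra.TensorProduct.right_algebraMap_apply, fibMap_tmul, map_one]

variable {N₁ N₂ : Type u} [AddCommGroup N₁] [Module B₁ N₁]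
  [AddCommGroup N₂] [Module B₂ N₂] [Module B₁ N₂] [IsScalarTower B₁ B₂ N₂]
  (g : N₁ →ₗ[B₁] N₂)

/-- the map of fibre modules -/
noncomputable def fibModMap : (t'.Fiber B₁) ⊗[B₁] N₁ →+ (s'.Fiber B₂) ⊗[B₂] N₂ :=
  TensorProduct.liftAddHom
    (AddMonoidHom.mk' (fun r => AddMonoidHom.mk' (fun n => (fibMap B₁ B₂ t' s' r) ⊗ₜ[B₂] (g n))
        (fun n n' => by rw [map_add, TensorProduct.tmul_add]))
      (fun r r' => AddMonoidHom.ext fun n => by
        simp only [AddMonoidHom.mk'_apply, AddMonoidHom.add_apply, map_add,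
          TensorProduct.add_tmul]))
    (fun b r n => by
      simp only [AddMonoidHom.mk'_apply]
      rw [fibMap_smul, TensorProduct.smul_tmul, map_smul, algebraMap_smul])

lemma fibModMap_tmul (r : t'.Fiber B₁) (n : N₁) :
    fibModMap B₁ B₂ t' s' g (r ⊗ₜ[B₁] n) = (fibMap B₁ B₂ t' s' r) ⊗ₜ[B₂] (g n) := rfl

lemma fibModMap_smul (r' : t'.Fiber B₁) (z : (t'.Fiber B₁) ⊗[B₁] N₁) :
    fibModMap B₁ B₂ t' s' g (r' • z) =
      (fibMap B₁ B₂ t' s' r') • fibModMap B₁ B₂ t' s' g z := by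
  induction z using TensorProduct.induction_on with
  | zero => rw [smul_zero, map_zero, smul_zero]
  | tmul r n =>
    rw [TensorProduct.smul_tmul', smul_eq_mul, fibModMap_tmul, fibModMap_tmul, map_mul,
      TensorProduct.smul_tmul', smul_eq_mul]
  | add x y hx hy => rw [smul_add, map_add, map_add, smul_add, hx, hy]

variable [Module A₁ N₁] [IsScalarTower A₁ B₁ N₁] [Module A₂ N₂] [IsScalarTower A₂ B₂ N₂]

theorem fibModMap_injective (hP : Algebra.IsPushout A₁ B₁ A₂ B₂) (hg : IsBaseChange B₂ g) :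
    Function.Injective (fibModMap B₁ B₂ t' s' g) := by
  letI : Module A₁ N₂ := Module.compHom N₂ (algebraMap A₁ A₂)
  haveI : IsScalarTower A₁ A₂ N₂ := IsScalarTower.of_algebraMap_smul fun r m => rfl
  haveI : IsScalarTower A₁ B₁ N₂ := IsScalarTower.of_algebraMap_smul fun r m => by
    show algebraMap A₁ B₁ r • m = algebraMap A₁ A₂ r • m
    rw [← algebraMap_smul B₂ (algebraMap A₁ B₁ r) m, ← algebraMap_smul B₂ (algebraMap A₁ A₂ r) m,
      ← IsScalarTower.algebraMap_apply A₁ B₁ B₂, ← IsScalarTower.algebraMap_apply A₁ A₂ B₂]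
  haveI : Algebra.IsPushout A₁ A₂ B₁ B₂ := hP.symm
  have hg' : IsBaseChange A₂ (g.restrictScalars A₁) :=
    isBaseChange_restrict (R := A₁) (S := A₂) (A := B₁) (B := B₂) g hg
  obtain ⟨ρ, hρ⟩ := exists_retraction (resMap t' s')
  have key : ∀ y : t'.ResidueField ⊗[A₁] N₁,
      LinearMap.rTensor N₁ ρ
        (TensorProduct.AlgebraTensorModule.cancelBaseChange A₁ A₂ A₂ s'.ResidueField N₁
          (LinearMap.lTensor s'.ResidueField hg'.equiv.symm.toLinearMap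
            (cB s' B₂ N₂ (fibModMap B₁ B₂ t' s' g ((cB t' B₁ N₁).symm y))))) = y := by
    intro y
    induction y using TensorProduct.induction_on with
    | zero => simp only [map_zero]
    | tmul k n =>
      rw [cB_symm_tmul, fibModMap_tmul, fibMap_tmul, map_one]
      have h1 : ((resMap t' s' k) ⊗ₜ[A₂] (1 : B₂) : s'.Fiber B₂) ⊗ₜ[B₂] (g n) =
          (cB s' B₂ N₂).symm ((resMap t' s' k) ⊗ₜ[A₂] (g n)) :=
        (cB_symm_tmul s' B₂ N₂ _ _).symm
      rw [h1, LinearEquiv.apply_symm_apply, LinearMap.lTensor_tmul]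
      have h2 : hg'.equiv.symm.toLinearMap (g n) = (1 : A₂) ⊗ₜ[A₁] n :=
        hg'.equiv_symm_apply n
      rw [h2, TensorProduct.AlgebraTensorModule.cancelBaseChange_tmul, one_smul,
        LinearMap.rTensor_tmul, hρ]
    | add y1 y2 h1 h2 => simp only [map_add, h1, h2]
  intro z z' hzz
  obtain ⟨y, rfl⟩ := (cB t' B₁ N₁).symm.surjective z
  obtain ⟨y', rfl⟩ := (cB t' B₁ N₁).symm.surjective z'
  rw [← key y, ← key y', hzz]

theorem lift_ass [Algebra.FiniteType A₂ B₂] (hP : Algebra.IsPushout A₁ B₁ A₂ B₂)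
    (hg : IsBaseChange B₂ g) (P : Ideal B₁) [P.IsPrime] [P.LiesOver t']
    (hass : FlatCA.fiberIdeal t' P ∈
      associatedPrimes (t'.Fiber B₁) (FlatCA.fiberMod t' B₁ N₁)) :
    ∃ (P₂ : Ideal B₂) (_ : P₂.IsPrime), P₂.LiesOver s' ∧ P₂.comap (algebraMap B₁ B₂) = P ∧
      FlatCA.fiberIdeal s' P₂ ∈ associatedPrimes (s'.Fiber B₂) (FlatCA.fiberMod s' B₂ N₂) := by
  haveI : IsNoetherianRing (s'.Fiber B₂) :=
    Algebra.FiniteType.isNoetherianRing s'.ResidueField (s'.Fiber B₂)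
  have hass' : FlatCA.fiberIdeal t' P ∈
      associatedPrimes (t'.Fiber B₁) ((t'.Fiber B₁) ⊗[B₁] N₁) := hass
  obtain ⟨𝔓₂, h𝔓₂, hcomap⟩ := exists_ass_over (fibMap B₁ B₂ t' s') (fibModMap B₁ B₂ t' s' g)
    (fibModMap_smul B₁ B₂ t' s' g) (fibModMap_injective B₁ B₂ t' s' g hP hg) hass'
  haveI h𝔓₂p : 𝔓₂.IsPrime := IsAssociatedPrime.isPrime h𝔓₂
  haveI hP₂p : (𝔓₂.comap (incl s' (S := B₂))).IsPrime := Ideal.comap_isPrime _ _
  refine ⟨𝔓₂.comap (incl s' (S := B₂)), hP₂p, ⟨?_⟩, ?_, ?_⟩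
  · have h1 := under_comap_algHom
      (Algebra.TensorProduct.includeRight (R := A₂) (A := s'.ResidueField) (B := B₂)) 𝔓₂
    have h2 : 𝔓₂.under A₂ = s' := (Ideal.LiesOver.over (p := s') (P := 𝔓₂)).symm
    exact (h1.trans h2).symm
  · have h1 : (𝔓₂.comap (incl s' (S := B₂))).comap (algebraMap B₁ B₂) =
        (𝔓₂.comap (fibMap B₁ B₂ t' s')).comap (incl t' (S := B₁)) := by
      rw [Ideal.comap_comap, Ideal.comap_comap, fibMap_comp_incl]
    rw [h1, hcomap]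
    exact comap_map_incl t' P
  · have h4 : FlatCA.fiberIdeal s' (𝔓₂.comap (incl s' (S := B₂))) = 𝔓₂ :=
      (eq_map_comap_incl s' 𝔓₂).symm
    show FlatCA.fiberIdeal s' (𝔓₂.comap (incl s' (S := B₂))) ∈
      associatedPrimes (s'.Fiber B₂) ((s'.Fiber B₂) ⊗[B₂] N₂)
    rw [h4]; exact h𝔓₂

end Lift

end Groth.Agent.H9.PureA
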