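import Groth.Agent.Lib.Helper9.Misc.PureD

set_option autoImplicit false
universe u

open TensorProduct

namespace Groth.Agent.H9.PureA

attribute [local instance] Algebra.TensorProduct.rightAlgebra

theorem exists_prime_tensor {R S T : Type u} [CommRing R] [CommRing S] [CommRing T] [Algebra R S]
    [Algebra R T] (q : Ideal S) [q.IsPrime] (r : Ideal T) [r.IsPrime]
    (h : q.under R = r.under R) :
    ∃ Q : Ideal (S ⊗[R] T), Q.IsPrime ∧ Q.comap (algebraMap S (S ⊗[R] T)) = q ∧
      Q.comap (Algebra.TensorProduct.includeRight (R := R) (A := S) (B := T)).toRingHom = r := by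
  obtain ⟨p, hp⟩ : ∃ p : Ideal R, p = q.under R := ⟨_, rfl⟩
  haveI : p.IsPrime := by rw [hp]; infer_instance
  haveI hq : q.LiesOver p := ⟨hp⟩
  haveI hr : r.LiesOver p := ⟨hp.trans h⟩
  letI : Algebra p.ResidueField q.ResidueField :=
    (Ideal.ResidueField.mapₐ p q (Algebra.ofId R S) hq.over).toRingHom.toAlgebra
  letI : Algebra p.ResidueField r.ResidueField :=
    (Ideal.ResidueField.mapₐ p r (Algebra.ofId R T) hr.over).toRingHom.toAlgebra
  have HS : (algebraMap S q.ResidueField).comp (algebraMap R S) =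
      (algebraMap p.ResidueField q.ResidueField).comp (algebraMap R p.ResidueField) := by
    ext a
    simp only [RingHom.comp_apply]
    show _ = (Ideal.ResidueField.mapₐ p q (Algebra.ofId R S) hq.over)
      (algebraMap R p.ResidueField a)
    rw [AlgHom.commutes, IsScalarTower.algebraMap_apply R S q.ResidueField]
  have HT : (algebraMap T r.ResidueField).comp (algebraMap R T) =
      (algebraMap p.ResidueField r.ResidueField).comp (algebraMap R p.ResidueField) := by
    ext a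
    simp only [RingHom.comp_apply]
    show _ = (Ideal.ResidueField.mapₐ p r (Algebra.ofId R T) hr.over)
      (algebraMap R p.ResidueField a)
    rw [AlgHom.commutes, IsScalarTower.algebraMap_apply R T r.ResidueField]
  obtain ⟨φ, hφ⟩ : ∃ φ : S ⊗[R] T →+* q.ResidueField ⊗[p.ResidueField] r.ResidueField,
      ∀ s t, φ (s ⊗ₜ[R] t) =
        (algebraMap S q.ResidueField s) ⊗ₜ[p.ResidueField] (algebraMap T r.ResidueField t) :=
    ⟨Algebra.TensorProduct.mapRingHom (algebraMap R p.ResidueField)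
      (algebraMap S q.ResidueField) (algebraMap T r.ResidueField) HS HT,
      fun s t => Algebra.TensorProduct.mapRingHom_tmul _ _ _ _ _ s t⟩
  haveI : Nontrivial (q.ResidueField ⊗[p.ResidueField] r.ResidueField) := by
    have hinj : Function.Injective (Algebra.TensorProduct.includeLeft (R := p.ResidueField)
        (S := p.ResidueField) (A := q.ResidueField) (B := r.ResidueField)) :=
      Algebra.TensorProduct.includeLeft_injective
        (algebraMap p.ResidueField r.ResidueField).injective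
    exact hinj.nontrivial
  obtain ⟨𝔪, h𝔪⟩ := Ideal.exists_maximal (q.ResidueField ⊗[p.ResidueField] r.ResidueField)
  haveI := h𝔪.isPrime
  refine ⟨𝔪.comap φ, Ideal.comap_isPrime _ _, ?_, ?_⟩
  · have h1 : φ.comp (algebraMap S (S ⊗[R] T)) =
        (Algebra.TensorProduct.includeLeftRingHom (R := p.ResidueField) (A := q.ResidueField)
          (B := r.ResidueField)).comp (algebraMap S q.ResidueField) := by
      ext s
      show φ (s ⊗ₜ[R] (1 : T)) =
        (algebraMap S q.ResidueField s) ⊗ₜ[p.ResidueField] (1 : r.ResidueField)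
      rw [hφ, map_one]
    rw [Ideal.comap_comap, h1, ← Ideal.comap_comap]
    haveI : (𝔪.comap (Algebra.TensorProduct.includeLeftRingHom (R := p.ResidueField)
      (A := q.ResidueField) (B := r.ResidueField))).IsPrime := Ideal.comap_isPrime _ _
    rw [Ideal.eq_bot_of_prime (𝔪.comap (Algebra.TensorProduct.includeLeftRingHom
      (R := p.ResidueField) (A := q.ResidueField) (B := r.ResidueField))),
      ← RingHom.ker_eq_comap_bot, Ideal.ker_algebraMap_residueField]
  · have h1 : φ.comp (Algebra.TensorProduct.includeRight (R := R) (A := S) (B := T)).toRingHom =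
        (Algebra.TensorProduct.includeRight (R := p.ResidueField) (A := q.ResidueField)
          (B := r.ResidueField)).toRingHom.comp (algebraMap T r.ResidueField) := by
      ext t
      show φ ((1 : S) ⊗ₜ[R] t) =
        (1 : q.ResidueField) ⊗ₜ[p.ResidueField] (algebraMap T r.ResidueField t)
      rw [hφ, map_one]
    rw [Ideal.comap_comap, h1, ← Ideal.comap_comap]
    haveI : (𝔪.comap (Algebra.TensorProduct.includeRight (R := p.ResidueField)
      (A := q.ResidueField) (B := r.ResidueField)).toRingHom).IsPrime := Ideal.comap_isPrime _ _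
    rw [Ideal.eq_bot_of_prime (𝔪.comap (Algebra.TensorProduct.includeRight
      (R := p.ResidueField) (A := q.ResidueField) (B := r.ResidueField)).toRingHom),
      ← RingHom.ker_eq_comap_bot, Ideal.ker_algebraMap_residueField]

theorem exists_primes_over {A A' A₁ : Type u} [CommRing A] [CommRing A'] [CommRing A₁]
    [Algebra A A'] [Algebra A A₁] (p : Ideal A) [p.IsPrime] (p' : Ideal A') [p'.IsPrime]
    [hp' : p'.LiesOver p] [Module.Flat A (Localization.AtPrime p')]
    (t' t : Ideal A₁) [t'.IsPrime] [t.IsPrime] (htt : t' ≤ t) [ht : t.LiesOver p] :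
    ∃ (s' s : Ideal (A' ⊗[A] A₁)), s'.IsPrime ∧ s.IsPrime ∧ s' ≤ s ∧ s.LiesOver p' ∧
      s.LiesOver t ∧ s'.LiesOver t' := by
  have hmax : (IsLocalRing.maximalIdeal (Localization.AtPrime p')).under A' = p' :=
    IsLocalization.AtPrime.comap_maximalIdeal (Localization.AtPrime p') p'
  have hunder : t.under A = (IsLocalRing.maximalIdeal (Localization.AtPrime p')).under A := by
    rw [← ht.over, ← Ideal.under_under (B := A')
      (IsLocalRing.maximalIdeal (Localization.AtPrime p')), hmax]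
    exact hp'.over
  obtain ⟨Q, hQp, hQt, hQm⟩ := exists_prime_tensor (R := A) t
    (IsLocalRing.maximalIdeal (Localization.AtPrime p')) hunder
  haveI := hQp
  haveI hQt' : Q.LiesOver t := ⟨hQt.symm⟩
  obtain ⟨Q', hQ'le, hQ'p, hQ't'⟩ :=
    Ideal.exists_ideal_le_liesOver_of_le (p := t') (q := t) Q htt
  haveI := hQ'p
  obtain ⟨γ, hγ⟩ : ∃ γ : A' ⊗[A] A₁ →+* A₁ ⊗[A] Localization.AtPrime p',
      ∀ a' a₁, γ (a' ⊗ₜ[A] a₁) = a₁ ⊗ₜ[A] (algebraMap A' (Localization.AtPrime p') a') := by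
    refine ⟨(Algebra.TensorProduct.lift
      ((Algebra.TensorProduct.includeRight (R := A) (A := A₁)
        (B := Localization.AtPrime p')).comp (IsScalarTower.toAlgHom A A' (Localization.AtPrime p')))
      (Algebra.TensorProduct.includeLeft (R := A) (S := A) (A := A₁)
        (B := Localization.AtPrime p')) (fun _ _ => Commute.all _ _)).toRingHom,
      fun a' a₁ => ?_⟩
    show Algebra.TensorProduct.lift _ _ _ (a' ⊗ₜ[A] a₁) = _
    rw [Algebra.TensorProduct.lift_tmul]
    show ((1 : A₁) ⊗ₜ[A] (algebraMap A' (Localization.AtPrime p') a')) *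
      (a₁ ⊗ₜ[A] (1 : Localization.AtPrime p')) = _
    rw [Algebra.TensorProduct.tmul_mul_tmul, one_mul, mul_one]
  have h1 : γ.comp (algebraMap A₁ (A' ⊗[A] A₁)) =
      algebraMap A₁ (A₁ ⊗[A] Localization.AtPrime p') := by
    ext a₁
    show γ ((1 : A') ⊗ₜ[A] a₁) = a₁ ⊗ₜ[A] (1 : Localization.AtPrime p')
    rw [hγ, map_one]
  refine ⟨Q'.comap γ, Q.comap γ, Ideal.comap_isPrime _ _, Ideal.comap_isPrime _ _,
    Ideal.comap_mono hQ'le, ⟨?_⟩, ⟨?_⟩, ⟨?_⟩⟩
  · show p' = (Q.comap γ).comap (algebraMap A' (A' ⊗[A] A₁))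
    have h2 : γ.comp (algebraMap A' (A' ⊗[A] A₁)) =
        (Algebra.TensorProduct.includeRight (R := A) (A := A₁)
          (B := Localization.AtPrime p')).toRingHom.comp
          (algebraMap A' (Localization.AtPrime p')) := by
      ext a'
      show γ (a' ⊗ₜ[A] (1 : A₁)) =
        (1 : A₁) ⊗ₜ[A] (algebraMap A' (Localization.AtPrime p') a')
      rw [hγ]
    rw [Ideal.comap_comap, h2, ← Ideal.comap_comap, hQm]
    exact hmax.symm
  · show t = (Q.comap γ).comap (algebraMap A₁ (A' ⊗[A] A₁))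
    rw [Ideal.comap_comap, h1, hQt]
  · show t' = (Q'.comap γ).comap (algebraMap A₁ (A' ⊗[A] A₁))
    rw [Ideal.comap_comap, h1]
    exact hQ't'.over

theorem residue_bijective {A A' A₁ : Type u} [CommRing A] [CommRing A'] [CommRing A₁]
    [Algebra A A'] [Algebra A A₁] (p : Ideal A) [p.IsPrime] (p' : Ideal A') [p'.IsPrime]
    (t : Ideal A₁) [t.IsPrime] (s : Ideal (A' ⊗[A] A₁)) [s.IsPrime]
    (hp'p : p'.LiesOver p) (htp : t.LiesOver p) (hsp' : s.LiesOver p') (hst : s.LiesOver t)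
    (hbij : Function.Bijective (Ideal.ResidueField.mapₐ p t (Algebra.ofId A A₁) htp.over)) :
    Function.Bijective
      (Ideal.ResidueField.mapₐ p' s (Algebra.ofId A' (A' ⊗[A] A₁)) hsp'.over) := by
  obtain ⟨ι₂, hι₂⟩ : ∃ ι₂ : p'.ResidueField →ₐ[A'] s.ResidueField,
      ι₂ = Ideal.ResidueField.mapₐ p' s (Algebra.ofId A' (A' ⊗[A] A₁)) hsp'.over := ⟨_, rfl⟩
  obtain ⟨ι₃, hι₃⟩ : ∃ ι₃ : p.ResidueField →ₐ[A] p'.ResidueField,
      ι₃ = Ideal.ResidueField.mapₐ p p' (Algebra.ofId A A') hp'p.over := ⟨_, rfl⟩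
  obtain ⟨ι₀, hι₀⟩ : ∃ ι₀ : p.ResidueField →ₐ[A] t.ResidueField,
      ι₀ = Ideal.ResidueField.mapₐ p t (Algebra.ofId A A₁) htp.over := ⟨_, rfl⟩
  obtain ⟨ι₁, hι₁⟩ : ∃ ι₁ : t.ResidueField →ₐ[A₁] s.ResidueField,
      ι₁ = Ideal.ResidueField.mapₐ t s (Algebra.ofId A₁ (A' ⊗[A] A₁)) hst.over := ⟨_, rfl⟩
  rw [← hι₂]
  rw [← hι₀] at hbij
  have hcomm : ∀ z, ι₂ (ι₃ z) = ι₁ (ι₀ z) := by
    have h0 : ι₂.toRingHom.comp ι₃.toRingHom = ι₁.toRingHom.comp ι₀.toRingHom := by
      apply Ideal.ResidueField.ringHom_ext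
      ext a
      show ι₂ (ι₃ (algebraMap A p.ResidueField a)) = ι₁ (ι₀ (algebraMap A p.ResidueField a))
      rw [ι₃.commutes, ι₀.commutes, IsScalarTower.algebraMap_apply A A' p'.ResidueField,
        IsScalarTower.algebraMap_apply A A₁ t.ResidueField, ι₂.commutes, ι₁.commutes,
        IsScalarTower.algebraMap_apply A' (A' ⊗[A] A₁) s.ResidueField,
        IsScalarTower.algebraMap_apply A₁ (A' ⊗[A] A₁) s.ResidueField,
        ← IsScalarTower.algebraMap_apply A A' (A' ⊗[A] A₁),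
        ← IsScalarTower.algebraMap_apply A A₁ (A' ⊗[A] A₁)]
    intro z
    exact congrArg (fun φ => φ z) h0
  have step1 : ∀ x : A' ⊗[A] A₁,
      algebraMap (A' ⊗[A] A₁) s.ResidueField x ∈ ι₂.toRingHom.fieldRange := by
    intro x
    induction x using TensorProduct.induction_on with
    | zero => rw [map_zero]; exact Subfield.zero_mem _
    | tmul a' a₁ =>
      have hsplit : (a' ⊗ₜ[A] a₁ : A' ⊗[A] A₁) =
          algebraMap A' (A' ⊗[A] A₁) a' * algebraMap A₁ (A' ⊗[A] A₁) a₁ := by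
        show _ = (a' ⊗ₜ[A] (1 : A₁)) * ((1 : A') ⊗ₜ[A] a₁)
        rw [Algebra.TensorProduct.tmul_mul_tmul, mul_one, one_mul]
      rw [hsplit, map_mul]
      refine Subfield.mul_mem _ ?_ ?_
      · refine ⟨algebraMap A' p'.ResidueField a', ?_⟩
        show ι₂ (algebraMap A' p'.ResidueField a') = _
        rw [AlgHom.commutes, IsScalarTower.algebraMap_apply A' (A' ⊗[A] A₁) s.ResidueField]
      · obtain ⟨z, hz⟩ := hbij.2 (algebraMap A₁ t.ResidueField a₁)
        refine ⟨ι₃ z, ?_⟩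
        show ι₂ (ι₃ z) = _
        rw [hcomm, hz, ι₁.commutes,
          IsScalarTower.algebraMap_apply A₁ (A' ⊗[A] A₁) s.ResidueField]
    | add x y hx hy => rw [map_add]; exact Subfield.add_mem _ hx hy
  refine ⟨(ι₂ : p'.ResidueField →+* s.ResidueField).injective, ?_⟩
  intro y
  obtain ⟨x, x', hx', hxy⟩ := IsFractionRing.div_surjective (A := (A' ⊗[A] A₁) ⧸ s) y
  obtain ⟨a, rfl⟩ := Ideal.Quotient.mk_surjective x
  obtain ⟨a', rfl⟩ := Ideal.Quotient.mk_surjective x'
  rw [Ideal.algebraMap_quotient_residueField_mk, Ideal.algebraMap_quotient_residueField_mk] at hxy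
  have hmem := Subfield.div_mem _ (step1 a) (step1 a')
  rw [hxy] at hmem
  obtain ⟨w, hw⟩ := hmem
  exact ⟨w, hw⟩


theorem impurity_lift_abstract
    {A B : Type u} [CommRing A] [CommRing B] [Algebra A B] [Algebra.FiniteType A B]
    {N : Type u} [AddCommGroup N] [Module B N] {p : Ideal A} [p.IsPrime]
    {A' B' N' : Type u} [CommRing A'] [CommRing B'] [Algebra A A'] [Algebra B B'] [Algebra A' B']
    [Algebra A B'] [IsScalarTower A B B'] [IsScalarTower A A' B']
    (hPB' : Algebra.IsPushout A B A' B')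
    [AddCommGroup N'] [Module B' N'] [Module B N'] [IsScalarTower B B' N'] {f : N →ₗ[B] N'}
    (hf : IsBaseChange B' f) {p' : Ideal A'} [p'.IsPrime]
    {A₁ B₁ N₁ : Type u} [CommRing A₁] [CommRing B₁] [Algebra A A₁] [Algebra B B₁]
    [Algebra A₁ B₁] [Algebra A B₁] [IsScalarTower A B B₁] [IsScalarTower A A₁ B₁]
    [AddCommGroup N₁] [Module B₁ N₁] [Module B N₁] [IsScalarTower B B₁ N₁] [Module A₁ N₁]
    [IsScalarTower A₁ B₁ N₁] {f₁ : N →ₗ[B] N₁} {t' t : Ideal A₁} [t'.IsPrime] [t.IsPrime]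
    {P : Ideal B₁} [P.IsPrime] (himp : FlatCA.IsImpurity A B N p A₁ B₁ N₁ f₁ t' t P)
    {A₂ B₂ N₂ : Type u} [CommRing A₂] [CommRing B₂] [Algebra A' A₂] [Algebra A₁ A₂] [Algebra A A₂]
    [IsScalarTower A A' A₂] [IsScalarTower A A₁ A₂]
    [Algebra B' B₂] [Algebra A₂ B₂] [Algebra A' B₂] [IsScalarTower A' B' B₂]
    [IsScalarTower A' A₂ B₂] (hPB₂ : Algebra.IsPushout A' B' A₂ B₂)
    [AddCommGroup N₂] [Module B₂ N₂] [Module B' N₂] [IsScalarTower B' B₂ N₂] [Module A₂ N₂]
    [IsScalarTower A₂ B₂ N₂] {f₂ : N' →ₗ[B'] N₂} (hf₂ : IsBaseChange B₂ f₂)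
    {s' s : Ideal A₂} [s'.IsPrime] [s.IsPrime] (hs's : s' ≤ s) (hsp' : s.LiesOver p')
    (hst : s.LiesOver t) (hs't' : s'.LiesOver t') :
    ∃ (P₂ : Ideal B₂) (_ : P₂.IsPrime), FlatCA.IsImpurity A' B' N' p' A₂ B₂ N₂ f₂ s' s P₂ := by
  obtain ⟨hPB₁, hf₁, htt, htp, hPt', hass, hcl⟩ := himp
  haveI := hPt'
  haveI := hs't'
  letI algA : Algebra A B₂ := ((algebraMap A' B₂).comp (algebraMap A A')).toAlgebra
  letI algB : Algebra B B₂ := ((algebraMap B' B₂).comp (algebraMap B B')).toAlgebra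
  letI algA₁ : Algebra A₁ B₂ := ((algebraMap A₂ B₂).comp (algebraMap A₁ A₂)).toAlgebra
  haveI T1 : IsScalarTower A A' B₂ := IsScalarTower.of_algebraMap_eq fun _ => rfl
  haveI T2 : IsScalarTower B B' B₂ := IsScalarTower.of_algebraMap_eq fun _ => rfl
  haveI T3 : IsScalarTower A₁ A₂ B₂ := IsScalarTower.of_algebraMap_eq fun _ => rfl
  haveI T4 : IsScalarTower A A₂ B₂ := IsScalarTower.of_algebraMap_eq fun a => by
    show algebraMap A' B₂ (algebraMap A A' a) = algebraMap A₂ B₂ (algebraMap A A₂ a)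
    rw [IsScalarTower.algebraMap_apply A A' A₂, ← IsScalarTower.algebraMap_apply A' A₂ B₂]
  haveI T5 : IsScalarTower A B' B₂ := IsScalarTower.of_algebraMap_eq fun a => by
    show algebraMap A' B₂ (algebraMap A A' a) = algebraMap B' B₂ (algebraMap A B' a)
    rw [IsScalarTower.algebraMap_apply A A' B', ← IsScalarTower.algebraMap_apply A' B' B₂]
  haveI T6 : IsScalarTower A B B₂ := IsScalarTower.of_algebraMap_eq fun a => by
    show algebraMap A B₂ a = algebraMap B' B₂ (algebraMap B B' (algebraMap A B a))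
    rw [← IsScalarTower.algebraMap_apply A B B', ← IsScalarTower.algebraMap_apply A B' B₂]
  haveI T7 : IsScalarTower A A₁ B₂ := IsScalarTower.of_algebraMap_eq fun a => by
    show algebraMap A B₂ a = algebraMap A₂ B₂ (algebraMap A₁ A₂ (algebraMap A A₁ a))
    rw [← IsScalarTower.algebraMap_apply A A₁ A₂, ← IsScalarTower.algebraMap_apply A A₂ B₂]
  haveI := hPB₁
  letI algB₁ : Algebra B₁ B₂ := (Algebra.pushoutDesc B₁ (IsScalarTower.toAlgHom A B B₂)
    (IsScalarTower.toAlgHom A A₁ B₂) (fun _ _ => mul_comm _ _)).toRingHom.toAlgebra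
  haveI T8 : IsScalarTower B B₁ B₂ := IsScalarTower.of_algebraMap_eq fun b => by
    show algebraMap B B₂ b = Algebra.pushoutDesc B₁ (IsScalarTower.toAlgHom A B B₂)
      (IsScalarTower.toAlgHom A A₁ B₂) (fun _ _ => mul_comm _ _) (algebraMap B B₁ b)
    rw [Algebra.pushoutDesc_left]; rfl
  haveI T9 : IsScalarTower A₁ B₁ B₂ := IsScalarTower.of_algebraMap_eq fun a => by
    show algebraMap A₁ B₂ a = Algebra.pushoutDesc B₁ (IsScalarTower.toAlgHom A B B₂)
      (IsScalarTower.toAlgHom A A₁ B₂) (fun _ _ => mul_comm _ _) (algebraMap A₁ B₁ a)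
    rw [Algebra.pushoutDesc_right]; rfl
  haveI T10 : IsScalarTower A B₁ B₂ := IsScalarTower.of_algebraMap_eq fun a => by
    show algebraMap A B₂ a = Algebra.pushoutDesc B₁ (IsScalarTower.toAlgHom A B B₂)
      (IsScalarTower.toAlgHom A A₁ B₂) (fun _ _ => mul_comm _ _) (algebraMap A B₁ a)
    rw [AlgHom.commutes]
  haveI hPB'symm : Algebra.IsPushout A A' B B' := hPB'.symm
  haveI hPB₁symm : Algebra.IsPushout A A₁ B B₁ := hPB₁.symm
  have houter : Algebra.IsPushout A A₂ B B₂ :=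
    (Algebra.IsPushout.comp_iff A A' B (S' := B') (T := A₂) (T' := B₂)).mpr hPB₂.symm
  have hright : Algebra.IsPushout A₁ A₂ B₁ B₂ :=
    (Algebra.IsPushout.comp_iff A A₁ B (S' := B₁) (T := A₂) (T' := B₂)).mp houter
  have hP : Algebra.IsPushout A₁ B₁ A₂ B₂ := hright.symm
  letI modB : Module B N₂ := Module.compHom N₂ (algebraMap B B₂)
  letI modB₁ : Module B₁ N₂ := Module.compHom N₂ (algebraMap B₁ B₂)
  haveI M1 : IsScalarTower B B₂ N₂ := IsScalarTower.of_algebraMap_smul fun _ _ => rfl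
  haveI M2 : IsScalarTower B₁ B₂ N₂ := IsScalarTower.of_algebraMap_smul fun _ _ => rfl
  haveI M3 : IsScalarTower B B' N₂ := IsScalarTower.of_algebraMap_smul fun b m => by
    show algebraMap B B' b • m = algebraMap B B₂ b • m
    rw [IsScalarTower.algebraMap_apply B B' B₂, algebraMap_smul B₂ (algebraMap B B' b) m]
  haveI M4 : IsScalarTower B B₁ N₂ := IsScalarTower.of_algebraMap_smul fun b m => by
    show algebraMap B₁ B₂ (algebraMap B B₁ b) • m = algebraMap B B₂ b • m
    rw [← IsScalarTower.algebraMap_apply B B₁ B₂]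
  have hφ : IsBaseChange B₂ ((f₂.restrictScalars B).comp f) := IsBaseChange.comp hf hf₂
  have hlift : ((hf₁.lift ((f₂.restrictScalars B).comp f)).restrictScalars B).comp f₁ =
      (f₂.restrictScalars B).comp f := hf₁.lift_comp _
  have hg : IsBaseChange B₂ (hf₁.lift ((f₂.restrictScalars B).comp f)) :=
    IsBaseChange.of_comp hf₁ (by rw [hlift]; exact hφ)
  haveI hFT : Algebra.FiniteType A₂ B₂ := by
    haveI := houter
    exact Algebra.FiniteType.equiv (inferInstance : Algebra.FiniteType A₂ (A₂ ⊗[A] B))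
      (Algebra.IsPushout.equiv A A₂ B B₂)
  obtain ⟨P₂, hP₂p, hP₂s', hP₂P, hass₂⟩ := lift_ass B₁ B₂ t' s'
    (hf₁.lift ((f₂.restrictScalars B).comp f)) hP hg P hass
  haveI := hP₂p
  refine ⟨P₂, hP₂p, ?_⟩
  unfold FlatCA.IsImpurity
  refine ⟨hPB₂, hf₂, hs's, hsp', hP₂s', hass₂, ?_⟩
  intro P₂' _ hle hover
  refine hcl (P₂'.comap (algebraMap B₁ B₂)) ?_ ⟨?_⟩
  · rw [← hP₂P]; exact Ideal.comap_mono hle
  · show t = (P₂'.comap (algebraMap B₁ B₂)).comap (algebraMap A₁ B₁)
    rw [Ideal.comap_comap, ← IsScalarTower.algebraMap_eq A₁ B₁ B₂,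
      IsScalarTower.algebraMap_eq A₁ A₂ B₂, ← Ideal.comap_comap]
    have h1 : P₂'.comap (algebraMap A₂ B₂) = s := hover.over.symm
    rw [h1]; exact hst.over

end Groth.Agent.H9.PureA
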