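import Groth.Agent.Lib.Helper9.Misc.PureE

set_option autoImplicit false
universe u

open TensorProduct

namespace Groth.Agent.H9.PureA

attribute [local instance] Algebra.TensorProduct.rightAlgebra

theorem not_pure_abstract
    {A B : Type u} [CommRing A] [CommRing B] [Algebra A B] [Algebra.FiniteType A B]
    {N : Type u} [AddCommGroup N] [Module B N] {p : Ideal A} [p.IsPrime]
    {A' B' N' : Type u} [CommRing A'] [CommRing B'] [Algebra A A'] [Algebra B B'] [Algebra A' B']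
    [Algebra A B'] [IsScalarTower A B B'] [IsScalarTower A A' B']
    (hPB' : Algebra.IsPushout A B A' B')
    [AddCommGroup N'] [Module B' N'] [Module B N'] [IsScalarTower B B' N'] {f : N →ₗ[B] N'}
    (hf : IsBaseChange B' f) {p' : Ideal A'} [p'.IsPrime]
    {A₁ B₁ N₁ : Type u} [CommRing A₁] [CommRing B₁] [Algebra A A₁] [Algebra B B₁]
    [Algebra A₁ B₁] [Algebra A B₁] [IsScalarTower A B B₁] [IsScalarTower A A₁ B₁]
    [AddCommGroup N₁] [Module B₁ N₁] [Module B N₁] [IsScalarTower B B₁ N₁] [Module A₁ N₁]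
    [IsScalarTower A₁ B₁ N₁] {f₁ : N →ₗ[B] N₁} {t' t : Ideal A₁} [t'.IsPrime] [t.IsPrime]
    {P : Ideal B₁} [P.IsPrime] (himp : FlatCA.IsImpurity A B N p A₁ B₁ N₁ f₁ t' t P)
    {A₂ : Type u} [CommRing A₂] [Algebra A' A₂] [Algebra A₁ A₂] [Algebra A A₂]
    [IsScalarTower A A' A₂] [IsScalarTower A A₁ A₂]
    {s' s : Ideal A₂} [s'.IsPrime] [s.IsPrime] (hs's : s' ≤ s) (hsp' : s.LiesOver p')
    (hst : s.LiesOver t) (hs't' : s'.LiesOver t') :
    (FlatCA.IsUnivPureAlong A' B' N' p' → False) ∧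
      (FlatCA.IsEtaleNhd A' A₂ p' s → FlatCA.IsPureAlong A' B' N' p' → False) := by
  obtain ⟨P₂, hP₂, himp₂⟩ := impurity_lift_abstract hPB' hf himp
    (B₂ := B' ⊗[A'] A₂) (N₂ := (B' ⊗[A'] A₂) ⊗[B'] N') inferInstance
    (TensorProduct.isBaseChange B' N' (B' ⊗[A'] A₂)) hs's hsp' hst hs't'
  haveI := hP₂
  refine ⟨fun h' => ?_, fun het' h' => ?_⟩
  · exact h' A₂ (B' ⊗[A'] A₂) ((B' ⊗[A'] A₂) ⊗[B'] N') (TensorProduct.mk B' (B' ⊗[A'] A₂) N' 1)
      s' s P₂ himp₂
  · exact h' A₂ (B' ⊗[A'] A₂) ((B' ⊗[A'] A₂) ⊗[B'] N') (TensorProduct.mk B' (B' ⊗[A'] A₂) N' 1)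
      s' s P₂ het' himp₂

theorem flat_descent {A B : Type u} [CommRing A] [CommRing B] [Algebra A B]
    [Algebra.FiniteType A B] (N : Type u) [AddCommGroup N] [Module B N] (p : Ideal A) [p.IsPrime]
    (A' B' N' : Type u) [CommRing A'] [CommRing B'] [Algebra A A'] [Algebra B B'] [Algebra A' B']
    [Algebra A B'] [IsScalarTower A B B'] [IsScalarTower A A' B'] [Algebra.IsPushout A B A' B']
    [AddCommGroup N'] [Module B' N'] [Module B N'] [IsScalarTower B B' N'] (f : N →ₗ[B] N')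
    (hf : IsBaseChange B' f) (p' : Ideal A') [p'.IsPrime] [p'.LiesOver p]
    [Module.Flat A (Localization.AtPrime p')] :
    (FlatCA.IsPureAlong A' B' N' p' → FlatCA.IsPureAlong A B N p) ∧
    (FlatCA.IsUnivPureAlong A' B' N' p' → FlatCA.IsUnivPureAlong A B N p) := by
  refine ⟨?_, ?_⟩
  · intro h' A₁ B₁ N₁ _ _ _ _ _ _ _ _ _ _ _ _ _ _ f₁ t' t _ _ P _ het himp
    have himp' := himp
    obtain ⟨-, -, htt, htp, -, -, -⟩ := himp'
    haveI := htp
    obtain ⟨s', s, hs'p, hsp, hs's, hsp', hst, hs't'⟩ := exists_primes_over p p' t' t htt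
    haveI := hs'p
    haveI := hsp
    obtain ⟨het1, het2, het3⟩ := het
    haveI := het1
    have het' : FlatCA.IsEtaleNhd A' (A' ⊗[A] A₁) p' s :=
      ⟨inferInstance, hsp', residue_bijective p p' t s inferInstance het2 hsp' hst het3⟩
    exact (not_pure_abstract (inferInstance : Algebra.IsPushout A B A' B') hf himp
      hs's hsp' hst hs't').2 het' h'
  · intro h' A₁ B₁ N₁ _ _ _ _ _ _ _ _ _ _ _ _ _ _ f₁ t' t _ _ P _ himp
    have himp' := himp
    obtain ⟨-, -, htt, htp, -, -, -⟩ := himp'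
    haveI := htp
    obtain ⟨s', s, hs'p, hsp, hs's, hsp', hst, hs't'⟩ := exists_primes_over p p' t' t htt
    haveI := hs'p
    haveI := hsp
    exact (not_pure_abstract (inferInstance : Algebra.IsPushout A B A' B') hf himp
      hs's hsp' hst hs't').1 h'

end Groth.Agent.H9.PureA
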