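import Groth.Agent.Lib.Helper9.Misc.PureF
import Groth.Agent.Lib.Helper8.Hens.Henselization
import Groth.Agent.Lib.Helper8.Hens.Pointed

set_option autoImplicit false
universe u

open TensorProduct

namespace Groth.Agent.H9.PureA

attribute [local instance] Algebra.TensorProduct.rightAlgebra

/-- For an unramified `A`-algebra `A₁` with an `A`-algebra map `g` to a flat `A`-algebra `H`:
every prime of `A₁` below the contraction of a prime `𝔪` of `H` is the contraction of a prime
of `H` below `𝔪`. -/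
theorem exists_prime_of_section {A A₁ H : Type u} [CommRing A] [CommRing A₁] [CommRing H]
    [Algebra A A₁] [Algebra.EssFiniteType A A₁] [Algebra.FormallyUnramified A A₁]
    [Algebra A H] [Module.Flat A H] (g : A₁ →ₐ[A] H) (𝔪 : Ideal H) [𝔪.IsPrime]
    (t' : Ideal A₁) [t'.IsPrime] (htt : t' ≤ 𝔪.comap g.toRingHom) :
    ∃ q : Ideal H, q.IsPrime ∧ q ≤ 𝔪 ∧ q.comap g.toRingHom = t' := by
  obtain ⟨m, hm⟩ : ∃ m : A₁ ⊗[A] H →ₐ[A] H, ∀ a h, m (a ⊗ₜ[A] h) = g a * h :=
    ⟨Algebra.TensorProduct.lift g (AlgHom.id A H) (fun _ _ => Commute.all _ _), fun a h => by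
      rw [Algebra.TensorProduct.lift_tmul]; rfl⟩
  have hmsurj : Function.Surjective m.toRingHom := fun h =>
    ⟨(1 : A₁) ⊗ₜ[A] h, by show m ((1 : A₁) ⊗ₜ[A] h) = h; rw [hm, map_one, one_mul]⟩
  haveI : (𝔪.comap m.toRingHom).IsPrime := Ideal.comap_isPrime _ _
  haveI : (𝔪.comap g.toRingHom).IsPrime := Ideal.comap_isPrime _ _
  have hmL : m.toRingHom.comp (algebraMap A₁ (A₁ ⊗[A] H)) = g.toRingHom := by
    ext a
    show m (a ⊗ₜ[A] (1 : H)) = g a
    rw [hm, mul_one]
  haveI hs₂t : (𝔪.comap m.toRingHom).LiesOver (𝔪.comap g.toRingHom) := ⟨by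
    show _ = (𝔪.comap m.toRingHom).comap (algebraMap A₁ (A₁ ⊗[A] H))
    rw [Ideal.comap_comap, hmL]⟩
  obtain ⟨s₂', hs₂'le, hs₂'p, hs₂'t'⟩ := Ideal.exists_ideal_le_liesOver_of_le (p := t')
    (q := 𝔪.comap g.toRingHom) (𝔪.comap m.toRingHom) htt
  haveI := hs₂'p
  obtain ⟨e, he, hsp⟩ : ∃ e, IsIdempotentElem e ∧
      KaehlerDifferential.ideal A A₁ = Ideal.span {e} :=
    (Ideal.isIdempotentElem_iff_of_fg _ (KaehlerDifferential.ideal_fg A A₁)).mp
      ((Ideal.cotangent_subsingleton_iff _).mp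
        (inferInstanceAs (Subsingleton (KaehlerDifferential A A₁))))
  obtain ⟨ψ, hψ⟩ : ∃ ψ : A₁ ⊗[A] A₁ →ₐ[A] A₁ ⊗[A] H, ∀ a b, ψ (a ⊗ₜ[A] b) = a ⊗ₜ[A] g b :=
    ⟨Algebra.TensorProduct.map (AlgHom.id A A₁) g, fun a b => by
      rw [Algebra.TensorProduct.map_tmul]; rfl⟩
  have hmψ : ∀ x, m (ψ x) = g (Algebra.TensorProduct.lmul' A x) := by
    intro x
    induction x using TensorProduct.induction_on with
    | zero => simp only [map_zero]
    | tmul a b => rw [hψ, hm, Algebra.TensorProduct.lmul'_apply_tmul, map_mul]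
    | add x y hx hy => simp only [map_add, hx, hy]
  have he0 : Algebra.TensorProduct.lmul' A e = 0 := by
    have h1 : e ∈ KaehlerDifferential.ideal A A₁ := by
      rw [hsp]; exact Ideal.mem_span_singleton_self e
    exact h1
  have hε0 : m (ψ e) = 0 := by rw [hmψ, he0, map_zero]
  have hεidem : IsIdempotentElem (ψ e) := he.map ψ
  have hker : ∀ z : A₁ ⊗[A] H, z - (1 : A₁) ⊗ₜ[A] (m z) ∈ Ideal.span {ψ e} := by
    intro z
    induction z using TensorProduct.induction_on with
    | zero => rw [map_zero, TensorProduct.tmul_zero, sub_zero]; exact Ideal.zero_mem _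
    | tmul a h =>
      have h1 : (1 : A₁) ⊗ₜ[A] a - a ⊗ₜ[A] (1 : A₁) ∈ KaehlerDifferential.ideal A A₁ :=
        KaehlerDifferential.one_smul_sub_smul_one_mem_ideal A a
      rw [hsp] at h1
      obtain ⟨c, hc⟩ := Ideal.mem_span_singleton'.mp h1
      have h2 : a ⊗ₜ[A] h - (1 : A₁) ⊗ₜ[A] (m (a ⊗ₜ[A] h)) =
          - (ψ c * ψ e) * ((1 : A₁) ⊗ₜ[A] h) := by
        rw [← map_mul, hc, map_sub, hψ, hψ, map_one, hm, neg_sub, sub_mul,
          Algebra.TensorProduct.tmul_mul_tmul, Algebra.TensorProduct.tmul_mul_tmul]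
        simp only [mul_one, one_mul]
      rw [h2]
      exact Ideal.mul_mem_right _ _ ((Ideal.neg_mem_iff _).mpr
        (Ideal.mul_mem_left _ _ (Ideal.mem_span_singleton_self _)))
    | add x y hx hy =>
      have h3 : x + y - (1 : A₁) ⊗ₜ[A] (m (x + y)) =
          (x - (1 : A₁) ⊗ₜ[A] (m x)) + (y - (1 : A₁) ⊗ₜ[A] (m y)) := by
        rw [map_add, TensorProduct.tmul_add]; abel
      rw [h3]; exact Ideal.add_mem _ hx hy
  have hkerle : RingHom.ker m.toRingHom ≤ s₂' := by
    intro z hz
    have hz0 : m z = 0 := hz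
    have h1 := hker z
    rw [hz0, TensorProduct.tmul_zero, sub_zero] at h1
    have hεs₂' : ψ e ∈ s₂' := by
      have h2 : (1 - ψ e) ∉ 𝔪.comap m.toRingHom := by
        intro h3
        have h4 : ψ e ∈ 𝔪.comap m.toRingHom := by
          rw [Ideal.mem_comap]
          show m (ψ e) ∈ 𝔪
          rw [hε0]; exact 𝔪.zero_mem
        have h5 := Ideal.add_mem _ h3 h4
        rw [sub_add_cancel] at h5
        exact (Ideal.IsPrime.ne_top inferInstance) ((Ideal.eq_top_iff_one _).mpr h5)
      have h6 : ψ e * (1 - ψ e) ∈ s₂' := by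
        rw [mul_sub, mul_one, hεidem.eq, sub_self]; exact s₂'.zero_mem
      rcases Ideal.IsPrime.mem_or_mem hs₂'p h6 with h7 | h7
      · exact h7
      · exact absurd (hs₂'le h7) h2
    exact (Ideal.span_singleton_le_iff_mem _).mpr hεs₂' h1
  have hq : (s₂'.map m.toRingHom).IsPrime := Ideal.map_isPrime_of_surjective hmsurj hkerle
  have hcm : (s₂'.map m.toRingHom).comap m.toRingHom = s₂' := by
    rw [Ideal.comap_map_of_surjective m.toRingHom hmsurj]
    exact sup_eq_left.mpr hkerle
  refine ⟨s₂'.map m.toRingHom, hq, ?_, ?_⟩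
  · exact (Ideal.map_mono hs₂'le).trans Ideal.map_comap_le
  · rw [← hmL, ← Ideal.comap_comap, hcm]
    exact hs₂'t'.over.symm

theorem hens_impurity_aux {A B : Type u} [CommRing A] [CommRing B] [Algebra A B]
    [Algebra.FiniteType A B] (N : Type u) [AddCommGroup N] [Module B N] (p : Ideal A) [p.IsPrime]
    {A₁ B₁ N₁ : Type u} [CommRing A₁] [CommRing B₁] [Algebra A A₁] [Algebra B B₁]
    [Algebra A₁ B₁] [Algebra A B₁] [IsScalarTower A B B₁] [IsScalarTower A A₁ B₁]
    [AddCommGroup N₁] [Module B₁ N₁] [Module B N₁] [IsScalarTower B B₁ N₁] [Module A₁ N₁]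
    [IsScalarTower A₁ B₁ N₁] {f₁ : N →ₗ[B] N₁} {t' t : Ideal A₁} [t'.IsPrime] [t.IsPrime]
    {P : Ideal B₁} [P.IsPrime] (himp : FlatCA.IsImpurity A B N p A₁ B₁ N₁ f₁ t' t P)
    [Algebra.Etale A A₁] (htp : t.LiesOver p)
    (hbij : Function.Bijective (Ideal.ResidueField.mapₐ p t (Algebra.ofId A A₁) htp.over))
    (H : Type u) [CommRing H] [HenselianLocalRing H] [Algebra (Localization.AtPrime p) H]
    [IsLocalHom (algebraMap (Localization.AtPrime p) H)] [Module.Flat (Localization.AtPrime p) H]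
    [Algebra A H] [IsScalarTower A (Localization.AtPrime p) H] :
    ∃ (q : Ideal H) (_ : q.IsPrime) (P₂ : Ideal (B ⊗[A] H)) (_ : P₂.IsPrime),
      FlatCA.IsImpurity A B N p H (B ⊗[A] H) ((B ⊗[A] H) ⊗[B] N)
        (TensorProduct.mk B (B ⊗[A] H) N 1) q (IsLocalRing.maximalIdeal H) P₂ := by
  have himp' := himp
  obtain ⟨-, -, htt, -, -, -, -⟩ := himp'
  -- the residue field map
  obtain ⟨τ, -⟩ : ∃ τ : t.ResidueField →ₐ[A] IsLocalRing.ResidueField H, True := by
    refine ⟨AlgHom.comp
      ({ IsLocalRing.ResidueField.map (algebraMap (Localization.AtPrime p) H) with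
          commutes' := fun a => ?_ } : p.ResidueField →ₐ[A] IsLocalRing.ResidueField H)
      (AlgEquiv.ofBijective _ hbij).symm.toAlgHom, trivial⟩
    show IsLocalRing.ResidueField.map (algebraMap (Localization.AtPrime p) H)
      (IsLocalRing.residue (Localization.AtPrime p) (algebraMap A (Localization.AtPrime p) a)) =
      IsLocalRing.residue H (algebraMap A H a)
    rw [IsLocalRing.ResidueField.map_residue,
      ← IsScalarTower.algebraMap_apply A (Localization.AtPrime p) H]
  obtain ⟨g, hg⟩ := Groth.Agent.H8.Hens.exists_algHom_of_henselian (R := A) (E := A₁)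
    (K := t.ResidueField) (IsScalarTower.toAlgHom A A₁ t.ResidueField) (T := H) τ
  have hgt : (IsLocalRing.maximalIdeal H).comap g.toRingHom = t := by
    ext x
    rw [Ideal.mem_comap]
    show g x ∈ IsLocalRing.maximalIdeal H ↔ x ∈ t
    rw [← IsLocalRing.residue_eq_zero_iff, hg, map_eq_zero_iff τ τ.toRingHom.injective]
    show algebraMap A₁ t.ResidueField x = 0 ↔ x ∈ t
    exact Ideal.algebraMap_residueField_eq_zero
  haveI : Module.Flat A (Localization.AtPrime p) := IsLocalization.flat _ p.primeCompl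
  haveI : Module.Flat A H := Module.Flat.trans A (Localization.AtPrime p) H
  obtain ⟨q, hqp, hqle, hqt'⟩ := exists_prime_of_section g (IsLocalRing.maximalIdeal H) t'
    (by rw [hgt]; exact htt)
  haveI := hqp
  letI : Algebra A₁ H := g.toRingHom.toAlgebra
  haveI : IsScalarTower A A₁ H := IsScalarTower.of_algebraMap_eq fun a => (g.commutes a).symm
  have hst : (IsLocalRing.maximalIdeal H).LiesOver t := ⟨hgt.symm⟩
  have hs't' : q.LiesOver t' := ⟨hqt'.symm⟩
  have hsp' : (IsLocalRing.maximalIdeal H).LiesOver p := ⟨by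
    rw [← Ideal.under_under (B := Localization.AtPrime p) (IsLocalRing.maximalIdeal H)]
    have h1 : (IsLocalRing.maximalIdeal H).under (Localization.AtPrime p) =
        IsLocalRing.maximalIdeal (Localization.AtPrime p) :=
      IsLocalRing.maximalIdeal_comap (algebraMap (Localization.AtPrime p) H)
    rw [h1]
    exact (IsLocalization.AtPrime.comap_maximalIdeal (Localization.AtPrime p) p).symm⟩
  obtain ⟨P₂, hP₂, himp₂⟩ := impurity_lift_abstract (A' := A) (B' := B) (N' := N) (p' := p)
    (inferInstance : Algebra.IsPushout A B A B)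
    (IsBaseChange.of_equiv (f := (LinearMap.id : N →ₗ[B] N)) (TensorProduct.lid B N)
      (fun x => by rw [TensorProduct.lid_tmul, one_smul]; rfl)) himp
    (A₂ := H) (B₂ := B ⊗[A] H) (N₂ := (B ⊗[A] H) ⊗[B] N) inferInstance
    (TensorProduct.isBaseChange B N (B ⊗[A] H)) hqle hsp' hst hs't'
  exact ⟨q, hqp, P₂, hP₂, himp₂⟩

theorem hens_impurity {A B : Type u} [CommRing A] [CommRing B] [Algebra A B]
    [Algebra.FiniteType A B] (N : Type u) [AddCommGroup N] [Module B N] (p : Ideal A) [p.IsPrime]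
    (h : FlatCA.HasImpurity A B N p
      (fun A' _ _ t => ∃ _ : t.IsPrime, FlatCA.IsEtaleNhd A A' p t)) :
    FlatCA.HasImpurity A B N p (fun A' _ _ t => ∃ (_ : IsLocalRing A')
      (_ : Algebra (Localization.AtPrime p) A') (_ : IsScalarTower A (Localization.AtPrime p) A')
      (_ : IsLocalHom (algebraMap (Localization.AtPrime p) A')),
      Hensel.IsHenselization (Localization.AtPrime p) A' ∧ t = IsLocalRing.maximalIdeal A') := by
  obtain ⟨A₁, B₁, N₁, _, _, _, _, _, _, _, _, _, _, _, _, _, _, f₁, t', t, _, _, P, _, himp,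
    _, het⟩ := h
  obtain ⟨hét, htp, hbij⟩ := het
  haveI := hét
  letI : Algebra A (Groth.Agent.H8.Hens.Henselization (Localization.AtPrime p)) :=
    ((algebraMap (Localization.AtPrime p)
      (Groth.Agent.H8.Hens.Henselization (Localization.AtPrime p))).comp
      (algebraMap A (Localization.AtPrime p))).toAlgebra
  haveI : IsScalarTower A (Localization.AtPrime p)
      (Groth.Agent.H8.Hens.Henselization (Localization.AtPrime p)) :=
    IsScalarTower.of_algebraMap_eq fun _ => rfl
  obtain ⟨q, hq, P₂, hP₂, himp₂⟩ := hens_impurity_aux N p himp htp hbij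
    (Groth.Agent.H8.Hens.Henselization (Localization.AtPrime p))
  exact ⟨Groth.Agent.H8.Hens.Henselization (Localization.AtPrime p),
    B ⊗[A] Groth.Agent.H8.Hens.Henselization (Localization.AtPrime p),
    (B ⊗[A] Groth.Agent.H8.Hens.Henselization (Localization.AtPrime p)) ⊗[B] N,
    inferInstance, inferInstance, inferInstance, inferInstance, inferInstance, inferInstance,
    inferInstance, inferInstance, inferInstance, inferInstance, inferInstance, inferInstance,
    inferInstance, inferInstance,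
    TensorProduct.mk B (B ⊗[A] Groth.Agent.H8.Hens.Henselization (Localization.AtPrime p)) N 1,
    q, IsLocalRing.maximalIdeal _, hq, inferInstance, P₂, hP₂, himp₂,
    inferInstance, inferInstance, inferInstance, inferInstance,
    Groth.Agent.H8.Hens.isHenselization, rfl⟩

end Groth.Agent.H9.PureA
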