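import Groth.Agent.Lib.Helper9.Misc.PureF

set_option autoImplicit false
universe u

open TensorProduct

namespace Groth.Agent.H9.PureA

attribute [local instance] Algebra.TensorProduct.rightAlgebra

/-- coordinates of `L ⊗ N` along a `K`-basis of `L` -/
lemma exists_coords {A₁ : Type u} [CommRing A₁] {K L : Type u} [Field K] [Field L] [Algebra A₁ K]
    [Algebra A₁ L] (ι : K →ₐ[A₁] L) (N₁ : Type u) [AddCommGroup N₁] [Module A₁ N₁] :
    ∃ (J : Type u) (lam : J → (L →ₗ[A₁] K)),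
      (∀ j k l, lam j (ι k * l) = k * lam j l) ∧
      (∀ w : L ⊗[A₁] N₁, (∀ j, LinearMap.rTensor N₁ (lam j) w = 0) → w = 0) ∧
      (∀ w : L ⊗[A₁] N₁, ∃ S : Finset J, ∀ j, j ∉ S → LinearMap.rTensor N₁ (lam j) w = 0) := by
  classical
  letI : Algebra K L := ι.toRingHom.toAlgebra
  haveI : IsScalarTower A₁ K L := IsScalarTower.of_algebraMap_eq fun a => (ι.commutes a).symm
  obtain ⟨b⟩ : Nonempty (Module.Basis (Module.Free.ChooseBasisIndex K L) K L) :=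
    ⟨Module.Free.chooseBasis K L⟩
  obtain ⟨e₁, he₁⟩ : ∃ e₁ : L ≃ₗ[A₁] (Module.Free.ChooseBasisIndex K L →₀ K),
      ∀ l, e₁ l = b.repr l := ⟨b.repr.restrictScalars A₁, fun _ => rfl⟩
  obtain ⟨E, hE0⟩ : ∃ E : L ⊗[A₁] N₁ ≃ₗ[A₁] (Module.Free.ChooseBasisIndex K L →₀ (K ⊗[A₁] N₁)),
      ∀ l n j, E (l ⊗ₜ[A₁] n) j = (e₁ l j) ⊗ₜ[A₁] n :=
    ⟨(LinearEquiv.rTensor N₁ e₁).trans
      (TensorProduct.finsuppLeft A₁ A₁ K N₁ (Module.Free.ChooseBasisIndex K L)), fun l n j => by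
      rw [LinearEquiv.trans_apply, LinearEquiv.rTensor_tmul,
        TensorProduct.finsuppLeft_apply_tmul_apply]⟩
  obtain ⟨lam, hlam⟩ : ∃ lam : Module.Free.ChooseBasisIndex K L → (L →ₗ[A₁] K),
      ∀ j l, lam j l = e₁ l j :=
    ⟨fun j => (Finsupp.lapply j).comp e₁.toLinearMap, fun _ _ => rfl⟩
  have hE : ∀ w j, E w j = LinearMap.rTensor N₁ (lam j) w := by
    intro w j
    induction w using TensorProduct.induction_on with
    | zero => rw [map_zero, map_zero]; rfl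
    | tmul l n => rw [hE0, LinearMap.rTensor_tmul, hlam]
    | add x y hx hy => rw [map_add, Finsupp.add_apply, hx, hy, map_add]
  refine ⟨Module.Free.ChooseBasisIndex K L, lam, ?_, ?_, ?_⟩
  · intro j k l
    rw [hlam, hlam, he₁, he₁]
    have h1 : ι k * l = k • l := (Algebra.smul_def k l).symm
    rw [h1, map_smul, Finsupp.smul_apply, smul_eq_mul]
  · intro w hw
    apply E.injective
    ext j
    rw [hE, hw j, map_zero]; rfl
  · intro w
    exact ⟨(E w).support, fun j hj => by rw [← hE]; exact Finsupp.notMem_support_iff.mp hj⟩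

section Descend
variable {A₁ A₂ : Type u} (B₁ B₂ : Type u) [CommRing A₁] [CommRing A₂] [CommRing B₁] [CommRing B₂]
  [Algebra A₁ A₂] [Algebra A₁ B₁] [Algebra A₂ B₂] [Algebra B₁ B₂] [Algebra A₁ B₂]
  [IsScalarTower A₁ B₁ B₂] [IsScalarTower A₁ A₂ B₂]
  (t' : Ideal A₁) [t'.IsPrime] (s' : Ideal A₂) [s'.IsPrime] [hs' : s'.LiesOver t']
  {N₁ N₂ : Type u} [AddCommGroup N₁] [Module B₁ N₁]
  [AddCommGroup N₂] [Module B₂ N₂] [Module B₁ N₂] [IsScalarTower B₁ B₂ N₂]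
  (g : N₁ →ₗ[B₁] N₂)
  [Module A₁ N₁] [IsScalarTower A₁ B₁ N₁] [Module A₂ N₂] [IsScalarTower A₂ B₂ N₂]

theorem descend_ass (hP : Algebra.IsPushout A₁ B₁ A₂ B₂) (hg : IsBaseChange B₂ g)
    {𝔓₃ : Ideal (s'.Fiber B₂)}
    (h : 𝔓₃ ∈ associatedPrimes (s'.Fiber B₂) ((s'.Fiber B₂) ⊗[B₂] N₂)) :
    𝔓₃.comap (fibMap B₁ B₂ t' s') ∈
      associatedPrimes (t'.Fiber B₁) ((t'.Fiber B₁) ⊗[B₁] N₁) := by
  classical
  letI : Module A₁ N₂ := Module.compHom N₂ (algebraMap A₁ A₂)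
  haveI : IsScalarTower A₁ A₂ N₂ := IsScalarTower.of_algebraMap_smul fun r m => rfl
  haveI : IsScalarTower A₁ B₁ N₂ := IsScalarTower.of_algebraMap_smul fun r m => by
    show algebraMap A₁ B₁ r • m = algebraMap A₁ A₂ r • m
    rw [← algebraMap_smul B₂ (algebraMap A₁ B₁ r) m, ← algebraMap_smul B₂ (algebraMap A₁ A₂ r) m,
      ← IsScalarTower.algebraMap_apply A₁ B₁ B₂, ← IsScalarTower.algebraMap_apply A₁ A₂ B₂]
  haveI : Algebra.IsPushout A₁ A₂ B₁ B₂ := hP.symm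
  have hg' : IsBaseChange A₂ (g.restrictScalars A₁) :=
    isBaseChange_restrict (R := A₁) (S := A₂) (A := B₁) (B := B₂) g hg
  obtain ⟨Ψ, hΨ⟩ : ∃ Ψ : (s'.Fiber B₂) ⊗[B₂] N₂ ≃+ s'.ResidueField ⊗[A₁] N₁,
      ∀ l n, Ψ.symm (l ⊗ₜ[A₁] n) = (cB s' B₂ N₂).symm (l ⊗ₜ[A₂] g n) := by
    refine ⟨((cB s' B₂ N₂).toAddEquiv.trans
      (LinearEquiv.lTensor s'.ResidueField hg'.equiv.symm).toAddEquiv).trans
      (TensorProduct.AlgebraTensorModule.cancelBaseChange A₁ A₂ A₂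
        s'.ResidueField N₁).toAddEquiv, fun l n => ?_⟩
    rw [AddEquiv.symm_trans_apply, AddEquiv.symm_trans_apply]
    show (cB s' B₂ N₂).symm ((LinearEquiv.lTensor s'.ResidueField hg'.equiv.symm).symm
      ((TensorProduct.AlgebraTensorModule.cancelBaseChange A₁ A₂ A₂
        s'.ResidueField N₁).symm (l ⊗ₜ[A₁] n))) = _
    rw [TensorProduct.AlgebraTensorModule.cancelBaseChange_symm_tmul,
      LinearEquiv.lTensor_symm_tmul, LinearEquiv.symm_symm, hg'.equiv_tmul, one_smul]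
    rfl
  obtain ⟨J, lam, hlamK, hlam0, hlamS⟩ := exists_coords (resMap t' s') N₁
  have hsemi : ∀ (j : J) (r : t'.Fiber B₁) (w : s'.ResidueField ⊗[A₁] N₁),
      (cB t' B₁ N₁).symm (LinearMap.rTensor N₁ (lam j)
        (Ψ (fibMap B₁ B₂ t' s' r • Ψ.symm w))) =
        r • (cB t' B₁ N₁).symm (LinearMap.rTensor N₁ (lam j) w) := by
    intro j r w
    induction w using TensorProduct.induction_on with
    | zero => simp only [map_zero, smul_zero]
    | tmul l n =>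
      induction r using TensorProduct.induction_on with
      | zero => simp only [map_zero, zero_smul]
      | tmul k b =>
        rw [hΨ, fibMap_tmul, tmul_smul_cB_symm, algebraMap_smul B₂ b (g n), ← g.map_smul b n,
          ← hΨ, AddEquiv.apply_symm_apply, LinearMap.rTensor_tmul, LinearMap.rTensor_tmul,
          hlamK, tmul_smul_cB_symm]
      | add r r' hr hr' => simp only [map_add, add_smul, hr, hr']
    | add x y hx hy => simp only [map_add, smul_add, hx, hy]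
  have h' : (⊥ : Submodule (s'.Fiber B₂) ((s'.Fiber B₂) ⊗[B₂] N₂)).IsAssociatedPrime 𝔓₃ := h
  obtain ⟨h𝔓₃, y, hy⟩ := (Submodule.isAssociatedPrime_def).mp h'
  haveI := h𝔓₃
  obtain ⟨S, hS⟩ := hlamS (Ψ y)
  have hiff : ∀ r : t'.Fiber B₁, fibMap B₁ B₂ t' s' r • y = 0 ↔
      ∀ j ∈ S, r • (cB t' B₁ N₁).symm (LinearMap.rTensor N₁ (lam j) (Ψ y)) = 0 := by
    intro r
    have hs : ∀ j, (cB t' B₁ N₁).symm (LinearMap.rTensor N₁ (lam j)
        (Ψ (fibMap B₁ B₂ t' s' r • y))) =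
        r • (cB t' B₁ N₁).symm (LinearMap.rTensor N₁ (lam j) (Ψ y)) := by
      intro j
      have := hsemi j r (Ψ y)
      rwa [AddEquiv.symm_apply_apply] at this
    constructor
    · intro h0 j _
      rw [← hs j, h0, map_zero, map_zero, map_zero]
    · intro h0
      have h1 : ∀ j, LinearMap.rTensor N₁ (lam j) (Ψ (fibMap B₁ B₂ t' s' r • y)) = 0 := by
        intro j
        apply (cB t' B₁ N₁).symm.injective
        rw [hs j, map_zero]
        by_cases hj : j ∈ S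
        · exact h0 j hj
        · rw [hS j hj, map_zero, smul_zero]
      exact (AddEquiv.map_eq_zero_iff Ψ).mp (hlam0 _ h1)
  have hcomap : (((⊥ : Submodule (s'.Fiber B₂) ((s'.Fiber B₂) ⊗[B₂] N₂)).colon {y}).comap
      (fibMap B₁ B₂ t' s')) =
      S.inf (fun j => (⊥ : Submodule (t'.Fiber B₁) ((t'.Fiber B₁) ⊗[B₁] N₁)).colon
        {(cB t' B₁ N₁).symm (LinearMap.rTensor N₁ (lam j) (Ψ y))}) := by
    ext r
    rw [Ideal.mem_comap, Submodule.mem_colon_singleton, Submodule.mem_bot, hiff,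
      Submodule.mem_finsetInf]
    refine forall₂_congr fun j _ => ?_
    rw [Submodule.mem_colon_singleton, Submodule.mem_bot]
  haveI hprime : (𝔓₃.comap (fibMap B₁ B₂ t' s')).IsPrime := Ideal.comap_isPrime _ _
  have hrad : 𝔓₃.comap (fibMap B₁ B₂ t' s') =
      (S.inf (fun j => (⊥ : Submodule (t'.Fiber B₁) ((t'.Fiber B₁) ⊗[B₁] N₁)).colon
        {(cB t' B₁ N₁).symm (LinearMap.rTensor N₁ (lam j) (Ψ y))})).radical := by
    rw [← hcomap, ← Ideal.comap_radical, ← hy]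
  obtain ⟨j, hjS, hjle⟩ := (Ideal.IsPrime.inf_le' hprime).mp (by
    rw [hrad]; exact Ideal.le_radical)
  have h1 : ((⊥ : Submodule (t'.Fiber B₁) ((t'.Fiber B₁) ⊗[B₁] N₁)).colon
      {(cB t' B₁ N₁).symm (LinearMap.rTensor N₁ (lam j) (Ψ y))}).radical ≤
      𝔓₃.comap (fibMap B₁ B₂ t' s') := (Ideal.IsPrime.radical_le_iff hprime).mpr hjle
  have h2 : 𝔓₃.comap (fibMap B₁ B₂ t' s') ≤
      ((⊥ : Submodule (t'.Fiber B₁) ((t'.Fiber B₁) ⊗[B₁] N₁)).colon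
      {(cB t' B₁ N₁).symm (LinearMap.rTensor N₁ (lam j) (Ψ y))}).radical := by
    rw [hrad]; exact Ideal.radical_mono (Finset.inf_le hjS)
  have goal : (⊥ : Submodule (t'.Fiber B₁) ((t'.Fiber B₁) ⊗[B₁] N₁)).IsAssociatedPrime
      (𝔓₃.comap (fibMap B₁ B₂ t' s')) :=
    (Submodule.isAssociatedPrime_def).mpr ⟨hprime, _, le_antisymm h2 h1⟩
  exact goal

theorem descend_fiberIdeal (hP : Algebra.IsPushout A₁ B₁ A₂ B₂) (hg : IsBaseChange B₂ g)
    (P₃ : Ideal B₂) [P₃.IsPrime] [P₃.LiesOver s']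
    (hass : FlatCA.fiberIdeal s' P₃ ∈
      associatedPrimes (s'.Fiber B₂) (FlatCA.fiberMod s' B₂ N₂)) :
    (P₃.comap (algebraMap B₁ B₂)).LiesOver t' ∧
      FlatCA.fiberIdeal t' (P₃.comap (algebraMap B₁ B₂)) ∈
        associatedPrimes (t'.Fiber B₁) (FlatCA.fiberMod t' B₁ N₁) := by
  have hass' : FlatCA.fiberIdeal s' P₃ ∈
      associatedPrimes (s'.Fiber B₂) ((s'.Fiber B₂) ⊗[B₂] N₂) := hass
  have h1 := descend_ass B₁ B₂ t' s' g hP hg hass'
  haveI hprime : ((FlatCA.fiberIdeal s' P₃).comap (fibMap B₁ B₂ t' s')).IsPrime :=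
    IsAssociatedPrime.isPrime h1
  have h2 := eq_map_comap_incl t' ((FlatCA.fiberIdeal s' P₃).comap (fibMap B₁ B₂ t' s'))
  have h3 : ((FlatCA.fiberIdeal s' P₃).comap (fibMap B₁ B₂ t' s')).comap (incl t' (S := B₁)) =
      P₃.comap (algebraMap B₁ B₂) := by
    rw [Ideal.comap_comap, fibMap_comp_incl, ← Ideal.comap_comap]
    congr 1
    exact comap_map_incl s' P₃
  rw [h3] at h2
  refine ⟨⟨?_⟩, ?_⟩
  · show t' = (P₃.comap (algebraMap B₁ B₂)).comap (algebraMap A₁ B₁)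
    rw [Ideal.comap_comap, ← IsScalarTower.algebraMap_eq A₁ B₁ B₂,
      IsScalarTower.algebraMap_eq A₁ A₂ B₂, ← Ideal.comap_comap]
    have h4 : P₃.comap (algebraMap A₂ B₂) = s' := (Ideal.LiesOver.over (p := s') (P := P₃)).symm
    rw [h4]; exact hs'.over
  · show FlatCA.fiberIdeal t' (P₃.comap (algebraMap B₁ B₂)) ∈
      associatedPrimes (t'.Fiber B₁) ((t'.Fiber B₁) ⊗[B₁] N₁)
    have h5 : FlatCA.fiberIdeal t' (P₃.comap (algebraMap B₁ B₂)) =
        (FlatCA.fiberIdeal s' P₃).comap (fibMap B₁ B₂ t' s') := h2.symm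
    rw [h5]; exact h1

end Descend

theorem closure_descend {A₁ A₂ B₁ B₂ : Type u} [CommRing A₁] [CommRing A₂] [CommRing B₁]
    [CommRing B₂] [Algebra A₁ A₂] [Algebra A₁ B₁] [Algebra A₂ B₂] [Algebra B₁ B₂] [Algebra A₁ B₂]
    [IsScalarTower A₁ B₁ B₂] [IsScalarTower A₁ A₂ B₂] [Algebra.IsIntegral B₁ B₂]
    (t : Ideal A₁) (s : Ideal A₂) [s.IsPrime]
    (huniq : ∀ s'' : Ideal A₂, s''.IsPrime → s''.under A₁ = t → s'' = s)
    (P₃ : Ideal B₂) [P₃.IsPrime]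
    (hcl : ∀ (Q₃ : Ideal B₂) [Q₃.IsPrime], P₃ ≤ Q₃ → ¬ Q₃.LiesOver s)
    (Q : Ideal B₁) [Q.IsPrime] (hle : P₃.comap (algebraMap B₁ B₂) ≤ Q) (hQ : Q.under A₁ = t) :
    False := by
  obtain ⟨Q₃, hQ₃le, hQ₃p, hQ₃Q⟩ :=
    Ideal.exists_ideal_over_prime_of_isIntegral_of_isPrime Q P₃ hle
  haveI := hQ₃p
  refine hcl Q₃ hQ₃le ⟨?_⟩
  symm
  apply huniq (Q₃.under A₂) inferInstance
  show (Q₃.comap (algebraMap A₂ B₂)).comap (algebraMap A₁ A₂) = t
  rw [Ideal.comap_comap, ← IsScalarTower.algebraMap_eq A₁ A₂ B₂,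
    IsScalarTower.algebraMap_eq A₁ B₁ B₂, ← Ideal.comap_comap, hQ₃Q]
  exact hQ

end Groth.Agent.H9.PureA
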