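import Groth.Agent.Lib.Helper9.Misc.PureH

set_option autoImplicit false
universe u

open TensorProduct

namespace Groth.Agent.H9.PureA

attribute [local instance] Algebra.TensorProduct.rightAlgebra

theorem qf_core
    {A B : Type u} [CommRing A] [CommRing B] [Algebra A B] [Algebra.FiniteType A B]
    {N : Type u} [AddCommGroup N] [Module B N] {p : Ideal A} [p.IsPrime]
    {A' B' N' : Type u} [CommRing A'] [CommRing B'] [Algebra A A'] [Algebra B B'] [Algebra A' B']
    [Algebra A B'] [IsScalarTower A B B'] [IsScalarTower A A' B']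
    (hPB' : Algebra.IsPushout A B A' B')
    [AddCommGroup N'] [Module B' N'] [Module B N'] [IsScalarTower B B' N'] [Module A' N']
    [IsScalarTower A' B' N'] {f : N →ₗ[B] N'}
    (hf : IsBaseChange B' f) {p' : Ideal A'} [p'.IsPrime]
    {A₁ B₁ N₁ : Type u} [CommRing A₁] [CommRing B₁] [Algebra A A₁] [Algebra B B₁]
    [Algebra A₁ B₁] [Algebra A B₁] [IsScalarTower A B B₁] [IsScalarTower A A₁ B₁]
    [AddCommGroup N₁] [Module B₁ N₁] [Module B N₁] [IsScalarTower B B₁ N₁] [Module A₁ N₁]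
    [IsScalarTower A₁ B₁ N₁] {f₁ : N →ₗ[B] N₁} {t' t : Ideal A₁} [t'.IsPrime] [t.IsPrime]
    {P : Ideal B₁} [P.IsPrime] (himp : FlatCA.IsImpurity A B N p A₁ B₁ N₁ f₁ t' t P)
    {A₃ : Type u} [CommRing A₃] [Algebra A' A₃] [Algebra A₁ A₃] [Algebra A A₃]
    [IsScalarTower A A' A₃] [IsScalarTower A A₁ A₃] [Module.Finite A' A₃]
    {s' s : Ideal A₃} [s'.IsPrime] [s.IsPrime] (hs's : s' ≤ s) (hsp' : s.LiesOver p')
    (hst : s.LiesOver t) (hs't' : s'.LiesOver t')
    (huniq : ∀ s'' : Ideal A₃, s''.IsPrime → s''.under A' = p' → s'' = s) :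
    ∃ (u' : Ideal A') (_ : u'.IsPrime) (PR : Ideal B') (_ : PR.IsPrime), u' ≤ p' ∧
      PR.LiesOver u' ∧
      FlatCA.fiberIdeal u' PR ∈ associatedPrimes (u'.Fiber B') (FlatCA.fiberMod u' B' N') ∧
      ∀ (Q : Ideal B') [Q.IsPrime], PR ≤ Q → ¬ Q.LiesOver p' := by
  obtain ⟨P₃, hP₃, himp₃⟩ := impurity_lift_abstract hPB' hf himp
    (B₂ := B' ⊗[A'] A₃) (N₂ := (B' ⊗[A'] A₃) ⊗[B'] N') inferInstance
    (TensorProduct.isBaseChange B' N' (B' ⊗[A'] A₃)) hs's hsp' hst hs't'
  haveI := hP₃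
  obtain ⟨hPB₃, hf₃, -, -, hP₃s', hass₃, hcl₃⟩ := himp₃
  haveI := hP₃s'
  haveI hs'u : s'.LiesOver (s'.under A') := ⟨rfl⟩
  obtain ⟨hPRu, hassR⟩ := descend_fiberIdeal B' (B' ⊗[A'] A₃) (s'.under A') s'
    (TensorProduct.mk B' (B' ⊗[A'] A₃) N' 1) hPB₃ hf₃ P₃ hass₃
  haveI : Algebra.IsIntegral B' (B' ⊗[A'] A₃) := Algebra.IsIntegral.of_finite B' (B' ⊗[A'] A₃)
  refine ⟨s'.under A', inferInstance, P₃.comap (algebraMap B' (B' ⊗[A'] A₃)),
    Ideal.comap_isPrime _ _, ?_, hPRu, hassR, ?_⟩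
  · rw [hsp'.over]; exact Ideal.comap_mono hs's
  · intro Q _ hle hQ
    exact closure_descend (A₁ := A') (A₂ := A₃) (B₁ := B') (B₂ := B' ⊗[A'] A₃) p' s huniq P₃
      (fun Q₃ _ h1 h2 => hcl₃ Q₃ h1 h2) Q hle hQ.over.symm

theorem qf_to_etale {A B : Type u} [CommRing A] [CommRing B] [Algebra A B]
    [Algebra.FiniteType A B] (N : Type u) [AddCommGroup N] [Module B N] (p : Ideal A) [p.IsPrime]
    (h : FlatCA.HasImpurity A B N p (fun A' _ _ t => ∃ _ : t.IsPrime,
      Algebra.FiniteType A A' ∧ Algebra.QuasiFiniteAt A t)) :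
    FlatCA.HasImpurity A B N p
      (fun A' _ _ t => ∃ _ : t.IsPrime, FlatCA.IsEtaleNhd A A' p t) := by
  obtain ⟨A₁, B₁, N₁, _, _, _, _, _, _, _, _, _, _, _, _, _, _, f₁, t', t, _, _, P, _, himp,
    _, hft, hqf⟩ := h
  haveI := hft
  haveI := hqf
  have himp' := himp
  obtain ⟨-, -, htt, htp, -, -, -⟩ := himp'
  haveI := htp
  obtain ⟨R', _, _, hét, Pr, hPrp, hPrOver, e, he, P', hP'p, hP'Pr, hP't, heP', hbij, hfin,
    huniq⟩ := Algebra.exists_etale_isIdempotentElem_forall_liesOver_eq (R := A) (S := A₁) p t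
  haveI := hét
  haveI := hPrp
  haveI := hPrOver
  haveI := hP'p
  haveI := hP'Pr
  haveI := hfin
  haveI hflat₂ : Module.Flat A₁ (R' ⊗[A] A₁) := by
    refine Module.Flat.of_linearEquiv (M := A₁ ⊗[A] R') ?_
    exact { (Algebra.TensorProduct.comm A R' A₁).toLinearEquiv.toAddEquiv with
      map_smul' := fun a x => by
        show (Algebra.TensorProduct.comm A R' A₁) (a • x) =
          a • (Algebra.TensorProduct.comm A R' A₁) x
        rw [Algebra.smul_def, Algebra.smul_def, map_mul]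
        have h1 : (Algebra.TensorProduct.comm A R' A₁) (algebraMap A₁ (R' ⊗[A] A₁) a) =
            algebraMap A₁ (A₁ ⊗[A] R') a := by
          show (Algebra.TensorProduct.comm A R' A₁) ((1 : R') ⊗ₜ[A] a) = a ⊗ₜ[A] (1 : R')
          rw [Algebra.TensorProduct.comm_tmul]
        rw [h1] }
  haveI hflat₃ : Module.Flat A₁ (Localization.Away e) :=
    Module.Flat.trans A₁ (R' ⊗[A] A₁) (Localization.Away e)
  have hdisj : Disjoint (Submonoid.powers e : Set (R' ⊗[A] A₁)) (P' : Set (R' ⊗[A] A₁)) :=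
    (Ideal.disjoint_powers_iff_notMem_of_isPrime e).mpr heP'
  haveI hs₃p : (P'.map (algebraMap (R' ⊗[A] A₁) (Localization.Away e))).IsPrime :=
    IsLocalization.isPrime_of_isPrime_disjoint (Submonoid.powers e) _ P' hP'p hdisj
  haveI hs₃P' : (P'.map (algebraMap (R' ⊗[A] A₁) (Localization.Away e))).LiesOver P' :=
    IsLocalization.liesOver_map_of_isPrime_disjoint (Submonoid.powers e) _ hdisj
  haveI hst : (P'.map (algebraMap (R' ⊗[A] A₁) (Localization.Away e))).LiesOver t := ⟨by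
    rw [← Ideal.under_under (B := R' ⊗[A] A₁)
      (P'.map (algebraMap (R' ⊗[A] A₁) (Localization.Away e))), ← hs₃P'.over]
    exact hP't.symm⟩
  have hsPr : (P'.map (algebraMap (R' ⊗[A] A₁) (Localization.Away e))).LiesOver Pr := ⟨by
    rw [← Ideal.under_under (B := R' ⊗[A] A₁)
      (P'.map (algebraMap (R' ⊗[A] A₁) (Localization.Away e))), ← hs₃P'.over]
    exact hP'Pr.over⟩
  obtain ⟨s₃', hs₃'le, hs₃'p, hs₃'t'⟩ := Ideal.exists_ideal_le_liesOver_of_le (p := t') (q := t)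
    (P'.map (algebraMap (R' ⊗[A] A₁) (Localization.Away e))) htt
  haveI := hs₃'p
  have huniq₃ : ∀ s'' : Ideal (Localization.Away e), s''.IsPrime → s''.under R' = Pr →
      s'' = P'.map (algebraMap (R' ⊗[A] A₁) (Localization.Away e)) := by
    intro s'' hs''p hs''Pr
    haveI := hs''p
    have h1 : s''.under (R' ⊗[A] A₁) = P' := by
      apply huniq (s''.under (R' ⊗[A] A₁)) inferInstance ⟨?_⟩ ?_
      · rw [Ideal.under_under]; exact hs''Pr.symm
      · intro hmem
        have hunit := IsLocalization.Away.algebraMap_isUnit (S := Localization.Away e) e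
        exact (Ideal.IsPrime.ne_top hs''p) (Ideal.eq_top_of_isUnit_mem _ hmem hunit)
    rw [← h1]
    exact (IsLocalization.map_comap (Submonoid.powers e) (Localization.Away e) s'').symm
  obtain ⟨u', hu'p, PR, hPRp, hu'le, hPRu', hassR, hclR⟩ := qf_core (A' := R')
    (B' := B ⊗[A] R') (N' := (B ⊗[A] R') ⊗[B] N) (p' := Pr)
    (inferInstance : Algebra.IsPushout A B R' (B ⊗[A] R'))
    (TensorProduct.isBaseChange B N (B ⊗[A] R')) himp
    (A₃ := Localization.Away e) hs₃'le hsPr hst hs₃'t' huniq₃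
  haveI := hu'p
  haveI := hPRp
  refine ⟨R', B ⊗[A] R', (B ⊗[A] R') ⊗[B] N, inferInstance, inferInstance, inferInstance,
    inferInstance, inferInstance, inferInstance, inferInstance, inferInstance, inferInstance,
    inferInstance, inferInstance, inferInstance, inferInstance, inferInstance,
    TensorProduct.mk B (B ⊗[A] R') N 1, u', Pr, hu'p, hPrp, PR, hPRp, ?_, hPrp, ?_⟩
  · unfold FlatCA.IsImpurity
    exact ⟨inferInstance, TensorProduct.isBaseChange B N (B ⊗[A] R'), hu'le, hPrOver, hPRu',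
      hassR, hclR⟩
  · exact ⟨hét, hPrOver, hbij⟩

end Groth.Agent.H9.PureA
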