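import Groth.Agent.Lib.Helper9.Misc.PureI

universe u

open TensorProduct

namespace Groth.Agent.H9.PureA

theorem quasiFiniteAt_trans {A A' A₂ : Type u} [CommRing A] [CommRing A'] [CommRing A₂]
    [Algebra A A'] [Algebra A' A₂] [Algebra A A₂] [IsScalarTower A A' A₂]
    (p' : Ideal A') [p'.IsPrime] (s : Ideal A₂) [s.IsPrime] [s.LiesOver p']
    [Algebra.QuasiFiniteAt A p'] [Algebra.QuasiFinite A' A₂] : Algebra.QuasiFiniteAt A s := by
  haveI h2 : Algebra.QuasiFinite A (Localization.AtPrime p' ⊗[A'] A₂) :=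
    Algebra.QuasiFinite.trans A (Localization.AtPrime p') _
  have hunits : ∀ y : p'.primeCompl,
      IsUnit (Algebra.ofId A' (Localization.AtPrime s) y) := by
    intro y
    rw [Algebra.ofId_apply, IsScalarTower.algebraMap_apply A' A₂ (Localization.AtPrime s)]
    refine IsLocalization.map_units (M := s.primeCompl) (Localization.AtPrime s)
      ⟨algebraMap A' A₂ y, ?_⟩
    intro hmem
    exact y.2 ((Ideal.mem_of_liesOver s p' (y : A')).mpr hmem)
  obtain ⟨g, hg⟩ : ∃ g : Localization.AtPrime p' ⊗[A'] A₂ →ₐ[A] Localization.AtPrime s,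
      ∀ b : A₂, g (1 ⊗ₜ b) = algebraMap A₂ (Localization.AtPrime s) b :=
    ⟨(Algebra.TensorProduct.lift
        (IsLocalization.liftAlgHom (M := p'.primeCompl)
          (f := Algebra.ofId A' (Localization.AtPrime s)) hunits)
        (IsScalarTower.toAlgHom A' A₂ (Localization.AtPrime s))
        (fun _ _ => Commute.all _ _)).restrictScalars A, fun b => by simp⟩
  refine Algebra.QuasiFinite.of_forall_exists_mul_mem_range g fun x => ?_
  obtain ⟨a, ⟨t, ht⟩, rfl⟩ := IsLocalization.exists_mk'_eq s.primeCompl x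
  refine ⟨1 ⊗ₜ t, ?_, ?_⟩
  · rw [hg]
    exact IsLocalization.map_units (M := s.primeCompl) _ ⟨t, ht⟩
  · refine ⟨1 ⊗ₜ a, ?_⟩
    show g (1 ⊗ₜ a) = IsLocalization.mk' (Localization.AtPrime s) a ⟨t, ht⟩ * g (1 ⊗ₜ t)
    rw [hg, hg]
    exact (IsLocalization.mk'_spec _ a ⟨t, ht⟩).symm

theorem impurity_restrict
    {A B : Type u} [CommRing A] [CommRing B] [Algebra A B]
    {N : Type u} [AddCommGroup N] [Module B N] {p : Ideal A} [p.IsPrime]
    {A' B' N' : Type u} [CommRing A'] [CommRing B'] [Algebra A A'] [Algebra B B'] [Algebra A' B']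
    [Algebra A B'] [IsScalarTower A B B'] [IsScalarTower A A' B']
    (hPB' : Algebra.IsPushout A B A' B')
    [AddCommGroup N'] [Module B' N'] [Module B N'] [IsScalarTower B B' N'] {f : N →ₗ[B] N'}
    (hf : IsBaseChange B' f) {p' : Ideal A'} [p'.IsPrime] [p'.LiesOver p]
    {A₂ B₂ N₂ : Type u} [CommRing A₂] [CommRing B₂] [Algebra A' A₂] [Algebra B' B₂]
    [Algebra A₂ B₂] [Algebra A' B₂] [IsScalarTower A' B' B₂] [IsScalarTower A' A₂ B₂]
    [AddCommGroup N₂] [Module B₂ N₂] [Module B' N₂] [IsScalarTower B' B₂ N₂] [Module A₂ N₂]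
    [IsScalarTower A₂ B₂ N₂] {f₂ : N' →ₗ[B'] N₂} {s' s : Ideal A₂} [s'.IsPrime] [s.IsPrime]
    {P : Ideal B₂} [P.IsPrime] (himp : FlatCA.IsImpurity A' B' N' p' A₂ B₂ N₂ f₂ s' s P)
    [Algebra A A₂] [IsScalarTower A A' A₂] [Algebra B B₂] [IsScalarTower B B' B₂]
    [Algebra A B₂] [IsScalarTower A B B₂] [IsScalarTower A A₂ B₂]
    [Module B N₂] [IsScalarTower B B' N₂] [IsScalarTower B B₂ N₂] :
    FlatCA.IsImpurity A B N p A₂ B₂ N₂ ((f₂.restrictScalars B).comp f) s' s P := by
  obtain ⟨hPB₂, hf₂, hle, hsp', hPs', hass, hcl⟩ := himp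
  haveI := hsp'
  haveI : IsScalarTower A B' B₂ := IsScalarTower.of_algebraMap_eq fun x => by
    rw [IsScalarTower.algebraMap_apply A B B', ← IsScalarTower.algebraMap_apply B B' B₂,
      ← IsScalarTower.algebraMap_apply A B B₂]
  haveI hsymm : Algebra.IsPushout A A' B B' := hPB'.symm
  have hright : Algebra.IsPushout A' A₂ B' B₂ := hPB₂.symm
  have hbig : Algebra.IsPushout A A₂ B B₂ :=
    (Algebra.IsPushout.comp_iff A A' B (S' := B') (T := A₂) (T' := B₂)).mpr hright
  unfold FlatCA.IsImpurity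
  exact ⟨hbig.symm, IsBaseChange.comp hf hf₂, hle, Ideal.LiesOver.trans s p' p, hPs', hass, hcl⟩

theorem pure_qf_baseChange {A B : Type u} [CommRing A] [CommRing B] [Algebra A B]
    [Algebra.FiniteType A B]
    (N : Type u) [AddCommGroup N] [Module B N] (p : Ideal A) [p.IsPrime]
    (A' B' N' : Type u) [CommRing A'] [CommRing B'] [Algebra A A'] [Algebra B B'] [Algebra A' B']
    [Algebra A B']
    [IsScalarTower A B B'] [IsScalarTower A A' B'] [Algebra.IsPushout A B A' B']
    [AddCommGroup N'] [Module B' N'] [Module B N'] [IsScalarTower B B' N'] (f : N →ₗ[B] N')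
    (hf : IsBaseChange B' f)
    (p' : Ideal A') [p'.IsPrime] [p'.LiesOver p] [Algebra.FiniteType A A']
    [Algebra.QuasiFiniteAt A p']
    (h : FlatCA.IsPureAlong A B N p) : FlatCA.IsPureAlong A' B' N' p' := by
  intro A₂ B₂ N₂ _ _ _ _ _ _ _ _ _ _ _ _ _ _ f₂ s' s _ _ P _ het himp
  obtain ⟨hét, hsp', hbij⟩ := het
  haveI := hét
  haveI := hsp'
  letI iA : Algebra A A₂ := ((algebraMap A' A₂).comp (algebraMap A A')).toAlgebra
  haveI : IsScalarTower A A' A₂ := IsScalarTower.of_algebraMap_eq fun _ => rfl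
  letI iB : Algebra B B₂ := ((algebraMap B' B₂).comp (algebraMap B B')).toAlgebra
  haveI : IsScalarTower B B' B₂ := IsScalarTower.of_algebraMap_eq fun _ => rfl
  letI iAB : Algebra A B₂ := ((algebraMap A₂ B₂).comp (algebraMap A A₂)).toAlgebra
  haveI : IsScalarTower A A₂ B₂ := IsScalarTower.of_algebraMap_eq fun _ => rfl
  haveI : IsScalarTower A B B₂ := IsScalarTower.of_algebraMap_eq fun x => by
    show algebraMap A₂ B₂ (algebraMap A' A₂ (algebraMap A A' x)) =
      algebraMap B' B₂ (algebraMap B B' (algebraMap A B x))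
    rw [← IsScalarTower.algebraMap_apply A' A₂ B₂, IsScalarTower.algebraMap_apply A' B' B₂,
      ← IsScalarTower.algebraMap_apply A A' B', IsScalarTower.algebraMap_apply A B B']
  letI iM : Module B N₂ := Module.compHom N₂ (algebraMap B B')
  haveI : IsScalarTower B B' N₂ := IsScalarTower.of_algebraMap_smul fun _ _ => rfl
  haveI : IsScalarTower B B₂ N₂ := IsScalarTower.of_algebraMap_smul fun r x =>
    algebraMap_smul B₂ (algebraMap B B' r) x
  have himp' := impurity_restrict (A := A) (B := B) (N := N) (p := p)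
    (inferInstance : Algebra.IsPushout A B A' B') hf himp
  haveI hft₂ : Algebra.FiniteType A' A₂ := inferInstance
  haveI hft : Algebra.FiniteType A A₂ :=
    Algebra.FiniteType.trans (S := A') inferInstance inferInstance
  haveI hqf₂ : Algebra.QuasiFinite A' A₂ := inferInstance
  have hqf : Algebra.QuasiFiniteAt A s := quasiFiniteAt_trans p' s
  have hHas : FlatCA.HasImpurity A B N p (fun A' _ _ t => ∃ _ : t.IsPrime,
      Algebra.FiniteType A A' ∧ Algebra.QuasiFiniteAt A t) :=
    ⟨A₂, B₂, N₂, inferInstance, inferInstance, iA, iB, inferInstance, iAB, inferInstance,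
      inferInstance, inferInstance, inferInstance, iM, inferInstance, inferInstance,
      inferInstance, (f₂.restrictScalars B).comp f, s', s, inferInstance, inferInstance, P,
      inferInstance, himp', inferInstance, hft, hqf⟩
  obtain ⟨A₃, B₃, N₃, _, _, _, _, _, _, _, _, _, _, _, _, _, _, f₃, u', u, _, _, Q, _, himp₃,
    _, het₃⟩ := qf_to_etale N p hHas
  exact h A₃ B₃ N₃ f₃ u' u Q het₃ himp₃

end Groth.Agent.H9.PureA
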