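import Groth.Agent.Lib.Helper9.Misc.PureH

universe u

open TensorProduct

namespace Groth.Agent.H9.PureA

attribute [local instance] Algebra.TensorProduct.rightAlgebra

theorem exists_notMem_of_closure {A' B' : Type u} [CommRing A'] [CommRing B'] [Algebra A' B']
    (t : Ideal A') [t.IsPrime] (P : Ideal B')
    (hcl : ∀ (P' : Ideal B') [P'.IsPrime], P ≤ P' → ¬ P'.LiesOver t) :
    ∃ s : A', s ∉ t ∧ algebraMap A' B' s ∈ P ⊔ t.map (algebraMap A' B') := by
  by_contra hcon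
  have hcon' : ∀ s : A', s ∉ t → algebraMap A' B' s ∉ P ⊔ t.map (algebraMap A' B') :=
    fun s hs hmem => hcon ⟨s, hs, hmem⟩
  have hdisj : Disjoint ((P ⊔ t.map (algebraMap A' B') : Ideal B') : Set B')
      ((Submonoid.map (algebraMap A' B') t.primeCompl : Submonoid B') : Set B') := by
    rw [Set.disjoint_left]
    intro b hb hbM
    obtain ⟨s, hs, rfl⟩ := Submonoid.mem_map.mp (SetLike.mem_coe.mp hbM)
    exact hcon' s hs hb
  obtain ⟨P', hP'prime, hle, hdisj'⟩ := Ideal.exists_le_prime_disjoint _ _ hdisj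
  haveI := hP'prime
  refine hcl P' (le_sup_left.trans hle) ⟨?_⟩
  apply le_antisymm
  · intro a ha
    exact hle (Ideal.mem_sup_right (Ideal.mem_map_of_mem _ ha))
  · intro a ha
    by_contra hat
    exact Set.disjoint_left.mp hdisj' ha
      (SetLike.mem_coe.mpr (Submonoid.mem_map.mpr ⟨a, hat, rfl⟩))

section Colim

variable {A B : Type u} [CommRing A] [CommRing B] [Algebra A B]
  {ι : Type u} [Preorder ι] (G : ι → Type u) [∀ i, CommRing (G i)] [∀ i, Algebra A (G i)]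
  (g : ∀ i j, i ≤ j → G i →ₐ[A] G j)
  (A' : Type u) [CommRing A'] [Algebra A A'] [∀ i, Algebra (G i) A']
  [∀ i, IsScalarTower A (G i) A']
  (B' : Type u) [CommRing B'] [Algebra B B'] [Algebra A' B'] [Algebra A B']
  [IsScalarTower A B B'] [IsScalarTower A A' B']

noncomputable def lvl (i : ι) : B ⊗[A] G i →ₐ[B] B' :=
  Algebra.TensorProduct.lift (Algebra.ofId B B')
    ((IsScalarTower.toAlgHom A A' B').comp (IsScalarTower.toAlgHom A (G i) A'))
    (fun _ _ => Commute.all _ _)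

lemma lvl_tmul (i : ι) (b : B) (x : G i) :
    lvl G A' B' i (b ⊗ₜ[A] x) = algebraMap B B' b * algebraMap A' B' (algebraMap (G i) A' x) := by
  rw [lvl, Algebra.TensorProduct.lift_tmul]
  rfl

noncomputable def lvlT (i j : ι) (h : i ≤ j) : B ⊗[A] G i →ₐ[B] B ⊗[A] G j :=
  Algebra.TensorProduct.map (AlgHom.id B B) (g i j h)

lemma lvlT_tmul (i j : ι) (h : i ≤ j) (b : B) (x : G i) :
    lvlT (B := B) G g i j h (b ⊗ₜ[A] x) = b ⊗ₜ[A] (g i j h x) := by
  rw [lvlT, Algebra.TensorProduct.map_tmul]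
  rfl

variable (hc : ∀ i j (h : i ≤ j),
  (algebraMap (G j) A').comp (g i j h).toRingHom = algebraMap (G i) A')
include hc

lemma hc_apply (i j : ι) (h : i ≤ j) (x : G i) :
    algebraMap (G j) A' (g i j h x) = algebraMap (G i) A' x :=
  RingHom.congr_fun (hc i j h) x

lemma lvl_lvlT (i j : ι) (h : i ≤ j) (z : B ⊗[A] G i) :
    lvl G A' B' j (lvlT G g i j h z) = lvl G A' B' i z := by
  induction z using TensorProduct.induction_on with
  | zero => rw [map_zero, map_zero, map_zero]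
  | tmul b x => rw [lvlT_tmul, lvl_tmul, lvl_tmul, hc_apply G g A' hc]
  | add z w hz hw => rw [map_add, map_add, map_add, hz, hw]

lemma lvlT_mem (t : Ideal A') (i k : ι) (h : i ≤ k) (y : B ⊗[A] G i)
    (hy : y ∈ (t.comap (algebraMap (G i) A')).map (algebraMap (G i) (B ⊗[A] G i))) :
    lvlT G g i k h y ∈
      (t.comap (algebraMap (G k) A')).map (algebraMap (G k) (B ⊗[A] G k)) := by
  have hle : (t.comap (algebraMap (G i) A')).map (algebraMap (G i) (B ⊗[A] G i)) ≤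
      ((t.comap (algebraMap (G k) A')).map (algebraMap (G k) (B ⊗[A] G k))).comap
        (lvlT (B := B) G g i k h) := by
    rw [Ideal.map_le_iff_le_comap]
    intro x hx
    show lvlT (B := B) G g i k h ((1 : B) ⊗ₜ[A] x) ∈
      (t.comap (algebraMap (G k) A')).map (algebraMap (G k) (B ⊗[A] G k))
    rw [lvlT_tmul]
    have h1 : g i k h x ∈ t.comap (algebraMap (G k) A') := by
      show algebraMap (G k) A' (g i k h x) ∈ t
      rw [hc_apply G g A' hc]
      exact hx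
    exact Ideal.mem_map_of_mem (algebraMap (G k) (B ⊗[A] G k)) h1
  exact hle hy

variable (hdir : IsDirected ι (· ≤ ·)) (hne : Nonempty ι)
  (hsurj : ∀ a : A', ∃ i, ∃ x : G i, algebraMap (G i) A' x = a)
include hdir hne hsurj

lemma exists_lvl (hPB' : Algebra.IsPushout A B A' B') (b' : B') :
    ∃ i, ∃ z : B ⊗[A] G i, lvl G A' B' i z = b' := by
  refine IsBaseChange.inductionOn hPB'.out b'
    (fun b' => ∃ i, ∃ z : B ⊗[A] G i, lvl G A' B' i z = b') ?_ ?_ ?_ ?_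
  · obtain ⟨i⟩ := hne
    exact ⟨i, 0, map_zero _⟩
  · intro a'
    obtain ⟨i, x, hx⟩ := hsurj a'
    refine ⟨i, (1 : B) ⊗ₜ[A] x, ?_⟩
    rw [lvl_tmul, map_one, one_mul, hx]
    rfl
  · rintro b n ⟨i, z, hz⟩
    exact ⟨i, b • z, by rw [map_smul, hz]⟩
  · rintro n₁ n₂ ⟨i, z₁, hz₁⟩ ⟨j, z₂, hz₂⟩
    obtain ⟨k, (hik : i ≤ k), (hjk : j ≤ k)⟩ := hdir.directed i j
    exact ⟨k, lvlT G g i k hik z₁ + lvlT G g j k hjk z₂, by
      rw [map_add, lvl_lvlT G g A' B' hc, lvl_lvlT G g A' B' hc, hz₁, hz₂]⟩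

lemma exists_lvl_mem (hPB' : Algebra.IsPushout A B A' B') (t : Ideal A') (y : B')
    (hy : y ∈ t.map (algebraMap A' B')) :
    ∃ i, ∃ z : B ⊗[A] G i,
      z ∈ (t.comap (algebraMap (G i) A')).map (algebraMap (G i) (B ⊗[A] G i)) ∧
        lvl G A' B' i z = y := by
  have hy' : y ∈ Submodule.span B' ((algebraMap A' B') '' (t : Set A')) := hy
  refine Submodule.span_induction (p := fun y _ => ∃ i, ∃ z : B ⊗[A] G i,
      z ∈ (t.comap (algebraMap (G i) A')).map (algebraMap (G i) (B ⊗[A] G i)) ∧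
        lvl G A' B' i z = y) ?_ ?_ ?_ ?_ hy'
  · rintro _ ⟨a, ha, rfl⟩
    obtain ⟨i, x, rfl⟩ := hsurj a
    refine ⟨i, (1 : B) ⊗ₜ[A] x, ?_, ?_⟩
    · exact Ideal.mem_map_of_mem (algebraMap (G i) (B ⊗[A] G i))
        (I := t.comap (algebraMap (G i) A')) ha
    · rw [lvl_tmul, map_one, one_mul]
  · obtain ⟨i⟩ := hne
    exact ⟨i, 0, zero_mem _, map_zero _⟩
  · rintro y₁ y₂ - - ⟨i, z₁, hz₁m, hz₁⟩ ⟨j, z₂, hz₂m, hz₂⟩
    obtain ⟨k, (hik : i ≤ k), (hjk : j ≤ k)⟩ := hdir.directed i j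
    refine ⟨k, lvlT G g i k hik z₁ + lvlT G g j k hjk z₂,
      add_mem (lvlT_mem G g A' hc t i k hik z₁ hz₁m) (lvlT_mem G g A' hc t j k hjk z₂ hz₂m), ?_⟩
    rw [map_add, lvl_lvlT G g A' B' hc, lvl_lvlT G g A' B' hc, hz₁, hz₂]
  · rintro b' y₁ - ⟨i, z₁, hz₁m, hz₁⟩
    obtain ⟨j, w, hw⟩ := exists_lvl G g A' B' hc hdir hne hsurj hPB' b'
    obtain ⟨k, (hik : i ≤ k), (hjk : j ≤ k)⟩ := hdir.directed i j
    refine ⟨k, lvlT G g j k hjk w * lvlT G g i k hik z₁,
      Ideal.mul_mem_left _ _ (lvlT_mem G g A' hc t i k hik z₁ hz₁m), ?_⟩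
    rw [map_mul, lvl_lvlT G g A' B' hc, lvl_lvlT G g A' B' hc, hw, hz₁, smul_eq_mul]

end Colim

theorem level_impurity {A B : Type u} [CommRing A] [CommRing B] [Algebra A B]
    (N : Type u) [AddCommGroup N] [Module B N] (p : Ideal A) [p.IsPrime]
    (G₀ : Type u) [CommRing G₀] [Algebra A G₀]
    (A' : Type u) [CommRing A'] [Algebra A A'] [Algebra G₀ A'] [IsScalarTower A G₀ A']
    (B' N' : Type u) [CommRing B'] [Algebra B B'] [Algebra A' B'] [Algebra A B']
    [IsScalarTower A B B'] [IsScalarTower A A' B']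
    [AddCommGroup N'] [Module B' N'] [Module B N'] [IsScalarTower B B' N'] [Module A' N']
    [IsScalarTower A' B' N']
    (f : N →ₗ[B] N') (t' t : Ideal A') [t'.IsPrime] [t.IsPrime] (P : Ideal B') [P.IsPrime]
    (himp : FlatCA.IsImpurity A B N p A' B' N' f t' t P)
    (φ : B ⊗[A] G₀ →ₐ[B] B')
    (hφ : ∀ (b : B) (x : G₀),
      φ (b ⊗ₜ[A] x) = algebraMap B B' b * algebraMap A' B' (algebraMap G₀ A' x))
    (σ : G₀) (hσ : algebraMap G₀ A' σ ∉ t) (yk : B ⊗[A] G₀)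
    (hyk : yk ∈ (t.comap (algebraMap G₀ A')).map (algebraMap G₀ (B ⊗[A] G₀)))
    (hP : algebraMap A' B' (algebraMap G₀ A' σ) - φ yk ∈ P) :
    FlatCA.HasImpurity A B N p (fun A'' _ _ t'' =>
      ∃ e : A'' ≃ₐ[A] G₀, t''.map e = t.comap (algebraMap G₀ A')) := by
  obtain ⟨hPB', hf, hle, htp, hPt', hass, hcl⟩ := himp
  haveI := htp
  haveI := hPt'
  letI iB : Algebra (B ⊗[A] G₀) B' := φ.toRingHom.toAlgebra
  letI iG : Algebra G₀ B' := ((algebraMap A' B').comp (algebraMap G₀ A')).toAlgebra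
  haveI : IsScalarTower G₀ A' B' := IsScalarTower.of_algebraMap_eq fun _ => rfl
  haveI : IsScalarTower G₀ (B ⊗[A] G₀) B' := IsScalarTower.of_algebraMap_eq fun x => by
    show algebraMap A' B' (algebraMap G₀ A' x) = φ ((1 : B) ⊗ₜ[A] x)
    rw [hφ, map_one, one_mul]
  haveI : IsScalarTower B (B ⊗[A] G₀) B' := IsScalarTower.of_algebraMap_eq fun b => by
    show algebraMap B B' b = φ (b ⊗ₜ[A] (1 : G₀))
    rw [hφ, map_one, map_one, mul_one]
  haveI : IsScalarTower A (B ⊗[A] G₀) B' := IsScalarTower.of_algebraMap_eq fun a => by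
    rw [IsScalarTower.algebraMap_apply A B (B ⊗[A] G₀),
      ← IsScalarTower.algebraMap_apply B (B ⊗[A] G₀) B', ← IsScalarTower.algebraMap_apply A B B']
  letI iM : Module (B ⊗[A] G₀) N' := Module.compHom N' (algebraMap (B ⊗[A] G₀) B')
  haveI : IsScalarTower (B ⊗[A] G₀) B' N' := IsScalarTower.of_algebraMap_smul fun _ _ => rfl
  haveI : IsScalarTower B (B ⊗[A] G₀) N' := IsScalarTower.of_algebraMap_smul fun b n => by
    show algebraMap (B ⊗[A] G₀) B' (algebraMap B (B ⊗[A] G₀) b) • n = b • n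
    rw [← IsScalarTower.algebraMap_apply B (B ⊗[A] G₀) B', algebraMap_smul]
  obtain ⟨g₁, hg₁⟩ : ∃ g₁ : (B ⊗[A] G₀) ⊗[B] N →ₗ[B ⊗[A] G₀] N', IsBaseChange B' g₁ := by
    have hbc := TensorProduct.isBaseChange B N (B ⊗[A] G₀)
    have hlift : ((hbc.lift f).restrictScalars B).comp (TensorProduct.mk B (B ⊗[A] G₀) N 1) = f :=
      hbc.lift_comp f
    exact ⟨hbc.lift f, IsBaseChange.of_comp hbc (by rw [hlift]; exact hf)⟩
  have h1 : Algebra.IsPushout G₀ A' (B ⊗[A] G₀) B' :=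
    (Algebra.IsPushout.comp_iff A G₀ B (S' := B ⊗[A] G₀) (T := A') (T' := B')).mp hPB'.symm
  have hP₁ : Algebra.IsPushout G₀ (B ⊗[A] G₀) A' B' := h1.symm
  haveI hs' : t'.LiesOver (t'.comap (algebraMap G₀ A')) := ⟨rfl⟩
  obtain ⟨hPk, hassk⟩ := descend_fiberIdeal (B ⊗[A] G₀) B' (t'.comap (algebraMap G₀ A')) t'
    g₁ hP₁ hg₁ P hass
  refine ⟨G₀, B ⊗[A] G₀, (B ⊗[A] G₀) ⊗[B] N, inferInstance, inferInstance, inferInstance,
    inferInstance, inferInstance, inferInstance, inferInstance, inferInstance, inferInstance,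
    inferInstance, inferInstance, inferInstance, inferInstance, inferInstance,
    TensorProduct.mk B (B ⊗[A] G₀) N 1, t'.comap (algebraMap G₀ A'),
    t.comap (algebraMap G₀ A'), inferInstance, inferInstance,
    P.comap (algebraMap (B ⊗[A] G₀) B'), inferInstance, ?_, AlgEquiv.refl, ?_⟩
  · unfold FlatCA.IsImpurity
    refine ⟨inferInstance, TensorProduct.isBaseChange B N (B ⊗[A] G₀), Ideal.comap_mono hle,
      ⟨?_⟩, hPk, hassk, ?_⟩
    · show p = (t.comap (algebraMap G₀ A')).comap (algebraMap A G₀)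
      rw [Ideal.comap_comap, ← IsScalarTower.algebraMap_eq A G₀ A']
      exact htp.over
    · intro P'' hP''prime hPle hP''over
      have h2 : algebraMap G₀ (B ⊗[A] G₀) σ - yk ∈ P.comap (algebraMap (B ⊗[A] G₀) B') := by
        show algebraMap (B ⊗[A] G₀) B' (algebraMap G₀ (B ⊗[A] G₀) σ - yk) ∈ P
        rw [map_sub, ← IsScalarTower.algebraMap_apply G₀ (B ⊗[A] G₀) B',
          IsScalarTower.algebraMap_apply G₀ A' B']
        exact hP
      have h3 : yk ∈ P'' := by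
        have hle' : (t.comap (algebraMap G₀ A')).map (algebraMap G₀ (B ⊗[A] G₀)) ≤ P'' := by
          rw [Ideal.map_le_iff_le_comap]
          exact hP''over.over.le
        exact hle' hyk
      have h4 : algebraMap G₀ (B ⊗[A] G₀) σ ∈ P'' := by
        have h5 := add_mem (hPle h2) h3
        rwa [sub_add_cancel] at h5
      have h6 : σ ∈ t.comap (algebraMap G₀ A') := by
        rw [hP''over.over]
        exact h4
      exact hσ h6
  · exact le_antisymm (Ideal.map_le_iff_le_comap.mpr fun x hx => hx)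
      (fun x hx => Ideal.mem_map_of_mem (AlgEquiv.refl : G₀ ≃ₐ[A] G₀) hx)

theorem colim_descend {A B : Type u} [CommRing A] [CommRing B] [Algebra A B]
    (N : Type u) [AddCommGroup N] [Module B N] (p : Ideal A) [p.IsPrime]
    {ι : Type u} [Preorder ι] (G : ι → Type u) [∀ i, CommRing (G i)] [∀ i, Algebra A (G i)]
    (g : ∀ i j, i ≤ j → G i →ₐ[A] G j)
    (A' : Type u) [CommRing A'] [Algebra A A'] [∀ i, Algebra (G i) A']
    [∀ i, IsScalarTower A (G i) A']
    (hcolim : FlatCA.IsDirectedColimitRing G (fun i j h => (g i j h).toRingHom) A')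
    (B' N' : Type u) [CommRing B'] [Algebra B B'] [Algebra A' B'] [Algebra A B']
    [IsScalarTower A B B'] [IsScalarTower A A' B']
    [AddCommGroup N'] [Module B' N'] [Module B N'] [IsScalarTower B B' N'] [Module A' N']
    [IsScalarTower A' B' N']
    (f : N →ₗ[B] N') (t' t : Ideal A') [t'.IsPrime] [t.IsPrime] (P : Ideal B') [P.IsPrime]
    (himp : FlatCA.IsImpurity A B N p A' B' N' f t' t P) :
    ∃ i : ι, FlatCA.HasImpurity A B N p (fun A'' _ _ t'' =>
      ∃ e : A'' ≃ₐ[A] G i, t''.map e = t.comap (algebraMap (G i) A')) := by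
  obtain ⟨hdir, hne, -, -, hc, hsurj, -⟩ := hcolim
  have hc' : ∀ i j (h : i ≤ j),
      (algebraMap (G j) A').comp (g i j h).toRingHom = algebraMap (G i) A' := hc
  have himp0 := himp
  obtain ⟨hPB', hf, hle, htp, hPt', hass, hcl⟩ := himp0
  obtain ⟨s, hst, hs⟩ := exists_notMem_of_closure t P hcl
  obtain ⟨x, hx, y, hy, hxy⟩ := Submodule.mem_sup.mp hs
  obtain ⟨i₀, σ, hσ⟩ := hsurj s
  obtain ⟨i₁, y₁, hy₁m, hy₁⟩ := exists_lvl_mem G g A' B' hc' hdir hne hsurj hPB' t y hy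
  obtain ⟨k, (h0k : i₀ ≤ k), (h1k : i₁ ≤ k)⟩ := hdir.directed i₀ i₁
  refine ⟨k, level_impurity N p (G k) A' B' N' f t' t P himp (lvl G A' B' k)
    (lvl_tmul G A' B' k) (g i₀ k h0k σ) ?_ (lvlT G g i₁ k h1k y₁)
    (lvlT_mem G g A' hc' t i₁ k h1k y₁ hy₁m) ?_⟩
  · rw [hc_apply G g A' hc', hσ]
    exact hst
  · rw [hc_apply G g A' hc', hσ, lvl_lvlT G g A' B' hc', hy₁, ← hxy, add_sub_cancel_right]
    exact hx

end Groth.Agent.H9.PureA
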