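import Groth.Agent.Lib.Helper9.Misc.PureK
import Groth.Agent.Lib.Helper9.Misc.PureG

universe u

open TensorProduct

namespace Groth.Agent.H9.PureA

attribute [local instance] Algebra.TensorProduct.rightAlgebra

theorem level_impurity' {A B : Type u} [CommRing A] [CommRing B] [Algebra A B]
    (N : Type u) [AddCommGroup N] [Module B N] (p : Ideal A) [p.IsPrime]
    (G₀ : Type u) [CommRing G₀] [Algebra A G₀]
    (A' : Type u) [CommRing A'] [Algebra A A'] [Algebra G₀ A'] [IsScalarTower A G₀ A']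
    (B' N' : Type u) [CommRing B'] [Algebra B B'] [Algebra A' B'] [Algebra A B']
    [IsScalarTower A B B'] [IsScalarTower A A' B']
    [AddCommGroup N'] [Module B' N'] [Module B N'] [IsScalarTower B B' N'] [Module A' N']
    [IsScalarTower A' B' N']
    (f : N →ₗ[B] N') (t' t : Ideal A') [t'.IsPrime] [t.IsPrime] (P : Ideal B') [P.IsPrime]
    (himp : FlatCA.IsImpurity A B N p A' B' N' f t' t P)
    (φ : B ⊗[A] G₀ →ₐ[B] B')
    (hφ : ∀ (b : B) (x : G₀),
      φ (b ⊗ₜ[A] x) = algebraMap B B' b * algebraMap A' B' (algebraMap G₀ A' x))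
    (σ : G₀) (hσ : algebraMap G₀ A' σ ∉ t) (yk : B ⊗[A] G₀)
    (hyk : yk ∈ (t.comap (algebraMap G₀ A')).map (algebraMap G₀ (B ⊗[A] G₀)))
    (hP : algebraMap A' B' (algebraMap G₀ A' σ) - φ yk ∈ P) :
    ∃ (Pk : Ideal (B ⊗[A] G₀)) (_ : Pk.IsPrime),
      FlatCA.IsImpurity A B N p G₀ (B ⊗[A] G₀) ((B ⊗[A] G₀) ⊗[B] N)
        (TensorProduct.mk B (B ⊗[A] G₀) N 1) (t'.comap (algebraMap G₀ A'))
        (t.comap (algebraMap G₀ A')) Pk := by
  obtain ⟨hPB', hf, hle, htp, hPt', hass, hcl⟩ := himp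
  haveI := htp
  haveI := hPt'
  letI iB : Algebra (B ⊗[A] G₀) B' := φ.toRingHom.toAlgebra
  letI iG : Algebra G₀ B' := ((algebraMap A' B').comp (algebraMap G₀ A')).toAlgebra
  haveI : IsScalarTower G₀ A' B' := IsScalarTower.of_algebraMap_eq fun _ => rfl
  haveI : IsScalarTower G₀ (B ⊗[A] G₀) B' := IsScalarTower.of_algebraMap_eq fun x => by
    show algebraMap A' B' (algebraMap G₀ A' x) = φ ((1 : B) ⊗ₜ[A] x)
    rw [hφ, map_one, one_mul]
  haveI : IsScalarTower B (B ⊗[A] G₀) B' := IsScalarTower.of_algebraMap_eq fun b => by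
    show algebraMap B B' b = φ (b ⊗ₜ[A] (1 : G₀))
    rw [hφ, map_one, map_one, mul_one]
  haveI : IsScalarTower A (B ⊗[A] G₀) B' := IsScalarTower.of_algebraMap_eq fun a => by
    rw [IsScalarTower.algebraMap_apply A B (B ⊗[A] G₀),
      ← IsScalarTower.algebraMap_apply B (B ⊗[A] G₀) B', ← IsScalarTower.algebraMap_apply A B B']
  letI iM : Module (B ⊗[A] G₀) N' := Module.compHom N' (algebraMap (B ⊗[A] G₀) B')
  haveI : IsScalarTower (B ⊗[A] G₀) B' N' := IsScalarTower.of_algebraMap_smul fun _ _ => rfl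
  haveI : IsScalarTower B (B ⊗[A] G₀) N' := IsScalarTower.of_algebraMap_smul fun b n => by
    show algebraMap (B ⊗[A] G₀) B' (algebraMap B (B ⊗[A] G₀) b) • n = b • n
    rw [← IsScalarTower.algebraMap_apply B (B ⊗[A] G₀) B', algebraMap_smul]
  obtain ⟨g₁, hg₁⟩ : ∃ g₁ : (B ⊗[A] G₀) ⊗[B] N →ₗ[B ⊗[A] G₀] N', IsBaseChange B' g₁ := by
    have hbc := TensorProduct.isBaseChange B N (B ⊗[A] G₀)
    have hlift : ((hbc.lift f).restrictScalars B).comp (TensorProduct.mk B (B ⊗[A] G₀) N 1) = f :=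
      hbc.lift_comp f
    exact ⟨hbc.lift f, IsBaseChange.of_comp hbc (by rw [hlift]; exact hf)⟩
  have h1 : Algebra.IsPushout G₀ A' (B ⊗[A] G₀) B' :=
    (Algebra.IsPushout.comp_iff A G₀ B (S' := B ⊗[A] G₀) (T := A') (T' := B')).mp hPB'.symm
  have hP₁ : Algebra.IsPushout G₀ (B ⊗[A] G₀) A' B' := h1.symm
  haveI hs' : t'.LiesOver (t'.comap (algebraMap G₀ A')) := ⟨rfl⟩
  obtain ⟨hPk, hassk⟩ := descend_fiberIdeal (B ⊗[A] G₀) B' (t'.comap (algebraMap G₀ A')) t'
    g₁ hP₁ hg₁ P hass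
  refine ⟨P.comap (algebraMap (B ⊗[A] G₀) B'), inferInstance, ?_⟩
  unfold FlatCA.IsImpurity
  refine ⟨inferInstance, TensorProduct.isBaseChange B N (B ⊗[A] G₀), Ideal.comap_mono hle,
    ⟨?_⟩, hPk, hassk, ?_⟩
  · show p = (t.comap (algebraMap G₀ A')).comap (algebraMap A G₀)
    rw [Ideal.comap_comap, ← IsScalarTower.algebraMap_eq A G₀ A']
    exact htp.over
  · intro P'' hP''prime hPle hP''over
    have h2 : algebraMap G₀ (B ⊗[A] G₀) σ - yk ∈ P.comap (algebraMap (B ⊗[A] G₀) B') := by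
      show algebraMap (B ⊗[A] G₀) B' (algebraMap G₀ (B ⊗[A] G₀) σ - yk) ∈ P
      rw [map_sub, ← IsScalarTower.algebraMap_apply G₀ (B ⊗[A] G₀) B',
        IsScalarTower.algebraMap_apply G₀ A' B']
      exact hP
    have h3 : yk ∈ P'' := by
      have hle' : (t.comap (algebraMap G₀ A')).map (algebraMap G₀ (B ⊗[A] G₀)) ≤ P'' := by
        rw [Ideal.map_le_iff_le_comap]
        exact hP''over.over.le
      exact hle' hyk
    have h4 : algebraMap G₀ (B ⊗[A] G₀) σ ∈ P'' := by
      have h5 := add_mem (hPle h2) h3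
      rwa [sub_add_cancel] at h5
    have h6 : σ ∈ t.comap (algebraMap G₀ A') := by
      rw [hP''over.over]
      exact h4
    exact hσ h6


theorem colim_descend'' {A B : Type u} [CommRing A] [CommRing B] [Algebra A B]
    (N : Type u) [AddCommGroup N] [Module B N] (p : Ideal A) [p.IsPrime]
    {ι : Type u} [Preorder ι] (G : ι → Type u) [∀ i, CommRing (G i)] [∀ i, Algebra A (G i)]
    (g : ∀ i j, i ≤ j → G i →ₐ[A] G j)
    (A' : Type u) [CommRing A'] [Algebra A A'] [∀ i, Algebra (G i) A']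
    [∀ i, IsScalarTower A (G i) A']
    (hdir : IsDirected ι (· ≤ ·)) (hne : Nonempty ι)
    (hc : ∀ i j (h : i ≤ j),
      (algebraMap (G j) A').comp (g i j h).toRingHom = algebraMap (G i) A')
    (hsurj : ∀ a : A', ∃ i, ∃ x : G i, algebraMap (G i) A' x = a)
    (B' N' : Type u) [CommRing B'] [Algebra B B'] [Algebra A' B'] [Algebra A B']
    [IsScalarTower A B B'] [IsScalarTower A A' B']
    [AddCommGroup N'] [Module B' N'] [Module B N'] [IsScalarTower B B' N'] [Module A' N']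
    [IsScalarTower A' B' N']
    (f : N →ₗ[B] N') (t' t : Ideal A') [t'.IsPrime] [t.IsPrime] (P : Ideal B') [P.IsPrime]
    (himp : FlatCA.IsImpurity A B N p A' B' N' f t' t P) :
    ∃ (i : ι) (Pi : Ideal (B ⊗[A] G i)) (_ : Pi.IsPrime),
      FlatCA.IsImpurity A B N p (G i) (B ⊗[A] G i) ((B ⊗[A] G i) ⊗[B] N)
        (TensorProduct.mk B (B ⊗[A] G i) N 1) (t'.comap (algebraMap (G i) A'))
        (t.comap (algebraMap (G i) A')) Pi := by
  have himp0 := himp
  obtain ⟨hPB', hf, hle, htp, hPt', hass, hcl⟩ := himp0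
  obtain ⟨s, hst, hs⟩ := exists_notMem_of_closure t P hcl
  obtain ⟨x, hx, y, hy, hxy⟩ := Submodule.mem_sup.mp hs
  obtain ⟨i₀, σ, hσ⟩ := hsurj s
  obtain ⟨i₁, y₁, hy₁m, hy₁⟩ := exists_lvl_mem G g A' B' hc hdir hne hsurj hPB' t y hy
  obtain ⟨k, (h0k : i₀ ≤ k), (h1k : i₁ ≤ k)⟩ := hdir.directed i₀ i₁
  obtain ⟨Pk, hPk, himpk⟩ := level_impurity' N p (G k) A' B' N' f t' t P himp (lvl G A' B' k)
    (lvl_tmul G A' B' k) (g i₀ k h0k σ) (by rw [hc_apply G g A' hc, hσ]; exact hst)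
    (lvlT G g i₁ k h1k y₁) (lvlT_mem G g A' hc t i₁ k h1k y₁ hy₁m) (by
      rw [hc_apply G g A' hc, hσ, lvl_lvlT G g A' B' hc, hy₁, ← hxy, add_sub_cancel_right]
      exact hx)
  exact ⟨k, Pk, hPk, himpk⟩

theorem hens_switch {A B : Type u} [CommRing A] [CommRing B] [Algebra A B]
    [Algebra.FiniteType A B] (N : Type u) [AddCommGroup N] [Module B N] (p : Ideal A) [p.IsPrime]
    {A₁ B₁ N₁ : Type u} [CommRing A₁] [CommRing B₁] [Algebra A A₁] [Algebra B B₁]
    [Algebra A₁ B₁] [Algebra A B₁] [IsScalarTower A B B₁] [IsScalarTower A A₁ B₁]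
    [AddCommGroup N₁] [Module B₁ N₁] [Module B N₁] [IsScalarTower B B₁ N₁] [Module A₁ N₁]
    [IsScalarTower A₁ B₁ N₁] {f₁ : N →ₗ[B] N₁} {t' t : Ideal A₁} [t'.IsPrime] [t.IsPrime]
    {P : Ideal B₁} [P.IsPrime] (himp : FlatCA.IsImpurity A B N p A₁ B₁ N₁ f₁ t' t P)
    [IsLocalRing A₁] (ht : t = IsLocalRing.maximalIdeal A₁)
    [Algebra (Localization.AtPrime p) A₁] [IsScalarTower A (Localization.AtPrime p) A₁]
    [IsLocalHom (algebraMap (Localization.AtPrime p) A₁)]
    (hH : Hensel.IsHenselization (Localization.AtPrime p) A₁)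
    (H : Type u) [CommRing H] [IsLocalRing H] [Algebra (Localization.AtPrime p) H]
    [IsLocalHom (algebraMap (Localization.AtPrime p) H)]
    (hH' : Hensel.IsHenselization (Localization.AtPrime p) H)
    [Algebra A H] [IsScalarTower A (Localization.AtPrime p) H] :
    ∃ (q : Ideal H) (_ : q.IsPrime) (P₂ : Ideal (B ⊗[A] H)) (_ : P₂.IsPrime),
      FlatCA.IsImpurity A B N p H (B ⊗[A] H) ((B ⊗[A] H) ⊗[B] N)
        (TensorProduct.mk B (B ⊗[A] H) N 1) q (IsLocalRing.maximalIdeal H) P₂ := by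
  haveI hHens₁ : HenselianLocalRing A₁ := hH.henselian
  haveI hHens : HenselianLocalRing H := hH'.henselian
  obtain ⟨g, hg0, -⟩ := hH.universal H (algebraMap (Localization.AtPrime p) H) inferInstance
  have hg : g.comp (algebraMap (Localization.AtPrime p) A₁) =
      algebraMap (Localization.AtPrime p) H := hg0
  obtain ⟨g', hg'0, -⟩ := hH'.universal A₁ (algebraMap (Localization.AtPrime p) A₁) inferInstance
  have hg' : g'.comp (algebraMap (Localization.AtPrime p) H) =
      algebraMap (Localization.AtPrime p) A₁ := hg'0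
  have hid : g'.comp g = RingHom.id A₁ := by
    obtain ⟨u, -, huniq⟩ :=
      hH.universal A₁ (algebraMap (Localization.AtPrime p) A₁) inferInstance
    have h1 : g'.comp g = u := huniq (g'.comp g)
      (show (g'.comp g).comp (algebraMap (Localization.AtPrime p) A₁) =
        algebraMap (Localization.AtPrime p) A₁ by rw [RingHom.comp_assoc, hg, hg'])
    have h2 : RingHom.id A₁ = u := huniq (RingHom.id A₁)
      (show (RingHom.id A₁).comp (algebraMap (Localization.AtPrime p) A₁) =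
        algebraMap (Localization.AtPrime p) A₁ by rw [RingHom.id_comp])
    rw [h1, h2]
  have hglocal : ∀ x : A₁, IsUnit (g x) → IsUnit x := fun x hx => by
    have h1 : g' (g x) = x := RingHom.congr_fun hid x
    rw [← h1]
    exact hx.map g'
  have hgt : (IsLocalRing.maximalIdeal H).comap g = t := by
    rw [ht]
    ext x
    rw [Ideal.mem_comap, IsLocalRing.mem_maximalIdeal, IsLocalRing.mem_maximalIdeal,
      mem_nonunits_iff, mem_nonunits_iff]
    exact ⟨fun h hx => h (hx.map g), fun h hx => h (hglocal x hx)⟩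
  have hqle : t'.comap g' ≤ IsLocalRing.maximalIdeal H :=
    IsLocalRing.le_maximalIdeal (Ideal.IsPrime.ne_top inferInstance)
  have hqt' : (t'.comap g').comap g = t' := by
    rw [Ideal.comap_comap, hid, Ideal.comap_id]
  letI : Algebra A₁ H := g.toAlgebra
  haveI : IsScalarTower A A₁ H := IsScalarTower.of_algebraMap_eq fun a => by
    show algebraMap A H a = g (algebraMap A A₁ a)
    rw [IsScalarTower.algebraMap_apply A (Localization.AtPrime p) H,
      IsScalarTower.algebraMap_apply A (Localization.AtPrime p) A₁, ← hg]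
    rfl
  have hst : (IsLocalRing.maximalIdeal H).LiesOver t := ⟨hgt.symm⟩
  have hs't' : (t'.comap g').LiesOver t' := ⟨hqt'.symm⟩
  have hsp' : (IsLocalRing.maximalIdeal H).LiesOver p := ⟨by
    rw [← Ideal.under_under (B := Localization.AtPrime p) (IsLocalRing.maximalIdeal H)]
    have h1 : (IsLocalRing.maximalIdeal H).under (Localization.AtPrime p) =
        IsLocalRing.maximalIdeal (Localization.AtPrime p) :=
      IsLocalRing.maximalIdeal_comap (algebraMap (Localization.AtPrime p) H)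
    rw [h1]
    exact (IsLocalization.AtPrime.comap_maximalIdeal (Localization.AtPrime p) p).symm⟩
  obtain ⟨P₂, hP₂, himp₂⟩ := impurity_lift_abstract (A' := A) (B' := B) (N' := N) (p' := p)
    (inferInstance : Algebra.IsPushout A B A B)
    (IsBaseChange.of_equiv (f := (LinearMap.id : N →ₗ[B] N)) (TensorProduct.lid B N)
      (fun x => by rw [TensorProduct.lid_tmul, one_smul]; rfl)) himp
    (A₂ := H) (B₂ := B ⊗[A] H) (N₂ := (B ⊗[A] H) ⊗[B] N) inferInstance
    (TensorProduct.isBaseChange B N (B ⊗[A] H)) hqle hsp' hst hs't'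
  exact ⟨t'.comap g', inferInstance, P₂, hP₂, himp₂⟩

end Groth.Agent.H9.PureA
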