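import Groth.Agent.Lib.Helper9.Misc.PureL
import Groth.Agent.Lib.Helper9.Misc.PureI

universe u

open TensorProduct

namespace Groth.Agent.H9.PureA

attribute [local instance] Algebra.TensorProduct.rightAlgebra

/-- The henselization of `A_p` (helper8's construction). -/
abbrev Hp {A : Type u} [CommRing A] (p : Ideal A) [p.IsPrime] : Type u :=
  Groth.Agent.H8.Hens.Henselization (Localization.AtPrime p)

/-- The index type of pointed etale `A_p`-algebras. -/
abbrev Ep {A : Type u} [CommRing A] (p : Ideal A) [p.IsPrime] : Type u :=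
  Groth.Agent.H8.Hens.EtPt (Localization.AtPrime p)
    (IsLocalRing.ResidueField (Localization.AtPrime p))

open Groth.Agent.H8.Hens in
theorem hens_descend {A B : Type u} [CommRing A] [CommRing B] [Algebra A B]
    (N : Type u) [AddCommGroup N] [Module B N] (p : Ideal A) [p.IsPrime]
    [Algebra A (Hp p)] [IsScalarTower A (Localization.AtPrime p) (Hp p)]
    {B' N' : Type u} [CommRing B'] [Algebra B B'] [Algebra (Hp p) B'] [Algebra A B']
    [IsScalarTower A B B'] [IsScalarTower A (Hp p) B']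
    [AddCommGroup N'] [Module B' N'] [Module B N'] [IsScalarTower B B' N'] [Module (Hp p) N']
    [IsScalarTower (Hp p) B' N']
    {f : N →ₗ[B] N'} {t' : Ideal (Hp p)} [t'.IsPrime] {P : Ideal B'} [P.IsPrime]
    (himp : FlatCA.IsImpurity A B N p (Hp p) B' N' f t' (IsLocalRing.maximalIdeal (Hp p)) P) :
    ∃ (i : Ep p) (t'i ti : Ideal i.Loc) (_ : t'i.IsPrime) (_ : ti.IsPrime)
      (Pi : Ideal (B ⊗[A] i.Loc)) (_ : Pi.IsPrime),
      FlatCA.IsImpurity A B N p i.Loc (B ⊗[A] i.Loc) ((B ⊗[A] i.Loc) ⊗[B] N)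
        (TensorProduct.mk B (B ⊗[A] i.Loc) N 1) t'i ti Pi ∧
        ti = IsLocalRing.maximalIdeal i.Loc := by
  letI : ∀ i : Ep p, Algebra i.Loc (Hp p) := fun i => (H.of i).toAlgebra
  haveI : ∀ i : Ep p, IsScalarTower A i.Loc (Hp p) := fun i =>
    IsScalarTower.of_algebraMap_eq fun a => by
      show algebraMap A (Hp p) a = H.of i (algebraMap A i.Loc a)
      rw [IsScalarTower.algebraMap_apply A (Localization.AtPrime p) (Hp p), H.algebraMap_eq i,
        ← IsScalarTower.algebraMap_apply A (Localization.AtPrime p) i.Loc]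
  obtain ⟨i, Pi, hPi, himpi⟩ := colim_descend'' N p (fun i : Ep p => i.Loc)
    (fun i j h => (EtPt.trans h).restrictScalars A) (Hp p)
    inferInstance inferInstance (fun i j h => RingHom.ext fun x => H.of_trans h x)
    (fun a => H.exists_of a) B' N' f t' (IsLocalRing.maximalIdeal (Hp p)) P himp
  exact ⟨i, _, _, inferInstance, inferInstance, Pi, hPi, himpi,
    IsLocalRing.maximalIdeal_comap (H.of i)⟩

theorem exists_frac {A R E L : Type u} [CommRing A] [CommRing R] [CommRing E] [CommRing L]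
    [Algebra A R] [Algebra R E] [Algebra A E] [IsScalarTower A R E]
    [Algebra E L] [Algebra A L] [Algebra R L] [IsScalarTower A E L] [IsScalarTower R E L]
    [IsScalarTower A R L]
    (M : Submonoid A) [IsLocalization M R] {n : ℕ} (π : MvPolynomial (Fin n) R →ₐ[R] E)
    (hπ : Function.Surjective π) (q : Ideal E) [q.IsPrime] [IsLocalization.AtPrime L q]
    (G₀ : Subalgebra A L) (hX : ∀ j, algebraMap E L (π (MvPolynomial.X j)) ∈ G₀) (l : L) :
    ∃ g g' : L, g ∈ G₀ ∧ g' ∈ G₀ ∧ IsUnit g' ∧ l * g' = g := by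
  have hunitA : ∀ s : M, IsUnit (algebraMap A L s) := fun s => by
    rw [IsScalarTower.algebraMap_apply A R L]
    exact (IsLocalization.map_units R s).map _
  have key : ∀ Q : MvPolynomial (Fin n) R, ∃ s : M, ∃ g ∈ G₀,
      algebraMap A L s * algebraMap E L (π Q) = g := by
    intro Q
    induction Q using MvPolynomial.induction_on with
    | C r =>
      obtain ⟨a, s, rfl⟩ := IsLocalization.exists_mk'_eq M r
      refine ⟨s, algebraMap A L a, Subalgebra.algebraMap_mem G₀ a, ?_⟩
      have h1 : algebraMap E L (π (MvPolynomial.C (IsLocalization.mk' R a s))) =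
          algebraMap R L (IsLocalization.mk' R a s) := by
        rw [IsScalarTower.algebraMap_apply R E L, ← MvPolynomial.algebraMap_eq, AlgHom.commutes]
      rw [h1, IsScalarTower.algebraMap_apply A R L, ← map_mul, IsLocalization.mk'_spec',
        ← IsScalarTower.algebraMap_apply A R L]
    | add Q₁ Q₂ h₁ h₂ =>
      obtain ⟨s₁, g₁, hg₁, e₁⟩ := h₁
      obtain ⟨s₂, g₂, hg₂, e₂⟩ := h₂
      refine ⟨s₁ * s₂, algebraMap A L s₂ * g₁ + algebraMap A L s₁ * g₂,
        add_mem (mul_mem (Subalgebra.algebraMap_mem G₀ _) hg₁)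
          (mul_mem (Subalgebra.algebraMap_mem G₀ _) hg₂), ?_⟩
      rw [map_add, map_add, ← e₁, ← e₂, Submonoid.coe_mul, map_mul]
      ring
    | mul_X Q j h =>
      obtain ⟨s, g, hg, e⟩ := h
      refine ⟨s, g * algebraMap E L (π (MvPolynomial.X j)), mul_mem hg (hX j), ?_⟩
      rw [map_mul, map_mul, ← mul_assoc, e]
  obtain ⟨e, u, rfl⟩ := IsLocalization.exists_mk'_eq q.primeCompl l
  obtain ⟨Qe, rfl⟩ := hπ e
  obtain ⟨Qu, hQu⟩ := hπ (u : E)
  obtain ⟨se, ge, hge, ee⟩ := key Qe
  obtain ⟨su, gu, hgu, eu⟩ := key Qu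
  rw [hQu] at eu
  have hιu : IsUnit (algebraMap E L (u : E)) := IsLocalization.map_units L u
  refine ⟨algebraMap A L su * ge, algebraMap A L se * gu,
    mul_mem (Subalgebra.algebraMap_mem G₀ _) hge, mul_mem (Subalgebra.algebraMap_mem G₀ _) hgu,
    ?_, ?_⟩
  · rw [← eu]
    exact (hunitA se).mul ((hunitA su).mul hιu)
  · have hspec := IsLocalization.mk'_spec L (π Qe) u
    rw [← ee, ← eu, ← hspec]
    ring

theorem local_descend {A B : Type u} [CommRing A] [CommRing B] [Algebra A B]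
    (N : Type u) [AddCommGroup N] [Module B N] (p : Ideal A) [p.IsPrime]
    (L : Type u) [CommRing L] [IsLocalRing L] [Algebra A L] [Algebra.QuasiFinite A L]
    (G₀ : Subalgebra A L) (hG₀ : G₀.FG)
    (hfrac : ∀ l : L, ∃ g g' : L, g ∈ G₀ ∧ g' ∈ G₀ ∧ IsUnit g' ∧ l * g' = g)
    (B' N' : Type u) [CommRing B'] [Algebra B B'] [Algebra L B'] [Algebra A B']
    [IsScalarTower A B B'] [IsScalarTower A L B']
    [AddCommGroup N'] [Module B' N'] [Module B N'] [IsScalarTower B B' N'] [Module L N']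
    [IsScalarTower L B' N']
    (f : N →ₗ[B] N') (t' t : Ideal L) [t'.IsPrime] [t.IsPrime]
    (ht : t = IsLocalRing.maximalIdeal L) (P : Ideal B') [P.IsPrime]
    (himp : FlatCA.IsImpurity A B N p L B' N' f t' t P) :
    FlatCA.HasImpurity A B N p (fun A' _ _ t => ∃ _ : t.IsPrime,
      Algebra.FiniteType A A' ∧ Algebra.QuasiFiniteAt A t) := by
  obtain ⟨⟨G', hFG, hle⟩, Pi, hPi, himpi⟩ := colim_descend'' N p
    (ι := {G' : Subalgebra A L // G'.FG ∧ G₀ ≤ G'})
    (fun i => ↥i.1) (fun i j h => Subalgebra.inclusion (show i.1 ≤ j.1 from h)) L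
    ⟨fun a b => ⟨⟨a.1 ⊔ b.1, a.2.1.sup b.2.1, le_sup_of_le_left a.2.2⟩,
      (show a.1 ≤ a.1 ⊔ b.1 from le_sup_left), (show b.1 ≤ a.1 ⊔ b.1 from le_sup_right)⟩⟩
    ⟨⟨G₀, hG₀, le_rfl⟩⟩
    (fun i j h => RingHom.ext fun x => rfl)
    (fun a => ⟨⟨G₀ ⊔ Algebra.adjoin A (↑({a} : Finset L) : Set L),
        hG₀.sup (Subalgebra.fg_adjoin_finset {a}), le_sup_left⟩,
      ⟨a, (le_sup_right : Algebra.adjoin A (↑({a} : Finset L) : Set L) ≤
        G₀ ⊔ Algebra.adjoin A (↑({a} : Finset L) : Set L))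
        (Algebra.subset_adjoin (Finset.mem_coe.mpr (Finset.mem_singleton_self a)))⟩, rfl⟩)
    B' N' f t' t P himp
  haveI hft : Algebra.FiniteType A ↥G' := (Subalgebra.fg_iff_finiteType G').mp hFG
  have hloc : IsLocalization.AtPrime L (t.comap (algebraMap ↥G' L)) := by
    rw [IsLocalization.AtPrime, isLocalization_iff]
    refine ⟨?_, ?_, ?_⟩
    · rintro ⟨y, hy⟩
      have h1 : algebraMap ↥G' L y ∉ IsLocalRing.maximalIdeal L := by
        rw [← ht]
        exact hy
      exact IsLocalRing.notMem_maximalIdeal.mp h1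
    · intro z
      obtain ⟨g, g', hg, hg', hunit, hz⟩ := hfrac z
      refine ⟨(⟨g, hle hg⟩, ⟨⟨g', hle hg'⟩, ?_⟩), hz⟩
      show (⟨g', hle hg'⟩ : ↥G') ∉ t.comap (algebraMap ↥G' L)
      intro hmem
      have h1 : g' ∈ IsLocalRing.maximalIdeal L := by
        rw [← ht]
        exact hmem
      exact (mem_nonunits_iff.mp ((IsLocalRing.mem_maximalIdeal g').mp h1)) hunit
    · intro x y hxy
      exact ⟨1, by rw [Subtype.ext hxy]⟩
  have hqf : Algebra.QuasiFiniteAt A (t.comap (algebraMap ↥G' L)) := by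
    haveI := hloc
    exact (Algebra.QuasiFinite.iff_of_algEquiv
      ((IsLocalization.algEquiv (t.comap (algebraMap ↥G' L)).primeCompl
        (Localization.AtPrime (t.comap (algebraMap ↥G' L))) L).restrictScalars A)).mpr
      inferInstance
  exact ⟨↥G', B ⊗[A] ↥G', (B ⊗[A] ↥G') ⊗[B] N, inferInstance, inferInstance, inferInstance,
    inferInstance, inferInstance, inferInstance, inferInstance, inferInstance, inferInstance,
    inferInstance, inferInstance, inferInstance, inferInstance, inferInstance,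
    TensorProduct.mk B (B ⊗[A] ↥G') N 1, t'.comap (algebraMap ↥G' L),
    t.comap (algebraMap ↥G' L), inferInstance, inferInstance, Pi, hPi, himpi,
    inferInstance, hft, hqf⟩

end Groth.Agent.H9.PureA
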