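import Groth.Agent.Lib.Helper9.Misc.PureM

universe u

open TensorProduct

namespace Groth.Agent.H9.PureA

attribute [local instance] Algebra.TensorProduct.rightAlgebra

theorem etpt_to_qf {A B : Type u} [CommRing A] [CommRing B] [Algebra A B]
    (N : Type u) [AddCommGroup N] [Module B N] (p : Ideal A) [p.IsPrime]
    (i : Ep p)
    {B' N' : Type u} {_ : CommRing B'} {_ : Algebra B B'} {_ : Algebra i.Loc B'} {_ : Algebra A B'}
    {_ : IsScalarTower A B B'} {_ : IsScalarTower A i.Loc B'}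
    {_ : AddCommGroup N'} {_ : Module B' N'} {_ : Module B N'} {_ : IsScalarTower B B' N'}
    {_ : Module i.Loc N'} {_ : IsScalarTower i.Loc B' N'}
    {f : N →ₗ[B] N'} {t'i ti : Ideal i.Loc} {_ : t'i.IsPrime} {_ : ti.IsPrime}
    {Pi : Ideal B'} {_ : Pi.IsPrime}
    (himpi : FlatCA.IsImpurity A B N p i.Loc B' N' f t'i ti Pi)
    (htimax : ti = IsLocalRing.maximalIdeal i.Loc) :
    FlatCA.HasImpurity A B N p (fun A' _ _ t => ∃ _ : t.IsPrime,
      Algebra.FiniteType A A' ∧ Algebra.QuasiFiniteAt A t) := by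
  haveI hQF_E : Algebra.QuasiFinite A i.Ring :=
    Algebra.QuasiFinite.trans A (Localization.AtPrime p) i.Ring
  haveI hQF_L : Algebra.QuasiFinite A i.Loc := inferInstance
  obtain ⟨G₀, hG₀def⟩ : ∃ G₀ : Subalgebra A i.Loc, G₀ = Algebra.adjoin A
      (Set.range fun j : Fin i.n => algebraMap i.Ring i.Loc
        (Ideal.Quotient.mkₐ (Localization.AtPrime p) i.I (MvPolynomial.X j))) := ⟨_, rfl⟩
  have hG₀FG : G₀.FG := by
    rw [hG₀def]
    exact Subalgebra.fg_def.mpr ⟨_, Set.finite_range _, rfl⟩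
  have hX : ∀ j : Fin i.n, algebraMap i.Ring i.Loc
      (Ideal.Quotient.mkₐ (Localization.AtPrime p) i.I (MvPolynomial.X j)) ∈ G₀ := fun j => by
    rw [hG₀def]
    exact Algebra.subset_adjoin ⟨j, rfl⟩
  have hfrac : ∀ l : i.Loc, ∃ g g' : i.Loc, g ∈ G₀ ∧ g' ∈ G₀ ∧ IsUnit g' ∧ l * g' = g :=
    fun l => exists_frac (A := A) (R := Localization.AtPrime p) (E := i.Ring) (L := i.Loc)
      p.primeCompl (Ideal.Quotient.mkₐ (Localization.AtPrime p) i.I)
      (Ideal.Quotient.mkₐ_surjective _ _) (Groth.Agent.H8.Hens.ptIdeal i.pt) G₀ hX l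
  exact local_descend N p i.Loc G₀ hG₀FG hfrac B' N' f t'i ti htimax Pi himpi

theorem hens_to_etale {A B : Type u} [CommRing A] [CommRing B] [Algebra A B]
    [Algebra.FiniteType A B] (N : Type u) [AddCommGroup N] [Module B N] (p : Ideal A) [p.IsPrime]
    (h : FlatCA.HasImpurity A B N p (fun A' _ _ t => ∃ (_ : IsLocalRing A')
      (_ : Algebra (Localization.AtPrime p) A') (_ : IsScalarTower A (Localization.AtPrime p) A')
      (_ : IsLocalHom (algebraMap (Localization.AtPrime p) A')),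
      Hensel.IsHenselization (Localization.AtPrime p) A' ∧ t = IsLocalRing.maximalIdeal A')) :
    FlatCA.HasImpurity A B N p
      (fun A' _ _ t => ∃ _ : t.IsPrime, FlatCA.IsEtaleNhd A A' p t) := by
  obtain ⟨A₁, B₁, N₁, _, _, _, _, _, _, _, _, _, _, _, _, _, _, f₁, t', t, _, _, P, _, himp,
    hloc, halg, htow, hlh, hH, ht⟩ := h
  haveI := hloc
  letI := halg
  haveI := htow
  haveI := hlh
  letI : Algebra A (Hp p) :=
    ((algebraMap (Localization.AtPrime p) (Hp p)).comp
      (algebraMap A (Localization.AtPrime p))).toAlgebra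
  haveI : IsScalarTower A (Localization.AtPrime p) (Hp p) :=
    IsScalarTower.of_algebraMap_eq fun _ => rfl
  obtain ⟨q, hq, P₂, hP₂, himp₂⟩ := hens_switch N p himp ht hH (Hp p)
    Groth.Agent.H8.Hens.isHenselization
  haveI := hq
  haveI := hP₂
  obtain ⟨i, t'i, ti, ht'i, hti, Pi, hPi, himpi, htimax⟩ := hens_descend N p himp₂
  exact qf_to_etale N p (etpt_to_qf N p i himpi htimax)

end Groth.Agent.H9.PureA
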