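import Groth.Agent.Lib.Helper9.Misc.PureL

universe u

open TensorProduct

namespace Groth.Agent.H9.PureA

attribute [local instance] Algebra.TensorProduct.rightAlgebra

theorem closed_point {A B : Type u} [CommRing A] [CommRing B] [Algebra A B]
    (N : Type u) [AddCommGroup N] [Module B N] (p : Ideal A) [p.IsPrime]
    (A₁ : Type u) [CommRing A₁] [Algebra A A₁] [Algebra.FiniteType A A₁]
    {B₁ N₁ : Type u} {_ : CommRing B₁} {_ : Algebra B B₁} {_ : Algebra A₁ B₁} {_ : Algebra A B₁}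
    {_ : IsScalarTower A B B₁} {_ : IsScalarTower A A₁ B₁}
    {_ : AddCommGroup N₁} {_ : Module B₁ N₁} {_ : Module B N₁} {_ : IsScalarTower B B₁ N₁}
    {_ : Module A₁ N₁} {_ : IsScalarTower A₁ B₁ N₁}
    {f₁ : N →ₗ[B] N₁} {t' t : Ideal A₁} {_ : t'.IsPrime} {_ : t.IsPrime}
    {P : Ideal B₁} {_ : P.IsPrime}
    (himp : FlatCA.IsImpurity A B N p A₁ B₁ N₁ f₁ t' t P) :
    ∃ (t₂ : Ideal A₁) (_ : t₂.IsPrime),
      FlatCA.IsImpurity A B N p A₁ B₁ N₁ f₁ t' t₂ P ∧ (FlatCA.fiberIdeal p t₂).IsMaximal := by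
  obtain ⟨hPB, hf, hle, htp, hPt', hass, hcl⟩ := himp
  haveI := htp
  obtain ⟨s, hst, hs⟩ := exists_notMem_of_closure t P hcl
  haveI : IsJacobsonRing (p.Fiber A₁) := isJacobsonRing_of_finiteType (A := p.ResidueField)
  have hcomap : (t.map (incl p (S := A₁))).comap (incl p) = t := comap_map_incl p t
  have hsrad : incl p (S := A₁) s ∉ (t.map (incl p (S := A₁))).radical := by
    rintro ⟨n, hn⟩
    have h1 : s ^ n ∈ (t.map (incl p (S := A₁))).comap (incl p) := by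
      rw [Ideal.mem_comap, map_pow]
      exact hn
    rw [hcomap] at h1
    exact hst (Ideal.IsPrime.mem_of_pow_mem inferInstance n h1)
  rw [Ideal.radical_eq_jacobson] at hsrad
  obtain ⟨m, ⟨hQm, hmmax⟩, hsm⟩ : ∃ m : Ideal (p.Fiber A₁),
      (t.map (incl p (S := A₁)) ≤ m ∧ m.IsMaximal) ∧ incl p (S := A₁) s ∉ m := by
    by_contra hcon
    apply hsrad
    rw [Ideal.jacobson, Ideal.mem_sInf]
    intro J hJ
    by_contra hsJ
    exact hcon ⟨J, hJ, hsJ⟩
  haveI := hmmax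
  have htt₂ : t ≤ m.comap (incl p (S := A₁)) := fun x hx => hQm (Ideal.mem_map_of_mem _ hx)
  have hst₂ : s ∉ m.comap (incl p (S := A₁)) := hsm
  have hover : (m.comap (incl p (S := A₁))).LiesOver p := ⟨by
    apply le_antisymm
    · intro a ha
      apply htt₂
      have h0 : a ∈ t.under A := by
        rw [← htp.over]
        exact ha
      exact h0
    · intro a ha
      by_contra hap
      have h1 : incl p (S := A₁) (algebraMap A A₁ a) ∈ m := ha
      have h2 : incl p (S := A₁) (algebraMap A A₁ a) =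
          algebraMap p.ResidueField (p.Fiber A₁) (algebraMap A p.ResidueField a) := by
        rw [← IsScalarTower.algebraMap_apply A p.ResidueField (p.Fiber A₁)]
        exact (Algebra.TensorProduct.includeRight (R := A) (A := p.ResidueField)
          (B := A₁)).commutes a
      rw [h2] at h1
      have hne : algebraMap A p.ResidueField a ≠ 0 :=
        fun h0 => hap (Ideal.algebraMap_residueField_eq_zero.mp h0)
      have hunit : IsUnit (algebraMap p.ResidueField (p.Fiber A₁)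
          (algebraMap A p.ResidueField a)) := (isUnit_iff_ne_zero.mpr hne).map _
      exact hmmax.ne_top (Ideal.eq_top_of_isUnit_mem _ h1 hunit)⟩
  refine ⟨m.comap (incl p (S := A₁)), inferInstance, ?_, ?_⟩
  · unfold FlatCA.IsImpurity
    refine ⟨hPB, hf, hle.trans htt₂, hover, hPt', hass, ?_⟩
    intro P' hP'prime hPP' hP'over
    have h1 : t.map (algebraMap A₁ B₁) ≤ P' := by
      rw [Ideal.map_le_iff_le_comap]
      intro x hx
      have h0 : x ∈ P'.under A₁ := by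
        rw [← hP'over.over]
        exact htt₂ hx
      exact h0
    have h2 : algebraMap A₁ B₁ s ∈ P' := (sup_le hPP' h1) hs
    have h3 : s ∈ m.comap (incl p (S := A₁)) := by
      rw [hP'over.over]
      exact h2
    exact hst₂ h3
  · have h1 := eq_map_comap_incl p m
    show (Ideal.map (incl p (S := A₁)) (m.comap (incl p (S := A₁)))).IsMaximal
    rw [← h1]
    exact hmmax

theorem ft_descend {A B : Type u} [CommRing A] [CommRing B] [Algebra A B]
    (N : Type u) [AddCommGroup N] [Module B N] (p : Ideal A) [p.IsPrime]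
    (A₁ : Type u) [CommRing A₁] [Algebra A A₁]
    {B₁ N₁ : Type u} {_ : CommRing B₁} {_ : Algebra B B₁} {_ : Algebra A₁ B₁} {_ : Algebra A B₁}
    {_ : IsScalarTower A B B₁} {_ : IsScalarTower A A₁ B₁}
    {_ : AddCommGroup N₁} {_ : Module B₁ N₁} {_ : Module B N₁} {_ : IsScalarTower B B₁ N₁}
    {_ : Module A₁ N₁} {_ : IsScalarTower A₁ B₁ N₁}
    {f₁ : N →ₗ[B] N₁} {t' t : Ideal A₁} {_ : t'.IsPrime} {_ : t.IsPrime}
    {P : Ideal B₁} {_ : P.IsPrime}
    (himp : FlatCA.IsImpurity A B N p A₁ B₁ N₁ f₁ t' t P) :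
    ∃ (A₂ : Type u) (_ : CommRing A₂) (_ : Algebra A A₂) (_ : Algebra.FiniteType A A₂)
      (t'₂ t₂ : Ideal A₂) (_ : t'₂.IsPrime) (_ : t₂.IsPrime) (P₂ : Ideal (B ⊗[A] A₂))
      (_ : P₂.IsPrime),
      FlatCA.IsImpurity A B N p A₂ (B ⊗[A] A₂) ((B ⊗[A] A₂) ⊗[B] N)
        (TensorProduct.mk B (B ⊗[A] A₂) N 1) t'₂ t₂ P₂ := by
  obtain ⟨⟨G', hFG⟩, Pi, hPi, himpi⟩ := colim_descend'' N p
    (ι := {G' : Subalgebra A A₁ // G'.FG})
    (fun i => ↥i.1) (fun i j h => Subalgebra.inclusion (show i.1 ≤ j.1 from h)) A₁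
    ⟨fun a b => ⟨⟨a.1 ⊔ b.1, a.2.sup b.2⟩,
      (show a.1 ≤ a.1 ⊔ b.1 from le_sup_left), (show b.1 ≤ a.1 ⊔ b.1 from le_sup_right)⟩⟩
    ⟨⟨⊥, Subalgebra.fg_bot⟩⟩
    (fun i j h => RingHom.ext fun x => rfl)
    (fun a => ⟨⟨Algebra.adjoin A (↑({a} : Finset A₁) : Set A₁),
        Subalgebra.fg_adjoin_finset {a}⟩,
      ⟨a, Algebra.subset_adjoin (Finset.mem_coe.mpr (Finset.mem_singleton_self a))⟩, rfl⟩)
    B₁ N₁ f₁ t' t P himp
  exact ⟨↥G', inferInstance, inferInstance, (Subalgebra.fg_iff_finiteType G').mp hFG, _, _,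
    inferInstance, inferInstance, Pi, hPi, himpi⟩

theorem fp_descend {A B : Type u} [CommRing A] [CommRing B] [Algebra A B]
    (N : Type u) [AddCommGroup N] [Module B N] (p : Ideal A) [p.IsPrime]
    (A₁ : Type u) [CommRing A₁] [Algebra A A₁] [Algebra.FiniteType A A₁]
    {B₁ N₁ : Type u} {_ : CommRing B₁} {_ : Algebra B B₁} {_ : Algebra A₁ B₁} {_ : Algebra A B₁}
    {_ : IsScalarTower A B B₁} {_ : IsScalarTower A A₁ B₁}
    {_ : AddCommGroup N₁} {_ : Module B₁ N₁} {_ : Module B N₁} {_ : IsScalarTower B B₁ N₁}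
    {_ : Module A₁ N₁} {_ : IsScalarTower A₁ B₁ N₁}
    {f₁ : N →ₗ[B] N₁} {t' t : Ideal A₁} {_ : t'.IsPrime} {_ : t.IsPrime}
    {P : Ideal B₁} {_ : P.IsPrime}
    (himp : FlatCA.IsImpurity A B N p A₁ B₁ N₁ f₁ t' t P) :
    ∃ (A₂ : Type u) (_ : CommRing A₂) (_ : Algebra A A₂) (_ : Algebra.FinitePresentation A A₂)
      (t'₂ t₂ : Ideal A₂) (_ : t'₂.IsPrime) (_ : t₂.IsPrime) (P₂ : Ideal (B ⊗[A] A₂))
      (_ : P₂.IsPrime),
      FlatCA.IsImpurity A B N p A₂ (B ⊗[A] A₂) ((B ⊗[A] A₂) ⊗[B] N)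
        (TensorProduct.mk B (B ⊗[A] A₂) N 1) t'₂ t₂ P₂ := by
  obtain ⟨n, φ, hφ⟩ := Algebra.FiniteType.iff_quotient_mvPolynomial''.mp
    (inferInstance : Algebra.FiniteType A A₁)
  letI : ∀ i : {J' : Ideal (MvPolynomial (Fin n) A) // J'.FG ∧ J' ≤ RingHom.ker φ},
      Algebra (MvPolynomial (Fin n) A ⧸ i.1) A₁ := fun i =>
    (Ideal.Quotient.liftₐ i.1 φ (fun a ha => RingHom.mem_ker.mp (i.2.2 ha))).toRingHom.toAlgebra
  haveI : ∀ i : {J' : Ideal (MvPolynomial (Fin n) A) // J'.FG ∧ J' ≤ RingHom.ker φ},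
      IsScalarTower A (MvPolynomial (Fin n) A ⧸ i.1) A₁ := fun i =>
    IsScalarTower.of_algebraMap_eq fun a =>
      ((Ideal.Quotient.liftₐ i.1 φ (fun a ha => RingHom.mem_ker.mp (i.2.2 ha))).commutes a).symm
  obtain ⟨⟨J', hFG, hJ'⟩, Pi, hPi, himpi⟩ := colim_descend'' N p
    (ι := {J' : Ideal (MvPolynomial (Fin n) A) // J'.FG ∧ J' ≤ RingHom.ker φ})
    (fun i => MvPolynomial (Fin n) A ⧸ i.1)
    (fun i j h => Ideal.Quotient.liftₐ i.1 (Ideal.Quotient.mkₐ A j.1)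
      (fun a ha => Ideal.Quotient.eq_zero_iff_mem.mpr ((show i.1 ≤ j.1 from h) ha))) A₁
    ⟨fun a b => ⟨⟨a.1 ⊔ b.1, Submodule.FG.sup a.2.1 b.2.1, sup_le a.2.2 b.2.2⟩,
      (show a.1 ≤ a.1 ⊔ b.1 from le_sup_left), (show b.1 ≤ a.1 ⊔ b.1 from le_sup_right)⟩⟩
    ⟨⟨⊥, Submodule.fg_bot, bot_le⟩⟩
    (fun i j h => Ideal.Quotient.ringHom_ext (RingHom.ext fun x => rfl))
    (fun a => by
      obtain ⟨Q, rfl⟩ := hφ a
      exact ⟨⟨⊥, Submodule.fg_bot, bot_le⟩, Ideal.Quotient.mk _ Q, rfl⟩)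
    B₁ N₁ f₁ t' t P himp
  exact ⟨MvPolynomial (Fin n) A ⧸ J', inferInstance, inferInstance,
    Algebra.FinitePresentation.quotient hFG, _, _, inferInstance, inferInstance, Pi, hPi, himpi⟩

theorem fp_closed {A B : Type u} [CommRing A] [CommRing B] [Algebra A B]
    (N : Type u) [AddCommGroup N] [Module B N] (p : Ideal A) [p.IsPrime]
    (h : FlatCA.HasImpurity A B N p (fun _ _ _ _ => True)) :
    FlatCA.HasImpurity A B N p (fun A' _ _ t =>
      Algebra.FinitePresentation A A' ∧ (FlatCA.fiberIdeal p t).IsMaximal) := by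
  obtain ⟨A₁, B₁, N₁, _, _, _, _, _, _, _, _, _, _, _, _, _, _, f₁, t', t, _, _, P, _, himp,
    -⟩ := h
  obtain ⟨A₂, _, _, hft, t'₂, t₂, _, _, P₂, _, himp₂⟩ := ft_descend N p A₁ himp
  haveI := hft
  obtain ⟨A₃, _, _, hfp, t'₃, t₃, _, _, P₃, _, himp₃⟩ := fp_descend N p A₂ himp₂
  haveI := hfp
  obtain ⟨t₄, _, himp₄, hmax⟩ := closed_point N p A₃ himp₃
  exact ⟨A₃, B ⊗[A] A₃, (B ⊗[A] A₃) ⊗[B] N, inferInstance, inferInstance, inferInstance,
    inferInstance, inferInstance, inferInstance, inferInstance, inferInstance, inferInstance,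
    inferInstance, inferInstance, inferInstance, inferInstance, inferInstance,
    TensorProduct.mk B (B ⊗[A] A₃) N 1, t'₃, t₄, inferInstance, inferInstance, P₃,
    inferInstance, himp₄, hfp, hmax⟩

end Groth.Agent.H9.PureA
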