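import Groth.Agent.Lib.Helper9.Misc.PureI
import Groth.Agent.Lib.Helper5.DF.DF8

universe u

open TensorProduct

namespace Groth.Agent.H9.PureA

attribute [local instance] Algebra.TensorProduct.rightAlgebra

lemma exists_fiber_prime {R : Type*} [CommRing R] (p : Ideal R) [p.IsPrime] {S : Type*}
    [CommRing S] [Algebra R S] (P : Ideal S) [P.IsPrime] [P.LiesOver p] :
    ∃ 𝔓 : PrimeSpectrum (p.Fiber S), 𝔓.asIdeal = P.map (incl p) ∧
      𝔓.asIdeal.comap (incl p) = P := by
  let pp : PrimeSpectrum R := ⟨p, inferInstance⟩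
  have hmem : (⟨P, inferInstance⟩ : PrimeSpectrum S) ∈
      PrimeSpectrum.comap (algebraMap R S) ⁻¹' {pp} := by
    rw [Set.mem_preimage, Set.mem_singleton_iff]
    exact PrimeSpectrum.ext (Ideal.LiesOver.over (P := P) (p := p)).symm
  let q0 : PrimeSpectrum.comap (algebraMap R S) ⁻¹' {pp} := ⟨⟨P, inferInstance⟩, hmem⟩
  let 𝔓 := PrimeSpectrum.preimageEquivFiber R S pp q0
  have h1 : PrimeSpectrum.comap Algebra.TensorProduct.includeRight.toRingHom 𝔓 =
      ⟨P, inferInstance⟩ := by
    rw [← PrimeSpectrum.preimageEquivFiber_symm_apply_coe, Equiv.symm_apply_apply]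
  have h2 : 𝔓.asIdeal.comap (incl p) = P := congrArg PrimeSpectrum.asIdeal h1
  haveI := 𝔓.isPrime
  have h3 := eq_map_comap_incl p 𝔓.asIdeal
  rw [h2] at h3
  exact ⟨𝔓, h3, h2⟩

theorem qf_of_fin {A B C : Type u} [CommRing A] [CommRing B] [CommRing C] [Algebra A B]
    [Algebra B C] [Algebra A C] [IsScalarTower A B C]
    (hBC : Function.Surjective (algebraMap B C)) [Algebra.FiniteType A C]
    (N : Type u) [AddCommGroup N] [Module B N] [Module A N] [IsScalarTower A B N]
    [Module.Finite B N]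
    (hker : Module.annihilator B N ≤ RingHom.ker (algebraMap B C))
    (hfin : ∀ (p : Ideal A) [p.IsPrime],
      (Module.support (p.Fiber B) (FlatCA.fiberMod p B N)).Finite) :
    Algebra.QuasiFinite A C := by
  rw [Algebra.QuasiFinite.iff_finite_primesOver]
  intro p hp
  haveI := hp
  have hinj : Function.Injective (Ideal.comap (algebraMap B C)) :=
    Ideal.comap_injective_of_surjective _ hBC
  refine Set.Finite.of_finite_image (f := Ideal.comap (algebraMap B C)) ?_ hinj.injOn
  refine ((hfin p).image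
    (fun 𝔓 : PrimeSpectrum (p.Fiber B) => 𝔓.asIdeal.comap (incl p))).subset ?_
  rintro _ ⟨Q, hQ, rfl⟩
  haveI hQp : Q.IsPrime := hQ.1
  haveI hQo : Q.LiesOver p := hQ.2
  haveI : (Q.comap (algebraMap B C)).IsPrime := Ideal.comap_isPrime _ _
  haveI : (Q.comap (algebraMap B C)).LiesOver p := ⟨by
    refine hQo.over.trans ?_
    ext a
    show algebraMap A C a ∈ Q ↔ algebraMap B C (algebraMap A B a) ∈ Q
    rw [← IsScalarTower.algebraMap_apply A B C]⟩
  obtain ⟨𝔓, h𝔓map, h𝔓comap⟩ := exists_fiber_prime p (Q.comap (algebraMap B C))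
  refine ⟨𝔓, ?_, h𝔓comap⟩
  show 𝔓 ∈ Module.support (p.Fiber B) ((p.Fiber B) ⊗[B] N)
  rw [H5.DF.mem_support_baseChange_iff, Module.mem_support_iff_of_finite]
  have h1 : (PrimeSpectrum.comap (algebraMap B (p.Fiber B)) 𝔓).asIdeal =
      Q.comap (algebraMap B C) := h𝔓comap
  rw [h1]
  intro b hb
  show algebraMap B C b ∈ Q
  rw [RingHom.mem_ker.mp (hker hb)]
  exact zero_mem _

theorem graph_core {A C : Type u} [CommRing A] [CommRing C] [Algebra A C]
    [Algebra.QuasiFinite A C]
    {N : Type u} [AddCommGroup N] [Module C N] [Module.Finite C N]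
    (hsupp : ∀ Q : PrimeSpectrum C, Q ∈ Module.support C N)
    {L : Type u} [CommRing L] [Algebra A L] (φ : L →ₐ[A] C)
    (hLC : Function.Injective φ)
    {B₁ N₁ : Type u} [CommRing B₁] [Algebra C B₁] [Algebra L B₁] [Algebra A B₁]
    [IsScalarTower A C B₁] [IsScalarTower A L B₁] (hPB : Algebra.IsPushout A C L B₁)
    [AddCommGroup N₁] [Module B₁ N₁] [Module C N₁] [IsScalarTower C B₁ N₁] [Module L N₁]
    [IsScalarTower L B₁ N₁] {f₁ : N →ₗ[C] N₁} (hf : IsBaseChange B₁ f₁)
    (t : Ideal L) [t.IsPrime] (s : Set L) (hst : s ⊆ t)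
    (hs : Ideal.span (φ '' s) = ⊤) :
    ∃ (t' : Ideal L) (_ : t'.IsPrime) (P : Ideal B₁) (_ : P.IsPrime),
      t' ≤ t ∧ P.LiesOver t' ∧
      FlatCA.fiberIdeal t' P ∈ associatedPrimes (t'.Fiber B₁) (FlatCA.fiberMod t' B₁ N₁) ∧
      ∀ (P' : Ideal B₁) [P'.IsPrime], P ≤ P' → ¬ P'.LiesOver t := by
  obtain ⟨t', ht'min, ht'le⟩ := Ideal.exists_minimalPrimes_le (show (⊥ : Ideal L) ≤ t from bot_le)
  haveI ht'p : t'.IsPrime := ht'min.1.1
  obtain ⟨Q, hQp, hQt'⟩ :=
    Ideal.exists_comap_eq_of_mem_minimalPrimes_of_injective (f := φ.toRingHom) hLC t' ht'min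
  haveI := hQp
  haveI := hPB
  obtain ⟨μ, hμC, hμL⟩ : ∃ μ : B₁ →+* C, (∀ c : C, μ (algebraMap C B₁ c) = c) ∧
      (∀ l : L, μ (algebraMap L B₁ l) = φ l) :=
    ⟨(Algebra.pushoutDesc B₁ (AlgHom.id A C) φ
        (fun _ _ => Commute.all _ _)).toRingHom,
      fun c => Algebra.pushoutDesc_left (S' := B₁) (AlgHom.id A C)
        φ (fun _ _ => Commute.all _ _) c,
      fun l => Algebra.pushoutDesc_right (S' := B₁) (AlgHom.id A C)
        φ (fun _ _ => Commute.all _ _) l⟩
  haveI hPp : (Q.comap μ).IsPrime := Ideal.comap_isPrime _ _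
  haveI hPover : (Q.comap μ).LiesOver t' := ⟨by
    rw [← hQt']
    ext l
    show φ l ∈ Q ↔ μ (algebraMap L B₁ l) ∈ Q
    rw [hμL]⟩
  refine ⟨t', ht'p, Q.comap μ, hPp, ht'le, hPover, ?_, ?_⟩
  · -- associated prime
    haveI hqf : Algebra.QuasiFinite L B₁ := by
      haveI := hPB.symm
      exact (Algebra.QuasiFinite.iff_of_algEquiv (Algebra.IsPushout.equiv A L C B₁)).mp
        inferInstance
    obtain ⟨𝔓, h𝔓map, h𝔓comap⟩ := exists_fiber_prime t' (Q.comap μ)
    haveI : Module.Finite B₁ N₁ := Module.Finite.equiv hf.equiv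
    have hsuppN₁ : ∀ P₀ : PrimeSpectrum B₁, P₀ ∈ Module.support B₁ N₁ := by
      intro P₀
      rw [← hf.equiv.support_eq, H5.DF.mem_support_baseChange_iff]
      exact hsupp _
    have h𝔓supp : 𝔓 ∈ Module.support (t'.Fiber B₁) ((t'.Fiber B₁) ⊗[B₁] N₁) := by
      rw [H5.DF.mem_support_baseChange_iff]
      exact hsuppN₁ _
    have hann : Module.annihilator (t'.Fiber B₁) ((t'.Fiber B₁) ⊗[B₁] N₁) ≤ 𝔓.asIdeal :=
      Module.mem_support_iff_of_finite.mp h𝔓supp
    haveI := 𝔓.isPrime
    have hmin : 𝔓.asIdeal ∈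
        (Module.annihilator (t'.Fiber B₁) ((t'.Fiber B₁) ⊗[B₁] N₁)).minimalPrimes :=
      IsArtinianRing.mem_minimalPrimes hann
    have hass := Module.associatedPrimes.minimalPrimes_annihilator_subset_associatedPrimes (t'.Fiber B₁)
      ((t'.Fiber B₁) ⊗[B₁] N₁) hmin
    show (Q.comap μ).map (incl t') ∈
      associatedPrimes (t'.Fiber B₁) ((t'.Fiber B₁) ⊗[B₁] N₁)
    rw [← h𝔓map]
    exact hass
  · intro P' _ hPP' hover
    have h1 : Ideal.span (φ '' s) ≤ P'.comap (algebraMap C B₁) := by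
      rw [Ideal.span_le]
      rintro _ ⟨r, hr, rfl⟩
      show algebraMap C B₁ (φ r) ∈ P'
      have h2 : algebraMap L B₁ r ∈ P' := by
        have h2' : r ∈ P'.under L := by
          rw [← hover.over]
          exact hst hr
        exact h2'
      have h3 : algebraMap C B₁ (φ r) - algebraMap L B₁ r ∈ Q.comap μ := by
        show μ (algebraMap C B₁ (φ r) - algebraMap L B₁ r) ∈ Q
        rw [map_sub, hμC, hμL, sub_self]
        exact zero_mem _
      have h4 := add_mem (hPP' h3) h2
      rwa [sub_add_cancel] at h4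
    rw [hs] at h1
    have h5 : (1 : C) ∈ P'.comap (algebraMap C B₁) := h1 Submodule.mem_top
    have h6 : (1 : B₁) ∈ P' := by
      have h7 : algebraMap C B₁ 1 ∈ P' := h5
      rwa [map_one] at h7
    exact (Ideal.IsPrime.ne_top ‹P'.IsPrime›) ((Ideal.eq_top_iff_one _).mpr h6)

theorem graph_hasImpurity {A C : Type u} [CommRing A] [CommRing C] [Algebra A C]
    [Algebra.QuasiFinite A C]
    (N : Type u) [AddCommGroup N] [Module C N] [Module.Finite C N]
    (hsupp : ∀ Q : PrimeSpectrum C, Q ∈ Module.support C N)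
    (L : Type u) [CommRing L] [Algebra A L] (φ : L →ₐ[A] C)
    (hLC : Function.Injective φ) [Module.Finite A L]
    (p : Ideal A) [p.IsPrime] (t : Ideal L) [t.IsPrime] [t.LiesOver p] (s : Set L)
    (hst : s ⊆ t) (hs : Ideal.span (φ '' s) = ⊤) :
    FlatCA.HasImpurity A C N p (fun A' _ _ t => ∃ _ : t.IsPrime,
      Algebra.FiniteType A A' ∧ Algebra.QuasiFiniteAt A t) := by
  obtain ⟨t', ht'p, P, hPp, ht'le, hPover, hass, hno⟩ :=
    graph_core hsupp φ hLC (B₁ := C ⊗[A] L) (N₁ := (C ⊗[A] L) ⊗[C] N)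
      (inferInstance : Algebra.IsPushout A C L (C ⊗[A] L))
      (TensorProduct.isBaseChange C N (C ⊗[A] L)) t s hst hs
  haveI := ht'p
  haveI := hPp
  refine ⟨L, C ⊗[A] L, (C ⊗[A] L) ⊗[C] N, inferInstance, inferInstance, inferInstance,
    inferInstance, inferInstance, inferInstance, inferInstance, inferInstance, inferInstance,
    inferInstance, inferInstance, inferInstance, inferInstance, inferInstance,
    TensorProduct.mk C (C ⊗[A] L) N 1, t', t, inferInstance, inferInstance, P, inferInstance, ?_,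
    inferInstance, inferInstance, inferInstance⟩
  unfold FlatCA.IsImpurity
  exact ⟨inferInstance, TensorProduct.isBaseChange C N (C ⊗[A] L), ht'le, inferInstance, hPover,
    hass, fun P' _ => hno P'⟩

theorem finite_of_pure {A C : Type u} [CommRing A] [CommRing C] [Algebra A C]
    [Algebra.FiniteType A C] [Algebra.QuasiFinite A C]
    (N : Type u) [AddCommGroup N] [Module C N] [Module.Finite C N]
    (hsupp : ∀ Q : PrimeSpectrum C, Q ∈ Module.support C N)
    (hpure : FlatCA.IsPure A C N) : Module.Finite A C := by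
  classical
  have hI : Ideal.span {r : C | IsIntegral A r ∧
      ∀ x : C, ∃ m : ℕ, IsIntegral A (r ^ m * x)} = ⊤ := by
    by_contra hne
    obtain ⟨q, hqmax, hle⟩ := Ideal.exists_le_maximal _ hne
    haveI := hqmax.isPrime
    have hz : Algebra.ZariskisMainProperty A q := Algebra.ZariskisMainProperty.of_finiteType q
    obtain ⟨r, hrq, hr1, hr2⟩ := Algebra.zariskisMainProperty_iff.mp hz
    exact hrq (hle (Ideal.subset_span ⟨hr1, hr2⟩))
  obtain ⟨s, hsI, hs⟩ := (Ideal.span_eq_top_iff_finite _).mp hI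
  obtain ⟨L, hL⟩ : ∃ L : Subalgebra A C, L = Algebra.adjoin A (s : Set C) := ⟨_, rfl⟩
  have hsL : ∀ r ∈ s, r ∈ L := fun r hr => hL ▸ Algebra.subset_adjoin (Finset.mem_coe.mpr hr)
  have hLint : ∀ l : L, IsIntegral A (l : C) := by
    intro l
    have h1 : L ≤ integralClosure A C := by
      rw [hL]
      exact Algebra.adjoin_le (fun r hr => (hsI hr).1)
    exact h1 l.2
  haveI hLfin : Module.Finite A L := by
    have hFG : L.toSubmodule.FG := by
      rw [hL]
      exact fg_adjoin_of_finite s.finite_toSet (fun r hr => (hsI hr).1)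
    exact ⟨(Submodule.fg_top _).mpr hFG⟩
  have hLC : Function.Injective L.val := Subtype.val_injective
  by_cases htop : Ideal.span {l : L | (l : C) ∈ s} = ⊤
  · haveI : Algebra.IsIntegral A C := ⟨fun x => by
      let K : Ideal L :=
        { carrier := {a | IsIntegral A ((a : C) * x)}
          add_mem' := fun {a b} ha hb => by
            show IsIntegral A (((a + b : L) : C) * x)
            rw [Subalgebra.coe_add, add_mul]
            exact IsIntegral.add ha hb
          zero_mem' := by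
            show IsIntegral A (((0 : L) : C) * x)
            rw [Subalgebra.coe_zero, zero_mul]
            exact isIntegral_zero
          smul_mem' := fun c {a} ha => by
            show IsIntegral A (((c • a : L) : C) * x)
            rw [smul_eq_mul, Subalgebra.coe_mul, mul_assoc]
            exact IsIntegral.mul (hLint c) ha }
      have h1 : Ideal.span {l : L | (l : C) ∈ s} ≤ K.radical := by
        rw [Ideal.span_le]
        intro r hr
        obtain ⟨m, hm⟩ := (hsI (Finset.mem_coe.mpr hr)).2 x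
        refine ⟨m, ?_⟩
        show IsIntegral A (((r ^ m : L) : C) * x)
        rw [Subalgebra.coe_pow]
        exact hm
      rw [htop, top_le_iff, Ideal.radical_eq_top] at h1
      have h2 : (1 : L) ∈ K := by
        rw [h1]
        exact Submodule.mem_top
      have h3 : IsIntegral A (((1 : L) : C) * x) := h2
      rwa [Subalgebra.coe_one, one_mul] at h3⟩
    exact Algebra.IsIntegral.finite
  · exfalso
    obtain ⟨t, htmax, hle⟩ := Ideal.exists_le_maximal _ htop
    haveI := htmax.isPrime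
    have hst : {l : L | (l : C) ∈ s} ⊆ (t : Set L) := fun l hl => hle (Ideal.subset_span hl)
    have hs' : Ideal.span (L.val '' {l : L | (l : C) ∈ s}) = ⊤ := by
      refine top_le_iff.mp (le_of_eq_of_le hs.symm (Ideal.span_mono ?_))
      intro r hr
      exact ⟨⟨r, hsL r (Finset.mem_coe.mp hr)⟩, Finset.mem_coe.mp hr, rfl⟩
    have h := graph_hasImpurity N hsupp L L.val hLC (t.under A) t _ hst hs'
    obtain ⟨A', B', N', _, _, _, _, _, _, _, _, _, _, _, _, _, _, f, u', u, _, _, P, _, himp,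
      hu, het⟩ := qf_to_etale N (t.under A) h
    exact hpure (t.under A) A' B' N' f u' u P het himp

end Groth.Agent.H9.PureA
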