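import Groth.Agent.Lib.Helper9.Misc.PureP

set_option autoImplicit false
universe u
open TensorProduct

namespace Groth.Agent.H9.PureA

attribute [local instance] Algebra.TensorProduct.rightAlgebra

theorem no_chain {Q : Type*} [CommRing Q] (a b c : Ideal Q) [a.IsPrime] [b.IsPrime] [c.IsPrime]
    (hab : a < b) (hbc : b < c) (hc : c.height ≤ 1) : False := by
  have h1 := Ideal.height_add_one_le_of_lt_of_isPrime hab
  have h2 : b.height < 1 := by
    have h := (Ideal.height_le_iff (p := c) (n := 1)).mp (by rw [Nat.cast_one]; exact hc) b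
      inferInstance hbc
    rwa [Nat.cast_one] at h
  have h3 : a.height + 1 = 0 := ENat.lt_one_iff_eq_zero.mp (lt_of_le_of_lt h1 h2)
  exact one_ne_zero (add_eq_zero.mp h3).2

theorem dim_one_of_forall_mem {Q : Type*} [CommRing Q] [IsDomain Q] [IsNoetherianRing Q]
    (m : Ideal Q) [m.IsPrime] (f : Q) (hf0 : f ≠ 0)
    (hall : ∀ q : Ideal Q, q.IsPrime → q ≤ m → q ≠ ⊥ → f ∈ q)
    (q : Ideal Q) [hq : q.IsPrime] (hqm : q ≤ m) : q = ⊥ ∨ q = m := by
  classical
  by_contra hcon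
  push_neg at hcon
  obtain ⟨hq0, hqm'⟩ := hcon
  have hqlt : q < m := lt_of_le_of_ne hqm hqm'
  have h0q : (⊥ : Ideal Q) < q := bot_lt_iff_ne_bot.mpr hq0
  have hfin : (Ideal.span {f}).minimalPrimes.Finite :=
    Ideal.finite_minimalPrimes_of_isNoetherianRing Q _
  have hPIT : ∀ n ∈ (Ideal.span {f}).minimalPrimes, n.height ≤ 1 := fun n hn =>
    Ideal.height_le_one_of_isPrincipal_of_mem_minimalPrimes (Ideal.span {f}) n hn
  have hnot : ¬ ∃ i ∈ insert (⊥ : Ideal Q) hfin.toFinset, m ≤ (fun i : Ideal Q => i) i := by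
    rintro ⟨i, hi, hmi⟩
    rw [Finset.mem_insert] at hi
    rcases hi with rfl | hi
    · exact hq0 (le_bot_iff.mp (hqlt.le.trans hmi))
    · rw [Set.Finite.mem_toFinset] at hi
      haveI : i.IsPrime := hi.1.1
      exact no_chain ⊥ q i h0q (lt_of_lt_of_le hqlt hmi) (hPIT i hi)
  have hsub := (Ideal.subset_union_prime (s := insert (⊥ : Ideal Q) hfin.toFinset)
    (f := fun i : Ideal Q => i) (I := m) ⊥ ⊥ (by
      intro i hi hi0 _
      rw [Finset.mem_insert] at hi
      rcases hi with rfl | hi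
      · exact absurd rfl hi0
      · rw [Set.Finite.mem_toFinset] at hi
        exact hi.1.1)).not.mpr hnot
  obtain ⟨x, hxm, hxn⟩ := Set.not_subset.mp hsub
  have hx : ∀ i ∈ insert (⊥ : Ideal Q) hfin.toFinset, x ∉ i := by
    intro i hi hxi
    apply hxn
    exact Set.mem_biUnion (Finset.mem_coe.mpr hi) hxi
  have hx0 : x ≠ 0 := by
    intro h0
    apply hx ⊥ (Finset.mem_insert_self _ _)
    rw [h0]; exact Ideal.zero_mem _
  have hle : Ideal.span {x} ≤ m := (Ideal.span_singleton_le_iff_mem _).mpr hxm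
  obtain ⟨q', hq'min, hq'm⟩ := Ideal.exists_minimalPrimes_le hle
  haveI : q'.IsPrime := hq'min.1.1
  have hxq' : x ∈ q' := hq'min.1.2 (Ideal.mem_span_singleton_self x)
  have hq'0 : q' ≠ ⊥ := fun h => hx0 (by rw [h] at hxq'; exact Ideal.mem_bot.mp hxq')
  have hfq' : f ∈ q' := hall q' inferInstance hq'm hq'0
  have hle2 : Ideal.span {f} ≤ q' := (Ideal.span_singleton_le_iff_mem _).mpr hfq'
  obtain ⟨n, hnmin, hnq'⟩ := Ideal.exists_minimalPrimes_le hle2
  haveI : n.IsPrime := hnmin.1.1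
  have hfn : f ∈ n := hnmin.1.2 (Ideal.mem_span_singleton_self f)
  have hn0 : (⊥ : Ideal Q) < n :=
    bot_lt_iff_ne_bot.mpr (fun h => hf0 (by rw [h] at hfn; exact Ideal.mem_bot.mp hfn))
  have hxn' : x ∉ n :=
    hx n (Finset.mem_insert_of_mem ((Set.Finite.mem_toFinset hfin).mpr hnmin))
  have hne : n ≠ q' := fun h => hxn' (h ▸ hxq')
  exact no_chain ⊥ n q' hn0 (lt_of_le_of_ne hnq' hne)
    (Ideal.height_le_one_of_isPrincipal_of_mem_minimalPrimes (Ideal.span {x}) q' hq'min)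

theorem exists_coheight_one {R : Type*} [CommRing R] [IsNoetherianRing R] (m : Ideal R)
    [m.IsPrime] (f : R) (t₀ : Ideal R) [t₀.IsPrime] (ht₀ : t₀ ≤ m) (hft₀ : f ∉ t₀) :
    ∃ t'' : Ideal R, t''.IsPrime ∧ t₀ ≤ t'' ∧ t'' ≤ m ∧ f ∉ t'' ∧
      ∀ q : Ideal (R ⧸ t''), q.IsPrime → q ≤ m.map (Ideal.Quotient.mk t'') →
        q = ⊥ ∨ q = m.map (Ideal.Quotient.mk t'') := by
  obtain ⟨t'', ⟨ht''p, ht₀'', ht''m, hft''⟩, hmaxl⟩ :=
    set_has_maximal_iff_noetherian.mpr (inferInstance : IsNoetherian R R)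
      {q : Ideal R | q.IsPrime ∧ t₀ ≤ q ∧ q ≤ m ∧ f ∉ q} ⟨t₀, inferInstance, le_rfl, ht₀, hft₀⟩
  haveI := ht''p
  refine ⟨t'', ht''p, ht₀'', ht''m, hft'', ?_⟩
  haveI hmp : (m.map (Ideal.Quotient.mk t'')).IsPrime :=
    Ideal.map_isPrime_of_surjective Ideal.Quotient.mk_surjective
      (by rw [Ideal.mk_ker]; exact ht''m)
  intro q hq hqm
  haveI := hq
  refine dim_one_of_forall_mem (m.map (Ideal.Quotient.mk t'')) (Ideal.Quotient.mk t'' f) ?_ ?_
    q hqm
  · intro h0
    exact hft'' (Ideal.Quotient.eq_zero_iff_mem.mp h0)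
  · intro q₁ hq₁ hq₁m hq₁0
    haveI := hq₁
    by_contra hfq
    have hmem : q₁.comap (Ideal.Quotient.mk t'') ∈
        {q : Ideal R | q.IsPrime ∧ t₀ ≤ q ∧ q ≤ m ∧ f ∉ q} := by
      refine ⟨Ideal.comap_isPrime _ _, ?_, ?_, hfq⟩
      · intro x hx
        rw [Ideal.mem_comap, Ideal.Quotient.eq_zero_iff_mem.mpr (ht₀'' hx)]
        exact Ideal.zero_mem _
      · have h1 := Ideal.comap_mono (f := Ideal.Quotient.mk t'') hq₁m
        rw [Ideal.comap_map_of_surjective _ Ideal.Quotient.mk_surjective,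
          ← RingHom.ker_eq_comap_bot, Ideal.mk_ker, sup_eq_left.mpr ht''m] at h1
        exact h1
    apply hmaxl _ hmem
    refine lt_of_le_of_ne ?_ ?_
    · intro x hx
      rw [Ideal.mem_comap, Ideal.Quotient.eq_zero_iff_mem.mpr hx]
      exact Ideal.zero_mem _
    · intro heq
      apply hq₁0
      rw [← Ideal.map_comap_of_surjective (Ideal.Quotient.mk t'') Ideal.Quotient.mk_surjective q₁,
        ← heq, Ideal.map_quotient_self]

lemma comap_incl_liesOver {R : Type*} [CommRing R] (p : Ideal R) [p.IsPrime] {S : Type*}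
    [CommRing S] [Algebra R S] (𝔓 : Ideal (p.Fiber S)) [h𝔓 : 𝔓.IsPrime] :
    (𝔓.comap (incl p)).LiesOver p := by
  have h2 := ((PrimeSpectrum.preimageEquivFiber R S ⟨p, inferInstance⟩).symm ⟨𝔓, h𝔓⟩).2
  rw [Set.mem_preimage, Set.mem_singleton_iff,
    PrimeSpectrum.preimageEquivFiber_symm_apply_coe] at h2
  exact ⟨(congrArg PrimeSpectrum.asIdeal h2).symm⟩

theorem qf_of_isolated {A R : Type u} [CommRing A] [CommRing R] [Algebra A R]
    [Algebra.FiniteType A R] (p : Ideal A) [p.IsPrime] (m : Ideal R) [m.IsPrime] [m.LiesOver p]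
    (hmax : ∀ q : Ideal R, q.IsPrime → q.LiesOver p → m ≤ q → q = m)
    (hmin : ∀ q : Ideal R, q.IsPrime → q.LiesOver p → q ≤ m → q = m) :
    Algebra.QuasiFiniteAt A m := by
  obtain ⟨Q, hQ1, hQ2⟩ := exists_fiber_prime p m
  haveI : IsNoetherianRing (p.Fiber R) := Algebra.FiniteType.isNoetherianRing p.ResidueField _
  haveI : IsJacobsonRing (p.Fiber R) := isJacobsonRing_of_finiteType (A := p.ResidueField)
  have hopen : IsOpen ({Q} : Set (PrimeSpectrum (p.Fiber R))) := by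
    have htfae : IsOpen ({Q} : Set (PrimeSpectrum (p.Fiber R))) ↔
        IsClosed ({Q} : Set (PrimeSpectrum (p.Fiber R))) ∧
          StableUnderGeneralization ({Q} : Set (PrimeSpectrum (p.Fiber R))) :=
      (PrimeSpectrum.isOpen_singleton_tfae_of_isNoetherian_of_isJacobsonRing Q).out 0 2
    refine htfae.mpr ⟨?_, ?_⟩
    · rw [PrimeSpectrum.isClosed_singleton_iff_isMaximal]
      obtain ⟨M, hM, hQM⟩ := Ideal.exists_le_maximal Q.asIdeal Q.isPrime.ne_top
      haveI : M.IsPrime := hM.isPrime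
      have h1 := hmax (M.comap (incl p)) (Ideal.comap_isPrime _ _) (comap_incl_liesOver p M)
        (by rw [← hQ2]; exact Ideal.comap_mono hQM)
      have h2 : M = Q.asIdeal := by rw [eq_map_comap_incl p M, h1, hQ1]
      rw [← h2]; exact hM
    · intro x y hyx hx
      rw [Set.mem_singleton_iff] at hx ⊢
      rw [hx, ← PrimeSpectrum.le_iff_specializes] at hyx
      haveI := y.isPrime
      have h1 := hmin (y.asIdeal.comap (incl p)) (Ideal.comap_isPrime _ _)
        (comap_incl_liesOver p y.asIdeal) (by rw [← hQ2]; exact Ideal.comap_mono hyx)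
      apply PrimeSpectrum.ext
      rw [eq_map_comap_incl p y.asIdeal, h1, hQ1]
  haveI : Algebra.QuasiFiniteAt p.ResidueField Q.asIdeal :=
    Algebra.QuasiFiniteAt.of_isOpen_singleton Q hopen
  exact Algebra.QuasiFiniteAt.of_quasiFiniteAt_residueField p m Q.asIdeal hQ2

end Groth.Agent.H9.PureA
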