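import Groth.Agent.Lib.Helper9.Misc.PureQ
import Groth.Agent.Lib.Helper1.GenFreeLoc

set_option autoImplicit false
universe u
open TensorProduct

namespace Groth.Agent.H9.PureA

attribute [local instance] Algebra.TensorProduct.rightAlgebra

lemma exists_smul_eq_one_tmul_module {R : Type*} [CommRing R] (q : Ideal R) [q.IsPrime]
    {N : Type*} [AddCommGroup N] [Module R N] (x : q.ResidueField ⊗[R] N) :
    ∃ r : R, r ∉ q ∧ ∃ n : N, r • x = (1 : q.ResidueField) ⊗ₜ[R] n := by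
  induction x using TensorProduct.induction_on with
  | zero => exact ⟨1, q.primeCompl.one_mem, 0, by rw [smul_zero, tmul_zero]⟩
  | tmul k n =>
    obtain ⟨r, hr, s, e⟩ := Ideal.Fiber.exists_smul_eq_one_tmul q (S := R) (k ⊗ₜ[R] (1 : R))
    have e' := congrArg (TensorProduct.rid R q.ResidueField) e
    rw [map_smul, TensorProduct.rid_tmul, TensorProduct.rid_tmul, one_smul] at e'
    refine ⟨r, hr, s • n, ?_⟩
    rw [TensorProduct.smul_tmul', e', TensorProduct.smul_tmul]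
  | add x y hx hy =>
    obtain ⟨r₁, hr₁, n₁, e₁⟩ := hx
    obtain ⟨r₂, hr₂, n₂, e₂⟩ := hy
    refine ⟨r₁ * r₂, q.primeCompl.mul_mem hr₁ hr₂, r₂ • n₁ + r₁ • n₂, ?_⟩
    have hx' : (r₁ * r₂) • x = (1 : q.ResidueField) ⊗ₜ[R] (r₂ • n₁) := by
      rw [mul_comm, mul_smul, e₁, TensorProduct.tmul_smul]
    have hy' : (r₁ * r₂) • y = (1 : q.ResidueField) ⊗ₜ[R] (r₁ • n₂) := by
      rw [mul_smul, e₂, TensorProduct.tmul_smul]
    rw [smul_add, hx', hy', tmul_add]

lemma exists_smul_mem_of_one_tmul_eq_zero {R : Type*} [CommRing R] (q : Ideal R) [q.IsPrime]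
    {N : Type*} [AddCommGroup N] [Module R N] (n : N)
    (h : (1 : q.ResidueField) ⊗ₜ[R] n = (0 : q.ResidueField ⊗[R] N)) :
    ∃ s : R, s ∉ q ∧ s • n ∈ q • (⊤ : Submodule R N) := by
  have h1 : (1 : q.ResidueField) ⊗ₜ[R ⧸ q] ((1 : R ⧸ q) ⊗ₜ[R] n) =
      (0 : q.ResidueField ⊗[R ⧸ q] ((R ⧸ q) ⊗[R] N)) := by
    apply (TensorProduct.AlgebraTensorModule.cancelBaseChange R (R ⧸ q) q.ResidueField
      q.ResidueField N).injective
    rw [TensorProduct.AlgebraTensorModule.cancelBaseChange_tmul, one_smul, map_zero]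
    exact h
  have h2 := (IsLocalizedModule.eq_zero_iff (nonZeroDivisors (R ⧸ q))
    (TensorProduct.mk (R ⧸ q) q.ResidueField ((R ⧸ q) ⊗[R] N) 1)).mp h1
  obtain ⟨⟨sbar, hsbar⟩, hs⟩ := h2
  obtain ⟨s, rfl⟩ := Ideal.Quotient.mk_surjective sbar
  refine ⟨s, ?_, ?_⟩
  · intro hsq
    have h0 : (Ideal.Quotient.mk q s) = 0 := Ideal.Quotient.eq_zero_iff_mem.mpr hsq
    exact nonZeroDivisors.ne_zero hsbar h0
  · have h3 : (Ideal.Quotient.mk q s) • ((1 : R ⧸ q) ⊗ₜ[R] n) = (0 : (R ⧸ q) ⊗[R] N) := hs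
    rw [TensorProduct.smul_tmul', smul_eq_mul, mul_one] at h3
    have h4 := congrArg (TensorProduct.quotTensorEquivQuotSMul N q) h3
    rw [TensorProduct.quotTensorEquivQuotSMul_mk_tmul, map_zero,
      Submodule.Quotient.mk_eq_zero] at h4
    exact h4

lemma eq_zero_of_smul_eq_zero_free {D : Type*} [CommRing D] [IsDomain D] {N : Type*}
    [AddCommGroup N] [Module D N] [Module.Free D N] (d : D) (hd : d ≠ 0) (x : N)
    (h : d • x = 0) : x = 0 := by
  have h3 : (Module.Free.chooseBasis D N).repr (d • x) = 0 := by rw [h, map_zero]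
  rw [map_smul] at h3
  apply (Module.Free.chooseBasis D N).repr.injective
  rw [map_zero]
  ext i
  have h4 := DFunLike.congr_fun h3 i
  rw [Finsupp.smul_apply, smul_eq_mul, Finsupp.zero_apply] at h4
  rw [Finsupp.zero_apply]
  exact (mul_eq_zero.mp h4).resolve_left hd

lemma step1 {D S M : Type u} [CommRing D] [IsDomain D] [CommRing S] [Algebra D S]
    [AddCommGroup M] [Module S M] [Module D M] [IsScalarTower D S M]
    (G : Submodule S M) (n₁ : M) (hn₁ : n₁ ∈ G) (hG : ∀ y ∈ G, ∃ b : S, y = b • n₁)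
    (f : D) (hf : f ≠ 0) (hC : Groth.Agent.H1.GenFree.GenFreeAt D (M ⧸ G) f)
    (q : Ideal D) (y : M) (hyG : y ∈ G) (hy : y ∈ q • (⊤ : Submodule D M)) :
    ∃ (j : ℕ) (b : S), b ∈ q.map (algebraMap D S) ∧ f ^ j • y = b • n₁ := by
  obtain ⟨NC, _, _, _, ΦC, hkC, hcC⟩ := hC
  obtain ⟨π, hπ⟩ : ∃ π : M →ₗ[D] M ⧸ G, ∀ x, π x = G.mkQ x :=
    ⟨G.mkQ.restrictScalars D, fun _ => rfl⟩
  have hπs : Function.Surjective π := fun c => by
    obtain ⟨x, hx⟩ := G.mkQ_surjective c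
    exact ⟨x, (hπ x).trans hx⟩
  obtain ⟨ΦL, hΦL⟩ := Module.projective_lifting_property π ΦC hπs
  have hπG : ∀ x, π x = 0 ↔ x ∈ G := fun x => by
    rw [hπ, Submodule.mkQ_apply, Submodule.Quotient.mk_eq_zero]
  have key : ∀ y ∈ q • (⊤ : Submodule D M), ∃ (j : ℕ) (x : NC) (b : S),
      b ∈ q.map (algebraMap D S) ∧ f ^ j • y = ΦL x + b • n₁ := by
    intro y hy
    refine Submodule.smul_induction_on hy ?_ ?_
    · intro a ha m _
      obtain ⟨j, x₀, hx₀⟩ := hcC (π m)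
      have h1 : f ^ j • m - ΦL x₀ ∈ G := by
        rw [← hπG, map_sub, map_smul, hx₀, ← hΦL, LinearMap.comp_apply, sub_self]
      obtain ⟨b₀, hb₀⟩ := hG _ h1
      refine ⟨j, a • x₀, algebraMap D S a * b₀,
        Ideal.mul_mem_right _ _ (Ideal.mem_map_of_mem _ ha), ?_⟩
      rw [map_smul, mul_smul, ← hb₀, algebraMap_smul, smul_sub, smul_comm (f ^ j) a m,
        add_sub_cancel]
    · rintro y₁ y₂ ⟨j₁, x₁, b₁, hb₁, e₁⟩ ⟨j₂, x₂, b₂, hb₂, e₂⟩
      refine ⟨j₁ + j₂, f ^ j₂ • x₁ + f ^ j₁ • x₂,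
        algebraMap D S (f ^ j₂) * b₁ + algebraMap D S (f ^ j₁) * b₂,
        Ideal.add_mem _ (Ideal.mul_mem_left _ _ hb₁) (Ideal.mul_mem_left _ _ hb₂), ?_⟩
      have ha : f ^ (j₁ + j₂) • y₁ = f ^ j₂ • (ΦL x₁ + b₁ • n₁) := by
        rw [← e₁, smul_smul, ← pow_add, add_comm]
      have hb : f ^ (j₁ + j₂) • y₂ = f ^ j₁ • (ΦL x₂ + b₂ • n₁) := by
        rw [← e₂, smul_smul, ← pow_add]
      rw [smul_add, ha, hb, map_add, map_smul, map_smul, add_smul, mul_smul, mul_smul,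
        algebraMap_smul, algebraMap_smul, smul_add, smul_add]
      abel
  obtain ⟨j, x, b, hb, e⟩ := key y hy
  have hx0 : ΦC x = 0 := by
    have h1 : π (f ^ j • y) = 0 := by rw [hπG]; exact G.smul_of_tower_mem _ hyG
    rw [e, map_add, ← LinearMap.comp_apply, hΦL] at h1
    have h2 : π (b • n₁) = 0 := by rw [hπG]; exact G.smul_mem b hn₁
    rwa [h2, add_zero] at h1
  obtain ⟨j', hj'⟩ := hkC x hx0
  have hx : x = 0 := eq_zero_of_smul_eq_zero_free (f ^ j') (pow_ne_zero _ hf) x hj'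
  refine ⟨j, b, hb, ?_⟩
  rw [e, hx, map_zero, zero_add]

lemma step2 {D E : Type u} [CommRing D] [IsDomain D] [CommRing E] [Algebra D E]
    (hinj : Function.Injective (algebraMap D E))
    (f : D) (hf : f ≠ 0) (hE : Groth.Agent.H1.GenFree.GenFreeAt D E f) (q : Ideal D)
    [q.IsPrime] (hfq : f ∉ q)
    (c : D) (hc : algebraMap D E c ∈ q.map (algebraMap D E)) : c ∈ q := by
  obtain ⟨NE, _, _, _, ΦE, hkE, hcE⟩ := hE
  obtain ⟨bs, -⟩ : ∃ bs : Module.Basis (Module.Free.ChooseBasisIndex D NE) D NE,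
      bs = Module.Free.chooseBasis D NE := ⟨_, rfl⟩
  obtain ⟨j₀, x₀, hx₀⟩ := hcE (1 : E)
  have hx₀ne : x₀ ≠ 0 := by
    intro h0
    rw [h0, map_zero] at hx₀
    have h1 : algebraMap D E (f ^ j₀) = 0 := by
      rw [Algebra.algebraMap_eq_smul_one]; exact hx₀
    exact pow_ne_zero j₀ hf (hinj (h1.trans (map_zero _).symm))
  obtain ⟨i₀, -⟩ : ∃ i, bs.repr x₀ i ≠ 0 := by
    by_contra hno
    push_neg at hno
    apply hx₀ne
    apply bs.repr.injective
    rw [map_zero]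
    ext i
    exact hno i
  have hcoord : ∀ x ∈ q • (⊤ : Submodule D NE), ∀ i, bs.repr x i ∈ q := by
    intro x hx i
    refine Submodule.smul_induction_on hx ?_ ?_
    · intro a ha n _
      rw [map_smul, Finsupp.smul_apply, smul_eq_mul]
      exact Ideal.mul_mem_right _ _ ha
    · intro x y hx hy
      rw [map_add, Finsupp.add_apply]; exact Ideal.add_mem _ hx hy
  have key : ∀ y ∈ q • (⊤ : Submodule D E), ∃ (j : ℕ) (x : NE),
      x ∈ q • (⊤ : Submodule D NE) ∧ f ^ j • y = ΦE x := by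
    intro y hy
    refine Submodule.smul_induction_on hy ?_ ?_
    · intro a ha e _
      obtain ⟨j, x, hx⟩ := hcE e
      refine ⟨j, a • x, Submodule.smul_mem_smul ha Submodule.mem_top, ?_⟩
      rw [map_smul, ← hx, smul_comm]
    · rintro y₁ y₂ ⟨j₁, x₁, hx₁, e₁⟩ ⟨j₂, x₂, hx₂, e₂⟩
      refine ⟨j₁ + j₂, f ^ j₂ • x₁ + f ^ j₁ • x₂,
        Submodule.add_mem _ (Submodule.smul_mem _ _ hx₁) (Submodule.smul_mem _ _ hx₂), ?_⟩
      have ha : f ^ (j₁ + j₂) • y₁ = f ^ j₂ • ΦE x₁ := by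
        rw [← e₁, smul_smul, ← pow_add, add_comm]
      have hb : f ^ (j₁ + j₂) • y₂ = f ^ j₁ • ΦE x₂ := by
        rw [← e₂, smul_smul, ← pow_add]
      rw [smul_add, ha, hb, map_add, map_smul, map_smul]
  have hmem : c • ΦE (bs i₀) ∈ q • (⊤ : Submodule D E) := by
    rw [Ideal.smul_top_eq_map]
    show c • ΦE (bs i₀) ∈ q.map (algebraMap D E)
    rw [Algebra.smul_def]
    exact Ideal.mul_mem_right _ _ hc
  obtain ⟨j, x, hxq, e⟩ := key _ hmem
  have h0 : ΦE ((f ^ j * c) • bs i₀ - x) = 0 := by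
    rw [map_sub, map_smul, mul_smul, e, sub_self]
  obtain ⟨j', hj'⟩ := hkE _ h0
  have h1 : bs.repr (f ^ j' • ((f ^ j * c) • bs i₀ - x)) i₀ = 0 := by
    rw [hj', map_zero]; rfl
  rw [map_smul, map_sub, map_smul, bs.repr_self, Finsupp.smul_apply, Finsupp.sub_apply,
    Finsupp.smul_apply, Finsupp.single_eq_same, smul_eq_mul, smul_eq_mul, mul_one] at h1
  have h2 : f ^ j * c - bs.repr x i₀ = 0 :=
    (mul_eq_zero.mp h1).resolve_left (pow_ne_zero _ hf)
  have h3 : f ^ j * c ∈ q := by rw [sub_eq_zero.mp h2]; exact hcoord x hxq i₀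
  rcases Ideal.IsPrime.mem_or_mem inferInstance h3 with h | h
  · exact absurd (Ideal.IsPrime.mem_of_pow_mem inferInstance j h) hfq
  · exact h

theorem spread_nonzero {D S M : Type u} [CommRing D] [IsDomain D] [CommRing S] [Algebra D S]
    [Algebra.FiniteType D S] [AddCommGroup M] [Module S M] [Module D M] [IsScalarTower D S M]
    [Module.Finite S M] (n₁ : M) (P : Ideal S) [P.IsPrime]
    (hP : ∀ b : S, b • n₁ = 0 ↔ b ∈ P) (hPD : ∀ d : D, algebraMap D S d ∈ P → d = 0) :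
    ∃ f : D, f ≠ 0 ∧ ∀ (q : Ideal D) [q.IsPrime], f ∉ q → ∀ s : D, s ∉ q →
      s • n₁ ∉ q • (⊤ : Submodule D M) := by
  obtain ⟨G, hGdef⟩ : ∃ G : Submodule S M, G = Submodule.span S {n₁} := ⟨_, rfl⟩
  have hn₁ : n₁ ∈ G := by rw [hGdef]; exact Submodule.mem_span_singleton_self n₁
  have hG : ∀ y ∈ G, ∃ b : S, y = b • n₁ := by
    intro y hy
    rw [hGdef] at hy
    obtain ⟨b, hb⟩ := Submodule.mem_span_singleton.mp hy
    exact ⟨b, hb.symm⟩
  obtain ⟨f₁, hf₁, hg₁⟩ := Groth.Agent.H1.GenFree.exists_good (R := D) (S := S)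
    (M := M ⧸ G) (1 : D) one_ne_zero
  obtain ⟨f₂, hf₂, hg₂⟩ := Groth.Agent.H1.GenFree.exists_good (R := D) (S := S)
    (M := S ⧸ P) ((1 : D) * f₁) hf₁
  have hC := hg₁.freeM.mul_right f₂
  have hE := hg₂.freeM
  obtain ⟨f, hfdef⟩ : ∃ f : D, f = (1 : D) * f₁ * f₂ := ⟨_, rfl⟩
  rw [← hfdef] at hC hE hf₂
  refine ⟨f, hf₂, ?_⟩
  intro q _ hfq s hsq hmem
  have hinj : Function.Injective (algebraMap D (S ⧸ P)) := by
    rw [injective_iff_map_eq_zero]
    intro d hd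
    apply hPD
    rw [IsScalarTower.algebraMap_apply D S (S ⧸ P), Ideal.Quotient.algebraMap_eq] at hd
    exact Ideal.Quotient.eq_zero_iff_mem.mp hd
  obtain ⟨j, b, hb, e⟩ := step1 G n₁ hn₁ hG f hf₂ hC q (s • n₁)
    (G.smul_of_tower_mem s hn₁) hmem
  have hmemP : algebraMap D S (f ^ j * s) - b ∈ P := by
    rw [← hP, sub_smul, algebraMap_smul, mul_smul, e, sub_self]
  have hc : algebraMap D (S ⧸ P) (f ^ j * s) ∈ q.map (algebraMap D (S ⧸ P)) := by
    have h1 : algebraMap D (S ⧸ P) (f ^ j * s) = Ideal.Quotient.mk P b := by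
      rw [IsScalarTower.algebraMap_apply D S (S ⧸ P), Ideal.Quotient.algebraMap_eq]
      exact Ideal.Quotient.eq.mpr hmemP
    rw [h1, IsScalarTower.algebraMap_eq D S (S ⧸ P), ← Ideal.map_map,
      Ideal.Quotient.algebraMap_eq]
    exact Ideal.mem_map_of_mem _ hb
  have h3 := step2 hinj f hf₂ hE q hfq (f ^ j * s) hc
  rcases Ideal.IsPrime.mem_or_mem inferInstance h3 with h | h
  · exact hfq (Ideal.IsPrime.mem_of_pow_mem inferInstance j h)
  · exact hsq h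

theorem spread_main {D S M : Type u} [CommRing D] [IsDomain D] [IsNoetherianRing D] [CommRing S]
    [Algebra D S] [Algebra.FiniteType D S] [AddCommGroup M] [Module S M] [Module D M]
    [IsScalarTower D S M] [Module.Finite S M] (P : Ideal S) [P.IsPrime]
    [hPover : P.LiesOver (⊥ : Ideal D)]
    (hass : FlatCA.fiberIdeal (⊥ : Ideal D) P ∈
      associatedPrimes ((⊥ : Ideal D).Fiber S) (FlatCA.fiberMod (⊥ : Ideal D) S M)) :
    ∃ f : D, f ≠ 0 ∧ ∀ (q : Ideal D) [q.IsPrime], f ∉ q →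
      ∃ (P'' : Ideal S) (_ : P''.IsPrime), P ≤ P'' ∧ P''.LiesOver q ∧
        FlatCA.fiberIdeal q P'' ∈ associatedPrimes (q.Fiber S) (FlatCA.fiberMod q S M) := by
  haveI : IsNoetherianRing S := Algebra.FiniteType.isNoetherianRing D S
  haveI hN0 : IsNoetherianRing ((⊥ : Ideal D).Fiber S) :=
    Algebra.FiniteType.isNoetherianRing (⊥ : Ideal D).ResidueField _
  have hass' : (⊥ : Submodule ((⊥ : Ideal D).Fiber S)
      (((⊥ : Ideal D).Fiber S) ⊗[S] M)).IsAssociatedPrime (FlatCA.fiberIdeal (⊥ : Ideal D) P) :=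
    hass
  obtain ⟨h𝔓, z, hz⟩ := (Submodule.isAssociatedPrime_iff).mp hass'
  obtain ⟨r, hr, m, hrm⟩ :=
    exists_smul_eq_one_tmul_module (⊥ : Ideal D) (cB (⊥ : Ideal D) S M z)
  have hr0 : r ≠ 0 := fun h => hr (by rw [h]; exact Ideal.zero_mem _)
  have hunit : ∀ d : D, d ≠ 0 → IsUnit (algebraMap D (⊥ : Ideal D).ResidueField d) :=
    fun d hd => isUnit_iff_ne_zero.mpr
      (fun h => hd (Ideal.mem_bot.mp (Ideal.algebraMap_residueField_eq_zero.mp h)))
  have hcomap : (FlatCA.fiberIdeal (⊥ : Ideal D) P).comap (incl (⊥ : Ideal D)) = P :=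
    comap_map_incl (⊥ : Ideal D) P
  have H1 : ∀ b : S, (1 : (⊥ : Ideal D).ResidueField) ⊗ₜ[D] (b • m) =
      (0 : (⊥ : Ideal D).ResidueField ⊗[D] M) ↔ b ∈ P := by
    intro b
    have h1 : (1 : (⊥ : Ideal D).ResidueField) ⊗ₜ[D] (b • m) =
        r • cB (⊥ : Ideal D) S M (incl (⊥ : Ideal D) b • z) := by
      rw [cB_incl_smul, ← map_smul, hrm, LinearMap.lTensor_tmul]
      rfl
    rw [h1, ← algebraMap_smul (⊥ : Ideal D).ResidueField r, (hunit r hr0).smul_eq_zero,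
      LinearEquiv.map_eq_zero_iff, ← hcomap, Ideal.mem_comap, hz, Submodule.mem_colon_singleton,
      Submodule.mem_bot]
  have hex : ∀ b : S, ∃ s : D, s ≠ 0 ∧ (b ∈ P → s • b • m = 0) := by
    intro b
    by_cases hb : b ∈ P
    · obtain ⟨s, hs, hsm⟩ :=
        exists_smul_mem_of_one_tmul_eq_zero (⊥ : Ideal D) (b • m) ((H1 b).mpr hb)
      rw [Submodule.bot_smul, Submodule.mem_bot] at hsm
      exact ⟨s, fun h => hs (by rw [h]; exact Ideal.zero_mem _), fun _ => hsm⟩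
    · exact ⟨1, one_ne_zero, fun h => absurd h hb⟩
  choose sf hsf0 hsf using hex
  obtain ⟨T, hT⟩ := (isNoetherianRing_iff_ideal_fg S).mp inferInstance P
  obtain ⟨d, hddef⟩ : ∃ d : D, d = ∏ b ∈ T, sf b := ⟨_, rfl⟩
  have hd0 : d ≠ 0 := by
    rw [hddef]; exact Finset.prod_ne_zero_iff.mpr (fun b _ => hsf0 b)
  have hPn : ∀ b ∈ P, b • (d • m) = 0 := by
    have hle : P ≤ (⊥ : Submodule S M).colon {d • m} := by
      rw [← hT, Submodule.span_le]
      intro b hb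
      rw [SetLike.mem_coe, Submodule.mem_colon_singleton, Submodule.mem_bot]
      have hbP : b ∈ P := by rw [← hT]; exact Submodule.subset_span hb
      obtain ⟨c, hc⟩ := Finset.dvd_prod_of_mem sf (Finset.mem_coe.mp hb)
      have h0 : sf b • b • m = 0 := hsf b hbP
      calc b • (d • m) = b • ((c * sf b) • m) := by rw [hddef, hc, mul_comm]
        _ = c • (sf b • b • m) := by rw [mul_smul, smul_comm b c, smul_comm b (sf b) m]
        _ = 0 := by rw [h0, smul_zero]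
    intro b hb
    have h1 := hle hb
    rwa [Submodule.mem_colon_singleton, Submodule.mem_bot] at h1
  obtain ⟨n₁, hn₁def⟩ : ∃ n₁ : M, n₁ = d • m := ⟨_, rfl⟩
  have hP' : ∀ b : S, b • n₁ = 0 ↔ b ∈ P := by
    intro b
    constructor
    · intro hb
      rw [← H1 b]
      have h1 : d • ((1 : (⊥ : Ideal D).ResidueField) ⊗ₜ[D] (b • m)) =
          (0 : (⊥ : Ideal D).ResidueField ⊗[D] M) := by
        rw [← TensorProduct.tmul_smul, smul_comm d b m, ← hn₁def, hb, tmul_zero]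
      rw [← algebraMap_smul (⊥ : Ideal D).ResidueField d, (hunit d hd0).smul_eq_zero] at h1
      exact h1
    · intro hb
      rw [hn₁def]; exact hPn b hb
  have hPD : ∀ d' : D, algebraMap D S d' ∈ P → d' = 0 := by
    intro d' hd'
    have h1 : d' ∈ P.under D := hd'
    rw [← hPover.over] at h1
    exact Ideal.mem_bot.mp h1
  obtain ⟨f, hf0, hf⟩ := spread_nonzero n₁ P hP' hPD
  refine ⟨f, hf0, ?_⟩
  intro q _ hfq
  haveI hNq : IsNoetherianRing (q.Fiber S) :=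
    Algebra.FiniteType.isNoetherianRing q.ResidueField _
  have hz'' : ((1 : q.Fiber S) ⊗ₜ[S] n₁ : (q.Fiber S) ⊗[S] M) ≠ 0 := by
    intro h0
    have h1 : (cB q S M).symm ((1 : q.ResidueField) ⊗ₜ[D] n₁) = 0 := by
      rw [cB_symm_tmul]; exact h0
    have h2 : (1 : q.ResidueField) ⊗ₜ[D] n₁ = (0 : q.ResidueField ⊗[D] M) := by
      rw [← (cB q S M).symm.map_eq_zero_iff]; exact h1
    obtain ⟨s, hs, hsm⟩ := exists_smul_mem_of_one_tmul_eq_zero q n₁ h2
    exact hf q hfq s hs hsm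
  obtain ⟨𝔓'', h𝔓ass, h𝔓le⟩ :=
    exists_le_isAssociatedPrime_of_isNoetherianRing (q.Fiber S) _ hz''
  haveI h𝔓p : 𝔓''.IsPrime := h𝔓ass.isPrime
  refine ⟨𝔓''.comap (incl q), Ideal.comap_isPrime _ _, ?_, comap_incl_liesOver q 𝔓'', ?_⟩
  · intro b hb
    rw [Ideal.mem_comap]
    apply h𝔓le
    rw [Submodule.mem_colon_singleton, Submodule.mem_bot]
    have h1 : incl q (S := S) b • ((1 : q.Fiber S) ⊗ₜ[S] n₁ : (q.Fiber S) ⊗[S] M) =
        (1 : q.Fiber S) ⊗ₜ[S] (b • n₁) := by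
      rw [TensorProduct.smul_tmul', smul_eq_mul, mul_one]
      have h2 : incl q (S := S) b = b • (1 : q.Fiber S) := by
        rw [Algebra.smul_def, mul_one]; rfl
      rw [h2, TensorProduct.smul_tmul]
    rw [h1, (hP' b).mpr hb, tmul_zero]
  · have h1 : FlatCA.fiberIdeal q (𝔓''.comap (incl q)) = 𝔓'' :=
      (eq_map_comap_incl q 𝔓'').symm
    rw [h1]; exact h𝔓ass

end Groth.Agent.H9.PureA
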