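import Groth.Agent.Lib.Helper9.Misc.PureR
import Groth.Agent.Lib.Helper9.Misc.PureO

set_option autoImplicit false
universe u
open TensorProduct

namespace Groth.Agent.H9.PureA

attribute [local instance] Algebra.TensorProduct.rightAlgebra

theorem field_case {A B : Type u} [CommRing A] [CommRing B] [Algebra A B]
    [Algebra.FiniteType A B]
    (N : Type u) [AddCommGroup N] [Module B N] (p : Ideal A) [p.IsPrime]
    {A₁ B₁ N₁ : Type u} [CommRing A₁] [CommRing B₁] [Algebra A A₁] [Algebra B B₁]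
    [Algebra A₁ B₁] [Algebra A B₁] [IsScalarTower A B B₁] [IsScalarTower A A₁ B₁]
    [AddCommGroup N₁] [Module B₁ N₁] [Module B N₁] [IsScalarTower B B₁ N₁] [Module A₁ N₁]
    [IsScalarTower A₁ B₁ N₁] {f₁ : N →ₗ[B] N₁} {t' t : Ideal A₁} [t'.IsPrime] [t.IsPrime]
    {P : Ideal B₁} [P.IsPrime] (himp : FlatCA.IsImpurity A B N p A₁ B₁ N₁ f₁ t' t P)
    (ht'p : t'.LiesOver p) : False := by
  have htt : t' ≤ t := himp.2.2.1
  haveI htp : t.LiesOver p := himp.2.2.2.1
  haveI := ht'p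
  obtain ⟨𝔖', h𝔖'1, h𝔖'2⟩ := exists_fiber_prime p t'
  obtain ⟨𝔖, h𝔖1, h𝔖2⟩ := exists_fiber_prime p t
  haveI := 𝔖'.isPrime
  haveI := 𝔖.isPrime
  have hle : 𝔖'.asIdeal ≤ 𝔖.asIdeal := by rw [h𝔖'1, h𝔖1]; exact Ideal.map_mono htt
  have hsp' : 𝔖.asIdeal.LiesOver (⊥ : Ideal p.ResidueField) := ⟨by
    have hne : 𝔖.asIdeal.under p.ResidueField ≠ ⊤ := Ideal.IsPrime.ne_top inferInstance
    exact ((Ideal.eq_bot_or_top _).resolve_right hne).symm⟩
  have hst : 𝔖.asIdeal.LiesOver t := ⟨h𝔖2.symm⟩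
  have hs't' : 𝔖'.asIdeal.LiesOver t' := ⟨h𝔖'2.symm⟩
  exact (not_pure_abstract (A' := p.ResidueField) (B' := B ⊗[A] p.ResidueField)
    (N' := (B ⊗[A] p.ResidueField) ⊗[B] N) (p' := (⊥ : Ideal p.ResidueField))
    (inferInstance : Algebra.IsPushout A B p.ResidueField (B ⊗[A] p.ResidueField))
    (TensorProduct.isBaseChange B N (B ⊗[A] p.ResidueField)) himp
    (A₂ := p.Fiber A₁) hle hsp' hst hs't').1
    (univPure_of_projective (A := p.ResidueField) (B := B ⊗[A] p.ResidueField)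
      ((B ⊗[A] p.ResidueField) ⊗[B] N) (⊥ : Ideal p.ResidueField))

lemma exists_quotient_data {A : Type u} [CommRing A] (A₁ : Type u) [CommRing A₁] [Algebra A A₁]
    (t' : Ideal A₁) [t'.IsPrime] :
    ∃ (D : Type u) (_ : CommRing D) (_ : IsDomain D) (_ : Algebra A D) (_ : Algebra A₁ D)
      (_ : IsScalarTower A A₁ D), Function.Surjective (algebraMap A₁ D) ∧
        RingHom.ker (algebraMap A₁ D) = t' :=
  ⟨A₁ ⧸ t', inferInstance, inferInstance, inferInstance, inferInstance, inferInstance,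
    Ideal.Quotient.mk_surjective, by rw [Ideal.Quotient.algebraMap_eq]; exact Ideal.mk_ker⟩

theorem exists_coheight_one' {R : Type*} [CommRing R] [IsNoetherianRing R] (m : Ideal R)
    [m.IsPrime] (f : R) (t₀ : Ideal R) [t₀.IsPrime] (ht₀ : t₀ ≤ m) (hft₀ : f ∉ t₀) :
    ∃ t'' : Ideal R, t''.IsPrime ∧ t₀ ≤ t'' ∧ t'' ≤ m ∧ f ∉ t'' ∧
      ∀ q : Ideal R, q.IsPrime → t'' ≤ q → q ≤ m → q = t'' ∨ q = m := by
  obtain ⟨t'', ht''p, h1, ht''m, h3, hdim⟩ := exists_coheight_one m f t₀ ht₀ hft₀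
  haveI := ht''p
  refine ⟨t'', ht''p, h1, ht''m, h3, ?_⟩
  intro q hq ht''q hqm
  haveI := hq
  have hqc : (q.map (Ideal.Quotient.mk t'')).comap (Ideal.Quotient.mk t'') = q := by
    rw [Ideal.comap_map_of_surjective _ Ideal.Quotient.mk_surjective,
      ← RingHom.ker_eq_comap_bot, Ideal.mk_ker, sup_eq_left.mpr ht''q]
  have hmc : (m.map (Ideal.Quotient.mk t'')).comap (Ideal.Quotient.mk t'') = m := by
    rw [Ideal.comap_map_of_surjective _ Ideal.Quotient.mk_surjective,
      ← RingHom.ker_eq_comap_bot, Ideal.mk_ker, sup_eq_left.mpr ht''m]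
  have hqp : (q.map (Ideal.Quotient.mk t'')).IsPrime :=
    Ideal.map_isPrime_of_surjective Ideal.Quotient.mk_surjective
      (by rw [Ideal.mk_ker]; exact ht''q)
  rcases hdim _ hqp (Ideal.map_mono hqm) with h0 | h0
  · left
    rw [← hqc, h0, ← RingHom.ker_eq_comap_bot, Ideal.mk_ker]
  · right
    rw [← hqc, h0, hmc]

theorem impurity_surj {A B : Type u} [CommRing A] [CommRing B] [Algebra A B]
    [Algebra.FiniteType A B]
    (N : Type u) [AddCommGroup N] [Module B N] (p : Ideal A) [p.IsPrime]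
    {A₁ B₁ N₁ : Type u} [CommRing A₁] [CommRing B₁] [Algebra A A₁] [Algebra B B₁]
    [Algebra A₁ B₁] [Algebra A B₁] [IsScalarTower A B B₁] [IsScalarTower A A₁ B₁]
    [AddCommGroup N₁] [Module B₁ N₁] [Module B N₁] [IsScalarTower B B₁ N₁] [Module A₁ N₁]
    [IsScalarTower A₁ B₁ N₁] {f₁ : N →ₗ[B] N₁} {t' t : Ideal A₁} [t'.IsPrime] [t.IsPrime]
    {P : Ideal B₁} [P.IsPrime] (himp : FlatCA.IsImpurity A B N p A₁ B₁ N₁ f₁ t' t P)
    (D : Type u) [CommRing D] [IsDomain D] [Algebra A D] [Algebra A₁ D] [IsScalarTower A A₁ D]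
    (hsurj : Function.Surjective (algebraMap A₁ D))
    (hker : RingHom.ker (algebraMap A₁ D) = t') :
    ∃ (s : Ideal D) (_ : s.IsPrime) (P₂ : Ideal (B ⊗[A] D)) (_ : P₂.IsPrime),
      s = t.map (algebraMap A₁ D) ∧ s.comap (algebraMap A₁ D) = t ∧
      FlatCA.IsImpurity A B N p D (B ⊗[A] D) ((B ⊗[A] D) ⊗[B] N)
        (TensorProduct.mk B (B ⊗[A] D) N 1) ⊥ s P₂ := by
  have htt : t' ≤ t := himp.2.2.1
  haveI htp : t.LiesOver p := himp.2.2.2.1
  have hsprime : (t.map (algebraMap A₁ D)).IsPrime :=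
    Ideal.map_isPrime_of_surjective hsurj (by rw [hker]; exact htt)
  haveI := hsprime
  have hcomap : (t.map (algebraMap A₁ D)).comap (algebraMap A₁ D) = t := by
    rw [Ideal.comap_map_of_surjective _ hsurj, ← RingHom.ker_eq_comap_bot, hker,
      sup_eq_left.mpr htt]
  have hst : (t.map (algebraMap A₁ D)).LiesOver t := ⟨hcomap.symm⟩
  have hsp' : (t.map (algebraMap A₁ D)).LiesOver p := ⟨by
    rw [← Ideal.under_under (B := A₁) (t.map (algebraMap A₁ D))]
    have h1 : (t.map (algebraMap A₁ D)).under A₁ = t := hcomap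
    rw [h1]; exact htp.over⟩
  have hs't' : (⊥ : Ideal D).LiesOver t' := ⟨by
    show t' = (⊥ : Ideal D).comap (algebraMap A₁ D)
    rw [← RingHom.ker_eq_comap_bot, hker]⟩
  obtain ⟨P₂, hP₂, himp₂⟩ := impurity_lift_abstract (A' := A) (B' := B) (N' := N) (p' := p)
    (inferInstance : Algebra.IsPushout A B A B)
    (IsBaseChange.of_equiv (f := (LinearMap.id : N →ₗ[B] N)) (TensorProduct.lid B N)
      (fun x => by rw [TensorProduct.lid_tmul, one_smul]; rfl)) himp
    (A₂ := D) (B₂ := B ⊗[A] D) (N₂ := (B ⊗[A] D) ⊗[B] N) inferInstance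
    (TensorProduct.isBaseChange B N (B ⊗[A] D)) bot_le hsp' hst hs't'
  exact ⟨_, hsprime, P₂, hP₂, rfl, hcomap, himp₂⟩

theorem qf_core2 {A B : Type u} [CommRing A] [CommRing B] [Algebra A B]
    [Algebra.FiniteType A B]
    (N : Type u) [AddCommGroup N] [Module B N] [Module.Finite B N] (p : Ideal A) [p.IsPrime]
    {D S M : Type u} [CommRing D] [IsDomain D] [IsNoetherianRing D] [CommRing S] [Algebra A D]
    [Algebra.FiniteType A D] [Algebra B S]
    [Algebra D S] [Algebra A S] [IsScalarTower A B S] [IsScalarTower A D S]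
    [AddCommGroup M] [Module S M] [Module B M] [IsScalarTower B S M] [Module D M]
    [IsScalarTower D S M] {f₂ : N →ₗ[B] M} {s : Ideal D} [s.IsPrime]
    {P₂ : Ideal S} [P₂.IsPrime] (himp : FlatCA.IsImpurity A B N p D S M f₂ ⊥ s P₂)
    (a : A) (hap : a ∈ p) (ha0 : algebraMap A D a ≠ 0)
    (hmaxD : ∀ q : Ideal D, q.IsPrime → q.LiesOver p → s ≤ q → q = s) :
    FlatCA.HasImpurity A B N p (fun A' _ _ t => ∃ _ : t.IsPrime,
      Algebra.FiniteType A A' ∧ Algebra.QuasiFiniteAt A t) := by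
  obtain ⟨hPB, hf, -, hsp, hP₂o, hass, hcl⟩ := himp
  haveI := hsp
  haveI := hP₂o
  haveI hFTD : Algebra.FiniteType D S := by
    haveI := hPB.symm
    exact Algebra.FiniteType.equiv (inferInstance : Algebra.FiniteType D (D ⊗[A] B))
      (Algebra.IsPushout.equiv A D B S)
  haveI hMF : Module.Finite S M := Module.Finite.equiv hf.equiv
  obtain ⟨f₀, hf₀, hspread⟩ := spread_main P₂ hass
  have hfa : f₀ * algebraMap A D a ≠ 0 := mul_ne_zero hf₀ ha0
  obtain ⟨t'', ht''p, -, ht''s, hft'', hdim⟩ :=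
    exists_coheight_one' s (f₀ * algebraMap A D a) ⊥ bot_le
      (fun h => hfa (Ideal.mem_bot.mp h))
  haveI := ht''p
  have hf₀t'' : f₀ ∉ t'' := fun h => hft'' (Ideal.mul_mem_right _ _ h)
  have hat'' : algebraMap A D a ∉ t'' := fun h => hft'' (Ideal.mul_mem_left _ _ h)
  obtain ⟨P'', hP''p, hP₂P'', hP''o, hass''⟩ := hspread t'' hf₀t''
  haveI := hP''p
  haveI := hP''o
  have himp' : FlatCA.IsImpurity A B N p D S M f₂ t'' s P'' := by
    unfold FlatCA.IsImpurity
    exact ⟨hPB, hf, ht''s, hsp, hP''o, hass'', fun P' _ hle => hcl P' (hP₂P''.trans hle)⟩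
  obtain ⟨D₂, _, _, _, _, _, hsurj, hker⟩ := exists_quotient_data (A := A) D t''
  obtain ⟨s₂, hs₂p, P₃, hP₃, hs₂def, hcomap, himp₃⟩ := impurity_surj N p himp' D₂ hsurj hker
  haveI := hs₂p
  have hs₂p' : s₂.LiesOver p := himp₃.2.2.2.1
  haveI := hs₂p'
  haveI hFT'' : Algebra.FiniteType A D₂ :=
    Algebra.FiniteType.of_surjective (IsScalarTower.toAlgHom A D D₂) hsurj
  have hover : ∀ q : Ideal D₂, q.LiesOver p → (q.comap (algebraMap D D₂)).LiesOver p := by
    intro q hqp
    refine ⟨?_⟩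
    show p = (q.comap (algebraMap D D₂)).comap (algebraMap A D)
    rw [Ideal.comap_comap, ← IsScalarTower.algebraMap_eq A D D₂]
    exact hqp.over
  have hQF : Algebra.QuasiFiniteAt A s₂ := by
    refine qf_of_isolated p s₂ ?_ ?_
    · intro q hq hqp hsq
      haveI := hq
      have h1 := hmaxD (q.comap (algebraMap D D₂)) (Ideal.comap_isPrime _ _) (hover q hqp)
        (by rw [← hcomap]; exact Ideal.comap_mono hsq)
      apply Ideal.comap_injective_of_surjective (algebraMap D D₂) hsurj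
      rw [h1, hcomap]
    · intro q hq hqp hqs
      haveI := hq
      have hle1 : t'' ≤ q.comap (algebraMap D D₂) := by
        intro x hx
        rw [← hker] at hx
        rw [Ideal.mem_comap, RingHom.mem_ker.mp hx]
        exact Ideal.zero_mem _
      have hle2 : q.comap (algebraMap D D₂) ≤ s := by
        rw [← hcomap]; exact Ideal.comap_mono hqs
      rcases hdim (q.comap (algebraMap D D₂)) (Ideal.comap_isPrime _ _) hle1 hle2 with h0 | h1
      · exfalso
        apply hat''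
        rw [← h0, Ideal.mem_comap, ← IsScalarTower.algebraMap_apply A D D₂]
        have h2 : a ∈ q.under A := by rw [← hqp.over]; exact hap
        exact h2
      · apply Ideal.comap_injective_of_surjective (algebraMap D D₂) hsurj
        rw [h1, hcomap]
  exact ⟨D₂, B ⊗[A] D₂, (B ⊗[A] D₂) ⊗[B] N, inferInstance, inferInstance,
    inferInstance, inferInstance, inferInstance, inferInstance, inferInstance, inferInstance,
    inferInstance, inferInstance, inferInstance, inferInstance, inferInstance, inferInstance,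
    TensorProduct.mk B (B ⊗[A] D₂) N 1, ⊥, s₂, inferInstance, hs₂p, P₃, hP₃, himp₃,
    ⟨hs₂p, hFT'', hQF⟩⟩

theorem qf_impurity {A B : Type u} [CommRing A] [IsNoetherianRing A] [CommRing B] [Algebra A B]
    [Algebra.FiniteType A B]
    (N : Type u) [AddCommGroup N] [Module B N] [Module.Finite B N] (p : Ideal A) [p.IsPrime]
    (h : FlatCA.HasImpurity A B N p (fun _ _ _ _ => True)) :
    FlatCA.HasImpurity A B N p (fun A' _ _ t => ∃ _ : t.IsPrime,
      Algebra.FiniteType A A' ∧ Algebra.QuasiFiniteAt A t) := by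
  obtain ⟨A₁, B₁, N₁, _, _, _, _, _, _, _, _, _, _, _, _, _, _, f₁, t', t, _, _, P, _, himp,
    hfp, hmaxT⟩ := fp_closed N p h
  haveI := hfp
  haveI hFT₁ : Algebra.FiniteType A A₁ := inferInstance
  haveI hN₁ : IsNoetherianRing A₁ := Algebra.FiniteType.isNoetherianRing A A₁
  have htt : t' ≤ t := himp.2.2.1
  haveI htp : t.LiesOver p := himp.2.2.2.1
  have hmaxA : ∀ q₁ : Ideal A₁, q₁.IsPrime → q₁.LiesOver p → t ≤ q₁ → q₁ = t := by
    intro q₁ hq₁ hq₁p htq
    haveI := hq₁
    haveI := hq₁p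
    obtain ⟨𝔔, h𝔔1, h𝔔2⟩ := exists_fiber_prime p q₁
    have hle : FlatCA.fiberIdeal p t ≤ 𝔔.asIdeal := by
      rw [h𝔔1]; exact Ideal.map_mono htq
    have heq := hmaxT.eq_of_le 𝔔.isPrime.ne_top hle
    rw [← h𝔔2, ← heq]
    exact comap_map_incl p t
  by_cases hcase : t'.under A = p
  · exact (field_case N p himp ⟨hcase.symm⟩).elim
  · have hex_a : ∃ a : A, a ∈ p ∧ algebraMap A A₁ a ∉ t' := by
      by_contra hno
      push_neg at hno
      apply hcase
      apply le_antisymm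
      · intro a ha
        have h1 : a ∈ t.under A := htt ha
        rw [← htp.over] at h1; exact h1
      · intro a ha; exact hno a ha
    obtain ⟨a, hap, hat'⟩ := hex_a
    obtain ⟨D, _, _, _, _, _, hsurj, hker⟩ := exists_quotient_data (A := A) A₁ t'
    obtain ⟨s, hsprime, P₂, hP₂, hsdef, hcomap, himp₂⟩ := impurity_surj N p himp D hsurj hker
    haveI := hsprime
    haveI := hP₂
    haveI hFTD : Algebra.FiniteType A D :=
      Algebra.FiniteType.of_surjective (IsScalarTower.toAlgHom A A₁ D) hsurj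
    haveI hND : IsNoetherianRing D := isNoetherianRing_of_surjective A₁ D (algebraMap A₁ D) hsurj
    refine qf_core2 N p himp₂ a hap ?_ ?_
    · rw [IsScalarTower.algebraMap_apply A A₁ D]
      intro h0
      have h1 : algebraMap A A₁ a ∈ RingHom.ker (algebraMap A₁ D) := RingHom.mem_ker.mpr h0
      rw [hker] at h1
      exact hat' h1
    · intro q hq hqp hsq
      haveI := hq
      have hover : (q.comap (algebraMap A₁ D)).LiesOver p := ⟨by
        show p = (q.comap (algebraMap A₁ D)).comap (algebraMap A A₁)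
        rw [Ideal.comap_comap, ← IsScalarTower.algebraMap_eq A A₁ D]
        exact hqp.over⟩
      have h1 := hmaxA (q.comap (algebraMap A₁ D)) (Ideal.comap_isPrime _ _) hover
        (by rw [← hcomap]; exact Ideal.comap_mono hsq)
      apply Ideal.comap_injective_of_surjective (algebraMap A₁ D) hsurj
      rw [h1, hcomap]

end Groth.Agent.H9.PureA
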