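import Groth.Agent.Lib.Helper9.Misc.PureS
import Groth.Agent.Lib.Helper9.Misc.PureN
import Groth.Agent.Lib.Helper9.Misc.PureJ
import Groth.Agent.Lib.Helper8.Hens.Unibranch

set_option autoImplicit false
set_option maxHeartbeats 1000000
universe u
open TensorProduct

namespace Groth.Agent.H9.PureA

theorem flat_loc_loc (A : Type u) [CommRing A] (p : Ideal A) [p.IsPrime] :
    Module.Flat A (Localization.AtPrime (IsLocalRing.maximalIdeal (Localization.AtPrime p))) := by
  haveI h1 : Module.Flat (Localization.AtPrime p)
      (Localization.AtPrime (IsLocalRing.maximalIdeal (Localization.AtPrime p))) := inferInstance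
  haveI h2 : Module.Flat A (Localization.AtPrime p) := inferInstance
  exact Module.Flat.trans A (Localization.AtPrime p) _

attribute [local instance] Algebra.TensorProduct.rightAlgebra

theorem hens_local_transfer {L H : Type u} [CommRing L] [IsLocalRing L] [CommRing H]
    [IsLocalRing H]
    [Algebra L H] [Algebra (Localization.AtPrime (IsLocalRing.maximalIdeal L)) H]
    [IsScalarTower L (Localization.AtPrime (IsLocalRing.maximalIdeal L)) H]
    [IsLocalHom (algebraMap (Localization.AtPrime (IsLocalRing.maximalIdeal L)) H)]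
    (hH : Hensel.IsHenselization (Localization.AtPrime (IsLocalRing.maximalIdeal L)) H) :
    ∃ (_ : IsLocalHom (algebraMap L H)), Hensel.IsHenselization L H := by
  have hunits : (IsLocalRing.maximalIdeal L).primeCompl ≤ IsUnit.submonoid L := by
    intro x hx
    exact IsLocalRing.notMem_maximalIdeal.mp hx
  obtain ⟨e₀, he₀⟩ : ∃ e₀ : L ≃+* Localization.AtPrime (IsLocalRing.maximalIdeal L),
      ∀ x, e₀ x = algebraMap L (Localization.AtPrime (IsLocalRing.maximalIdeal L)) x :=
    ⟨(IsLocalization.atUnits L (IsLocalRing.maximalIdeal L).primeCompl hunits).toRingEquiv,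
      fun x => (IsLocalization.atUnits L (IsLocalRing.maximalIdeal L).primeCompl hunits).commutes x⟩
  have hloc : IsLocalHom (algebraMap L H) := ⟨fun a ha => by
    rw [IsScalarTower.algebraMap_apply L (Localization.AtPrime (IsLocalRing.maximalIdeal L)) H]
      at ha
    have h1 : IsUnit (algebraMap L (Localization.AtPrime (IsLocalRing.maximalIdeal L)) a) :=
      isUnit_of_map_unit (algebraMap (Localization.AtPrime (IsLocalRing.maximalIdeal L)) H) _ ha
    rw [← he₀] at h1
    have h2 := h1.map e₀.symm
    rwa [RingEquiv.symm_apply_apply] at h2⟩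
  refine ⟨hloc, ?_⟩
  haveI := hloc
  haveI := hH
  exact Groth.Agent.H8.Hens.isHenselization_of_ringEquiv
    (R := Localization.AtPrime (IsLocalRing.maximalIdeal L)) (R₀ := L) (S := H) e₀.symm (by
      refine RingHom.ext fun x => ?_
      obtain ⟨y, rfl⟩ := e₀.surjective x
      show algebraMap L H (e₀.symm (e₀ y)) = algebraMap _ H (e₀ y)
      rw [RingEquiv.symm_apply_apply, he₀, ← IsScalarTower.algebraMap_apply])

theorem univPure_of_pure_noeth_aux {A B : Type u} [CommRing A] [CommRing B] [Algebra A B]
    [Algebra.FiniteType A B]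
    (N : Type u) [AddCommGroup N] [Module B N] [Module.Finite B N] (p : Ideal A) [p.IsPrime]
    (L : Type u) [CommRing L] [Algebra A L] [IsLocalization.AtPrime L p] [IsNoetherianRing L]
    [IsLocalRing L] (e : Localization.AtPrime p ≃ₐ[A] L)
    (hpure : FlatCA.IsPureAlong A B N p) :
    FlatCA.IsUnivPureAlong A B N p := by
  haveI hmo : (IsLocalRing.maximalIdeal L).LiesOver p :=
    ⟨(IsLocalization.AtPrime.comap_maximalIdeal L p).symm⟩
  haveI hflatL : Module.Flat A L := IsLocalization.flat L p.primeCompl
  haveI hflat : Module.Flat A (Localization.AtPrime (IsLocalRing.maximalIdeal L)) :=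
    Module.Flat.trans A L _
  refine (flat_descent N p L (B ⊗[A] L) ((B ⊗[A] L) ⊗[B] N)
    (TensorProduct.mk B (B ⊗[A] L) N 1) (TensorProduct.isBaseChange B N (B ⊗[A] L))
    (IsLocalRing.maximalIdeal L)).2 ?_
  intro A₁ B₁ N₁ _ _ _ _ _ _ _ _ _ _ _ _ _ _ f₁ t' t _ _ P _ himpL
  haveI hFTL : Algebra.FiniteType L (B ⊗[A] L) := by
    haveI : Algebra.IsPushout A L B (B ⊗[A] L) :=
      (inferInstance : Algebra.IsPushout A B L (B ⊗[A] L)).symm
    exact Algebra.FiniteType.equiv (inferInstance : Algebra.FiniteType L (L ⊗[A] B))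
      (Algebra.IsPushout.equiv A L B (B ⊗[A] L))
  have h0 : FlatCA.HasImpurity L (B ⊗[A] L) ((B ⊗[A] L) ⊗[B] N)
      (IsLocalRing.maximalIdeal L) (fun _ _ _ _ => True) :=
    ⟨A₁, B₁, N₁, inferInstance, inferInstance, inferInstance, inferInstance, inferInstance,
      inferInstance, inferInstance, inferInstance, inferInstance, inferInstance, inferInstance,
      inferInstance, inferInstance, inferInstance, f₁, t', t, inferInstance, inferInstance, P,
      inferInstance, himpL, trivial⟩
  have h3 := hens_impurity _ _ (qf_to_etale _ _ (qf_impurity _ _ h0))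
  obtain ⟨H, B₂, N₂, _, _, _, _, _, _, _, _, _, _, _, _, _, _, f₂, s', s, _, _, Q, _, himpH,
    hlocH, halg, htow, hlh, hHens, hs⟩ := h3
  haveI := hlocH
  haveI := htow
  haveI := hlh
  obtain ⟨hlh', hHens'⟩ := hens_local_transfer (L := L) (H := H) hHens
  haveI := hlh'
  haveI := hHens'
  letI iA : Algebra A H := ((algebraMap L H).comp (algebraMap A L)).toAlgebra
  haveI : IsScalarTower A L H := IsScalarTower.of_algebraMap_eq fun _ => rfl
  letI iB : Algebra B B₂ := ((algebraMap (B ⊗[A] L) B₂).comp
    (algebraMap B (B ⊗[A] L))).toAlgebra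
  haveI : IsScalarTower B (B ⊗[A] L) B₂ := IsScalarTower.of_algebraMap_eq fun _ => rfl
  letI iAB : Algebra A B₂ := ((algebraMap H B₂).comp (algebraMap A H)).toAlgebra
  haveI : IsScalarTower A H B₂ := IsScalarTower.of_algebraMap_eq fun _ => rfl
  haveI : IsScalarTower A B B₂ := IsScalarTower.of_algebraMap_eq fun x => by
    show algebraMap H B₂ (algebraMap L H (algebraMap A L x)) =
      algebraMap (B ⊗[A] L) B₂ (algebraMap B (B ⊗[A] L) (algebraMap A B x))
    rw [← IsScalarTower.algebraMap_apply L H B₂,
      IsScalarTower.algebraMap_apply L (B ⊗[A] L) B₂,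
      ← IsScalarTower.algebraMap_apply A L (B ⊗[A] L),
      IsScalarTower.algebraMap_apply A B (B ⊗[A] L)]
  letI iM : Module B N₂ := Module.compHom N₂ (algebraMap B (B ⊗[A] L))
  haveI : IsScalarTower B (B ⊗[A] L) N₂ := IsScalarTower.of_algebraMap_smul fun _ _ => rfl
  haveI : IsScalarTower B B₂ N₂ := IsScalarTower.of_algebraMap_smul fun r x =>
    algebraMap_smul B₂ (algebraMap B (B ⊗[A] L) r) x
  have himp' := impurity_restrict (A := A) (B := B) (N := N) (p := p)
    (inferInstance : Algebra.IsPushout A B L (B ⊗[A] L))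
    (TensorProduct.isBaseChange B N (B ⊗[A] L)) himpH
  -- structure over the concrete localization
  letI iLH : Algebra (Localization.AtPrime p) H :=
    ((algebraMap L H).comp (e : Localization.AtPrime p →+* L)).toAlgebra
  haveI tLH : IsScalarTower A (Localization.AtPrime p) H :=
    IsScalarTower.of_algebraMap_eq fun x => by
      show algebraMap L H (algebraMap A L x) =
        algebraMap L H (e (algebraMap A (Localization.AtPrime p) x))
      rw [e.commutes]
  haveI lLH : IsLocalHom (algebraMap (Localization.AtPrime p) H) := ⟨fun a ha => by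
    have h1 : IsUnit (algebraMap L H (e a)) := ha
    have h2 : IsUnit (e a) := isUnit_of_map_unit (algebraMap L H) _ h1
    have h3 := h2.map e.symm
    rwa [AlgEquiv.symm_apply_apply] at h3⟩
  have hHens'' : Hensel.IsHenselization (Localization.AtPrime p) H :=
    Groth.Agent.H8.Hens.isHenselization_of_ringEquiv (R := L) (R₀ := Localization.AtPrime p)
      (S := H) e.symm.toRingEquiv (by
        refine RingHom.ext fun x => ?_
        show algebraMap L H (e (e.symm x)) = algebraMap L H x
        rw [AlgEquiv.apply_symm_apply])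
  have h4 : FlatCA.HasImpurity A B N p (fun A' _ _ t => ∃ (_ : IsLocalRing A')
      (_ : Algebra (Localization.AtPrime p) A') (_ : IsScalarTower A (Localization.AtPrime p) A')
      (_ : IsLocalHom (algebraMap (Localization.AtPrime p) A')),
      Hensel.IsHenselization (Localization.AtPrime p) A' ∧ t = IsLocalRing.maximalIdeal A') :=
    ⟨H, B₂, N₂, inferInstance, inferInstance, iA, iB, inferInstance, iAB, inferInstance,
      inferInstance, inferInstance, inferInstance, iM, inferInstance, inferInstance,
      inferInstance, _, s', s, inferInstance, inferInstance, Q,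
      inferInstance, himp', hlocH, iLH, tLH, lLH, hHens'', hs⟩
  obtain ⟨A₅, B₅, N₅, _, _, _, _, _, _, _, _, _, _, _, _, _, _, f₅, u', u, _, _, Q₅, _, himp₅,
    _, het₅⟩ := hens_to_etale N p h4
  exact hpure A₅ B₅ N₅ f₅ u' u Q₅ het₅ himp₅

theorem univPure_of_pure_noeth {A B : Type u} [CommRing A] [CommRing B] [Algebra A B]
    [Algebra.FiniteType A B]
    (N : Type u) [AddCommGroup N] [Module B N] [Module.Finite B N] (p : Ideal A) [p.IsPrime]
    [IsNoetherianRing (Localization.AtPrime p)] (hpure : FlatCA.IsPureAlong A B N p) :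
    FlatCA.IsUnivPureAlong A B N p :=
  univPure_of_pure_noeth_aux N p (Localization.AtPrime p) AlgEquiv.refl hpure

end Groth.Agent.H9.PureA
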