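import Mathlib

set_option autoImplicit false
set_option linter.style.haveILetI false
set_option linter.unusedSectionVars false
set_option linter.unusedVariables false

universe u

open CategoryTheory AlgebraicGeometry TopologicalSpace Topology

namespace Groth.Agent.H9.QAB

/-- topological input: if `φ : B₀ → B` has dense range, `α : A → B`, `β : B₀ → A` with `α ∘ β = φ`,
`J` an ideal of `A` with `α(J) B = B`, and units of `B` are open, then some `g ∈ J` has `α g` a
unit. -/
theorem exists_unit (B : Type*) [CommRing B] [TopologicalSpace B] [IsTopologicalRing B]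
    (hB : IsOpen {b : B | IsUnit b})
    (B₀ : Type*) [CommRing B₀] (φ : B₀ →+* B) (hφ : DenseRange φ)
    (A : Type*) [CommRing A] (α : A →+* B) (β : B₀ →+* A) (hαβ : ∀ c, α (β c) = φ c)
    (J : Ideal A) (hJ : Ideal.map α J = ⊤) : ∃ g ∈ J, IsUnit (α g) := by
  let K : AddSubgroup B := (AddSubgroup.map α.toAddMonoidHom J.toAddSubgroup).topologicalClosure
  have hKclosed : IsClosed (K : Set B) := AddSubgroup.isClosed_topologicalClosure _
  have hsub : ∀ a ∈ J, α a ∈ K := fun a ha =>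
    AddSubgroup.le_topologicalClosure _ ⟨a, ha, rfl⟩
  -- multiplication by `B` preserves `K`
  have hmul1 : ∀ a ∈ J, ∀ b : B, b * α a ∈ K := by
    intro a ha
    have hcl : IsClosed {b : B | b * α a ∈ K} :=
      hKclosed.preimage (continuous_id.mul continuous_const)
    have hdense : Set.range φ ⊆ {b : B | b * α a ∈ K} := by
      rintro _ ⟨c, rfl⟩
      change φ c * α a ∈ K
      rw [← hαβ, ← map_mul]
      exact hsub _ (J.mul_mem_left _ ha)
    intro b
    have : b ∈ closure (Set.range φ) := hφ b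
    exact (closure_minimal hdense hcl) this
  have hmul2 : ∀ x ∈ K, ∀ b : B, b * x ∈ K := by
    intro x hx b
    have hcl : IsClosed {x : B | b * x ∈ K} :=
      hKclosed.preimage (continuous_const.mul continuous_id)
    have hsub' : ((AddSubgroup.map α.toAddMonoidHom J.toAddSubgroup : AddSubgroup B) : Set B) ⊆
        {x : B | b * x ∈ K} := by
      rintro _ ⟨a, ha, rfl⟩
      exact hmul1 a ha b
    exact (closure_minimal hsub' hcl) hx
  have h1 : (1 : B) ∈ K := by
    have h1' : (1 : B) ∈ Ideal.map α J := by rw [hJ]; trivial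
    rw [Ideal.map] at h1'
    refine Submodule.span_induction (p := fun x _ => x ∈ K) ?_ ?_ ?_ ?_ h1'
    · rintro _ ⟨a, ha, rfl⟩
      exact hsub a ha
    · exact K.zero_mem
    · intro x y _ _ hx hy
      exact K.add_mem hx hy
    · intro b x _ hx
      exact hmul2 x hx b
  -- units are an open neighbourhood of `1`
  have h2 : (1 : B) ∈ closure ((AddSubgroup.map α.toAddMonoidHom J.toAddSubgroup : AddSubgroup B) :
      Set B) := h1
  rw [mem_closure_iff] at h2
  obtain ⟨_, hu, ⟨a, ha, rfl⟩⟩ := h2 _ hB isUnit_one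
  exact ⟨a, ha, hu⟩

theorem main (B : Type u) [CommRing B] [TopologicalSpace B]
    [IsTopologicalRing B] (hB : IsOpen {b : B | IsUnit b})
    (B₀ : Type u) [CommRing B₀] (φ : B₀ →+* B) (hφ : DenseRange φ)
    (X : Scheme.{u}) [X.IsQuasiAffine] (p : X ⟶ Spec (CommRingCat.of B₀))
    (f : Spec (CommRingCat.of B) ⟶ X) (hf : f ≫ p = Spec.map (CommRingCat.ofHom φ)) :
    ∃ U : X.Opens, IsAffineOpen U ∧ Set.range f.base ⊆ (U : Set X) := by
  let α : Γ(X, ⊤) →+* B := (f.appTop ≫ (Scheme.ΓSpecIso (CommRingCat.of B)).hom).hom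
  let β : B₀ →+* Γ(X, ⊤) := ((Scheme.ΓSpecIso (CommRingCat.of B₀)).inv ≫ p.appTop).hom
  have hαβ : ∀ c, α (β c) = φ c := by
    intro c
    have h1 : (Scheme.ΓSpecIso (CommRingCat.of B₀)).inv ≫ p.appTop ≫ f.appTop ≫
        (Scheme.ΓSpecIso (CommRingCat.of B)).hom = CommRingCat.ofHom φ := by
      have h2 : p.appTop ≫ f.appTop = (Spec.map (CommRingCat.ofHom φ)).appTop := by
        rw [← hf]; exact (Scheme.Hom.comp_appTop f p).symm
      rw [← Category.assoc p.appTop, h2, Scheme.ΓSpecIso_naturality, Iso.inv_hom_id_assoc]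
    have := congrArg (fun g => g.hom c) h1
    exact this
  have hfι : f ≫ X.toSpecΓ = Spec.map (CommRingCat.ofHom α) := by
    rw [Scheme.toSpecΓ_naturality, ← SpecMap_ΓSpecIso_hom, ← Spec.map_comp]
    rfl
  -- the ideal of the complement of the image of `X` in `Spec Γ(X)`
  let W : Set (PrimeSpectrum Γ(X, ⊤)) := Set.range X.toSpecΓ
  have hWopen : IsOpen W := X.toSpecΓ.isOpenEmbedding.isOpen_range
  let J : Ideal Γ(X, ⊤) := PrimeSpectrum.vanishingIdeal Wᶜ
  have hzl : PrimeSpectrum.zeroLocus (J : Set Γ(X, ⊤)) = Wᶜ := by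
    rw [PrimeSpectrum.zeroLocus_vanishingIdeal_eq_closure]
    exact hWopen.isClosed_compl.closure_eq
  have hJ : Ideal.map α J = ⊤ := by
    by_contra hne
    obtain ⟨m, hm, hle⟩ := Ideal.exists_le_maximal _ hne
    let q : Spec (CommRingCat.of B) := ⟨m, hm.isPrime⟩
    have h1 : ((Spec.map (CommRingCat.ofHom α)) q : PrimeSpectrum Γ(X, ⊤)) ∈
        PrimeSpectrum.zeroLocus (J : Set Γ(X, ⊤)) :=
      (PrimeSpectrum.mem_zeroLocus _ _).mpr (fun a ha => hle (Ideal.mem_map_of_mem α ha))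
    rw [hzl] at h1
    apply h1
    refine ⟨f q, ?_⟩
    rw [← hfι]; rfl
  obtain ⟨g, hgJ, hgu⟩ := exists_unit B hB B₀ φ hφ Γ(X, ⊤) α β hαβ J hJ
  have hDg : (PrimeSpectrum.basicOpen g : Set (PrimeSpectrum Γ(X, ⊤))) ⊆ W := by
    intro x hx
    by_contra hxW
    have : x ∈ PrimeSpectrum.zeroLocus (J : Set Γ(X, ⊤)) := by rw [hzl]; exact hxW
    exact hx ((PrimeSpectrum.mem_zeroLocus _ _).mp this hgJ)
  refine ⟨X.basicOpen g, ?_, ?_⟩
  · rw [← Scheme.toSpecΓ_preimage_basicOpen, ← Scheme.Hom.isAffineOpen_iff_of_isOpenImmersion X.toSpecΓ]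
    convert! IsAffineOpen.Spec_basicOpen g
    exact SetLike.coe_injective (Set.image_preimage_eq_of_subset hDg)
  · rintro _ ⟨q, rfl⟩
    rw [← Scheme.toSpecΓ_preimage_basicOpen]
    change X.toSpecΓ (f q) ∈ PrimeSpectrum.basicOpen g
    have h1 : X.toSpecΓ (f q) = (Spec.map (CommRingCat.ofHom α)) q := by
      rw [← hfι]; rfl
    rw [h1]
    change g ∉ (Spec.map (CommRingCat.ofHom α) q).asIdeal
    intro hmem
    have h2 : α g ∈ q.asIdeal := hmem
    exact q.isPrime.ne_top (Ideal.eq_top_of_isUnit_mem _ h2 hgu)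

end Groth.Agent.H9.QAB
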