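import Mathlib
import Groth.Agent.Lib.Helper5.NApprox.GlueA
import Groth.Agent.Lib.Helper9.Misc.QDG1

open CategoryTheory CategoryTheory.Limits AlgebraicGeometry TopologicalSpace
open Groth.Agent.H5.NApprox (inl_eq_inr_iff pushout_cover)

universe u

namespace Groth.Agent.H9.QDG

section Glue

variable {W X Y : Scheme.{u}} (f : W ⟶ X) (g : W ⟶ Y) [IsOpenImmersion f] [IsOpenImmersion g]

set_option backward.isDefEq.respectTransparency false in
theorem isIso_lift : IsIso (pullback.lift f g pushout.condition :
    W ⟶ pullback (pushout.inl f g) (pushout.inr f g)) := by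
  haveI : IsOpenImmersion ((pullback.lift f g pushout.condition :
      W ⟶ pullback (pushout.inl f g) (pushout.inr f g)) ≫ pullback.snd _ _) := by
    rw [pullback.lift_snd]; infer_instance
  haveI : IsOpenImmersion (pullback.lift f g pushout.condition :
      W ⟶ pullback (pushout.inl f g) (pushout.inr f g)) :=
    IsOpenImmersion.of_comp _ (pullback.snd _ _)
  apply isIso_of_isOpenImmersion_of_opensRange_eq_top
  rw [eq_top_iff]
  rintro z -
  have hz : pushout.inl f g (pullback.fst (pushout.inl f g) (pushout.inr f g) z) =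
      pushout.inr f g (pullback.snd (pushout.inl f g) (pushout.inr f g) z) := by
    rw [← Scheme.Hom.comp_apply, ← Scheme.Hom.comp_apply, pullback.condition]
  obtain ⟨c, hc1, hc2⟩ := (inl_eq_inr_iff f g).mp hz
  refine ⟨c, ?_⟩
  apply (pullback.snd (pushout.inl f g) (pushout.inr f g)).isOpenEmbedding.injective
  rw [← Scheme.Hom.comp_apply, pullback.lift_snd, hc2]

set_option backward.isDefEq.respectTransparency false in
theorem isPullback_pushout : IsPullback f g (pushout.inl f g) (pushout.inr f g) := by
  haveI := isIso_lift f g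
  exact IsPullback.of_iso_pullback ⟨pushout.condition⟩
    (asIso (pullback.lift f g pushout.condition)) (by simp) (by simp)

/-- the two charts of a pushout of open immersions. -/
def chart (X Y : Scheme.{u}) : Bool → Scheme.{u}
  | true => X
  | false => Y

/-- the two chart maps of a pushout of open immersions. -/
noncomputable def chartMap : (b : Bool) → chart X Y b ⟶ pushout f g
  | true => pushout.inl f g
  | false => pushout.inr f g

instance (b : Bool) : IsOpenImmersion (chartMap f g b) := by
  cases b
  · exact inferInstanceAs (IsOpenImmersion (pushout.inr f g))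
  · exact inferInstanceAs (IsOpenImmersion (pushout.inl f g))

/-- the two-chart open cover of a pushout of open immersions. -/
noncomputable def cover : (pushout f g).OpenCover :=
  Scheme.Cover.mkOfCovers Bool (chart X Y) (chartMap f g) (fun x => by
    rcases pushout_cover f g x with ⟨a, ha⟩ | ⟨b, hb⟩
    · exact ⟨true, a, ha⟩
    · exact ⟨false, b, hb⟩) (fun b => inferInstanceAs (IsOpenImmersion (chartMap f g b)))

end Glue

set_option backward.isDefEq.respectTransparency false in
theorem isSeparated_of_cover {Y S : Scheme.{u}} (q : Y ⟶ S) (𝒰 : Y.OpenCover)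
    (H : ∀ a b, IsClosedImmersion (pullback.mapDesc (𝒰.f a) (𝒰.f b) q)) : IsSeparated q := by
  constructor
  refine IsZariskiLocalAtTarget.of_openCover (P := @IsClosedImmersion)
    (Scheme.Pullback.openCoverOfLeftRight 𝒰 𝒰 q q) ?_
  rintro ⟨a, b⟩
  have hp := pullback_map_diagonal_isPullback (𝒰.f a) (𝒰.f b) q
  haveI := H a b
  change IsClosedImmersion (pullback.snd (pullback.diagonal q)
    (pullback.map (𝒰.f a ≫ q) (𝒰.f b ≫ q) q q (𝒰.f a) (𝒰.f b) (𝟙 _)
      (Category.comp_id _) (Category.comp_id _)))
  rw [← hp.isoPullback_inv_snd]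
  infer_instance

set_option backward.isDefEq.respectTransparency false in
theorem isClosedImmersion_mapDesc_self {X Y S : Scheme.{u}} (i : X ⟶ Y) [Mono i] (q : Y ⟶ S)
    [IsSeparated (i ≫ q)] : IsClosedImmersion (pullback.mapDesc i i q) := by
  have h : pullback.diagonal (i ≫ q) = pullback.diagonal i ≫ pullback.mapDesc i i q := by
    ext <;> simp
  have h' : pullback.mapDesc i i q = inv (pullback.diagonal i) ≫ pullback.diagonal (i ≫ q) := by
    rw [h]; simp
  rw [h']; infer_instance

section Glue2

variable {W X Y S : Scheme.{u}} (f : W ⟶ X) (g : W ⟶ Y) [IsOpenImmersion f] [IsOpenImmersion g]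

set_option backward.isDefEq.respectTransparency false in
theorem isClosedImmersion_mapDesc_inl_inr (q : pushout f g ⟶ S)
    (h : f ≫ pushout.inl f g ≫ q = g ≫ pushout.inr f g ≫ q)
    (hc : IsClosedImmersion (pullback.lift f g h)) :
    IsClosedImmersion (pullback.mapDesc (pushout.inl f g) (pushout.inr f g) q) := by
  haveI := isIso_lift f g
  have e : (pullback.lift f g pushout.condition :
      W ⟶ pullback (pushout.inl f g) (pushout.inr f g)) ≫
      pullback.mapDesc (pushout.inl f g) (pushout.inr f g) q = pullback.lift f g h := by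
    ext <;> simp
  have e' : pullback.mapDesc (pushout.inl f g) (pushout.inr f g) q =
      inv (pullback.lift f g pushout.condition :
        W ⟶ pullback (pushout.inl f g) (pushout.inr f g)) ≫ pullback.lift f g h := by
    rw [← e]; simp
  rw [e']; infer_instance

set_option backward.isDefEq.respectTransparency false in
theorem isClosedImmersion_mapDesc_symm {A B Z : Scheme.{u}} (a : A ⟶ Z) (b : B ⟶ Z) (q : Z ⟶ S)
    [IsClosedImmersion (pullback.mapDesc a b q)] : IsClosedImmersion (pullback.mapDesc b a q) := by
  have e : pullback.mapDesc b a q = (pullbackSymmetry b a).hom ≫ pullback.mapDesc a b q ≫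
      (pullbackSymmetry (a ≫ q) (b ≫ q)).hom := by
    ext <;> simp
  rw [e]; infer_instance

theorem isSeparated_of_glue (q : pushout f g ⟶ S) [IsSeparated (pushout.inl f g ≫ q)]
    [IsSeparated (pushout.inr f g ≫ q)]
    (h : f ≫ pushout.inl f g ≫ q = g ≫ pushout.inr f g ≫ q)
    (hc : IsClosedImmersion (pullback.lift f g h)) : IsSeparated q := by
  haveI h12 := isClosedImmersion_mapDesc_inl_inr f g q h hc
  refine isSeparated_of_cover q (cover f g) ?_
  rintro (_ | _) (_ | _)
  · exact isClosedImmersion_mapDesc_self (pushout.inr f g) q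
  · exact isClosedImmersion_mapDesc_symm (pushout.inl f g) (pushout.inr f g) q
  · exact h12
  · exact isClosedImmersion_mapDesc_self (pushout.inl f g) q

theorem locallyOfFiniteType_of_glue (q : pushout f g ⟶ S)
    [LocallyOfFiniteType (pushout.inl f g ≫ q)] [LocallyOfFiniteType (pushout.inr f g ≫ q)] :
    LocallyOfFiniteType q := by
  refine IsZariskiLocalAtSource.of_openCover (P := @LocallyOfFiniteType) (cover f g) ?_
  rintro (_ | _)
  · exact inferInstanceAs (LocallyOfFiniteType (pushout.inr f g ≫ q))
  · exact inferInstanceAs (LocallyOfFiniteType (pushout.inl f g ≫ q))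

theorem quasiCompact_of_glue (q : pushout f g ⟶ S)
    [QuasiCompact (pushout.inl f g ≫ q)] [QuasiCompact (pushout.inr f g ≫ q)] :
    QuasiCompact q := by
  refine ⟨fun V hV hVc => ?_⟩
  have h1 := QuasiCompact.isCompact_preimage (f := pushout.inl f g ≫ q) V hV hVc
  have h2 := QuasiCompact.isCompact_preimage (f := pushout.inr f g ≫ q) V hV hVc
  have e : (q ⁻¹' V : Set ↥(pushout f g)) =
      (pushout.inl f g) '' ((pushout.inl f g ≫ q) ⁻¹' V) ∪
        (pushout.inr f g) '' ((pushout.inr f g ≫ q) ⁻¹' V) := by
    ext z
    constructor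
    · intro hz
      rcases pushout_cover f g z with ⟨a, rfl⟩ | ⟨b, rfl⟩
      · exact Or.inl ⟨a, by simpa using hz, rfl⟩
      · exact Or.inr ⟨b, by simpa using hz, rfl⟩
    · rintro (⟨a, ha, rfl⟩ | ⟨b, hb, rfl⟩)
      · simpa using ha
      · simpa using hb
  rw [e]
  exact (h1.image (pushout.inl f g).continuous).union (h2.image (pushout.inr f g).continuous)

theorem dominant_inl [IsSchemeTheoreticallyDominant g] [QuasiCompact g]
    [QuasiCompact (pushout.inl f g)] :
    IsSchemeTheoreticallyDominant (pushout.inl f g) := by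
  rw [isSchemeTheoreticallyDominant_iff]
  let T := {U : (pushout f g).affineOpens //
    U.1 ≤ (pushout.inl f g).opensRange ∨ U.1 ≤ (pushout.inr f g).opensRange}
  refine Scheme.IdealSheafData.ext_of_iSup_eq_top (ι := T) (fun U => U.1) ?_ ?_
  · rw [eq_top_iff]
    rintro z -
    rcases pushout_cover f g z with hz | hz
    · obtain ⟨_, ⟨U, hU, rfl⟩, hzU, hUle⟩ :=
        (pushout f g).isBasis_affineOpens.exists_subset_of_mem_open
          (show z ∈ ((pushout.inl f g).opensRange : Set _) from hz)
          (pushout.inl f g).opensRange.2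
      exact Opens.mem_iSup.mpr ⟨⟨⟨U, hU⟩, Or.inl hUle⟩, hzU⟩
    · obtain ⟨_, ⟨U, hU, rfl⟩, hzU, hUle⟩ :=
        (pushout f g).isBasis_affineOpens.exists_subset_of_mem_open
          (show z ∈ ((pushout.inr f g).opensRange : Set _) from hz)
          (pushout.inr f g).opensRange.2
      exact Opens.mem_iSup.mpr ⟨⟨⟨U, hU⟩, Or.inr hUle⟩, hzU⟩
  · rintro ⟨U, hU | hU⟩
    · simp only [Scheme.Hom.ker_apply, Scheme.IdealSheafData.ideal_bot, Pi.bot_apply]
      haveI := Scheme.Hom.isIso_app (pushout.inl f g) U.1 hU
      rw [← RingHom.injective_iff_ker_eq_bot]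
      exact ((ConcreteCategory.isIso_iff_bijective _).mp this).1
    · simp only [Scheme.Hom.ker_apply, Scheme.IdealSheafData.ideal_bot, Pi.bot_apply]
      haveI := Scheme.Hom.isIso_app (pushout.inr f g) U.1 hU
      rw [← RingHom.injective_iff_ker_eq_bot, injective_iff_map_eq_zero]
      intro s hs
      have hopen : (f ≫ pushout.inl f g) ⁻¹ᵁ U.1 = (g ≫ pushout.inr f g) ⁻¹ᵁ U.1 := by
        rw [pushout.condition]
      have key : (pushout.inl f g).app U.1 ≫ f.app (pushout.inl f g ⁻¹ᵁ U.1) =
          ((pushout.inr f g).app U.1 ≫ g.app (pushout.inr f g ⁻¹ᵁ U.1)) ≫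
            W.presheaf.map (eqToHom hopen).op := by
        rw [← Scheme.Hom.comp_app, ← Scheme.Hom.comp_app]
        exact Scheme.Hom.congr_app pushout.condition U.1
      have e1 := congrArg (fun φ => φ.hom s) key
      simp only [CommRingCat.hom_comp, RingHom.coe_comp, Function.comp_apply] at e1
      rw [hs, map_zero] at e1
      have h2 : Function.Injective (W.presheaf.map (eqToHom hopen).op).hom :=
        ((ConcreteCategory.isIso_iff_bijective
          (W.presheaf.map (eqToHom hopen).op)).mp inferInstance).1
      have h3 := (injective_iff_map_eq_zero _).mp h2 _ e1.symm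
      have h4 := (injective_iff_map_eq_zero _).mp (g.app_injective _) _ h3
      exact (injective_iff_map_eq_zero _).mp
        ((ConcreteCategory.isIso_iff_bijective _).mp this).1 _ h4

end Glue2

end Groth.Agent.H9.QDG
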