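import Mathlib
import Groth.Agent.Lib.Helper9.Misc.QDG2

open CategoryTheory CategoryTheory.Limits AlgebraicGeometry TopologicalSpace

universe u

namespace Groth.Agent.H9.QDG

theorem S17890_main {S X₁ X₂ U : Scheme.{u}} [IsNoetherian S]
    (p₁ : X₁ ⟶ S) (p₂ : X₂ ⟶ S) [IsSeparated p₁] [QuasiCompact p₁] [LocallyOfFiniteType p₁]
    [IsSeparated p₂] [QuasiCompact p₂] [LocallyOfFiniteType p₂]
    (j₁ : U ⟶ X₁) (j₂ : U ⟶ X₂) [IsOpenImmersion j₁] [IsOpenImmersion j₂]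
    [IsSchemeTheoreticallyDominant j₁] [IsSchemeTheoreticallyDominant j₂] (hj : j₁ ≫ p₁ = j₂ ≫ p₂)
    (W₁ : X₁.Opens) [IsSchemeTheoreticallyDominant W₁.ι] (φ : (↑W₁ : Scheme.{u}) ⟶ X₂)
    (hφ : W₁.ι ≫ p₁ = φ ≫ p₂)
    (hφc : IsClosed (Set.range (fun w => (Limits.pullback.lift W₁.ι φ hφ) w)))
    (k₁ : U ⟶ ↑W₁) (hk₁ : k₁ ≫ W₁.ι = j₁) (hk₁' : k₁ ≫ φ = j₂)
    (W₂ : X₂.Opens) [IsSchemeTheoreticallyDominant W₂.ι] (ψ : (↑W₂ : Scheme.{u}) ⟶ X₁)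
    (hψ : W₂.ι ≫ p₂ = ψ ≫ p₁)
    (hψc : IsClosed (Set.range (fun w => (Limits.pullback.lift W₂.ι ψ hψ) w)))
    (k₂ : U ⟶ ↑W₂) (hk₂ : k₂ ≫ W₂.ι = j₂) (hk₂' : k₂ ≫ ψ = j₁) :
    ∃ (Y : Scheme.{u}) (q : Y ⟶ S) (i₁ : X₁ ⟶ Y) (i₂ : X₂ ⟶ Y), IsSeparated q ∧ QuasiCompact q ∧
      LocallyOfFiniteType q ∧ IsOpenImmersion i₁ ∧ IsOpenImmersion i₂ ∧ i₁ ≫ q = p₁ ∧ i₂ ≫ q = p₂ ∧
      j₁ ≫ i₁ = j₂ ≫ i₂ ∧ QuasiCompact (j₁ ≫ i₁) ∧ IsSchemeTheoreticallyDominant (j₁ ≫ i₁) := by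
  haveI : IsLocallyNoetherian X₁ := LocallyOfFiniteType.isLocallyNoetherian p₁
  haveI : IsLocallyNoetherian X₂ := LocallyOfFiniteType.isLocallyNoetherian p₂
  haveI : CompactSpace X₁ := QuasiCompact.compactSpace_of_compactSpace p₁
  haveI : IsNoetherian X₁ := {}
  obtain ⟨θ, hθ1, hθ2, hθ3, hcl⟩ :=
    exists_iso p₁ p₂ j₁ j₂ hj W₁ φ hφ hφc k₁ hk₁ hk₁' W₂ ψ hψ hψc k₂ hk₂ hk₂'
  haveI : IsOpenImmersion φ := by rw [← hθ1]; infer_instance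
  haveI : IsSchemeTheoreticallyDominant φ := by rw [← hθ1]; infer_instance
  obtain ⟨q, h1, h2⟩ : ∃ q : pushout W₁.ι φ ⟶ S,
      pushout.inl W₁.ι φ ≫ q = p₁ ∧ pushout.inr W₁.ι φ ≫ q = p₂ :=
    ⟨pushout.desc p₁ p₂ hφ, pushout.inl_desc _ _ _, pushout.inr_desc _ _ _⟩
  subst h1 h2
  haveI : IsLocallyNoetherian (pushout W₁.ι φ) := by
    rw [isLocallyNoetherian_iff_openCover (cover W₁.ι φ)]
    rintro (_ | _)
    · exact inferInstanceAs (IsLocallyNoetherian X₂)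
    · exact inferInstanceAs (IsLocallyNoetherian X₁)
  haveI : NoetherianSpace U := j₁.isOpenEmbedding.isInducing.noetherianSpace
  refine ⟨pushout W₁.ι φ, q, pushout.inl _ _, pushout.inr _ _, ?_, quasiCompact_of_glue _ _ q,
    locallyOfFiniteType_of_glue _ _ q, inferInstance, inferInstance, rfl, rfl, ?_,
    inferInstance, ?_⟩
  · exact isSeparated_of_glue W₁.ι φ q hφ hcl
  · rw [← hk₁, ← hk₁', Category.assoc, Category.assoc, pushout.condition]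
  · haveI := dominant_inl W₁.ι φ
    infer_instance

end Groth.Agent.H9.QDG
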