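import Mathlib
import Groth.Prelude.Def_QuotSh
import Groth.Prelude.Def_AlgGrp
import Groth.Agent.Lib.Helper3.QuotShEff
import Groth.Agent.Lib.Helper9.Misc.FLH2

/-! Helper9: consequences of `QuotSh.IsQuotient` for a pre-relation: local lifts, the local
relation (two points with the same image are locally related), descent of morphisms. -/

set_option autoImplicit false
set_option linter.style.haveILetI false
set_option linter.unusedSectionVars false
set_option linter.unusedVariables false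

universe u

open CategoryTheory Limits AlgebraicGeometry Opposite

namespace Groth.Agent.H9.QGQ

open Groth.Agent.S7490 (F F_map)
open Groth.Agent.H3.QuotShEff

variable (K : Precoverage Scheme.{u}) {S : Scheme.{u}}

section general

variable {R U M : Over S} (s t : R ⟶ U) (q : U ⟶ M)

theorem hasLocalLifts_of_isQuotient (h : QuotSh.IsQuotient K s t q) : HasLocalLifts K q := by
  obtain ⟨w, hiso⟩ := h
  haveI : IsIso (QuotSh.quotDesc K q w) := hiso
  have hq : QuotSh.quotπ K s t ≫ QuotSh.quotDesc K q w = QuotSh.repMap K q :=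
    coequalizer.π_desc _ _
  rw [← epi_repMap_iff, ← hq]
  haveI : Epi (QuotSh.quotπ K s t) :=
    (coequalizer.π_epi : Epi (coequalizer.π (QuotSh.repMap K s) (QuotSh.repMap K t)))
  exact epi_comp _ _

/-- the relation on `T`-points given by the pre-relation -/
def Rel (T : Over S) (x x' : T ⟶ U) : Prop := ∃ w : T ⟶ R, w ≫ s = x ∧ w ≫ t = x'

/-- the presheaf quotient of `h_U` by the pre-relation -/
def Q0 : (Over S)ᵒᵖ ⥤ Type (u + 1) where
  obj T := ULift.{u + 1} (Quot (Rel s t T.unop))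
  map {T T'} f := TypeCat.ofHom (fun z : ULift.{u + 1} (Quot (Rel s t T.unop)) =>
    (ULift.up (Quot.map (fun x : T.unop ⟶ U => f.unop ≫ x) (by
      rintro x x' ⟨w, rfl, rfl⟩
      exact ⟨f.unop ≫ w, Category.assoc _ _ _, Category.assoc _ _ _⟩) z.down) :
      ULift.{u + 1} (Quot (Rel s t T'.unop))))
  map_id T := by
    ext ⟨z⟩
    obtain ⟨x, rfl⟩ := Quot.exists_rep z
    exact congrArg (Quot.mk _) (Category.id_comp x)
  map_comp f g := by
    ext ⟨z⟩
    obtain ⟨x, rfl⟩ := Quot.exists_rep z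
    exact congrArg (Quot.mk _) (Category.assoc g.unop f.unop x)

/-- the quotient map of presheaves -/
def π0 : (yoneda.obj U ⋙ uliftFunctor.{u + 1, u}) ⟶ Q0 s t where
  app T := TypeCat.ofHom (fun z : ULift.{u + 1} (T.unop ⟶ U) =>
    (ULift.up (Quot.mk _ z.down) : ULift.{u + 1} (Quot (Rel s t T.unop))))
  naturality T T' f := by
    ext ⟨x⟩
    rfl

lemma cond : Functor.whiskerRight (yoneda.map s) uliftFunctor.{u + 1, u} ≫ π0 s t =
    Functor.whiskerRight (yoneda.map t) uliftFunctor.{u + 1, u} ≫ π0 s t := by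
  ext T ⟨w⟩
  exact congrArg ULift.up (Quot.sound ⟨w, rfl, rfl⟩)

theorem local_rel (h : QuotSh.IsQuotient K s t q) {T : Over S} (x1 x2 : T ⟶ U)
    (hx : x1 ≫ q = x2 ≫ q) :
    ∃ Sv ∈ QuotSh.J K S T, ∀ ⦃T' : Over S⦄ (y : T' ⟶ T), Sv y →
      Relation.EqvGen (Rel s t T') (y ≫ x1) (y ≫ x2) := by
  obtain ⟨w, hiso⟩ := h
  haveI : IsIso (QuotSh.quotDesc K q w) := hiso
  let A := presheafToSheaf (QuotSh.J K S) (Type (u + 1))
  have hφ : QuotSh.repMap K s ≫ A.map (π0 s t) = QuotSh.repMap K t ≫ A.map (π0 s t) := by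
    show A.map _ ≫ A.map _ = A.map _ ≫ A.map _
    rw [← A.map_comp, ← A.map_comp, cond]
  let ψ' : QuotSh.quot K s t ⟶ A.obj (Q0 s t) := coequalizer.desc (A.map (π0 s t)) hφ
  let ψ : QuotSh.rep K M ⟶ A.obj (Q0 s t) := inv (QuotSh.quotDesc K q w) ≫ ψ'
  have hψ : QuotSh.repMap K q ≫ ψ = A.map (π0 s t) := by
    have hq : QuotSh.quotπ K s t ≫ QuotSh.quotDesc K q w = QuotSh.repMap K q :=
      coequalizer.π_desc _ _
    rw [← hq]
    show (QuotSh.quotπ K s t ≫ QuotSh.quotDesc K q w) ≫ inv (QuotSh.quotDesc K q w) ≫ ψ' = _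
    rw [Category.assoc, IsIso.hom_inv_id_assoc]
    exact coequalizer.π_desc _ _
  have e1 : (A.map (π0 s t)).hom = (QuotSh.repMap K q).hom ≫ ψ.hom := by
    rw [← hψ]; rfl
  have key : π0 s t ≫ toSheafify (QuotSh.J K S) (Q0 s t) =
      Functor.whiskerRight (yoneda.map q) uliftFunctor.{u + 1, u} ≫
        toSheafify (QuotSh.J K S) _ ≫ ψ.hom := by
    calc π0 s t ≫ toSheafify (QuotSh.J K S) (Q0 s t)
        = toSheafify (QuotSh.J K S) _ ≫ sheafifyMap (QuotSh.J K S) (π0 s t) :=
          toSheafify_naturality _ _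
      _ = toSheafify (QuotSh.J K S) _ ≫
          (sheafifyMap (QuotSh.J K S)
            (Functor.whiskerRight (yoneda.map q) uliftFunctor.{u + 1, u}) ≫ ψ.hom) := by
          show _ ≫ (A.map (π0 s t)).hom = _
          rw [e1]
      _ = (Functor.whiskerRight (yoneda.map q) uliftFunctor.{u + 1, u} ≫
          toSheafify (QuotSh.J K S) _) ≫ ψ.hom := by
          rw [← Category.assoc, ← toSheafify_naturality]
      _ = _ := Category.assoc _ _ _
  have h1 : ∀ x : T ⟶ U, (toSheafify (QuotSh.J K S) (Q0 s t)).app (op T)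
      ((π0 s t).app (op T) (ULift.up x)) =
      ψ.hom.app (op T) ((toSheafify (QuotSh.J K S)
        (yoneda.obj M ⋙ uliftFunctor.{u + 1, u})).app (op T) (ULift.up (x ≫ q))) := by
    intro x
    exact congrArg (fun η => η.app (op T) (ULift.up x)) key
  have hel : (toSheafify (QuotSh.J K S) (Q0 s t)).app (op T)
      ((π0 s t).app (op T) (ULift.up x1)) =
      (toSheafify (QuotSh.J K S) (Q0 s t)).app (op T)
      ((π0 s t).app (op T) (ULift.up x2)) := by
    rw [h1 x1, h1 x2, hx]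
  have hmem := Presheaf.equalizerSieve_mem (QuotSh.J K S)
    (toSheafify (QuotSh.J K S) (Q0 s t)) _ _ hel
  refine ⟨_, hmem, ?_⟩
  intro T' y hy
  have h3 : Quot.mk (Rel s t T') (y ≫ x1) = Quot.mk (Rel s t T') (y ≫ x2) :=
    congrArg ULift.down hy
  exact Quot.eqvGen_exact h3

theorem desc_of_isQuotient [(QuotSh.J K S).Subcanonical] {Z : Over S}
    (h : QuotSh.IsQuotient K s t q) (φ : U ⟶ Z) (hφ : s ≫ φ = t ≫ φ) :
    ∃ φ' : M ⟶ Z, q ≫ φ' = φ := by
  obtain ⟨w, hiso⟩ := h
  haveI : IsIso (QuotSh.quotDesc K q w) := hiso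
  have hc : QuotSh.repMap K s ≫ QuotSh.repMap K φ = QuotSh.repMap K t ≫ QuotSh.repMap K φ := by
    show (F K S).map s ≫ (F K S).map φ = (F K S).map t ≫ (F K S).map φ
    rw [← Functor.map_comp, ← Functor.map_comp, hφ]
  let ψ : QuotSh.rep K M ⟶ QuotSh.rep K Z :=
    inv (QuotSh.quotDesc K q w) ≫ coequalizer.desc (QuotSh.repMap K φ) hc
  have hψ : QuotSh.repMap K q ≫ ψ = QuotSh.repMap K φ := by
    have hq : QuotSh.quotπ K s t ≫ QuotSh.quotDesc K q w = QuotSh.repMap K q :=
      coequalizer.π_desc _ _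
    rw [← hq]
    show (QuotSh.quotπ K s t ≫ QuotSh.quotDesc K q w) ≫ inv (QuotSh.quotDesc K q w) ≫
      coequalizer.desc (QuotSh.repMap K φ) hc = _
    rw [Category.assoc, IsIso.hom_inv_id_assoc]
    exact coequalizer.π_desc _ _
  let ψ₂ : (F K S).obj M ⟶ (F K S).obj Z := ψ
  refine ⟨(F K S).preimage ψ₂, (F K S).map_injective ?_⟩
  rw [Functor.map_comp, Functor.map_preimage]
  exact hψ

theorem epi_of_hasLocalLifts [(QuotSh.J K S).Subcanonical] (h : HasLocalLifts K q) : Epi q := by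
  haveI : Epi ((F K S).map q) := by
    rw [F_map]; exact (epi_repMap_iff K q).2 h
  exact (F K S).epi_of_epi_map inferInstance

end general

end Groth.Agent.H9.QGQ
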