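import Mathlib
import Groth.Prelude.Def_NonAbH2
import Groth.Agent.Lib.Helper9.Misc.QGQ1
import Groth.Agent.Lib.Helper5.AlgSp.FppfLocal

/-! Helper9: fppf sheaf quotient by a group action: concrete fppf families of local sections and
of local orbit relations. -/

set_option autoImplicit false
set_option linter.style.haveILetI false
set_option linter.unusedSectionVars false
set_option linter.unusedVariables false

universe u

open CategoryTheory Limits AlgebraicGeometry Opposite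
open MonoidalCategory CartesianMonoidalCategory MonObj GrpObj

namespace Groth.Agent.H9.QGQ

open Groth.Agent.H3.QuotShEff

variable {S : Scheme.{u}} {G X Y : Over S} [GrpObj G] (a : AlgGrp.Action G X)

lemma rel_iff {T : Over S} (x x' : T ⟶ X) :
    Rel a.act (snd G X) T x x' ↔ ∃ g : T ⟶ G, FLH.smul a g x' = x := by
  constructor
  · rintro ⟨w, rfl, rfl⟩
    refine ⟨w ≫ fst G X, ?_⟩
    unfold FLH.smul
    rw [← comp_lift, lift_fst_snd, Category.comp_id]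
  · rintro ⟨g, rfl⟩
    exact ⟨lift g x', rfl, lift_snd _ _⟩

lemma rel_of_eqvGen {T : Over S} {x x' : T ⟶ X}
    (h : Relation.EqvGen (Rel a.act (snd G X) T) x x') : Rel a.act (snd G X) T x x' := by
  induction h with
  | rel _ _ h => exact h
  | refl x => exact (rel_iff a _ _).2 ⟨1, FLH.one_smul a x⟩
  | symm x y _ ih =>
    obtain ⟨g, hg⟩ := (rel_iff a _ _).1 ih
    refine (rel_iff a _ _).2 ⟨g⁻¹, ?_⟩
    rw [← hg, ← FLH.mul_smul, _root_.inv_mul_cancel, FLH.one_smul]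
  | trans x y z _ _ ih1 ih2 =>
    obtain ⟨g, hg⟩ := (rel_iff a _ _).1 ih1
    obtain ⟨h, hh⟩ := (rel_iff a _ _).1 ih2
    exact (rel_iff a _ _).2 ⟨g * h, by rw [FLH.mul_smul, hh, hg]⟩

variable (K : Precoverage Scheme.{u})

theorem local_orbit (q : X ⟶ Y) (hq : QuotSh.IsQuotient K a.act (snd G X) q) {T : Over S}
    (x1 x2 : T ⟶ X) (hx : x1 ≫ q = x2 ≫ q) :
    ∃ Sv ∈ QuotSh.J K S T, ∀ ⦃T' : Over S⦄ (y : T' ⟶ T), Sv y →
      ∃ w : T' ⟶ G ⊗ X, w ≫ a.act = y ≫ x1 ∧ w ≫ snd G X = y ≫ x2 := by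
  obtain ⟨Sv, hSv, hrel⟩ := local_rel K a.act (snd G X) q hq x1 x2 hx
  exact ⟨Sv, hSv, fun T' y hy => rel_of_eqvGen a (hrel y hy)⟩

theorem exists_sections (q : X ⟶ Y)
    (hq : QuotSh.IsQuotient Scheme.fppfPrecoverage a.act (snd G X) q) :
    ∃ (V : Y.left → Scheme.{u}) (g : ∀ i, V i ⟶ Y.left) (σ : ∀ i, V i ⟶ X.left),
      (∀ i, i ∈ Set.range (g i).base) ∧
      (∀ i, Flat (g i) ∧ LocallyOfFinitePresentation (g i)) ∧ ∀ i, σ i ≫ q.left = g i := by
  have hl := hasLocalLifts_of_isQuotient Scheme.fppfPrecoverage a.act (snd G X) q hq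
  obtain ⟨R₀, hR₀, hsec⟩ := isLocallyTrivialFor_of_hasLocalLifts Scheme.fppfPrecoverage q hl
  obtain ⟨V, g, hg, hx, hfl⟩ := Groth.Agent.H5.AlgSp.exists_small_subfamily hR₀
  have hσ : ∀ i, ∃ σ : V i ⟶ X.left, σ ≫ q.left = g i := fun i => hsec (g i) (hg i)
  choose σ hσ' using hσ
  exact ⟨V, g, σ, hx, hfl, hσ'⟩

theorem exists_orbit_cover (q : X ⟶ Y)
    (hq : QuotSh.IsQuotient Scheme.fppfPrecoverage a.act (snd G X) q) {T : Over S}
    (x1 x2 : T ⟶ X) (hx : x1 ≫ q = x2 ≫ q) :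
    ∃ (V : T.left → Scheme.{u}) (g : ∀ i, V i ⟶ T.left) (w : ∀ i, V i ⟶ (G ⊗ X).left),
      (∀ i, i ∈ Set.range (g i).base) ∧
      (∀ i, Flat (g i) ∧ LocallyOfFinitePresentation (g i)) ∧
      ∀ i, w i ≫ a.act.left = g i ≫ x1.left ∧ w i ≫ (snd G X).left = g i ≫ x2.left := by
  obtain ⟨Sv, hSv, hrel⟩ := local_orbit a Scheme.fppfPrecoverage q hq x1 x2 hx
  rw [GrothendieckTopology.mem_over_iff,
    Precoverage.mem_toGrothendieck_iff_of_isStableUnderComposition] at hSv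
  obtain ⟨R₀, hR₀, hle⟩ := hSv
  obtain ⟨V, g, hg, hx', hfl⟩ := Groth.Agent.H5.AlgSp.exists_small_subfamily hR₀
  have hw : ∀ i, ∃ w : V i ⟶ (G ⊗ X).left,
      w ≫ a.act.left = g i ≫ x1.left ∧ w ≫ (snd G X).left = g i ≫ x2.left := by
    intro i
    have h1 := hle _ _ (hg i)
    rw [Sieve.overEquiv_iff] at h1
    obtain ⟨w, hw1, hw2⟩ := hrel _ h1
    exact ⟨w.left, congrArg (fun k => k.left) hw1, congrArg (fun k => k.left) hw2⟩
  choose w hw' using hw
  exact ⟨V, g, w, hx', hfl, hw'⟩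

end Groth.Agent.H9.QGQ
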