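import Mathlib
import Groth.Prelude.Def_W4bk4git07Quot
import Groth.Agent.Lib.Helper9.Misc.QGQ2

/-! Helper9: fppf sheaf quotient by a group action: surjectivity, orbits, universal submersivity. -/

set_option autoImplicit false
set_option linter.style.haveILetI false
set_option linter.unusedSectionVars false
set_option linter.unusedVariables false

universe u

open CategoryTheory Limits AlgebraicGeometry Opposite
open MonoidalCategory CartesianMonoidalCategory MonObj GrpObj

namespace Groth.Agent.H9.QGQ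

section top

/-- a morphism with sections over a jointly surjective family of open maps is a quotient map -/
theorem isQuotientMap_of_sections {X' Y' : Scheme.{u}} (f' : X' ⟶ Y') {I : Type*}
    (V : I → Scheme.{u}) (g : ∀ i, V i ⟶ Y') (σ : ∀ i, V i ⟶ X')
    (hsurj : ∀ y : Y', ∃ i, y ∈ Set.range (g i).base)
    (hopen : ∀ i, IsOpenMap (g i).base) (hσ : ∀ i, σ i ≫ f' = g i) :
    Topology.IsQuotientMap f'.base := by
  have hs : Function.Surjective f'.base := by
    intro y
    obtain ⟨i, v, hv⟩ := hsurj y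
    refine ⟨(σ i).base v, ?_⟩
    rw [← hv, ← hσ i]
    rfl
  refine ⟨Topology.isCoinducing_iff.2 fun s => ⟨fun h => ?_, fun h => h.preimage f'.continuous⟩, hs⟩
  have hpre : ∀ i, IsOpen ((g i).base ⁻¹' s) := by
    intro i
    have : (g i).base ⁻¹' s = (σ i).base ⁻¹' (f'.base ⁻¹' s) := by
      rw [← hσ i]; rfl
    rw [this]
    exact h.preimage (σ i).continuous
  have hs_eq : s = ⋃ i, (g i).base '' ((g i).base ⁻¹' s) := by
    ext y
    constructor
    · intro hy
      obtain ⟨i, v, hv⟩ := hsurj y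
      exact Set.mem_iUnion.2 ⟨i, v, by rw [Set.mem_preimage, hv]; exact hy, hv⟩
    · intro hy
      obtain ⟨i, v, hv, rfl⟩ := Set.mem_iUnion.1 hy
      exact hv
  rw [hs_eq]
  exact isOpen_iUnion fun i => hopen i _ (hpre i)

theorem univSubm_of_sections {X₀ Y₀ : Scheme.{u}} (f : X₀ ⟶ Y₀) {I : Type*}
    (V : I → Scheme.{u}) (g : ∀ i, V i ⟶ Y₀) (σ : ∀ i, V i ⟶ X₀)
    (hsurj : ∀ y : Y₀, ∃ i, y ∈ Set.range (g i).base)
    (hfl : ∀ i, Flat (g i) ∧ LocallyOfFinitePresentation (g i)) (hσ : ∀ i, σ i ≫ f = g i) :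
    GIT.IsUnivSubmersive f := by
  intro X' Y' i₁ i₂ f' hpb
  have hc : ∀ i, pullback.snd (g i) i₂ ≫ i₂ = (pullback.fst (g i) i₂ ≫ σ i) ≫ f := by
    intro i
    rw [Category.assoc, hσ i, pullback.condition]
  refine isQuotientMap_of_sections f' (fun i => pullback (g i) i₂)
    (fun i => pullback.snd (g i) i₂)
    (fun i => hpb.lift (pullback.snd (g i) i₂) (pullback.fst (g i) i₂ ≫ σ i) (hc i)) ?_ ?_ ?_
  · intro y'
    obtain ⟨i, v, hv⟩ := hsurj (i₂.base y')
    obtain ⟨z, hz1, hz2⟩ := Scheme.Pullback.exists_preimage_pullback v y' hv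
    exact ⟨i, z, hz2⟩
  · intro i
    haveI := (hfl i).1
    haveI := (hfl i).2
    exact (pullback.snd (g i) i₂).isOpenMap
  · intro i
    exact hpb.lift_fst _ _ _

end top

variable {S : Scheme.{u}} {G X Y : Over S} [GrpObj G] (a : AlgGrp.Action G X)

theorem surjective_of_isQuotient (q : X ⟶ Y)
    (hq : QuotSh.IsQuotient Scheme.fppfPrecoverage a.act (snd G X) q) :
    Function.Surjective q.left.base := by
  obtain ⟨V, g, σ, hsurj, hfl, hσ⟩ := exists_sections a q hq
  intro y
  obtain ⟨v, hv⟩ := hsurj y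
  refine ⟨(σ y).base v, ?_⟩
  have h1 : q.left.base ((σ y).base v) = (g y).base v := by
    rw [← hσ y]; rfl
  rw [h1, hv]

theorem univSubm_of_isQuotient (q : X ⟶ Y)
    (hq : QuotSh.IsQuotient Scheme.fppfPrecoverage a.act (snd G X) q) :
    GIT.IsUnivSubmersive q.left := by
  obtain ⟨V, g, σ, hsurj, hfl, hσ⟩ := exists_sections a q hq
  exact univSubm_of_sections q.left V g σ (fun y => ⟨y, hsurj y⟩) hfl hσ

theorem orbit_of_isQuotient (q : X ⟶ Y)
    (hq : QuotSh.IsQuotient Scheme.fppfPrecoverage a.act (snd G X) q)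
    (hinv : GIT.IsInvariant a q) :
    Function.Surjective (GIT.PsiY a q hinv).base := by
  intro z
  let ι₀ : Spec ((pullback q.left q.left).residueField z) ⟶ pullback q.left q.left :=
    (pullback q.left q.left).fromSpecResidueField z
  let T : Over S := Over.mk (ι₀ ≫ pullback.fst q.left q.left ≫ X.hom)
  let x1 : T ⟶ X := Over.homMk (ι₀ ≫ pullback.fst q.left q.left) (Category.assoc _ _ _)
  let x2 : T ⟶ X := Over.homMk (ι₀ ≫ pullback.snd q.left q.left) (by
    show (ι₀ ≫ pullback.snd q.left q.left) ≫ X.hom = ι₀ ≫ pullback.fst q.left q.left ≫ X.hom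
    rw [← Over.w q, Category.assoc, ← Category.assoc (pullback.snd q.left q.left),
      ← pullback.condition, Category.assoc])
  have hx : x1 ≫ q = x2 ≫ q := by
    ext
    show (ι₀ ≫ pullback.fst q.left q.left) ≫ q.left = (ι₀ ≫ pullback.snd q.left q.left) ≫ q.left
    rw [Category.assoc, Category.assoc, pullback.condition]
  obtain ⟨V, g, w, hsurj, hfl, hw⟩ := exists_orbit_cover a q hq x1 x2 hx
  obtain ⟨t₀⟩ : Nonempty (Spec ((pullback q.left q.left).residueField z)) := inferInstance
  obtain ⟨v, hv⟩ := hsurj t₀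
  refine ⟨(w t₀).base v, ?_⟩
  have hcomp : w t₀ ≫ GIT.PsiY a q hinv = g t₀ ≫ ι₀ := by
    apply pullback.hom_ext
    · have h1 : GIT.PsiY a q hinv ≫ pullback.fst q.left q.left = a.act.left :=
        pullback.lift_fst _ _ _
      rw [Category.assoc, h1, Category.assoc]
      exact (hw t₀).1
    · have h1 : GIT.PsiY a q hinv ≫ pullback.snd q.left q.left = (snd G X).left :=
        pullback.lift_snd _ _ _
      rw [Category.assoc, h1, Category.assoc]
      exact (hw t₀).2
  have h2 : (GIT.PsiY a q hinv).base ((w t₀).base v) = ι₀.base ((g t₀).base v) :=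
    congrArg (fun m => m.base v) hcomp
  rw [h2, hv]
  exact (pullback q.left q.left).fromSpecResidueField_apply z t₀

end Groth.Agent.H9.QGQ
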