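import Mathlib

universe u

open CategoryTheory TopologicalSpace Opposite AlgebraicGeometry

namespace Groth.Agent.H9.SchQ2

theorem appLE_congr_hom {U W : Scheme.{u}} (m m' : U ⟶ W) (em : m = m') (O : W.Opens)
    (X : U.Opens) (e1 : X ≤ m ⁻¹ᵁ O) (e2 : X ≤ m' ⁻¹ᵁ O) : m.appLE O X e1 = m'.appLE O X e2 := by
  subst em; rfl

theorem epi_of_surj_inj {U V : Scheme.{u}} (h : U ⟶ V) (hsurj : Function.Surjective h.base)
    (hinj : ∀ O : V.Opens, Function.Injective (h.app O)) (W : Scheme.{u})
    (v₁ v₂ : V ⟶ W) (e : h ≫ v₁ = h ≫ v₂) : v₁ = v₂ := by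
  haveI : ∀ O : V.Opens, Mono (h.app O) := fun O =>
    ConcreteCategory.mono_of_injective _ (hinj O)
  have hb : v₁.base = v₂.base := by
    have e' : h.base ≫ v₁.base = h.base ≫ v₂.base := congrArg (fun m => m.base) e
    haveI : Epi h.base := (TopCat.epi_iff_surjective _).mpr hsurj
    exact (cancel_epi h.base).mp e'
  refine Scheme.Hom.ext hb (fun O => ?_)
  rw [v₁.app_eq_appLE, Scheme.Hom.appLE_map, ← cancel_mono (h.app (v₂ ⁻¹ᵁ O)), v₂.app_eq_appLE,
    h.app_eq_appLE, Scheme.Hom.appLE_comp_appLE, Scheme.Hom.appLE_comp_appLE]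
  exact appLE_congr_hom _ _ e O _ _ _

theorem exists_desc {P U V W : Scheme.{u}} (σ p : P ⟶ U) (h : U ⟶ V) (u : U ⟶ W)
    (hu : σ ≫ u = p ≫ u)
    (hsurj : Function.Surjective h.base) (hq : Topology.IsQuotientMap h.base)
    (horb : ∀ x y : U, h.base x = h.base y → ∃ w : P, σ.base w = x ∧ p.base w = y)
    (hinj : ∀ O : V.Opens, Function.Injective (h.app O))
    (hsec : ∀ (O : V.Opens) (f : Γ(U, h ⁻¹ᵁ O)),
      σ.appLE (h ⁻¹ᵁ O) (σ ⁻¹ᵁ (h ⁻¹ᵁ O) ⊓ p ⁻¹ᵁ (h ⁻¹ᵁ O)) inf_le_left f =
        p.appLE (h ⁻¹ᵁ O) (σ ⁻¹ᵁ (h ⁻¹ᵁ O) ⊓ p ⁻¹ᵁ (h ⁻¹ᵁ O)) inf_le_right f →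
      f ∈ Set.range (h.app O)) :
    ∃ v : V ⟶ W, h ≫ v = u := by
  classical
  haveI : ∀ O : V.Opens, Mono (h.app O) := fun O =>
    ConcreteCategory.mono_of_injective _ (hinj O)
  have hfib : ∀ x y : U, h.base x = h.base y → u.base x = u.base y := by
    intro x y hxy
    obtain ⟨w, rfl, rfl⟩ := horb x y hxy
    have e1 : (σ ≫ u).base w = (p ≫ u).base w := by rw [hu]
    exact e1
  let v0f : V → W := fun y => u.base (Function.surjInv hsurj y)
  have hv0 : ∀ x : U, v0f (h.base x) = u.base x := fun x =>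
    hfib _ _ (Function.surjInv_eq hsurj (h.base x))
  have hcont : Continuous v0f := by
    rw [hq.continuous_iff]
    have : v0f ∘ h.base = u.base := funext hv0
    rw [this]
    exact u.base.hom.continuous
  let v0 : V.carrier ⟶ W.carrier := TopCat.ofHom ⟨v0f, hcont⟩
  have hbase : h.base ≫ v0 = u.base := by
    ext x
    exact hv0 x
  have eO : ∀ O : W.Opens,
      (Opens.map u.base).obj O = (Opens.map h.base).obj ((Opens.map v0).obj O) := fun O =>
    (congrArg (fun m => (Opens.map m).obj O) hbase).symm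
  have hmem : ∀ (O : W.Opens) (s : Γ(W, O)), ∃ t : Γ(V, (Opens.map v0).obj O),
      (h.app ((Opens.map v0).obj O)).hom t =
        (u.appLE O ((Opens.map h.base).obj ((Opens.map v0).obj O)) (eO O).ge).hom s := by
    intro O s
    have hr := hsec ((Opens.map v0).obj O)
      ((u.appLE O ((Opens.map h.base).obj ((Opens.map v0).obj O)) (eO O).ge).hom s) ?_
    · obtain ⟨t, ht⟩ := hr
      exact ⟨t, ht⟩
    · have k1 := Scheme.Hom.appLE_comp_appLE σ u O
        ((Opens.map h.base).obj ((Opens.map v0).obj O))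
        (σ ⁻¹ᵁ (h ⁻¹ᵁ ((Opens.map v0).obj O)) ⊓ p ⁻¹ᵁ (h ⁻¹ᵁ ((Opens.map v0).obj O)))
        (eO O).ge inf_le_left
      have k2 := Scheme.Hom.appLE_comp_appLE p u O
        ((Opens.map h.base).obj ((Opens.map v0).obj O))
        (σ ⁻¹ᵁ (h ⁻¹ᵁ ((Opens.map v0).obj O)) ⊓ p ⁻¹ᵁ (h ⁻¹ᵁ ((Opens.map v0).obj O)))
        (eO O).ge inf_le_right
      have k3 := appLE_congr_hom _ _ hu O
        (σ ⁻¹ᵁ (h ⁻¹ᵁ ((Opens.map v0).obj O)) ⊓ p ⁻¹ᵁ (h ⁻¹ᵁ ((Opens.map v0).obj O)))
        ((inf_le_left).trans ((Opens.map σ.base).map (homOfLE (eO O).ge)).le)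
        ((inf_le_right).trans ((Opens.map p.base).map (homOfLE (eO O).ge)).le)
      have k4 := congrArg (fun m => m.hom s) (k1.trans (k3.trans k2.symm))
      exact k4
  choose cfun hcfun using hmem
  let cO : ∀ O : W.Opens, Γ(W, O) ⟶ Γ(V, (Opens.map v0).obj O) := fun O =>
    CommRingCat.ofHom
      { toFun := cfun O
        map_one' := hinj _ (by
          show (h.app ((Opens.map v0).obj O)).hom (cfun O 1) = (h.app ((Opens.map v0).obj O)).hom 1
          rw [hcfun, map_one, map_one])
        map_mul' := fun a b => hinj _ (by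
          show (h.app ((Opens.map v0).obj O)).hom (cfun O (a * b)) =
            (h.app ((Opens.map v0).obj O)).hom (cfun O a * cfun O b)
          rw [hcfun, map_mul, map_mul, hcfun, hcfun])
        map_zero' := hinj _ (by
          show (h.app ((Opens.map v0).obj O)).hom (cfun O 0) = (h.app ((Opens.map v0).obj O)).hom 0
          rw [hcfun, map_zero, map_zero])
        map_add' := fun a b => hinj _ (by
          show (h.app ((Opens.map v0).obj O)).hom (cfun O (a + b)) =
            (h.app ((Opens.map v0).obj O)).hom (cfun O a + cfun O b)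
          rw [hcfun, map_add, map_add, hcfun, hcfun]) }
  have e2 : ∀ O : W.Opens, cO O ≫ h.app ((Opens.map v0).obj O) =
      u.appLE O ((Opens.map h.base).obj ((Opens.map v0).obj O)) (eO O).ge := by
    intro O
    ext s
    exact hcfun O s
  let c : W.presheaf ⟶ (TopCat.Presheaf.pushforward _ v0).obj V.presheaf :=
    { app := fun O => cO O.unop
      naturality := by
        intro O O' i
        show W.presheaf.map i ≫ cO O'.unop =
          cO O.unop ≫ V.presheaf.map ((Opens.map v0).map i.unop).op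
        rw [← cancel_mono (h.app ((Opens.map v0).obj O'.unop))]
        have l1 : (W.presheaf.map i ≫ cO O'.unop) ≫ h.app ((Opens.map v0).obj O'.unop) =
            u.appLE O.unop ((Opens.map h.base).obj ((Opens.map v0).obj O'.unop))
              (le_trans (eO O'.unop).ge ((Opens.map u.base).map i.unop).le) := by
          rw [Category.assoc, e2]
          exact Scheme.Hom.map_appLE u _ i
        have l2 : (cO O.unop ≫ V.presheaf.map ((Opens.map v0).map i.unop).op) ≫
              h.app ((Opens.map v0).obj O'.unop) =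
            u.appLE O.unop ((Opens.map h.base).obj ((Opens.map v0).obj O'.unop))
              (le_trans (eO O'.unop).ge ((Opens.map u.base).map i.unop).le) := by
          rw [Category.assoc, h.naturality, ← Category.assoc, e2]
          exact Scheme.Hom.appLE_map u _ _
        exact l1.trans l2.symm }
  let vP : V.toPresheafedSpace.Hom W.toPresheafedSpace := { base := v0, c := c }
  have hprop : ∀ x : V, IsLocalHom (vP.stalkMap x).hom := by
    intro x
    obtain ⟨y, rfl⟩ := hsurj x
    constructor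
    intro a ha
    obtain ⟨O, hO, s, rfl⟩ := W.presheaf.exists_germ_eq (x := v0 (h.base y)) a
    have hO' : u.base y ∈ O := by
      have := hv0 y
      rw [← this]; exact hO
    have e1 : (vP.stalkMap (h.base y)).hom (W.presheaf.germ O (v0 (h.base y)) hO s) =
        V.presheaf.germ ((Opens.map v0).obj O) (h.base y) hO (cO O s) :=
      PresheafedSpace.stalkMap_germ_apply vP O (h.base y) hO s
    have ha1 : IsUnit (V.presheaf.germ ((Opens.map v0).obj O) (h.base y) hO (cO O s)) :=
      (congrArg IsUnit e1).mp ha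
    have ha2 : IsUnit ((h.stalkMap y).hom
        (V.presheaf.germ ((Opens.map v0).obj O) (h.base y) hO (cO O s))) :=
      ha1.map (h.stalkMap y).hom
    have e3 : (h.stalkMap y).hom
        (V.presheaf.germ ((Opens.map v0).obj O) (h.base y) hO (cO O s)) =
        U.presheaf.germ ((Opens.map h.base).obj ((Opens.map v0).obj O)) y hO
          (h.app ((Opens.map v0).obj O) (cO O s)) :=
      Scheme.Hom.germ_stalkMap_apply h ((Opens.map v0).obj O) y hO (cO O s)
    have e4 : h.app ((Opens.map v0).obj O) (cO O s) =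
        U.presheaf.map (homOfLE (eO O).ge).op (u.app O s) := by
      have := e2 O
      have h4 : (cO O ≫ h.app ((Opens.map v0).obj O)) s =
          (u.appLE O ((Opens.map h.base).obj ((Opens.map v0).obj O)) (eO O).ge) s := by
        rw [this]
      exact h4
    have e5 : U.presheaf.germ ((Opens.map h.base).obj ((Opens.map v0).obj O)) y hO
          (U.presheaf.map (homOfLE (eO O).ge).op (u.app O s)) =
        U.presheaf.germ ((Opens.map u.base).obj O) y hO' (u.app O s) :=
      TopCat.Presheaf.germ_res_apply U.presheaf (homOfLE (eO O).ge) y hO (u.app O s)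
    have e6 : (u.stalkMap y).hom (W.presheaf.germ O (u.base y) hO' s) =
        U.presheaf.germ ((Opens.map u.base).obj O) y hO' (u.app O s) :=
      Scheme.Hom.germ_stalkMap_apply u O y hO' s
    have ha3 : IsUnit ((u.stalkMap y).hom (W.presheaf.germ O (u.base y) hO' s)) := by
      rw [e6, ← e5, ← e4, ← e3]; exact ha2
    have ha4 : IsUnit (W.presheaf.germ O (u.base y) hO' s) :=
      isUnit_of_map_unit (u.stalkMap y).hom _ ha3
    have tr : ∀ (p p' : W) (e : p = p') (hp : p ∈ O) (hp' : p' ∈ O),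
        IsUnit (W.presheaf.germ O p hp s) → IsUnit (W.presheaf.germ O p' hp' s) := by
      rintro p _ rfl hp hp' hh; exact hh
    exact tr _ _ (hv0 y).symm hO' hO ha4
  let v : V ⟶ W := ⟨⟨vP, hprop⟩⟩
  refine ⟨v, Scheme.Hom.ext hbase (fun O => ?_)⟩
  rw [Scheme.Hom.app_eq_appLE, Scheme.Hom.appLE_map, Scheme.Hom.comp_appLE]
  have e7 : ∀ (X : U.Opens) (e : X ≤ (Opens.map h.base).obj ((Opens.map v0).obj O)),
      cO O ≫ h.appLE ((Opens.map v0).obj O) X e = u.appLE O X (e.trans (eO O).ge) := by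
    intro X e
    calc cO O ≫ h.appLE ((Opens.map v0).obj O) X e
        = (cO O ≫ h.app ((Opens.map v0).obj O)) ≫ U.presheaf.map (homOfLE e).op := by
          exact (Category.assoc _ _ _).symm
      _ = u.appLE O X (e.trans (eO O).ge) := by
          rw [e2]; exact Scheme.Hom.appLE_map u _ _
  exact (e7 _ _).trans u.appLE_eq_app

end Groth.Agent.H9.SchQ2
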