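import Mathlib
import Groth.Agent.Lib.Helper9.Misc.SchQuot2

universe u

open CategoryTheory TopologicalSpace Opposite AlgebraicGeometry

namespace Groth.Agent.H9.SchQ3

open Groth.Agent.H9.SchQ2 (appLE_congr_hom epi_of_surj_inj)

theorem exists_desc_of_fib {P U V W : Scheme.{u}} (σ p : P ⟶ U) (h : U ⟶ V) (u : U ⟶ W)
    (hu : σ ≫ u = p ≫ u)
    (hsurj : Function.Surjective h.base) (hq : Topology.IsQuotientMap h.base)
    (hfib : ∀ x y : U, h.base x = h.base y → u.base x = u.base y)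
    (hinj : ∀ O : V.Opens, Function.Injective (h.app O))
    (hsec : ∀ (O : V.Opens) (f : Γ(U, h ⁻¹ᵁ O)),
      σ.appLE (h ⁻¹ᵁ O) (σ ⁻¹ᵁ (h ⁻¹ᵁ O) ⊓ p ⁻¹ᵁ (h ⁻¹ᵁ O)) inf_le_left f =
        p.appLE (h ⁻¹ᵁ O) (σ ⁻¹ᵁ (h ⁻¹ᵁ O) ⊓ p ⁻¹ᵁ (h ⁻¹ᵁ O)) inf_le_right f →
      f ∈ Set.range (h.app O)) :
    ∃ v : V ⟶ W, h ≫ v = u := by
  classical
  haveI : ∀ O : V.Opens, Mono (h.app O) := fun O =>
    ConcreteCategory.mono_of_injective _ (hinj O)
  let v0f : V → W := fun y => u.base (Function.surjInv hsurj y)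
  have hv0 : ∀ x : U, v0f (h.base x) = u.base x := fun x =>
    hfib _ _ (Function.surjInv_eq hsurj (h.base x))
  have hcont : Continuous v0f := by
    rw [hq.continuous_iff]
    have : v0f ∘ h.base = u.base := funext hv0
    rw [this]
    exact u.base.hom.continuous
  let v0 : V.carrier ⟶ W.carrier := TopCat.ofHom ⟨v0f, hcont⟩
  have hbase : h.base ≫ v0 = u.base := by
    ext x
    exact hv0 x
  have eO : ∀ O : W.Opens,
      (Opens.map u.base).obj O = (Opens.map h.base).obj ((Opens.map v0).obj O) := fun O =>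
    (congrArg (fun m => (Opens.map m).obj O) hbase).symm
  have hmem : ∀ (O : W.Opens) (s : Γ(W, O)), ∃ t : Γ(V, (Opens.map v0).obj O),
      (h.app ((Opens.map v0).obj O)).hom t =
        (u.appLE O ((Opens.map h.base).obj ((Opens.map v0).obj O)) (eO O).ge).hom s := by
    intro O s
    have hr := hsec ((Opens.map v0).obj O)
      ((u.appLE O ((Opens.map h.base).obj ((Opens.map v0).obj O)) (eO O).ge).hom s) ?_
    · obtain ⟨t, ht⟩ := hr
      exact ⟨t, ht⟩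
    · have k1 := Scheme.Hom.appLE_comp_appLE σ u O
        ((Opens.map h.base).obj ((Opens.map v0).obj O))
        (σ ⁻¹ᵁ (h ⁻¹ᵁ ((Opens.map v0).obj O)) ⊓ p ⁻¹ᵁ (h ⁻¹ᵁ ((Opens.map v0).obj O)))
        (eO O).ge inf_le_left
      have k2 := Scheme.Hom.appLE_comp_appLE p u O
        ((Opens.map h.base).obj ((Opens.map v0).obj O))
        (σ ⁻¹ᵁ (h ⁻¹ᵁ ((Opens.map v0).obj O)) ⊓ p ⁻¹ᵁ (h ⁻¹ᵁ ((Opens.map v0).obj O)))
        (eO O).ge inf_le_right
      have k3 := appLE_congr_hom _ _ hu O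
        (σ ⁻¹ᵁ (h ⁻¹ᵁ ((Opens.map v0).obj O)) ⊓ p ⁻¹ᵁ (h ⁻¹ᵁ ((Opens.map v0).obj O)))
        ((inf_le_left).trans ((Opens.map σ.base).map (homOfLE (eO O).ge)).le)
        ((inf_le_right).trans ((Opens.map p.base).map (homOfLE (eO O).ge)).le)
      have k4 := congrArg (fun m => m.hom s) (k1.trans (k3.trans k2.symm))
      exact k4
  choose cfun hcfun using hmem
  let cO : ∀ O : W.Opens, Γ(W, O) ⟶ Γ(V, (Opens.map v0).obj O) := fun O =>
    CommRingCat.ofHom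
      { toFun := cfun O
        map_one' := hinj _ (by
          show (h.app ((Opens.map v0).obj O)).hom (cfun O 1) = (h.app ((Opens.map v0).obj O)).hom 1
          rw [hcfun, map_one, map_one])
        map_mul' := fun a b => hinj _ (by
          show (h.app ((Opens.map v0).obj O)).hom (cfun O (a * b)) =
            (h.app ((Opens.map v0).obj O)).hom (cfun O a * cfun O b)
          rw [hcfun, map_mul, map_mul, hcfun, hcfun])
        map_zero' := hinj _ (by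
          show (h.app ((Opens.map v0).obj O)).hom (cfun O 0) = (h.app ((Opens.map v0).obj O)).hom 0
          rw [hcfun, map_zero, map_zero])
        map_add' := fun a b => hinj _ (by
          show (h.app ((Opens.map v0).obj O)).hom (cfun O (a + b)) =
            (h.app ((Opens.map v0).obj O)).hom (cfun O a + cfun O b)
          rw [hcfun, map_add, map_add, hcfun, hcfun]) }
  have e2 : ∀ O : W.Opens, cO O ≫ h.app ((Opens.map v0).obj O) =
      u.appLE O ((Opens.map h.base).obj ((Opens.map v0).obj O)) (eO O).ge := by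
    intro O
    ext s
    exact hcfun O s
  let c : W.presheaf ⟶ (TopCat.Presheaf.pushforward _ v0).obj V.presheaf :=
    { app := fun O => cO O.unop
      naturality := by
        intro O O' i
        show W.presheaf.map i ≫ cO O'.unop =
          cO O.unop ≫ V.presheaf.map ((Opens.map v0).map i.unop).op
        rw [← cancel_mono (h.app ((Opens.map v0).obj O'.unop))]
        have l1 : (W.presheaf.map i ≫ cO O'.unop) ≫ h.app ((Opens.map v0).obj O'.unop) =
            u.appLE O.unop ((Opens.map h.base).obj ((Opens.map v0).obj O'.unop))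
              (le_trans (eO O'.unop).ge ((Opens.map u.base).map i.unop).le) := by
          rw [Category.assoc, e2]
          exact Scheme.Hom.map_appLE u _ i
        have l2 : (cO O.unop ≫ V.presheaf.map ((Opens.map v0).map i.unop).op) ≫
              h.app ((Opens.map v0).obj O'.unop) =
            u.appLE O.unop ((Opens.map h.base).obj ((Opens.map v0).obj O'.unop))
              (le_trans (eO O'.unop).ge ((Opens.map u.base).map i.unop).le) := by
          rw [Category.assoc, h.naturality, ← Category.assoc, e2]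
          exact Scheme.Hom.appLE_map u _ _
        exact l1.trans l2.symm }
  let vP : V.toPresheafedSpace.Hom W.toPresheafedSpace := { base := v0, c := c }
  have hprop : ∀ x : V, IsLocalHom (vP.stalkMap x).hom := by
    intro x
    obtain ⟨y, rfl⟩ := hsurj x
    constructor
    intro a ha
    obtain ⟨O, hO, s, rfl⟩ := W.presheaf.exists_germ_eq (x := v0 (h.base y)) a
    have hO' : u.base y ∈ O := by
      have := hv0 y
      rw [← this]; exact hO
    have e1 : (vP.stalkMap (h.base y)).hom (W.presheaf.germ O (v0 (h.base y)) hO s) =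
        V.presheaf.germ ((Opens.map v0).obj O) (h.base y) hO (cO O s) :=
      PresheafedSpace.stalkMap_germ_apply vP O (h.base y) hO s
    have ha1 : IsUnit (V.presheaf.germ ((Opens.map v0).obj O) (h.base y) hO (cO O s)) :=
      (congrArg IsUnit e1).mp ha
    have ha2 : IsUnit ((h.stalkMap y).hom
        (V.presheaf.germ ((Opens.map v0).obj O) (h.base y) hO (cO O s))) :=
      ha1.map (h.stalkMap y).hom
    have e3 : (h.stalkMap y).hom
        (V.presheaf.germ ((Opens.map v0).obj O) (h.base y) hO (cO O s)) =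
        U.presheaf.germ ((Opens.map h.base).obj ((Opens.map v0).obj O)) y hO
          (h.app ((Opens.map v0).obj O) (cO O s)) :=
      Scheme.Hom.germ_stalkMap_apply h ((Opens.map v0).obj O) y hO (cO O s)
    have e4 : h.app ((Opens.map v0).obj O) (cO O s) =
        U.presheaf.map (homOfLE (eO O).ge).op (u.app O s) := by
      have := e2 O
      have h4 : (cO O ≫ h.app ((Opens.map v0).obj O)) s =
          (u.appLE O ((Opens.map h.base).obj ((Opens.map v0).obj O)) (eO O).ge) s := by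
        rw [this]
      exact h4
    have e5 : U.presheaf.germ ((Opens.map h.base).obj ((Opens.map v0).obj O)) y hO
          (U.presheaf.map (homOfLE (eO O).ge).op (u.app O s)) =
        U.presheaf.germ ((Opens.map u.base).obj O) y hO' (u.app O s) :=
      TopCat.Presheaf.germ_res_apply U.presheaf (homOfLE (eO O).ge) y hO (u.app O s)
    have e6 : (u.stalkMap y).hom (W.presheaf.germ O (u.base y) hO' s) =
        U.presheaf.germ ((Opens.map u.base).obj O) y hO' (u.app O s) :=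
      Scheme.Hom.germ_stalkMap_apply u O y hO' s
    have ha3 : IsUnit ((u.stalkMap y).hom (W.presheaf.germ O (u.base y) hO' s)) := by
      rw [e6, ← e5, ← e4, ← e3]; exact ha2
    have ha4 : IsUnit (W.presheaf.germ O (u.base y) hO' s) :=
      isUnit_of_map_unit (u.stalkMap y).hom _ ha3
    have tr : ∀ (p p' : W) (e : p = p') (hp : p ∈ O) (hp' : p' ∈ O),
        IsUnit (W.presheaf.germ O p hp s) → IsUnit (W.presheaf.germ O p' hp' s) := by
      rintro p _ rfl hp hp' hh; exact hh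
    exact tr _ _ (hv0 y).symm hO' hO ha4
  let v : V ⟶ W := ⟨⟨vP, hprop⟩⟩
  refine ⟨v, Scheme.Hom.ext hbase (fun O => ?_)⟩
  rw [Scheme.Hom.app_eq_appLE, Scheme.Hom.appLE_map, Scheme.Hom.comp_appLE]
  have e7 : ∀ (X : U.Opens) (e : X ≤ (Opens.map h.base).obj ((Opens.map v0).obj O)),
      cO O ≫ h.appLE ((Opens.map v0).obj O) X e = u.appLE O X (e.trans (eO O).ge) := by
    intro X e
    calc cO O ≫ h.appLE ((Opens.map v0).obj O) X e
        = (cO O ≫ h.app ((Opens.map v0).obj O)) ≫ U.presheaf.map (homOfLE e).op := by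
          exact (Category.assoc _ _ _).symm
      _ = u.appLE O X (e.trans (eO O).ge) := by
          rw [e2]; exact Scheme.Hom.appLE_map u _ _
  exact (e7 _ _).trans u.appLE_eq_app


theorem inv_section {P U V W : Scheme.{u}} (σ p : P ⟶ U) (h : U ⟶ V) (u : U ⟶ W)
    (hu : σ ≫ u = p ≫ u) (A : W.Opens) (O : V.Opens) (e : h ⁻¹ᵁ O ≤ u ⁻¹ᵁ A) (b : Γ(W, A)) :
    σ.appLE (h ⁻¹ᵁ O) (σ ⁻¹ᵁ (h ⁻¹ᵁ O) ⊓ p ⁻¹ᵁ (h ⁻¹ᵁ O)) inf_le_left
        ((u.appLE A (h ⁻¹ᵁ O) e).hom b) =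
      p.appLE (h ⁻¹ᵁ O) (σ ⁻¹ᵁ (h ⁻¹ᵁ O) ⊓ p ⁻¹ᵁ (h ⁻¹ᵁ O)) inf_le_right
        ((u.appLE A (h ⁻¹ᵁ O) e).hom b) := by
  have k1 := Scheme.Hom.appLE_comp_appLE σ u A (h ⁻¹ᵁ O)
    (σ ⁻¹ᵁ (h ⁻¹ᵁ O) ⊓ p ⁻¹ᵁ (h ⁻¹ᵁ O)) e inf_le_left
  have k2 := Scheme.Hom.appLE_comp_appLE p u A (h ⁻¹ᵁ O)
    (σ ⁻¹ᵁ (h ⁻¹ᵁ O) ⊓ p ⁻¹ᵁ (h ⁻¹ᵁ O)) e inf_le_right
  have k3 := appLE_congr_hom _ _ hu A
    (σ ⁻¹ᵁ (h ⁻¹ᵁ O) ⊓ p ⁻¹ᵁ (h ⁻¹ᵁ O))
    ((inf_le_left).trans ((Opens.map σ.base).map (homOfLE e)).le)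
    ((inf_le_right).trans ((Opens.map p.base).map (homOfLE e)).le)
  exact congrArg (fun m => m.hom b) (k1.trans (k3.trans k2.symm))

theorem surjective_of_iInter {P U V : Scheme.{u}} (σ p : P ⟶ U) (h : U ⟶ V)
    (hiii' : ∀ (J : Type u) (Wf : J → Set U),
      (∀ i, IsClosed (Wf i) ∧ σ.base '' (p.base ⁻¹' Wf i) ⊆ Wf i) →
      h.base '' (⋂ i, Wf i) = ⋂ i, h.base '' Wf i) :
    Function.Surjective h.base := by
  have := hiii' PEmpty (fun i => i.elim) (fun i => i.elim)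
  rw [Set.iInter_of_empty, Set.iInter_of_empty, Set.image_univ] at this
  exact Set.range_eq_univ.mp this

theorem isQuotientMap_of_closed {P U V : Scheme.{u}} (σ p : P ⟶ U) (h : U ⟶ V)
    (hinv : σ ≫ h = p ≫ h) (hsurj : Function.Surjective h.base)
    (hiii : ∀ Wc : Set U, IsClosed Wc → σ.base '' (p.base ⁻¹' Wc) ⊆ Wc →
      IsClosed (h.base '' Wc)) :
    Topology.IsQuotientMap h.base := by
  rw [Topology.isQuotientMap_iff_isClosed]
  refine ⟨hsurj, fun C => ⟨fun hC => hC.preimage h.base.hom.continuous, fun hC => ?_⟩⟩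
  have hinvC : σ.base '' (p.base ⁻¹' (h.base ⁻¹' C)) ⊆ h.base ⁻¹' C := by
    rintro _ ⟨w, hw, rfl⟩
    have e1 : (σ ≫ h).base w = (p ≫ h).base w := by rw [hinv]
    show h.base (σ.base w) ∈ C
    have e2 : h.base (σ.base w) = h.base (p.base w) := e1
    rw [e2]
    exact hw
  have := hiii _ hC hinvC
  rwa [Set.image_preimage_eq _ hsurj] at this

theorem hfib_of_closed {P U V W : Scheme.{u}} (σ p : P ⟶ U) (h : U ⟶ V) (u : U ⟶ W)
    (hu : σ ≫ u = p ≫ u)
    (hsec : ∀ (O : V.Opens) (f : Γ(U, h ⁻¹ᵁ O)),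
      σ.appLE (h ⁻¹ᵁ O) (σ ⁻¹ᵁ (h ⁻¹ᵁ O) ⊓ p ⁻¹ᵁ (h ⁻¹ᵁ O)) inf_le_left f =
        p.appLE (h ⁻¹ᵁ O) (σ ⁻¹ᵁ (h ⁻¹ᵁ O) ⊓ p ⁻¹ᵁ (h ⁻¹ᵁ O)) inf_le_right f →
      f ∈ Set.range (h.app O))
    (hiii : ∀ Wc : Set U, IsClosed Wc → σ.base '' (p.base ⁻¹' Wc) ⊆ Wc →
      IsClosed (h.base '' Wc))
    (hiii' : ∀ (J : Type u) (Wf : J → Set U),
      (∀ i, IsClosed (Wf i) ∧ σ.base '' (p.base ⁻¹' Wf i) ⊆ Wf i) →
      h.base '' (⋂ i, Wf i) = ⋂ i, h.base '' Wf i) :
    ∀ x y : U, h.base x = h.base y → u.base x = u.base y := by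
  -- closed invariant sets attached to affine opens of W
  let Wf : W.affineOpens → Set U := fun A => (u.base ⁻¹' (A.1 : Set W))ᶜ
  have hWf : ∀ A, IsClosed (Wf A) ∧ σ.base '' (p.base ⁻¹' Wf A) ⊆ Wf A := by
    intro A
    refine ⟨(A.1.2.preimage u.base.hom.continuous).isClosed_compl, ?_⟩
    rintro _ ⟨w, hw, rfl⟩
    have e1 : (σ ≫ u).base w = (p ≫ u).base w := by rw [hu]
    have e2 : u.base (σ.base w) = u.base (p.base w) := e1
    show u.base (σ.base w) ∉ (A.1 : Set W)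
    rw [e2]
    exact hw
  have hempty : (⋂ A, Wf A) = ∅ := by
    rw [Set.eq_empty_iff_forall_notMem]
    intro x hx
    obtain ⟨_, ⟨A, hA, rfl⟩, hxA, -⟩ := W.isBasis_affineOpens.exists_subset_of_mem_open
      (Set.mem_univ (u.base x)) isOpen_univ
    exact (Set.mem_iInter.mp hx ⟨A, hA⟩) hxA
  have hcov : ∀ y : V, ∃ A : W.affineOpens, y ∉ h.base '' Wf A := by
    intro y
    by_contra hcon
    push Not at hcon
    have : y ∈ ⋂ A, h.base '' Wf A := Set.mem_iInter.mpr hcon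
    rw [← hiii' W.affineOpens Wf hWf, hempty, Set.image_empty] at this
    exact this
  have key : ∀ x y : U, h.base x = h.base y → ∀ N : W.Opens, u.base x ∈ N → u.base y ∈ N := by
    intro x y hxy N hxN
    obtain ⟨A, hA⟩ := hcov (h.base x)
    let O : V.Opens := ⟨(h.base '' Wf A)ᶜ, (hiii _ (hWf A).1 (hWf A).2).isOpen_compl⟩
    have hO : h ⁻¹ᵁ O ≤ u ⁻¹ᵁ A.1 := by
      intro z hz
      by_contra hzA
      exact hz ⟨z, hzA, rfl⟩
    have hxO : x ∈ h ⁻¹ᵁ O := hA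
    have hyO : y ∈ h ⁻¹ᵁ O := by
      show h.base y ∈ O
      rw [← hxy]; exact hA
    have hxA : u.base x ∈ A.1 := hO hxO
    obtain ⟨b, hb1, hb2⟩ := A.2.exists_basicOpen_le (V := N) ⟨u.base x, hxN⟩ hxA
    obtain ⟨t, ht⟩ := hsec O ((u.appLE A.1 (h ⁻¹ᵁ O) hO).hom b)
      (inv_section σ p h u hu A.1 O hO b)
    have hb3 : U.basicOpen ((u.appLE A.1 (h ⁻¹ᵁ O) hO).hom b) =
        h ⁻¹ᵁ O ⊓ u ⁻¹ᵁ (W.basicOpen b) := Scheme.basicOpen_appLE u (h ⁻¹ᵁ O) A.1 hO b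
    have hb4 : h ⁻¹ᵁ V.basicOpen t = U.basicOpen ((u.appLE A.1 (h ⁻¹ᵁ O) hO).hom b) := by
      rw [Scheme.preimage_basicOpen]
      exact congrArg U.basicOpen ht
    have hx1 : x ∈ h ⁻¹ᵁ V.basicOpen t := by
      rw [hb4, hb3]; exact ⟨hxO, hb2⟩
    have hy1 : y ∈ h ⁻¹ᵁ V.basicOpen t := by
      show h.base y ∈ V.basicOpen t
      rw [← hxy]; exact hx1
    rw [hb4, hb3] at hy1
    exact hb1 hy1.2
  intro x y hxy
  have hins : Inseparable (u.base x) (u.base y) := by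
    rw [inseparable_iff_forall_isOpen]
    intro N hN
    exact ⟨key x y hxy ⟨N, hN⟩, key y x hxy.symm ⟨N, hN⟩⟩
  exact hins.eq

theorem main {P U V W : Scheme.{u}} (σ p : P ⟶ U) (h : U ⟶ V) (u : U ⟶ W)
    (hinv : σ ≫ h = p ≫ h) (hu : σ ≫ u = p ≫ u)
    (hinj : ∀ O : V.Opens, Function.Injective (h.app O))
    (hsec : ∀ (O : V.Opens) (f : Γ(U, h ⁻¹ᵁ O)),
      σ.appLE (h ⁻¹ᵁ O) (σ ⁻¹ᵁ (h ⁻¹ᵁ O) ⊓ p ⁻¹ᵁ (h ⁻¹ᵁ O)) inf_le_left f =
        p.appLE (h ⁻¹ᵁ O) (σ ⁻¹ᵁ (h ⁻¹ᵁ O) ⊓ p ⁻¹ᵁ (h ⁻¹ᵁ O)) inf_le_right f →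
      f ∈ Set.range (h.app O))
    (hiii : ∀ Wc : Set U, IsClosed Wc → σ.base '' (p.base ⁻¹' Wc) ⊆ Wc →
      IsClosed (h.base '' Wc))
    (hiii' : ∀ (J : Type u) (Wf : J → Set U),
      (∀ i, IsClosed (Wf i) ∧ σ.base '' (p.base ⁻¹' Wf i) ⊆ Wf i) →
      h.base '' (⋂ i, Wf i) = ⋂ i, h.base '' Wf i) :
    ∃ v : V ⟶ W, h ≫ v = u := by
  have hsurj := surjective_of_iInter σ p h hiii'
  exact exists_desc_of_fib σ p h u hu hsurj (isQuotientMap_of_closed σ p h hinv hsurj hiii)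
    (hfib_of_closed σ p h u hu hsec hiii hiii') hinj hsec

end Groth.Agent.H9.SchQ3
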