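import Mathlib
import Groth.Agent.Lib.Helper9.Misc.QGQ3
import Groth.Agent.Lib.Helper9.Misc.SchQuot3

/-! Helper9: fppf sheaf quotient by a group action: functions on the quotient are the invariant
functions. -/

set_option autoImplicit false
set_option linter.style.haveILetI false
set_option linter.unusedSectionVars false
set_option linter.unusedVariables false

universe u

open CategoryTheory Limits AlgebraicGeometry Opposite

namespace Groth.Agent.H9.QGQ

open Groth.Agent.H3.QuotShEff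
open Groth.Agent.H9.SchQ2 (appLE_congr_hom)

section fn
variable {S : Scheme.{u}}

/-- the affine line over `S` -/
noncomputable abbrev A1 (S : Scheme.{u}) : Over S := Over.mk (𝔸(PUnit.{u + 1}; S) ↘ S)

/-- the morphism to the affine line given by a function -/
noncomputable def fnHom (T : Over S) (v : Γ(T.left, ⊤)) : T ⟶ A1 S :=
  Over.homMk (AffineSpace.homOfVector T.hom (fun _ => v)) (AffineSpace.homOfVector_over _ _)

lemma fnHom_coord (T : Over S) (v : Γ(T.left, ⊤)) :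
    (fnHom T v).left.appTop (AffineSpace.coord S PUnit.unit) = v :=
  AffineSpace.homOfVector_appTop_coord _ _ _

lemma comp_fnHom {T T' : Over S} (m : T' ⟶ T) (v : Γ(T.left, ⊤)) :
    m ≫ fnHom T v = fnHom T' (m.left.appTop v) := by
  ext
  show m.left ≫ AffineSpace.homOfVector T.hom (fun _ => v) =
    AffineSpace.homOfVector T'.hom (fun _ => m.left.appTop v)
  rw [AffineSpace.comp_homOfVector, Over.w m]
  rfl

lemma fnHom_injective {T : Over S} {v v' : Γ(T.left, ⊤)} (h : fnHom T v = fnHom T v') :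
    v = v' := by
  rw [← fnHom_coord T v, ← fnHom_coord T v', h]

end fn

section sch
variable {T₀ W₀ X₀ Y₀ : Scheme.{u}}

lemma appTop_appLE (m : T₀ ⟶ W₀) (n : W₀ ⟶ X₀) (V : X₀.Opens) (e : ⊤ ≤ n ⁻¹ᵁ V)
    (e' : ⊤ ≤ (m ≫ n) ⁻¹ᵁ V) (f : Γ(X₀, V)) :
    m.appTop ((n.appLE V ⊤ e).hom f) = ((m ≫ n).appLE V ⊤ e').hom f := by
  have h := Scheme.Hom.appLE_comp_appLE m n V ⊤ ⊤ e (le_of_eq rfl)
  have h2 : m.appLE ⊤ ⊤ (le_of_eq rfl) = m.appTop := Scheme.Hom.appLE_eq_app m
  rw [h2] at h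
  exact congrArg (fun k => k.hom f) h

/-- restriction of functions from an open to the open subscheme -/
noncomputable abbrev pullU (V : X₀.Opens) : Γ(X₀, V) ⟶ Γ(V, ⊤) :=
  V.ι.appLE V ⊤ V.ι_preimage_self.ge

lemma pull_app (h : X₀ ⟶ Y₀) (U : Y₀.Opens) (b : Γ(Y₀, U)) :
    (h ∣_ U).appTop ((pullU U).hom b) = (pullU (h ⁻¹ᵁ U)).hom ((h.app U).hom b) := by
  have e' : ⊤ ≤ ((h ∣_ U) ≫ U.ι) ⁻¹ᵁ U := by
    rw [morphismRestrict_ι]
    intro x _
    exact x.2
  rw [appTop_appLE (h ∣_ U) U.ι U U.ι_preimage_self.ge e' b]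
  have k1 := Scheme.Hom.appLE_comp_appLE (h ⁻¹ᵁ U).ι h U (h ⁻¹ᵁ U) ⊤ le_rfl
    (h ⁻¹ᵁ U).ι_preimage_self.ge
  rw [Scheme.Hom.appLE_eq_app] at k1
  have k2 := appLE_congr_hom _ _ (morphismRestrict_ι h U) U ⊤ e'
    (by rw [← morphismRestrict_ι]; exact e')
  exact congrArg (fun k => k.hom b) (k2.trans k1.symm)

lemma inv_pull_sch {P₀ : Scheme.{u}} (σ p : P₀ ⟶ X₀) (V : X₀.Opens) (f : Γ(X₀, V))
    (hf : (σ.appLE V (σ ⁻¹ᵁ V ⊓ p ⁻¹ᵁ V) inf_le_left).hom f =
      (p.appLE V (σ ⁻¹ᵁ V ⊓ p ⁻¹ᵁ V) inf_le_right).hom f)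
    (m1 m2 : T₀ ⟶ V.toScheme) (w : T₀ ⟶ P₀) (hl1 : w ≫ σ = m1 ≫ V.ι)
    (hl2 : w ≫ p = m2 ≫ V.ι) :
    m1.appTop ((pullU V).hom f) = m2.appTop ((pullU V).hom f) := by
  have e1 : ⊤ ≤ (m1 ≫ V.ι) ⁻¹ᵁ V := fun x _ => (m1.base x).2
  have e2 : ⊤ ≤ (m2 ≫ V.ι) ⁻¹ᵁ V := fun x _ => (m2.base x).2
  rw [appTop_appLE m1 V.ι V V.ι_preimage_self.ge e1 f,
    appTop_appLE m2 V.ι V V.ι_preimage_self.ge e2 f]
  have eW : ⊤ ≤ w ⁻¹ᵁ (σ ⁻¹ᵁ V ⊓ p ⁻¹ᵁ V) := by
    intro x hx
    constructor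
    · have h3 : (w ≫ σ).base x ∈ V := by rw [hl1]; exact e1 hx
      exact h3
    · have h3 : (w ≫ p).base x ∈ V := by rw [hl2]; exact e2 hx
      exact h3
  have k1 := Scheme.Hom.appLE_comp_appLE w σ V (σ ⁻¹ᵁ V ⊓ p ⁻¹ᵁ V) ⊤ inf_le_left eW
  have k2 := Scheme.Hom.appLE_comp_appLE w p V (σ ⁻¹ᵁ V ⊓ p ⁻¹ᵁ V) ⊤ inf_le_right eW
  have c1 := appLE_congr_hom _ _ hl1 V ⊤ (by rw [hl1]; exact e1) e1
  have c2 := appLE_congr_hom _ _ hl2 V ⊤ (by rw [hl2]; exact e2) e2
  have h1 : ((m1 ≫ V.ι).appLE V ⊤ e1).hom f =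
      (w.appLE (σ ⁻¹ᵁ V ⊓ p ⁻¹ᵁ V) ⊤ eW).hom
        ((σ.appLE V (σ ⁻¹ᵁ V ⊓ p ⁻¹ᵁ V) inf_le_left).hom f) :=
    congrArg (fun k => k.hom f) (c1.symm.trans k1.symm)
  have h2 : ((m2 ≫ V.ι).appLE V ⊤ e2).hom f =
      (w.appLE (σ ⁻¹ᵁ V ⊓ p ⁻¹ᵁ V) ⊤ eW).hom
        ((p.appLE V (σ ⁻¹ᵁ V ⊓ p ⁻¹ᵁ V) inf_le_right).hom f) :=
    congrArg (fun k => k.hom f) (c2.symm.trans k2.symm)
  rw [h1, h2, hf]

end sch

section main
open MonoidalCategory CartesianMonoidalCategory MonObj GrpObj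

variable {S : Scheme.{u}} {G X Y : Over S} [GrpObj G] (a : AlgGrp.Action G X)
variable (q : X ⟶ Y) (U : Y.left.Opens)

/-- the open `U` of `Y` as an object over `S` -/
noncomputable abbrev YU : Over S := Over.mk (U.ι ≫ Y.hom)

/-- the preimage of `U` in `X` as an object over `S` -/
noncomputable abbrev XU : Over S := Over.mk ((q.left ⁻¹ᵁ U).ι ≫ X.hom)

/-- inclusion of the preimage -/
noncomputable def iU : XU q U ⟶ X := Over.homMk (q.left ⁻¹ᵁ U).ι rfl

/-- inclusion of the open -/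
noncomputable def jU : YU U ⟶ Y := Over.homMk U.ι rfl

/-- the restriction of `q` over `U` -/
noncomputable def qU : XU q U ⟶ YU U := Over.homMk (q.left ∣_ U) (by
  show (q.left ∣_ U) ≫ U.ι ≫ Y.hom = (q.left ⁻¹ᵁ U).ι ≫ X.hom
  rw [← Category.assoc, morphismRestrict_ι, Category.assoc, Over.w q])

lemma qU_jU : qU q U ≫ jU U = iU q U ≫ q := by
  ext
  exact morphismRestrict_ι q.left U

variable (K : Precoverage Scheme.{u})

lemma hasLocalLifts_qU (h : HasLocalLifts K q) : HasLocalLifts K (qU q U) := by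
  obtain ⟨R, hR, hlift⟩ := h
  refine ⟨Sieve.pullback (jU U) R, (QuotSh.J K S).pullback_stable (jU U) hR, ?_⟩
  intro T y hy
  obtain ⟨l, hl⟩ := hlift (y ≫ jU U) hy
  have hpb := isPullback_morphismRestrict q.left U
  have hc : y.left ≫ U.ι = l.left ≫ q.left := (congrArg (fun k => k.left) hl).symm
  refine ⟨Over.homMk (hpb.lift y.left l.left hc) ?_, ?_⟩
  · show hpb.lift y.left l.left hc ≫ (q.left ⁻¹ᵁ U).ι ≫ X.hom = T.hom
    rw [← Category.assoc, hpb.lift_snd, Over.w l]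
  · ext
    exact hpb.lift_fst _ _ _

theorem sections_of_isQuotient
    (hq : QuotSh.IsQuotient Scheme.fppfPrecoverage a.act (snd G X) q)
    (hinv : GIT.IsInvariant a q) :
    Function.Injective (q.left.app U) ∧
      Set.range (q.left.app U) = {f | GIT.IsInvSection a q U f} := by
  have hl := hasLocalLifts_of_isQuotient Scheme.fppfPrecoverage a.act (snd G X) q hq
  have hlU := hasLocalLifts_qU q U Scheme.fppfPrecoverage hl
  haveI hepi : Epi (qU q U) := epi_of_hasLocalLifts Scheme.fppfPrecoverage (qU q U) hlU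
  have hbU := ConcreteCategory.bijective_of_isIso (pullU U)
  have hbV := ConcreteCategory.bijective_of_isIso (pullU (q.left ⁻¹ᵁ U))
  constructor
  · intro b1 b2 hb
    apply hbU.1
    apply fnHom_injective (T := YU U)
    rw [← cancel_epi (qU q U), comp_fnHom, comp_fnHom]
    congr 1
    show (q.left ∣_ U).appTop ((pullU U).hom b1) = (q.left ∣_ U).appTop ((pullU U).hom b2)
    rw [pull_app, pull_app]
    exact congrArg (fun z => (pullU (q.left ⁻¹ᵁ U)).hom z) hb
  · ext f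
    constructor
    · rintro ⟨b, rfl⟩
      have h := Groth.Agent.H9.SchQ3.inv_section a.act.left (snd G X).left q.left q.left
        hinv.left U U le_rfl b
      rw [Scheme.Hom.appLE_eq_app] at h
      exact h
    · intro hf
      have hkp : IsKernelPair (qU q U) (pullback.fst (qU q U) (qU q U))
          (pullback.snd (qU q U) (qU q U)) := IsPullback.of_hasPullback _ _
      have hQ := isQuotient_of_isKernelPair_of_hasLocalLifts Scheme.fppfPrecoverage _ _
        (qU q U) hkp hlU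
      have hcoeq : pullback.fst (qU q U) (qU q U) ≫
            fnHom (XU q U) ((pullU (q.left ⁻¹ᵁ U)).hom f) =
          pullback.snd (qU q U) (qU q U) ≫
            fnHom (XU q U) ((pullU (q.left ⁻¹ᵁ U)).hom f) := by
        have hx : (pullback.fst (qU q U) (qU q U) ≫ iU q U) ≫ q =
            (pullback.snd (qU q U) (qU q U) ≫ iU q U) ≫ q := by
          rw [Category.assoc, Category.assoc, ← qU_jU, ← Category.assoc, ← Category.assoc,
            pullback.condition]
        obtain ⟨Sv, hSv, hrel⟩ := local_orbit a Scheme.fppfPrecoverage q hq _ _ hx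
        have hsep : Presieve.IsSeparated (QuotSh.J Scheme.fppfPrecoverage S)
            (yoneda.obj (A1 S)) :=
          (GrothendieckTopology.Subcanonical.isSheaf_of_isRepresentable _).isSeparated
        refine (hsep Sv hSv).ext ?_
        intro T' y hy
        show y ≫ pullback.fst (qU q U) (qU q U) ≫ fnHom (XU q U) _ =
          y ≫ pullback.snd (qU q U) (qU q U) ≫ fnHom (XU q U) _
        obtain ⟨w, hw1, hw2⟩ := hrel y hy
        rw [← Category.assoc, ← Category.assoc, comp_fnHom, comp_fnHom]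
        congr 1
        refine inv_pull_sch a.act.left (snd G X).left (q.left ⁻¹ᵁ U) f hf _ _ w.left ?_ ?_
        · have := congrArg (fun k => k.left) hw1
          exact this
        · have := congrArg (fun k => k.left) hw2
          exact this
      obtain ⟨φ', hφ'⟩ := desc_of_isQuotient Scheme.fppfPrecoverage _ _ (qU q U) hQ _ hcoeq
      obtain ⟨b, hb⟩ := hbU.2 (φ'.left.appTop (AffineSpace.coord S PUnit.unit))
      refine ⟨b, hbV.1 ?_⟩
      have h1 := pull_app q.left U b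
      have h2 : (q.left ∣_ U).appTop (φ'.left.appTop (AffineSpace.coord S PUnit.unit)) =
          (pullU (q.left ⁻¹ᵁ U)).hom f := by
        have h3 := congrArg (fun k => k.left.appTop (AffineSpace.coord S PUnit.unit)) hφ'
        exact h3.trans (fnHom_coord _ _)
      have hb' : (pullU U).hom b = φ'.left.appTop (AffineSpace.coord S PUnit.unit) := hb
      rw [hb'] at h1
      exact h1.symm.trans h2

end main

end Groth.Agent.H9.QGQ
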