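import Mathlib

set_option autoImplicit false
universe u

namespace Groth.Agent.H9.QGorSeq

open Matrix

section Tr
variable {B : Type u} [CommRing B]

/-- transpose of a linear map between standard free modules -/
noncomputable def tr {p q : ℕ} (a : (Fin p → B) →ₗ[B] (Fin q → B)) :
    (Fin q → B) →ₗ[B] (Fin p → B) :=
  Matrix.toLin' (LinearMap.toMatrix' a)ᵀ

lemma tr_comp {p q r : ℕ} (a : (Fin q → B) →ₗ[B] (Fin r → B))
    (b : (Fin p → B) →ₗ[B] (Fin q → B)) :
    tr (a ∘ₗ b) = tr b ∘ₗ tr a := by
  unfold tr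
  rw [LinearMap.toMatrix'_comp, Matrix.transpose_mul, Matrix.toLin'_mul]

lemma tr_smul {p q : ℕ} (s : B) (a : (Fin p → B) →ₗ[B] (Fin q → B)) :
    tr (s • a) = s • tr a := by
  unfold tr
  rw [map_smul, Matrix.transpose_smul, map_smul]

lemma tr_adj {p q : ℕ} (a : (Fin p → B) →ₗ[B] (Fin q → B)) (u : Fin p → B) (v : Fin q → B) :
    u ⬝ᵥ tr a v = a u ⬝ᵥ v := by
  unfold tr
  rw [Matrix.toLin'_apply, Matrix.dotProduct_mulVec, Matrix.vecMul_transpose,
    LinearMap.toMatrix'_mulVec]

end Tr

section Seq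
variable {B : Type u} [CommRing B] {F : Type u} [AddCommGroup F] [Module B F]

/-- the map `x ↦ (π e_i x)_i` -/
noncomputable def gOf {n : ℕ} (π : (Fin n → B) →ₗ[B] Module.Dual B F) : F →ₗ[B] (Fin n → B) :=
  LinearMap.pi (fun i => π (Pi.single i 1))

lemma gOf_apply {n : ℕ} (π : (Fin n → B) →ₗ[B] Module.Dual B F) (x : F) (i : Fin n) :
    gOf π x i = π (Pi.single i 1) x := rfl

lemma dot_gOf {n : ℕ} (π : (Fin n → B) →ₗ[B] Module.Dual B F) (c : Fin n → B) (x : F) :
    c ⬝ᵥ gOf π x = π c x := by
  have hc := congrArg π (pi_eq_sum_univ' c)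
  rw [hc, map_sum, LinearMap.sum_apply, dotProduct]
  refine Finset.sum_congr rfl fun i _ => ?_
  rw [map_smul, LinearMap.smul_apply, smul_eq_mul, gOf_apply]

lemma exact_seq [Module.IsReflexive B F] {n m : ℕ} (π : (Fin n → B) →ₗ[B] Module.Dual B F)
    (hπ : Function.Surjective π) (r : (Fin m → B) →ₗ[B] (Fin n → B))
    (hr1 : ∀ u, π (r u) = 0) (hr2 : ∀ c, π c = 0 → ∃ u, r u = c) :
    Function.Injective (gOf π) ∧ Function.Exact (gOf π) (tr r) := by
  constructor
  · rw [injective_iff_map_eq_zero]
    intro x hx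
    apply (Module.bijective_dual_eval B F).1
    rw [map_zero]
    refine LinearMap.ext fun ℓ => ?_
    obtain ⟨c, rfl⟩ := hπ ℓ
    rw [Module.Dual.eval_apply, ← dot_gOf π c x, hx]
    simp
  · intro v
    constructor
    · intro hv
      let w : (Fin n → B) →ₗ[B] B := Fintype.linearCombination B v
      have hw : ∀ c, w c = c ⬝ᵥ v := by
        intro c
        simp [w, Fintype.linearCombination_apply, dotProduct]
      have hle : LinearMap.ker π ≤ LinearMap.ker w := by
        intro c hc
        obtain ⟨u, rfl⟩ := hr2 c (LinearMap.mem_ker.1 hc)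
        rw [LinearMap.mem_ker, hw, ← tr_adj, hv]
        simp
      let ξ : Module.Dual B (Module.Dual B F) :=
        (LinearMap.ker π).liftQ w hle ∘ₗ (π.quotKerEquivOfSurjective hπ).symm.toLinearMap
      have hξ : ∀ c, ξ (π c) = w c := by
        intro c
        have h1 : (π.quotKerEquivOfSurjective hπ).symm (π c) = Submodule.Quotient.mk c :=
          (LinearEquiv.symm_apply_eq _).2
            (LinearMap.quotKerEquivOfSurjective_apply_mk π hπ c).symm
        simp only [ξ, LinearMap.coe_comp, LinearEquiv.coe_coe, Function.comp_apply, h1]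
        exact Submodule.liftQ_apply _ _ _
      obtain ⟨x, hx⟩ := (Module.bijective_dual_eval B F).2 ξ
      refine ⟨x, ?_⟩
      funext i
      rw [gOf_apply, ← Module.Dual.eval_apply B F x (π (Pi.single i 1)), hx, hξ, hw,
        single_one_dotProduct]
    · rintro ⟨x, rfl⟩
      funext j
      rw [← single_one_dotProduct j (tr r (gOf π x)), tr_adj, dot_gOf, hr1]
      simp

end Seq

section Split

lemma exists_almost_split {B : Type u} [CommRing B] {D P : Type u} [AddCommGroup D] [Module B D]
    [AddCommGroup P] [Module B P] [Module.FinitePresentation B D] (S : Submonoid B)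
    {D' : Type u} [AddCommGroup D'] [Module B D'] [Module (Localization S) D']
    [IsScalarTower B (Localization S) D']
    (Λ : D →ₗ[B] D') [IsLocalizedModule S Λ] [Module.Projective (Localization S) D']
    (π : P →ₗ[B] D) (hπ : Function.Surjective π) :
    ∃ (σ : D →ₗ[B] P) (s : B), s ∈ S ∧ ∀ ℓ, π (σ ℓ) = s • ℓ := by
  let π' : LocalizedModule S P →ₗ[Localization S] D' :=
    IsLocalizedModule.mapExtendScalars S (LocalizedModule.mkLinearMap S P) Λ (Localization S) π
  have hπ'a : ∀ x, π' (LocalizedModule.mkLinearMap S P x) = Λ (π x) := fun x =>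
    IsLocalizedModule.map_apply S (LocalizedModule.mkLinearMap S P) Λ π x
  have hπ' : Function.Surjective π' := by
    intro y
    obtain ⟨x, hx⟩ := IsLocalizedModule.map_surjective S (LocalizedModule.mkLinearMap S P) Λ π hπ y
    exact ⟨x, hx⟩
  obtain ⟨σ, hσ⟩ := Module.projective_lifting_property π' LinearMap.id hπ'
  have hσ' : ∀ y, π' (σ y) = y := fun y => LinearMap.congr_fun hσ y
  obtain ⟨σ₀, s₁, hσ₀⟩ := Module.FinitePresentation.exists_lift_of_isLocalizedModule S
    (LocalizedModule.mkLinearMap S P) (σ.restrictScalars B ∘ₗ Λ)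
  have hσ₀' : ∀ ℓ, LocalizedModule.mkLinearMap S P (σ₀ ℓ) = (s₁ : B) • σ (Λ ℓ) := by
    intro ℓ
    have := LinearMap.congr_fun hσ₀ ℓ
    exact this
  have hcomp : Λ ∘ₗ (π ∘ₗ σ₀) = Λ ∘ₗ ((s₁ : B) • LinearMap.id) := by
    refine LinearMap.ext fun ℓ => ?_
    simp only [LinearMap.comp_apply, LinearMap.smul_apply, LinearMap.id_apply]
    rw [← hπ'a, hσ₀', LinearMap.map_smul_of_tower, hσ', map_smul]
  obtain ⟨c, hc⟩ := Module.Finite.exists_smul_of_comp_eq_of_isLocalizedModule S Λ
    (π ∘ₗ σ₀) ((s₁ : B) • LinearMap.id) hcomp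
  refine ⟨(c : B) • σ₀, (c : B) * s₁, S.mul_mem c.2 s₁.2, fun ℓ => ?_⟩
  have h2 := LinearMap.congr_fun hc ℓ
  simp only [Submonoid.smul_def, LinearMap.smul_apply, LinearMap.comp_apply,
    LinearMap.id_apply] at h2
  rw [LinearMap.smul_apply, map_smul, h2, mul_smul]

end Split

section Reg

lemma exists_regular {B : Type u} [CommRing B] [IsNoetherianRing B] {F : Type u}
    [AddCommGroup F] [Module B F] [Module.Finite B F] {n m : ℕ}
    (π : (Fin n → B) →ₗ[B] Module.Dual B F) (hπ : Function.Surjective π)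
    (r : (Fin m → B) →ₗ[B] (Fin n → B))
    (hr1 : ∀ u, π (r u) = 0) (hr2 : ∀ c, π c = 0 → ∃ u, r u = c)
    (p : Ideal B) [p.IsPrime]
    [Module.Free (Localization p.primeCompl) (LocalizedModule p.primeCompl F)] :
    ∃ (W : (Fin n → B) →ₗ[B] (Fin m → B)) (s : B), s ∈ p.primeCompl ∧
      r ∘ₗ W ∘ₗ r = s • r := by
  haveI : Module.FinitePresentation B F := Module.finitePresentation_of_finite B F
  haveI : Module.Finite B (Module.Dual B F) := Module.IsNoetherian.finite B _
  haveI : Module.FinitePresentation B (Module.Dual B F) := Module.finitePresentation_of_finite B _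
  haveI : Module.Free (Localization p.primeCompl) (LocalizedModule p.primeCompl B) :=
    Module.free_of_isLocalizedModule p.primeCompl (LocalizedModule.mkLinearMap p.primeCompl B)
  obtain ⟨σ₁, s₂, hs₂, hσ₁⟩ := exists_almost_split p.primeCompl
    (LocalizedModule.map p.primeCompl (M := F) (N := B)) π hπ
  let e : (Fin n → B) →ₗ[B] (Fin n → B) := s₂ • LinearMap.id - σ₁ ∘ₗ π
  have he : ∀ v, π (e v) = 0 := by
    intro v
    simp only [e, LinearMap.sub_apply, LinearMap.smul_apply, LinearMap.id_apply,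
      LinearMap.comp_apply, map_sub, map_smul, hσ₁, sub_self]
  have hex : ∀ i : Fin n, ∃ u, r u = e (Pi.single i 1) := fun i => hr2 _ (he _)
  choose wv hwv using hex
  let W : (Fin n → B) →ₗ[B] (Fin m → B) := Fintype.linearCombination B wv
  have hrW : ∀ c, r (W c) = e c := by
    intro c
    have hc := congrArg e (pi_eq_sum_univ' c)
    rw [hc]
    simp only [W, Fintype.linearCombination_apply, map_sum, map_smul, hwv]
  refine ⟨W, s₂, hs₂, LinearMap.ext fun u => ?_⟩
  simp only [LinearMap.comp_apply, LinearMap.smul_apply]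
  rw [hrW]
  simp only [e, LinearMap.sub_apply, LinearMap.smul_apply, LinearMap.id_apply,
    LinearMap.comp_apply, hr1, map_zero, sub_zero]

end Reg

section Free

lemma free_of_regular {B : Type u} [CommRing B] {N M : Type u} [AddCommGroup N] [Module B N]
    [AddCommGroup M] [Module B M] [Module.Finite B M] [Module.Projective B M]
    (h : N →ₗ[B] M) (E : M →ₗ[B] M) (s : B) (hE1 : ∀ x, E x ∈ LinearMap.range h)
    (hE2 : ∀ v, E (h v) = s • h v) (p : Ideal B) [p.IsPrime] (hs : s ∈ p.primeCompl) :
    Module.Free (Localization.AtPrime p)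
      (LocalizedModule p.primeCompl (M ⧸ LinearMap.range h)) := by
  have hle : LinearMap.range h ≤ LinearMap.ker (s • LinearMap.id - E) := by
    rintro _ ⟨v, rfl⟩
    simp [LinearMap.mem_ker, hE2]
  let ibar : (M ⧸ LinearMap.range h) →ₗ[B] M :=
    (LinearMap.range h).liftQ (s • LinearMap.id - E) hle
  have hcomp : ∀ x : M ⧸ LinearMap.range h, (LinearMap.range h).mkQ (ibar x) = s • x := by
    intro x
    obtain ⟨x, rfl⟩ := Submodule.mkQ_surjective _ x
    have h1 : ibar ((LinearMap.range h).mkQ x) = s • x - E x := by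
      simp only [ibar, Submodule.mkQ_apply, Submodule.liftQ_apply]
      rfl
    have h0 : (LinearMap.range h).mkQ (E x) = 0 := by
      rw [Submodule.mkQ_apply, Submodule.Quotient.mk_eq_zero]
      exact hE1 x
    rw [h1, map_sub, map_smul, h0, sub_zero]
  let iq : LocalizedModule p.primeCompl (M ⧸ LinearMap.range h) →ₗ[Localization p.primeCompl]
      LocalizedModule p.primeCompl M := LocalizedModule.map p.primeCompl ibar
  let pq : LocalizedModule p.primeCompl M →ₗ[Localization p.primeCompl]
      LocalizedModule p.primeCompl (M ⧸ LinearMap.range h) :=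
    LocalizedModule.map p.primeCompl (LinearMap.range h).mkQ
  have hpi : ∀ y, pq (iq y) = s • y := by
    intro y
    induction y using LocalizedModule.induction_on with
    | h x t =>
      simp only [iq, pq, LocalizedModule.map_mk, hcomp]
      rw [LocalizedModule.smul'_mk]
  obtain ⟨υ, hυ⟩ := (IsLocalization.map_units (Localization p.primeCompl)
    (⟨s, hs⟩ : p.primeCompl)).exists_left_inv
  haveI : Module.Projective (Localization p.primeCompl)
      (LocalizedModule p.primeCompl (M ⧸ LinearMap.range h)) := by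
    refine Module.Projective.of_split (υ • iq) pq (LinearMap.ext fun y => ?_)
    simp only [LinearMap.comp_apply, LinearMap.smul_apply, map_smul, hpi, LinearMap.id_apply]
    rw [← algebraMap_smul (Localization p.primeCompl) s y, ← mul_smul]
    have : υ * algebraMap B (Localization p.primeCompl) s = 1 := hυ
    rw [this, one_smul]
  exact Module.free_of_flat_of_isLocalRing

end Free

theorem main (B : Type u) [CommRing B] [IsNoetherianRing B]
    (J : Ideal B) (F : Type u) [AddCommGroup F] [Module B F] [Module.Finite B F]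
    [Module.IsReflexive B F]
    (hU : ∀ q : PrimeSpectrum B, ¬ J ≤ q.asIdeal →
      Module.Free (Localization.AtPrime q.asIdeal) (LocalizedModule q.asIdeal.primeCompl F)) :
    ∃ (n m : ℕ) (g : F →ₗ[B] (Fin n → B)) (h : (Fin n → B) →ₗ[B] (Fin m → B)),
      Function.Injective g ∧ Function.Exact g h ∧
      ∀ q : PrimeSpectrum B, ¬ J ≤ q.asIdeal →
        Module.Free (Localization.AtPrime q.asIdeal)
          (LocalizedModule q.asIdeal.primeCompl ((Fin m → B) ⧸ LinearMap.range h)) := by
  haveI : Module.Finite B (Module.Dual B F) := Module.IsNoetherian.finite B _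
  obtain ⟨n, π, hπ⟩ := Module.Finite.exists_fin' B (Module.Dual B F)
  haveI : Module.Finite B (LinearMap.ker π) := Module.IsNoetherian.finite B _
  obtain ⟨m, ρ, hρ⟩ := Module.Finite.exists_fin' B (LinearMap.ker π)
  let r : (Fin m → B) →ₗ[B] (Fin n → B) := (LinearMap.ker π).subtype ∘ₗ ρ
  have hr1 : ∀ u, π (r u) = 0 := fun u => LinearMap.mem_ker.1 (ρ u).2
  have hr2 : ∀ c, π c = 0 → ∃ u, r u = c := by
    intro c hc
    obtain ⟨u, hu⟩ := hρ ⟨c, LinearMap.mem_ker.2 hc⟩
    exact ⟨u, by simp [r, hu]⟩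
  obtain ⟨hinj, hex⟩ := exact_seq π hπ r hr1 hr2
  refine ⟨n, m, gOf π, tr r, hinj, hex, fun q hq => ?_⟩
  haveI : Module.Free (Localization q.asIdeal.primeCompl)
      (LocalizedModule q.asIdeal.primeCompl F) := hU q hq
  obtain ⟨W, s, hs, hreg⟩ := exists_regular π hπ r hr1 hr2 q.asIdeal
  refine free_of_regular (tr r) (tr r ∘ₗ tr W) s (fun x => ⟨tr W x, rfl⟩) (fun v => ?_)
    q.asIdeal hs
  have h3 : tr (r ∘ₗ W ∘ₗ r) = tr (s • r) := congrArg tr hreg
  rw [tr_comp, tr_comp, tr_smul] at h3
  have h4 := LinearMap.congr_fun h3 v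
  simpa only [LinearMap.comp_apply, LinearMap.smul_apply] using h4

end Groth.Agent.H9.QGorSeq
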