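import Mathlib

/-! Helper9: very dense subsets and locally quasi-constructible sets (S4903). -/

namespace Groth.Agent.H9.VeryDense

universe u

variable {X : Type u} [TopologicalSpace X]

/-- The Boolean algebra generated by the open sets. -/
def QCb (X : Type u) [TopologicalSpace X] : BooleanSubalgebra (Set X) :=
  BooleanSubalgebra.closure {U | IsOpen U}

lemma isSublattice_open : IsSublattice {U : Set X | IsOpen U} :=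
  ⟨fun _ ha _ hb => IsOpen.union ha hb, fun _ ha _ hb => IsOpen.inter ha hb⟩

lemma open_mem {U : Set X} (hU : IsOpen U) : U ∈ QCb X := BooleanSubalgebra.subset_closure hU

lemma closed_mem {C : Set X} (hC : IsClosed C) : C ∈ QCb X :=
  BooleanSubalgebra.compl_mem_iff.1 (open_mem hC.isOpen_compl)

lemma lc_mem {Z : Set X} (hZ : IsLocallyClosed Z) : Z ∈ QCb X := by
  obtain ⟨O, C, hO, hC, rfl⟩ := hZ
  exact BooleanSubalgebra.inf_mem (open_mem hO) (closed_mem hC)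

/-- explicit form of quasi-constructibility -/
def QC (s : Set X) : Prop :=
  ∃ T : Set (Set X), T.Finite ∧ (∀ t ∈ T, IsLocallyClosed t) ∧ s = ⋃₀ T

lemma qc_iff (s : Set X) : QC s ↔ s ∈ QCb X := by
  constructor
  · rintro ⟨T, hT, hlc, rfl⟩
    exact BooleanSubalgebra.sSup_mem hT fun t ht => lc_mem (hlc t ht)
  · intro h
    obtain ⟨t, rfl⟩ := (BooleanSubalgebra.mem_closure_iff_sup_sdiff isSublattice_open
      isOpen_empty isOpen_univ).1 h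
    refine ⟨(fun x : ({U : Set X | IsOpen U} × {U : Set X | IsOpen U}) => x.1.1 \ x.2.1) '' ↑t,
      (Finset.finite_toSet t).image _, ?_, ?_⟩
    · rintro _ ⟨x, -, rfl⟩
      exact x.1.2.isLocallyClosed.inter x.2.2.isClosed_compl.isLocallyClosed
    · rw [Finset.sup_set_eq_biUnion, Set.sUnion_image]
      rfl

/-- locally quasi-constructible, explicit form -/
def LQC (Z : Set X) : Prop :=
  ∀ x : X, ∃ U : Set X, IsOpen U ∧ x ∈ U ∧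
    ∃ T : Set (Set X), T.Finite ∧ (∀ t ∈ T, IsLocallyClosed t) ∧ U ∩ Z = ⋃₀ T

lemma lqc_iff (Z : Set X) : LQC Z ↔ ∀ x : X, ∃ U : Set X, IsOpen U ∧ x ∈ U ∧ U ∩ Z ∈ QCb X := by
  refine forall_congr' fun x => exists_congr fun U => and_congr_right fun _ =>
    and_congr_right fun _ => ?_
  exact qc_iff (U ∩ Z)

lemma qc_lqc {Z : Set X} (h : Z ∈ QCb X) : LQC Z := by
  rw [lqc_iff]
  intro x
  exact ⟨Set.univ, isOpen_univ, trivial, by rwa [Set.univ_inter]⟩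

lemma lqc_inter_open {Z O : Set X} (h : LQC Z) (hO : IsOpen O) : LQC (Z ∩ O) := by
  rw [lqc_iff] at h ⊢
  intro x
  obtain ⟨U, hU, hxU, hUZ⟩ := h x
  refine ⟨U, hU, hxU, ?_⟩
  rw [← Set.inter_assoc]
  exact BooleanSubalgebra.inf_mem hUZ (open_mem hO)

lemma lqc_sdiff {Z Z' : Set X} (h : LQC Z) (h' : LQC Z') : LQC (Z \ Z') := by
  rw [lqc_iff] at h h' ⊢
  intro x
  obtain ⟨U, hU, hxU, hUZ⟩ := h x
  obtain ⟨U', hU', hxU', hUZ'⟩ := h' x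
  refine ⟨U ∩ U', hU.inter hU', ⟨hxU, hxU'⟩, ?_⟩
  have : (U ∩ U') ∩ (Z \ Z') = ((U ∩ Z) ∩ U') \ (U' ∩ Z') := by
    ext y; simp only [Set.mem_inter_iff, Set.mem_sdiff]; tauto
  rw [this]
  exact BooleanSubalgebra.sdiff_mem (BooleanSubalgebra.inf_mem hUZ (open_mem hU')) hUZ'

/-- A nonempty quasi-constructible set contains a nonempty locally closed subset. -/
lemma exists_lc_subset {Z : Set X} (h : Z ∈ QCb X) (hne : Z.Nonempty) :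
    ∃ t ⊆ Z, IsLocallyClosed t ∧ t.Nonempty := by
  obtain ⟨T, -, hlc, rfl⟩ := (qc_iff Z).2 h
  obtain ⟨z, t, htT, hzt⟩ := hne
  exact ⟨t, Set.subset_sUnion_of_mem htT, hlc t htT, ⟨z, hzt⟩⟩

variable (X₀ : Set X)

/-- Condition (a). -/
def CondA : Prop := ∀ Z : Set X, IsLocallyClosed Z → Z.Nonempty → (Z ∩ X₀).Nonempty

lemma a_b (ha : CondA X₀) (Z : Set X) (hZ : LQC Z) (hne : Z.Nonempty) : (Z ∩ X₀).Nonempty := by
  obtain ⟨z, hz⟩ := hne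
  obtain ⟨U, hU, hzU, T, hT, hlc, hUZ⟩ := hZ z
  have hzUZ : z ∈ U ∩ Z := ⟨hzU, hz⟩
  rw [hUZ] at hzUZ
  obtain ⟨t, htT, hzt⟩ := hzUZ
  obtain ⟨p, hpt, hp0⟩ := ha t (hlc t htT) ⟨z, hzt⟩
  have : p ∈ U ∩ Z := hUZ ▸ ⟨t, htT, hpt⟩
  exact ⟨p, this.2, hp0⟩

lemma b_b' (hb : ∀ Z : Set X, LQC Z → Z.Nonempty → (Z ∩ X₀).Nonempty) (Z : Set X) (hZ : LQC Z) :
    Z ⊆ closure (Z ∩ X₀) := by
  intro z hz
  rw [mem_closure_iff]
  intro O hO hzO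
  obtain ⟨p, ⟨hpZ, hpO⟩, hp0⟩ := hb (Z ∩ O) (lqc_inter_open hZ hO) ⟨z, hz, hzO⟩
  exact ⟨p, hpO, hpZ, hp0⟩

lemma b'_a (hb' : ∀ Z : Set X, LQC Z → Z ⊆ closure (Z ∩ X₀)) : CondA X₀ := by
  intro Z hZ hne
  by_contra hemp
  rw [Set.not_nonempty_iff_eq_empty] at hemp
  have := hb' Z (qc_lqc (lc_mem hZ))
  rw [hemp, closure_empty] at this
  obtain ⟨z, hz⟩ := hne
  exact this hz

lemma b_c (hb : ∀ Z : Set X, LQC Z → Z.Nonempty → (Z ∩ X₀).Nonempty) (Z Z' : Set X) (hZ : LQC Z)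
    (hZ' : LQC Z') (hEq : Z ∩ X₀ = Z' ∩ X₀) : Z = Z' := by
  apply Set.Subset.antisymm
  · intro z hz
    by_contra hz'
    obtain ⟨p, ⟨hpZ, hpZ'⟩, hp0⟩ := hb (Z \ Z') (lqc_sdiff hZ hZ') ⟨z, hz, hz'⟩
    have : p ∈ Z' ∩ X₀ := hEq ▸ ⟨hpZ, hp0⟩
    exact hpZ' this.1
  · intro z hz
    by_contra hz'
    obtain ⟨p, ⟨hpZ, hpZ'⟩, hp0⟩ := hb (Z' \ Z) (lqc_sdiff hZ' hZ) ⟨z, hz, hz'⟩
    have : p ∈ Z ∩ X₀ := hEq.symm ▸ ⟨hpZ, hp0⟩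
    exact hpZ' this.1

lemma c_a (hc : ∀ Z Z' : Set X, QC Z → QC Z' → Z ∩ X₀ = Z' ∩ X₀ → Z = Z') : CondA X₀ := by
  intro Z hZ hne
  by_contra hemp
  rw [Set.not_nonempty_iff_eq_empty] at hemp
  have := hc Z ∅ ((qc_iff Z).2 (lc_mem hZ)) ((qc_iff ∅).2 BooleanSubalgebra.bot_mem)
    (by rw [hemp, Set.empty_inter])
  rw [this] at hne
  exact Set.not_nonempty_empty hne

theorem tfae :
    [CondA X₀,
      ∀ Z : Set X, LQC Z → Z.Nonempty → (Z ∩ X₀).Nonempty,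
      ∀ Z : Set X, LQC Z → Z ⊆ closure (Z ∩ X₀),
      ∀ Z Z' : Set X, QC Z → QC Z' → Z ∩ X₀ = Z' ∩ X₀ → Z = Z',
      ∀ Z Z' : Set X, LQC Z → LQC Z' → Z ∩ X₀ = Z' ∩ X₀ → Z = Z'].TFAE := by
  tfae_have 1 → 2 := a_b X₀
  tfae_have 2 → 3 := b_b' X₀
  tfae_have 3 → 1 := b'_a X₀
  tfae_have 2 → 5 := b_c X₀
  tfae_have 5 → 4 := fun h Z Z' hZ hZ' =>
    h Z Z' (qc_lqc ((qc_iff Z).1 hZ)) (qc_lqc ((qc_iff Z').1 hZ'))
  tfae_have 4 → 1 := c_a X₀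
  tfae_finish

lemma exists_qc_preimage {s₀ : Set ↥X₀} (h : s₀ ∈ QCb ↥X₀) :
    ∃ s ∈ QCb X, Subtype.val ⁻¹' s = s₀ := by
  obtain ⟨T, hT, hlc, rfl⟩ := (qc_iff s₀).2 h
  have : ∀ t ∈ T, ∃ s : Set X, IsLocallyClosed s ∧ Subtype.val ⁻¹' s = t := fun t ht =>
    (Topology.IsInducing.subtypeVal.isLocallyClosed_iff).1 (hlc t ht)
  choose! f hf hft using this
  refine ⟨⋃₀ (f '' T), ?_, ?_⟩
  · exact BooleanSubalgebra.sSup_mem (hT.image f)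
      (by rintro _ ⟨t, ht, rfl⟩; exact lc_mem (hf t ht))
  · ext x
    simp only [Set.mem_preimage, Set.mem_sUnion, Set.mem_image, exists_exists_and_eq_and]
    constructor
    · rintro ⟨t, ht, hx⟩
      refine ⟨t, ht, ?_⟩
      rw [← hft t ht]; exact hx
    · rintro ⟨t, ht, hx⟩
      refine ⟨t, ht, ?_⟩
      rw [← hft t ht] at hx; exact hx

lemma qc_eq_of_preimage_eq (ha : CondA X₀) {S S' : Set X} (hS : S ∈ QCb X) (hS' : S' ∈ QCb X)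
    (h : (Subtype.val ⁻¹' S : Set ↥X₀) = Subtype.val ⁻¹' S') : S = S' := by
  have h14 : CondA X₀ → ∀ Z Z' : Set X, QC Z → QC Z' → Z ∩ X₀ = Z' ∩ X₀ → Z = Z' :=
    ((tfae X₀).out 0 3).1
  refine h14 ha S S' ((qc_iff S).2 hS) ((qc_iff S').2 hS') ?_
  ext p
  constructor
  · rintro ⟨hp, hp0⟩
    have : (⟨p, hp0⟩ : ↥X₀) ∈ Subtype.val ⁻¹' S' := h ▸ hp
    exact ⟨this, hp0⟩
  · rintro ⟨hp, hp0⟩
    have : (⟨p, hp0⟩ : ↥X₀) ∈ Subtype.val ⁻¹' S := h.symm ▸ hp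
    exact ⟨this, hp0⟩

theorem ext (ha : CondA X₀) (Z₀ : Set ↥X₀) (hZ₀ : LQC Z₀) :
    ∃ Z : Set X, LQC Z ∧ Subtype.val ⁻¹' Z = Z₀ := by
  rw [lqc_iff] at hZ₀
  choose U₀ hU₀ hxU₀ hUZ₀ using hZ₀
  have hU : ∀ x, ∃ U : Set X, IsOpen U ∧ Subtype.val ⁻¹' U = U₀ x :=
    fun x => isOpen_induced_iff.1 (hU₀ x)
  choose U hUo hUpre using hU
  have hW : ∀ x, ∃ W ∈ QCb X, Subtype.val ⁻¹' W = U₀ x ∩ Z₀ :=
    fun x => exists_qc_preimage X₀ (hUZ₀ x)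
  choose W' hW'qc hW'pre using hW
  have hWqc : ∀ x, W' x ∩ U x ∈ QCb X :=
    fun x => BooleanSubalgebra.inf_mem (hW'qc x) (open_mem (hUo x))
  have hWpre : ∀ x, (Subtype.val ⁻¹' (W' x ∩ U x) : Set ↥X₀) = U₀ x ∩ Z₀ := by
    intro x
    rw [Set.preimage_inter, hW'pre, hUpre]
    ext q; simp only [Set.mem_inter_iff]; tauto
  have hcompat : ∀ x y, (W' x ∩ U x) ∩ U y = (W' y ∩ U y) ∩ U x := by
    intro x y
    apply qc_eq_of_preimage_eq X₀ ha (BooleanSubalgebra.inf_mem (hWqc x) (open_mem (hUo y)))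
      (BooleanSubalgebra.inf_mem (hWqc y) (open_mem (hUo x)))
    change (Subtype.val ⁻¹' ((W' x ∩ U x) ∩ U y) : Set ↥X₀) = Subtype.val ⁻¹' ((W' y ∩ U y) ∩ U x)
    ext q
    have h1 := Set.ext_iff.1 (hWpre x) q
    have h2 := Set.ext_iff.1 (hWpre y) q
    have h3 := Set.ext_iff.1 (hUpre x) q
    have h4 := Set.ext_iff.1 (hUpre y) q
    simp only [Set.mem_preimage, Set.mem_inter_iff] at h1 h2 h3 h4 ⊢
    tauto
  have hcover : (⋃ x, U x) = Set.univ := by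
    by_contra hne
    have hne' : ((⋃ x, U x)ᶜ).Nonempty := Set.nonempty_compl.2 hne
    obtain ⟨q, hq, hq0⟩ := ha _ (isClosed_compl_iff.2 (isOpen_iUnion hUo)).isLocallyClosed hne'
    apply hq
    refine Set.mem_iUnion.2 ⟨⟨q, hq0⟩, ?_⟩
    have : (⟨q, hq0⟩ : ↥X₀) ∈ Subtype.val ⁻¹' U ⟨q, hq0⟩ := by rw [hUpre]; exact hxU₀ _
    exact this
  refine ⟨⋃ x, (W' x ∩ U x), ?_, ?_⟩
  · rw [lqc_iff]
    intro p
    have hp : p ∈ ⋃ x, U x := hcover ▸ trivial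
    obtain ⟨x, hx⟩ := Set.mem_iUnion.1 hp
    refine ⟨U x, hUo x, hx, ?_⟩
    have : U x ∩ ⋃ y, (W' y ∩ U y) = W' x ∩ U x := by
      ext q
      constructor
      · rintro ⟨hqU, hq⟩
        obtain ⟨y, hqW⟩ := Set.mem_iUnion.1 hq
        have : q ∈ (W' y ∩ U y) ∩ U x := ⟨hqW, hqU⟩
        rw [← hcompat x y] at this
        exact this.1
      · intro hq
        exact ⟨hq.2, Set.mem_iUnion.2 ⟨x, hq⟩⟩
    rw [this]; exact hWqc x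
  · ext ⟨q, hq0⟩
    constructor
    · intro hq
      obtain ⟨x, hx⟩ := Set.mem_iUnion.1 hq
      have : (⟨q, hq0⟩ : ↥X₀) ∈ Subtype.val ⁻¹' (W' x ∩ U x) := hx
      rw [hWpre] at this; exact this.2
    · intro hq
      refine Set.mem_iUnion.2 ⟨⟨q, hq0⟩, ?_⟩
      have : (⟨q, hq0⟩ : ↥X₀) ∈ Subtype.val ⁻¹' (W' ⟨q, hq0⟩ ∩ U ⟨q, hq0⟩) := by
        rw [hWpre]; exact ⟨hxU₀ _, hq⟩
      exact this

theorem main :
    [CondA X₀,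
      ∀ Z : Set X, LQC Z → Z.Nonempty → (Z ∩ X₀).Nonempty,
      ∀ Z : Set X, LQC Z → Z ⊆ closure (Z ∩ X₀),
      ∀ Z Z' : Set X, QC Z → QC Z' → Z ∩ X₀ = Z' ∩ X₀ → Z = Z',
      ∀ Z Z' : Set X, LQC Z → LQC Z' → Z ∩ X₀ = Z' ∩ X₀ → Z = Z'].TFAE ∧
    (CondA X₀ → ∀ Z₀ : Set ↥X₀, LQC Z₀ → ∃ Z : Set X, LQC Z ∧ Subtype.val ⁻¹' Z = Z₀) :=
  ⟨tfae X₀, ext X₀⟩

end Groth.Agent.H9.VeryDense
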