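import Mathlib
import Groth.Agent.Lib.Helper9.Misc.VeryDense
import Groth.Agent.S4890

/-! Helper9: quasi-homeomorphisms preserve loc. closed / constructible / loc. constructible sets (S4897). -/

namespace Groth.Agent.H9.QHomeo
open Topology Set
open scoped Set.Notation
open Groth.Agent.H9.VeryDense

universe u

/-- quasi-homeomorphism in unbundled form -/
structure QH {X Y : Type u} [TopologicalSpace X] [TopologicalSpace Y] (f : X → Y) : Prop where
  cont : Continuous f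
  inj : ∀ U₁ U₂ : Set Y, IsOpen U₁ → IsOpen U₂ → f ⁻¹' U₁ = f ⁻¹' U₂ → U₁ = U₂
  surj : ∀ V : Set X, IsOpen V → ∃ U : Set Y, IsOpen U ∧ f ⁻¹' U = V

variable {X Y : Type u} [TopologicalSpace X] [TopologicalSpace Y] {f : X → Y}

lemma QH.mono (h : QH f) {U W : Set Y} (hU : IsOpen U) (hW : IsOpen W)
    (hUW : f ⁻¹' U ⊆ f ⁻¹' W) : U ⊆ W :=
  Groth.Agent.S4890.qh_mono f h.inj hU hW hUW

lemma QH.isCompact_iff (h : QH f) {U : Set Y} (hU : IsOpen U) :
    IsCompact U ↔ IsCompact (f ⁻¹' U) :=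
  Groth.Agent.S4890.qh_isCompact_iff f h.cont h.inj h.surj hU

lemma QH.restrict (h : QH f) {U : Set Y} (hU : IsOpen U) : QH (U.restrictPreimage f) := by
  have := Groth.Agent.S4893.result f h.cont ⟨h.inj, h.surj⟩ U (fun y =>
    ⟨univ, isOpen_univ, trivial, {U}, Set.finite_singleton _,
      fun t ht => by rw [Set.mem_singleton_iff.1 ht]; exact hU.isLocallyClosed, by simp⟩)
  exact ⟨h.cont.restrictPreimage, this.1, this.2⟩

lemma QH.condA (h : QH f) : CondA (range f) := by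
  intro Z hZ hne
  obtain ⟨O, C, hO, hC, rfl⟩ := hZ
  by_contra hemp
  rw [Set.not_nonempty_iff_eq_empty] at hemp
  have hsub : f ⁻¹' O ⊆ f ⁻¹' Cᶜ := by
    intro p hpO hpC
    have : f p ∈ (O ∩ C) ∩ range f := ⟨⟨hpO, hpC⟩, mem_range_self p⟩
    rw [hemp] at this
    exact this
  have := h.mono hO hC.isOpen_compl hsub
  obtain ⟨z, hzO, hzC⟩ := hne
  exact this hzO hzC

lemma inter_range_eq {S S' : Set Y} (he : f ⁻¹' S = f ⁻¹' S') : S ∩ range f = S' ∩ range f := by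
  ext y
  constructor
  · rintro ⟨hy, p, rfl⟩
    have : p ∈ f ⁻¹' S' := he ▸ hy
    exact ⟨this, mem_range_self p⟩
  · rintro ⟨hy, p, rfl⟩
    have : p ∈ f ⁻¹' S := he.symm ▸ hy
    exact ⟨this, mem_range_self p⟩

lemma QH.eq_of_qc (h : QH f) {S S' : Set Y} (hS : S ∈ QCb Y) (hS' : S' ∈ QCb Y)
    (he : f ⁻¹' S = f ⁻¹' S') : S = S' := by
  have h14 : CondA (range f) → ∀ Z Z' : Set Y, QC Z → QC Z' →
      Z ∩ range f = Z' ∩ range f → Z = Z' := ((tfae (range f)).out 0 3).1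
  exact h14 h.condA S S' ((qc_iff S).2 hS) ((qc_iff S').2 hS') (inter_range_eq he)

lemma QH.eq_of_lqc (h : QH f) {S S' : Set Y} (hS : LQC S) (hS' : LQC S')
    (he : f ⁻¹' S = f ⁻¹' S') : S = S' := by
  have h15 : CondA (range f) → ∀ Z Z' : Set Y, LQC Z → LQC Z' →
      Z ∩ range f = Z' ∩ range f → Z = Z' := ((tfae (range f)).out 0 4).1
  exact h15 h.condA S S' hS hS' (inter_range_eq he)

lemma QH.isRetrocompact_iff (h : QH f) {U : Set Y} (hU : IsOpen U) :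
    IsRetrocompact U ↔ IsRetrocompact (f ⁻¹' U) := by
  constructor
  · intro hr V' hV'c hV'o
    obtain ⟨V, hVo, rfl⟩ := h.surj V' hV'o
    have hVc : IsCompact V := (h.isCompact_iff hVo).2 hV'c
    rw [← Set.preimage_inter]
    exact (h.isCompact_iff (hU.inter hVo)).1 (hr hVc hVo)
  · intro hr V hVc hVo
    have := hr ((h.isCompact_iff hVo).1 hVc) (hVo.preimage h.cont)
    rw [← Set.preimage_inter] at this
    exact (h.isCompact_iff (hU.inter hVo)).2 this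

lemma QH.constructible_preimage (h : QH f) {Z : Set Y} (hZ : IsConstructible Z) :
    IsConstructible (f ⁻¹' Z) :=
  hZ.preimage h.cont (fun _ hs hr => (h.isRetrocompact_iff hs).1 hr)

lemma QH.exists_constructible (h : QH f) {Z' : Set X} (hZ' : IsConstructible Z') :
    ∃ Z, IsConstructible Z ∧ f ⁻¹' Z = Z' := by
  induction hZ' using IsConstructible.empty_union_induction with
  | open_retrocompact U' hUopen hUcomp =>
    obtain ⟨U, hUo, rfl⟩ := h.surj U' hUopen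
    exact ⟨U, ((h.isRetrocompact_iff hUo).2 hUcomp).isConstructible hUo, rfl⟩
  | union s hs t ht hs' ht' =>
    obtain ⟨Z₁, h₁, rfl⟩ := hs'
    obtain ⟨Z₂, h₂, rfl⟩ := ht'
    exact ⟨Z₁ ∪ Z₂, h₁.union h₂, rfl⟩
  | compl s hs hs' =>
    obtain ⟨Z₁, h₁, rfl⟩ := hs'
    exact ⟨Z₁ᶜ, h₁.compl, rfl⟩

lemma constructible_mem_QCb {Z : Set Y} (hZ : IsConstructible Z) : Z ∈ QCb Y :=
  BooleanSubalgebra.closure_mono (fun _ hU => hU.1) hZ

lemma image_val_mem_QCb {U : Set Y} (hU : IsOpen U) {W : Set ↥U} (hW : W ∈ QCb ↥U) :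
    Subtype.val '' W ∈ QCb Y := by
  obtain ⟨T, hT, hlc, rfl⟩ := (qc_iff W).2 hW
  rw [Set.image_sUnion]
  apply BooleanSubalgebra.sSup_mem (s := (fun t => Subtype.val '' t) '' T) (hT.image _)
  rintro _ ⟨t, ht, rfl⟩
  exact lc_mem ((hlc t ht).image IsInducing.subtypeVal
    (by rw [Subtype.range_coe]; exact hU.isLocallyClosed))

lemma lqc_of_isLocallyConstructible {Z : Set Y} (hZ : IsLocallyConstructible Z) : LQC Z := by
  rw [lqc_iff]
  intro y
  obtain ⟨U, hUn, hUo, hc⟩ := hZ y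
  refine ⟨U, hUo, mem_of_mem_nhds hUn, ?_⟩
  have := image_val_mem_QCb hUo (constructible_mem_QCb hc)
  rwa [Subtype.image_preimage_coe] at this

lemma QH.locallyConstructible_preimage (h : QH f) {Z : Set Y} (hZ : IsLocallyConstructible Z) :
    IsLocallyConstructible (f ⁻¹' Z) := by
  intro x
  obtain ⟨U, hUn, hUo, hc⟩ := hZ (f x)
  refine ⟨f ⁻¹' U, h.cont.continuousAt.preimage_mem_nhds hUn, hUo.preimage h.cont, ?_⟩
  exact (h.restrict hUo).constructible_preimage hc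

lemma QH.exists_locallyConstructible (h : QH f) {Z' : Set X} (hZ' : IsLocallyConstructible Z') :
    ∃ Z, IsLocallyConstructible Z ∧ f ⁻¹' Z = Z' := by
  have h1 : ∀ x : X, ∃ U : Set Y, IsOpen U ∧ x ∈ f ⁻¹' U ∧
      IsConstructible ((f ⁻¹' U) ↓∩ Z') := by
    intro x
    obtain ⟨U', hn, ho, hc⟩ := hZ' x
    obtain ⟨U, hUo, rfl⟩ := h.surj U' ho
    exact ⟨U, hUo, mem_of_mem_nhds hn, hc⟩
  choose U hUo hxU hc using h1
  have hW : ∀ x, ∃ W : Set ↥(U x), IsConstructible W ∧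
      ((U x).restrictPreimage f) ⁻¹' W = (f ⁻¹' U x) ↓∩ Z' :=
    fun x => (h.restrict (hUo x)).exists_constructible (hc x)
  choose W hWc hWpre using hW
  have hSqc : ∀ x, Subtype.val '' W x ∈ QCb Y :=
    fun x => image_val_mem_QCb (hUo x) (constructible_mem_QCb (hWc x))
  have hSU : ∀ x, Subtype.val '' W x ⊆ U x := by
    rintro x _ ⟨w, -, rfl⟩; exact w.2
  have hSpre : ∀ x, f ⁻¹' (Subtype.val '' W x) = f ⁻¹' U x ∩ Z' := by
    intro x
    ext p
    constructor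
    · rintro ⟨w, hw, hwp⟩
      have hpU : p ∈ f ⁻¹' U x := by
        change f p ∈ U x; rw [← hwp]; exact w.2
      have : (⟨p, hpU⟩ : ↥(f ⁻¹' U x)) ∈ ((U x).restrictPreimage f) ⁻¹' W x := by
        have : (U x).restrictPreimage f ⟨p, hpU⟩ = w := Subtype.ext hwp.symm
        change (U x).restrictPreimage f ⟨p, hpU⟩ ∈ W x
        rw [this]; exact hw
      rw [hWpre] at this
      exact ⟨hpU, this⟩
    · rintro ⟨hpU, hpZ⟩
      have : (⟨p, hpU⟩ : ↥(f ⁻¹' U x)) ∈ ((U x).restrictPreimage f) ⁻¹' W x := by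
        rw [hWpre]; exact hpZ
      exact ⟨(U x).restrictPreimage f ⟨p, hpU⟩, this, rfl⟩
  have hcompat : ∀ x y, (Subtype.val '' W x) ∩ U y = (Subtype.val '' W y) ∩ U x := by
    intro x y
    apply h.eq_of_qc (BooleanSubalgebra.inf_mem (hSqc x) (open_mem (hUo y)))
      (BooleanSubalgebra.inf_mem (hSqc y) (open_mem (hUo x)))
    change f ⁻¹' ((Subtype.val '' W x) ∩ U y) = f ⁻¹' ((Subtype.val '' W y) ∩ U x)
    ext p
    have h1 := Set.ext_iff.1 (hSpre x) p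
    have h2 := Set.ext_iff.1 (hSpre y) p
    simp only [Set.mem_preimage, Set.mem_inter_iff] at h1 h2 ⊢
    tauto
  have hcover : (⋃ x, U x) = Set.univ := by
    apply h.inj _ _ (isOpen_iUnion hUo) isOpen_univ
    rw [Set.preimage_univ, Set.eq_univ_iff_forall]
    intro p
    exact Set.mem_iUnion.2 ⟨p, hxU p⟩
  have hUZ : ∀ x, U x ∩ ⋃ y, Subtype.val '' W y = Subtype.val '' W x := by
    intro x
    ext q
    constructor
    · rintro ⟨hqU, hq⟩
      obtain ⟨y, hqW⟩ := Set.mem_iUnion.1 hq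
      have : q ∈ (Subtype.val '' W y) ∩ U x := ⟨hqW, hqU⟩
      rw [← hcompat x y] at this
      exact this.1
    · intro hq
      exact ⟨hSU x hq, Set.mem_iUnion.2 ⟨x, hq⟩⟩
  refine ⟨⋃ x, Subtype.val '' W x, ?_, ?_⟩
  · intro y
    have hy : y ∈ ⋃ x, U x := hcover ▸ trivial
    obtain ⟨x, hx⟩ := Set.mem_iUnion.1 hy
    refine ⟨U x, (hUo x).mem_nhds hx, hUo x, ?_⟩
    have : (U x) ↓∩ (⋃ y, Subtype.val '' W y) = W x := by
      have e1 : (U x) ↓∩ (⋃ y, Subtype.val '' W y) = (U x) ↓∩ (U x ∩ ⋃ y, Subtype.val '' W y) := by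
        ext q; simp only [Set.mem_preimage, Set.mem_inter_iff, q.2, true_and]
      rw [e1, hUZ x, Set.preimage_image_eq _ Subtype.val_injective]
    rw [this]
    exact hWc x
  · rw [Set.preimage_iUnion]
    ext p
    simp only [Set.mem_iUnion, hSpre]
    constructor
    · rintro ⟨x, -, hp⟩; exact hp
    · intro hp; exact ⟨p, hxU p, hp⟩

theorem main (hf : Continuous f)
    (hq : Function.Bijective (fun U : TopologicalSpace.Opens Y =>
      (⟨f ⁻¹' (U : Set Y), U.isOpen.preimage hf⟩ : TopologicalSpace.Opens X))) :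
    Function.Bijective (fun Z : {Z : Set Y // IsLocallyClosed Z} =>
        (⟨f ⁻¹' Z.1, Z.2.preimage hf⟩ : {Z : Set X // IsLocallyClosed Z})) ∧
      Set.BijOn (fun Z : Set Y => f ⁻¹' Z) {Z | Topology.IsConstructible Z}
        {Z | Topology.IsConstructible Z} ∧
      Set.BijOn (fun Z : Set Y => f ⁻¹' Z) {Z | Topology.IsLocallyConstructible Z}
        {Z | Topology.IsLocallyConstructible Z} := by
  have h : QH f := by
    refine ⟨hf, ?_, ?_⟩
    · intro U₁ U₂ h₁ h₂ e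
      have := @hq.1 ⟨U₁, h₁⟩ ⟨U₂, h₂⟩ (TopologicalSpace.Opens.ext e)
      exact congrArg (fun G : TopologicalSpace.Opens Y => (G : Set Y)) this
    · intro V hV
      obtain ⟨U, hU⟩ := hq.2 ⟨V, hV⟩
      exact ⟨U, U.isOpen, congrArg (fun G : TopologicalSpace.Opens X => (G : Set X)) hU⟩
  refine ⟨⟨?_, ?_⟩, ⟨?_, ?_, ?_⟩, ⟨?_, ?_, ?_⟩⟩
  · rintro ⟨Z₁, h₁⟩ ⟨Z₂, h₂⟩ he
    apply Subtype.ext
    exact h.eq_of_qc (lc_mem h₁) (lc_mem h₂) (congrArg Subtype.val he)
  · rintro ⟨Z', O', C', hO', hC', rfl⟩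
    obtain ⟨O, hO, rfl⟩ := h.surj O' hO'
    obtain ⟨D, hD, hDe⟩ := h.surj C'ᶜ hC'.isOpen_compl
    refine ⟨⟨O ∩ Dᶜ, O, Dᶜ, hO, hD.isClosed_compl, rfl⟩, ?_⟩
    apply Subtype.ext
    change f ⁻¹' (O ∩ Dᶜ) = f ⁻¹' O ∩ C'
    rw [Set.preimage_inter, Set.preimage_compl, hDe, compl_compl]
  · intro Z hZ
    exact h.constructible_preimage hZ
  · intro Z₁ h₁ Z₂ h₂ he
    exact h.eq_of_qc (constructible_mem_QCb h₁) (constructible_mem_QCb h₂) he
  · intro Z' hZ'
    obtain ⟨Z, hZ, rfl⟩ := h.exists_constructible hZ'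
    exact ⟨Z, hZ, rfl⟩
  · intro Z hZ
    exact h.locallyConstructible_preimage hZ
  · intro Z₁ h₁ Z₂ h₂ he
    exact h.eq_of_lqc (lqc_of_isLocallyConstructible h₁) (lqc_of_isLocallyConstructible h₂) he
  · intro Z' hZ'
    obtain ⟨Z, hZ, rfl⟩ := h.exists_locallyConstructible hZ'
    exact ⟨Z, hZ, rfl⟩

end Groth.Agent.H9.QHomeo
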