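import Mathlib
import Groth.Agent.Lib.Helper9.Misc.QHomeo

/-! Helper9: quasi-homeomorphisms and (locally) quasi-constructible sets (S12127). -/

namespace Groth.Agent.H9.QHomeo
open Topology Set
open scoped Set.Notation
open Groth.Agent.H9.VeryDense

universe u

variable {X Y : Type u} [TopologicalSpace X] [TopologicalSpace Y] {f : X → Y}

lemma preimage_mem_QCb (hf : Continuous f) {S : Set Y} (hS : S ∈ QCb Y) : f ⁻¹' S ∈ QCb X := by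
  obtain ⟨T, hT, hlc, rfl⟩ := (qc_iff S).2 hS
  rw [Set.preimage_sUnion]
  have : (⋃ t ∈ T, f ⁻¹' t) = ⋃₀ ((fun t => f ⁻¹' t) '' T) := by
    rw [Set.sUnion_image]
  rw [this]
  apply BooleanSubalgebra.sSup_mem (s := (fun t => f ⁻¹' t) '' T) (hT.image _)
  rintro _ ⟨t, ht, rfl⟩
  exact lc_mem ((hlc t ht).preimage hf)

/-- the statement's form of local quasi-constructibility -/
def LQC' (Z : Set X) : Prop :=
  ∀ x : X, ∃ V : Set X, IsOpen V ∧ x ∈ V ∧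
    ∃ T : Set (Set V), T.Finite ∧ (∀ t ∈ T, IsLocallyClosed t) ∧
      (Subtype.val ⁻¹' Z : Set V) = ⋃₀ T

lemma lqc'_iff (Z : Set X) : LQC' Z ↔ LQC Z := by
  rw [lqc_iff]
  refine forall_congr' fun x => exists_congr fun V => and_congr_right fun hV =>
    and_congr_right fun _ => ?_
  change QC (Subtype.val ⁻¹' Z : Set V) ↔ _
  rw [qc_iff]
  constructor
  · intro h
    have := image_val_mem_QCb hV h
    rwa [Subtype.image_preimage_coe] at this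
  · intro h
    have := preimage_mem_QCb (continuous_subtype_val (p := fun x => x ∈ V)) h
    have e : (Subtype.val ⁻¹' (V ∩ Z) : Set V) = Subtype.val ⁻¹' Z := by
      ext q; simp only [Set.mem_preimage, Set.mem_inter_iff, q.2, true_and]
    rwa [e] at this

lemma QH.exists_lc (h : QH f) {Z' : Set X} (hZ' : IsLocallyClosed Z') :
    ∃ Z, IsLocallyClosed Z ∧ f ⁻¹' Z = Z' := by
  obtain ⟨O', C', hO', hC', rfl⟩ := hZ'
  obtain ⟨O, hO, rfl⟩ := h.surj O' hO'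
  obtain ⟨D, hD, hDe⟩ := h.surj C'ᶜ hC'.isOpen_compl
  refine ⟨O ∩ Dᶜ, ⟨O, Dᶜ, hO, hD.isClosed_compl, rfl⟩, ?_⟩
  rw [Set.preimage_inter, Set.preimage_compl, hDe, compl_compl]

lemma QH.exists_qc (h : QH f) {Z' : Set X} (hZ' : Z' ∈ QCb X) :
    ∃ Z ∈ QCb Y, f ⁻¹' Z = Z' := by
  obtain ⟨T, hT, hlc, rfl⟩ := (qc_iff Z').2 hZ'
  have : ∀ t ∈ T, ∃ s : Set Y, IsLocallyClosed s ∧ f ⁻¹' s = t := fun t ht =>
    h.exists_lc (hlc t ht)
  choose! g hg hgt using this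
  refine ⟨⋃₀ (g '' T), ?_, ?_⟩
  · exact BooleanSubalgebra.sSup_mem (hT.image g)
      (by rintro _ ⟨t, ht, rfl⟩; exact lc_mem (hg t ht))
  · ext x
    simp only [Set.mem_preimage, Set.mem_sUnion, Set.mem_image, exists_exists_and_eq_and]
    constructor
    · rintro ⟨t, ht, hx⟩
      refine ⟨t, ht, ?_⟩
      rw [← hgt t ht]; exact hx
    · rintro ⟨t, ht, hx⟩
      refine ⟨t, ht, ?_⟩
      rw [← hgt t ht] at hx; exact hx

lemma QH.lqc_preimage (h : QH f) {Z : Set Y} (hZ : LQC Z) : LQC (f ⁻¹' Z) := by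
  rw [lqc_iff] at hZ ⊢
  intro x
  obtain ⟨U, hU, hxU, hUZ⟩ := hZ (f x)
  refine ⟨f ⁻¹' U, hU.preimage h.cont, hxU, ?_⟩
  rw [← Set.preimage_inter]
  exact preimage_mem_QCb h.cont hUZ

lemma QH.exists_lqc (h : QH f) {Z' : Set X} (hZ' : LQC Z') :
    ∃ Z, LQC Z ∧ f ⁻¹' Z = Z' := by
  rw [lqc_iff] at hZ'
  have h1 : ∀ x : X, ∃ U : Set Y, IsOpen U ∧ x ∈ f ⁻¹' U ∧ f ⁻¹' U ∩ Z' ∈ QCb X := by
    intro x
    obtain ⟨U', ho, hx, hc⟩ := hZ' x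
    obtain ⟨U, hUo, rfl⟩ := h.surj U' ho
    exact ⟨U, hUo, hx, hc⟩
  choose U hUo hxU hc using h1
  choose W' hW'qc hW'pre using fun x => h.exists_qc (hc x)
  have hSqc : ∀ x, W' x ∩ U x ∈ QCb Y :=
    fun x => BooleanSubalgebra.inf_mem (hW'qc x) (open_mem (hUo x))
  have hSpre : ∀ x, f ⁻¹' (W' x ∩ U x) = f ⁻¹' U x ∩ Z' := by
    intro x
    rw [Set.preimage_inter, hW'pre]
    ext q; simp only [Set.mem_inter_iff]; tauto
  have hcompat : ∀ x y, (W' x ∩ U x) ∩ U y = (W' y ∩ U y) ∩ U x := by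
    intro x y
    apply h.eq_of_qc (BooleanSubalgebra.inf_mem (hSqc x) (open_mem (hUo y)))
      (BooleanSubalgebra.inf_mem (hSqc y) (open_mem (hUo x)))
    change f ⁻¹' ((W' x ∩ U x) ∩ U y) = f ⁻¹' ((W' y ∩ U y) ∩ U x)
    ext p
    have h1 := Set.ext_iff.1 (hSpre x) p
    have h2 := Set.ext_iff.1 (hSpre y) p
    simp only [Set.mem_preimage, Set.mem_inter_iff] at h1 h2 ⊢
    tauto
  have hcover : (⋃ x, U x) = Set.univ := by
    apply h.inj _ _ (isOpen_iUnion hUo) isOpen_univ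
    rw [Set.preimage_univ, Set.eq_univ_iff_forall]
    intro p
    exact Set.mem_iUnion.2 ⟨p, hxU p⟩
  have hUZ : ∀ x, U x ∩ ⋃ y, (W' y ∩ U y) = W' x ∩ U x := by
    intro x
    ext q
    constructor
    · rintro ⟨hqU, hq⟩
      obtain ⟨y, hqW⟩ := Set.mem_iUnion.1 hq
      have : q ∈ (W' y ∩ U y) ∩ U x := ⟨hqW, hqU⟩
      rw [← hcompat x y] at this
      exact this.1
    · intro hq
      exact ⟨hq.2, Set.mem_iUnion.2 ⟨x, hq⟩⟩
  refine ⟨⋃ x, (W' x ∩ U x), ?_, ?_⟩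
  · rw [lqc_iff]
    intro y
    have hy : y ∈ ⋃ x, U x := hcover ▸ trivial
    obtain ⟨x, hx⟩ := Set.mem_iUnion.1 hy
    refine ⟨U x, hUo x, hx, ?_⟩
    rw [hUZ x]
    exact hSqc x
  · rw [Set.preimage_iUnion]
    ext p
    simp only [Set.mem_iUnion, hSpre]
    constructor
    · rintro ⟨x, -, hp⟩; exact hp
    · intro hp; exact ⟨p, hxU p, hp⟩

theorem main2 (hf : Continuous f)
    (hq : Function.Bijective (fun U : TopologicalSpace.Opens Y =>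
      (⟨f ⁻¹' (U : Set Y), U.isOpen.preimage hf⟩ : TopologicalSpace.Opens X))) :
    Set.BijOn (fun Z : Set Y => f ⁻¹' Z)
        {Z : Set Y | ∃ T : Set (Set Y), T.Finite ∧ (∀ t ∈ T, IsLocallyClosed t) ∧ Z = ⋃₀ T}
        {Z : Set X | ∃ T : Set (Set X), T.Finite ∧ (∀ t ∈ T, IsLocallyClosed t) ∧ Z = ⋃₀ T} ∧
      Set.BijOn (fun Z : Set Y => f ⁻¹' Z)
        {Z : Set Y | ∀ y : Y, ∃ V : Set Y, IsOpen V ∧ y ∈ V ∧
          ∃ T : Set (Set V), T.Finite ∧ (∀ t ∈ T, IsLocallyClosed t) ∧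
            (Subtype.val ⁻¹' Z : Set V) = ⋃₀ T}
        {Z : Set X | ∀ x : X, ∃ V : Set X, IsOpen V ∧ x ∈ V ∧
          ∃ T : Set (Set V), T.Finite ∧ (∀ t ∈ T, IsLocallyClosed t) ∧
            (Subtype.val ⁻¹' Z : Set V) = ⋃₀ T} := by
  have h : QH f := by
    refine ⟨hf, ?_, ?_⟩
    · intro U₁ U₂ h₁ h₂ e
      have := @hq.1 ⟨U₁, h₁⟩ ⟨U₂, h₂⟩ (TopologicalSpace.Opens.ext e)
      exact congrArg (fun G : TopologicalSpace.Opens Y => (G : Set Y)) this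
    · intro V hV
      obtain ⟨U, hU⟩ := hq.2 ⟨V, hV⟩
      exact ⟨U, U.isOpen, congrArg (fun G : TopologicalSpace.Opens X => (G : Set X)) hU⟩
  refine ⟨⟨?_, ?_, ?_⟩, ⟨?_, ?_, ?_⟩⟩
  · intro Z hZ
    exact (qc_iff _).2 (preimage_mem_QCb hf ((qc_iff Z).1 hZ))
  · intro Z₁ h₁ Z₂ h₂ he
    exact h.eq_of_qc ((qc_iff Z₁).1 h₁) ((qc_iff Z₂).1 h₂) he
  · intro Z' hZ'
    obtain ⟨Z, hZ, rfl⟩ := h.exists_qc ((qc_iff Z').1 hZ')
    exact ⟨Z, (qc_iff Z).2 hZ, rfl⟩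
  · intro Z hZ
    exact (lqc'_iff _).2 (h.lqc_preimage ((lqc'_iff Z).1 hZ))
  · intro Z₁ h₁ Z₂ h₂ he
    exact h.eq_of_lqc ((lqc'_iff Z₁).1 h₁) ((lqc'_iff Z₂).1 h₂) he
  · intro Z' hZ'
    obtain ⟨Z, hZ, rfl⟩ := h.exists_lqc ((lqc'_iff Z').1 hZ')
    exact ⟨Z, (lqc'_iff Z).2 hZ, rfl⟩

end Groth.Agent.H9.QHomeo
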