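import Mathlib

/-!
# Finite product decompositions of a ring: extension by zero and local-to-global principles (helper9)
-/

set_option autoImplicit false
set_option linter.unusedSectionVars false
set_option linter.unusedVariables false
set_option linter.style.haveILetI false

namespace Groth.Agent.H9.QI

open TensorProduct

universe u

section Decomp

variable (R : Type u) [CommRing R] {ι : Type u} [Fintype ι] [DecidableEq ι]
  (Rc : ι → Type u) [∀ c, CommRing (Rc c)] [∀ c, Algebra R (Rc c)]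

/-- `R` is the product of the rings `Rc c`, each of which is a quotient of `R`. -/
structure IsDecomp : Prop where
  bij : Function.Bijective (algebraMap R (∀ c, Rc c))
  surj : ∀ c, Function.Surjective (algebraMap R (Rc c))

variable {R Rc} (h : IsDecomp R Rc)

/-- `R ≃ ∏ Rc` as a linear equivalence -/
noncomputable def IsDecomp.equiv : R ≃ₗ[R] (∀ c, Rc c) :=
  LinearEquiv.ofBijective (Algebra.linearMap R (∀ c, Rc c)) h.bij

theorem IsDecomp.equiv_apply (r : R) (c : ι) : h.equiv r c = algebraMap R (Rc c) r := rfl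

theorem IsDecomp.algebraMap_equiv_symm (p : ∀ c, Rc c) (c : ι) :
    algebraMap R (Rc c) (h.equiv.symm p) = p c := by
  rw [← h.equiv_apply, LinearEquiv.apply_symm_apply]

/-- extension by zero `Rc c → R` -/
noncomputable def IsDecomp.jj (c : ι) : Rc c →ₗ[R] R :=
  h.equiv.symm.toLinearMap ∘ₗ LinearMap.single R Rc c

theorem IsDecomp.jj_apply (c : ι) (x : Rc c) : h.jj c x = h.equiv.symm (Pi.single c x) := rfl

theorem IsDecomp.algebraMap_jj_same (c : ι) (x : Rc c) :
    algebraMap R (Rc c) (h.jj c x) = x := by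
  rw [h.jj_apply, h.algebraMap_equiv_symm, Pi.single_eq_same]

theorem IsDecomp.algebraMap_jj_ne {c d : ι} (hne : d ≠ c) (x : Rc c) :
    algebraMap R (Rc d) (h.jj c x) = 0 := by
  rw [h.jj_apply, h.algebraMap_equiv_symm, Pi.single_eq_of_ne hne]

include h in
theorem IsDecomp.ext {r r' : R} (H : ∀ c, algebraMap R (Rc c) r = algebraMap R (Rc c) r') :
    r = r' :=
  h.bij.1 (funext H)

theorem IsDecomp.sum_jj (r : R) : ∑ c, h.jj c (algebraMap R (Rc c) r) = r := by
  apply h.ext
  intro d
  rw [map_sum, Finset.sum_eq_single d]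
  · exact h.algebraMap_jj_same d _
  · intro c _ hcd
    exact h.algebraMap_jj_ne (Ne.symm hcd) _
  · intro hd
    exact absurd (Finset.mem_univ d) hd

theorem IsDecomp.jj_mul (c : ι) (x y : Rc c) : h.jj c x * h.jj c y = h.jj c (x * y) := by
  apply h.ext
  intro d
  by_cases hd : d = c
  · subst hd
    rw [map_mul, h.algebraMap_jj_same, h.algebraMap_jj_same, h.algebraMap_jj_same]
  · rw [map_mul, h.algebraMap_jj_ne hd, h.algebraMap_jj_ne hd, h.algebraMap_jj_ne hd, zero_mul]

theorem IsDecomp.jj_mul_ne {c d : ι} (hne : c ≠ d) (x : Rc c) (y : Rc d) :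
    h.jj c x * h.jj d y = 0 := by
  apply h.ext
  intro k
  rw [map_mul, map_zero]
  by_cases hk : k = c
  · subst hk
    rw [h.algebraMap_jj_ne hne, mul_zero]
  · rw [h.algebraMap_jj_ne hk, zero_mul]

theorem IsDecomp.sum_jj_one : ∑ c, h.jj c (1 : Rc c) = 1 := by
  have := h.sum_jj 1
  simpa using this

theorem IsDecomp.jj_smul (c : ι) (x : Rc c) {N : Type*} [AddCommGroup N] [Module R N]
    [Module (Rc c) N] [IsScalarTower R (Rc c) N] (n : N) : h.jj c x • n = x • n := by
  rw [← algebraMap_smul (Rc c) (h.jj c x) n, h.algebraMap_jj_same]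

theorem IsDecomp.jj_smul_ne {c d : ι} (hne : d ≠ c) (x : Rc c) {N : Type*} [AddCommGroup N]
    [Module R N] [Module (Rc d) N] [IsScalarTower R (Rc d) N] (n : N) : h.jj c x • n = 0 := by
  rw [← algebraMap_smul (Rc d) (h.jj c x) n, h.algebraMap_jj_ne hne, zero_smul]

section Mod

variable (N : Type*) [AddCommGroup N] [Module R N]

/-- extension by zero on modules -/
noncomputable def IsDecomp.ss (c : ι) : Rc c ⊗[R] N →ₗ[R] N :=
  TensorProduct.lift ((LinearMap.lsmul R N).comp (h.jj c))

variable {N}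

theorem IsDecomp.ss_tmul (c : ι) (x : Rc c) (n : N) : h.ss N c (x ⊗ₜ[R] n) = h.jj c x • n := by
  rw [IsDecomp.ss, TensorProduct.lift.tmul]
  rfl

theorem IsDecomp.one_tmul_ss_same (c : ι) (w : Rc c ⊗[R] N) :
    (1 : Rc c) ⊗ₜ[R] (h.ss N c w) = w := by
  induction w using TensorProduct.induction_on with
  | zero => rw [map_zero, TensorProduct.tmul_zero]
  | add x y hx hy => rw [map_add, TensorProduct.tmul_add, hx, hy]
  | tmul x n =>
    rw [h.ss_tmul, ← TensorProduct.smul_tmul, Algebra.smul_def, mul_one, h.algebraMap_jj_same]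

theorem IsDecomp.one_tmul_ss_ne {c d : ι} (hne : d ≠ c) (w : Rc c ⊗[R] N) :
    (1 : Rc d) ⊗ₜ[R] (h.ss N c w) = 0 := by
  induction w using TensorProduct.induction_on with
  | zero => rw [map_zero, TensorProduct.tmul_zero]
  | add x y hx hy => rw [map_add, TensorProduct.tmul_add, hx, hy, add_zero]
  | tmul x n =>
    rw [h.ss_tmul, ← TensorProduct.smul_tmul, Algebra.smul_def, mul_one, h.algebraMap_jj_ne hne,
      TensorProduct.zero_tmul]

theorem IsDecomp.sum_ss (n : N) : ∑ c, h.ss N c ((1 : Rc c) ⊗ₜ[R] n) = n := by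
  simp_rw [h.ss_tmul]
  rw [← Finset.sum_smul, h.sum_jj_one, one_smul]

include h in
theorem IsDecomp.eq_of_forall_one_tmul {n n' : N}
    (H : ∀ c, (1 : Rc c) ⊗ₜ[R] n = (1 : Rc c) ⊗ₜ[R] n') : n = n' := by
  rw [← h.sum_ss n, ← h.sum_ss n']
  exact Finset.sum_congr rfl fun c _ => by rw [H c]

include h in
theorem IsDecomp.exists_one_tmul (c : ι) (w : Rc c ⊗[R] N) : ∃ n : N, (1 : Rc c) ⊗ₜ[R] n = w :=
  ⟨_, h.one_tmul_ss_same c w⟩

theorem IsDecomp.one_tmul_sum_ss (d : ι) (w : ∀ c, Rc c ⊗[R] N) :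
    (1 : Rc d) ⊗ₜ[R] (∑ c, h.ss N c (w c)) = w d := by
  rw [TensorProduct.tmul_sum, Finset.sum_eq_single d]
  · exact h.one_tmul_ss_same d _
  · intro c _ hcd
    exact h.one_tmul_ss_ne (Ne.symm hcd) _
  · intro hd
    exact absurd (Finset.mem_univ d) hd

end Mod

end Decomp

end Groth.Agent.H9.QI
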