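import Mathlib
import Groth.Agent.Lib.Helper9.Misc.QI1
import Groth.Agent.Lib.Helper9.MT.BaseChange

/-!
# Gluing bialgebra isomorphisms along a finite product decomposition of the base (helper9)
-/

set_option autoImplicit false
set_option linter.unusedSectionVars false
set_option linter.unusedVariables false
set_option linter.style.haveILetI false

namespace Groth.Agent.H9.QI

open TensorProduct

universe u

section Glue

variable {R : Type u} [CommRing R] {ι : Type u} [Fintype ι] [DecidableEq ι]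
  {Rc : ι → Type u} [∀ c, CommRing (Rc c)] [∀ c, Algebra R (Rc c)] (h : IsDecomp R Rc)

section Lin

variable {B B' : Type u} [AddCommGroup B] [AddCommGroup B'] [Module R B] [Module R B']

/-- glue a family of linear maps between the base changes -/
noncomputable def glueLin (ψ : ∀ c, Rc c ⊗[R] B →ₗ[R] Rc c ⊗[R] B') : B →ₗ[R] B' :=
  ∑ c, h.ss B' c ∘ₗ ψ c ∘ₗ TensorProduct.mk R (Rc c) B 1

theorem one_tmul_glueLin (ψ : ∀ c, Rc c ⊗[R] B →ₗ[R] Rc c ⊗[R] B') (d : ι) (b : B) :
    (1 : Rc d) ⊗ₜ[R] glueLin h ψ b = ψ d ((1 : Rc d) ⊗ₜ[R] b) := by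
  rw [glueLin, LinearMap.sum_apply]
  exact h.one_tmul_sum_ss d (fun c => ψ c ((1 : Rc c) ⊗ₜ[R] b))

end Lin

section Lam

variable (Rc)

/-- the map `y ⊗ z ↦ (1 ⊗ y) ⊗ (1 ⊗ z)` -/
noncomputable def Lam (d : ι) (X : Type u) [AddCommGroup X] [Module R X] :
    X ⊗[R] X →ₗ[R] (Rc d ⊗[R] X) ⊗[Rc d] (Rc d ⊗[R] X) :=
  ((TensorProduct.AlgebraTensorModule.distribBaseChange R (Rc d) X X).toLinearMap.restrictScalars
    R) ∘ₗ TensorProduct.mk R (Rc d) (X ⊗[R] X) 1

theorem Lam_tmul (d : ι) (X : Type u) [AddCommGroup X] [Module R X] (y z : X) :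
    Lam Rc d X (y ⊗ₜ[R] z) = ((1 : Rc d) ⊗ₜ[R] y) ⊗ₜ[Rc d] ((1 : Rc d) ⊗ₜ[R] z) := by
  show TensorProduct.AlgebraTensorModule.distribBaseChange R (Rc d) X X
    ((1 : Rc d) ⊗ₜ[R] (y ⊗ₜ[R] z)) = _
  rw [TensorProduct.AlgebraTensorModule.distribBaseChange_tmul]

variable {Rc}

include h in
theorem Lam_jointly_injective {X : Type u} [AddCommGroup X] [Module R X] {w w' : X ⊗[R] X}
    (H : ∀ d, Lam Rc d X w = Lam Rc d X w') : w = w' := by
  apply h.eq_of_forall_one_tmul
  intro d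
  exact (TensorProduct.AlgebraTensorModule.distribBaseChange R (Rc d) X X).injective (H d)

theorem Lam_comul (d : ι) (X : Type u) [CommRing X] [Bialgebra R X] (x : X) :
    Lam Rc d X (Coalgebra.comul (R := R) x) =
      Coalgebra.comul (R := Rc d) ((1 : Rc d) ⊗ₜ[R] x) := by
  have r := Coalgebra.Repr.arbitrary R x
  rw [MT.comul_tmul_repr (1 : Rc d) x r, ← r.eq, map_sum]
  refine Finset.sum_congr rfl fun i _ => ?_
  rw [Lam_tmul]

theorem counit_one_tmul (d : ι) (X : Type u) [CommRing X] [Bialgebra R X] (x : X) :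
    Coalgebra.counit (R := Rc d) ((1 : Rc d) ⊗ₜ[R] x) =
      algebraMap R (Rc d) (Coalgebra.counit (R := R) x) := by
  rw [TensorProduct.counit_tmul, CommSemiring.counit_apply, Algebra.algebraMap_eq_smul_one]

end Lam

section Bialg

variable {B B' : Type u} [CommRing B] [CommRing B'] [Bialgebra R B] [Bialgebra R B']
  (φ : ∀ c, Rc c ⊗[R] B ≃ₐc[Rc c] Rc c ⊗[R] B')

/-- the given isomorphisms as `R`-linear maps -/
noncomputable def phiLin (c : ι) : Rc c ⊗[R] B →ₗ[R] Rc c ⊗[R] B' :=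
  ((φ c : Rc c ⊗[R] B →ₗ[Rc c] Rc c ⊗[R] B')).restrictScalars R

theorem phiLin_apply (c : ι) (x : Rc c ⊗[R] B) : phiLin φ c x = φ c x := rfl

/-- the inverses of the given isomorphisms as `R`-linear maps -/
noncomputable def phiLinSymm (c : ι) : Rc c ⊗[R] B' →ₗ[R] Rc c ⊗[R] B :=
  (((φ c).symm : Rc c ⊗[R] B' →ₗ[Rc c] Rc c ⊗[R] B)).restrictScalars R

theorem phiLinSymm_apply (c : ι) (x : Rc c ⊗[R] B') : phiLinSymm φ c x = (φ c).symm x := rfl

/-- the glued linear equivalence -/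
noncomputable def glueLinEquiv : B ≃ₗ[R] B' :=
  LinearEquiv.ofLinearMap (glueLin h (phiLin φ)) (glueLin h (phiLinSymm φ))
    (by
      apply LinearMap.ext
      intro b'
      apply h.eq_of_forall_one_tmul
      intro d
      rw [LinearMap.comp_apply, one_tmul_glueLin, one_tmul_glueLin, phiLin_apply,
        phiLinSymm_apply, LinearMap.id_apply, BialgEquiv.apply_symm_apply])
    (by
      apply LinearMap.ext
      intro b
      apply h.eq_of_forall_one_tmul
      intro d
      rw [LinearMap.comp_apply, one_tmul_glueLin, one_tmul_glueLin, phiLin_apply,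
        phiLinSymm_apply, LinearMap.id_apply, BialgEquiv.symm_apply_apply])

theorem glueLinEquiv_apply (b : B) : glueLinEquiv h φ b = glueLin h (phiLin φ) b := rfl

theorem one_tmul_glue (d : ι) (b : B) :
    (1 : Rc d) ⊗ₜ[R] glueLinEquiv h φ b = φ d ((1 : Rc d) ⊗ₜ[R] b) := by
  rw [glueLinEquiv_apply, one_tmul_glueLin, phiLin_apply]

/-- the glued algebra equivalence -/
noncomputable def glueAlgEquiv : B ≃ₐ[R] B' :=
  AlgEquiv.ofLinearEquiv (glueLinEquiv h φ)
    (by
      apply h.eq_of_forall_one_tmul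
      intro d
      rw [one_tmul_glue, ← Algebra.TensorProduct.one_def, map_one, Algebra.TensorProduct.one_def])
    (by
      intro x y
      apply h.eq_of_forall_one_tmul
      intro d
      have e1 : (1 : Rc d) ⊗ₜ[R] (x * y) = ((1 : Rc d) ⊗ₜ[R] x) * ((1 : Rc d) ⊗ₜ[R] y) := by
        rw [Algebra.TensorProduct.tmul_mul_tmul, one_mul]
      have e2 : (1 : Rc d) ⊗ₜ[R] (glueLinEquiv h φ x * glueLinEquiv h φ y) =
          ((1 : Rc d) ⊗ₜ[R] glueLinEquiv h φ x) * ((1 : Rc d) ⊗ₜ[R] glueLinEquiv h φ y) := by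
        rw [Algebra.TensorProduct.tmul_mul_tmul, one_mul]
      rw [one_tmul_glue, e1, map_mul, e2, one_tmul_glue, one_tmul_glue])

theorem glueAlgEquiv_apply (b : B) : glueAlgEquiv h φ b = glueLinEquiv h φ b := rfl

theorem counit_glue (b : B) :
    Coalgebra.counit (R := R) (glueLinEquiv h φ b) = Coalgebra.counit (R := R) b := by
  apply h.ext
  intro d
  rw [← counit_one_tmul d B', one_tmul_glue, CoalgHomClass.counit_comp_apply, counit_one_tmul d B]

theorem Lam_map (d : ι) (w : B ⊗[R] B) :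
    Lam Rc d B' (TensorProduct.map (glueLinEquiv h φ : B →ₗ[R] B') (glueLinEquiv h φ : B →ₗ[R] B')
      w) =
      TensorProduct.map (φ d : Rc d ⊗[R] B →ₗ[Rc d] Rc d ⊗[R] B')
        (φ d : Rc d ⊗[R] B →ₗ[Rc d] Rc d ⊗[R] B') (Lam Rc d B w) := by
  induction w using TensorProduct.induction_on with
  | zero => simp
  | add x y hx hy => rw [map_add, map_add, hx, hy, map_add, map_add]
  | tmul y z =>
    rw [TensorProduct.map_tmul, Lam_tmul, Lam_tmul, TensorProduct.map_tmul]
    show ((1 : Rc d) ⊗ₜ[R] glueLinEquiv h φ y) ⊗ₜ[Rc d] ((1 : Rc d) ⊗ₜ[R] glueLinEquiv h φ z) =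
      (φ d ((1 : Rc d) ⊗ₜ[R] y)) ⊗ₜ[Rc d] (φ d ((1 : Rc d) ⊗ₜ[R] z))
    rw [one_tmul_glue, one_tmul_glue]

theorem comul_glue (b : B) :
    TensorProduct.map (glueLinEquiv h φ : B →ₗ[R] B') (glueLinEquiv h φ : B →ₗ[R] B')
      (Coalgebra.comul (R := R) b) = Coalgebra.comul (R := R) (glueLinEquiv h φ b) := by
  apply Lam_jointly_injective h
  intro d
  rw [Lam_map, Lam_comul, Lam_comul, one_tmul_glue]
  exact CoalgHomClass.map_comp_comul_apply (φ d) ((1 : Rc d) ⊗ₜ[R] b)

/-- the glued bialgebra equivalence -/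
noncomputable def glueBialgEquiv : B ≃ₐc[R] B' :=
  BialgEquiv.ofAlgEquiv (glueAlgEquiv h φ)
    (by
      apply AlgHom.ext
      intro b
      exact counit_glue h φ b)
    (by
      apply AlgHom.ext
      intro b
      exact comul_glue h φ b)

end Bialg

include h in
/-- **Gluing**: two bialgebras over `R = ∏ Rc` which are isomorphic after base change to each
factor are isomorphic. -/
theorem nonempty_bialgEquiv_of_local {B B' : Type u} [CommRing B] [CommRing B'] [Bialgebra R B]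
    [Bialgebra R B'] (φ : ∀ c, Nonempty (Rc c ⊗[R] B ≃ₐc[Rc c] Rc c ⊗[R] B')) :
    Nonempty (B ≃ₐc[R] B') :=
  ⟨glueBialgEquiv h (fun c => (φ c).some)⟩

end Glue

end Groth.Agent.H9.QI
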