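import Mathlib
import Groth.Agent.Lib.Helper9.Misc.QI1

/-!
# Restriction of scalars of a coalgebra along a surjection with a linear section (helper9)
-/

set_option autoImplicit false
set_option linter.unusedSectionVars false
set_option linter.unusedVariables false
set_option linter.style.haveILetI false

namespace Groth.Agent.H9.QI

open TensorProduct

universe u

section Restrict

variable {R : Type u} [CommRing R] {L : Type u} [CommRing L] [Algebra R L]
  (hs : Function.Surjective (algebraMap R L))

include hs in
/-- compatibility of scalar actions for a surjective base map -/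
theorem compatibleSMul_of_surjective (M N : Type*) [AddCommGroup M] [AddCommGroup N]
    [Module R M] [Module R N] [Module L M] [Module L N] [IsScalarTower R L M]
    [IsScalarTower R L N] : TensorProduct.CompatibleSMul R L M N :=
  ⟨fun l m n => by
    obtain ⟨r, rfl⟩ := hs l
    rw [algebraMap_smul, algebraMap_smul, TensorProduct.smul_tmul]⟩

variable (j : L →ₗ[R] R) (hj : ∀ x, algebraMap R L (j x) = x)
  (X : Type u) [CommRing X] [Bialgebra L X] [Algebra R X] [IsScalarTower R L X]

/-- the canonical map `X ⊗[L] X → X ⊗[R] X` -/
noncomputable def kap : X ⊗[L] X →ₗ[R] X ⊗[R] X :=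
  haveI := compatibleSMul_of_surjective hs X X
  TensorProduct.mapOfCompatibleSMul R L R X X

theorem kap_tmul (x y : X) : kap hs X (x ⊗ₜ[L] y) = x ⊗ₜ[R] y := rfl

/-- the canonical map `X ⊗[L] (X ⊗[L] X) → X ⊗[R] (X ⊗[R] X)` -/
noncomputable def kap3 : X ⊗[L] (X ⊗[L] X) →ₗ[R] X ⊗[R] (X ⊗[R] X) :=
  haveI := compatibleSMul_of_surjective hs X X
  haveI := compatibleSMul_of_surjective hs X (X ⊗[R] X)
  (TensorProduct.mapOfCompatibleSMul R L R X (X ⊗[R] X)) ∘ₗ
    ((LinearMap.lTensor X (TensorProduct.mapOfCompatibleSMul R L L X X)).restrictScalars R)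

theorem kap3_tmul (x : X) (w : X ⊗[L] X) :
    kap3 hs X (x ⊗ₜ[L] w) = x ⊗ₜ[R] kap hs X w := rfl

/-- comultiplication over `R` -/
noncomputable def comulR : X →ₗ[R] X ⊗[R] X :=
  kap hs X ∘ₗ ((Coalgebra.comul (R := L) (A := X)).restrictScalars R)

/-- counit over `R` -/
noncomputable def counitR : X →ₗ[R] R :=
  j ∘ₗ ((Coalgebra.counit (R := L) (A := X)).restrictScalars R)

theorem comulR_apply (x : X) : comulR hs X x = kap hs X (Coalgebra.comul (R := L) x) := rfl

theorem counitR_apply (x : X) : counitR j X x = j (Coalgebra.counit (R := L) x) := rfl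

include hj in
theorem counitR_smul (x y : X) : counitR j X x • y = Coalgebra.counit (R := L) x • y := by
  rw [counitR_apply, ← algebraMap_smul L (j _) y, hj]

include hj in
theorem rTensor_counitR_kap (w : X ⊗[L] X) :
    LinearMap.rTensor X (counitR j X) (kap hs X w) =
      (1 : R) ⊗ₜ[R] (TensorProduct.lid L X (LinearMap.rTensor X (Coalgebra.counit (R := L)) w)) := by
  induction w using TensorProduct.induction_on with
  | zero => simp
  | add x y hx hy => rw [map_add, map_add, hx, hy, map_add, map_add, TensorProduct.tmul_add]
  | tmul x y =>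
    rw [kap_tmul, LinearMap.rTensor_tmul, LinearMap.rTensor_tmul, TensorProduct.lid_tmul,
      ← counitR_smul j hj X x y, TensorProduct.tmul_smul, TensorProduct.smul_tmul', smul_eq_mul,
      mul_one]

include hj in
theorem lTensor_counitR_kap (w : X ⊗[L] X) :
    LinearMap.lTensor X (counitR j X) (kap hs X w) =
      (TensorProduct.rid L X (LinearMap.lTensor X (Coalgebra.counit (R := L)) w)) ⊗ₜ[R] (1 : R) := by
  induction w using TensorProduct.induction_on with
  | zero => simp
  | add x y hx hy => rw [map_add, map_add, hx, hy, map_add, map_add, TensorProduct.add_tmul]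
  | tmul x y =>
    rw [kap_tmul, LinearMap.lTensor_tmul, LinearMap.lTensor_tmul, TensorProduct.rid_tmul,
      ← counitR_smul j hj X y x, TensorProduct.smul_tmul, smul_eq_mul, mul_one]

theorem lTensor_comulR_kap (w : X ⊗[L] X) :
    LinearMap.lTensor X (comulR hs X) (kap hs X w) =
      kap3 hs X (LinearMap.lTensor X (Coalgebra.comul (R := L)) w) := by
  induction w using TensorProduct.induction_on with
  | zero => simp
  | add x y hx hy => rw [map_add, map_add, hx, hy, map_add, map_add]
  | tmul x y =>
    rw [kap_tmul, LinearMap.lTensor_tmul, LinearMap.lTensor_tmul, kap3_tmul, comulR_apply]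

theorem assoc_kap_tmul (v : X ⊗[L] X) (y : X) :
    TensorProduct.assoc R X X X (kap hs X v ⊗ₜ[R] y) =
      kap3 hs X (TensorProduct.assoc L X X X (v ⊗ₜ[L] y)) := by
  induction v using TensorProduct.induction_on with
  | zero => simp
  | add a b ha hb =>
    rw [map_add, TensorProduct.add_tmul, map_add, ha, hb, TensorProduct.add_tmul, map_add, map_add]
  | tmul p q =>
    rw [kap_tmul, TensorProduct.assoc_tmul, TensorProduct.assoc_tmul, kap3_tmul, kap_tmul]

theorem assoc_rTensor_comulR_kap (w : X ⊗[L] X) :
    TensorProduct.assoc R X X X (LinearMap.rTensor X (comulR hs X) (kap hs X w)) =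
      kap3 hs X (TensorProduct.assoc L X X X
        (LinearMap.rTensor X (Coalgebra.comul (R := L)) w)) := by
  induction w using TensorProduct.induction_on with
  | zero => simp
  | add x y hx hy => rw [map_add, map_add, map_add, hx, hy, map_add, map_add, map_add]
  | tmul x y =>
    rw [kap_tmul, LinearMap.rTensor_tmul, LinearMap.rTensor_tmul, comulR_apply, assoc_kap_tmul]

/-- An `L`-bialgebra `X` is an `R`-coalgebra when `R → L` is surjective with an `R`-linear
section `j`. -/
@[instance_reducible] noncomputable def coalgR : Coalgebra R X :=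
  { comul := comulR hs X
    counit := counitR j X
    coassoc := by
      apply LinearMap.ext
      intro x
      rw [LinearMap.comp_apply, LinearMap.comp_apply, LinearMap.comp_apply]
      show TensorProduct.assoc R X X X
        (LinearMap.rTensor X (comulR hs X) (kap hs X (Coalgebra.comul (R := L) x))) =
        LinearMap.lTensor X (comulR hs X) (kap hs X (Coalgebra.comul (R := L) x))
      rw [assoc_rTensor_comulR_kap, lTensor_comulR_kap, Coalgebra.coassoc_apply]
    rTensor_counit_comp_comul := by
      apply LinearMap.ext
      intro x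
      rw [LinearMap.comp_apply]
      show LinearMap.rTensor X (counitR j X) (kap hs X (Coalgebra.comul (R := L) x)) = _
      rw [rTensor_counitR_kap hs j hj, Coalgebra.rTensor_counit_comul, TensorProduct.lid_tmul,
        one_smul]
      rfl
    lTensor_counit_comp_comul := by
      apply LinearMap.ext
      intro x
      rw [LinearMap.comp_apply]
      show LinearMap.lTensor X (counitR j X) (kap hs X (Coalgebra.comul (R := L) x)) = _
      rw [lTensor_counitR_kap hs j hj, Coalgebra.lTensor_counit_comul, TensorProduct.rid_tmul,
        one_smul]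
      rfl }

end Restrict

end Groth.Agent.H9.QI
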