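import Mathlib
import Groth.Agent.Lib.Helper9.Misc.QI3

/-!
# The product of Hopf algebras over the factors of a product ring, as a Hopf algebra (helper9)
-/

set_option autoImplicit false
set_option linter.unusedSectionVars false
set_option linter.unusedVariables false
set_option linter.style.haveILetI false

namespace Groth.Agent.H9.QI

open TensorProduct

universe u

section PiHopf

variable {R : Type u} [CommRing R] {ι : Type u} [Fintype ι] [DecidableEq ι]
  {Rc : ι → Type u} [∀ c, CommRing (Rc c)] [∀ c, Algebra R (Rc c)] (h : IsDecomp R Rc)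
  (A : ι → Type u) [∀ c, CommRing (A c)] [∀ c, HopfAlgebra (Rc c) (A c)]
  [∀ c, Algebra R (A c)] [∀ c, IsScalarTower R (Rc c) (A c)]

/-- each piece as an `R`-coalgebra -/
@[instance_reducible] noncomputable def pieceCoalg (c : ι) : Coalgebra R (A c) :=
  coalgR (h.surj c) (h.jj c) (h.algebraMap_jj_same c) (A c)

/-- the product coalgebra -/
@[instance_reducible] noncomputable def piCoalg : Coalgebra R (∀ c, A c) :=
  letI : ∀ c, Coalgebra R (A c) := pieceCoalg h A
  Pi.instCoalgebra

theorem piCoalg_comul_single (c : ι) (x : A c) :
    (piCoalg h A).comul (Pi.single c x) =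
      TensorProduct.map (LinearMap.single R A c) (LinearMap.single R A c)
        (comulR (h.surj c) (A c) x) := by
  letI : ∀ c, Coalgebra R (A c) := pieceCoalg h A
  exact Pi.comul_single c x

theorem piCoalg_counit_single (c : ι) (x : A c) :
    (piCoalg h A).counit (Pi.single c x) = counitR (h.jj c) (A c) x := by
  letI : ∀ c, Coalgebra R (A c) := pieceCoalg h A
  exact Pi.counit_single c x

theorem piCoalg_counit (p : ∀ c, A c) :
    (piCoalg h A).counit p = ∑ c, counitR (h.jj c) (A c) (p c) := by
  conv_lhs => rw [← Finset.univ_sum_single p]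
  rw [map_sum]
  exact Finset.sum_congr rfl fun c _ => piCoalg_counit_single h A c (p c)

theorem piCoalg_comul (p : ∀ c, A c) :
    (piCoalg h A).comul p = ∑ c, TensorProduct.map (LinearMap.single R A c)
      (LinearMap.single R A c) (comulR (h.surj c) (A c) (p c)) := by
  conv_lhs => rw [← Finset.univ_sum_single p]
  rw [map_sum]
  exact Finset.sum_congr rfl fun c _ => piCoalg_comul_single h A c (p c)

theorem single_mul_single_ne {c d : ι} (hne : c ≠ d) (x : A c) (y : A d) :
    (Pi.single c x : ∀ c, A c) * Pi.single d y = 0 := by
  funext k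
  rw [Pi.mul_apply, Pi.zero_apply]
  by_cases hk : k = c
  · subst hk
    rw [Pi.single_eq_of_ne hne, mul_zero]
  · rw [Pi.single_eq_of_ne hk, zero_mul]

include h in
theorem single_tmul_single_ne {c d : ι} (hne : c ≠ d) (x : A c) (y : A d) :
    (Pi.single c x : ∀ c, A c) ⊗ₜ[R] (Pi.single d y : ∀ c, A c) = 0 := by
  have e1 : (Pi.single c x : ∀ c, A c) = h.jj c 1 • (Pi.single c x : ∀ c, A c) := by
    funext k
    rw [Pi.smul_apply]
    by_cases hk : k = c
    · subst hk
      rw [Pi.single_eq_same, h.jj_smul, one_smul]
    · rw [Pi.single_eq_of_ne hk, smul_zero]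
  have e2 : h.jj c (1 : Rc c) • (Pi.single d y : ∀ c, A c) = 0 := by
    funext k
    rw [Pi.smul_apply, Pi.zero_apply]
    by_cases hk : k = d
    · subst hk
      rw [h.jj_smul_ne (Ne.symm hne)]
    · rw [Pi.single_eq_of_ne hk, smul_zero]
  rw [e1, TensorProduct.smul_tmul, e2, TensorProduct.tmul_zero]

theorem map_single_mul (c : ι) (u v : A c ⊗[R] A c) :
    TensorProduct.map (LinearMap.single R A c) (LinearMap.single R A c) (u * v) =
      TensorProduct.map (LinearMap.single R A c) (LinearMap.single R A c) u *
        TensorProduct.map (LinearMap.single R A c) (LinearMap.single R A c) v := by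
  induction u using TensorProduct.induction_on with
  | zero => simp
  | add a b ha hb => rw [add_mul, map_add, ha, hb, map_add, add_mul]
  | tmul x y =>
    induction v using TensorProduct.induction_on with
    | zero => simp
    | add a b ha hb => rw [mul_add, map_add, ha, hb, map_add, mul_add]
    | tmul x' y' =>
      rw [Algebra.TensorProduct.tmul_mul_tmul, TensorProduct.map_tmul, TensorProduct.map_tmul,
        TensorProduct.map_tmul, Algebra.TensorProduct.tmul_mul_tmul]
      show (Pi.single c (x * x') : ∀ c, A c) ⊗ₜ[R] (Pi.single c (y * y') : ∀ c, A c) = _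
      rw [Pi.single_mul, Pi.single_mul]
      rfl

theorem map_single_mul_ne {c d : ι} (hne : c ≠ d) (u : A c ⊗[R] A c) (v : A d ⊗[R] A d) :
    TensorProduct.map (LinearMap.single R A c) (LinearMap.single R A c) u *
        TensorProduct.map (LinearMap.single R A d) (LinearMap.single R A d) v = 0 := by
  induction u using TensorProduct.induction_on with
  | zero => simp
  | add a b ha hb => rw [map_add, add_mul, ha, hb, add_zero]
  | tmul x y =>
    induction v using TensorProduct.induction_on with
    | zero => simp
    | add a b ha hb => rw [map_add, mul_add, ha, hb, add_zero]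
    | tmul x' y' =>
      rw [TensorProduct.map_tmul, TensorProduct.map_tmul, Algebra.TensorProduct.tmul_mul_tmul]
      show ((Pi.single c x : ∀ c, A c) * Pi.single d x') ⊗ₜ[R] _ = 0
      rw [single_mul_single_ne A hne, TensorProduct.zero_tmul]

theorem kap_mul (c : ι) (u v : A c ⊗[Rc c] A c) :
    kap (h.surj c) (A c) (u * v) = kap (h.surj c) (A c) u * kap (h.surj c) (A c) v := by
  haveI := compatibleSMul_of_surjective (h.surj c) (A c) (A c)
  exact map_mul (Algebra.TensorProduct.mapOfCompatibleSMul R (Rc c) R (A c) (A c)) u v

theorem kap_one (c : ι) : kap (h.surj c) (A c) 1 = 1 := rfl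

/-- the product bialgebra -/
@[instance_reducible] noncomputable def piBialg : Bialgebra R (∀ c, A c) :=
  @Bialgebra.mk' R (∀ c, A c) _ _ _ (piCoalg h A)
    (by
      show (piCoalg h A).counit 1 = 1
      rw [piCoalg_counit]
      simp_rw [Pi.one_apply, counitR_apply, Bialgebra.counit_one]
      exact h.sum_jj_one)
    (by
      intro a b
      show (piCoalg h A).counit (a * b) = (piCoalg h A).counit a * (piCoalg h A).counit b
      rw [piCoalg_counit, piCoalg_counit, piCoalg_counit, Finset.sum_mul_sum]
      refine Finset.sum_congr rfl fun c _ => ?_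
      rw [Finset.sum_eq_single c]
      · rw [counitR_apply, counitR_apply, counitR_apply, Pi.mul_apply, Bialgebra.counit_mul,
          h.jj_mul]
      · intro d _ hdc
        rw [counitR_apply, counitR_apply, h.jj_mul_ne (Ne.symm hdc)]
      · intro hc
        exact absurd (Finset.mem_univ c) hc)
    (by
      show (piCoalg h A).comul 1 = 1
      rw [piCoalg_comul, Algebra.TensorProduct.one_def]
      conv_rhs => rw [← Finset.univ_sum_single (1 : ∀ c, A c), TensorProduct.sum_tmul]
      refine Finset.sum_congr rfl fun c _ => ?_
      rw [TensorProduct.tmul_sum, Finset.sum_eq_single c]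
      · rw [Pi.one_apply, comulR_apply, Bialgebra.comul_one, Algebra.TensorProduct.one_def,
          kap_tmul, TensorProduct.map_tmul]
        rfl
      · intro d _ hdc
        exact single_tmul_single_ne h A (Ne.symm hdc) _ _
      · intro hc
        exact absurd (Finset.mem_univ c) hc)
    (by
      intro a b
      show (piCoalg h A).comul (a * b) = (piCoalg h A).comul a * (piCoalg h A).comul b
      rw [piCoalg_comul, piCoalg_comul, piCoalg_comul, Finset.sum_mul_sum]
      refine Finset.sum_congr rfl fun c _ => ?_
      rw [Finset.sum_eq_single c]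
      · rw [comulR_apply, comulR_apply, comulR_apply, Pi.mul_apply, Bialgebra.comul_mul, kap_mul h A,
          map_single_mul A]
      · intro d _ hdc
        exact map_single_mul_ne A (Ne.symm hdc) _ _
      · intro hc
        exact absurd (Finset.mem_univ c) hc)

end PiHopf

end Groth.Agent.H9.QI
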