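import Mathlib
import Groth.Agent.Lib.Helper9.Misc.QI4
import Groth.Agent.Lib.Helper9.Misc.QI2

/-!
# Gluing Hopf algebras over the factors of a product ring (helper9)
-/

set_option autoImplicit false
set_option linter.unusedSectionVars false
set_option linter.unusedVariables false
set_option linter.style.haveILetI false

namespace Groth.Agent.H9.QI

open TensorProduct

universe u

section PiHopf

variable (R : Type u) [CommRing R] {ι : Type u} [Fintype ι] [DecidableEq ι]
  (Rc : ι → Type u) [∀ c, CommRing (Rc c)] [∀ c, Algebra R (Rc c)]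
  (A : ι → Type u) [∀ c, CommRing (A c)] [∀ c, HopfAlgebra (Rc c) (A c)]
  [∀ c, Algebra R (A c)] [∀ c, IsScalarTower R (Rc c) (A c)]

/-- the antipode of the product -/
noncomputable def antiP : (∀ c, A c) →ₗ[R] (∀ c, A c) :=
  LinearMap.pi fun c =>
    ((HopfAlgebraStruct.antipode (Rc c) : A c →ₗ[Rc c] A c).restrictScalars R) ∘ₗ LinearMap.proj c

theorem antiP_apply (p : ∀ c, A c) (c : ι) :
    antiP R Rc A p c = HopfAlgebraStruct.antipode (Rc c) (p c) := rfl

theorem antiP_single (c : ι) (x : A c) :
    antiP R Rc A (Pi.single c x) = Pi.single c (HopfAlgebraStruct.antipode (Rc c) x) := by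
  funext d
  rw [antiP_apply]
  by_cases hd : d = c
  · subst hd
    rw [Pi.single_eq_same, Pi.single_eq_same]
  · rw [Pi.single_eq_of_ne hd, Pi.single_eq_of_ne hd, map_zero]

/-- the comparison map `Rc c ⊗ ∏ A → A c` -/
noncomputable def betaHom (c : ι) : Rc c ⊗[R] (∀ c, A c) →ₐ[Rc c] A c :=
  Algebra.TensorProduct.lift (Algebra.ofId (Rc c) (A c)) (Pi.evalAlgHom R A c)
    (fun _ _ => Commute.all _ _)

theorem betaHom_tmul (c : ι) (x : Rc c) (p : ∀ c, A c) :
    betaHom R Rc A c (x ⊗ₜ[R] p) = algebraMap (Rc c) (A c) x * p c := by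
  rw [betaHom, Algebra.TensorProduct.lift_tmul]
  rfl

theorem betaHom_one_tmul (c : ι) (p : ∀ c, A c) : betaHom R Rc A c ((1 : Rc c) ⊗ₜ[R] p) = p c := by
  rw [betaHom_tmul, map_one, one_mul]

variable {R Rc} (h : IsDecomp R Rc)

theorem mul_rTensor_antiP (c : ι) (w : A c ⊗[Rc c] A c) :
    LinearMap.mul' R (∀ c, A c) (LinearMap.rTensor (∀ c, A c) (antiP R Rc A)
      (TensorProduct.map (LinearMap.single R A c) (LinearMap.single R A c)
        (kap (h.surj c) (A c) w))) =
    LinearMap.single R A c (LinearMap.mul' (Rc c) (A c)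
      (LinearMap.rTensor (A c) (HopfAlgebraStruct.antipode (Rc c)) w)) := by
  induction w using TensorProduct.induction_on with
  | zero => simp
  | add a b ha hb =>
    rw [map_add, map_add, map_add, map_add, ha, hb, map_add, map_add, map_add]
  | tmul x y =>
    rw [kap_tmul, TensorProduct.map_tmul, LinearMap.rTensor_tmul, LinearMap.mul'_apply,
      LinearMap.rTensor_tmul, LinearMap.mul'_apply]
    show antiP R Rc A (Pi.single c x) * Pi.single c y = Pi.single c _
    rw [antiP_single, ← Pi.single_mul]

theorem mul_lTensor_antiP (c : ι) (w : A c ⊗[Rc c] A c) :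
    LinearMap.mul' R (∀ c, A c) (LinearMap.lTensor (∀ c, A c) (antiP R Rc A)
      (TensorProduct.map (LinearMap.single R A c) (LinearMap.single R A c)
        (kap (h.surj c) (A c) w))) =
    LinearMap.single R A c (LinearMap.mul' (Rc c) (A c)
      (LinearMap.lTensor (A c) (HopfAlgebraStruct.antipode (Rc c)) w)) := by
  induction w using TensorProduct.induction_on with
  | zero => simp
  | add a b ha hb =>
    rw [map_add, map_add, map_add, map_add, ha, hb, map_add, map_add, map_add]
  | tmul x y =>
    rw [kap_tmul, TensorProduct.map_tmul, LinearMap.lTensor_tmul, LinearMap.mul'_apply,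
      LinearMap.lTensor_tmul, LinearMap.mul'_apply]
    show Pi.single c x * antiP R Rc A (Pi.single c y) = Pi.single c _
    rw [antiP_single, ← Pi.single_mul]

theorem algebraMap_jj_pi (c : ι) (y : Rc c) :
    algebraMap R (∀ c, A c) (h.jj c y) = Pi.single c (algebraMap (Rc c) (A c) y) := by
  funext d
  rw [Pi.algebraMap_apply, IsScalarTower.algebraMap_apply R (Rc d) (A d)]
  by_cases hd : d = c
  · subst hd
    rw [h.algebraMap_jj_same, Pi.single_eq_same]
  · rw [h.algebraMap_jj_ne hd, map_zero, Pi.single_eq_of_ne hd]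

/-- the product Hopf algebra -/
@[instance_reducible] noncomputable def piHopf : HopfAlgebra R (∀ c, A c) :=
  { toBialgebra := piBialg h A
    antipode := antiP R Rc A
    mul_antipode_rTensor_comul := by
      apply LinearMap.pi_ext'
      intro c
      apply LinearMap.ext
      intro x
      show LinearMap.mul' R (∀ c, A c) (LinearMap.rTensor (∀ c, A c) (antiP R Rc A)
        ((piCoalg h A).comul (Pi.single c x))) =
        algebraMap R (∀ c, A c) ((piCoalg h A).counit (Pi.single c x))
      rw [piCoalg_comul_single, comulR_apply, mul_rTensor_antiP A h,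
        HopfAlgebra.mul_antipode_rTensor_comul_apply, piCoalg_counit_single, counitR_apply,
        algebraMap_jj_pi A h]
      rfl
    mul_antipode_lTensor_comul := by
      apply LinearMap.pi_ext'
      intro c
      apply LinearMap.ext
      intro x
      show LinearMap.mul' R (∀ c, A c) (LinearMap.lTensor (∀ c, A c) (antiP R Rc A)
        ((piCoalg h A).comul (Pi.single c x))) =
        algebraMap R (∀ c, A c) ((piCoalg h A).counit (Pi.single c x))
      rw [piCoalg_comul_single, comulR_apply, mul_lTensor_antiP A h,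
        HopfAlgebra.mul_antipode_lTensor_comul_apply, piCoalg_counit_single, counitR_apply,
        algebraMap_jj_pi A h]
      rfl }

include h in
theorem one_tmul_eq_single (c : ι) (p : ∀ c, A c) :
    (1 : Rc c) ⊗ₜ[R] p = (1 : Rc c) ⊗ₜ[R] (Pi.single c (p c) : ∀ c, A c) := by
  have e1 : (1 : Rc c) = h.jj c 1 • (1 : Rc c) := by
    rw [Algebra.smul_def, mul_one, h.algebraMap_jj_same]
  have e2 : h.jj c (1 : Rc c) • p = Pi.single c (p c) := by
    funext d
    rw [Pi.smul_apply]
    by_cases hd : d = c
    · subst hd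
      rw [h.jj_smul, one_smul, Pi.single_eq_same]
    · rw [h.jj_smul_ne hd, Pi.single_eq_of_ne hd]
  conv_lhs => rw [e1, TensorProduct.smul_tmul, e2]

include h in
theorem betaHom_bijective (c : ι) : Function.Bijective (betaHom R Rc A c) := by
  constructor
  · rw [injective_iff_map_eq_zero]
    intro w hw
    obtain ⟨p, rfl⟩ := h.exists_one_tmul c w
    rw [betaHom_one_tmul] at hw
    rw [one_tmul_eq_single A h, hw, Pi.single_zero, TensorProduct.tmul_zero]
  · intro a
    exact ⟨(1 : Rc c) ⊗ₜ[R] (Pi.single c a : ∀ c, A c), by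
      rw [betaHom_one_tmul, Pi.single_eq_same]⟩

theorem map_beta_Lam_same (c : ι) (w : A c ⊗[Rc c] A c) :
    TensorProduct.map (betaHom R Rc A c).toLinearMap (betaHom R Rc A c).toLinearMap
      (Lam Rc c (∀ c, A c) (TensorProduct.map (LinearMap.single R A c) (LinearMap.single R A c)
        (kap (h.surj c) (A c) w))) = w := by
  induction w using TensorProduct.induction_on with
  | zero => simp
  | add a b ha hb => rw [map_add, map_add, map_add, map_add, ha, hb]
  | tmul x y =>
    rw [kap_tmul, TensorProduct.map_tmul, Lam_tmul, TensorProduct.map_tmul]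
    show betaHom R Rc A c ((1 : Rc c) ⊗ₜ[R] (Pi.single c x : ∀ c, A c)) ⊗ₜ[Rc c]
      betaHom R Rc A c ((1 : Rc c) ⊗ₜ[R] (Pi.single c y : ∀ c, A c)) = _
    rw [betaHom_one_tmul, betaHom_one_tmul, Pi.single_eq_same, Pi.single_eq_same]

theorem map_beta_Lam_ne {c d : ι} (hne : c ≠ d) (w : A d ⊗[Rc d] A d) :
    TensorProduct.map (betaHom R Rc A c).toLinearMap (betaHom R Rc A c).toLinearMap
      (Lam Rc c (∀ c, A c) (TensorProduct.map (LinearMap.single R A d) (LinearMap.single R A d)
        (kap (h.surj d) (A d) w))) = 0 := by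
  induction w using TensorProduct.induction_on with
  | zero => simp
  | add a b ha hb => rw [map_add, map_add, map_add, map_add, ha, hb, add_zero]
  | tmul x y =>
    rw [kap_tmul, TensorProduct.map_tmul, Lam_tmul, TensorProduct.map_tmul]
    show betaHom R Rc A c ((1 : Rc c) ⊗ₜ[R] (Pi.single d x : ∀ c, A c)) ⊗ₜ[Rc c]
      betaHom R Rc A c ((1 : Rc c) ⊗ₜ[R] (Pi.single d y : ∀ c, A c)) = _
    rw [betaHom_one_tmul, Pi.single_eq_of_ne hne, TensorProduct.zero_tmul]

theorem counit_beta (c : ι) (w : Rc c ⊗[R] (∀ c, A c)) :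
    letI := piHopf A h
    Coalgebra.counit (R := Rc c) (betaHom R Rc A c w) = Coalgebra.counit (R := Rc c) w := by
  letI := piHopf A h
  obtain ⟨p, rfl⟩ := h.exists_one_tmul c w
  rw [betaHom_one_tmul, counit_one_tmul]
  show _ = algebraMap R (Rc c) ((piCoalg h A).counit p)
  rw [piCoalg_counit, map_sum, Finset.sum_eq_single c]
  · rw [counitR_apply, h.algebraMap_jj_same]
  · intro d _ hdc
    rw [counitR_apply, h.algebraMap_jj_ne (Ne.symm hdc)]
  · intro hc
    exact absurd (Finset.mem_univ c) hc

theorem comul_beta (c : ι) (w : Rc c ⊗[R] (∀ c, A c)) :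
    letI := piHopf A h
    TensorProduct.map (betaHom R Rc A c).toLinearMap (betaHom R Rc A c).toLinearMap
      (Coalgebra.comul (R := Rc c) w) = Coalgebra.comul (R := Rc c) (betaHom R Rc A c w) := by
  letI := piHopf A h
  obtain ⟨p, rfl⟩ := h.exists_one_tmul c w
  rw [betaHom_one_tmul, ← Lam_comul (Rc := Rc)]
  show TensorProduct.map _ _ (Lam Rc c (∀ c, A c) ((piCoalg h A).comul p)) = _
  rw [piCoalg_comul, map_sum, map_sum, Finset.sum_eq_single c]
  · rw [comulR_apply, map_beta_Lam_same A h]
  · intro d _ hdc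
    rw [comulR_apply, map_beta_Lam_ne A h (Ne.symm hdc)]
  · intro hc
    exact absurd (Finset.mem_univ c) hc

/-- the base change of the product Hopf algebra to a factor is the corresponding piece -/
noncomputable def betaEquiv (c : ι) :
    letI := piHopf A h
    Rc c ⊗[R] (∀ c, A c) ≃ₐc[Rc c] A c :=
  letI := piHopf A h
  BialgEquiv.ofAlgEquiv (AlgEquiv.ofBijective (betaHom R Rc A c) (betaHom_bijective A h c))
    (by
      apply AlgHom.ext
      intro w
      exact counit_beta A h c w)
    (by
      apply AlgHom.ext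
      intro w
      exact comul_beta A h c w)

include h in
/-- **Gluing Hopf algebras**: Hopf algebras over the factors of `R = ∏ Rc` glue to a Hopf algebra
over `R`. -/
theorem exists_glued_hopf :
    ∃ (P : Type u) (_ : CommRing P) (_ : HopfAlgebra R P),
      ∀ c, Nonempty (Rc c ⊗[R] P ≃ₐc[Rc c] A c) :=
  ⟨∀ c, A c, inferInstance, piHopf A h, fun c => ⟨betaEquiv A h c⟩⟩

end PiHopf

end Groth.Agent.H9.QI
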