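import Mathlib
import Groth.Prelude.Def_SGA3b
import Groth.Agent.Lib.Helper9.Misc.GLL4
import Groth.Agent.Lib.Helper9.MultT.KerCore
import Groth.Agent.Lib.Helper9.MT.BaseChange

/-!
# Étale charts of a quasi-isotrivial group: type constancy on overlaps, the product cover (helper9)
-/

set_option autoImplicit false
set_option linter.unusedSectionVars false
set_option linter.unusedVariables false
set_option linter.style.haveILetI false

namespace Groth.Agent.H9.QI

open TensorProduct SGA3b Groth.Agent.H9.MultT Groth.Agent.H9.GLL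

universe u

/-- an étale chart of `A` over `D(f)` -/
structure EChart (K : Type u) [CommRing K] (A : Type u) [CommRing A] [HopfAlgebra K A]
    (f : K) where
  T : Type u
  [cr : CommRing T]
  [alg : Algebra K T]
  et : Algebra.Etale K T
  cov : IsCov f T
  M : Type u
  [grp : CommGroup M]
  θ : T ⊗[K] A ≃ₐc[T] MonoidAlgebra T M

attribute [instance] EChart.cr EChart.alg EChart.grp

section Charts

variable {K : Type u} [CommRing K] {A : Type u} [CommRing A] [HopfAlgebra K A]

theorem nonempty_eChart (f : K)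
    (h : IsQuasiIsotrivialConst (Localization.Away f) (Localization.Away f ⊗[K] A)) :
    Nonempty (EChart K A f) := by
  obtain ⟨R', _, _, hEt, hFF, M, _, ⟨e⟩⟩ := h
  letI : Algebra K R' := Algebra.compHom R' (algebraMap K (Localization.Away f))
  haveI : IsScalarTower K (Localization.Away f) R' := IsScalarTower.of_algebraMap_eq fun _ => rfl
  exact ⟨{ T := R'
           et := Algebra.Etale.comp K (Localization.Away f) R'
           cov := IsCov.of_isFFOver ⟨inferInstance, inferInstance, hFF⟩
           M := M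
           θ := (Groth.Agent.H9.MT.cancelBC K (Localization.Away f) R' A).symm.trans e }⟩

theorem nonempty_mulEquiv_of_not_isNilpotent {f g : K} (cf : EChart K A f) (cg : EChart K A g)
    (hfg : ¬ IsNilpotent (f * g)) : Nonempty (cf.M ≃* cg.M) := by
  have hnt : Nontrivial (cf.T ⊗[K] cg.T) := by
    by_contra hT
    rw [not_nontrivial_iff_subsingleton] at hT
    have h0 : (1 : cf.T ⊗[K] cg.T) ⊗ₜ[K] (1 : K) = 0 := by
      rw [Subsingleton.elim (1 : cf.T ⊗[K] cg.T) 0, TensorProduct.zero_tmul]
    obtain ⟨k, hk⟩ := exists_pow_smul_eq_zero₂ cf.cov cg.cov (1 : K) h0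
    rw [smul_eq_mul, mul_one] at hk
    exact hfg ⟨k, hk⟩
  obtain ⟨𝔪, h𝔪⟩ := Ideal.exists_maximal (cf.T ⊗[K] cg.T)
  letI : Field ((cf.T ⊗[K] cg.T) ⧸ 𝔪) := Ideal.Quotient.field 𝔪
  letI a2 : Algebra cg.T ((cf.T ⊗[K] cg.T) ⧸ 𝔪) :=
    ((Ideal.Quotient.mk 𝔪).comp
      (Algebra.TensorProduct.includeRight : cg.T →ₐ[K] cf.T ⊗[K] cg.T).toRingHom).toAlgebra
  haveI t1 : IsScalarTower K cf.T ((cf.T ⊗[K] cg.T) ⧸ 𝔪) := inferInstance
  haveI t2 : IsScalarTower K cg.T ((cf.T ⊗[K] cg.T) ⧸ 𝔪) :=
    IsScalarTower.of_algebraMap_eq fun k => by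
      show Ideal.Quotient.mk 𝔪 (algebraMap K (cf.T ⊗[K] cg.T) k) =
        Ideal.Quotient.mk 𝔪 ((1 : cf.T) ⊗ₜ[K] algebraMap K cg.T k)
      congr 1
      rw [Algebra.TensorProduct.algebraMap_apply, Algebra.algebraMap_eq_smul_one,
        Algebra.algebraMap_eq_smul_one, TensorProduct.smul_tmul]
  let E₁ := bcTriv ((cf.T ⊗[K] cg.T) ⧸ 𝔪) cf.θ
  let E₂ := bcTriv ((cf.T ⊗[K] cg.T) ⧸ 𝔪) cg.θ
  exact ⟨mulEquivOfBialgEquiv (E₁.symm.trans E₂)⟩

end Charts

section FF

variable {K : Type u} [CommRing K]

/-- the product of covering charts of a Zariski covering is faithfully flat -/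
theorem faithfullyFlat_pi_of_cover {ι₀ : Type u} [Fintype ι₀] [DecidableEq ι₀] (r : ι₀ → K)
    (hr : Ideal.span (Set.range r) = ⊤) (T : ι₀ → Type u) [∀ i, CommRing (T i)]
    [∀ i, Algebra K (T i)] [Module.Flat K (∀ i, T i)] (hT : ∀ i, IsCov (r i) (T i)) :
    Module.FaithfullyFlat K (∀ i, T i) := by
  refine ⟨fun m hm htop => ?_⟩
  have hmem : ∀ i, r i ∈ m := by
    intro i
    have h1 : (1 : T i) ∈ m • (⊤ : Submodule K (T i)) := by
      have h0 : (1 : ∀ i, T i) ∈ m • (⊤ : Submodule K (∀ i, T i)) := by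
        rw [htop]
        exact Submodule.mem_top
      exact map_mem_smul_top m (LinearMap.proj i : (∀ i, T i) →ₗ[K] T i) h0
    have h1' : (1 : T i) ∈ (RingHom.ker (algebraMap K (K ⧸ m))) • (⊤ : Submodule K (T i)) := by
      rw [Ideal.Quotient.algebraMap_eq, Ideal.mk_ker]
      exact h1
    have h2 : (1 : K ⧸ m) ⊗ₜ[K] (1 : T i) = 0 :=
      one_tmul_eq_zero_of_mem_smul_top (R₀ := K ⧸ m) h1'
    have h3 : (1 : T i) ⊗ₜ[K] (1 : K ⧸ m) = 0 := by
      have := congrArg (TensorProduct.comm K (K ⧸ m) (T i)) h2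
      rwa [TensorProduct.comm_tmul, map_zero] at this
    obtain ⟨k, hk⟩ := (hT i).2 (K ⧸ m) 1 h3
    have h4 : r i ^ k ∈ m := by
      rw [← Ideal.Quotient.eq_zero_iff_mem]
      have : (r i ^ k) • (1 : K ⧸ m) = Ideal.Quotient.mk m (r i ^ k) := by
        rw [Algebra.smul_def, mul_one]
        rfl
      rw [← this]
      exact hk
    haveI := hm.isPrime
    exact Ideal.IsPrime.mem_of_pow_mem inferInstance k h4
  have hle : Ideal.span (Set.range r) ≤ m := by
    rw [Ideal.span_le]
    rintro _ ⟨i, rfl⟩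
    exact hmem i
  rw [hr] at hle
  exact hm.ne_top (top_le_iff.mp hle)

end FF

section Misc

/-- group algebras of isomorphic groups -/
noncomputable def monAlgCongr (T : Type u) [CommRing T] {M M' : Type u} [CommGroup M]
    [CommGroup M'] (e : M ≃* M') : MonoidAlgebra T M ≃ₐc[T] MonoidAlgebra T M' :=
  BialgEquiv.ofBialgHom (MonoidAlgebra.mapDomainBialgHom T e.toMonoidHom)
    (MonoidAlgebra.mapDomainBialgHom T e.symm.toMonoidHom)
    (by
      rw [← MonoidAlgebra.mapDomainBialgHom_comp]
      have : e.toMonoidHom.comp e.symm.toMonoidHom = MonoidHom.id M' := by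
        ext x
        simp
      rw [this, MonoidAlgebra.mapDomainBialgHom_id])
    (by
      rw [← MonoidAlgebra.mapDomainBialgHom_comp]
      have : e.symm.toMonoidHom.comp e.toMonoidHom = MonoidHom.id M := by
        ext x
        simp
      rw [this, MonoidAlgebra.mapDomainBialgHom_id])

/-- over the zero ring all bialgebras are isomorphic -/
theorem nonempty_bialgEquiv_of_subsingleton (S : Type u) [CommRing S] [Subsingleton S]
    (B B' : Type u) [CommRing B] [CommRing B'] [Bialgebra S B] [Bialgebra S B'] :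
    Nonempty (B ≃ₐc[S] B') := by
  haveI : Subsingleton B := Module.subsingleton S B
  haveI : Subsingleton B' := Module.subsingleton S B'
  haveI : Subsingleton (B' ⊗[S] B') := Module.subsingleton S _
  let e : B ≃ₐ[S] B' :=
    { toFun := fun _ => 0
      invFun := fun _ => 0
      left_inv := fun _ => Subsingleton.elim _ _
      right_inv := fun _ => Subsingleton.elim _ _
      map_mul' := fun _ _ => Subsingleton.elim _ _
      map_add' := fun _ _ => Subsingleton.elim _ _
      commutes' := fun _ => Subsingleton.elim _ _ }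
  exact ⟨BialgEquiv.ofAlgEquiv e
    (by
      apply AlgHom.ext
      intro x
      exact Subsingleton.elim _ _)
    (by
      apply AlgHom.ext
      intro x
      exact Subsingleton.elim _ _)⟩

end Misc

end Groth.Agent.H9.QI
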