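import Mathlib

/-!
# Idempotents from a finite covering whose members overlap only within classes (helper9)
-/

set_option autoImplicit false
set_option linter.unusedSectionVars false
set_option linter.unusedVariables false
set_option linter.style.haveILetI false

namespace Groth.Agent.H9.QI

universe u

theorem eq_zero_of_idem_of_nilp {K : Type u} [CommRing K] {x : K} (h : IsIdempotentElem x)
    (hn : IsNilpotent x) : x = 0 := by
  obtain ⟨n, hn⟩ := hn
  cases n with
  | zero =>
    rw [pow_zero] at hn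
    rw [← mul_one x, hn, mul_zero]
  | succ n => rw [← h.pow_succ_eq n, hn]

open scoped Classical in
/-- A finite covering `D(r i)` of `Spec K` whose members overlap only within the classes of an
equivalence relation gives a complete system of orthogonal idempotents indexed by the classes. -/
theorem exists_idempotents_of_partition {K : Type u} [CommRing K] {ι₀ : Type u} [Fintype ι₀]
    (r : ι₀ → K) (hr : Ideal.span (Set.range r) = ⊤) (s : Setoid ι₀)
    (hrel : ∀ i j, ¬ IsNilpotent (r i * r j) → s.r i j) :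
    ∃ e : Quotient s → K, CompleteOrthogonalIdempotents e ∧
      (∀ i, ∃ (n : ℕ) (a : K), r i ^ n = a * e (Quotient.mk s i)) ∧
      (∀ i c, Quotient.mk s i ≠ c → IsNilpotent (r i * e c)) := by
  let U : Quotient s → Set (PrimeSpectrum K) :=
    fun c => {p | ∃ i, Quotient.mk s i = c ∧ r i ∉ p.asIdeal}
  have hopen : ∀ c, IsOpen (U c) := by
    intro c
    rw [isOpen_iff_forall_mem_open]
    rintro p ⟨i, hic, hip⟩
    refine ⟨(PrimeSpectrum.basicOpen (r i) : Set (PrimeSpectrum K)), ?_,
      (PrimeSpectrum.basicOpen (r i)).isOpen, hip⟩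
    intro q hq
    exact ⟨i, hic, hq⟩
  have hdisj : ∀ c d p, p ∈ U c → p ∈ U d → c = d := by
    rintro c d p ⟨i, rfl, hip⟩ ⟨j, rfl, hjp⟩
    apply Quotient.sound
    apply hrel
    intro hnil
    obtain ⟨n, hn⟩ := hnil
    have h1 : r i * r j ∈ p.asIdeal := by
      apply Ideal.IsPrime.mem_of_pow_mem p.isPrime n
      rw [hn]
      exact Ideal.zero_mem _
    rcases Ideal.IsPrime.mem_or_mem p.isPrime h1 with h | h
    · exact hip h
    · exact hjp h
  have hcover : ∀ p : PrimeSpectrum K, ∃ c, p ∈ U c := by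
    intro p
    by_contra hne
    push Not at hne
    have hle : Ideal.span (Set.range r) ≤ p.asIdeal := by
      rw [Ideal.span_le]
      rintro _ ⟨i, rfl⟩
      by_contra hi
      exact hne (Quotient.mk s i) ⟨i, rfl, hi⟩
    rw [hr] at hle
    exact p.isPrime.ne_top (top_le_iff.mp hle)
  have hclosed : ∀ c, IsClosed (U c) := by
    intro c
    rw [← isOpen_compl_iff, isOpen_iff_forall_mem_open]
    intro p hp
    obtain ⟨d, hd⟩ := hcover p
    refine ⟨U d, ?_, hopen d, hd⟩
    intro q hq hqc
    have hcd : d = c := hdisj d c q hq hqc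
    rw [hcd] at hd
    exact hp hd
  have hclopen : ∀ c, IsClopen (U c) := fun c => ⟨hclosed c, hopen c⟩
  choose e he hU using fun c => PrimeSpectrum.isClopen_iff.mp (hclopen c)
  have hmem : ∀ c (p : PrimeSpectrum K), p ∈ U c ↔ e c ∉ p.asIdeal := by
    intro c p
    rw [hU c]
    exact PrimeSpectrum.mem_basicOpen _ _
  have hortho : ∀ c d, c ≠ d → e c * e d = 0 := by
    intro c d hcd
    apply eq_zero_of_idem_of_nilp ((he c).mul (he d))
    rw [nilpotent_iff_mem_prime]
    intro J hJ
    by_contra hmemJ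
    have h1 : e c ∉ J := fun h => hmemJ (Ideal.mul_mem_right _ _ h)
    have h2 : e d ∉ J := fun h => hmemJ (Ideal.mul_mem_left _ _ h)
    exact hcd (hdisj c d ⟨J, hJ⟩ ((hmem c ⟨J, hJ⟩).mpr h1) ((hmem d ⟨J, hJ⟩).mpr h2))
  have hOI : OrthogonalIdempotents e := ⟨he, fun c d hcd => hortho c d hcd⟩
  have hcomplete : ∑ c, e c = 1 := by
    have hσ : IsIdempotentElem (∑ c, e c) := hOI.isIdempotentElem_sum
    have h1 : IsIdempotentElem (1 - ∑ c, e c) := hσ.one_sub
    have h2 : IsNilpotent (1 - ∑ c, e c) := by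
      rw [nilpotent_iff_mem_prime]
      intro J hJ
      obtain ⟨c, hc⟩ := hcover ⟨J, hJ⟩
      have hcJ : e c ∉ J := (hmem c ⟨J, hJ⟩).mp hc
      have h3 : (1 - ∑ d, e d) * e c = 0 := by
        rw [sub_mul, one_mul, mul_comm, hOI.mul_sum_of_mem (Finset.mem_univ c), sub_self]
      have h4 : (1 - ∑ d, e d) * e c ∈ J := by
        rw [h3]
        exact Ideal.zero_mem _
      rcases hJ.mem_or_mem h4 with h | h
      · exact h
      · exact absurd h hcJ
    have h5 := eq_zero_of_idem_of_nilp h1 h2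
    rw [sub_eq_zero] at h5
    exact h5.symm
  refine ⟨e, ⟨hOI, hcomplete⟩, ?_, ?_⟩
  · intro i
    have hle : PrimeSpectrum.basicOpen (r i) ≤ PrimeSpectrum.basicOpen (e (Quotient.mk s i)) := by
      intro p hp
      have : p ∈ U (Quotient.mk s i) := ⟨i, rfl, hp⟩
      exact (hmem _ p).mp this
    rw [PrimeSpectrum.basicOpen_le_basicOpen_iff] at hle
    obtain ⟨n, hn⟩ := hle
    obtain ⟨a, ha⟩ := Ideal.mem_span_singleton'.mp hn
    exact ⟨n, a, ha.symm⟩
  · intro i c hic
    rw [nilpotent_iff_mem_prime]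
    intro J hJ
    by_contra hmemJ
    have h1 : r i ∉ J := fun h => hmemJ (Ideal.mul_mem_right _ _ h)
    have h2 : e c ∉ J := fun h => hmemJ (Ideal.mul_mem_left _ _ h)
    exact hic (hdisj _ c ⟨J, hJ⟩ ⟨i, rfl, h1⟩ ((hmem c ⟨J, hJ⟩).mpr h2))

end Groth.Agent.H9.QI
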