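import Mathlib
import Groth.Prelude.Def_SGA3b
import Groth.Agent.Lib.Helper9.Misc.QI2
import Groth.Agent.Lib.Helper9.Misc.QI7
import Groth.Agent.Lib.Helper9.Misc.QI8

/-!
# A quasi-isotrivial group has constant type on the pieces of a decomposition of the base (helper9)
-/

set_option autoImplicit false
set_option linter.unusedSectionVars false
set_option linter.unusedVariables false
set_option linter.style.haveILetI false

namespace Groth.Agent.H9.QI

open TensorProduct SGA3b Groth.Agent.H9.MultT Groth.Agent.H9.GLL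

universe u

section Merge

variable {L₀ : Type u} [CommRing L₀] {E : Type u} [CommRing E] [Algebra L₀ E]
  {ι₀ : Type u} [Fintype ι₀] [DecidableEq ι₀] {W : ι₀ → Type u} [∀ i, CommRing (W i)]
  [∀ i, Algebra E (W i)] [∀ i, Algebra L₀ (W i)] [∀ i, IsScalarTower L₀ E (W i)]
  (hdec : IsDecomp E W) {B₀ : Type u} [CommRing B₀] [Bialgebra L₀ B₀] (M : Type u) [CommGroup M]

include hdec in
/-- a bialgebra which is a group algebra over each factor of a product cover is a group algebra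
over the product -/
theorem merge (φ : ∀ i, Nonempty (W i ⊗[L₀] B₀ ≃ₐc[W i] MonoidAlgebra (W i) M)) :
    Nonempty (E ⊗[L₀] B₀ ≃ₐc[E] MonoidAlgebra E M) := by
  apply nonempty_bialgEquiv_of_local hdec
  intro i
  obtain ⟨f⟩ := φ i
  exact ⟨(Groth.Agent.H9.MT.cancelBC L₀ E (W i) B₀).trans
    (f.trans (Groth.Agent.H9.MT.monAlgBC E (W i) M).symm)⟩

end Merge

section Piece

variable {K : Type u} [CommRing K] {A : Type u} [CommRing A] [HopfAlgebra K A]

theorem chart_piece (L₀ : Type u) [CommRing L₀] [Algebra K L₀] {f : K} (c : EChart K A f)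
    (M : Type u) [CommGroup M] (μ : c.M ≃* M) :
    Nonempty ((L₀ ⊗[K] c.T) ⊗[L₀] (L₀ ⊗[K] A) ≃ₐc[L₀ ⊗[K] c.T]
      MonoidAlgebra (L₀ ⊗[K] c.T) M) := by
  letI : Algebra c.T (L₀ ⊗[K] c.T) := Algebra.TensorProduct.rightAlgebra
  exact ⟨(Groth.Agent.H9.MT.cancelBC K L₀ (L₀ ⊗[K] c.T) A).trans
    ((bcTriv (L₀ ⊗[K] c.T) c.θ).trans (monAlgCongr _ μ))⟩

theorem subsingleton_piece (ec : K) {f : K} (T : Type u) [CommRing T] [Algebra K T]
    (hu : IsUnit (algebraMap K T f)) (hn : IsNilpotent (f * ec)) :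
    Subsingleton ((K ⧸ Ideal.span {1 - ec}) ⊗[K] T) := by
  have h1 : algebraMap K ((K ⧸ Ideal.span {1 - ec}) ⊗[K] T) ec = 1 := by
    rw [Algebra.TensorProduct.algebraMap_apply, Ideal.Quotient.algebraMap_eq]
    have h0 : Ideal.Quotient.mk (Ideal.span {1 - ec}) (1 - ec) = 0 :=
      Ideal.Quotient.eq_zero_iff_mem.mpr (Ideal.mem_span_singleton_self _)
    rw [map_sub, map_one, sub_eq_zero] at h0
    rw [← h0, Algebra.TensorProduct.one_def]
  have h2 : IsUnit (algebraMap K ((K ⧸ Ideal.span {1 - ec}) ⊗[K] T) f) := by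
    rw [← (Algebra.TensorProduct.includeRight :
      T →ₐ[K] (K ⧸ Ideal.span {1 - ec}) ⊗[K] T).commutes f]
    exact hu.map _
  obtain ⟨n, hn⟩ := hn
  have h3 : (algebraMap K ((K ⧸ Ideal.span {1 - ec}) ⊗[K] T) f) ^ n = 0 := by
    have := congrArg (algebraMap K ((K ⧸ Ideal.span {1 - ec}) ⊗[K] T)) hn
    rwa [map_pow, map_mul, h1, mul_one, map_zero] at this
  have h4 : IsUnit (0 : (K ⧸ Ideal.span {1 - ec}) ⊗[K] T) := by
    rw [← h3]
    exact h2.pow n
  exact subsingleton_of_zero_eq_one (isUnit_zero_iff.mp h4)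

open scoped Classical in
theorem isQuasiIsotrivialConst_piece {ι₀ : Type u} [Fintype ι₀] (r : ι₀ → K)
    (hr : Ideal.span (Set.range r) = ⊤) (ch : ∀ i, EChart K A (r i)) (ec : K)
    (M : Type u) [CommGroup M]
    (hcase : ∀ i, Nonempty ((ch i).M ≃* M) ∨ IsNilpotent (r i * ec)) :
    IsQuasiIsotrivialConst (K ⧸ Ideal.span {1 - ec}) ((K ⧸ Ideal.span {1 - ec}) ⊗[K] A) := by
  haveI : ∀ i, Algebra.Etale K (ch i).T := fun i => (ch i).et
  have hφ : ∀ i, Nonempty (((K ⧸ Ideal.span {1 - ec}) ⊗[K] (ch i).T) ⊗[K ⧸ Ideal.span {1 - ec}]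
      ((K ⧸ Ideal.span {1 - ec}) ⊗[K] A) ≃ₐc[(K ⧸ Ideal.span {1 - ec}) ⊗[K] (ch i).T]
      MonoidAlgebra ((K ⧸ Ideal.span {1 - ec}) ⊗[K] (ch i).T) M) := by
    intro i
    rcases hcase i with ⟨⟨μ⟩⟩ | hn
    · exact chart_piece (K ⧸ Ideal.span {1 - ec}) (ch i) M μ
    · haveI := subsingleton_piece ec (ch i).T (ch i).cov.1 hn
      exact nonempty_bialgEquiv_of_subsingleton ((K ⧸ Ideal.span {1 - ec}) ⊗[K] (ch i).T)
        (((K ⧸ Ideal.span {1 - ec}) ⊗[K] (ch i).T) ⊗[K ⧸ Ideal.span {1 - ec}]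
          ((K ⧸ Ideal.span {1 - ec}) ⊗[K] A))
        (MonoidAlgebra ((K ⧸ Ideal.span {1 - ec}) ⊗[K] (ch i).T) M)
  haveI : Module.Flat K (∀ i, (ch i).T) := inferInstance
  haveI : Module.FaithfullyFlat K (∀ i, (ch i).T) :=
    faithfullyFlat_pi_of_cover r hr (fun i => (ch i).T) (fun i => (ch i).cov)
  haveI hff : Module.FaithfullyFlat (K ⧸ Ideal.span {1 - ec})
      (∀ i, (K ⧸ Ideal.span {1 - ec}) ⊗[K] (ch i).T) :=
    Module.FaithfullyFlat.of_linearEquiv (K ⧸ Ideal.span {1 - ec})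
      ((K ⧸ Ideal.span {1 - ec}) ⊗[K] (∀ i, (ch i).T))
      (TensorProduct.piRight K (K ⧸ Ideal.span {1 - ec}) (K ⧸ Ideal.span {1 - ec})
        (fun i => (ch i).T)).symm
  have hmerge : Nonempty ((∀ i, (K ⧸ Ideal.span {1 - ec}) ⊗[K] (ch i).T) ⊗[K ⧸ Ideal.span {1 - ec}]
      ((K ⧸ Ideal.span {1 - ec}) ⊗[K] A) ≃ₐc[∀ i, (K ⧸ Ideal.span {1 - ec}) ⊗[K] (ch i).T]
      MonoidAlgebra (∀ i, (K ⧸ Ideal.span {1 - ec}) ⊗[K] (ch i).T) M) := by
    letI : ∀ i, Algebra (∀ i, (K ⧸ Ideal.span {1 - ec}) ⊗[K] (ch i).T)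
        ((K ⧸ Ideal.span {1 - ec}) ⊗[K] (ch i).T) := fun i =>
      (Pi.evalRingHom (fun i => (K ⧸ Ideal.span {1 - ec}) ⊗[K] (ch i).T) i).toAlgebra
    haveI : ∀ i, IsScalarTower (K ⧸ Ideal.span {1 - ec})
        (∀ i, (K ⧸ Ideal.span {1 - ec}) ⊗[K] (ch i).T)
        ((K ⧸ Ideal.span {1 - ec}) ⊗[K] (ch i).T) := fun i =>
      ⟨fun x y z => by
        show (x • y) i * z = x • (y i * z)
        rw [Pi.smul_apply, smul_mul_assoc]⟩
    have hdec : IsDecomp (∀ i, (K ⧸ Ideal.span {1 - ec}) ⊗[K] (ch i).T)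
        (fun i => (K ⧸ Ideal.span {1 - ec}) ⊗[K] (ch i).T) := by
      refine ⟨⟨?_, ?_⟩, ?_⟩
      · intro a b hab
        funext i
        exact congrFun hab i
      · intro p
        exact ⟨p, rfl⟩
      · intro i w
        refine ⟨Pi.single i w, ?_⟩
        show (Pi.single i w : ∀ i, (K ⧸ Ideal.span {1 - ec}) ⊗[K] (ch i).T) i = w
        simp
    exact merge hdec M hφ
  exact ⟨∀ i, (K ⧸ Ideal.span {1 - ec}) ⊗[K] (ch i).T, inferInstance, inferInstance,
    inferInstance, hff, M, inferInstance, hmerge⟩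

end Piece

section Main

variable {K : Type u} [CommRing K] {A : Type u} [CommRing A] [HopfAlgebra K A]

open scoped Classical in
/-- A quasi-isotrivial group has constant type on the pieces of a finite decomposition of the
base into open and closed subschemes. -/
theorem exists_pieces (h : IsQuasiIsotrivial K A) :
    ∃ (ι : Type u) (_ : Fintype ι) (_ : DecidableEq ι) (e : ι → K),
      CompleteOrthogonalIdempotents e ∧
      ∀ c, IsQuasiIsotrivialConst (K ⧸ Ideal.span {1 - e c})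
        ((K ⧸ Ideal.span {1 - e c}) ⊗[K] A) := by
  obtain ⟨s₀, hs₀, hloc⟩ := h
  obtain ⟨t, hts, ht⟩ := (Ideal.span_eq_top_iff_finite s₀).mp hs₀
  have hr : Ideal.span (Set.range (Subtype.val : {x : K // x ∈ t} → K)) = ⊤ := by
    rw [Subtype.range_coe_subtype, Finset.setOfPred_mem]
    exact ht
  let ch : ∀ i : {x : K // x ∈ t}, EChart K A i.1 := fun i =>
    (nonempty_eChart i.1 (hloc i.1 (hts i.2))).some
  let s : Setoid {x : K // x ∈ t} :=
    { r := fun i j => Nonempty ((ch i).M ≃* (ch j).M)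
      iseqv := ⟨fun i => ⟨MulEquiv.refl _⟩, fun ⟨f⟩ => ⟨f.symm⟩, fun ⟨f⟩ ⟨g⟩ => ⟨f.trans g⟩⟩ }
  have hrel : ∀ i j : {x : K // x ∈ t}, ¬ IsNilpotent (i.1 * j.1) → s.r i j := fun i j hij =>
    nonempty_mulEquiv_of_not_isNilpotent (ch i) (ch j) hij
  obtain ⟨e, he, -, hP3⟩ := exists_idempotents_of_partition
    (Subtype.val : {x : K // x ∈ t} → K) hr s hrel
  refine ⟨Quotient s, inferInstance, inferInstance, e, he, fun c => ?_⟩
  refine isQuasiIsotrivialConst_piece (Subtype.val : {x : K // x ∈ t} → K) hr ch (e c)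
    (ch (Quotient.out c)).M ?_
  intro i
  by_cases hic : Quotient.mk s i = c
  · left
    have h1 : Quotient.mk s i = Quotient.mk s (Quotient.out c) := by
      rw [Quotient.out_eq]
      exact hic
    exact Quotient.exact h1
  · right
    exact hP3 i c hic

end Main

end Groth.Agent.H9.QI
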