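import Mathlib
import Groth.Prelude.Def_SGA3b
import Groth.Agent.Lib.Helper9.Misc.QI5
import Groth.Agent.Lib.Helper9.Misc.QI6
import Groth.Agent.Lib.Helper9.Misc.QI9
import Groth.Agent.Lib.Helper9.Misc.GLL5

/-!
# Lifting quasi-isotrivial groups of multiplicative type along a nil ideal (helper9)
-/

set_option autoImplicit false
set_option linter.unusedSectionVars false
set_option linter.unusedVariables false
set_option linter.style.haveILetI false

namespace Groth.Agent.H9.QI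

open TensorProduct SGA3b Groth.Agent.H9.MultT Groth.Agent.H9.GLL

universe u

section Gen

variable {R : Type u} [CommRing R] (A : Type u) [CommRing A] [HopfAlgebra R A] (I : Ideal R)
  (hI : ∀ x ∈ I, IsNilpotent x)

include hI in
/-- variant of `GLL.isQuasiIsotrivial_of_mod_nil` with charts instead of `IsMultType` -/
theorem isQuasiIsotrivial_of_hasCharts (h : HasCharts R A)
    (h0 : IsQuasiIsotrivial (R ⧸ I) ((R ⧸ I) ⊗[R] A)) : IsQuasiIsotrivial R A := by
  obtain ⟨s₀, hs₀, hloc⟩ := h0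
  refine ⟨{f | Ideal.Quotient.mk I f ∈ s₀}, ?_, ?_⟩
  · have h1 : Ideal.map (Ideal.Quotient.mk I)
        (Ideal.span {f | Ideal.Quotient.mk I f ∈ s₀}) = ⊤ := by
      rw [Ideal.map_span, ← hs₀]
      congr 1
      ext y
      constructor
      · rintro ⟨f, hf, rfl⟩
        exact hf
      · intro hy
        obtain ⟨f, rfl⟩ := Ideal.Quotient.mk_surjective y
        exact ⟨f, hy, rfl⟩
    have h2 : (1 : R ⧸ I) ∈ Ideal.map (Ideal.Quotient.mk I)
        (Ideal.span {f | Ideal.Quotient.mk I f ∈ s₀}) := by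
      rw [h1]
      exact Submodule.mem_top
    obtain ⟨a, ha, ha1⟩ :=
      (Ideal.mem_map_iff_of_surjective _ Ideal.Quotient.mk_surjective).mp h2
    have h3 : a - 1 ∈ I := by
      rw [← Ideal.Quotient.eq, ha1, map_one]
    have h4 : IsUnit a := by
      have := (hI _ h3).isUnit_add_one
      rwa [sub_add_cancel] at this
    exact Ideal.eq_top_of_isUnit_mem _ ha h4
  · intro f hf
    obtain ⟨E, _, _, hEt, hFF, hD⟩ := hloc (Ideal.Quotient.mk I f) hf
    obtain ⟨S, _, _, hSEt, hSFF, πS, hπS, hnilS, hcompat, -⟩ :=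
      exists_lift_package (Localization.awayMap (Ideal.Quotient.mk I) f)
        (awayMap_mk_surjective I f) (awayMap_mk_ker_le I hI f) E
    refine ⟨S, inferInstance, inferInstance, hSEt, hSFF, ?_⟩
    letI algSE : Algebra S E := πS.toAlgebra
    letI algRS : Algebra R S := Algebra.compHom S (algebraMap R (Localization.Away f))
    haveI : IsScalarTower R (Localization.Away f) S := IsScalarTower.of_algebraMap_eq fun _ => rfl
    letI algR₀E : Algebra (R ⧸ I) E :=
      Algebra.compHom E (algebraMap (R ⧸ I) (Localization.Away (Ideal.Quotient.mk I f)))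
    haveI : IsScalarTower (R ⧸ I) (Localization.Away (Ideal.Quotient.mk I f)) E :=
      IsScalarTower.of_algebraMap_eq fun _ => rfl
    letI algRE : Algebra R E := Algebra.compHom E (algebraMap R (R ⧸ I))
    haveI : IsScalarTower R (R ⧸ I) E := IsScalarTower.of_algebraMap_eq fun _ => rfl
    haveI : IsScalarTower R S E := IsScalarTower.of_algebraMap_eq fun r => by
      show algebraMap (Localization.Away (Ideal.Quotient.mk I f)) E
          (algebraMap (R ⧸ I) (Localization.Away (Ideal.Quotient.mk I f))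
            (Ideal.Quotient.mk I r)) =
        πS (algebraMap (Localization.Away f) S (algebraMap R (Localization.Away f) r))
      rw [hcompat]
      congr 1
      exact (IsLocalization.map_eq _ r).symm
    obtain ⟨M, _, ⟨e'⟩⟩ := hD
    have hDE : IsDiag E (E ⊗[R] A) :=
      ⟨M, inferInstance, ⟨(Groth.Agent.H9.MT.cancelBC R (R ⧸ I) E A).symm.trans
        ((Groth.Agent.H9.MT.cancelBC (R ⧸ I) (Localization.Away (Ideal.Quotient.mk I f)) E
          ((R ⧸ I) ⊗[R] A)).symm.trans e')⟩⟩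
    obtain ⟨M', _, ⟨e''⟩⟩ := isDiag_lift S E hπS hnilS h hDE
    exact ⟨M', inferInstance,
      ⟨(Groth.Agent.H9.MT.cancelBC R (Localization.Away f) S A).trans e''⟩⟩

end Gen

theorem isQuasiIsotrivial_of_bialgEquiv {K : Type u} [CommRing K] {B B' : Type u} [CommRing B]
    [CommRing B'] [HopfAlgebra K B] [HopfAlgebra K B'] (e : B ≃ₐc[K] B')
    (h : IsQuasiIsotrivial K B') : IsQuasiIsotrivial K B := by
  obtain ⟨s, hs, hloc⟩ := h
  refine ⟨s, hs, fun f hf => ?_⟩
  obtain ⟨R', _, _, hEt, hFF, M, _, ⟨θ⟩⟩ := hloc f hf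
  exact ⟨R', inferInstance, inferInstance, hEt, hFF, M, inferInstance,
    ⟨(Groth.Agent.H9.MT.bcEquiv R' (Groth.Agent.H9.MT.bcEquiv (Localization.Away f) e)).trans θ⟩⟩

section Assemble

variable {R : Type u} [CommRing R] {R₀ : Type u} [CommRing R₀] [Algebra R R₀]
  {ι : Type u} [Fintype ι] [DecidableEq ι]
  {L : ι → Type u} [∀ c, CommRing (L c)] [∀ c, Algebra R (L c)] (hdec : IsDecomp R L)
  {L₀ : ι → Type u} [∀ c, CommRing (L₀ c)] [∀ c, Algebra R₀ (L₀ c)] (hdec₀ : IsDecomp R₀ L₀)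
  [∀ c, Algebra (L c) (L₀ c)] [∀ c, Algebra R (L₀ c)] [∀ c, IsScalarTower R R₀ (L₀ c)]
  [∀ c, IsScalarTower R (L c) (L₀ c)]
  {A₀ : Type u} [CommRing A₀] [HopfAlgebra R₀ A₀]

theorem isCov_of_decomp (c : ι) (S : Type u) [CommRing S] [Algebra R S] [Algebra (L c) S]
    [IsScalarTower R (L c) S] [Module.FaithfullyFlat (L c) S] : IsCov (hdec.jj c 1) S := by
  refine ⟨?_, ?_⟩
  · rw [IsScalarTower.algebraMap_apply R (L c) S, hdec.algebraMap_jj_same, map_one]
    exact isUnit_one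
  · intro Q _ _ q hq
    have h1 : (1 : S) ⊗ₜ[L c] ((1 : L c) ⊗ₜ[R] q) = 0 := by
      have := congrArg
        (TensorProduct.AlgebraTensorModule.cancelBaseChange R (L c) S S Q).symm hq
      rw [TensorProduct.AlgebraTensorModule.cancelBaseChange_symm_tmul, map_zero] at this
      exact this
    have h2 : (1 : L c) ⊗ₜ[R] q = 0 :=
      (Module.FaithfullyFlat.one_tmul_eq_zero_iff (L c) _ _).1 h1
    refine ⟨1, ?_⟩
    have h3 := congrArg (hdec.ss Q c) h2
    rw [hdec.ss_tmul, map_zero] at h3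
    rw [pow_one]
    exact h3

include hdec hdec₀ in
/-- assembling local lifts over the pieces of compatible decompositions of `R` and `R₀` -/
theorem assemble
    (hloc : ∀ c, ∃ (Ac : Type u) (_ : CommRing Ac) (_ : HopfAlgebra (L c) Ac),
      (∃ (S : Type u) (_ : CommRing S) (_ : Algebra (L c) S),
        Module.FaithfullyFlat (L c) S ∧ IsDiag S (S ⊗[L c] Ac)) ∧
      Nonempty (L₀ c ⊗[L c] Ac ≃ₐc[L₀ c] L₀ c ⊗[R₀] A₀)) :
    ∃ (P : Type u) (_ : CommRing P) (_ : HopfAlgebra R P),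
      HasCharts R P ∧ Nonempty (R₀ ⊗[R] P ≃ₐc[R₀] A₀) := by
  choose Ac hCR hH hS hiso using hloc
  letI : ∀ c, CommRing (Ac c) := hCR
  letI : ∀ c, HopfAlgebra (L c) (Ac c) := hH
  letI : ∀ c, Algebra R (Ac c) := fun c => Algebra.compHom (Ac c) (algebraMap R (L c))
  haveI : ∀ c, IsScalarTower R (L c) (Ac c) := fun c =>
    IsScalarTower.of_algebraMap_eq fun _ => rfl
  obtain ⟨P, _, _, hβ⟩ := exists_glued_hopf Ac hdec
  refine ⟨P, inferInstance, inferInstance, ?_, ?_⟩
  · refine ⟨Set.range (fun c => hdec.jj c 1), ?_, ?_⟩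
    · rw [Ideal.eq_top_iff_one, ← hdec.sum_jj_one]
      exact Ideal.sum_mem _ fun c _ => Ideal.subset_span ⟨c, rfl⟩
    · rintro _ ⟨c, rfl⟩
      obtain ⟨S, _, _, hff, M, _, ⟨θ⟩⟩ := hS c
      obtain ⟨β⟩ := hβ c
      letI : Algebra R S := Algebra.compHom S (algebraMap R (L c))
      haveI : IsScalarTower R (L c) S := IsScalarTower.of_algebraMap_eq fun _ => rfl
      exact ⟨S, inferInstance, inferInstance, isCov_of_decomp hdec c S, M, inferInstance,
        ⟨(Groth.Agent.H9.MT.cancelBC R (L c) S P).symm.trans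
          ((Groth.Agent.H9.MT.bcEquiv S β).trans θ)⟩⟩
  · apply nonempty_bialgEquiv_of_local hdec₀
    intro c
    obtain ⟨β⟩ := hβ c
    obtain ⟨φ⟩ := hiso c
    exact ⟨(Groth.Agent.H9.MT.cancelBC R R₀ (L₀ c) P).trans
      ((Groth.Agent.H9.MT.cancelBC R (L c) (L₀ c) P).symm.trans
        ((Groth.Agent.H9.MT.bcEquiv (L₀ c) β).trans φ))⟩

end Assemble

section Main

open scoped Classical in
/-- **Lifting quasi-isotrivial groups of multiplicative type along a nil ideal.** -/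
theorem lift_quasiIsotrivial (R : Type u) [CommRing R] (I : Ideal R)
    (hI : ∀ x ∈ I, IsNilpotent x) (A₀ : Type u) [CommRing A₀] [HopfAlgebra (R ⧸ I) A₀]
    (h0 : IsQuasiIsotrivial (R ⧸ I) A₀) :
    ∃ (A : Type u) (_ : CommRing A) (_ : HopfAlgebra R A),
      IsQuasiIsotrivial R A ∧ Nonempty (((R ⧸ I) ⊗[R] A) ≃ₐc[R ⧸ I] A₀) := by
  obtain ⟨ι, _, _, e, he, hpiece⟩ := exists_pieces h0
  obtain ⟨e', he', hcomp⟩ := CompleteOrthogonalIdempotents.lift_of_isNilpotent_ker
    (Ideal.Quotient.mk I)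
    (by
      intro x hx
      rw [Ideal.mk_ker] at hx
      exact hI x hx) he
    (fun i => Ideal.Quotient.mk_surjective (e i))
  have hee : ∀ c, Ideal.Quotient.mk I (e' c) = e c := fun c => congrFun hcomp c
  have hle : ∀ c, Ideal.span {1 - e' c} ≤
      (Ideal.span {1 - e c}).comap (Ideal.Quotient.mk I) := by
    intro c
    rw [Ideal.span_le]
    intro x hx
    rw [Set.mem_singleton_iff] at hx
    subst hx
    show Ideal.Quotient.mk I (1 - e' c) ∈ Ideal.span {1 - e c}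
    rw [map_sub, map_one, hee]
    exact Ideal.mem_span_singleton_self _
  letI algLL : ∀ c, Algebra (R ⧸ Ideal.span {1 - e' c}) ((R ⧸ I) ⧸ Ideal.span {1 - e c}) :=
    fun c => (Ideal.quotientMap (Ideal.span {1 - e c}) (Ideal.Quotient.mk I) (hle c)).toAlgebra
  haveI : ∀ c, IsScalarTower R (R ⧸ Ideal.span {1 - e' c}) ((R ⧸ I) ⧸ Ideal.span {1 - e c}) :=
    fun c => IsScalarTower.of_algebraMap_eq fun r => rfl
  have hdec : IsDecomp R (fun c => R ⧸ Ideal.span {1 - e' c}) :=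
    ⟨he'.bijective_pi, fun c => Ideal.Quotient.mk_surjective⟩
  have hdec₀ : IsDecomp (R ⧸ I) (fun c => (R ⧸ I) ⧸ Ideal.span {1 - e c}) :=
    ⟨he.bijective_pi, fun c => Ideal.Quotient.mk_surjective⟩
  have hsurj : ∀ c, Function.Surjective
      (algebraMap (R ⧸ Ideal.span {1 - e' c}) ((R ⧸ I) ⧸ Ideal.span {1 - e c})) := fun c =>
    Ideal.quotientMap_surjective Ideal.Quotient.mk_surjective
  have hnil : ∀ c (x : R ⧸ Ideal.span {1 - e' c}),
      algebraMap (R ⧸ Ideal.span {1 - e' c}) ((R ⧸ I) ⧸ Ideal.span {1 - e c}) x = 0 →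
        IsNilpotent x := by
    intro c x hx
    obtain ⟨y, rfl⟩ := Ideal.Quotient.mk_surjective x
    have h1 : Ideal.Quotient.mk (Ideal.span {1 - e c}) (Ideal.Quotient.mk I y) = 0 := hx
    rw [Ideal.Quotient.eq_zero_iff_mem, Ideal.mem_span_singleton'] at h1
    obtain ⟨a, ha⟩ := h1
    obtain ⟨a', rfl⟩ := Ideal.Quotient.mk_surjective a
    have h2 : y - a' * (1 - e' c) ∈ I := by
      rw [← Ideal.Quotient.eq_zero_iff_mem, map_sub, map_mul, map_sub, map_one, hee, ha, sub_self]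
    have h3 : Ideal.Quotient.mk (Ideal.span {1 - e' c}) y =
        Ideal.Quotient.mk (Ideal.span {1 - e' c}) (y - a' * (1 - e' c)) := by
      rw [map_sub, map_mul,
        Ideal.Quotient.eq_zero_iff_mem.mpr (Ideal.mem_span_singleton_self (1 - e' c)), mul_zero,
        sub_zero]
    rw [h3]
    exact (hI _ h2).map _
  have hloc : ∀ c, ∃ (Ac : Type u) (_ : CommRing Ac)
      (_ : HopfAlgebra (R ⧸ Ideal.span {1 - e' c}) Ac),
      (∃ (S : Type u) (_ : CommRing S) (_ : Algebra (R ⧸ Ideal.span {1 - e' c}) S),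
        Module.FaithfullyFlat (R ⧸ Ideal.span {1 - e' c}) S ∧
          IsDiag S (S ⊗[R ⧸ Ideal.span {1 - e' c}] Ac)) ∧
      Nonempty (((R ⧸ I) ⧸ Ideal.span {1 - e c}) ⊗[R ⧸ Ideal.span {1 - e' c}] Ac
        ≃ₐc[(R ⧸ I) ⧸ Ideal.span {1 - e c}] ((R ⧸ I) ⧸ Ideal.span {1 - e c}) ⊗[R ⧸ I] A₀) := by
    intro c
    obtain ⟨E, _, _, hEt, hFF, M, _, ⟨θ₀⟩⟩ := hpiece c
    obtain ⟨Ac, _, _, S, _, _, -, hSff, ⟨θ⟩, hφ⟩ := lift_nil (hsurj c) (hnil c) E M θ₀
    exact ⟨Ac, inferInstance, inferInstance, ⟨S, inferInstance, inferInstance, hSff, M,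
      inferInstance, ⟨θ⟩⟩, hφ⟩
  obtain ⟨P, _, _, hch, ⟨ψ⟩⟩ := assemble hdec hdec₀ hloc
  exact ⟨P, inferInstance, inferInstance,
    isQuasiIsotrivial_of_hasCharts P I hI hch (isQuasiIsotrivial_of_bialgEquiv ψ h0), ⟨ψ⟩⟩

end Main

end Groth.Agent.H9.QI
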