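import Mathlib

/-! Helper9: finite-order isometries of anisotropic quadratic forms are involutions -/

set_option linter.style.haveILetI false

namespace Groth.Agent.H9.QOrd
open Polynomial

universe u v

variable {K : Type u} [Field K] {V : Type v} [AddCommGroup V] [Module K V]

/-- eigenvalues of an isometry of an anisotropic form square to one -/
lemma eig_sq (q : QuadraticForm K V) (hq : q.Anisotropic) (f : Module.End K V)
    (hf : ∀ x, q (f x) = q x) (ζ : K) (v : V) (hv : v ≠ 0) (hfv : f v = ζ • v) : ζ * ζ = 1 := by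
  have h1 : q v = (ζ * ζ) • q v := by
    rw [← QuadraticMap.map_smul, ← hfv, hf]
  have h2 : q v ≠ 0 := fun h => hv (hq v h)
  have h3 : (ζ * ζ - 1) * q v = 0 := by
    rw [smul_eq_mul] at h1
    linear_combination -h1
  have := (mul_eq_zero.mp h3).resolve_right h2
  linear_combination this

/-- no nontrivial Jordan blocks -/
lemma no_jordan (h2 : (2 : K) ≠ 0) (q : QuadraticForm K V) (hq : q.Anisotropic)
    (f : Module.End K V)
    (hf : ∀ x, q (f x) = q x) (ζ : K) (hζ : ζ * ζ = 1) (w u : V) (hfu : f u = ζ • u)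
    (hfw : f w = ζ • w + u) : u = 0 := by
  apply hq
  have e1 : q (f w) = q w := hf w
  have e2 : q (f (f w)) = q w := by rw [hf, hf]
  have hffw : f (f w) = w + (2 * ζ) • u := by
    rw [hfw, map_add, map_smul, hfw, hfu, smul_add, smul_smul, hζ, one_smul, add_assoc,
      ← add_smul]
    congr 2
    ring
  rw [hfw, QuadraticMap.map_add (⇑q), QuadraticMap.map_smul, QuadraticMap.polar_smul_left, hζ,
    one_smul] at e1
  rw [hffw, QuadraticMap.map_add (⇑q), QuadraticMap.map_smul, QuadraticMap.polar_smul_right] at e2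
  simp only [smul_eq_mul] at e1 e2
  have h4 : (2 : K) * q u = 0 := by
    have : (2 * ζ) * (2 * ζ) = 4 := by linear_combination 4 * hζ
    rw [this] at e2
    linear_combination e2 - 2 * e1
  exact (mul_eq_zero.mp h4).resolve_left h2

theorem main [FiniteDimensional K V]
    (hK : ∀ n : ℕ, 0 < n → (X ^ n - 1 : K[X]).Splits) (h2 : (2 : K) ≠ 0)
    (q : QuadraticForm K V) (hq : q.Anisotropic)
    (g : V ≃ₗ[K] V) (hg : ∀ x : V, q (g x) = q x) (d : ℕ) (hd : 0 < d) (hgd : g ^ d = 1) :
    g ^ 2 = 1 := by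
  classical
  let f : Module.End K V := g.toLinearMap
  have hfg : ∀ n : ℕ, ∀ x, (f ^ n) x = (g ^ n) x := by
    intro n x
    rw [Module.End.pow_apply, LinearEquiv.pow_apply]
    rfl
  have hf : ∀ x, q (f x) = q x := hg
  have hfd : f ^ d = 1 := by
    ext x
    rw [hfg, hgd]
    rfl
  set p := minpoly K f with hp
  have hint : IsIntegral K f := Algebra.IsIntegral.isIntegral f
  have hmonic : p.Monic := minpoly.monic hint
  have hp0 : p ≠ 0 := hmonic.ne_zero
  have hdvd : p ∣ X ^ d - 1 := by
    apply minpoly.dvd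
    rw [map_sub, map_pow, aeval_X, map_one, hfd, sub_self]
  have hsplit : p.Splits := (hK d hd).of_dvd (X_pow_sub_C_ne_zero hd 1) hdvd
  -- roots square to one
  have hroot : ∀ ζ ∈ p.roots, ζ * ζ = 1 := by
    intro ζ hζ
    have hr : p.IsRoot ζ := (mem_roots hp0).mp hζ
    obtain ⟨v, hv⟩ := (Module.End.hasEigenvalue_of_isRoot hr).exists_hasEigenvector
    exact eig_sq q hq f hf ζ v hv.2 (Module.End.mem_eigenspace_iff.mp hv.1)
  -- squarefree
  have hnodup : p.roots.Nodup := by
    rw [Multiset.nodup_iff_count_le_one]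
    intro ζ
    by_contra hcount
    push Not at hcount
    have h2le : 2 ≤ p.roots.count ζ := hcount
    rw [count_roots, le_rootMultiplicity_iff hp0] at h2le
    obtain ⟨r, hr⟩ := h2le
    have hζmem : ζ ∈ p.roots := by
      rw [mem_roots hp0, IsRoot, hr]
      simp
    have hζ := hroot ζ hζmem
    have hrmonic : r.Monic := by
      have h1 : ((X - C ζ) ^ 2 * r).Monic := hr ▸ hmonic
      exact ((monic_X_sub_C ζ).pow 2).of_mul_monic_left h1
    let s := (X - C ζ) * r
    have hsmonic : s.Monic := (monic_X_sub_C ζ).mul hrmonic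
    have hsdeg : s.natDegree + 1 = p.natDegree := by
      rw [hr, ((monic_X_sub_C ζ).pow 2).natDegree_mul hrmonic, (monic_X_sub_C ζ).natDegree_mul hrmonic,
        (monic_X_sub_C ζ).natDegree_pow, natDegree_X_sub_C]
      ring
    have hsne : aeval f s ≠ 0 := by
      intro h0
      have := natDegree_le_natDegree (minpoly.min K f hsmonic h0)
      rw [← hp] at this
      omega
    obtain ⟨v, hv⟩ : ∃ v, (aeval f s) v ≠ 0 := by
      by_contra hcon
      push Not at hcon
      exact hsne (LinearMap.ext hcon)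
    let w := (aeval f r) v
    let u := (aeval f s) v
    have hu1 : u = f w - ζ • w := by
      show (aeval f ((X - C ζ) * r)) v = _
      rw [map_mul, map_sub, aeval_X, aeval_C]
      rfl
    have hu2 : f u - ζ • u = 0 := by
      have : (aeval f p) v = 0 := by rw [hp, minpoly.aeval]; rfl
      rw [hr, pow_two, mul_assoc, map_mul, map_sub, aeval_X, aeval_C] at this
      exact this
    have hu0 : u = 0 := no_jordan h2 q hq f hf ζ hζ w u (sub_eq_zero.mp hu2)
      (by rw [hu1]; abel)
    exact hv hu0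
  -- conclude
  have hX2 : (X ^ 2 - 1 : K[X]) ≠ 0 := X_pow_sub_C_ne_zero (by norm_num) 1
  have hle : p.roots ≤ (X ^ 2 - 1 : K[X]).roots := by
    rw [Multiset.le_iff_subset hnodup]
    intro ζ hζ
    rw [mem_roots hX2, IsRoot, eval_sub, eval_pow, eval_X, eval_one, pow_two, hroot ζ hζ, sub_self]
  have hdvd2 : p ∣ X ^ 2 - 1 := by
    have h1 := (Multiset.prod_X_sub_C_dvd_iff_le_roots hX2 p.roots).mpr hle
    rwa [← hsplit.eq_prod_roots_of_monic hmonic] at h1
  have hf2 : f ^ 2 = 1 := by
    obtain ⟨c, hc⟩ := hdvd2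
    have := congrArg (aeval f) hc
    rw [map_mul, hp, minpoly.aeval, zero_mul, map_sub, map_pow, aeval_X, map_one] at this
    exact sub_eq_zero.mp this
  ext x
  rw [← hfg, hf2]
  rfl

end Groth.Agent.H9.QOrd
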