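import Mathlib
import Groth.Agent.Lib.Helper9.Misc.HQ6

set_option autoImplicit false
set_option linter.style.haveILetI false
set_option linter.unusedSectionVars false
set_option linter.unusedVariables false

/-!
# A vector bundle on `A¹_R` extending to `P¹_R` is free locally on `Spec R`
-/

namespace Groth.Agent.H9.QP

open Polynomial LaurentPolynomial TensorProduct

universe u

section step3

variable (R : Type u) [CommRing R]

/-- if `R[X] ⊗ P₀` is finite projective over `R[X]`, then `P₀` is finite projective over `R` -/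
theorem finite_projective_of_extended (P : Type u) [AddCommGroup P] [Module R[X] P]
    [Module.Finite R[X] P] [Module.Projective R[X] P]
    (P₀ : Type u) [AddCommGroup P₀] [Module R P₀] (f : P ≃ₗ[R[X]] (R[X] ⊗[R] P₀)) :
    Module.Finite R P₀ ∧ Module.Projective R P₀ := by
  letI : Algebra R[X] R := (Polynomial.evalRingHom (0 : R)).toAlgebra
  haveI : IsScalarTower R R[X] R := IsScalarTower.of_algebraMap_eq (fun a => by
    show a = Polynomial.evalRingHom (0 : R) (algebraMap R R[X] a)
    simp)
  let ψ : R ⊗[R[X]] P ≃ₗ[R] P₀ :=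
    (TensorProduct.AlgebraTensorModule.congr (LinearEquiv.refl R R) f) ≪≫ₗ
      (TensorProduct.AlgebraTensorModule.cancelBaseChange R R[X] R R P₀) ≪≫ₗ
      (TensorProduct.lid R P₀)
  exact ⟨Module.Finite.equiv ψ, Module.Projective.of_equiv ψ⟩

end step3

end Groth.Agent.H9.QP

namespace Groth.Agent.H9.QP

open Polynomial LaurentPolynomial TensorProduct

universe u

section step4

variable (R : Type u) [CommRing R]

/-- a finite projective module is free on a finite cover by basic open sets -/
theorem exists_cover_free (P₀ : Type u) [AddCommGroup P₀] [Module R P₀] [Module.Finite R P₀]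
    [Module.Projective R P₀] :
    ∃ (n : ℕ) (g : Fin n → R), Ideal.span (Set.range g) = ⊤ ∧
      ∀ i, Module.Free (Localization (Submonoid.powers (g i)))
        (LocalizedModule (Submonoid.powers (g i)) P₀) := by
  classical
  set G : Set R := {g : R | Module.Free (Localization (Submonoid.powers g))
    (LocalizedModule (Submonoid.powers g) P₀)} with hG
  have hspan : Ideal.span G = ⊤ := by
    by_contra hne
    obtain ⟨m, hm, hle⟩ := Ideal.exists_le_maximal _ hne
    haveI := hm.isPrime
    haveI : Module.Free (Localization.AtPrime m) (LocalizedModule m.primeCompl P₀) :=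
      Module.free_of_flat_of_isLocalRing
    haveI : Module.FinitePresentation R P₀ := Module.finitePresentation_of_projective R P₀
    obtain ⟨r, hr, hr', _⟩ := Module.FinitePresentation.exists_free_localizedModule_powers
      m.primeCompl (LocalizedModule.mkLinearMap m.primeCompl P₀) (Localization.AtPrime m)
    exact hr (hle (Ideal.subset_span hr'))
  obtain ⟨s, hs, hs'⟩ := (Ideal.span_eq_top_iff_finite G).1 hspan
  refine ⟨s.card, fun i => ((s.equivFin).symm i : R), ?_, ?_⟩
  · have : Set.range (fun i => ((s.equivFin).symm i : R)) = (s : Set R) := by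
      ext x
      constructor
      · rintro ⟨i, rfl⟩
        exact ((s.equivFin).symm i).2
      · intro hx
        exact ⟨s.equivFin ⟨x, hx⟩, by simp⟩
    rw [this, hs']
  · intro i
    exact hs ((s.equivFin).symm i).2

end step4

end Groth.Agent.H9.QP

namespace Groth.Agent.H9.QP

open Polynomial LaurentPolynomial TensorProduct

universe u

section step5

variable (R : Type u) [CommRing R]

theorem free_localized_of_extended (P : Type u) [AddCommGroup P] [Module R[X] P]
    (P₀ : Type u) [AddCommGroup P₀] [Module R P₀] (f : P ≃ₗ[R[X]] (R[X] ⊗[R] P₀)) (g : R)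
    (hfree : Module.Free (Localization (Submonoid.powers g))
      (LocalizedModule (Submonoid.powers g) P₀)) :
    Module.Free (Localization.Away (Polynomial.C g : R[X]))
      (LocalizedModule (Submonoid.powers (Polynomial.C g : R[X])) P) := by
  set S' := Localization.Away (Polynomial.C g : R[X]) with hS'
  set Rg := Localization (Submonoid.powers g) with hRg
  -- `S'` is an `R_g`-algebra
  have hunit : IsUnit (algebraMap R S' g) := by
    have : algebraMap R S' g = algebraMap R[X] S' (Polynomial.C g) := by
      rw [IsScalarTower.algebraMap_apply R R[X] S', Polynomial.algebraMap_eq]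
    rw [this]
    exact IsLocalization.Away.algebraMap_isUnit _
  letI : Algebra Rg S' := (IsLocalization.Away.lift (S := Rg) g hunit).toAlgebra
  haveI : IsScalarTower R Rg S' := IsScalarTower.of_algebraMap_eq (fun a => by
    show algebraMap R S' a = IsLocalization.Away.lift (S := Rg) g hunit (algebraMap R Rg a)
    rw [IsLocalization.Away.lift_eq])
  -- `R_g ⊗ P₀` is free over `R_g`
  have e1 : Rg ⊗[R] P₀ ≃ₗ[Rg] LocalizedModule (Submonoid.powers g) P₀ :=
    (IsLocalizedModule.isBaseChange (Submonoid.powers g) Rg
      (LocalizedModule.mkLinearMap (Submonoid.powers g) P₀)).equiv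
  haveI : Module.Free Rg (Rg ⊗[R] P₀) := Module.Free.of_equiv e1.symm
  -- the chain of isomorphisms
  have e2 : S' ⊗[R[X]] P ≃ₗ[S'] LocalizedModule (Submonoid.powers (Polynomial.C g : R[X])) P :=
    (IsLocalizedModule.isBaseChange (Submonoid.powers (Polynomial.C g : R[X])) S'
      (LocalizedModule.mkLinearMap (Submonoid.powers (Polynomial.C g : R[X])) P)).equiv
  have e3 : S' ⊗[R[X]] P ≃ₗ[S'] S' ⊗[R] P₀ :=
    (TensorProduct.AlgebraTensorModule.congr (LinearEquiv.refl S' S') f) ≪≫ₗ
      (TensorProduct.AlgebraTensorModule.cancelBaseChange R R[X] S' S' P₀)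
  have e4 : S' ⊗[Rg] (Rg ⊗[R] P₀) ≃ₗ[S'] S' ⊗[R] P₀ :=
    TensorProduct.AlgebraTensorModule.cancelBaseChange R Rg S' S' P₀
  exact Module.Free.of_equiv (e4 ≪≫ₗ e3.symm ≪≫ₗ e2)

end step5

section final

variable (R : Type u) [CommRing R]

theorem main (P : Type u) [AddCommGroup P] [Module R[X] P] [Module.Finite R[X] P]
    [Module.Projective R[X] P]
    (P' : Type u) [AddCommGroup P'] [Module R[X] P'] [Module.Finite R[X] P']
    [Module.Projective R[X] P']
    (e : R[T;T⁻¹] ⊗[R[X]] P ≃+ R[T;T⁻¹] ⊗[R[X]] P')
    (he : ∀ (a : R[T;T⁻¹]) (m : R[T;T⁻¹] ⊗[R[X]] P),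
      e (a • m) = LaurentPolynomial.invert a • e m) :
    ∃ (n : ℕ) (g : Fin n → R), Ideal.span (Set.range g) = ⊤ ∧
      ∀ i, Module.Free (Localization.Away (Polynomial.C (g i) : R[X]))
        (LocalizedModule (Submonoid.powers (Polynomial.C (g i) : R[X])) P) := by
  let e' : (R[T;T⁻¹] ⊗[R[X]] P) →ₛₗ[RingEquiv.toRingHom
      (AlgEquiv.toRingEquiv (LaurentPolynomial.invert (R := R)))] (R[T;T⁻¹] ⊗[R[X]] P') :=
    { toFun := e
      map_add' := e.map_add
      map_smul' := he }
  have he' : Function.Bijective e' := e.bijective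
  obtain ⟨P₀, _, _, ⟨f⟩⟩ := Groth.Agent.H9.HQ.extended_of_P1 R P P' e' he'
  obtain ⟨_, _⟩ := finite_projective_of_extended R P P₀ f
  obtain ⟨n, g, hg, hfree⟩ := exists_cover_free R P₀
  exact ⟨n, g, hg, fun i => free_localized_of_extended R P P₀ f (g i) (hfree i)⟩

end final

end Groth.Agent.H9.QP
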