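import Mathlib
import Groth.Prelude.Def_W4c6intromoduliQuartic
import Groth.Agent.Lib.Helper9.Quartic

/-! Helper9: binary quartics (S19393), part 1 — projective equivalence of root tuples gives equivalence of forms. -/

set_option linter.style.haveILetI false
set_option linter.unusedSectionVars false

namespace Groth.Agent.H9.QRT

open W4c6intromoduli Groth.Agent.H9.Quartic

universe u
variable {k : Type u} [Field k]

/-- projective equivalence of ordered 4-tuples of points of the projective line -/
def Rel (la mu la' mu' : Fin 4 → k) : Prop :=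
  ∃ a b c d : k, a * d - b * c ≠ 0 ∧ ∃ e : Fin 4 → k, (∀ i, e i ≠ 0) ∧
    ∀ i, a * la i + b * mu i = e i * la' i ∧ c * la i + d * mu i = e i * mu' i

theorem Rel.symm {la mu la' mu' : Fin 4 → k} (h : Rel la mu la' mu') : Rel la' mu' la mu := by
  obtain ⟨a, b, c, d, hdet, e, he, h⟩ := h
  refine ⟨d, -b, -c, a, ?_, fun i => (a * d - b * c) / e i, ?_, ?_⟩
  · intro h0; apply hdet; linear_combination h0
  · intro i; exact div_ne_zero hdet (he i)
  · intro i
    obtain ⟨h1, h2⟩ := h i
    have hei := he i
    constructor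
    · field_simp
      linear_combination b * h2 - d * h1
    · field_simp
      linear_combination c * h1 - a * h2

theorem Rel.trans {la mu la' mu' la'' mu'' : Fin 4 → k} (h : Rel la mu la' mu')
    (h' : Rel la' mu' la'' mu'') : Rel la mu la'' mu'' := by
  obtain ⟨a, b, c, d, hdet, e, he, h⟩ := h
  obtain ⟨a', b', c', d', hdet', e', he', h'⟩ := h'
  refine ⟨a' * a + b' * c, a' * b + b' * d, c' * a + d' * c, c' * b + d' * d, ?_,
    fun i => e i * e' i, fun i => mul_ne_zero (he i) (he' i), ?_⟩
  · have : (a' * a + b' * c) * (c' * b + d' * d) - (a' * b + b' * d) * (c' * a + d' * c) =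
        (a' * d' - b' * c') * (a * d - b * c) := by ring
    rw [this]
    exact mul_ne_zero hdet' hdet
  · intro i
    obtain ⟨h1, h2⟩ := h i
    obtain ⟨h1', h2'⟩ := h' i
    constructor
    · linear_combination a' * h1 + b' * h2 + e i * h1'
    · linear_combination c' * h1 + d' * h2 + e i * h2'

/-- a linear factor is transformed by the adjugate substitution -/
theorem subst_lin (a b c d l m : k) :
    subst (Matrix.of ![![d, -b], ![-c, a]])
      (MvPolynomial.C m * MvPolynomial.X 0 - MvPolynomial.C l * MvPolynomial.X 1) =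
    MvPolynomial.C (c * l + d * m) * MvPolynomial.X 0 -
      MvPolynomial.C (a * l + b * m) * MvPolynomial.X 1 := by
  simp only [subst, map_sub, map_mul, MvPolynomial.aeval_C, MvPolynomial.aeval_X,
    Fin.sum_univ_two, Matrix.of_apply, Matrix.cons_val_zero, Matrix.cons_val_one,
    MvPolynomial.algebraMap_eq, map_add, map_neg]
  simp
  ring

theorem equiv_of_rel {la mu la' mu' : Fin 4 → k} (h : Rel la mu la' mu') :
    ∃ (M : Matrix (Fin 2) (Fin 2) k) (c : k), IsUnit M.det ∧ c ≠ 0 ∧
      binForm la' mu' = MvPolynomial.C c * subst M (binForm la mu) := by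
  obtain ⟨a, b, c, d, hdet, e, he, h⟩ := h
  refine ⟨Matrix.of ![![d, -b], ![-c, a]], (∏ i, e i)⁻¹, ?_, ?_, ?_⟩
  · rw [Matrix.det_fin_two_of, isUnit_iff_ne_zero]
    intro h0; apply hdet; linear_combination h0
  · exact inv_ne_zero (Finset.prod_ne_zero_iff.2 fun i _ => he i)
  · rw [binForm, binForm, map_prod]
    have h1 : ∀ i, subst (Matrix.of ![![d, -b], ![-c, a]])
        (MvPolynomial.C (mu i) * MvPolynomial.X 0 - MvPolynomial.C (la i) * MvPolynomial.X 1) =
        MvPolynomial.C (e i) * (MvPolynomial.C (mu' i) * MvPolynomial.X 0 -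
          MvPolynomial.C (la' i) * MvPolynomial.X 1) := by
      intro i
      rw [subst_lin, (h i).1, (h i).2, map_mul, map_mul]
      ring
    simp_rw [h1]
    rw [Finset.prod_mul_distrib, ← map_prod, ← mul_assoc, ← map_mul, inv_mul_cancel₀, map_one,
      one_mul]
    exact Finset.prod_ne_zero_iff.2 fun i _ => he i

/-- permuting the root points does not change the quartic -/
theorem binForm_perm (la mu : Fin 4 → k) (π : Equiv.Perm (Fin 4)) :
    binForm (la ∘ π) (mu ∘ π) = binForm la mu := by
  rw [binForm, binForm]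
  exact Equiv.prod_comp π (fun i => MvPolynomial.C (mu i) * MvPolynomial.X 0 -
    MvPolynomial.C (la i) * MvPolynomial.X 1)

end Groth.Agent.H9.QRT
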