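import Mathlib
import Groth.Prelude.Def_W4c6intromoduliQuartic
import Groth.Agent.Lib.Helper9.Quartic
import Groth.Agent.Lib.Helper9.Misc.QRT1

/-! Helper9: binary quartics (S19393), part 2 — normal form of a tuple of distinct points. -/

set_option linter.style.haveILetI false
set_option linter.unusedSectionVars false

namespace Groth.Agent.H9.QRT

open W4c6intromoduli Groth.Agent.H9.Quartic

universe u
variable {k : Type u} [Field k]

theorem mn_ne_zero {la mu : Fin 4 → k} (hd : disc la mu ≠ 0) :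
    mn la mu 0 1 ≠ 0 ∧ mn la mu 0 2 ≠ 0 ∧ mn la mu 0 3 ≠ 0 ∧ mn la mu 1 2 ≠ 0 ∧
      mn la mu 1 3 ≠ 0 ∧ mn la mu 2 3 ≠ 0 := by
  rw [disc_eq] at hd
  refine ⟨?_, ?_, ?_, ?_, ?_, ?_⟩ <;> (intro h0; apply hd; rw [h0]; ring)

/-- the normalized tuple `∞, 0, 1, (x : y)` -/
def laV (x : k) : Fin 4 → k := ![1, 0, 1, x]
def muV (y : k) : Fin 4 → k := ![0, 1, 1, y]

theorem rel_normal {la mu : Fin 4 → k} (hd : disc la mu ≠ 0) :
    Rel la mu (laV (-cB la mu)) (muV (cC la mu)) := by
  obtain ⟨h01, h02, h03, h12, h13, h23⟩ := mn_ne_zero hd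
  refine ⟨mn la mu 0 2 * mu 1, -(mn la mu 0 2 * la 1), mn la mu 1 2 * mu 0,
    -(mn la mu 1 2 * la 0), ?_, ![-(mn la mu 0 2 * mn la mu 0 1), mn la mu 1 2 * mn la mu 0 1,
      mn la mu 0 2 * mn la mu 1 2, 1], ?_, ?_⟩
  · have : mn la mu 0 2 * mu 1 * -(mn la mu 1 2 * la 0) -
        -(mn la mu 0 2 * la 1) * (mn la mu 1 2 * mu 0) =
        mn la mu 0 2 * mn la mu 1 2 * mn la mu 0 1 := by
      simp only [mn]; ring
    rw [this]
    exact mul_ne_zero (mul_ne_zero h02 h12) h01
  · intro i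
    fin_cases i
    · simpa using ⟨h02, h01⟩
    · simpa using ⟨h12, h01⟩
    · simpa using ⟨h02, h12⟩
    · simp
  · intro i
    fin_cases i
    · simp only [laV, muV, cB, cC, mn]
      constructor <;> simp <;> ring
    · simp only [laV, muV, cB, cC, mn]
      constructor <;> simp <;> ring
    · simp only [laV, muV, cB, cC, mn]
      constructor <;> simp <;> ring
    · simp only [laV, muV, cB, cC, mn]
      constructor <;> simp <;> ring

theorem rel_scale (x y s : k) (hs : s ≠ 0) : Rel (laV x) (muV y) (laV (s * x)) (muV (s * y)) := by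
  refine ⟨1, 0, 0, 1, by simp, ![1, 1, 1, s⁻¹], ?_, ?_⟩
  · intro i
    fin_cases i <;> simp [hs]
  · intro i
    fin_cases i <;> simp [laV, muV, hs]

/-- tuples with proportional invariants `(B, C)` are projectively equivalent -/
theorem rel_of_prop {la mu la' mu' : Fin 4 → k} (hd : disc la mu ≠ 0) (hd' : disc la' mu' ≠ 0)
    (s : k) (hs : s ≠ 0) (hB : cB la' mu' = s * cB la mu) (hC : cC la' mu' = s * cC la mu) :
    Rel la mu la' mu' := by
  have h1 := rel_normal hd
  have h2 := rel_normal hd'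
  rw [hB, hC] at h2
  have h3 := rel_scale (-cB la mu) (cC la mu) s hs
  have h4 : s * -cB la mu = -(s * cB la mu) := by ring
  rw [h4] at h3
  exact (h1.trans h3).trans h2.symm

end Groth.Agent.H9.QRT
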