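import Mathlib

/-! Helper9: binary quartics (S19393), part 3 — matching the roots of two resolvent cubics. -/

set_option linter.style.haveILetI false
set_option linter.unusedSectionVars false

namespace Groth.Agent.H9.QRT

universe u
variable {k : Type u} [Field k]

/-- second step of the matching -/
theorem match_step {X Y Z A' B' C' s : k} (h0 : X + Y + Z = 0) (h0' : A' + B' + C' = 0)
    (h2 : s ^ 2 * (X * Y + Y * Z + Z * X) = A' * B' + B' * C' + C' * A') (hA : A' = s * X) :
    (B' = s * Y ∧ C' = s * Z) ∨ (B' = s * Z ∧ C' = s * Y) := by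
  have hZ : Z = -X - Y := by linear_combination h0
  have hC' : C' = -A' - B' := by linear_combination h0'
  have key : (B' - s * Y) * (B' - s * Z) = 0 := by
    subst hZ hC' hA
    linear_combination h2
  rcases mul_eq_zero.1 key with h | h
  · left
    have hB : B' = s * Y := by linear_combination h
    refine ⟨hB, ?_⟩
    rw [hC', hA, hB, hZ]; ring
  · right
    have hB : B' = s * Z := by linear_combination h
    refine ⟨hB, ?_⟩
    rw [hC', hA, hB, hZ]; ring

/-- matching the roots of two cubics with proportional invariants -/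
theorem match_roots {A B C A' B' C' : k} (h0 : A + B + C = 0) (h0' : A' + B' + C' = 0)
    (hne : A * B * C ≠ 0) (hne' : A' * B' * C' ≠ 0)
    (h : (A * B + B * C + C * A) ^ 3 * (A' * B' * C') ^ 2 =
      (A' * B' + B' * C' + C' * A') ^ 3 * (A * B * C) ^ 2) :
    ∃ s : k, s ≠ 0 ∧
      ((A' = s * A ∧ B' = s * B ∧ C' = s * C) ∨ (A' = s * A ∧ B' = s * C ∧ C' = s * B) ∨
       (A' = s * B ∧ B' = s * A ∧ C' = s * C) ∨ (A' = s * B ∧ B' = s * C ∧ C' = s * A) ∨
       (A' = s * C ∧ B' = s * A ∧ C' = s * B) ∨ (A' = s * C ∧ B' = s * B ∧ C' = s * A)) := by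
  set e2 := A * B + B * C + C * A with he2
  set e3 := A * B * C with he3
  set e2' := A' * B' + B' * C' + C' * A' with he2'
  set e3' := A' * B' * C' with he3'
  clear_value e2 e3 e2' e3'
  have hA0 : A ≠ 0 := fun h0 => hne (by rw [he3, h0]; ring)
  have hA0' : A' ≠ 0 := fun h0 => hne' (by rw [he3', h0]; ring)
  -- find s with s^2 e2 = e2', s^3 e3 = e3'
  obtain ⟨s, hs, hs2, hs3⟩ : ∃ s : k, s ≠ 0 ∧ s ^ 2 * e2 = e2' ∧ s ^ 3 * e3 = e3' := by
    by_cases hz : e2 = 0
    · have hz' : e2' = 0 := by
        rw [hz] at h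
        have h1 : e2' ^ 3 * e3 ^ 2 = 0 := by rw [← h]; ring
        rcases mul_eq_zero.1 h1 with h2 | h2
        · exact pow_eq_zero_iff (by norm_num) |>.1 h2
        · exact absurd (pow_eq_zero_iff (by norm_num) |>.1 h2) hne
      have hA3 : A ^ 3 = e3 := by
        have hC : C = -A - B := by linear_combination h0
        have : A ^ 3 - e3 = -A * e2 := by rw [he3, he2, hC]; ring
        rw [hz, mul_zero, sub_eq_zero] at this
        exact this
      have hA3' : A' ^ 3 = e3' := by
        have hC : C' = -A' - B' := by linear_combination h0'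
        have : A' ^ 3 - e3' = -A' * e2' := by rw [he3', he2', hC]; ring
        rw [hz', mul_zero, sub_eq_zero] at this
        exact this
      refine ⟨A' / A, div_ne_zero hA0' hA0, ?_, ?_⟩
      · rw [hz, hz', mul_zero]
      · rw [← hA3, ← hA3']
        field_simp
    · have hz' : e2' ≠ 0 := by
        intro hz'
        rw [hz'] at h
        have h1 : e2 ^ 3 * e3' ^ 2 = 0 := by rw [h]; ring
        rcases mul_eq_zero.1 h1 with h2 | h2
        · exact hz (pow_eq_zero_iff (by norm_num) |>.1 h2)
        · exact hne' (pow_eq_zero_iff (by norm_num) |>.1 h2)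
      refine ⟨e3' * e2 / (e3 * e2'), div_ne_zero (mul_ne_zero hne' hz) (mul_ne_zero hne hz'),
        ?_, ?_⟩
      · field_simp
        linear_combination h
      · field_simp
        linear_combination h
  have hs2' : s ^ 2 * (A * B + B * C + C * A) = A' * B' + B' * C' + C' * A' := by
    rw [← he2, ← he2']; exact hs2
  -- A' is a root
  have hroot : (A' - s * A) * (A' - s * B) * (A' - s * C) = 0 := by
    have hC : C = -A - B := by linear_combination h0
    have hC' : C' = -A' - B' := by linear_combination h0'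
    have e1 : (A' - s * A) * (A' - s * B) * (A' - s * C) =
        A' ^ 3 - s * (A + B + C) * A' ^ 2 + s ^ 2 * e2 * A' - s ^ 3 * e3 := by
      rw [he2, he3]; ring
    rw [e1, h0, hs2, hs3, he2', he3', hC']
    ring
  refine ⟨s, hs, ?_⟩
  rcases mul_eq_zero.1 hroot with h1 | h1
  · rcases mul_eq_zero.1 h1 with h1 | h1
    · have hA : A' = s * A := by linear_combination h1
      rcases match_step h0 h0' hs2' hA with ⟨hB, hC⟩ | ⟨hB, hC⟩
      · exact Or.inl ⟨hA, hB, hC⟩
      · exact Or.inr (Or.inl ⟨hA, hB, hC⟩)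
    · have hA : A' = s * B := by linear_combination h1
      have h0b : B + A + C = 0 := by linear_combination h0
      have hs2b : s ^ 2 * (B * A + A * C + C * B) = A' * B' + B' * C' + C' * A' := by
        linear_combination hs2'
      rcases match_step h0b h0' hs2b hA with ⟨hB, hC⟩ | ⟨hB, hC⟩
      · exact Or.inr (Or.inr (Or.inl ⟨hA, hB, hC⟩))
      · exact Or.inr (Or.inr (Or.inr (Or.inl ⟨hA, hB, hC⟩)))
  · have hA : A' = s * C := by linear_combination h1
    have h0b : C + A + B = 0 := by linear_combination h0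
    have hs2b : s ^ 2 * (C * A + A * B + B * C) = A' * B' + B' * C' + C' * A' := by
      linear_combination hs2'
    rcases match_step h0b h0' hs2b hA with ⟨hB, hC⟩ | ⟨hB, hC⟩
    · exact Or.inr (Or.inr (Or.inr (Or.inr (Or.inl ⟨hA, hB, hC⟩))))
    · exact Or.inr (Or.inr (Or.inr (Or.inr (Or.inr ⟨hA, hB, hC⟩))))

end Groth.Agent.H9.QRT
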