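import Mathlib
import Groth.Prelude.Def_W4c6intromoduliQuartic
import Groth.Agent.Lib.Helper9.Quartic
import Groth.Agent.Lib.Helper9.Misc.QRT2
import Groth.Agent.Lib.Helper9.Misc.QRT3

/-! Helper9: reordering of roots of binary quartics and the effect on the cross-products (for S19393). -/

set_option linter.style.haveILetI false
set_option linter.unusedSectionVars false

namespace Groth.Agent.H9.QRT

open W4c6intromoduli Groth.Agent.H9.Quartic

universe u
variable {k : Type u} [Field k]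

/-- the reordered tuple -/
def reo (q : Fin 4 → Fin 4) (la : Fin 4 → k) : Fin 4 → k := fun i => la (q i)

theorem binForm_reo (la mu : Fin 4 → k) (a b c d : Fin 4)
    (h : ({a, b, c, d} : Finset (Fin 4)) = Finset.univ) (hab : a ≠ b) (hac : a ≠ c)
    (had : a ≠ d) (hbc : b ≠ c) (hbd : b ≠ d) (hcd : c ≠ d) :
    binForm (reo ![a, b, c, d] la) (reo ![a, b, c, d] mu) = binForm la mu := by
  rw [binForm, binForm]
  rw [Fin.prod_univ_four]
  simp only [reo, Matrix.cons_val_zero, Matrix.cons_val_one, Matrix.cons_val]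
  rw [← h]
  rw [Finset.prod_insert, Finset.prod_insert, Finset.prod_insert, Finset.prod_singleton]
  · ring
  · simpa using hcd
  · simp [hbc, hbd]
  · simp [hab, hac, had]

section Cases

variable (la mu : Fin 4 → k)

theorem cABC_01 : cA (reo ![1, 0, 2, 3] la) (reo ![1, 0, 2, 3] mu) = -cA la mu ∧
    cB (reo ![1, 0, 2, 3] la) (reo ![1, 0, 2, 3] mu) = -cC la mu ∧
    cC (reo ![1, 0, 2, 3] la) (reo ![1, 0, 2, 3] mu) = -cB la mu := by
  simp only [cA, cB, cC, mn, reo]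
  refine ⟨?_, ?_, ?_⟩ <;> simp <;> ring

theorem cABC_12 : cA (reo ![0, 2, 1, 3] la) (reo ![0, 2, 1, 3] mu) = -cB la mu ∧
    cB (reo ![0, 2, 1, 3] la) (reo ![0, 2, 1, 3] mu) = -cA la mu ∧
    cC (reo ![0, 2, 1, 3] la) (reo ![0, 2, 1, 3] mu) = -cC la mu := by
  simp only [cA, cB, cC, mn, reo]
  refine ⟨?_, ?_, ?_⟩ <;> simp <;> ring

theorem cABC_02 : cA (reo ![2, 1, 0, 3] la) (reo ![2, 1, 0, 3] mu) = -cC la mu ∧
    cB (reo ![2, 1, 0, 3] la) (reo ![2, 1, 0, 3] mu) = -cB la mu ∧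
    cC (reo ![2, 1, 0, 3] la) (reo ![2, 1, 0, 3] mu) = -cA la mu := by
  simp only [cA, cB, cC, mn, reo]
  refine ⟨?_, ?_, ?_⟩ <;> simp <;> ring

theorem cABC_012 : cA (reo ![1, 2, 0, 3] la) (reo ![1, 2, 0, 3] mu) = cC la mu ∧
    cB (reo ![1, 2, 0, 3] la) (reo ![1, 2, 0, 3] mu) = cA la mu ∧
    cC (reo ![1, 2, 0, 3] la) (reo ![1, 2, 0, 3] mu) = cB la mu := by
  simp only [cA, cB, cC, mn, reo]
  refine ⟨?_, ?_, ?_⟩ <;> simp <;> ring

theorem cABC_021 : cA (reo ![2, 0, 1, 3] la) (reo ![2, 0, 1, 3] mu) = cB la mu ∧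
    cB (reo ![2, 0, 1, 3] la) (reo ![2, 0, 1, 3] mu) = cC la mu ∧
    cC (reo ![2, 0, 1, 3] la) (reo ![2, 0, 1, 3] mu) = cA la mu := by
  simp only [cA, cB, cC, mn, reo]
  refine ⟨?_, ?_, ?_⟩ <;> simp <;> ring

theorem disc_eq_cABC : disc la mu = (cA la mu * cB la mu * cC la mu) ^ 2 := by
  rw [disc_eq]
  simp only [cA, cB, cC, mn]
  ring

end Cases

/-- equivalence of the forms given a reordering with proportional invariants -/
theorem equiv_of_reo {la mu la' mu' : Fin 4 → k} (hd : disc la mu ≠ 0)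
    (a b c d : Fin 4) (h : ({a, b, c, d} : Finset (Fin 4)) = Finset.univ) (hab : a ≠ b)
    (hac : a ≠ c) (had : a ≠ d) (hbc : b ≠ c) (hbd : b ≠ d) (hcd : c ≠ d)
    (s : k) (hs : s ≠ 0)
    (hA : cA (reo ![a, b, c, d] la') (reo ![a, b, c, d] mu') = s * cA la mu)
    (hB : cB (reo ![a, b, c, d] la') (reo ![a, b, c, d] mu') = s * cB la mu)
    (hC : cC (reo ![a, b, c, d] la') (reo ![a, b, c, d] mu') = s * cC la mu) :
    ∃ (M : Matrix (Fin 2) (Fin 2) k) (c : k), IsUnit M.det ∧ c ≠ 0 ∧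
      binForm la' mu' = MvPolynomial.C c * subst M (binForm la mu) := by
  have hd'' : disc (reo ![a, b, c, d] la') (reo ![a, b, c, d] mu') ≠ 0 := by
    rw [disc_eq_cABC, hA, hB, hC]
    rw [disc_eq_cABC] at hd
    have : (s * cA la mu * (s * cB la mu) * (s * cC la mu)) ^ 2 =
        s ^ 6 * (cA la mu * cB la mu * cC la mu) ^ 2 := by ring
    rw [this]
    exact mul_ne_zero (pow_ne_zero _ hs) hd
  have hrel := rel_of_prop hd hd'' s hs hB hC
  obtain ⟨M, c', hM, hc', hf⟩ := equiv_of_rel hrel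
  rw [binForm_reo la' mu' a b c d h hab hac had hbc hbd hcd] at hf
  exact ⟨M, c', hM, hc', hf⟩

end Groth.Agent.H9.QRT
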