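import Mathlib
import Groth.Prelude.Def_W4c6intromoduliQuartic
import Groth.Agent.Lib.Helper9.Quartic
import Groth.Agent.Lib.Helper9.Misc.QRT3
import Groth.Agent.Lib.Helper9.Misc.QRT4

/-! Helper9: binary quartics with proportional invariants are equivalent (S19393 main theorem). -/

set_option linter.style.haveILetI false
set_option linter.unusedSectionVars false

namespace Groth.Agent.H9.QRT

open W4c6intromoduli Groth.Agent.H9.Quartic

universe u
variable {k : Type u} [Field k]

theorem reo_id (la : Fin 4 → k) : reo ![0, 1, 2, 3] la = la := by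
  funext i
  fin_cases i <;> rfl

theorem S19393_main
    (h2 : (2 : k) ≠ 0) (h3 : (3 : k) ≠ 0) (la mu la' mu' : Fin 4 → k)
    (hd : W4c6intromoduli.disc la mu ≠ 0) (hd' : W4c6intromoduli.disc la' mu' ≠ 0)
    (h : W4c6intromoduli.invI (W4c6intromoduli.coef la mu) ^ 3
          * W4c6intromoduli.invJ (W4c6intromoduli.coef la' mu') ^ 2 =
        W4c6intromoduli.invI (W4c6intromoduli.coef la' mu') ^ 3
          * W4c6intromoduli.invJ (W4c6intromoduli.coef la mu) ^ 2) :
    ∃ (M : Matrix (Fin 2) (Fin 2) k) (c : k), IsUnit M.det ∧ c ≠ 0 ∧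
      W4c6intromoduli.binForm la' mu' =
        MvPolynomial.C c * W4c6intromoduli.subst M (W4c6intromoduli.binForm la mu) := by
  have hI := two_mul_invI la mu
  have hI' := two_mul_invI la' mu'
  have hJ := invJ_eq la mu
  have hJ' := invJ_eq la' mu'
  have h0 := cA_add_cB_add_cC la mu
  have h0' := cA_add_cB_add_cC la' mu'
  have hne : cA la mu * cB la mu * cC la mu ≠ 0 := by
    intro hz
    apply hd
    rw [disc_eq_cABC, hz]; ring
  have hne' : cA la' mu' * cB la' mu' * cC la' mu' ≠ 0 := by
    intro hz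
    apply hd'
    rw [disc_eq_cABC, hz]; ring
  have c01 := cABC_01 la' mu'
  have c12 := cABC_12 la' mu'
  have c02 := cABC_02 la' mu'
  have c012 := cABC_012 la' mu'
  have c021 := cABC_021 la' mu'
  set A := cA la mu
  set B := cB la mu
  set C := cC la mu
  set A' := cA la' mu'
  set B' := cB la' mu'
  set C' := cC la' mu'
  set I := invI (coef la mu)
  set I' := invI (coef la' mu')
  set J := invJ (coef la mu)
  set J' := invJ (coef la' mu')
  have key : (A * B + B * C + C * A) ^ 3 * (A' * B' * C') ^ 2 =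
      (A' * B' + B' * C' + C' * A') ^ 3 * (A * B * C) ^ 2 := by
    have hC : C = -A - B := by linear_combination h0
    have hC' : C' = -A' - B' := by linear_combination h0'
    have h8 : (2 * I) ^ 3 * J' ^ 2 = (2 * I') ^ 3 * J ^ 2 := by
      linear_combination 8 * h
    rw [hI, hI', hJ, hJ'] at h8
    have h216 : (216 : k) ≠ 0 := by
      have : (216 : k) = 2 ^ 3 * 3 ^ 3 := by norm_num
      rw [this]
      exact mul_ne_zero (pow_ne_zero _ h2) (pow_ne_zero _ h3)
    have : (216 : k) * ((A * B + B * C + C * A) ^ 3 * (A' * B' * C') ^ 2 -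
      (A' * B' + B' * C' + C' * A') ^ 3 * (A * B * C) ^ 2) = 0 := by
      clear_value A B C A' B' C' I I' J J'
      subst hC hC'
      linear_combination h8
    rcases mul_eq_zero.1 this with h | h
    · exact absurd h h216
    · exact sub_eq_zero.1 h
  obtain ⟨s, hs, hcases⟩ := match_roots h0 h0' hne hne' key
  rcases hcases with ⟨hA, hB, hC⟩ | ⟨hA, hB, hC⟩ | ⟨hA, hB, hC⟩ | ⟨hA, hB, hC⟩ | ⟨hA, hB, hC⟩ |
    ⟨hA, hB, hC⟩
  · -- (A,B,C)
    refine equiv_of_reo hd 0 1 2 3 (by decide) (by decide) (by decide) (by decide) (by decide)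
      (by decide) (by decide) s hs ?_ ?_ ?_
    · rw [reo_id, reo_id]; exact hA
    · rw [reo_id, reo_id]; exact hB
    · rw [reo_id, reo_id]; exact hC
  · -- (A' , B', C') = s (A, C, B): use reo 01 on primed: (-A', -C', -B') = -s (A, B, C)
    refine equiv_of_reo hd 1 0 2 3 (by decide) (by decide) (by decide) (by decide) (by decide)
      (by decide) (by decide) (-s) (neg_ne_zero.2 hs) ?_ ?_ ?_
    · rw [c01.1, hA]; ring
    · rw [c01.2.1, hC]; ring
    · rw [c01.2.2, hB]; ring
  · -- (A', B', C') = s (B, A, C): reo 12: (-B', -A', -C') = -s (A, B, C)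
    refine equiv_of_reo hd 0 2 1 3 (by decide) (by decide) (by decide) (by decide) (by decide)
      (by decide) (by decide) (-s) (neg_ne_zero.2 hs) ?_ ?_ ?_
    · rw [c12.1, hB]; ring
    · rw [c12.2.1, hA]; ring
    · rw [c12.2.2, hC]; ring
  · -- (A', B', C') = s (B, C, A): want perm with (C', A', B') → reo 012
    refine equiv_of_reo hd 1 2 0 3 (by decide) (by decide) (by decide) (by decide) (by decide)
      (by decide) (by decide) s hs ?_ ?_ ?_
    · rw [c012.1, hC]
    · rw [c012.2.1, hA]
    · rw [c012.2.2, hB]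
  · -- (A', B', C') = s (C, A, B): want (B', C', A') → reo 021
    refine equiv_of_reo hd 2 0 1 3 (by decide) (by decide) (by decide) (by decide) (by decide)
      (by decide) (by decide) s hs ?_ ?_ ?_
    · rw [c021.1, hB]
    · rw [c021.2.1, hC]
    · rw [c021.2.2, hA]
  · -- (A', B', C') = s (C, B, A): reo 02: (-C', -B', -A') = -s (A, B, C)
    refine equiv_of_reo hd 2 1 0 3 (by decide) (by decide) (by decide) (by decide) (by decide)
      (by decide) (by decide) (-s) (neg_ne_zero.2 hs) ?_ ?_ ?_
    · rw [c02.1, hC]; ring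
    · rw [c02.2.1, hB]; ring
    · rw [c02.2.2, hA]; ring

end Groth.Agent.H9.QRT
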