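import Mathlib

namespace Groth.Agent.H9.QSymLim

open Finsupp

theorem decomp {n : ℕ} (e : Fin n →₀ ℕ) :
    ∃ (ℓ : ℕ) (s : Fin ℓ ↪o Fin n) (a : Fin ℓ → ℕ), (∀ t, 0 < a t) ∧
      e = ∑ t : Fin ℓ, Finsupp.single (s t) (a t) := by
  classical
  refine ⟨e.support.card, e.support.orderEmbOfFin rfl,
    fun t => e (e.support.orderEmbOfFin rfl t), ?_, ?_⟩
  · intro t
    have := Finset.orderEmbOfFin_mem e.support rfl t
    exact Nat.pos_of_ne_zero (Finsupp.mem_support_iff.mp this)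
  · calc e = ∑ x ∈ e.support, Finsupp.single x (e x) := (Finsupp.sum_single e).symm
      _ = ∑ x ∈ (Finset.univ.map (e.support.orderEmbOfFin rfl).toEmbedding),
            Finsupp.single x (e x) := by
          rw [Finset.map_orderEmbOfFin_univ]
      _ = _ := by rw [Finset.sum_map]; rfl

theorem mapDomain_sum_single {α β : Type*} (g : α → β) {ℓ : ℕ} (s : Fin ℓ → α) (a : Fin ℓ → ℕ) :
    Finsupp.mapDomain g (∑ t, Finsupp.single (s t) (a t)) =
      ∑ t, Finsupp.single (g (s t)) (a t) := by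
  have := map_sum (Finsupp.mapDomain.addMonoidHom (M := ℕ) g)
    (fun t => Finsupp.single (s t) (a t)) Finset.univ
  simp only [Finsupp.mapDomain.addMonoidHom_apply, Finsupp.mapDomain_single] at this
  exact this

theorem partA (F : MvPowerSeries ℕ ℤ)
    (hF : ∀ (ℓ : ℕ) (i j : Fin ℓ → ℕ) (a : Fin ℓ → ℕ), StrictMono i → StrictMono j →
        (∀ t, 0 < a t) →
        MvPowerSeries.coeff (∑ t : Fin ℓ, Finsupp.single (i t) (a t)) F =
          MvPowerSeries.coeff (∑ t : Fin ℓ, Finsupp.single (j t) (a t)) F)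
    (n m : ℕ) (φ : Fin n ↪o Fin m) (e : Fin n →₀ ℕ) :
    MvPowerSeries.coeff (Finsupp.mapDomain Fin.val e) F =
      MvPowerSeries.coeff (Finsupp.mapDomain Fin.val (Finsupp.mapDomain φ e)) F := by
  obtain ⟨ℓ, s, a, ha, rfl⟩ := decomp e
  rw [mapDomain_sum_single, mapDomain_sum_single, mapDomain_sum_single]
  refine hF ℓ (fun t => (s t).val) (fun t => (φ (s t)).val) a ?_ ?_ ha
  · intro x y h
    exact Fin.lt_def.mp (s.strictMono h)
  · intro x y h
    exact Fin.lt_def.mp (φ.strictMono (s.strictMono h))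

def N (E : ℕ →₀ ℕ) : ℕ := E.support.sup id + 1

theorem lt_N {E : ℕ →₀ ℕ} {x : ℕ} (hx : x ∈ E.support) : x < N E :=
  Nat.lt_succ_of_le (Finset.le_sup (f := id) hx)

noncomputable def pull (n : ℕ) (E : ℕ →₀ ℕ) : Fin n →₀ ℕ :=
  E.comapDomain Fin.val Fin.val_injective.injOn

theorem map_pull {n : ℕ} {E : ℕ →₀ ℕ} (h : ∀ x ∈ E.support, x < n) :
    Finsupp.mapDomain Fin.val (pull n E) = E := by
  apply Finsupp.mapDomain_comapDomain _ Fin.val_injective
  intro x hx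
  exact ⟨⟨x, h x hx⟩, rfl⟩

noncomputable def mkF (f : (n : ℕ) → MvPolynomial (Fin n) ℤ) : MvPowerSeries ℕ ℤ :=
  fun E => MvPolynomial.coeff (pull (N E) E) (f (N E))

theorem coeff_mkF (f : (n : ℕ) → MvPolynomial (Fin n) ℤ) (E : ℕ →₀ ℕ) :
    MvPowerSeries.coeff E (mkF f) = MvPolynomial.coeff (pull (N E) E) (f (N E)) := rfl

theorem val_comp_castLE {n m : ℕ} (h : n ≤ m) :
    (Fin.val ∘ (Fin.castLEOrderEmb h : Fin n → Fin m)) = Fin.val := by
  funext i; rfl

theorem mkF_restrict (f : (n : ℕ) → MvPolynomial (Fin n) ℤ)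
    (hc : ∀ (n m : ℕ) (φ : Fin n ↪o Fin m) (e : Fin n →₀ ℕ),
        MvPolynomial.coeff e (f n) = MvPolynomial.coeff (Finsupp.mapDomain φ e) (f m))
    (n : ℕ) (e : Fin n →₀ ℕ) :
    MvPowerSeries.coeff (Finsupp.mapDomain Fin.val e) (mkF f) = MvPolynomial.coeff e (f n) := by
  set E := Finsupp.mapDomain Fin.val e with hE
  rw [coeff_mkF]
  have h1 := hc n (max n (N E)) (Fin.castLEOrderEmb (le_max_left _ _)) e
  have h2 := hc (N E) (max n (N E)) (Fin.castLEOrderEmb (le_max_right _ _)) (pull (N E) E)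
  rw [h1, h2]
  congr 1
  apply Finsupp.mapDomain_injective Fin.val_injective
  rw [← Finsupp.mapDomain_comp, ← Finsupp.mapDomain_comp, val_comp_castLE, val_comp_castLE,
    map_pull (fun x hx => lt_N hx)]

theorem mkF_sum_single (f : (n : ℕ) → MvPolynomial (Fin n) ℤ)
    (hc : ∀ (n m : ℕ) (φ : Fin n ↪o Fin m) (e : Fin n →₀ ℕ),
        MvPolynomial.coeff e (f n) = MvPolynomial.coeff (Finsupp.mapDomain φ e) (f m))
    {ℓ : ℕ} (i : Fin ℓ → ℕ) (hi : StrictMono i) (a : Fin ℓ → ℕ) :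
    MvPowerSeries.coeff (∑ t : Fin ℓ, Finsupp.single (i t) (a t)) (mkF f) =
      MvPolynomial.coeff (∑ t : Fin ℓ, Finsupp.single t (a t)) (f ℓ) := by
  have hlt : ∀ t, i t < Finset.univ.sup i + 1 := fun t =>
    Nat.lt_succ_of_le (Finset.le_sup (f := i) (Finset.mem_univ t))
  let i' : Fin ℓ → Fin (Finset.univ.sup i + 1) := fun t => ⟨i t, hlt t⟩
  have hi' : StrictMono i' := fun x y h => Fin.mk_lt_mk.mpr (hi h)
  let φ : Fin ℓ ↪o Fin (Finset.univ.sup i + 1) := OrderEmbedding.ofStrictMono i' hi'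
  have h1 : (∑ t : Fin ℓ, Finsupp.single (i t) (a t)) =
      Finsupp.mapDomain Fin.val (Finsupp.mapDomain φ (∑ t : Fin ℓ, Finsupp.single t (a t))) := by
    rw [mapDomain_sum_single, mapDomain_sum_single]
    rfl
  rw [h1, mkF_restrict f hc, ← hc]

theorem partB (d : ℕ) (f : (n : ℕ) → MvPolynomial (Fin n) ℤ)
    (hf : ∀ n, (f n).IsHomogeneous d)
    (hc : ∀ (n m : ℕ) (φ : Fin n ↪o Fin m) (e : Fin n →₀ ℕ),
        MvPolynomial.coeff e (f n) = MvPolynomial.coeff (Finsupp.mapDomain φ e) (f m)) :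
    ∃! F : MvPowerSeries ℕ ℤ,
        (∀ (ℓ : ℕ) (i j : Fin ℓ → ℕ) (a : Fin ℓ → ℕ), StrictMono i → StrictMono j →
          (∀ t, 0 < a t) →
          MvPowerSeries.coeff (∑ t : Fin ℓ, Finsupp.single (i t) (a t)) F =
            MvPowerSeries.coeff (∑ t : Fin ℓ, Finsupp.single (j t) (a t)) F) ∧
        (∀ e : ℕ →₀ ℕ, MvPowerSeries.coeff e F ≠ 0 → e.degree = d) ∧
        (∀ (n : ℕ) (e : Fin n →₀ ℕ),
          MvPowerSeries.coeff (Finsupp.mapDomain Fin.val e) F = MvPolynomial.coeff e (f n)) := by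
  refine ⟨mkF f, ⟨?_, ?_, ?_⟩, ?_⟩
  · intro ℓ i j a hi hj _
    rw [mkF_sum_single f hc i hi, mkF_sum_single f hc j hj]
  · intro e he
    by_contra hne
    apply he
    rw [coeff_mkF]
    apply (hf (N e)).coeff_eq_zero
    rw [← Finsupp.degree_mapDomain Fin.val, map_pull (fun x hx => lt_N hx)]
    exact hne
  · exact mkF_restrict f hc
  · rintro F' ⟨_, _, h3⟩
    ext E
    rw [coeff_mkF, ← h3, map_pull (fun x hx => lt_N hx)]

end Groth.Agent.H9.QSymLim
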