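import Mathlib
import Groth.Prelude.Def_AlgGrp
import Groth.Agent.Lib.Helper9.Misc.QUO1
import Groth.Agent.H4.SmRed2

/-! Helper9: S11090 — factorization of a homomorphism through a separable isogeny (kernel containment on k-points, k alg. closed). -/

set_option linter.style.haveILetI false
set_option linter.unusedSectionVars false

namespace Groth.Agent.H9.QUO

universe u

open CategoryTheory CategoryTheory.Limits AlgebraicGeometry MonoidalCategory
  CartesianMonoidalCategory MonObj

variable {k : Type u} [Field k] [IsAlgClosed k]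

/-- Over an algebraically closed field, a homomorphism which is trivial on the `k`-points of the
kernel of an étale homomorphism is trivial on the kernel. -/
theorem trivial_on_kernel_of_points {E E' E'' N : Over (Spec (CommRingCat.of k))}
    [GrpObj E] [GrpObj E'] [GrpObj E''] [IsSeparated E''.hom] [LocallyOfFiniteType E''.hom]
    (φ : E ⟶ E') [Etale φ.left] (ψ : E ⟶ E'') (i : N ⟶ E) (hK : AlgGrp.IsKernel i φ)
    (hker : ∀ P : 𝟙_ (Over (Spec (CommRingCat.of k))) ⟶ E, P ≫ φ = η[E'] → P ≫ ψ = η[E'']) :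
    i ≫ ψ = toUnit N ≫ η[E''] := by
  have hpb : IsPullback i.left (toUnit N).left φ.left η[E'].left := hK.map (Over.forget _)
  have het : Etale (toUnit N).left := MorphismProperty.of_isPullback (P := @Etale) hpb inferInstance
  have hNhom : N.hom = (toUnit N).left := by
    have := Over.w (toUnit N)
    rw [← this]
    exact (Category.comp_id _).symm
  have het' : Etale N.hom := by rw [hNhom]; exact het
  have hred : IsReduced N.left := Groth.Agent.H4.SmRed.isReduced_of_smooth_scheme N.hom
  ext : 1
  have : LocallyOfFiniteType ((i ≫ ψ).left ≫ E''.hom) := by rw [Over.w]; infer_instance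
  refine ext_of_apply_eq (K := k) E''.hom Set.univ isOpen_univ.isLocallyClosed dense_univ ?_ ?_
  · intro x _ hx
    let Px : Spec (CommRingCat.of k) ⟶ N.left := pointOfClosedPoint N.hom x hx
    have hPx : Px ≫ N.hom = 𝟙 _ := pointOfClosedPoint_comp N.hom x hx
    let P' : 𝟙_ (Over (Spec (CommRingCat.of k))) ⟶ N := Over.homMk Px (by
      rw [hPx]; rfl)
    have h1 : (P' ≫ i) ≫ φ = η[E'] := by
      rw [Category.assoc, hK.w, ← Category.assoc, toUnit_unique (P' ≫ toUnit N) (𝟙 _),
        Category.id_comp]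
    have h2 := hker (P' ≫ i) h1
    have hx' : Px (IsLocalRing.closedPoint k) = x := pointOfClosedPoint_apply N.hom x hx _
    have h3 : (i ≫ ψ).left x = η[E''].left (IsLocalRing.closedPoint k) := by
      rw [← hx']
      change (P'.left ≫ (i ≫ ψ).left) _ = _
      rw [← Over.comp_left, ← Category.assoc, h2]
    rw [h3, Over.comp_left, Scheme.Hom.comp_apply]
    congr 1
    exact @Subsingleton.elim (PrimeSpectrum k) _ _ _
  · rw [Over.w, Over.w]

theorem S11090_main
    (E E' E'' : Over (Spec (CommRingCat.of k)))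
    [GrpObj E] [GrpObj E'] [GrpObj E''] [IsProper E''.hom]
    (φ : E ⟶ E') [IsMonHom φ] [IsFinite φ.left] [Surjective φ.left] [Etale φ.left]
    (ψ : E ⟶ E'') [IsMonHom ψ]
    (hker : ∀ P : 𝟙_ (Over (Spec (CommRingCat.of k))) ⟶ E, P ≫ φ = η[E'] → P ≫ ψ = η[E'']) :
    ∃! ρ : E' ⟶ E'', IsMonHom ρ ∧ φ ≫ ρ = ψ := by
  let N := pullback φ η[E']
  let i : N ⟶ E := pullback.fst φ η[E']
  have hK : AlgGrp.IsKernel i φ := by
    have h := IsPullback.of_hasPullback φ η[E']
    have e : pullback.snd φ η[E'] = toUnit N := toUnit_unique _ _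
    rw [e] at h
    exact h
  have htriv := trivial_on_kernel_of_points φ ψ i hK hker
  obtain ⟨ρ, hρ1, hρ2, hρ3⟩ := exists_desc_of_kernel φ i hK ψ htriv
  exact ⟨ρ, ⟨hρ1, hρ2⟩, fun ρ' h' => hρ3 ρ' h'.2⟩

end Groth.Agent.H9.QUO
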