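import Mathlib

/-! Helper9: qcqs induction principle (S12417) -/

namespace Groth.Agent.H9.QcqsInd

open AlgebraicGeometry CategoryTheory TopologicalSpace

universe u

theorem fin_cover {X : Scheme.{u}} (U : X.Opens) (hU : IsCompact (U : Set X)) (Q : X.Opens → Prop)
    (h : ∀ x ∈ U, ∃ O : X.Opens, Q O ∧ x ∈ O ∧ O ≤ U) :
    ∃ (n : ℕ) (V : Fin n → X.Opens), (∀ i, Q (V i)) ∧ ⨆ i, V i = U := by
  classical
  have h' : ∀ x : U, ∃ O : X.Opens, Q O ∧ x.1 ∈ O ∧ O ≤ U := fun x => h x.1 x.2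
  choose O hO1 hO2 hO3 using h'
  obtain ⟨t, ht⟩ := hU.elim_finite_subcover (fun x : U => (O x : Set X)) (fun x => (O x).2)
    (fun x hx => Set.mem_iUnion.mpr ⟨⟨x, hx⟩, hO2 ⟨x, hx⟩⟩)
  let n := t.card
  let e : Fin n ≃ t := t.equivFin.symm
  refine ⟨n, fun i => O (e i).1, fun i => hO1 _, ?_⟩
  apply le_antisymm
  · exact iSup_le fun i => hO3 _
  · intro x hx
    have := ht hx
    simp only [Set.mem_iUnion] at this
    obtain ⟨y, hy, hxy⟩ := this
    rw [Opens.mem_iSup]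
    refine ⟨e.symm ⟨y, hy⟩, ?_⟩
    show x ∈ O (e (e.symm ⟨y, hy⟩)).1
    rw [e.apply_symm_apply]; exact hxy

theorem main (X : Scheme.{u}) [CompactSpace X] [QuasiSeparatedSpace X]
    (P : X.Opens → Prop) (ha : ∀ U : X.Opens, IsAffineOpen U → P U)
    (hb : ∀ (U : X.Opens) (n : ℕ) (V : Fin n → X.Opens), IsCompact (U : Set X) →
      (∀ i, IsAffineOpen (V i)) → ⨆ i, V i = U → (∀ i j, P (V i ⊓ V j)) → P U)
    (U : X.Opens) (hU : IsCompact (U : Set X)) : P U := by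
  -- Step 1: qc opens inside an affine open
  have step1 : ∀ (W : X.Opens), IsAffineOpen W → ∀ U : X.Opens, U ≤ W → IsCompact (U : Set X) →
      P U := by
    intro W hW U hUW hU
    obtain ⟨n, V, hV, hVU⟩ := fin_cover U hU (fun O => ∃ f : Γ(X, W), O = X.basicOpen f) (by
      intro x hx
      obtain ⟨f, hf1, hf2⟩ := hW.exists_basicOpen_le (V := U) ⟨x, hx⟩ (hUW hx)
      exact ⟨X.basicOpen f, ⟨f, rfl⟩, hf2, hf1⟩)
    choose f hf using hV
    refine hb U n V hU (fun i => ?_) hVU (fun i j => ?_)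
    · rw [hf i]; exact hW.basicOpen _
    · rw [hf i, hf j, ← Scheme.basicOpen_mul]
      exact ha _ (hW.basicOpen _)
  -- Step 2
  obtain ⟨n, V, hV, hVU⟩ := fin_cover U hU (fun O => IsAffineOpen O) (by
    intro x hx
    obtain ⟨O, hO, hxO, hOU⟩ := exists_isAffineOpen_mem_and_subset (x := x) (U := U) hx
    exact ⟨O, hO, hxO, hOU⟩)
  refine hb U n V hU hV hVU (fun i j => ?_)
  apply step1 (V i) (hV i) _ inf_le_left
  exact QuasiSeparatedSpace.inter_isCompact _ _ (V i).2 (hV i).isCompact (V j).2 (hV j).isCompact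

end Groth.Agent.H9.QcqsInd
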