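import Mathlib
import Groth.Prelude.Def_QuadGrp

set_option autoImplicit false
set_option linter.unusedSectionVars false
set_option linter.unusedVariables false

namespace Groth.Agent.H9.Qg

universe u
open CliffordAlgebra

variable (k : Type u) [Field k]

noncomputable abbrev Qs : QuadraticForm k (Fin 3 → k) := QuadGrp.splitForm k 3

theorem Qs_apply (x : Fin 3 → k) : Qs k x = x 1 * x 2 + x 0 * x 0 := by
  have h : ∀ f : Fin (3 / 2) → k, ∑ i, f i = f ⟨0, by norm_num⟩ := fun f => Fin.sum_univ_one f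
  simp only [Qs, QuadGrp.splitForm, add_apply, sum_apply, h]
  simp

theorem polar_apply (x y : Fin 3 → k) :
    QuadraticMap.polar (Qs k) x y = x 1 * y 2 + y 1 * x 2 + 2 * (x 0 * y 0) := by
  simp only [QuadraticMap.polar, Qs_apply, Pi.add_apply]
  ring

/-! ### a matrix representation -/

noncomputable def fM : (Fin 3 → k) →ₗ[k] Matrix (Fin 2) (Fin 2) k where
  toFun x := !![x 0, x 1; x 2, -x 0]
  map_add' x y := by
    ext i j; fin_cases i <;> fin_cases j <;> simp [add_comm]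
  map_smul' c x := by
    ext i j; fin_cases i <;> fin_cases j <;> simp

theorem fM_sq (x : Fin 3 → k) : fM k x * fM k x = algebraMap k _ (Qs k x) := by
  rw [Qs_apply]
  ext i j
  fin_cases i <;> fin_cases j <;>
    simp [fM, Matrix.mul_apply, Fin.sum_univ_two, Matrix.algebraMap_matrix_apply] <;> ring

noncomputable def rho : CliffordAlgebra (Qs k) →ₐ[k] Matrix (Fin 2) (Fin 2) k :=
  CliffordAlgebra.lift (Qs k) ⟨fM k, fM_sq k⟩

theorem rho_ι (x : Fin 3 → k) : rho k (ι (Qs k) x) = fM k x :=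
  CliffordAlgebra.lift_ι_apply _ _ x

instance : Nontrivial (CliffordAlgebra (Qs k)) := (rho k).toRingHom.domain_nontrivial

/-! ### generators -/

noncomputable def E (i : Fin 3) : CliffordAlgebra (Qs k) := ι (Qs k) (Pi.single i 1)

noncomputable def W : CliffordAlgebra (Qs k) := E k 0 * E k 1 * E k 2

theorem iota_eq_sum (a : Fin 3 → k) : ι (Qs k) a = ∑ i, a i • E k i := by
  have h : a = ∑ i, a i • (Pi.single i (1:k) : Fin 3 → k) := by
    ext j
    simp [Finset.sum_apply, Pi.single_apply]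
  conv_lhs => rw [h]
  rw [map_sum]
  simp only [map_smul, E]

theorem b21 : QuadraticMap.polar (Qs k) (Pi.single 2 1) (Pi.single 1 1) = 1 := by
  simp [polar_apply]

theorem b20 : QuadraticMap.polar (Qs k) (Pi.single 2 1) (Pi.single 0 1) = 0 := by
  simp [polar_apply]

theorem b10 : QuadraticMap.polar (Qs k) (Pi.single 1 1) (Pi.single 0 1) = 0 := by
  simp [polar_apply]

/-! ### general identities -/

theorem swap12 (a b c : Fin 3 → k) :
    ι (Qs k) a * ι (Qs k) b * ι (Qs k) c =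
      algebraMap k _ (QuadraticMap.polar (Qs k) a b) * ι (Qs k) c -
        ι (Qs k) b * ι (Qs k) a * ι (Qs k) c := by
  rw [ι_mul_ι_comm a b, sub_mul]

theorem swap23 (a b c : Fin 3 → k) :
    ι (Qs k) a * ι (Qs k) b * ι (Qs k) c =
      algebraMap k _ (QuadraticMap.polar (Qs k) b c) * ι (Qs k) a -
        ι (Qs k) a * ι (Qs k) c * ι (Qs k) b := by
  rw [mul_assoc, ι_mul_ι_comm b c, mul_sub, ← Algebra.commutes, ← mul_assoc]

theorem aba (a b : Fin 3 → k) :
    ι (Qs k) a * ι (Qs k) b * ι (Qs k) a =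
      ι (Qs k) (QuadraticMap.polar (Qs k) b a • a - Qs k a • b) := by
  rw [swap23, ι_sq_scalar, map_sub, map_smul, map_smul, Algebra.smul_def, Algebra.smul_def]

/-! ### the odd span -/

noncomputable abbrev Sp : Submodule k (CliffordAlgebra (Qs k)) :=
  LinearMap.range (ι (Qs k)) ⊔ Submodule.span k {W k}

theorem iota_mem_Sp (a : Fin 3 → k) : ι (Qs k) a ∈ Sp k :=
  Submodule.mem_sup_left ⟨a, rfl⟩

theorem W_mem_Sp : W k ∈ Sp k :=
  Submodule.mem_sup_right (Submodule.subset_span rfl)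

theorem algebraMap_mul_iota_mem_Sp (r : k) (a : Fin 3 → k) :
    algebraMap k _ r * ι (Qs k) a ∈ Sp k := by
  rw [← Algebra.smul_def]
  exact (Sp k).smul_mem r (iota_mem_Sp k a)

theorem p021 : E k 0 * E k 2 * E k 1 ∈ Sp k := by
  unfold E
  rw [swap23]
  exact sub_mem (algebraMap_mul_iota_mem_Sp k _ _) (W_mem_Sp k)

theorem p102 : E k 1 * E k 0 * E k 2 ∈ Sp k := by
  unfold E
  rw [swap12]
  exact sub_mem (algebraMap_mul_iota_mem_Sp k _ _) (W_mem_Sp k)

theorem p120 : E k 1 * E k 2 * E k 0 ∈ Sp k := by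
  have h := p102 k
  unfold E at h ⊢
  rw [swap23]
  exact sub_mem (algebraMap_mul_iota_mem_Sp k _ _) h

theorem p201 : E k 2 * E k 0 * E k 1 ∈ Sp k := by
  have h := p021 k
  unfold E at h ⊢
  rw [swap12]
  exact sub_mem (algebraMap_mul_iota_mem_Sp k _ _) h

theorem p210 : E k 2 * E k 1 * E k 0 ∈ Sp k := by
  have h := p120 k
  unfold E at h ⊢
  rw [swap12]
  exact sub_mem (algebraMap_mul_iota_mem_Sp k _ _) h

theorem tri_basis (i j l : Fin 3) : E k i * E k j * E k l ∈ Sp k := by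
  by_cases hij : i = j
  · subst hij
    unfold E
    rw [ι_sq_scalar]
    exact algebraMap_mul_iota_mem_Sp k _ _
  by_cases hjl : j = l
  · subst hjl
    unfold E
    rw [mul_assoc, ι_sq_scalar, ← Algebra.commutes]
    exact algebraMap_mul_iota_mem_Sp k _ _
  by_cases hil : i = l
  · subst hil
    unfold E
    rw [aba]
    exact iota_mem_Sp k _
  have hperm : (i = 0 ∧ j = 1 ∧ l = 2) ∨ (i = 0 ∧ j = 2 ∧ l = 1) ∨ (i = 1 ∧ j = 0 ∧ l = 2) ∨
      (i = 1 ∧ j = 2 ∧ l = 0) ∨ (i = 2 ∧ j = 0 ∧ l = 1) ∨ (i = 2 ∧ j = 1 ∧ l = 0) := by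
    revert i j l
    decide
  rcases hperm with ⟨rfl, rfl, rfl⟩ | ⟨rfl, rfl, rfl⟩ | ⟨rfl, rfl, rfl⟩ | ⟨rfl, rfl, rfl⟩ |
    ⟨rfl, rfl, rfl⟩ | ⟨rfl, rfl, rfl⟩
  · exact W_mem_Sp k
  · exact p021 k
  · exact p102 k
  · exact p120 k
  · exact p201 k
  · exact p210 k

theorem lin_left (S : Submodule k (CliffordAlgebra (Qs k))) (y : CliffordAlgebra (Qs k))
    (h : ∀ i, E k i * y ∈ S) (a : Fin 3 → k) : ι (Qs k) a * y ∈ S := by
  rw [iota_eq_sum k a, Finset.sum_mul]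
  refine Submodule.sum_mem _ (fun i _ => ?_)
  rw [smul_mul_assoc]
  exact S.smul_mem _ (h i)

theorem lin_right (S : Submodule k (CliffordAlgebra (Qs k))) (x : CliffordAlgebra (Qs k))
    (h : ∀ i, x * E k i ∈ S) (a : Fin 3 → k) : x * ι (Qs k) a ∈ S := by
  rw [iota_eq_sum k a, Finset.mul_sum]
  refine Submodule.sum_mem _ (fun i _ => ?_)
  rw [mul_smul_comm]
  exact S.smul_mem _ (h i)

theorem lin_mid (S : Submodule k (CliffordAlgebra (Qs k))) (x z : CliffordAlgebra (Qs k))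
    (h : ∀ i, x * E k i * z ∈ S) (a : Fin 3 → k) : x * ι (Qs k) a * z ∈ S := by
  rw [iota_eq_sum k a, Finset.mul_sum, Finset.sum_mul]
  refine Submodule.sum_mem _ (fun i _ => ?_)
  rw [mul_smul_comm, smul_mul_assoc]
  exact S.smul_mem _ (h i)

theorem tri (a b c : Fin 3 → k) : ι (Qs k) a * ι (Qs k) b * ι (Qs k) c ∈ Sp k := by
  refine lin_right k _ _ (fun l => ?_) c
  refine lin_mid k _ _ _ (fun j => ?_) b
  rw [mul_assoc]
  refine lin_left k _ _ (fun i => ?_) a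
  rw [← mul_assoc]
  exact tri_basis k i j l

/-! ### the even span -/

noncomputable abbrev Ev : Submodule k (CliffordAlgebra (Qs k)) :=
  Submodule.span k ({1} ∪ {x | ∃ a b : Fin 3 → k, x = ι (Qs k) a * ι (Qs k) b})

theorem one_mem_Ev : (1 : CliffordAlgebra (Qs k)) ∈ Ev k := Submodule.subset_span (Or.inl rfl)

theorem mul_mem_Ev (a b : Fin 3 → k) : ι (Qs k) a * ι (Qs k) b ∈ Ev k :=
  Submodule.subset_span (Or.inr ⟨a, b, rfl⟩)

theorem algebraMap_mul_mem_Ev (r : k) {x : CliffordAlgebra (Qs k)} (hx : x ∈ Ev k) :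
    algebraMap k _ r * x ∈ Ev k := by
  rw [← Algebra.smul_def]
  exact (Ev k).smul_mem r hx

theorem Ev_le : Ev k ≤ evenOdd (Qs k) 0 := by
  refine Submodule.span_le.mpr ?_
  rintro x (rfl | ⟨a, b, rfl⟩)
  · exact SetLike.one_mem_graded _
  · exact ι_mul_ι_mem_evenOdd_zero _ a b

theorem L1 (a b c : Fin 3 → k) :
    ι (Qs k) a * (ι (Qs k) a * ι (Qs k) b * ι (Qs k) c) ∈ Ev k := by
  rw [mul_assoc, ← mul_assoc, ι_sq_scalar]
  exact algebraMap_mul_mem_Ev k _ (mul_mem_Ev k b c)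

theorem L2 (a b c : Fin 3 → k) :
    ι (Qs k) b * (ι (Qs k) a * ι (Qs k) b * ι (Qs k) c) ∈ Ev k := by
  rw [← mul_assoc, ← mul_assoc, aba]
  exact mul_mem_Ev k _ c

theorem L3 (a b c : Fin 3 → k) :
    ι (Qs k) c * (ι (Qs k) a * ι (Qs k) b * ι (Qs k) c) ∈ Ev k := by
  have h : ι (Qs k) c * (ι (Qs k) a * ι (Qs k) b * ι (Qs k) c) =
      algebraMap k _ (QuadraticMap.polar (Qs k) b c) * (ι (Qs k) c * ι (Qs k) a) -
        ι (Qs k) c * ι (Qs k) a * ι (Qs k) c * ι (Qs k) b := by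
    rw [mul_assoc (ι (Qs k) a), ι_mul_ι_comm b c, mul_sub, mul_sub, Algebra.commutes]
    simp only [mul_assoc]
  rw [h, aba]
  exact sub_mem (algebraMap_mul_mem_Ev k _ (mul_mem_Ev k c a)) (mul_mem_Ev k _ b)

theorem E_mul_W_mem (i : Fin 3) : E k i * W k ∈ Ev k := by
  unfold W E
  fin_cases i
  · exact L1 k _ _ _
  · exact L2 k _ _ _
  · exact L3 k _ _ _

theorem iota_mul_W_mem (m : Fin 3 → k) : ι (Qs k) m * W k ∈ Ev k :=
  lin_left k _ _ (E_mul_W_mem k) m

theorem iota_mul_Ev_mem_Sp (m : Fin 3 → k) {y : CliffordAlgebra (Qs k)} (hy : y ∈ Ev k) :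
    ι (Qs k) m * y ∈ Sp k := by
  induction hy using Submodule.span_induction with
  | mem x hx =>
    rcases hx with rfl | ⟨a, b, rfl⟩
    · rw [mul_one]; exact iota_mem_Sp k m
    · rw [← mul_assoc]; exact tri k m a b
  | zero => rw [mul_zero]; exact (Sp k).zero_mem
  | add x y _ _ hx hy => rw [mul_add]; exact add_mem hx hy
  | smul c x _ hx => rw [mul_smul_comm]; exact (Sp k).smul_mem c hx

theorem mem_Sp_iff (x : CliffordAlgebra (Qs k)) :
    x ∈ Sp k ↔ ∃ (a : Fin 3 → k) (c : k), x = ι (Qs k) a + c • W k := by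
  constructor
  · intro hx
    obtain ⟨y, ⟨a, rfl⟩, z, hz, rfl⟩ := Submodule.mem_sup.mp hx
    obtain ⟨c, rfl⟩ := Submodule.mem_span_singleton.mp hz
    exact ⟨a, c, rfl⟩
  · rintro ⟨a, c, rfl⟩
    exact add_mem (iota_mem_Sp k a) ((Sp k).smul_mem c (W_mem_Sp k))

theorem step_Ev (m₁ m₂ : Fin 3 → k) {x : CliffordAlgebra (Qs k)} (hx : x ∈ Ev k) :
    ι (Qs k) m₁ * ι (Qs k) m₂ * x ∈ Ev k := by
  induction hx using Submodule.span_induction with
  | mem x hx =>
    rcases hx with rfl | ⟨a, b, rfl⟩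
    · rw [mul_one]; exact mul_mem_Ev k m₁ m₂
    · obtain ⟨m', c, h⟩ := (mem_Sp_iff k _).mp (tri k m₂ a b)
      rw [mul_assoc, ← mul_assoc (ι (Qs k) m₂), h, mul_add, mul_smul_comm]
      exact add_mem (mul_mem_Ev k m₁ m') ((Ev k).smul_mem c (iota_mul_W_mem k m₁))
  | zero => rw [mul_zero]; exact (Ev k).zero_mem
  | add x y _ _ hx hy => rw [mul_add]; exact add_mem hx hy
  | smul c x _ hx => rw [mul_smul_comm]; exact (Ev k).smul_mem c hx

theorem step_Sp (m₁ m₂ : Fin 3 → k) {x : CliffordAlgebra (Qs k)} (hx : x ∈ Sp k) :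
    ι (Qs k) m₁ * ι (Qs k) m₂ * x ∈ Sp k := by
  obtain ⟨a, c, rfl⟩ := (mem_Sp_iff k _).mp hx
  rw [mul_add, mul_smul_comm]
  refine add_mem (tri k m₁ m₂ a) ((Sp k).smul_mem c ?_)
  rw [mul_assoc]
  exact iota_mul_Ev_mem_Sp k m₁ (iota_mul_W_mem k m₂)

theorem even_mem_Ev {x : CliffordAlgebra (Qs k)} (hx : x ∈ evenOdd (Qs k) 0) : x ∈ Ev k := by
  refine even_induction (Qs k) (motive := fun x _ => x ∈ Ev k) ?_ ?_ ?_ x hx
  · intro r
    rw [Algebra.algebraMap_eq_smul_one]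
    exact (Ev k).smul_mem r (one_mem_Ev k)
  · intro x y _ _ hx hy
    exact add_mem hx hy
  · intro m₁ m₂ x _ hx
    exact step_Ev k m₁ m₂ hx

theorem odd_mem_Sp {x : CliffordAlgebra (Qs k)} (hx : x ∈ evenOdd (Qs k) 1) : x ∈ Sp k := by
  refine odd_induction (Qs k) (P := fun x _ => x ∈ Sp k) ?_ ?_ ?_ x hx
  · intro v
    exact iota_mem_Sp k v
  · intro x y _ _ hx hy
    exact add_mem hx hy
  · intro m₁ m₂ x _ hx
    exact step_Sp k m₁ m₂ hx

end Groth.Agent.H9.Qg
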