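import Mathlib
import Groth.Agent.Lib.Helper9.Misc.QgA

set_option autoImplicit false
set_option linter.unusedSectionVars false
set_option linter.unusedVariables false

namespace Groth.Agent.H9.Qg

universe u
open CliffordAlgebra

variable (k : Type u) [Field k]

theorem trace_scalar {x : CliffordAlgebra (Qs k)} (hx : x ∈ Ev k) :
    ∃ r : k, x + reverse x = algebraMap k _ r := by
  induction hx using Submodule.span_induction with
  | mem x hx =>
    rcases hx with rfl | ⟨a, b, rfl⟩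
    · refine ⟨2, ?_⟩
      rw [reverse.map_one, map_ofNat, one_add_one_eq_two]
    · exact ⟨QuadraticMap.polar (Qs k) a b, by
        rw [reverse.map_mul, reverse_ι, reverse_ι, ι_mul_ι_add_swap]⟩
  | zero => exact ⟨0, by rw [map_zero, add_zero, map_zero]⟩
  | add x y _ _ hx hy =>
    obtain ⟨r, hr⟩ := hx
    obtain ⟨s, hs⟩ := hy
    refine ⟨r + s, ?_⟩
    rw [map_add (algebraMap k _), ← hr, ← hs, map_add]
    abel
  | smul c x _ hx =>
    obtain ⟨r, hr⟩ := hx
    refine ⟨c * r, ?_⟩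
    rw [map_smul, ← smul_add, hr, map_mul, Algebra.smul_def]

theorem norm_scalar {x : CliffordAlgebra (Qs k)} (hx : x ∈ Ev k) :
    ∃ r : k, x * reverse x = algebraMap k _ r := by
  induction hx using Submodule.span_induction with
  | mem x hx =>
    rcases hx with rfl | ⟨a, b, rfl⟩
    · exact ⟨1, by rw [reverse.map_one, mul_one, map_one]⟩
    · refine ⟨Qs k a * Qs k b, ?_⟩
      rw [reverse.map_mul, reverse_ι, reverse_ι, mul_assoc, ← mul_assoc (ι (Qs k) b), ι_sq_scalar,
        Algebra.commutes, ← mul_assoc, ι_sq_scalar, ← map_mul]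
  | zero => exact ⟨0, by rw [zero_mul, map_zero]⟩
  | add x y hx hy ihx ihy =>
    obtain ⟨r, hr⟩ := ihx
    obtain ⟨s, hs⟩ := ihy
    have hmem : x * reverse y ∈ Ev k := even_mem_Ev k (by
      have h := SetLike.mul_mem_graded (Ev_le k hx) ((reverse_mem_evenOdd_iff (Qs k)).mpr (Ev_le k hy))
      simpa using h)
    obtain ⟨t, ht⟩ := trace_scalar k hmem
    refine ⟨r + s + t, ?_⟩
    have h1 : y * reverse x = reverse (x * reverse y) := by
      rw [reverse.map_mul, reverse_reverse]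
    have h2 : (x + y) * reverse (x + y) =
        x * reverse x + y * reverse y + (x * reverse y + reverse (x * reverse y)) := by
      rw [← h1, map_add]
      noncomm_ring
    rw [h2, hr, hs, ht, map_add, map_add]
  | smul c x _ ihx =>
    obtain ⟨r, hr⟩ := ihx
    refine ⟨c * c * r, ?_⟩
    rw [map_smul, smul_mul_smul_comm, hr, Algebra.smul_def, ← map_mul]

theorem reverse_W : reverse (W k) = E k 0 - W k := by
  unfold W E
  rw [reverse.map_mul, reverse.map_mul, reverse_ι, reverse_ι, reverse_ι, ← mul_assoc,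
    swap12 k (Pi.single 2 1) (Pi.single 1 1) (Pi.single 0 1),
    swap23 k (Pi.single 1 1) (Pi.single 2 1) (Pi.single 0 1),
    swap12 k (Pi.single 1 1) (Pi.single 0 1) (Pi.single 2 1), b21, b20, b10]
  simp

theorem rho_E0 : rho k (E k 0) = !![1, 0; 0, -1] := by
  unfold E
  rw [rho_ι]
  ext i j
  fin_cases i <;> fin_cases j <;> simp [fM]

theorem rho_W : rho k (W k) = !![1, 0; 0, 0] := by
  unfold W E
  rw [map_mul, map_mul, rho_ι, rho_ι, rho_ι]
  ext i j
  fin_cases i <;> fin_cases j <;> simp [fM, Matrix.mul_apply, Fin.sum_univ_two]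

theorem fixed_mem {x : CliffordAlgebra (Qs k)} (hx : x ∈ Sp k) (hrev : reverse x = x) :
    x ∈ LinearMap.range (ι (Qs k)) := by
  obtain ⟨a, c, rfl⟩ := (mem_Sp_iff k _).mp hx
  rw [map_add, reverse_ι, map_smul, reverse_W] at hrev
  have h1 : c • (E k 0 - W k) = c • W k := add_left_cancel hrev
  have h2 := congrArg (fun m => rho k m 0 0) h1
  simp only [map_smul, map_sub, rho_E0, rho_W] at h2
  have hc : c = 0 := by
    simp at h2
    first | exact h2 | exact h2.symm
  rw [hc, zero_smul, add_zero]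
  exact ⟨a, rfl⟩

theorem conj_mem (u : (CliffordAlgebra (Qs k))ˣ)
    (hu : (u : CliffordAlgebra (Qs k)) ∈ evenOdd (Qs k) 0)
    (huinv : ((u⁻¹ : (CliffordAlgebra (Qs k))ˣ) : CliffordAlgebra (Qs k)) ∈ evenOdd (Qs k) 0)
    (a : Fin 3 → k) :
    (u : CliffordAlgebra (Qs k)) * ι (Qs k) a *
      ((u⁻¹ : (CliffordAlgebra (Qs k))ˣ) : CliffordAlgebra (Qs k)) ∈ LinearMap.range (ι (Qs k)) := by
  obtain ⟨r, hr⟩ := norm_scalar k (even_mem_Ev k hu)
  have hr0 : r ≠ 0 := by
    intro h0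
    rw [h0, map_zero] at hr
    have h1 : reverse (u : CliffordAlgebra (Qs k)) = 0 := (Units.mul_right_eq_zero u).mp hr
    have h2 : (u : CliffordAlgebra (Qs k)) = 0 := by
      rw [← reverse_reverse (u : CliffordAlgebra (Qs k)), h1, map_zero]
    exact u.ne_zero h2
  have hinv : ((u⁻¹ : (CliffordAlgebra (Qs k))ˣ) : CliffordAlgebra (Qs k)) =
      r⁻¹ • reverse (u : CliffordAlgebra (Qs k)) := by
    have h1 : (u : CliffordAlgebra (Qs k)) * (r⁻¹ • reverse (u : CliffordAlgebra (Qs k))) = 1 := by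
      rw [mul_smul_comm, hr, Algebra.algebraMap_eq_smul_one, smul_smul, inv_mul_cancel₀ hr0,
        one_smul]
    calc ((u⁻¹ : (CliffordAlgebra (Qs k))ˣ) : CliffordAlgebra (Qs k))
        = ↑u⁻¹ * ((u : CliffordAlgebra (Qs k)) *
            (r⁻¹ • reverse (u : CliffordAlgebra (Qs k)))) := by rw [h1, mul_one]
      _ = r⁻¹ • reverse (u : CliffordAlgebra (Qs k)) := by
        rw [← mul_assoc, Units.inv_mul, one_mul]
  have hodd : (u : CliffordAlgebra (Qs k)) * ι (Qs k) a * ↑u⁻¹ ∈ evenOdd (Qs k) 1 := by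
    have h := SetLike.mul_mem_graded (SetLike.mul_mem_graded hu (ι_mem_evenOdd_one (Qs k) a)) huinv
    simpa using h
  refine fixed_mem k (odd_mem_Sp k hodd) ?_
  rw [hinv, reverse.map_mul, reverse.map_mul, map_smul, reverse_reverse, reverse_ι]
  rw [smul_mul_assoc, mul_smul_comm, mul_assoc]

theorem main17017 :
    QuadGrp.evenUnits (QuadGrp.splitForm k 3) ≤ QuadGrp.GPin' (QuadGrp.splitForm k 3) := by
  intro u hu
  have hu' : (u : CliffordAlgebra (Qs k)) ∈ evenOdd (Qs k) 0 := hu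
  have huinv : ((u⁻¹ : (CliffordAlgebra (Qs k))ˣ) : CliffordAlgebra (Qs k)) ∈ evenOdd (Qs k) 0 :=
    (QuadGrp.evenUnits (Qs k)).inv_mem hu
  rw [QuadGrp.mem_GPin']
  apply le_antisymm
  · intro x hx
    obtain ⟨y, hy, rfl⟩ := (Submodule.mem_smul_pointwise_iff_exists _ _ _).mp hx
    obtain ⟨a, rfl⟩ := hy
    exact conj_mem k u hu' huinv a
  · intro x hx
    obtain ⟨a, rfl⟩ := hx
    refine (Submodule.mem_smul_pointwise_iff_exists _ _ _).mpr
      ⟨↑u⁻¹ * ι (Qs k) a * ↑u, ?_, ?_⟩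
    · have h := conj_mem k u⁻¹ huinv (by rw [inv_inv]; exact hu') a
      rw [inv_inv] at h
      exact h
    · show (u : CliffordAlgebra (Qs k)) * (↑u⁻¹ * ι (Qs k) a * ↑u) * ↑u⁻¹ = ι (Qs k) a
      rw [← mul_assoc, ← mul_assoc, Units.mul_inv, one_mul, mul_assoc, Units.mul_inv, mul_one]

end Groth.Agent.H9.Qg
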