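import Mathlib
import Groth.Prelude.Def_W4c4chowquasisplitPn

/-!
# The truncated algebra `QsChow.P n` and its involution (helper9)
-/

set_option autoImplicit false

namespace Groth.Agent.H9.QsC

open MvPolynomial QsChow

lemma add_self (n : ℕ) (x : QsChow.P n) : x + x = 0 := by
  have h : (2 : ZMod 2) = 0 := by decide
  calc x + x = (2 : ZMod 2) • x := (two_smul _ x).symm
    _ = 0 := by rw [h, zero_smul]

lemma mk_X (n : ℕ) (i : Fin (QsChow.numVars n)) :
    Ideal.Quotient.mk (QsChow.truncIdeal n) (MvPolynomial.X i) = QsChow.eps n (i.val + 1) := by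
  unfold QsChow.eps
  rw [dif_pos ⟨Nat.succ_pos _, i.isLt⟩]
  rfl

section tau

variable {n : ℕ} (hn : 2 ≤ n)
  (τ : QsChow.P n →ₐ[ZMod 2] QsChow.P n) (hτ1 : τ (QsChow.eps n 1) = QsChow.eps n 1)
  (hτ : ∀ j : ℕ, 2 ≤ j → j ≤ QsChow.numVars n →
    τ (QsChow.eps n j) = QsChow.eps n j + QsChow.eps n 1 ^ (2 * j - 3))

include hn hτ in
lemma tau_eps2 : τ (QsChow.eps n 2) = QsChow.eps n 2 + QsChow.eps n 1 := by
  have hs2 : 2 ≤ QsChow.numVars n := by unfold QsChow.numVars; omega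
  have := hτ 2 le_rfl hs2
  simpa using this

include hn hτ1 hτ in
/-- every element is `a + ε₂ b` with `a, b` fixed -/
theorem key (y : QsChow.P n) : ∃ a b : QsChow.P n, τ a = a ∧ τ b = b ∧
    y = a + QsChow.eps n 2 * b := by
  classical
  have h2 := add_self n
  have hτ2 := tau_eps2 hn τ hτ
  have hN : τ (QsChow.eps n 2 ^ 2 + QsChow.eps n 1 * QsChow.eps n 2) =
      QsChow.eps n 2 ^ 2 + QsChow.eps n 1 * QsChow.eps n 2 := by
    rw [map_add, map_pow, map_mul, hτ2, hτ1]
    have : (QsChow.eps n 2 + QsChow.eps n 1) ^ 2 + QsChow.eps n 1 * (QsChow.eps n 2 + QsChow.eps n 1) =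
        QsChow.eps n 2 ^ 2 + QsChow.eps n 1 * QsChow.eps n 2 +
          ((QsChow.eps n 1 * QsChow.eps n 2 + QsChow.eps n 1 * QsChow.eps n 2) +
            (QsChow.eps n 1 ^ 2 + QsChow.eps n 1 ^ 2)) := by ring
    rw [this, h2, h2, add_zero, add_zero]
  have hX : ∀ i : Fin (QsChow.numVars n), ∃ a' b' : QsChow.P n, τ a' = a' ∧ τ b' = b' ∧
      Ideal.Quotient.mk (QsChow.truncIdeal n) (MvPolynomial.X i) = a' + QsChow.eps n 2 * b' := by
    intro i
    rw [mk_X n i]
    rcases Nat.lt_or_ge i.val 2 with hlt | hge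
    · interval_cases hi : i.val
      · exact ⟨QsChow.eps n 1, 0, hτ1, map_zero _, by simp⟩
      · exact ⟨0, 1, map_zero _, map_one _, by simp⟩
    · have hj2 : 2 ≤ i.val + 1 := by omega
      have hjs : i.val + 1 ≤ QsChow.numVars n := i.isLt
      have hτj := hτ (i.val + 1) hj2 hjs
      have hexp : 2 * (i.val + 1) - 3 = (2 * (i.val + 1) - 4) + 1 := by omega
      refine ⟨QsChow.eps n (i.val + 1) + QsChow.eps n 1 ^ (2 * (i.val + 1) - 4) * QsChow.eps n 2,
        QsChow.eps n 1 ^ (2 * (i.val + 1) - 4), ?_, ?_, ?_⟩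
      · rw [map_add, map_mul, map_pow, hτj, hτ1, hτ2, hexp, pow_succ]
        have : QsChow.eps n (i.val + 1) + QsChow.eps n 1 ^ (2 * (i.val + 1) - 4) * QsChow.eps n 1 +
            QsChow.eps n 1 ^ (2 * (i.val + 1) - 4) * (QsChow.eps n 2 + QsChow.eps n 1) =
            QsChow.eps n (i.val + 1) + QsChow.eps n 1 ^ (2 * (i.val + 1) - 4) * QsChow.eps n 2 +
              (QsChow.eps n 1 ^ (2 * (i.val + 1) - 4) * QsChow.eps n 1 +
                QsChow.eps n 1 ^ (2 * (i.val + 1) - 4) * QsChow.eps n 1) := by ring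
        rw [this, h2, add_zero]
      · rw [map_pow, hτ1]
      · have : QsChow.eps n (i.val + 1) + QsChow.eps n 1 ^ (2 * (i.val + 1) - 4) * QsChow.eps n 2 +
            QsChow.eps n 2 * QsChow.eps n 1 ^ (2 * (i.val + 1) - 4) =
            QsChow.eps n (i.val + 1) + (QsChow.eps n 1 ^ (2 * (i.val + 1) - 4) * QsChow.eps n 2 +
              QsChow.eps n 1 ^ (2 * (i.val + 1) - 4) * QsChow.eps n 2) := by ring
        rw [this, h2, add_zero]
  obtain ⟨p, rfl⟩ := Ideal.Quotient.mk_surjective y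
  induction p using MvPolynomial.induction_on with
  | C c =>
    refine ⟨Ideal.Quotient.mk _ (MvPolynomial.C c), 0, ?_, map_zero _, by simp⟩
    exact τ.commutes c
  | add p q hp hq =>
    obtain ⟨a, b, ha, hb, e⟩ := hp
    obtain ⟨a', b', ha', hb', e'⟩ := hq
    refine ⟨a + a', b + b', by rw [map_add, ha, ha'], by rw [map_add, hb, hb'], ?_⟩
    rw [map_add, e, e']; ring
  | mul_X p i hp =>
    obtain ⟨a, b, ha, hb, e⟩ := hp
    obtain ⟨a', b', ha', hb', e'⟩ := hX i
    refine ⟨a * a' + (QsChow.eps n 2 ^ 2 + QsChow.eps n 1 * QsChow.eps n 2) * b * b',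
      a * b' + a' * b + QsChow.eps n 1 * b * b', ?_, ?_, ?_⟩
    · rw [map_add, map_mul, map_mul, map_mul, hN, ha, ha', hb, hb']
    · rw [map_add, map_add, map_mul, map_mul, map_mul, map_mul, hτ1, ha, ha', hb, hb']
    · rw [map_mul, e, e']
      have : a * a' + (QsChow.eps n 2 ^ 2 + QsChow.eps n 1 * QsChow.eps n 2) * b * b' +
          QsChow.eps n 2 * (a * b' + a' * b + QsChow.eps n 1 * b * b') =
          (a + QsChow.eps n 2 * b) * (a' + QsChow.eps n 2 * b') +
            (QsChow.eps n 1 * QsChow.eps n 2 * b * b' + QsChow.eps n 1 * QsChow.eps n 2 * b * b') := by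
        ring
      rw [this, h2, add_zero]

include hn hτ1 hτ in
/-- `y + τ y = ε₁ b` with `b` fixed -/
theorem add_tau (y : QsChow.P n) : ∃ b : QsChow.P n, τ b = b ∧ y + τ y = QsChow.eps n 1 * b := by
  obtain ⟨a, b, ha, hb, e⟩ := key hn τ hτ1 hτ y
  refine ⟨b, hb, ?_⟩
  rw [e, map_add, map_mul, ha, hb, tau_eps2 hn τ hτ]
  have : a + QsChow.eps n 2 * b + (a + (QsChow.eps n 2 + QsChow.eps n 1) * b) =
      QsChow.eps n 1 * b + ((a + a) + (QsChow.eps n 2 * b + QsChow.eps n 2 * b)) := by ring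
  rw [this, add_self, add_self, add_zero, add_zero]

end tau

section ann

lemma truncIdeal_eq (n : ℕ) : QsChow.truncIdeal n =
    Ideal.span ((fun s : Fin (QsChow.numVars n) →₀ ℕ => monomial s (1 : ZMod 2)) ''
      (Set.range fun i => Finsupp.single i (QsChow.bound n i))) := by
  unfold QsChow.truncIdeal
  congr 1
  ext q
  simp only [Set.mem_range, Set.mem_image]
  constructor
  · rintro ⟨i, rfl⟩
    exact ⟨_, ⟨i, rfl⟩, (X_pow_eq_monomial).symm⟩
  · rintro ⟨_, ⟨i, rfl⟩, rfl⟩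
    exact ⟨i, X_pow_eq_monomial⟩

lemma mem_truncIdeal_iff (n : ℕ) (p : QsChow.FreeP n) :
    p ∈ QsChow.truncIdeal n ↔ ∀ α ∈ p.support, ∃ i, QsChow.bound n i ≤ α i := by
  rw [truncIdeal_eq, mem_ideal_span_monomial_image]
  constructor
  · intro h α hα
    obtain ⟨_, ⟨i, rfl⟩, hle⟩ := h α hα
    exact ⟨i, Finsupp.single_le_iff.1 hle⟩
  · intro h α hα
    obtain ⟨i, hi⟩ := h α hα
    exact ⟨_, ⟨i, rfl⟩, Finsupp.single_le_iff.2 hi⟩

/-- the annihilator of `ε₁` is generated by `ε₁ ^ (n - 1)` -/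
theorem exists_of_eps1_mul_eq_zero (n : ℕ) (hn : 1 ≤ n) (u : QsChow.P n)
    (hu : QsChow.eps n 1 * u = 0) : ∃ v : QsChow.P n, u = QsChow.eps n 1 ^ (n - 1) * v := by
  classical
  obtain ⟨p, rfl⟩ := Ideal.Quotient.mk_surjective u
  have h0lt : 0 < QsChow.numVars n := by unfold QsChow.numVars; omega
  set i0 : Fin (QsChow.numVars n) := ⟨0, h0lt⟩ with hi0
  have he1 : QsChow.eps n 1 = Ideal.Quotient.mk (QsChow.truncIdeal n) (X i0) := (mk_X n i0).symm
  have hb0 : QsChow.bound n i0 = n := by simp [QsChow.bound, hi0]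
  rw [he1, ← map_mul, Ideal.Quotient.eq_zero_iff_mem, mem_truncIdeal_iff, support_X_mul] at hu
  suffices h : Ideal.Quotient.mk (QsChow.truncIdeal n) p ∈
      Ideal.span {QsChow.eps n 1 ^ (n - 1)} by
    obtain ⟨v, hv⟩ := Ideal.mem_span_singleton'.1 h
    exact ⟨v, by rw [← hv, mul_comm]⟩
  rw [← support_sum_monomial_coeff p, map_sum]
  refine Ideal.sum_mem _ fun α hα => ?_
  have hα' := hu (Finsupp.single i0 1 + α) (by
    rw [Finset.mem_map]
    exact ⟨α, hα, rfl⟩)
  obtain ⟨i, hi⟩ := hα'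
  by_cases hii : i = i0
  · subst hii
    rw [hb0] at hi
    have hα0 : n - 1 ≤ α i0 := by
      simp only [Finsupp.coe_add, Pi.add_apply, Finsupp.single_eq_same] at hi
      omega
    have hdec : α = Finsupp.single i0 (n - 1) + (α - Finsupp.single i0 (n - 1)) := by
      rw [add_tsub_cancel_of_le]
      exact Finsupp.single_le_iff.2 hα0
    rw [hdec, monomial_single_add, map_mul, map_pow, ← he1]
    exact Ideal.mul_mem_right _ _ (Ideal.subset_span rfl)
  · have hmem : monomial α (coeff α p) ∈ QsChow.truncIdeal n := by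
      rw [mem_truncIdeal_iff]
      intro β hβ
      have hβα : β = α := by
        by_contra hne
        rw [mem_support_iff, coeff_monomial, if_neg (Ne.symm hne)] at hβ
        exact hβ rfl
      subst hβα
      refine ⟨i, ?_⟩
      simpa [Finsupp.single_eq_of_ne hii] using hi
    rw [Ideal.Quotient.eq_zero_iff_mem.2 hmem]
    exact Ideal.zero_mem _

end ann

end Groth.Agent.H9.QsC
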