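import Mathlib
import Groth.Prelude.Def_W4c4chowquasisplitPn
import Groth.Agent.Lib.Helper9.Misc.QsChowA

/-!
# The fixed subalgebra of `QsChow.P n` is the range of `QsChow.phi n` (helper9)
-/

set_option autoImplicit false

namespace Groth.Agent.H9.QsC

open MvPolynomial QsChow

lemma eps1_pow (n : ℕ) (hn : 1 ≤ n) : QsChow.eps n 1 ^ n = 0 := by
  have h0lt : 0 < QsChow.numVars n := by unfold QsChow.numVars; omega
  have he1 : QsChow.eps n 1 =
      Ideal.Quotient.mk (QsChow.truncIdeal n) (X (⟨0, h0lt⟩ : Fin (QsChow.numVars n))) :=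
    (mk_X n ⟨0, h0lt⟩).symm
  rw [he1, ← map_pow, Ideal.Quotient.eq_zero_iff_mem]
  unfold QsChow.truncIdeal
  apply Ideal.subset_span
  refine ⟨⟨0, h0lt⟩, ?_⟩
  simp [QsChow.bound]

section gen

variable {n : ℕ} (hn : 2 ≤ n)

include hn in
/-- every element is `a + ε₂ b` with `a, b` in a subalgebra containing the basic fixed elements -/
theorem key' (E : Subalgebra (ZMod 2) (QsChow.P n)) (h1 : QsChow.eps n 1 ∈ E)
    (hN : QsChow.eps n 2 ^ 2 + QsChow.eps n 1 * QsChow.eps n 2 ∈ E)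
    (hc : ∀ i : Fin (QsChow.numVars n), 2 ≤ i.val →
      QsChow.eps n (i.val + 1) + QsChow.eps n 1 ^ (2 * (i.val + 1) - 4) * QsChow.eps n 2 ∈ E)
    (y : QsChow.P n) : ∃ a ∈ E, ∃ b ∈ E, y = a + QsChow.eps n 2 * b := by
  classical
  have h2 := add_self n
  have hX : ∀ i : Fin (QsChow.numVars n), ∃ a' ∈ E, ∃ b' ∈ E,
      Ideal.Quotient.mk (QsChow.truncIdeal n) (MvPolynomial.X i) = a' + QsChow.eps n 2 * b' := by
    intro i
    rw [mk_X n i]
    rcases Nat.lt_or_ge i.val 2 with hlt | hge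
    · interval_cases hi : i.val
      · exact ⟨QsChow.eps n 1, h1, 0, E.zero_mem, by simp⟩
      · exact ⟨0, E.zero_mem, 1, E.one_mem, by simp⟩
    · refine ⟨_, hc i hge, QsChow.eps n 1 ^ (2 * (i.val + 1) - 4), E.pow_mem h1 _, ?_⟩
      have : QsChow.eps n (i.val + 1) + QsChow.eps n 1 ^ (2 * (i.val + 1) - 4) * QsChow.eps n 2 +
          QsChow.eps n 2 * QsChow.eps n 1 ^ (2 * (i.val + 1) - 4) =
          QsChow.eps n (i.val + 1) + (QsChow.eps n 1 ^ (2 * (i.val + 1) - 4) * QsChow.eps n 2 +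
            QsChow.eps n 1 ^ (2 * (i.val + 1) - 4) * QsChow.eps n 2) := by ring
      rw [this, h2, add_zero]
  obtain ⟨p, rfl⟩ := Ideal.Quotient.mk_surjective y
  induction p using MvPolynomial.induction_on with
  | C c =>
    refine ⟨Ideal.Quotient.mk _ (MvPolynomial.C c), ?_, 0, E.zero_mem, by simp⟩
    exact E.algebraMap_mem c
  | add p q hp hq =>
    obtain ⟨a, ha, b, hb, e⟩ := hp
    obtain ⟨a', ha', b', hb', e'⟩ := hq
    refine ⟨a + a', E.add_mem ha ha', b + b', E.add_mem hb hb', ?_⟩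
    rw [map_add, e, e']; ring
  | mul_X p i hp =>
    obtain ⟨a, ha, b, hb, e⟩ := hp
    obtain ⟨a', ha', b', hb', e'⟩ := hX i
    refine ⟨a * a' + (QsChow.eps n 2 ^ 2 + QsChow.eps n 1 * QsChow.eps n 2) * b * b',
      E.add_mem (E.mul_mem ha ha') (E.mul_mem (E.mul_mem hN hb) hb'),
      a * b' + a' * b + QsChow.eps n 1 * b * b',
      E.add_mem (E.add_mem (E.mul_mem ha hb') (E.mul_mem ha' hb))
        (E.mul_mem (E.mul_mem h1 hb) hb'), ?_⟩
    rw [map_mul, e, e']
    have : a * a' + (QsChow.eps n 2 ^ 2 + QsChow.eps n 1 * QsChow.eps n 2) * b * b' +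
        QsChow.eps n 2 * (a * b' + a' * b + QsChow.eps n 1 * b * b') =
        (a + QsChow.eps n 2 * b) * (a' + QsChow.eps n 2 * b') +
          (QsChow.eps n 1 * QsChow.eps n 2 * b * b' + QsChow.eps n 1 * QsChow.eps n 2 * b * b') := by
      ring
    rw [this, h2, add_zero]

end gen

section phi

variable {n : ℕ} (hn : 2 ≤ n)

include hn in
lemma one_lt_numVars : 1 < QsChow.numVars n := by unfold QsChow.numVars; omega

include hn in
lemma eps1_mem_range : QsChow.eps n 1 ∈ (QsChow.phi n).range := by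
  have h0 : 0 < QsChow.numVars n := by unfold QsChow.numVars; omega
  refine ⟨X (some ⟨0, h0⟩), ?_⟩
  simp [QsChow.phi, QsChow.genImage]

include hn in
lemma N_mem_range :
    QsChow.eps n 2 ^ 2 + QsChow.eps n 1 * QsChow.eps n 2 ∈ (QsChow.phi n).range := by
  refine ⟨X (some ⟨1, one_lt_numVars hn⟩), ?_⟩
  simp [QsChow.phi, QsChow.genImage]

lemma c_mem_range (i : Fin (QsChow.numVars n)) (hi : 2 ≤ i.val) :
    QsChow.eps n (i.val + 1) + QsChow.eps n 1 ^ (2 * (i.val + 1) - 4) * QsChow.eps n 2 ∈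
      (QsChow.phi n).range := by
  refine ⟨X (some i), ?_⟩
  have h0 : i.val ≠ 0 := by omega
  have h1 : i.val ≠ 1 := by omega
  simp [QsChow.phi, QsChow.genImage, h0, h1]

lemma xbar_mem_range : QsChow.eps n 1 ^ (n - 1) * QsChow.eps n 2 ∈ (QsChow.phi n).range := by
  refine ⟨X none, ?_⟩
  simp [QsChow.phi, QsChow.genImage]

variable (τ : QsChow.P n →ₐ[ZMod 2] QsChow.P n) (hτ1 : τ (QsChow.eps n 1) = QsChow.eps n 1)
  (hτ : ∀ j : ℕ, 2 ≤ j → j ≤ QsChow.numVars n →
    τ (QsChow.eps n j) = QsChow.eps n j + QsChow.eps n 1 ^ (2 * j - 3))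

include hn hτ1 hτ in
lemma tau_N : τ (QsChow.eps n 2 ^ 2 + QsChow.eps n 1 * QsChow.eps n 2) =
    QsChow.eps n 2 ^ 2 + QsChow.eps n 1 * QsChow.eps n 2 := by
  have h2 := add_self n
  rw [map_add, map_pow, map_mul, tau_eps2 hn τ hτ, hτ1]
  have : (QsChow.eps n 2 + QsChow.eps n 1) ^ 2 + QsChow.eps n 1 * (QsChow.eps n 2 + QsChow.eps n 1) =
      QsChow.eps n 2 ^ 2 + QsChow.eps n 1 * QsChow.eps n 2 +
        ((QsChow.eps n 1 * QsChow.eps n 2 + QsChow.eps n 1 * QsChow.eps n 2) +
          (QsChow.eps n 1 ^ 2 + QsChow.eps n 1 ^ 2)) := by ring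
  rw [this, h2, h2, add_zero, add_zero]

include hn hτ1 hτ in
lemma tau_c (i : Fin (QsChow.numVars n)) (hi : 2 ≤ i.val) :
    τ (QsChow.eps n (i.val + 1) + QsChow.eps n 1 ^ (2 * (i.val + 1) - 4) * QsChow.eps n 2) =
      QsChow.eps n (i.val + 1) + QsChow.eps n 1 ^ (2 * (i.val + 1) - 4) * QsChow.eps n 2 := by
  have h2 := add_self n
  have hj2 : 2 ≤ i.val + 1 := by omega
  have hjs : i.val + 1 ≤ QsChow.numVars n := i.isLt
  have hτj := hτ (i.val + 1) hj2 hjs
  have hexp : 2 * (i.val + 1) - 3 = (2 * (i.val + 1) - 4) + 1 := by omega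
  rw [map_add, map_mul, map_pow, hτj, hτ1, tau_eps2 hn τ hτ, hexp, pow_succ]
  have : QsChow.eps n (i.val + 1) + QsChow.eps n 1 ^ (2 * (i.val + 1) - 4) * QsChow.eps n 1 +
      QsChow.eps n 1 ^ (2 * (i.val + 1) - 4) * (QsChow.eps n 2 + QsChow.eps n 1) =
      QsChow.eps n (i.val + 1) + QsChow.eps n 1 ^ (2 * (i.val + 1) - 4) * QsChow.eps n 2 +
        (QsChow.eps n 1 ^ (2 * (i.val + 1) - 4) * QsChow.eps n 1 +
          QsChow.eps n 1 ^ (2 * (i.val + 1) - 4) * QsChow.eps n 1) := by ring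
  rw [this, h2, add_zero]

include hn hτ1 hτ in
lemma tau_xbar : τ (QsChow.eps n 1 ^ (n - 1) * QsChow.eps n 2) =
    QsChow.eps n 1 ^ (n - 1) * QsChow.eps n 2 := by
  rw [map_mul, map_pow, hτ1, tau_eps2 hn τ hτ, mul_add, ← pow_succ,
    show n - 1 + 1 = n by omega, eps1_pow n (by omega), add_zero]

include hn hτ1 hτ in
theorem range_phi_eq :
    (QsChow.phi n).range = AlgHom.equalizer τ (AlgHom.id (ZMod 2) (QsChow.P n)) := by
  apply le_antisymm
  · have : (QsChow.phi n).range = Algebra.adjoin (ZMod 2) (Set.range (QsChow.genImage n)) :=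
      (Algebra.adjoin_range_eq_range_aeval (ZMod 2) (QsChow.genImage n)).symm
    rw [this]
    apply Algebra.adjoin_le
    rintro _ ⟨o, rfl⟩
    show τ (QsChow.genImage n o) = QsChow.genImage n o
    cases o with
    | none => exact tau_xbar hn τ hτ1 hτ
    | some i =>
      by_cases h0 : i.val = 0
      · simp only [QsChow.genImage, h0, if_true]
        exact hτ1
      · by_cases h1 : i.val = 1
        · simp only [QsChow.genImage, h1, if_true]
          exact tau_N hn τ hτ1 hτ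
        · simp only [QsChow.genImage, h0, h1, if_false]
          exact tau_c hn τ hτ1 hτ i (by omega)
  · intro z hz
    have hz' : τ z = z := hz
    obtain ⟨a, ha, b, hb, e⟩ := key' hn (QsChow.phi n).range (eps1_mem_range hn) (N_mem_range hn)
      (fun i hi => c_mem_range i hi) z
    have hle : (QsChow.phi n).range ≤ AlgHom.equalizer τ (AlgHom.id (ZMod 2) (QsChow.P n)) := by
      have : (QsChow.phi n).range = Algebra.adjoin (ZMod 2) (Set.range (QsChow.genImage n)) :=
        (Algebra.adjoin_range_eq_range_aeval (ZMod 2) (QsChow.genImage n)).symm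
      rw [this]
      apply Algebra.adjoin_le
      rintro _ ⟨o, rfl⟩
      show τ (QsChow.genImage n o) = QsChow.genImage n o
      cases o with
      | none => exact tau_xbar hn τ hτ1 hτ
      | some i =>
        by_cases h0 : i.val = 0
        · simp only [QsChow.genImage, h0, if_true]
          exact hτ1
        · by_cases h1 : i.val = 1
          · simp only [QsChow.genImage, h1, if_true]
            exact tau_N hn τ hτ1 hτ
          · simp only [QsChow.genImage, h0, h1, if_false]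
            exact tau_c hn τ hτ1 hτ i (by omega)
    have hτa : τ a = a := hle ha
    have hτb : τ b = b := hle hb
    -- ε₁ b = 0
    have hb0 : QsChow.eps n 1 * b = 0 := by
      have h1 : τ z = z + QsChow.eps n 1 * b := by
        rw [e, map_add, map_mul, hτa, hτb, tau_eps2 hn τ hτ]
        ring
      rw [hz'] at h1
      exact left_eq_add.1 h1
    obtain ⟨v, hv⟩ := exists_of_eps1_mul_eq_zero n (by omega) b hb0
    obtain ⟨a', ha', b', hb', e'⟩ := key' hn (QsChow.phi n).range (eps1_mem_range hn)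
      (N_mem_range hn) (fun i hi => c_mem_range i hi) v
    have hfin : QsChow.eps n 2 * b =
        (QsChow.eps n 1 ^ (n - 1) * QsChow.eps n 2) * a' +
          QsChow.eps n 1 ^ (n - 1) * (QsChow.eps n 2 ^ 2 + QsChow.eps n 1 * QsChow.eps n 2) * b' := by
      rw [hv, e']
      have h3 : QsChow.eps n 1 ^ (n - 1) * QsChow.eps n 1 = 0 := by
        rw [← pow_succ, show n - 1 + 1 = n by omega, eps1_pow n (by omega)]
      have : QsChow.eps n 1 ^ (n - 1) * QsChow.eps n 2 * a' +
          QsChow.eps n 1 ^ (n - 1) * (QsChow.eps n 2 ^ 2 + QsChow.eps n 1 * QsChow.eps n 2) * b' =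
          QsChow.eps n 2 * (QsChow.eps n 1 ^ (n - 1) * (a' + QsChow.eps n 2 * b')) +
            (QsChow.eps n 1 ^ (n - 1) * QsChow.eps n 1) * QsChow.eps n 2 * b' := by ring
      rw [this, h3, zero_mul, zero_mul, add_zero]
    rw [e, hfin]
    have hE := (QsChow.phi n).range
    exact Subalgebra.add_mem _ ha (Subalgebra.add_mem _
      (Subalgebra.mul_mem _ xbar_mem_range ha')
      (Subalgebra.mul_mem _ (Subalgebra.mul_mem _
        (Subalgebra.pow_mem _ (eps1_mem_range hn) _) (N_mem_range hn)) hb'))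

end phi

end Groth.Agent.H9.QsC
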