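import Mathlib
import Groth.Prelude.Def_W4c4chowquasisplitPn
import Groth.Agent.Lib.Helper9.Misc.QsChowB

/-!
# The relations of `QsChow.presIdeal n` hold in `QsChow.P n` (helper9)
-/

set_option autoImplicit false

namespace Groth.Agent.H9.QsC

open MvPolynomial QsChow

section frob

variable {n : ℕ}

lemma sq_add' (a b : QsChow.P n) : (a + b) ^ 2 = a ^ 2 + b ^ 2 := by
  have h : a * b + a * b = 0 := add_self n _
  calc (a + b) ^ 2 = a ^ 2 + b ^ 2 + (a * b + a * b) := by ring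
    _ = a ^ 2 + b ^ 2 := by rw [h, add_zero]

lemma pow_two_pow_add (a b : QsChow.P n) (t : ℕ) :
    (a + b) ^ 2 ^ t = a ^ 2 ^ t + b ^ 2 ^ t := by
  induction t with
  | zero => simp
  | succ t ih => rw [pow_succ, pow_mul, ih, sq_add', ← pow_mul, ← pow_mul]

end frob

section arith

lemma klog_spec (n j : ℕ) (hj2 : 2 ≤ j) (hjs : j ≤ QsChow.numVars n) (hn : 2 ≤ n) :
    n ≤ (2 * j - 3) * 2 ^ QsChow.klog n j := by
  unfold QsChow.klog
  unfold QsChow.numVars at hjs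
  have hd : 0 < 2 * j - 3 := by omega
  have h1 : (2 * n - 1) / (2 * j - 3) < 2 ^ (Nat.log 2 ((2 * n - 1) / (2 * j - 3)) + 1) :=
    Nat.lt_pow_succ_log_self (by norm_num) _
  rw [Nat.div_lt_iff_lt_mul hd] at h1
  rw [pow_succ] at h1
  have : 2 * n - 1 < 2 * ((2 * j - 3) * 2 ^ Nat.log 2 ((2 * n - 1) / (2 * j - 3))) := by
    calc 2 * n - 1 < 2 ^ Nat.log 2 ((2 * n - 1) / (2 * j - 3)) * 2 * (2 * j - 3) := h1
      _ = 2 * ((2 * j - 3) * 2 ^ Nat.log 2 ((2 * n - 1) / (2 * j - 3))) := by ring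
  omega

lemma klog_two_spec (n : ℕ) (hn : 2 ≤ n) : n ≤ 2 ^ QsChow.klog n 2 := by
  have := klog_spec n 2 le_rfl (by unfold QsChow.numVars; omega) hn
  simpa using this

end arith

section phi

variable {n : ℕ} (hn : 2 ≤ n)

include hn in
lemma phi_evar1 : QsChow.phi n (QsChow.evar n 1) = QsChow.eps n 1 := by
  have h0 : 0 < QsChow.numVars n := by unfold QsChow.numVars; omega
  have : QsChow.evar n 1 = X (some ⟨0, h0⟩) := by
    unfold QsChow.evar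
    rw [dif_pos ⟨Nat.one_pos, h0⟩]
  rw [this]
  simp [QsChow.phi, QsChow.genImage]

include hn in
lemma phi_evar2 : QsChow.phi n (QsChow.evar n 2) =
    QsChow.eps n 2 ^ 2 + QsChow.eps n 1 * QsChow.eps n 2 := by
  have h1 : 1 < QsChow.numVars n := one_lt_numVars hn
  have : QsChow.evar n 2 = X (some ⟨1, h1⟩) := by
    unfold QsChow.evar
    rw [dif_pos ⟨by norm_num, h1⟩]
  rw [this]
  simp [QsChow.phi, QsChow.genImage]

lemma phi_evar (j : ℕ) (hj3 : 3 ≤ j) (hjs : j ≤ QsChow.numVars n) :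
    QsChow.phi n (QsChow.evar n j) =
      QsChow.eps n j + QsChow.eps n 1 ^ (2 * j - 4) * QsChow.eps n 2 := by
  have hlt : j - 1 < QsChow.numVars n := by omega
  have : QsChow.evar n j = X (some ⟨j - 1, hlt⟩) := by
    unfold QsChow.evar
    rw [dif_pos ⟨by omega, hjs⟩]
  rw [this]
  have h0 : j - 1 ≠ 0 := by omega
  have h1 : j - 1 ≠ 1 := by omega
  have h2 : j - 1 + 1 = j := by omega
  simp [QsChow.phi, QsChow.genImage, h0, h1, h2]

lemma phi_xvar : QsChow.phi n (QsChow.xvar n) =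
    QsChow.eps n 1 ^ (n - 1) * QsChow.eps n 2 := by
  simp [QsChow.phi, QsChow.genImage, QsChow.xvar]

lemma eps_pow_bound (j : ℕ) (hj2 : 2 ≤ j) (hjs : j ≤ QsChow.numVars n) :
    QsChow.eps n j ^ 2 ^ QsChow.klog n j = 0 := by
  have hlt : j - 1 < QsChow.numVars n := by omega
  have he : QsChow.eps n j =
      Ideal.Quotient.mk (QsChow.truncIdeal n) (X (⟨j - 1, hlt⟩ : Fin (QsChow.numVars n))) := by
    rw [mk_X]
    congr 1
    simp only
    omega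
  rw [he, ← map_pow, Ideal.Quotient.eq_zero_iff_mem]
  unfold QsChow.truncIdeal
  apply Ideal.subset_span
  refine ⟨⟨j - 1, hlt⟩, ?_⟩
  have h0 : j - 1 ≠ 0 := by omega
  have h2 : j - 1 + 1 = j := by omega
  simp [QsChow.bound, h0, h2]

include hn in
/-- the telescoping sum -/
lemma phi_sPoly (j : ℕ) : QsChow.phi n (QsChow.sPoly n j) =
    QsChow.eps n 2 ^ 2 ^ QsChow.klog n j +
      QsChow.eps n 1 ^ (2 ^ QsChow.klog n j - 1) * QsChow.eps n 2 := by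
  set k := QsChow.klog n j with hk
  set e1 := QsChow.eps n 1 with he1
  set e2 := QsChow.eps n 2 with he2
  unfold QsChow.sPoly
  rw [map_sum]
  have hterm : ∀ t ∈ Finset.range k,
      QsChow.phi n (QsChow.evar n 1 ^ (2 ^ k - 2 ^ (t + 1)) * QsChow.evar n 2 ^ 2 ^ t) =
        e1 ^ (2 ^ k - 2 ^ (t + 1)) * e2 ^ 2 ^ (t + 1) + e1 ^ (2 ^ k - 2 ^ t) * e2 ^ 2 ^ t := by
    intro t ht
    rw [Finset.mem_range] at ht
    rw [map_mul, map_pow, map_pow, phi_evar1 hn, phi_evar2 hn, pow_two_pow_add, mul_add,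
      ← pow_mul, mul_pow, ← mul_assoc, ← pow_add]
    have h1 : 2 ^ (t + 1) ≤ 2 ^ k := Nat.pow_le_pow_right (by norm_num) ht
    have h2 : 2 ^ k - 2 ^ (t + 1) + 2 ^ t = 2 ^ k - 2 ^ t := by
      rw [pow_succ] at h1 ⊢
      omega
    rw [h2, ← pow_succ']
  rw [Finset.sum_congr rfl hterm]
  have htel : ∀ m, m ≤ k → ∑ t ∈ Finset.range m,
      (e1 ^ (2 ^ k - 2 ^ (t + 1)) * e2 ^ 2 ^ (t + 1) + e1 ^ (2 ^ k - 2 ^ t) * e2 ^ 2 ^ t) =
        e1 ^ (2 ^ k - 2 ^ m) * e2 ^ 2 ^ m + e1 ^ (2 ^ k - 1) * e2 := by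
    intro m
    induction m with
    | zero =>
      intro _
      simp only [Finset.range_zero, Finset.sum_empty, pow_zero, pow_one]
      exact (add_self n _).symm
    | succ m ih =>
      intro hm
      rw [Finset.sum_range_succ, ih (by omega)]
      have h := add_self n (e1 ^ (2 ^ k - 2 ^ m) * e2 ^ 2 ^ m)
      calc e1 ^ (2 ^ k - 2 ^ m) * e2 ^ 2 ^ m + e1 ^ (2 ^ k - 1) * e2 +
          (e1 ^ (2 ^ k - 2 ^ (m + 1)) * e2 ^ 2 ^ (m + 1) + e1 ^ (2 ^ k - 2 ^ m) * e2 ^ 2 ^ m)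
          = e1 ^ (2 ^ k - 2 ^ (m + 1)) * e2 ^ 2 ^ (m + 1) + e1 ^ (2 ^ k - 1) * e2 +
            (e1 ^ (2 ^ k - 2 ^ m) * e2 ^ 2 ^ m + e1 ^ (2 ^ k - 2 ^ m) * e2 ^ 2 ^ m) := by ring
        _ = e1 ^ (2 ^ k - 2 ^ (m + 1)) * e2 ^ 2 ^ (m + 1) + e1 ^ (2 ^ k - 1) * e2 := by
          rw [h, add_zero]
  rw [htel k le_rfl, Nat.sub_self, pow_zero, one_mul]

include hn in
lemma phi_hrel_two : QsChow.phi n (QsChow.hrel n 2) = 0 := by
  unfold QsChow.hrel
  rw [if_pos rfl, map_add, map_mul, map_pow, phi_evar1 hn, phi_xvar, phi_sPoly hn]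
  have hk := klog_two_spec n hn
  have hs2 : 2 ≤ QsChow.numVars n := by unfold QsChow.numVars; omega
  have h1 : 2 ^ QsChow.klog n 2 - n + (n - 1) = 2 ^ QsChow.klog n 2 - 1 := by omega
  rw [← mul_assoc, ← pow_add, h1, eps_pow_bound 2 le_rfl hs2, zero_add]
  exact add_self n _

include hn in
lemma phi_hrel (j : ℕ) (hj3 : 3 ≤ j) (hjs : j ≤ QsChow.numVars n) :
    QsChow.phi n (QsChow.hrel n j) = 0 := by
  unfold QsChow.hrel
  have hj2 : j ≠ 2 := by omega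
  rw [if_neg hj2, if_pos ⟨hj3, hjs⟩, map_add, map_add, map_mul, map_mul, map_pow, map_pow,
    map_pow, phi_evar1 hn, phi_xvar, phi_sPoly hn, phi_evar j hj3 hjs, pow_two_pow_add,
    eps_pow_bound j (by omega) hjs, zero_add]
  have hk := klog_spec n j (by omega) hjs hn
  set k := QsChow.klog n j with hkdef
  set e1 := QsChow.eps n 1
  set e2 := QsChow.eps n 2
  have hpos : 0 < 2 ^ k := Nat.pos_of_ne_zero (by positivity)
  have h1 : (2 * j - 3) * 2 ^ k - n + (n - 1) = (2 * j - 3) * 2 ^ k - 1 := by omega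
  have h2 : (2 * j - 4) * 2 ^ k + (2 ^ k - 1) = (2 * j - 3) * 2 ^ k - 1 := by
    have : (2 * j - 3) * 2 ^ k = (2 * j - 4) * 2 ^ k + 2 ^ k := by
      have : 2 * j - 3 = (2 * j - 4) + 1 := by omega
      rw [this, add_mul, one_mul]
    omega
  have e3 : e1 ^ ((2 * j - 3) * 2 ^ k - n) * (e1 ^ (n - 1) * e2) =
      e1 ^ ((2 * j - 3) * 2 ^ k - 1) * e2 := by
    rw [← mul_assoc, ← pow_add, h1]
  have e4 : e1 ^ ((2 * j - 4) * 2 ^ k) * (e2 ^ 2 ^ k + e1 ^ (2 ^ k - 1) * e2) =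
      e1 ^ ((2 * j - 4) * 2 ^ k) * e2 ^ 2 ^ k + e1 ^ ((2 * j - 3) * 2 ^ k - 1) * e2 := by
    rw [mul_add, ← mul_assoc, ← pow_add, h2]
  rw [e3, e4, mul_pow, ← pow_mul]
  have ha := add_self n (e1 ^ ((2 * j - 4) * 2 ^ k) * e2 ^ 2 ^ k)
  have hb := add_self n (e1 ^ ((2 * j - 3) * 2 ^ k - 1) * e2)
  calc e1 ^ ((2 * j - 4) * 2 ^ k) * e2 ^ 2 ^ k + e1 ^ ((2 * j - 3) * 2 ^ k - 1) * e2 +
      (e1 ^ ((2 * j - 4) * 2 ^ k) * e2 ^ 2 ^ k + e1 ^ ((2 * j - 3) * 2 ^ k - 1) * e2)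
      = (e1 ^ ((2 * j - 4) * 2 ^ k) * e2 ^ 2 ^ k + e1 ^ ((2 * j - 4) * 2 ^ k) * e2 ^ 2 ^ k) +
        (e1 ^ ((2 * j - 3) * 2 ^ k - 1) * e2 + e1 ^ ((2 * j - 3) * 2 ^ k - 1) * e2) := by ring
    _ = 0 := by rw [ha, hb, add_zero]

include hn in
lemma phi_hrel_all (j : ℕ) : QsChow.phi n (QsChow.hrel n j) = 0 := by
  by_cases h2 : j = 2
  · subst h2; exact phi_hrel_two hn
  · by_cases h3 : 3 ≤ j ∧ j ≤ QsChow.numVars n
    · exact phi_hrel hn j h3.1 h3.2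
    · unfold QsChow.hrel
      rw [if_neg h2, if_neg h3, map_zero]

include hn in
theorem presIdeal_le_ker : QsChow.presIdeal n ≤ RingHom.ker (QsChow.phi n) := by
  unfold QsChow.presIdeal
  rw [Ideal.span_le]
  have h1n : QsChow.eps n 1 ^ n = 0 := eps1_pow n (by omega)
  rintro q (hq | ⟨i, rfl⟩)
  · simp only [Set.mem_insert_iff, Set.mem_singleton_iff] at hq
    rcases hq with rfl | rfl | rfl
    · show QsChow.phi n _ = 0
      rw [map_pow, phi_evar1 hn, h1n]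
    · show QsChow.phi n _ = 0
      rw [map_mul, phi_evar1 hn, phi_xvar, ← mul_assoc, ← pow_succ']
      have : n - 1 + 1 = n := by omega
      rw [this, h1n, zero_mul]
    · show QsChow.phi n _ = 0
      rw [map_pow, phi_xvar, mul_pow, ← pow_mul]
      have : (n - 1) * 2 = n + (n - 2) := by omega
      rw [this, pow_add, h1n, zero_mul, zero_mul]
  · exact phi_hrel_all hn _

end phi

end Groth.Agent.H9.QsC
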