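import Mathlib
import Groth.Prelude.Def_W4c4chowquasisplitPn
import Groth.Agent.Lib.Helper9.Misc.QsChowC

/-!
# Leading terms of `QsChow.phi n` on monomials and injectivity on standard forms (helper9)
-/

set_option autoImplicit false

namespace Groth.Agent.H9.QsC

open MvPolynomial QsChow

/-- the `j`-th variable (0-based) of the free algebra, or `0` if out of range -/
noncomputable def Xv (n j : ℕ) : QsChow.FreeP n :=
  if h : j < QsChow.numVars n then X (⟨j, h⟩ : Fin (QsChow.numVars n)) else 0

lemma mk_Xv (n j : ℕ) :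
    Ideal.Quotient.mk (QsChow.truncIdeal n) (Xv n j) = QsChow.eps n (j + 1) := by
  unfold Xv
  by_cases h : j < QsChow.numVars n
  · rw [dif_pos h, mk_X]
  · rw [dif_neg h, map_zero]
    unfold QsChow.eps
    rw [dif_neg]
    omega

/-- polynomial lifts of the images of the generators -/
noncomputable def genLift (n : ℕ) : Option (Fin (QsChow.numVars n)) → QsChow.FreeP n
  | none => Xv n 0 ^ (n - 1) * Xv n 1
  | some i =>
    if i.val = 0 then Xv n 0
    else if i.val = 1 then Xv n 1 ^ 2 + Xv n 0 * Xv n 1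
    else X i + Xv n 0 ^ (2 * (i.val + 1) - 4) * Xv n 1

lemma mk_genLift (n : ℕ) (v : Option (Fin (QsChow.numVars n))) :
    Ideal.Quotient.mk (QsChow.truncIdeal n) (genLift n v) = QsChow.genImage n v := by
  cases v with
  | none =>
    simp only [genLift, QsChow.genImage, map_mul, map_pow, mk_Xv]
  | some i =>
    simp only [genLift, QsChow.genImage]
    split_ifs
    · rw [mk_Xv]
    · simp only [map_add, map_mul, map_pow, mk_Xv]
    · simp only [map_add, map_mul, map_pow, mk_Xv, mk_X]

/-- the lift of `phi` to the free algebra -/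
noncomputable def Phi (n : ℕ) : QsChow.FreeE n →ₐ[ZMod 2] QsChow.FreeP n :=
  MvPolynomial.aeval (genLift n)

lemma phi_eq_mk_Phi (n : ℕ) (q : QsChow.FreeE n) :
    QsChow.phi n q = Ideal.Quotient.mk (QsChow.truncIdeal n) (Phi n q) := by
  have h : QsChow.phi n = (Ideal.Quotient.mkₐ (ZMod 2) (QsChow.truncIdeal n)).comp (Phi n) := by
    apply MvPolynomial.algHom_ext
    intro v
    simp only [QsChow.phi, Phi, aeval_X, AlgHom.comp_apply, Ideal.Quotient.mkₐ_eq_mk]
    exact (mk_genLift n v).symm
  rw [h]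
  rfl

section lead

variable {n : ℕ}

/-- `g = X₀^a (x^ν + X₀ G)` -/
def LeadP (n : ℕ) (g : QsChow.FreeP n) (a : ℕ) (ν : Fin (QsChow.numVars n) →₀ ℕ) : Prop :=
  ∃ G : QsChow.FreeP n, g = Xv n 0 ^ a * (monomial ν 1 + Xv n 0 * G)

lemma LeadP.one : LeadP n 1 0 0 := ⟨0, by simp⟩

lemma LeadP.mul {g g' : QsChow.FreeP n} {a a' : ℕ} {ν ν' : Fin (QsChow.numVars n) →₀ ℕ}
    (h : LeadP n g a ν) (h' : LeadP n g' a' ν') : LeadP n (g * g') (a + a') (ν + ν') := by
  obtain ⟨G, rfl⟩ := h
  obtain ⟨G', rfl⟩ := h'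
  refine ⟨monomial ν 1 * G' + G * monomial ν' 1 + Xv n 0 * G * G', ?_⟩
  have hm : monomial (ν + ν') (1 : ZMod 2) = monomial ν 1 * monomial ν' 1 := by
    rw [monomial_mul, one_mul]
  rw [hm, pow_add]
  ring

lemma LeadP.pow {g : QsChow.FreeP n} {a : ℕ} {ν : Fin (QsChow.numVars n) →₀ ℕ}
    (h : LeadP n g a ν) (b : ℕ) : LeadP n (g ^ b) (b * a) (b • ν) := by
  induction b with
  | zero => simpa using LeadP.one
  | succ b ih =>
    have := ih.mul h
    rw [← pow_succ] at this
    convert this using 1
    · ring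
    · rw [add_smul, one_smul]

/-- the `X₀`-weight of the image of a monomial -/
def Aw (n : ℕ) (γ : Option (Fin (QsChow.numVars n)) →₀ ℕ) : ℕ :=
  (n - 1) * γ none + ∑ i : Fin (QsChow.numVars n), if i.val = 0 then γ (some i) else 0

/-- the leading exponent (without `X₀`) of the image of a monomial -/
noncomputable def Lam (n : ℕ) (γ : Option (Fin (QsChow.numVars n)) →₀ ℕ) :
    Fin (QsChow.numVars n) →₀ ℕ :=
  Finsupp.equivFunOnFinite.symm fun i =>
    if i.val = 0 then 0 else if i.val = 1 then γ none + 2 * γ (some i) else γ (some i)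

lemma Lam_apply (γ : Option (Fin (QsChow.numVars n)) →₀ ℕ) (i : Fin (QsChow.numVars n)) :
    Lam n γ i = if i.val = 0 then 0 else if i.val = 1 then γ none + 2 * γ (some i)
      else γ (some i) := rfl

lemma Aw_zero : Aw n 0 = 0 := by simp [Aw]

lemma Aw_add (γ γ' : Option (Fin (QsChow.numVars n)) →₀ ℕ) :
    Aw n (γ + γ') = Aw n γ + Aw n γ' := by
  unfold Aw
  simp only [Finsupp.coe_add, Pi.add_apply]
  rw [mul_add]
  have : ∀ i : Fin (QsChow.numVars n), (if i.val = 0 then γ (some i) + γ' (some i) else 0) =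
      (if i.val = 0 then γ (some i) else 0) + (if i.val = 0 then γ' (some i) else 0) := by
    intro i; split_ifs <;> simp
  simp_rw [this]
  rw [Finset.sum_add_distrib]
  ring

lemma Lam_zero : Lam n 0 = 0 := by
  ext i
  simp [Lam_apply]

lemma Lam_add (γ γ' : Option (Fin (QsChow.numVars n)) →₀ ℕ) :
    Lam n (γ + γ') = Lam n γ + Lam n γ' := by
  ext i
  simp only [Lam_apply, Finsupp.coe_add, Pi.add_apply]
  split_ifs <;> ring

end lead

section lead2

variable {n : ℕ}

lemma Aw_nsmul (b : ℕ) (γ : Option (Fin (QsChow.numVars n)) →₀ ℕ) :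
    Aw n (b • γ) = b * Aw n γ := by
  induction b with
  | zero => simp [Aw_zero]
  | succ b ih => rw [add_smul, one_smul, Aw_add, ih]; ring

lemma Lam_nsmul (b : ℕ) (γ : Option (Fin (QsChow.numVars n)) →₀ ℕ) :
    Lam n (b • γ) = b • Lam n γ := by
  induction b with
  | zero => simp [Lam_zero]
  | succ b ih => rw [add_smul, one_smul, Lam_add, ih, add_smul, one_smul]

lemma Aw_single_none : Aw n (Finsupp.single none 1) = n - 1 := by
  unfold Aw
  simp

lemma Aw_single_some (i : Fin (QsChow.numVars n)) :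
    Aw n (Finsupp.single (some i) 1) = if i.val = 0 then 1 else 0 := by
  unfold Aw
  have h0 : (Finsupp.single (some i) 1 : Option (Fin (QsChow.numVars n)) →₀ ℕ) none = 0 := by
    simp
  rw [h0, mul_zero, zero_add]
  rw [Finset.sum_eq_single i]
  · simp
  · intro i' _ hne
    have : (Finsupp.single (some i) 1 : Option (Fin (QsChow.numVars n)) →₀ ℕ) (some i') = 0 := by
      rw [Finsupp.single_apply, if_neg]
      intro h
      exact hne (Option.some.inj h).symm
    simp [this]
  · intro h; exact absurd (Finset.mem_univ i) h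

variable (hn : 2 ≤ n)

include hn in
lemma Xv_zero : Xv n 0 = X (⟨0, by unfold QsChow.numVars; omega⟩ : Fin (QsChow.numVars n)) := by
  unfold Xv
  rw [dif_pos]

include hn in
lemma Xv_one : Xv n 1 = X (⟨1, one_lt_numVars hn⟩ : Fin (QsChow.numVars n)) := by
  unfold Xv
  rw [dif_pos]

include hn in
lemma Lam_single_none : Lam n (Finsupp.single none 1) =
    Finsupp.single (⟨1, one_lt_numVars hn⟩ : Fin (QsChow.numVars n)) 1 := by
  ext i
  rw [Lam_apply]
  have hnone : (Finsupp.single none 1 : Option (Fin (QsChow.numVars n)) →₀ ℕ) none = 1 := by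
    simp
  have hsome : (Finsupp.single none 1 : Option (Fin (QsChow.numVars n)) →₀ ℕ) (some i) = 0 := by
    simp
  rw [hnone, hsome]
  by_cases h0 : i.val = 0
  · rw [if_pos h0, Finsupp.single_apply, if_neg]
    intro h; rw [← h] at h0; simp at h0
  · rw [if_neg h0]
    by_cases h1 : i.val = 1
    · have hi : i = ⟨1, one_lt_numVars hn⟩ := Fin.ext h1
      rw [if_pos h1, hi, Finsupp.single_eq_same]
    · rw [if_neg h1, Finsupp.single_apply, if_neg]
      intro h; rw [← h] at h1; simp at h1

lemma Lam_single_some (i : Fin (QsChow.numVars n)) : Lam n (Finsupp.single (some i) 1) =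
    if i.val = 0 then 0 else if i.val = 1 then Finsupp.single i 2 else Finsupp.single i 1 := by
  ext i'
  rw [Lam_apply]
  have hnone : (Finsupp.single (some i) 1 : Option (Fin (QsChow.numVars n)) →₀ ℕ) none = 0 := by
    simp
  have hsome : (Finsupp.single (some i) 1 : Option (Fin (QsChow.numVars n)) →₀ ℕ) (some i') =
      if i = i' then 1 else 0 := by
    rw [Finsupp.single_apply]
    congr 1
    exact propext ⟨fun h => Option.some.inj h, fun h => by rw [h]⟩
  rw [hnone, hsome]
  by_cases hii : i = i'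
  · subst hii
    by_cases h0 : i.val = 0
    · simp [h0]
    · by_cases h1 : i.val = 1
      · simp [h0, h1]
      · simp [h0, h1]
  · have hs : ∀ c : ℕ, (Finsupp.single i c : Fin (QsChow.numVars n) →₀ ℕ) i' = 0 := fun c => by
      rw [Finsupp.single_apply, if_neg hii]
    rw [if_neg hii]
    split_ifs <;> simp [hs]

include hn in
lemma lead_genLift (v : Option (Fin (QsChow.numVars n))) :
    LeadP n (genLift n v) (Aw n (Finsupp.single v 1)) (Lam n (Finsupp.single v 1)) := by
  cases v with
  | none =>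
    rw [Aw_single_none, Lam_single_none hn]
    refine ⟨0, ?_⟩
    simp only [genLift, mul_zero, add_zero]
    rw [Xv_one hn]
    rfl
  | some i =>
    rw [Aw_single_some, Lam_single_some]
    by_cases h0 : i.val = 0
    · rw [if_pos h0, if_pos h0]
      refine ⟨0, ?_⟩
      simp [genLift, h0]
    · rw [if_neg h0, if_neg h0]
      by_cases h1 : i.val = 1
      · rw [if_pos h1]
        refine ⟨Xv n 1, ?_⟩
        have hi : i = ⟨1, one_lt_numVars hn⟩ := Fin.ext h1
        simp only [genLift, if_neg h0, if_pos h1, pow_zero, one_mul]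
        rw [← X_pow_eq_monomial, Xv_one hn, hi]
      · rw [if_neg h1]
        refine ⟨Xv n 0 ^ (2 * (i.val + 1) - 5) * Xv n 1, ?_⟩
        simp only [genLift, if_neg h0, if_neg h1, pow_zero, one_mul]
        have h5 : 2 * (i.val + 1) - 4 = (2 * (i.val + 1) - 5) + 1 := by omega
        rw [h5, pow_succ]
        have : (monomial (Finsupp.single i 1) (1 : ZMod 2)) = X i := rfl
        rw [this]
        ring

include hn in
lemma lead_monomial (γ : Option (Fin (QsChow.numVars n)) →₀ ℕ) :
    LeadP n (Phi n (monomial γ 1)) (Aw n γ) (Lam n γ) := by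
  induction γ using Finsupp.induction_linear with
  | zero =>
    rw [Aw_zero, Lam_zero]
    have : (monomial (0 : Option (Fin (QsChow.numVars n)) →₀ ℕ) (1 : ZMod 2)) = 1 := rfl
    rw [this, map_one]
    exact LeadP.one
  | add f g hf hg =>
    have : (monomial (f + g) (1 : ZMod 2)) = monomial f 1 * monomial g 1 := by
      rw [monomial_mul, one_mul]
    rw [this, map_mul, Aw_add, Lam_add]
    exact hf.mul hg
  | single v b =>
    have h1 : (Finsupp.single v b : Option (Fin (QsChow.numVars n)) →₀ ℕ) =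
        b • Finsupp.single v 1 := (Finsupp.smul_single_one v b).symm
    have h2 : (monomial (Finsupp.single v b) (1 : ZMod 2)) = X v ^ b := X_pow_eq_monomial.symm
    rw [h2, map_pow, h1, Aw_nsmul, Lam_nsmul]
    have h3 : Phi n (X v) = genLift n v := by simp [Phi]
    rw [h3]
    exact (lead_genLift hn v).pow b

end lead2

section std

variable {n : ℕ}

/-- degree bounds for standard monomials -/
def sb (n : ℕ) (i : Fin (QsChow.numVars n)) : ℕ :=
  if i.val = 0 then n else if i.val = 1 then 2 ^ (QsChow.klog n 2 - 1)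
  else 2 ^ QsChow.klog n (i.val + 1)

/-- standard exponent vectors -/
def Std (n : ℕ) (γ : Option (Fin (QsChow.numVars n)) →₀ ℕ) : Prop :=
  γ none ≤ 1 ∧ (γ none = 1 → ∀ i : Fin (QsChow.numVars n), i.val = 0 → γ (some i) = 0) ∧
    ∀ i : Fin (QsChow.numVars n), γ (some i) < sb n i

variable (hn : 2 ≤ n)

include hn in
lemma Aw_eq (γ : Option (Fin (QsChow.numVars n)) →₀ ℕ) :
    Aw n γ = (n - 1) * γ none +
      γ (some (⟨0, by unfold QsChow.numVars; omega⟩ : Fin (QsChow.numVars n))) := by
  unfold Aw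
  congr 1
  rw [Finset.sum_eq_single (⟨0, by unfold QsChow.numVars; omega⟩ : Fin (QsChow.numVars n))]
  · simp
  · intro i _ hne
    rw [if_neg]
    intro h0
    exact hne (Fin.ext h0)
  · intro h; exact absurd (Finset.mem_univ _) h

include hn in
lemma klog_two_pos : 1 ≤ QsChow.klog n 2 := by
  have h := klog_two_spec n hn
  by_contra hlt
  have : QsChow.klog n 2 = 0 := by omega
  rw [this] at h
  simp at h
  omega

include hn in
lemma box_of_std (γ : Option (Fin (QsChow.numVars n)) →₀ ℕ) (h : Std n γ)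
    (i : Fin (QsChow.numVars n)) :
    (Finsupp.single (⟨0, by unfold QsChow.numVars; omega⟩ : Fin (QsChow.numVars n)) (Aw n γ) +
      Lam n γ) i < QsChow.bound n i := by
  obtain ⟨h1, h2, h3⟩ := h
  rw [Finsupp.add_apply, Lam_apply]
  unfold QsChow.bound
  by_cases h0 : i.val = 0
  · have hi : i = ⟨0, by unfold QsChow.numVars; omega⟩ := Fin.ext h0
    rw [if_pos h0, if_pos h0, add_zero, hi, Finsupp.single_eq_same, Aw_eq hn]
    have h30 := h3 ⟨0, by unfold QsChow.numVars; omega⟩
    have h20 := h2
    unfold sb at h30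
    simp only [if_true] at h30
    rcases Nat.lt_or_ge (γ none) 1 with hz | ho
    · have : γ none = 0 := by omega
      rw [this, mul_zero, zero_add]
      exact h30
    · have h11 : γ none = 1 := by omega
      rw [h11, h20 h11 _ rfl]
      omega
  · have hs : (Finsupp.single (⟨0, by unfold QsChow.numVars; omega⟩ : Fin (QsChow.numVars n))
        (Aw n γ)) i = 0 := by
      rw [Finsupp.single_apply, if_neg]
      intro h; rw [← h] at h0; simp at h0
    rw [hs, zero_add, if_neg h0, if_neg h0]
    have h3i := h3 i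
    unfold sb at h3i
    rw [if_neg h0] at h3i
    by_cases h1' : i.val = 1
    · rw [if_pos h1'] at h3i ⊢
      have h12 : i.val + 1 = 2 := by omega
      rw [h12]
      have hk := klog_two_pos hn
      have hp : 2 ^ QsChow.klog n 2 = 2 * 2 ^ (QsChow.klog n 2 - 1) := by
        rw [← pow_succ']
        congr 1
        omega
      omega
    · rw [if_neg h1'] at h3i ⊢
      exact h3i

include hn in
lemma inj_of_std (γ γ' : Option (Fin (QsChow.numVars n)) →₀ ℕ) (h : Std n γ) (h' : Std n γ')
    (hA : Aw n γ = Aw n γ') (hL : Lam n γ = Lam n γ') : γ = γ' := by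
  have hL1 := DFunLike.congr_fun hL (⟨1, one_lt_numVars hn⟩ : Fin (QsChow.numVars n))
  rw [Lam_apply, Lam_apply] at hL1
  simp only [one_ne_zero, if_false, if_true] at hL1
  have hn1 : γ none = γ' none := by
    have := h.1
    have := h'.1
    omega
  have h11 : γ (some (⟨1, one_lt_numVars hn⟩ : Fin (QsChow.numVars n))) =
      γ' (some ⟨1, one_lt_numVars hn⟩) := by omega
  ext v
  cases v with
  | none => exact hn1
  | some i =>
    by_cases h0 : i.val = 0
    · have hi : i = ⟨0, by unfold QsChow.numVars; omega⟩ := Fin.ext h0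
      rw [Aw_eq hn, Aw_eq hn, hn1] at hA
      rw [hi]
      omega
    · by_cases h1 : i.val = 1
      · have hi : i = ⟨1, one_lt_numVars hn⟩ := Fin.ext h1
        rw [hi]; exact h11
      · have := DFunLike.congr_fun hL i
        rw [Lam_apply, Lam_apply, if_neg h0, if_neg h0, if_neg h1, if_neg h1] at this
        exact this

include hn in
lemma coeff_lead (g : QsChow.FreeP n) (a : ℕ) (ν μ : Fin (QsChow.numVars n) →₀ ℕ)
    (hg : LeadP n g a ν)
    (hμ : μ (⟨0, by unfold QsChow.numVars; omega⟩ : Fin (QsChow.numVars n)) ≤ a) :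
    coeff μ g = if Finsupp.single (⟨0, by unfold QsChow.numVars; omega⟩ :
      Fin (QsChow.numVars n)) a + ν = μ then 1 else 0 := by
  obtain ⟨G, rfl⟩ := hg
  rw [Xv_zero hn]
  set i0 : Fin (QsChow.numVars n) := ⟨0, by unfold QsChow.numVars; omega⟩ with hi0
  have e1 : X i0 ^ a * (monomial ν (1 : ZMod 2) + X i0 * G) =
      monomial (Finsupp.single i0 a + ν) 1 + monomial (Finsupp.single i0 (a + 1)) 1 * G := by
    rw [monomial_single_add, ← X_pow_eq_monomial, pow_succ]
    ring
  have hle : ¬ (Finsupp.single i0 (a + 1) ≤ μ) := by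
    rw [Finsupp.single_le_iff]
    omega
  rw [e1, coeff_add, coeff_monomial, coeff_monomial_mul', if_neg hle, add_zero]

include hn in
/-- `phi` is injective on polynomials supported on standard exponent vectors -/
theorem std_inj (q : QsChow.FreeE n) (hstd : ∀ γ ∈ q.support, Std n γ)
    (h : QsChow.phi n q = 0) : q = 0 := by
  classical
  by_contra hne
  have hS : q.support.Nonempty := by
    rw [Finset.nonempty_iff_ne_empty]
    intro he
    exact hne (MvPolynomial.support_eq_empty.1 he)
  obtain ⟨γ₀, hγ₀, hmin⟩ := Finset.exists_min_image q.support (Aw n) hS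
  set i0 : Fin (QsChow.numVars n) := ⟨0, by unfold QsChow.numVars; omega⟩ with hi0
  set μ₀ : Fin (QsChow.numVars n) →₀ ℕ := Finsupp.single i0 (Aw n γ₀) + Lam n γ₀ with hμ₀
  have hLam0 : ∀ γ, Lam n γ i0 = 0 := fun γ => by rw [Lam_apply, if_pos rfl]
  have hμ0 : μ₀ i0 = Aw n γ₀ := by
    rw [hμ₀, Finsupp.add_apply, Finsupp.single_eq_same, hLam0, add_zero]
  have hmem : Phi n q ∈ QsChow.truncIdeal n := by
    rw [phi_eq_mk_Phi] at h
    exact Ideal.Quotient.eq_zero_iff_mem.1 h
  have hc0 : coeff μ₀ (Phi n q) = 0 := by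
    by_contra hc
    have hsupp : μ₀ ∈ (Phi n q).support := MvPolynomial.mem_support_iff.2 hc
    obtain ⟨i, hi⟩ := (mem_truncIdeal_iff n _).1 hmem μ₀ hsupp
    exact absurd (box_of_std hn γ₀ (hstd γ₀ hγ₀) i) (not_lt.2 hi)
  have hc1 : coeff μ₀ (Phi n q) = coeff γ₀ q := by
    conv_lhs => rw [← support_sum_monomial_coeff q]
    rw [map_sum, coeff_sum]
    rw [Finset.sum_eq_single γ₀]
    · have hm : monomial γ₀ (coeff γ₀ q) = C (coeff γ₀ q) * monomial γ₀ 1 := by
        rw [C_mul_monomial, mul_one]
      have hC : Phi n (C (coeff γ₀ q)) = C (coeff γ₀ q) := by simp [Phi]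
      rw [hm, map_mul, hC, coeff_C_mul,
        coeff_lead hn _ _ _ μ₀ (lead_monomial hn γ₀) (le_of_eq hμ0), if_pos rfl, mul_one]
    · intro γ hγ hγne
      have hm : monomial γ (coeff γ q) = C (coeff γ q) * monomial γ 1 := by
        rw [C_mul_monomial, mul_one]
      have hC : Phi n (C (coeff γ q)) = C (coeff γ q) := by simp [Phi]
      rw [hm, map_mul, hC, coeff_C_mul,
        coeff_lead hn _ _ _ μ₀ (lead_monomial hn γ) (by rw [hμ0]; exact hmin γ hγ), if_neg,
        mul_zero]
      intro heq
      have hA : Aw n γ = Aw n γ₀ := by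
        have := DFunLike.congr_fun heq i0
        rw [Finsupp.add_apply, Finsupp.single_eq_same, hLam0, add_zero, hμ0] at this
        exact this
      have hL : Lam n γ = Lam n γ₀ := by
        rw [hμ₀, hA] at heq
        exact add_left_cancel heq
      exact hγne (inj_of_std hn γ γ₀ (hstd γ hγ) (hstd γ₀ hγ₀) hA hL)
    · intro hnot; exact absurd hγ₀ hnot
  rw [hc1] at hc0
  exact (MvPolynomial.mem_support_iff.1 hγ₀) hc0

end std

end Groth.Agent.H9.QsC
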