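import Mathlib
import Groth.Prelude.Def_W4c4chowquasisplitPn
import Groth.Agent.Lib.Helper9.Misc.QsChowD

/-!
# Standard monomials span modulo `QsChow.presIdeal n` (helper9)
-/

set_option autoImplicit false

namespace Groth.Agent.H9.QsC

open MvPolynomial QsChow

section span

variable {n : ℕ}

lemma add_selfE (x : QsChow.FreeE n) : x + x = 0 := by
  have h : (2 : ZMod 2) = 0 := by decide
  calc x + x = (2 : ZMod 2) • x := (two_smul _ x).symm
    _ = 0 := by rw [h, zero_smul]

/-- standard forms plus relations -/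
noncomputable def Wsub (n : ℕ) : Submodule (ZMod 2) (QsChow.FreeE n) :=
  restrictSupport (ZMod 2) {γ | Std n γ} ⊔ (QsChow.presIdeal n).restrictScalars (ZMod 2)

lemma ideal_le_W (q : QsChow.FreeE n) (hq : q ∈ QsChow.presIdeal n) : q ∈ Wsub n :=
  Submodule.mem_sup_right hq

lemma mono_mem_W (γ : Option (Fin (QsChow.numVars n)) →₀ ℕ) (h : Std n γ) :
    monomial γ (1 : ZMod 2) ∈ Wsub n := by
  refine Submodule.mem_sup_left ?_
  rw [mem_restrictSupport_iff]
  intro β hβ
  have := support_monomial_subset hβ
  rw [Finset.mem_singleton] at this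
  rw [this]
  exact h

lemma closed_of_mono (r : QsChow.FreeE n)
    (h : ∀ γ, Std n γ → r * monomial γ 1 ∈ Wsub n) : ∀ q ∈ Wsub n, r * q ∈ Wsub n := by
  intro q hq
  obtain ⟨a, ha, b, hb, rfl⟩ := Submodule.mem_sup.1 hq
  clear hq
  rw [mul_add]
  refine Submodule.add_mem _ ?_ (ideal_le_W _ (Ideal.mul_mem_left _ _ hb))
  rw [restrictSupport_eq_span] at ha
  induction ha using Submodule.span_induction with
  | mem x hx =>
    obtain ⟨γ, hγ, rfl⟩ := hx
    exact h γ hγ
  | zero => simp
  | add x y _ _ hx hy => rw [mul_add]; exact Submodule.add_mem _ hx hy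
  | smul c x _ hx => rw [mul_smul_comm]; exact Submodule.smul_mem _ c hx

/-- the multipliers preserving `Wsub` -/
noncomputable def CW (n : ℕ) : Subsemiring (QsChow.FreeE n) where
  carrier := {r | ∀ q ∈ Wsub n, r * q ∈ Wsub n}
  mul_mem' := by
    intro r r' hr hr' q hq
    rw [mul_assoc]
    exact hr _ (hr' q hq)
  one_mem' := by
    intro q hq
    rwa [one_mul]
  add_mem' := by
    intro r r' hr hr' q hq
    rw [add_mul]
    exact Submodule.add_mem _ (hr q hq) (hr' q hq)
  zero_mem' := by
    intro q _
    rw [zero_mul]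
    exact Submodule.zero_mem _

lemma mem_CW (r : QsChow.FreeE n) : r ∈ CW n ↔ ∀ q ∈ Wsub n, r * q ∈ Wsub n := Iff.rfl

lemma mono_split (γ : Option (Fin (QsChow.numVars n)) →₀ ℕ) (v : Option (Fin (QsChow.numVars n))) :
    monomial γ (1 : ZMod 2) = X v ^ (γ v) * monomial (γ.erase v) 1 := by
  rw [← monomial_single_add, Finsupp.single_add_erase]

lemma erase_le' (γ : Option (Fin (QsChow.numVars n)) →₀ ℕ) (v : Option (Fin (QsChow.numVars n))) :
    γ.erase v ≤ γ := by
  intro w
  by_cases hw : w = v
  · subst hw; simp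
  · rw [Finsupp.erase_ne hw]

lemma Std_mono (γ γ' : Option (Fin (QsChow.numVars n)) →₀ ℕ) (hle : γ' ≤ γ) (h : Std n γ) :
    Std n γ' := by
  obtain ⟨h1, h2, h3⟩ := h
  refine ⟨le_trans (hle none) h1, ?_, fun i => lt_of_le_of_lt (hle (some i)) (h3 i)⟩
  intro h1' i hi
  have hn1 : γ none = 1 := le_antisymm h1 (h1' ▸ hle none)
  have := h2 hn1 i hi
  have := hle (some i)
  omega

end span

section closure

variable {n : ℕ} (hn : 2 ≤ n)

lemma evar_succ (i : Fin (QsChow.numVars n)) : QsChow.evar n (i.val + 1) = X (some i) := by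
  unfold QsChow.evar
  rw [dif_pos ⟨Nat.succ_pos _, i.isLt⟩]
  rfl

include hn in
lemma evar_one : QsChow.evar n 1 =
    X (some (⟨0, by unfold QsChow.numVars; omega⟩ : Fin (QsChow.numVars n))) :=
  evar_succ (⟨0, by unfold QsChow.numVars; omega⟩ : Fin (QsChow.numVars n))

include hn in
lemma evar_two : QsChow.evar n 2 =
    X (some (⟨1, one_lt_numVars hn⟩ : Fin (QsChow.numVars n))) :=
  evar_succ (⟨1, one_lt_numVars hn⟩ : Fin (QsChow.numVars n))

include hn in
lemma e1x_mem : X (some (⟨0, by unfold QsChow.numVars; omega⟩ : Fin (QsChow.numVars n))) * X none ∈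
    QsChow.presIdeal n := by
  unfold QsChow.presIdeal
  apply Ideal.subset_span
  left
  right; left
  rw [evar_one hn]
  rfl

include hn in
lemma e1n_mem : X (some (⟨0, by unfold QsChow.numVars; omega⟩ : Fin (QsChow.numVars n))) ^ n ∈
    QsChow.presIdeal n := by
  unfold QsChow.presIdeal
  apply Ideal.subset_span
  left
  left
  rw [evar_one hn]

lemma x2_mem : (X none : QsChow.FreeE n) ^ 2 ∈ QsChow.presIdeal n := by
  unfold QsChow.presIdeal
  apply Ideal.subset_span
  left
  right; right
  rfl

lemma hrel_mem (i : Fin (QsChow.numVars n)) : QsChow.hrel n (i.val + 1) ∈ QsChow.presIdeal n := by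
  unfold QsChow.presIdeal
  apply Ideal.subset_span
  right
  exact ⟨i, rfl⟩

include hn in
/-- closure under multiplication by `e₁` -/
lemma e1_mem_CW :
    X (some (⟨0, by unfold QsChow.numVars; omega⟩ : Fin (QsChow.numVars n))) ∈ CW n := by
  set i0 : Fin (QsChow.numVars n) := ⟨0, by unfold QsChow.numVars; omega⟩ with hi0
  rw [mem_CW]
  apply closed_of_mono
  intro γ hγ
  obtain ⟨h1, h2, h3⟩ := hγ
  by_cases hx : γ none = 1
  · rw [mono_split γ none, hx, pow_one, ← mul_assoc]
    exact ideal_le_W _ (Ideal.mul_mem_right _ _ (e1x_mem hn))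
  · have hx0 : γ none = 0 := by omega
    have hb : γ (some i0) < n := by
      have h := h3 i0
      unfold sb at h
      rw [if_pos (show i0.val = 0 from rfl)] at h
      exact h
    by_cases hlt : γ (some i0) + 1 < n
    · have : X (some i0) * monomial γ (1 : ZMod 2) =
          monomial (Finsupp.single (some i0) 1 + γ) 1 := by
        rw [monomial_single_add, pow_one]
      rw [this]
      apply mono_mem_W
      refine ⟨?_, ?_, ?_⟩
      · rw [Finsupp.add_apply, Finsupp.single_apply, if_neg (by simp), zero_add]; exact h1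
      · intro h
        rw [Finsupp.add_apply, Finsupp.single_apply, if_neg (by simp), zero_add] at h
        exact absurd h hx
      · intro i
        rw [Finsupp.add_apply, Finsupp.single_apply]
        by_cases hii : some i0 = some i
        · have : i = i0 := (Option.some.inj hii).symm
          subst this
          rw [if_pos rfl]
          unfold sb
          rw [if_pos (show i0.val = 0 from rfl)]
          omega
        · rw [if_neg hii, zero_add]; exact h3 i
    · have hc : γ (some i0) + 1 = n := by omega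
      rw [mono_split γ (some i0), ← mul_assoc, ← pow_succ', hc]
      exact ideal_le_W _ (Ideal.mul_mem_right _ _ (e1n_mem hn))

include hn in
/-- closure under multiplication by `x` -/
lemma x_mem_CW : (X none : QsChow.FreeE n) ∈ CW n := by
  set i0 : Fin (QsChow.numVars n) := ⟨0, by unfold QsChow.numVars; omega⟩ with hi0
  rw [mem_CW]
  apply closed_of_mono
  intro γ hγ
  obtain ⟨h1, h2, h3⟩ := hγ
  by_cases hx : γ none = 1
  · rw [mono_split γ none, hx, pow_one, ← mul_assoc, ← pow_two]
    exact ideal_le_W _ (Ideal.mul_mem_right _ _ x2_mem)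
  · have hx0 : γ none = 0 := by omega
    by_cases h0 : γ (some i0) = 0
    · have : X none * monomial γ (1 : ZMod 2) = monomial (Finsupp.single none 1 + γ) 1 := by
        rw [monomial_single_add, pow_one]
      rw [this]
      apply mono_mem_W
      refine ⟨?_, ?_, ?_⟩
      · rw [Finsupp.add_apply, Finsupp.single_eq_same, hx0]
      · intro _ i hi
        have : i = i0 := Fin.ext hi
        subst this
        rw [Finsupp.add_apply, Finsupp.single_apply, if_neg (by simp), zero_add, h0]
      · intro i
        rw [Finsupp.add_apply, Finsupp.single_apply, if_neg (by simp), zero_add]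
        exact h3 i
    · obtain ⟨c, hc⟩ : ∃ c, γ (some i0) = c + 1 := ⟨γ (some i0) - 1, by omega⟩
      rw [mono_split γ (some i0), hc, pow_succ']
      have : X none * (X (some i0) * X (some i0) ^ c * monomial (γ.erase (some i0)) (1 : ZMod 2)) =
          (X (some i0) * X none) * (X (some i0) ^ c * monomial (γ.erase (some i0)) 1) := by ring
      rw [this]
      exact ideal_le_W _ (Ideal.mul_mem_right _ _ (e1x_mem hn))

include hn in
/-- closure under multiplication by `e₂` -/
lemma e2_mem_CW :
    X (some (⟨1, one_lt_numVars hn⟩ : Fin (QsChow.numVars n))) ∈ CW n := by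
  set i0 : Fin (QsChow.numVars n) := ⟨0, by unfold QsChow.numVars; omega⟩ with hi0
  set i1 : Fin (QsChow.numVars n) := ⟨1, one_lt_numVars hn⟩ with hi1
  have hk := klog_two_pos hn
  set k := QsChow.klog n 2 with hkdef
  rw [mem_CW]
  apply closed_of_mono
  intro γ hγ
  have hγ' := hγ
  obtain ⟨h1, h2, h3⟩ := hγ
  have hb : γ (some i1) < 2 ^ (k - 1) := by
    have h := h3 i1
    unfold sb at h
    rw [if_neg (show ¬ i1.val = 0 by simp [hi1]), if_pos (show i1.val = 1 from rfl)] at h
    exact h
  have hStdAdd : ∀ c : ℕ, c < 2 ^ (k - 1) →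
      Std n (Finsupp.single (some i1) c + γ.erase (some i1)) := by
    intro c hc
    have hE := Std_mono _ _ (erase_le' γ (some i1)) hγ'
    obtain ⟨g1, g2, g3⟩ := hE
    refine ⟨?_, ?_, ?_⟩
    · rw [Finsupp.add_apply, Finsupp.single_apply, if_neg (by simp), zero_add]; exact g1
    · intro h i hi
      rw [Finsupp.add_apply, Finsupp.single_apply, if_neg (by simp), zero_add] at h
      rw [Finsupp.add_apply, Finsupp.single_apply, if_neg, zero_add]
      · exact g2 h i hi
      · intro hh
        have : i = i1 := (Option.some.inj hh).symm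
        rw [this] at hi
        simp [hi1] at hi
    · intro i
      rw [Finsupp.add_apply, Finsupp.single_apply]
      by_cases hii : some i1 = some i
      · have : i = i1 := (Option.some.inj hii).symm
        subst this
        rw [if_pos rfl, Finsupp.erase_same, add_zero]
        unfold sb
        rw [if_neg (show ¬ i1.val = 0 by simp [hi1]), if_pos (show i1.val = 1 from rfl)]
        exact hc
      · rw [if_neg hii, zero_add]; exact g3 i
  by_cases hlt : γ (some i1) + 1 < 2 ^ (k - 1)
  · have : X (some i1) * monomial γ (1 : ZMod 2) =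
        monomial (Finsupp.single (some i1) (γ (some i1) + 1) + γ.erase (some i1)) 1 := by
      rw [mono_split γ (some i1), monomial_single_add, pow_succ']
      ring
    rw [this]
    exact mono_mem_W _ (hStdAdd _ hlt)
  · have hc : γ (some i1) + 1 = 2 ^ (k - 1) := by omega
    set m' : QsChow.FreeE n := monomial (γ.erase (some i1)) 1 with hm'
    have hm'W : m' ∈ Wsub n := mono_mem_W _ (Std_mono _ _ (erase_le' γ (some i1)) hγ')
    have e1 : X (some i1) * monomial γ (1 : ZMod 2) = X (some i1) ^ 2 ^ (k - 1) * m' := by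
      rw [mono_split γ (some i1), ← mul_assoc, ← pow_succ', hc]
    set R₂ : QsChow.FreeE n := X (some i0) ^ (2 ^ k - n) * X none +
      ∑ t ∈ Finset.range (k - 1), X (some i0) ^ (2 ^ k - 2 ^ (t + 1)) * X (some i1) ^ 2 ^ t with hR₂
    have hrel2 : QsChow.hrel n 2 = R₂ + X (some i1) ^ 2 ^ (k - 1) := by
      unfold QsChow.hrel QsChow.sPoly
      rw [if_pos rfl, evar_one hn, evar_two hn]
      have hk1 : k = (k - 1) + 1 := by omega
      conv_lhs => rw [← hkdef]
      conv_lhs => rw [hk1, Finset.sum_range_succ]
      rw [← hk1]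
      rw [Nat.sub_self, pow_zero, one_mul, hR₂, add_assoc]
      rfl
    have e2 : X (some i1) ^ 2 ^ (k - 1) * m' = QsChow.hrel n 2 * m' + R₂ * m' := by
      rw [hrel2]
      have := add_selfE (R₂ * m')
      calc X (some i1) ^ 2 ^ (k - 1) * m' = X (some i1) ^ 2 ^ (k - 1) * m' + 0 := by rw [add_zero]
        _ = X (some i1) ^ 2 ^ (k - 1) * m' + (R₂ * m' + R₂ * m') := by rw [this]
        _ = (R₂ + X (some i1) ^ 2 ^ (k - 1)) * m' + R₂ * m' := by ring
    rw [e1, e2]
    refine Submodule.add_mem _ (ideal_le_W _ (Ideal.mul_mem_right _ _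
      (hrel_mem (⟨1, one_lt_numVars hn⟩ : Fin (QsChow.numVars n)))) ) ?_
    rw [hR₂, add_mul, Finset.sum_mul]
    refine Submodule.add_mem _ ?_ (Submodule.sum_mem _ fun t ht => ?_)
    · rw [mul_assoc]
      exact (CW n).pow_mem (e1_mem_CW hn) _ _ (x_mem_CW hn _ hm'W)
    · rw [mul_assoc]
      refine (CW n).pow_mem (e1_mem_CW hn) _ _ ?_
      have : X (some i1) ^ 2 ^ t * m' =
          monomial (Finsupp.single (some i1) (2 ^ t) + γ.erase (some i1)) (1 : ZMod 2) := by
        rw [monomial_single_add]
      rw [this]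
      apply mono_mem_W
      apply hStdAdd
      rw [Finset.mem_range] at ht
      exact Nat.pow_lt_pow_right (by norm_num) ht

include hn in
lemma sPoly_mem_CW (j : ℕ) : QsChow.sPoly n j ∈ CW n := by
  unfold QsChow.sPoly
  refine (CW n).sum_mem fun t _ => ?_
  rw [evar_one hn, evar_two hn]
  exact (CW n).mul_mem ((CW n).pow_mem (e1_mem_CW hn) _) ((CW n).pow_mem (e2_mem_CW hn) _)

include hn in
/-- closure under multiplication by `e_j`, `j ≥ 3` -/
lemma ej_mem_CW (i : Fin (QsChow.numVars n)) (hi : 2 ≤ i.val) : X (some i) ∈ CW n := by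
  set kj := QsChow.klog n (i.val + 1) with hkj
  rw [mem_CW]
  apply closed_of_mono
  intro γ hγ
  have hγ' := hγ
  obtain ⟨h1, h2, h3⟩ := hγ
  have hb : γ (some i) < 2 ^ kj := by
    have h := h3 i
    unfold sb at h
    rw [if_neg (by omega), if_neg (by omega)] at h
    exact h
  by_cases hlt : γ (some i) + 1 < 2 ^ kj
  · have : X (some i) * monomial γ (1 : ZMod 2) =
        monomial (Finsupp.single (some i) 1 + γ) 1 := by
      rw [monomial_single_add, pow_one]
    rw [this]
    apply mono_mem_W
    refine ⟨?_, ?_, ?_⟩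
    · rw [Finsupp.add_apply, Finsupp.single_apply, if_neg (by simp), zero_add]; exact h1
    · intro h i' hi'
      rw [Finsupp.add_apply, Finsupp.single_apply, if_neg (by simp), zero_add] at h
      rw [Finsupp.add_apply, Finsupp.single_apply, if_neg, zero_add]
      · exact h2 h i' hi'
      · intro hh
        have : i' = i := (Option.some.inj hh).symm
        rw [this] at hi'
        omega
    · intro i'
      rw [Finsupp.add_apply, Finsupp.single_apply]
      by_cases hii : some i = some i'
      · have : i' = i := (Option.some.inj hii).symm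
        subst this
        rw [if_pos rfl]
        unfold sb
        rw [if_neg (by omega), if_neg (by omega), ← hkj]
        omega
      · rw [if_neg hii, zero_add]; exact h3 i'
  · have hc : γ (some i) + 1 = 2 ^ kj := by omega
    set m' : QsChow.FreeE n := monomial (γ.erase (some i)) 1 with hm'
    have hm'W : m' ∈ Wsub n := mono_mem_W _ (Std_mono _ _ (erase_le' γ (some i)) hγ')
    have e1 : X (some i) * monomial γ (1 : ZMod 2) = X (some i) ^ 2 ^ kj * m' := by
      rw [mono_split γ (some i), ← mul_assoc, ← pow_succ', hc]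
    set Rj : QsChow.FreeE n :=
      QsChow.evar n 1 ^ ((2 * (i.val + 1) - 3) * 2 ^ kj - n) * QsChow.xvar n +
        QsChow.evar n 1 ^ ((2 * (i.val + 1) - 4) * 2 ^ kj) * QsChow.sPoly n (i.val + 1) with hRj
    have hrelj : QsChow.hrel n (i.val + 1) = X (some i) ^ 2 ^ kj + Rj := by
      unfold QsChow.hrel
      rw [if_neg (by omega), if_pos ⟨by omega, i.isLt⟩, evar_succ i, hRj, add_assoc]
    have hRjCW : Rj ∈ CW n := by
      rw [hRj, evar_one hn]
      refine (CW n).add_mem ((CW n).mul_mem ((CW n).pow_mem (e1_mem_CW hn) _) (x_mem_CW hn))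
        ((CW n).mul_mem ((CW n).pow_mem (e1_mem_CW hn) _) (sPoly_mem_CW hn _))
    have e2 : X (some i) ^ 2 ^ kj * m' = QsChow.hrel n (i.val + 1) * m' + Rj * m' := by
      rw [hrelj]
      have := add_selfE (Rj * m')
      calc X (some i) ^ 2 ^ kj * m' = X (some i) ^ 2 ^ kj * m' + 0 := by rw [add_zero]
        _ = X (some i) ^ 2 ^ kj * m' + (Rj * m' + Rj * m') := by rw [this]
        _ = (X (some i) ^ 2 ^ kj + Rj) * m' + Rj * m' := by ring
    rw [e1, e2]
    exact Submodule.add_mem _ (ideal_le_W _ (Ideal.mul_mem_right _ _ (hrel_mem i)))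
      (hRjCW _ hm'W)

include hn in
theorem Wsub_eq_top : ∀ q : QsChow.FreeE n, q ∈ Wsub n := by
  have hone : (1 : QsChow.FreeE n) ∈ Wsub n := by
    have : (1 : QsChow.FreeE n) = monomial 0 1 := rfl
    rw [this]
    apply mono_mem_W
    refine ⟨by simp, by simp, fun i => ?_⟩
    simp only [Finsupp.coe_zero, Pi.zero_apply]
    unfold sb
    split_ifs
    · omega
    · positivity
    · positivity
  intro q
  induction q using MvPolynomial.induction_on with
  | C a =>
    have : (C a : QsChow.FreeE n) = a • 1 := by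
      rw [MvPolynomial.smul_eq_C_mul, mul_one]
    rw [this]
    exact Submodule.smul_mem _ _ hone
  | add p q hp hq => exact Submodule.add_mem _ hp hq
  | mul_X p v hp =>
    rw [mul_comm]
    cases v with
    | none => exact x_mem_CW hn _ hp
    | some i =>
      by_cases h0 : i.val = 0
      · have : i = ⟨0, by unfold QsChow.numVars; omega⟩ := Fin.ext h0
        rw [this]
        exact e1_mem_CW hn _ hp
      · by_cases h1 : i.val = 1
        · have : i = ⟨1, one_lt_numVars hn⟩ := Fin.ext h1
          rw [this]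
          exact e2_mem_CW hn _ hp
        · exact ej_mem_CW hn i (by omega) _ hp

include hn in
/-- the kernel of `phi` is the ideal of relations -/
theorem ker_phi_eq : RingHom.ker (QsChow.phi n) = QsChow.presIdeal n := by
  apply le_antisymm
  · intro q hq
    obtain ⟨a, ha, b, hb, rfl⟩ := Submodule.mem_sup.1 (Wsub_eq_top hn q)
    have hb' : b ∈ QsChow.presIdeal n := hb
    have hφb : QsChow.phi n b = 0 := presIdeal_le_ker hn hb'
    have hφa : QsChow.phi n a = 0 := by
      have : QsChow.phi n (a + b) = 0 := hq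
      rwa [map_add, hφb, add_zero] at this
    have ha0 : a = 0 := std_inj hn a (fun γ hγ => ha hγ) hφa
    rw [ha0, zero_add]
    exact hb'
  · exact presIdeal_le_ker hn

end closure

end Groth.Agent.H9.QsC
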