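import Mathlib
import Groth.Prelude.Def_W4c4chowquasisplitPn2
import Groth.Agent.Lib.Helper9.Misc.QsChowE

/-!
# The presentation of the invariants modulo `ε₁` for odd `n`, and arithmetic of the exponents
(helper9)
-/

set_option autoImplicit false

namespace Groth.Agent.H9.QsC

open MvPolynomial QsChow

section arith

lemma log_div_spec (N D : ℕ) (hD : 0 < D) (hN : D ≤ N) :
    2 ^ Nat.log 2 (N / D) * D ≤ N ∧ N < 2 ^ (Nat.log 2 (N / D) + 1) * D := by
  have h0 : N / D ≠ 0 := by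
    rw [Nat.div_ne_zero_iff]
    exact ⟨by omega, hN⟩
  constructor
  · have := Nat.pow_log_le_self 2 h0
    exact (Nat.le_div_iff_mul_le hD).1 this
  · have := Nat.lt_pow_succ_log_self (by norm_num : 1 < 2) (N / D)
    exact (Nat.div_lt_iff_lt_mul hD).1 this

lemma log_div_eq (N D k : ℕ) (hD : 0 < D) (h1 : 2 ^ k * D ≤ N) (h2 : N < 2 ^ (k + 1) * D) :
    Nat.log 2 (N / D) = k := by
  apply Nat.log_eq_of_pow_le_of_lt_pow
  · exact (Nat.le_div_iff_mul_le hD).2 h1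
  · exact (Nat.div_lt_iff_lt_mul hD).2 h2

lemma odd_part_unique (x y D m : ℕ) (hD : Odd D) (hm : Odd m) (h : 2 ^ x * D = 2 ^ y * m) :
    D = m := by
  have cD : Nat.Coprime D (2 ^ y) := Nat.Coprime.pow_right y hD.coprime_two_right
  have cm : Nat.Coprime m (2 ^ x) := Nat.Coprime.pow_right x hm.coprime_two_right
  have h1 : D ∣ m := by
    apply cD.dvd_of_dvd_mul_left
    exact ⟨2 ^ x, by rw [← h]; ring⟩
  have h2 : m ∣ D := by
    apply cm.dvd_of_dvd_mul_left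
    exact ⟨2 ^ y, by rw [h]; ring⟩
  exact Nat.dvd_antisymm h1 h2

lemma odd_mul_pow_ne (D x r : ℕ) (hD : Odd D) (hD3 : 3 ≤ D) : 2 ^ x * D ≠ 2 ^ r := by
  intro h
  have := odd_part_unique x r D 1 hD odd_one (by rw [h, mul_one])
  omega

/-- if `n` is not a power of `2` then `k₂ = k'₂ + 1` -/
lemma klog_two_of_ne (n : ℕ) (hn : 2 ≤ n) (hne : ∀ t : ℕ, 2 ^ t ≠ n) :
    QsChow.klog n 2 = QsChow.kprime n 2 + 1 := by
  unfold QsChow.klog QsChow.kprime
  rw [if_neg (by norm_num), if_pos rfl]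
  have h1 : (2 * 2 - 3) = 1 := by norm_num
  rw [h1, Nat.div_one]
  have hn0 : n ≠ 0 := by omega
  have hlo := Nat.pow_log_le_self 2 hn0
  have hhi := Nat.lt_pow_succ_log_self (by norm_num : 1 < 2) n
  have hne' := hne (Nat.log 2 n)
  apply Nat.log_eq_of_pow_le_of_lt_pow
  · rw [pow_succ]
    omega
  · rw [pow_succ] at hhi ⊢
    rw [pow_succ]
    omega

lemma klog_two_lt_of_ne (n : ℕ) (hn : 2 ≤ n) (hne : ∀ t : ℕ, 2 ^ t ≠ n) :
    n < 2 ^ QsChow.klog n 2 := by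
  have h := klog_two_spec n hn
  have := hne (QsChow.klog n 2)
  omega

lemma odd_ne_pow (n : ℕ) (hn : 2 ≤ n) (hodd : Odd n) (t : ℕ) : 2 ^ t ≠ n := by
  intro h
  obtain ⟨m, hm⟩ := hodd
  rcases Nat.eq_zero_or_pos t with h0 | hpos
  · rw [h0, pow_zero] at h
    omega
  · obtain ⟨t', ht'⟩ : ∃ t', t = t' + 1 := ⟨t - 1, by omega⟩
    rw [ht', pow_succ] at h
    omega

/-- `k'_j = k_j` when `2^x (2j-3) ≠ n` for all `x` -/
lemma kprime_eq_klog (n j : ℕ) (hj3 : 3 ≤ j) (hjs : j ≤ QsChow.numVars n)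
    (hne : ∀ x : ℕ, 2 ^ x * (2 * j - 3) ≠ n) :
    QsChow.kprime n j = QsChow.klog n j ∧ n < (2 * j - 3) * 2 ^ QsChow.klog n j := by
  unfold QsChow.numVars at hjs
  have hD : 0 < 2 * j - 3 := by omega
  obtain ⟨h1, h2⟩ := log_div_spec (2 * n - 1) (2 * j - 3) hD (by omega)
  have hk : QsChow.klog n j = Nat.log 2 ((2 * n - 1) / (2 * j - 3)) := rfl
  rw [← hk] at h1 h2
  have hne' := hne (QsChow.klog n j)
  have e : 2 ^ (QsChow.klog n j + 1) * (2 * j - 3) =
      2 * (2 ^ QsChow.klog n j * (2 * j - 3)) := by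
    rw [pow_succ]; ring
  rw [e] at h2
  constructor
  · unfold QsChow.kprime
    rw [if_neg (by omega), if_neg (by omega)]
    apply log_div_eq _ _ _ hD
    · omega
    · rw [e]; omega
  · have e2 : (2 * j - 3) * 2 ^ QsChow.klog n j = 2 ^ QsChow.klog n j * (2 * j - 3) := by ring
    rw [e2]; omega

lemma kprime_odd (n j : ℕ) (hodd : Odd n) (hj3 : 3 ≤ j)
    (hjs : j ≤ QsChow.numVars n) :
    QsChow.kprime n j = QsChow.klog n j ∧ n < (2 * j - 3) * 2 ^ QsChow.klog n j := by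
  apply kprime_eq_klog n j hj3 hjs
  intro x h
  obtain ⟨m, hm⟩ := hodd
  unfold QsChow.numVars at hjs
  rcases Nat.eq_zero_or_pos x with h0 | hpos
  · rw [h0, pow_zero, one_mul] at h
    omega
  · obtain ⟨x', hx'⟩ : ∃ x', x = x' + 1 := ⟨x - 1, by omega⟩
    rw [hx', pow_succ] at h
    have e : 2 ^ x' * 2 * (2 * j - 3) = 2 * (2 ^ x' * (2 * j - 3)) := by ring
    rw [e] at h
    omega

/-- the case `n = 2^b` -/
lemma pow_basic (n b : ℕ) (hnb : n = 2 ^ b) :
    QsChow.klog n 2 = b ∧ QsChow.kprime n 1 = b ∧ QsChow.kprime n 2 = b := by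
  have hpos : 0 < 2 ^ b := Nat.two_pow_pos b
  refine ⟨?_, ?_, ?_⟩
  · unfold QsChow.klog
    have h1 : (2 * 2 - 3) = 1 := by norm_num
    rw [h1, Nat.div_one]
    apply Nat.log_eq_of_pow_le_of_lt_pow
    · omega
    · rw [pow_succ]; omega
  · unfold QsChow.kprime QsChow.twoExp
    rw [if_pos rfl, hnb]
    exact padicValNat.prime_pow b
  · unfold QsChow.kprime
    rw [if_neg (by norm_num), if_pos rfl, hnb]
    exact Nat.log_pow (by norm_num) b

lemma pow_case_arith (n b j : ℕ) (hb : 1 ≤ b) (hnb : n = 2 ^ b) (hj3 : 3 ≤ j)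
    (hjs : j ≤ QsChow.numVars n) :
    QsChow.kprime n j = QsChow.klog n j ∧ n < (2 * j - 3) * 2 ^ QsChow.klog n j ∧
      n ≤ (2 * j - 4) * 2 ^ QsChow.klog n j := by
  have hDodd : Odd (2 * j - 3) := ⟨j - 2, by omega⟩
  obtain ⟨hk, hlt⟩ := kprime_eq_klog n j hj3 hjs (by
    intro x
    rw [hnb]
    exact odd_mul_pow_ne _ _ _ hDodd (by omega))
  refine ⟨hk, hlt, ?_⟩
  have hpos : 0 < 2 ^ b := Nat.two_pow_pos b
  have hjs' := hjs
  unfold QsChow.numVars at hjs'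
  obtain ⟨h1, -⟩ := log_div_spec (2 * n - 1) (2 * j - 3) (by omega) (by omega)
  have hk' : QsChow.klog n j = Nat.log 2 ((2 * n - 1) / (2 * j - 3)) := rfl
  rw [← hk'] at h1
  have h3 : 2 ^ QsChow.klog n j * 3 ≤ 2 ^ QsChow.klog n j * (2 * j - 3) :=
    Nat.mul_le_mul_left _ (by omega)
  have hkb : QsChow.klog n j < b := by
    rw [← Nat.pow_lt_pow_iff_right (by norm_num : 1 < 2)]
    omega
  obtain ⟨c, hc⟩ : ∃ c, b = QsChow.klog n j + (c + 1) := ⟨b - QsChow.klog n j - 1, by omega⟩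
  have hpow : 2 ^ b = 2 ^ QsChow.klog n j * 2 ^ (c + 1) := by rw [hc, pow_add]
  have h4 : 2 ^ QsChow.klog n j * 2 ^ (c + 1) < 2 ^ QsChow.klog n j * (2 * j - 3) := by
    rw [← hpow, ← hnb, Nat.mul_comm (2 ^ QsChow.klog n j) (2 * j - 3)]
    exact hlt
  have h5 : 2 ^ (c + 1) < 2 * j - 3 := Nat.lt_of_mul_lt_mul_left h4
  have h6 : 2 ^ (c + 1) ≤ 2 * j - 4 := by omega
  calc n = 2 ^ (c + 1) * 2 ^ QsChow.klog n j := hnb.trans (hpow.trans (Nat.mul_comm _ _))
    _ ≤ (2 * j - 4) * 2 ^ QsChow.klog n j := Nat.mul_le_mul_right _ h6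

/-- the case `n = 2^a m`, `m ≥ 3` odd -/
lemma even_setup (n : ℕ) (hn : 2 ≤ n) (ha : 1 ≤ QsChow.twoExp n)
    (hne : n ≠ 2 ^ QsChow.twoExp n) :
    ∃ m, Odd m ∧ 3 ≤ m ∧ n = 2 ^ QsChow.twoExp n * m ∧ 2 * QsChow.lIdx n - 3 = m ∧
      3 ≤ QsChow.lIdx n ∧ QsChow.lIdx n ≤ QsChow.numVars n := by
  obtain ⟨m, hm⟩ : 2 ^ QsChow.twoExp n ∣ n := pow_padicValNat_dvd
  have hnd : ¬ 2 ^ (QsChow.twoExp n + 1) ∣ n := pow_succ_padicValNat_not_dvd (by omega)
  have hl : QsChow.lIdx n = (n / 2 ^ QsChow.twoExp n + 3) / 2 := rfl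
  generalize QsChow.twoExp n = a at *
  have hpos : 0 < 2 ^ a := Nat.two_pow_pos a
  have hdiv : n / 2 ^ a = m := by
    conv_lhs => rw [hm]
    exact Nat.mul_div_cancel_left m hpos
  have hmodd : Odd m := by
    rw [← Nat.not_even_iff_odd]
    rintro ⟨m', hm'⟩
    apply hnd
    exact ⟨m', hm.trans (by rw [hm', pow_succ]; ring)⟩
  have hm1 : m ≠ 1 := by
    intro h1
    apply hne
    rw [h1, mul_one] at hm
    exact hm
  obtain ⟨d, hd⟩ := hmodd
  have hd1 : 1 ≤ d := by omega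
  have hl2 : QsChow.lIdx n = d + 2 := by
    rw [hl, hdiv]; omega
  have h2a : 2 * m ≤ 2 ^ a * m := Nat.mul_le_mul_right m (by
    calc 2 = 2 ^ 1 := rfl
      _ ≤ 2 ^ a := Nat.pow_le_pow_right (by norm_num) ha)
  refine ⟨m, ⟨d, hd⟩, by omega, hm, by omega, by omega, ?_⟩
  unfold QsChow.numVars
  omega

lemma even_l_arith (n a m l : ℕ) (hm3 : 3 ≤ m) (hnm : n = 2 ^ a * m)
    (hl : 2 * l - 3 = m) (hl3 : 3 ≤ l) :
    QsChow.klog n l = a ∧ QsChow.kprime n l = a + 1 := by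
  have hpos : 0 < 2 ^ a * m := Nat.mul_pos (Nat.two_pow_pos a) (by omega)
  have e : 2 ^ (a + 1) * m = 2 * (2 ^ a * m) := by rw [pow_succ]; ring
  constructor
  · unfold QsChow.klog
    rw [hl]
    apply log_div_eq _ _ _ (by omega)
    · omega
    · rw [e]; omega
  · unfold QsChow.kprime
    rw [if_neg (by omega), if_neg (by omega), hl]
    apply log_div_eq _ _ _ (by omega)
    · rw [e]; omega
    · have e' : 2 ^ (a + 1 + 1) * m = 4 * (2 ^ a * m) := by rw [pow_succ, pow_succ]; ring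
      rw [e']; omega

lemma even_case_arith (n a m j : ℕ) (hm : Odd m) (hm3 : 3 ≤ m)
    (hnm : n = 2 ^ a * m) (hj3 : 3 ≤ j) (hjs : j ≤ QsChow.numVars n) (hjl : 2 * j - 3 ≠ m) :
    QsChow.kprime n j = QsChow.klog n j ∧ n < (2 * j - 3) * 2 ^ QsChow.klog n j ∧
      2 ^ a ≤ (2 * j - 4) * 2 ^ QsChow.klog n j := by
  have hDodd : Odd (2 * j - 3) := ⟨j - 2, by omega⟩
  obtain ⟨hk, hlt⟩ := kprime_eq_klog n j hj3 hjs (by
    intro x h
    exact hjl (odd_part_unique x a _ m hDodd hm (h.trans hnm)))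
  refine ⟨hk, hlt, ?_⟩
  have e1 : (2 * j - 3) * 2 ^ QsChow.klog n j =
      (2 * j - 4) * 2 ^ QsChow.klog n j + 2 ^ QsChow.klog n j := by
    have : 2 * j - 3 = (2 * j - 4) + 1 := by omega
    rw [this]; ring
  have e2 : 2 ^ QsChow.klog n j ≤ (2 * j - 4) * 2 ^ QsChow.klog n j :=
    Nat.le_mul_of_pos_left _ (by omega)
  have e3 : 2 ^ a * 3 ≤ 2 ^ a * m := Nat.mul_le_mul_left _ hm3
  omega

lemma even_k2_arith (n a m : ℕ) (hn : 2 ≤ n) (hm : Odd m) (hm3 : 3 ≤ m) (hnm : n = 2 ^ a * m) :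
    QsChow.klog n 2 = QsChow.kprime n 2 + 1 ∧ n + 2 ^ a ≤ 2 ^ QsChow.klog n 2 ∧
      2 ^ a ≤ 2 ^ QsChow.kprime n 2 := by
  have hne : ∀ t : ℕ, 2 ^ t ≠ n := fun t h =>
    odd_mul_pow_ne m a t hm hm3 (hnm.symm.trans h.symm)
  have hk := klog_two_of_ne n hn hne
  have hlt := klog_two_lt_of_ne n hn hne
  have hpos : 0 < 2 ^ a := Nat.two_pow_pos a
  have h1 : 2 ^ a * 3 ≤ 2 ^ a * m := Nat.mul_le_mul_left _ hm3
  refine ⟨hk, ?_, ?_⟩
  · have hak : a < QsChow.klog n 2 := by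
      rw [← Nat.pow_lt_pow_iff_right (by norm_num : 1 < 2)]
      omega
    obtain ⟨c, hc⟩ : ∃ c, QsChow.klog n 2 = a + c := ⟨QsChow.klog n 2 - a, by omega⟩
    rw [hc, pow_add] at hlt ⊢
    have h2 : 2 ^ a * m < 2 ^ a * 2 ^ c := by rw [← hnm]; exact hlt
    have h3 : m < 2 ^ c := Nat.lt_of_mul_lt_mul_left h2
    have h4 : 2 ^ a * (m + 1) ≤ 2 ^ a * 2 ^ c := Nat.mul_le_mul_left _ h3
    rw [mul_add, mul_one, ← hnm] at h4
    exact h4
  · have hhi := Nat.lt_pow_succ_log_self (by norm_num : 1 < 2) n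
    have hk2 : QsChow.kprime n 2 = Nat.log 2 n := by
      unfold QsChow.kprime
      rw [if_neg (by norm_num), if_pos rfl]
    rw [hk2]
    rw [pow_succ] at hhi
    omega

end arith

section odd

variable {n : ℕ}

lemma evar1_pow_mul_mem_span (m : ℕ) (hm : 1 ≤ m) (a : QsChow.FreeE n) :
    QsChow.evar n 1 ^ m * a ∈ Ideal.span {QsChow.evar n 1} := by
  obtain ⟨m', rfl⟩ : ∃ m', m = m' + 1 := ⟨m - 1, by omega⟩
  rw [pow_succ', mul_assoc]
  exact Ideal.mul_mem_right _ _ (Ideal.subset_span rfl)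

variable (hn : 2 ≤ n) (hodd : Odd n)
include hn hodd

lemma hrel_two_add_mem :
    QsChow.hrel n 2 + QsChow.evar n 2 ^ 2 ^ QsChow.kprime n 2 ∈
      Ideal.span {QsChow.evar n 1} := by
  have hne := odd_ne_pow n hn hodd
  have hk := klog_two_of_ne n hn hne
  have hlt := klog_two_lt_of_ne n hn hne
  unfold QsChow.hrel QsChow.sPoly
  rw [if_pos rfl, hk, Finset.sum_range_succ]
  rw [Nat.sub_self, pow_zero, one_mul]
  have e : ∀ A B C : QsChow.FreeE n, A + (B + C) + C = A + B := by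
    intro A B C
    rw [add_assoc, add_assoc, add_selfE, add_zero]
  rw [e]
  apply Ideal.add_mem
  · apply evar1_pow_mul_mem_span
    rw [hk] at hlt
    omega
  · apply Ideal.sum_mem
    intro t ht
    rw [Finset.mem_range] at ht
    apply evar1_pow_mul_mem_span
    have : 2 ^ (t + 1) < 2 ^ (QsChow.kprime n 2 + 1) :=
      Nat.pow_lt_pow_right (by norm_num) (by omega)
    omega

lemma hrel_add_mem (j : ℕ) (hj3 : 3 ≤ j) (hjs : j ≤ QsChow.numVars n) :
    QsChow.hrel n j + QsChow.evar n j ^ 2 ^ QsChow.kprime n j ∈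
      Ideal.span {QsChow.evar n 1} := by
  obtain ⟨hk, hlt⟩ := kprime_odd n j hodd hj3 hjs
  unfold QsChow.hrel
  rw [if_neg (by omega), if_pos ⟨hj3, hjs⟩, hk]
  have e : ∀ A B C : QsChow.FreeE n, A + B + C + A = B + C := by
    intro A B C
    have : A + B + C + A = (A + A) + (B + C) := by ring
    rw [this, add_selfE, zero_add]
  rw [e]
  apply Ideal.add_mem
  · apply evar1_pow_mul_mem_span
    omega
  · apply evar1_pow_mul_mem_span
    have h2 : 0 < 2 * j - 4 := by omega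
    have := Nat.mul_pos h2 (Nat.two_pow_pos (QsChow.klog n j))
    omega

lemma hrel_succ_add_mem (i : Fin (QsChow.numVars n)) (hi0 : i.val ≠ 0) :
    QsChow.hrel n (i.val + 1) + QsChow.evar n (i.val + 1) ^ 2 ^ QsChow.kprime n (i.val + 1) ∈
      Ideal.span {QsChow.evar n 1} := by
  by_cases hi1 : i.val = 1
  · rw [hi1]
    exact hrel_two_add_mem hn hodd
  · exact hrel_add_mem hn hodd (i.val + 1) (by omega) (by have := i.isLt; omega)

lemma presIdeal_le_oddIdeal : QsChow.presIdeal n ≤ QsChow.oddIdeal n := by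
  have h1 : QsChow.evar n 1 ∈ QsChow.oddIdeal n := Ideal.subset_span (Or.inl (Or.inl rfl))
  have hI : Ideal.span {QsChow.evar n 1} ≤ QsChow.oddIdeal n := by
    rw [Ideal.span_le]
    intro x hx
    rw [Set.mem_singleton_iff] at hx
    rw [hx]
    exact h1
  unfold QsChow.presIdeal
  rw [Ideal.span_le]
  rintro x (hx | ⟨i, rfl⟩)
  · rcases hx with rfl | rfl | rfl
    · have : QsChow.evar n 1 ^ n = QsChow.evar n 1 ^ n * 1 := (mul_one _).symm
      rw [this]
      exact hI (evar1_pow_mul_mem_span n (by omega) 1)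
    · exact Ideal.mul_mem_right _ _ h1
    · exact Ideal.subset_span (Or.inl (Or.inr rfl))
  · by_cases hi0 : i.val = 0
    · have : QsChow.hrel n (i.val + 1) = 0 := by
        unfold QsChow.hrel
        rw [if_neg (by omega), if_neg (by omega)]
      show QsChow.hrel n (i.val + 1) ∈ QsChow.oddIdeal n
      rw [this]
      exact Ideal.zero_mem _
    · have hgen : QsChow.evar n (i.val + 1) ^ 2 ^ QsChow.kprime n (i.val + 1) ∈
          QsChow.oddIdeal n := Ideal.subset_span (Or.inr ⟨i, rfl⟩)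
      have := Ideal.add_mem _ (hI (hrel_succ_add_mem hn hodd i hi0)) hgen
      rwa [add_assoc, add_selfE, add_zero] at this

lemma oddIdeal_le :
    QsChow.oddIdeal n ≤ Ideal.span {QsChow.evar n 1} ⊔ QsChow.presIdeal n := by
  unfold QsChow.oddIdeal
  rw [Ideal.span_le]
  rintro x (hx | ⟨i, rfl⟩)
  · rcases hx with rfl | rfl
    · exact Ideal.mem_sup_left (Ideal.subset_span rfl)
    · apply Ideal.mem_sup_right
      exact Ideal.subset_span (Or.inl (Or.inr (Or.inr rfl)))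
  · by_cases hi0 : i.val = 0
    · apply Ideal.mem_sup_left
      have e : i.val + 1 = 1 := by omega
      have : QsChow.evar n (i.val + 1) ^ 2 ^ QsChow.kprime n (i.val + 1) =
          QsChow.evar n 1 ^ 2 ^ QsChow.kprime n (i.val + 1) * 1 := by
        rw [mul_one]
        conv_lhs => rw [e]
        rw [e]
      show QsChow.evar n (i.val + 1) ^ 2 ^ QsChow.kprime n (i.val + 1) ∈ _
      rw [this]
      exact evar1_pow_mul_mem_span _ Nat.one_le_two_pow _
    · have hsub := hrel_succ_add_mem hn hodd i hi0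
      have hh : QsChow.hrel n (i.val + 1) ∈ QsChow.presIdeal n := hrel_mem i
      have := Ideal.add_mem _ (Ideal.mem_sup_left hsub)
        (Ideal.mem_sup_right hh : QsChow.hrel n (i.val + 1) ∈
          Ideal.span {QsChow.evar n 1} ⊔ QsChow.presIdeal n)
      have e : QsChow.hrel n (i.val + 1) +
          QsChow.evar n (i.val + 1) ^ 2 ^ QsChow.kprime n (i.val + 1) +
          QsChow.hrel n (i.val + 1) =
          QsChow.evar n (i.val + 1) ^ 2 ^ QsChow.kprime n (i.val + 1) := by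
        rw [add_comm (QsChow.hrel n (i.val + 1)), add_assoc, add_selfE, add_zero]
      rw [e] at this
      exact this

theorem odd_main (τ : QsChow.P n →ₐ[ZMod 2] QsChow.P n)
    (hτ1 : τ (QsChow.eps n 1) = QsChow.eps n 1)
    (hτ : ∀ j : ℕ, 2 ≤ j → j ≤ QsChow.numVars n →
      τ (QsChow.eps n j) = QsChow.eps n j + QsChow.eps n 1 ^ (2 * j - 3))
    (q : QsChow.FreeE n) :
    (∃ w : QsChow.P n, τ w = w ∧ QsChow.phi n q = QsChow.eps n 1 * w) ↔
      q ∈ QsChow.oddIdeal n := by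
  have hrange := range_phi_eq hn τ hτ1 hτ
  have hfix : ∀ w : QsChow.P n, τ w = w ↔ w ∈ (QsChow.phi n).range := by
    intro w
    rw [hrange, AlgHom.mem_equalizer, AlgHom.id_apply]
  constructor
  · rintro ⟨w, hw, hq⟩
    obtain ⟨r, rfl⟩ := (AlgHom.mem_range _).1 ((hfix w).1 hw)
    have hker : q + QsChow.evar n 1 * r ∈ RingHom.ker (QsChow.phi n) := by
      rw [RingHom.mem_ker, map_add, map_mul, phi_evar1 hn, hq]
      exact add_self n _
    rw [ker_phi_eq hn] at hker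
    have h1 := presIdeal_le_oddIdeal hn hodd hker
    have h2 : QsChow.evar n 1 * r ∈ QsChow.oddIdeal n :=
      Ideal.mul_mem_right _ _ (Ideal.subset_span (Or.inl (Or.inl rfl)))
    have := Ideal.add_mem _ h1 h2
    rwa [add_assoc, add_selfE, add_zero] at this
  · intro hq
    have := oddIdeal_le hn hodd hq
    obtain ⟨a, ha, b, hb, rfl⟩ := Submodule.mem_sup.1 this
    obtain ⟨r, rfl⟩ := Ideal.mem_span_singleton'.1 ha
    refine ⟨QsChow.phi n r, (hfix _).2 ((AlgHom.mem_range _).2 ⟨r, rfl⟩), ?_⟩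
    rw [← ker_phi_eq hn, RingHom.mem_ker] at hb
    rw [map_add, hb, add_zero, map_mul, phi_evar1 hn, mul_comm]

end odd

end Groth.Agent.H9.QsC
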