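import Mathlib
import Groth.Prelude.Def_W4c4chowquasisplitPn2
import Groth.Agent.Lib.Helper9.Misc.QsChowF

/-!
# Eliminating the variable `x`, and the case `n = 2^b` (helper9)
-/

set_option autoImplicit false

namespace Groth.Agent.H9.QsC

open MvPolynomial QsChow

section general

variable {n : ℕ}

lemma add_selfP (x : QsChow.FreeP n) : x + x = 0 := by
  have h : (2 : ZMod 2) = 0 := by decide
  calc x + x = (2 : ZMod 2) • x := (two_smul _ x).symm
    _ = 0 := by rw [h, zero_smul]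

lemma add_cancel_P (X Y : QsChow.FreeP n) : X + Y + X = Y := by
  rw [add_comm X Y, add_assoc, add_selfP, add_zero]

lemma sq_add_P (a b : QsChow.FreeP n) : (a + b) ^ 2 = a ^ 2 + b ^ 2 := by
  have : (a + b) ^ 2 = a ^ 2 + b ^ 2 + (a * b + a * b) := by ring
  rw [this, add_selfP, add_zero]

lemma sq_sum_P {ι : Type*} (s : Finset ι) (f : ι → QsChow.FreeP n) :
    (∑ i ∈ s, f i) ^ 2 = ∑ i ∈ s, f i ^ 2 := by
  classical
  induction s using Finset.induction_on with
  | empty => simp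
  | insert a s ha ih => rw [Finset.sum_insert ha, Finset.sum_insert ha, sq_add_P, ih]

/-- the inclusion of the polynomials without `x` -/
noncomputable def iota (n : ℕ) : QsChow.FreeP n →ₐ[ZMod 2] QsChow.FreeE n :=
  MvPolynomial.rename some

lemma phi_iota (p : QsChow.FreeP n) : QsChow.phi n (iota n p) = QsChow.psi n p := by
  unfold QsChow.phi QsChow.psi iota
  rw [MvPolynomial.aeval_rename]
  rfl

lemma iota_evarE (j : ℕ) : iota n (QsChow.evarE n j) = QsChow.evar n j := by
  unfold iota QsChow.evarE QsChow.evar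
  split_ifs with h
  · rw [rename_X]
  · rw [map_zero]

/-- the polynomial `S_j` without `x` -/
noncomputable def sPolyE (n j : ℕ) : QsChow.FreeP n :=
  ∑ t ∈ Finset.range (QsChow.klog n j),
    QsChow.evarE n 1 ^ (2 ^ QsChow.klog n j - 2 ^ (t + 1)) * QsChow.evarE n 2 ^ 2 ^ t

lemma iota_sPolyE (j : ℕ) : iota n (sPolyE n j) = QsChow.sPoly n j := by
  unfold sPolyE QsChow.sPoly
  rw [map_sum]
  apply Finset.sum_congr rfl
  intro t _
  rw [map_mul, map_pow, map_pow, iota_evarE, iota_evarE]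

/-- the retraction sending `x` to `T` -/
noncomputable def rho (n : ℕ) (T : QsChow.FreeP n) : QsChow.FreeE n →ₐ[ZMod 2] QsChow.FreeP n :=
  MvPolynomial.aeval (fun o : Option (Fin (QsChow.numVars n)) => o.elim T X)

variable (T : QsChow.FreeP n)

lemma rho_X_none : rho n T (X none) = T := by
  unfold rho
  rw [aeval_X]
  rfl

lemma rho_X_some (i : Fin (QsChow.numVars n)) : rho n T (X (some i)) = X i := by
  unfold rho
  rw [aeval_X]
  rfl

lemma rho_iota (p : QsChow.FreeP n) : rho n T (iota n p) = p := by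
  unfold rho iota
  rw [MvPolynomial.aeval_rename]
  exact aeval_X_left_apply p

lemma rho_evar (j : ℕ) : rho n T (QsChow.evar n j) = QsChow.evarE n j := by
  rw [← iota_evarE, rho_iota]

lemma rho_xvar : rho n T (QsChow.xvar n) = T := rho_X_none T

lemma rho_sPoly (j : ℕ) : rho n T (QsChow.sPoly n j) = sPolyE n j := by
  rw [← iota_sPolyE, rho_iota]

lemma rho_hrel_one : rho n T (QsChow.hrel n 1) = 0 := by
  have : QsChow.hrel n 1 = 0 := by
    unfold QsChow.hrel
    rw [if_neg (by omega), if_neg (by omega)]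
  rw [this, map_zero]

lemma rho_hrel_two : rho n T (QsChow.hrel n 2) =
    QsChow.evarE n 1 ^ (2 ^ QsChow.klog n 2 - n) * T + sPolyE n 2 := by
  unfold QsChow.hrel
  rw [if_pos rfl, map_add, map_mul, map_pow, rho_evar, rho_xvar, rho_sPoly]

lemma rho_hrel (j : ℕ) (hj3 : 3 ≤ j) (hjs : j ≤ QsChow.numVars n) :
    rho n T (QsChow.hrel n j) =
      QsChow.evarE n j ^ 2 ^ QsChow.klog n j +
        QsChow.evarE n 1 ^ ((2 * j - 3) * 2 ^ QsChow.klog n j - n) * T +
        QsChow.evarE n 1 ^ ((2 * j - 4) * 2 ^ QsChow.klog n j) * sPolyE n j := by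
  unfold QsChow.hrel
  rw [if_neg (by omega), if_pos ⟨hj3, hjs⟩, map_add, map_add, map_mul, map_mul, map_pow,
    map_pow, map_pow, rho_evar, rho_evar, rho_xvar, rho_sPoly]

variable (hn : 2 ≤ n) (hT : QsChow.psi n T = QsChow.eps n 1 ^ (n - 1) * QsChow.eps n 2)
include hn hT

lemma psi_rho (q : QsChow.FreeE n) : QsChow.psi n (rho n T q) = QsChow.phi n q := by
  have : (QsChow.psi n).comp (rho n T) = QsChow.phi n := by
    apply MvPolynomial.algHom_ext
    intro o
    cases o with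
    | none =>
      rw [AlgHom.comp_apply, rho_X_none, hT]
      exact (phi_xvar (n := n)).symm
    | some i =>
      rw [AlgHom.comp_apply, rho_X_some]
      unfold QsChow.psi QsChow.phi
      rw [aeval_X, aeval_X]
  rw [← this]
  rfl

lemma range_psi_eq : (QsChow.psi n).range = (QsChow.phi n).range := by
  apply le_antisymm
  · intro y hy
    obtain ⟨p, rfl⟩ := (AlgHom.mem_range _).1 hy
    exact (AlgHom.mem_range _).2 ⟨iota n p, phi_iota p⟩
  · intro y hy
    obtain ⟨q, rfl⟩ := (AlgHom.mem_range _).1 hy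
    exact (AlgHom.mem_range _).2 ⟨rho n T q, psi_rho T hn hT q⟩

lemma ker_psi_eq : RingHom.ker (QsChow.psi n) = Ideal.map (rho n T) (QsChow.presIdeal n) := by
  apply le_antisymm
  · intro p hp
    rw [RingHom.mem_ker] at hp
    have h1 : iota n p ∈ QsChow.presIdeal n := by
      rw [← ker_phi_eq hn, RingHom.mem_ker, phi_iota]
      exact hp
    have h2 := Ideal.mem_map_of_mem (rho n T) h1
    rwa [rho_iota] at h2
  · rw [Ideal.map_le_iff_le_comap]
    intro q hq
    rw [Ideal.mem_comap, RingHom.mem_ker, psi_rho T hn hT, ← RingHom.mem_ker, ker_phi_eq hn]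
    exact hq

lemma rho_mem_ker (g : QsChow.FreeE n) (hg : g ∈ QsChow.presIdeal n) :
    rho n T g ∈ RingHom.ker (QsChow.psi n) := by
  rw [ker_psi_eq T hn hT]
  exact Ideal.mem_map_of_mem _ hg

end general

section pow

variable {n : ℕ}

lemma gen_mem_pow (i : Fin (QsChow.numVars n)) :
    QsChow.evarE n (i.val + 1) ^ 2 ^ QsChow.kprime n (i.val + 1) ∈ QsChow.powIdeal n :=
  Ideal.subset_span (Or.inr ⟨i, rfl⟩)

variable (hn : 2 ≤ n) (b : ℕ) (hb : 1 ≤ b) (hnb : n = 2 ^ b)
include hn hb hnb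

lemma psi_sPolyE_two :
    QsChow.psi n (sPolyE n 2) = QsChow.eps n 1 ^ (n - 1) * QsChow.eps n 2 := by
  obtain ⟨hk2, -, -⟩ := pow_basic n b hnb
  rw [← phi_iota, iota_sPolyE, phi_sPoly hn, eps_pow_bound 2 le_rfl (one_lt_numVars hn),
    zero_add, hk2, ← hnb]

lemma e1n_mem_pow : QsChow.evarE n 1 ^ n ∈ QsChow.powIdeal n := by
  obtain ⟨-, hk1, -⟩ := pow_basic n b hnb
  have := gen_mem_pow (n := n) (⟨0, by unfold QsChow.numVars; omega⟩ : Fin (QsChow.numVars n))
  change QsChow.evarE n 1 ^ 2 ^ QsChow.kprime n 1 ∈ QsChow.powIdeal n at this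
  rw [hk1, ← hnb] at this
  exact this

lemma e2n_mem_pow : QsChow.evarE n 2 ^ n ∈ QsChow.powIdeal n := by
  obtain ⟨-, -, hk2'⟩ := pow_basic n b hnb
  have := gen_mem_pow (n := n) (⟨1, one_lt_numVars hn⟩ : Fin (QsChow.numVars n))
  change QsChow.evarE n 2 ^ 2 ^ QsChow.kprime n 2 ∈ QsChow.powIdeal n at this
  rw [hk2', ← hnb] at this
  exact this

lemma e1S_mem_pow : QsChow.evarE n 1 * sPolyE n 2 ∈ QsChow.powIdeal n := by
  obtain ⟨hk2, -, hk2'⟩ := pow_basic n b hnb
  unfold QsChow.powIdeal sPolyE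
  rw [show QsChow.klog n 2 = QsChow.kprime n 2 from hk2.trans hk2'.symm]
  exact Ideal.subset_span (Or.inl rfl)

lemma S_sq_mem_pow : sPolyE n 2 ^ 2 ∈ QsChow.powIdeal n := by
  obtain ⟨hk2, -, -⟩ := pow_basic n b hnb
  unfold sPolyE
  rw [sq_sum_P, hk2]
  apply Ideal.sum_mem
  intro t ht
  rw [Finset.mem_range] at ht
  rw [mul_pow, ← pow_mul, ← pow_mul]
  by_cases htb : t + 1 = b
  · have e1 : (2 ^ b - 2 ^ (t + 1)) * 2 = 0 := by rw [htb]; simp
    have e2 : 2 ^ t * 2 = n := by rw [← pow_succ, htb]; exact hnb.symm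
    rw [e1, e2, pow_zero, one_mul]
    exact e2n_mem_pow hn b hb hnb
  · have h1 : 2 ^ (t + 1) * 2 ≤ 2 ^ b := by
      rw [← pow_succ]
      exact Nat.pow_le_pow_right (by norm_num) (by omega)
    have hexp : n ≤ (2 ^ b - 2 ^ (t + 1)) * 2 := by omega
    obtain ⟨c, hc⟩ := Nat.exists_eq_add_of_le hexp
    rw [hc, pow_add, mul_assoc]
    exact Ideal.mul_mem_right _ _ (e1n_mem_pow hn b hb hnb)

lemma powIdeal_le_ker : QsChow.powIdeal n ≤ RingHom.ker (QsChow.psi n) := by
  obtain ⟨hk2, hk1, hk2'⟩ := pow_basic n b hnb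
  have hn1 : 1 ≤ n := by omega
  have he1 : QsChow.eps n 1 ^ n = 0 := eps1_pow n hn1
  have he2 : QsChow.eps n 2 ^ n = 0 := by
    have := eps_pow_bound (n := n) 2 le_rfl (one_lt_numVars hn)
    rwa [hk2, ← hnb] at this
  unfold QsChow.powIdeal
  rw [Ideal.span_le]
  rintro x (hx | ⟨i, rfl⟩)
  · rw [Set.mem_singleton_iff] at hx
    rw [hx, SetLike.mem_coe, RingHom.mem_ker]
    rw [show QsChow.kprime n 2 = QsChow.klog n 2 from hk2'.trans hk2.symm]
    change QsChow.psi n (QsChow.evarE n 1 * sPolyE n 2) = 0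
    rw [map_mul, psi_sPolyE_two hn b hb hnb, ← phi_iota, iota_evarE, phi_evar1 hn, ← mul_assoc,
      ← pow_succ']
    have : n - 1 + 1 = n := by omega
    rw [this, he1, zero_mul]
  · show QsChow.evarE n (i.val + 1) ^ 2 ^ QsChow.kprime n (i.val + 1) ∈
      RingHom.ker (QsChow.psi n)
    rw [RingHom.mem_ker, map_pow, ← phi_iota, iota_evarE]
    by_cases hi0 : i.val = 0
    · have e : i.val + 1 = 1 := by omega
      rw [e, phi_evar1 hn, hk1, ← hnb, he1]
    · by_cases hi1 : i.val = 1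
      · have e : i.val + 1 = 2 := by omega
        rw [e, phi_evar2 hn, hk2', pow_two_pow_add, ← pow_mul, mul_pow, ← hnb, he1, zero_mul,
          add_zero, mul_comm 2 n, pow_mul, he2]
        simp
      · obtain ⟨hk, hlt, hle⟩ := pow_case_arith n b (i.val + 1) hb hnb (by omega) i.isLt
        rw [phi_evar (i.val + 1) (by omega) i.isLt, hk, pow_two_pow_add,
          eps_pow_bound (i.val + 1) (by omega) i.isLt, zero_add, mul_pow, ← pow_mul,
          pow_eq_zero_of_le hle he1, zero_mul]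

lemma map_rho_le_pow :
    Ideal.map (rho n (sPolyE n 2)) (QsChow.presIdeal n) ≤ QsChow.powIdeal n := by
  obtain ⟨hk2, hk1, hk2'⟩ := pow_basic n b hnb
  rw [Ideal.map_le_iff_le_comap]
  unfold QsChow.presIdeal
  rw [Ideal.span_le]
  rintro x (hx | ⟨i, rfl⟩)
  · rcases hx with rfl | rfl | rfl
    · show rho n (sPolyE n 2) (QsChow.evar n 1 ^ n) ∈ QsChow.powIdeal n
      rw [map_pow, rho_evar]
      exact e1n_mem_pow hn b hb hnb
    · show rho n (sPolyE n 2) (QsChow.evar n 1 * QsChow.xvar n) ∈ QsChow.powIdeal n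
      rw [map_mul, rho_evar, rho_xvar]
      exact e1S_mem_pow hn b hb hnb
    · show rho n (sPolyE n 2) (QsChow.xvar n ^ 2) ∈ QsChow.powIdeal n
      rw [map_pow, rho_xvar]
      exact S_sq_mem_pow hn b hb hnb
  · show rho n (sPolyE n 2) (QsChow.hrel n (i.val + 1)) ∈ QsChow.powIdeal n
    by_cases hi0 : i.val = 0
    · have e : i.val + 1 = 1 := by omega
      rw [e, rho_hrel_one]
      exact Ideal.zero_mem _
    · by_cases hi1 : i.val = 1
      · have e : i.val + 1 = 2 := by omega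
        rw [e, rho_hrel_two, hk2, ← hnb, Nat.sub_self, pow_zero, one_mul, add_selfP]
        exact Ideal.zero_mem _
      · obtain ⟨hk, hlt, hle⟩ := pow_case_arith n b (i.val + 1) hb hnb (by omega) i.isLt
        rw [rho_hrel _ (i.val + 1) (by omega) i.isLt]
        apply Ideal.add_mem
        · apply Ideal.add_mem
          · rw [← hk]
            exact gen_mem_pow i
          · obtain ⟨c, hc⟩ : ∃ c, (2 * (i.val + 1) - 3) * 2 ^ QsChow.klog n (i.val + 1) - n =
                c + 1 :=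
              ⟨(2 * (i.val + 1) - 3) * 2 ^ QsChow.klog n (i.val + 1) - n - 1, by omega⟩
            rw [hc, pow_succ, mul_assoc]
            exact Ideal.mul_mem_left _ _ (e1S_mem_pow hn b hb hnb)
        · obtain ⟨c, hc⟩ := Nat.exists_eq_add_of_le hle
          rw [hc, pow_add, mul_assoc]
          exact Ideal.mul_mem_right _ _ (e1n_mem_pow hn b hb hnb)

theorem pow_main (τ : QsChow.P n →ₐ[ZMod 2] QsChow.P n)
    (hτ1 : τ (QsChow.eps n 1) = QsChow.eps n 1)
    (hτ : ∀ j : ℕ, 2 ≤ j → j ≤ QsChow.numVars n →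
      τ (QsChow.eps n j) = QsChow.eps n j + QsChow.eps n 1 ^ (2 * j - 3)) :
    (QsChow.psi n).range = AlgHom.equalizer τ (AlgHom.id (ZMod 2) (QsChow.P n)) ∧
      RingHom.ker (QsChow.psi n) = QsChow.powIdeal n := by
  have hT := psi_sPolyE_two hn b hb hnb
  constructor
  · rw [range_psi_eq (sPolyE n 2) hn hT]
    exact range_phi_eq hn τ hτ1 hτ
  · apply le_antisymm
    · rw [ker_psi_eq (sPolyE n 2) hn hT]
      exact map_rho_le_pow hn b hb hnb
    · exact powIdeal_le_ker hn b hb hnb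

end pow

end Groth.Agent.H9.QsC
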