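import Mathlib
import Groth.Prelude.Def_W4c4chowquasisplitPn2
import Groth.Agent.Lib.Helper9.Misc.QsChowG

/-!
# The case `n = 2^a m` with `m ≥ 3` odd (helper9)
-/

set_option autoImplicit false

namespace Groth.Agent.H9.QsC

open MvPolynomial QsChow

/-- the numerical data of the even case -/
structure EvenData (n a m l : ℕ) : Prop where
  hn : 2 ≤ n
  ha : 1 ≤ a
  hm : Odd m
  hm3 : 3 ≤ m
  hnm : n = 2 ^ a * m
  hl : 2 * l - 3 = m
  hl3 : 3 ≤ l
  hls : l ≤ QsChow.numVars n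
  hk1 : QsChow.kprime n 1 = a

/-- the image of `x` -/
noncomputable def Tev (n a l : ℕ) : QsChow.FreeP n :=
  QsChow.evarE n l ^ 2 ^ a + QsChow.evarE n 1 ^ ((2 * l - 4) * 2 ^ a) * sPolyE n l

/-- the ideal of the statement with `l` as a parameter -/
noncomputable def Eid (n l : ℕ) : Ideal (QsChow.FreeP n) :=
  Ideal.span ({QsChow.evarE n 1 * QsChow.evarE n l ^ 2 ^ (QsChow.kprime n l - 1)} ∪
    Set.range fun i : Fin (QsChow.numVars n) =>
      QsChow.evarE n (i.val + 1) ^ 2 ^ QsChow.kprime n (i.val + 1))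

noncomputable def Jid (n a : ℕ) : Ideal (QsChow.FreeP n) :=
  Ideal.span {QsChow.evarE n 1 ^ 2 ^ a}

noncomputable def Lid (n a l : ℕ) : Ideal (QsChow.FreeP n) :=
  Jid n a ⊔ Ideal.span {QsChow.evarE n 1 * Tev n a l}

section

variable {n a m l : ℕ}

lemma gen0_mem_J : QsChow.evarE n 1 ^ 2 ^ a ∈ Jid n a := by
  unfold Jid
  exact Ideal.subset_span rfl

lemma pow_mul_mem_J (e : ℕ) (he : 2 ^ a ≤ e) (c : QsChow.FreeP n) :
    QsChow.evarE n 1 ^ e * c ∈ Jid n a := by
  obtain ⟨d, rfl⟩ := Nat.exists_eq_add_of_le he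
  rw [pow_add, mul_assoc]
  exact Ideal.mul_mem_right _ _ gen0_mem_J

lemma pow_T_mem_L (e : ℕ) (he : 1 ≤ e) : QsChow.evarE n 1 ^ e * Tev n a l ∈ Lid n a l := by
  obtain ⟨e', rfl⟩ : ∃ e', e = e' + 1 := ⟨e - 1, by omega⟩
  unfold Lid
  rw [pow_succ, mul_assoc]
  exact Ideal.mem_sup_right (Ideal.mul_mem_left _ _ (Ideal.subset_span rfl))

lemma gen_mem_E (i : Fin (QsChow.numVars n)) :
    QsChow.evarE n (i.val + 1) ^ 2 ^ QsChow.kprime n (i.val + 1) ∈ Eid n l :=
  Ideal.subset_span (Or.inr ⟨i, rfl⟩)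

lemma gen_mem_E' (j : ℕ) (hj1 : 1 ≤ j) (hjs : j ≤ QsChow.numVars n) :
    QsChow.evarE n j ^ 2 ^ QsChow.kprime n j ∈ Eid n l := by
  have := gen_mem_E (n := n) (l := l) (⟨j - 1, by omega⟩ : Fin (QsChow.numVars n))
  change QsChow.evarE n (j - 1 + 1) ^ 2 ^ QsChow.kprime n (j - 1 + 1) ∈ Eid n l at this
  have e : j - 1 + 1 = j := by omega
  rw [e] at this
  exact this

variable (D : EvenData n a m l)
include D

lemma special_mem_E : QsChow.evarE n 1 * QsChow.evarE n l ^ 2 ^ a ∈ Eid n l := by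
  obtain ⟨-, hkl'⟩ := even_l_arith n a m l D.hm3 D.hnm D.hl D.hl3
  have : QsChow.evarE n 1 * QsChow.evarE n l ^ 2 ^ (QsChow.kprime n l - 1) ∈ Eid n l :=
    Ideal.subset_span (Or.inl rfl)
  have e : QsChow.kprime n l - 1 = a := by omega
  rwa [e] at this

lemma big_exp : 2 ^ a ≤ (2 * l - 4) * 2 ^ a :=
  Nat.le_mul_of_pos_left _ (by have := D.hl3; omega)

lemma e1T_add_mem_J :
    QsChow.evarE n 1 * Tev n a l + QsChow.evarE n 1 * QsChow.evarE n l ^ 2 ^ a ∈ Jid n a := by
  have e : QsChow.evarE n 1 * Tev n a l + QsChow.evarE n 1 * QsChow.evarE n l ^ 2 ^ a =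
      QsChow.evarE n 1 ^ ((2 * l - 4) * 2 ^ a + 1) * sPolyE n l := by
    unfold Tev
    have : ∀ A B C : QsChow.FreeP n, A * (B + C) + A * B = A * C := by
      intro A B C
      have : A * (B + C) + A * B = (A * B + A * B) + A * C := by ring
      rw [this, add_selfP, zero_add]
    rw [this, pow_succ]
    ring
  rw [e]
  apply pow_mul_mem_J
  have := big_exp D
  omega

lemma T_sq_add_mem_J :
    Tev n a l ^ 2 + QsChow.evarE n l ^ 2 ^ (a + 1) ∈ Jid n a := by
  have e : Tev n a l ^ 2 + QsChow.evarE n l ^ 2 ^ (a + 1) =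
      QsChow.evarE n 1 ^ ((2 * l - 4) * 2 ^ a * 2) * sPolyE n l ^ 2 := by
    unfold Tev
    rw [sq_add_P, ← pow_mul, ← pow_succ, mul_pow, ← pow_mul]
    exact add_cancel_P _ _
  rw [e]
  apply pow_mul_mem_J
  have := big_exp D
  omega

lemma rho_h2_add_mem_J :
    rho n (Tev n a l) (QsChow.hrel n 2) + QsChow.evarE n 2 ^ 2 ^ QsChow.kprime n 2 ∈
      Jid n a := by
  obtain ⟨hk, hge, hle⟩ := even_k2_arith n a m D.hn D.hm D.hm3 D.hnm
  rw [rho_hrel_two]
  unfold sPolyE
  rw [hk, Finset.sum_range_succ, Nat.sub_self, pow_zero, one_mul]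
  have e : ∀ A B C : QsChow.FreeP n, A + (B + C) + C = A + B := by
    intro A B C
    rw [add_assoc, add_assoc, add_selfP, add_zero]
  rw [e]
  apply Ideal.add_mem
  · apply pow_mul_mem_J
    rw [hk] at hge
    omega
  · apply Ideal.sum_mem
    intro t ht
    rw [Finset.mem_range] at ht
    apply pow_mul_mem_J
    have h1 : 2 ^ (t + 1) ≤ 2 ^ QsChow.kprime n 2 :=
      Nat.pow_le_pow_right (by norm_num) (by omega)
    rw [pow_succ 2 (QsChow.kprime n 2)]
    omega

lemma rho_hj_add_mem_L (j : ℕ) (hj3 : 3 ≤ j) (hjs : j ≤ QsChow.numVars n)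
    (hjl : 2 * j - 3 ≠ m) :
    rho n (Tev n a l) (QsChow.hrel n j) + QsChow.evarE n j ^ 2 ^ QsChow.kprime n j ∈
      Lid n a l := by
  obtain ⟨hk, hlt, hge⟩ := even_case_arith n a m j D.hm D.hm3 D.hnm hj3 hjs hjl
  rw [rho_hrel _ j hj3 hjs, hk]
  have e : ∀ A B C : QsChow.FreeP n, A + B + C + A = B + C := by
    intro A B C
    have : A + B + C + A = (A + A) + (B + C) := by ring
    rw [this, add_selfP, zero_add]
  rw [e]
  apply Ideal.add_mem
  · apply pow_T_mem_L
    omega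
  · unfold Lid
    exact Ideal.mem_sup_left (pow_mul_mem_J _ hge _)

lemma rho_hl : rho n (Tev n a l) (QsChow.hrel n l) = 0 := by
  obtain ⟨hkl, -⟩ := even_l_arith n a m l D.hm3 D.hnm D.hl D.hl3
  have e0 : (2 * l - 3) * 2 ^ a - n = 0 := by
    rw [D.hl, D.hnm, Nat.mul_comm m (2 ^ a)]
    exact Nat.sub_self _
  rw [rho_hrel _ l D.hl3 D.hls, hkl, e0, pow_zero, one_mul]
  unfold Tev
  have : ∀ A B : QsChow.FreeP n, A + (A + B) + B = 0 := by
    intro A B
    have : A + (A + B) + B = (A + A) + (B + B) := by ring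
    rw [this, add_selfP, add_selfP, add_zero]
  exact this _ _

lemma J_le_E : Jid n a ≤ Eid n l := by
  unfold Jid
  rw [Ideal.span_le]
  intro x hx
  rw [Set.mem_singleton_iff] at hx
  rw [hx]
  have := gen_mem_E' (n := n) (l := l) 1 le_rfl (by have := D.hls; have := D.hl3; omega)
  rw [D.hk1] at this
  exact this

lemma e1T_mem_E : QsChow.evarE n 1 * Tev n a l ∈ Eid n l := by
  have h1 := J_le_E D (e1T_add_mem_J D)
  have h2 := special_mem_E D
  have := Ideal.add_mem _ h1 h2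
  rwa [add_assoc, add_selfP, add_zero] at this

lemma L_le_E : Lid n a l ≤ Eid n l := by
  unfold Lid
  apply sup_le (J_le_E D)
  rw [Ideal.span_le]
  intro x hx
  rw [Set.mem_singleton_iff] at hx
  rw [hx]
  exact e1T_mem_E D

lemma map_rho_le_E :
    Ideal.map (rho n (Tev n a l)) (QsChow.presIdeal n) ≤ Eid n l := by
  rw [Ideal.map_le_iff_le_comap]
  unfold QsChow.presIdeal
  rw [Ideal.span_le]
  rintro x (hx | ⟨i, rfl⟩)
  · rcases hx with rfl | rfl | rfl
    · show rho n (Tev n a l) (QsChow.evar n 1 ^ n) ∈ Eid n l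
      rw [map_pow, rho_evar]
      have h : 2 ^ a ≤ n := by
        have h1 := D.hnm
        have h2 := D.hm3
        have h3 : 2 ^ a * 1 ≤ 2 ^ a * m := Nat.mul_le_mul_left _ (by omega)
        omega
      have := J_le_E D (pow_mul_mem_J (n := n) (a := a) n h 1)
      rwa [mul_one] at this
    · show rho n (Tev n a l) (QsChow.evar n 1 * QsChow.xvar n) ∈ Eid n l
      rw [map_mul, rho_evar, rho_xvar]
      exact e1T_mem_E D
    · show rho n (Tev n a l) (QsChow.xvar n ^ 2) ∈ Eid n l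
      rw [map_pow, rho_xvar]
      obtain ⟨-, hkl'⟩ := even_l_arith n a m l D.hm3 D.hnm D.hl D.hl3
      have hg := gen_mem_E' (n := n) (l := l) l (by have := D.hl3; omega) D.hls
      rw [hkl'] at hg
      have := Ideal.add_mem _ (J_le_E D (T_sq_add_mem_J D)) hg
      rwa [add_assoc, add_selfP, add_zero] at this
  · show rho n (Tev n a l) (QsChow.hrel n (i.val + 1)) ∈ Eid n l
    by_cases hi0 : i.val = 0
    · have e : i.val + 1 = 1 := by omega
      rw [e, rho_hrel_one]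
      exact Ideal.zero_mem _
    · by_cases hi1 : i.val = 1
      · have e : i.val + 1 = 2 := by omega
        rw [e]
        have hg := gen_mem_E' (n := n) (l := l) 2 (by norm_num) (one_lt_numVars D.hn)
        have := Ideal.add_mem _ (J_le_E D (rho_h2_add_mem_J D)) hg
        rwa [add_assoc, add_selfP, add_zero] at this
      · by_cases hil : 2 * (i.val + 1) - 3 = m
        · have e : i.val + 1 = l := by
            have h1 := D.hl
            have h2 := D.hl3
            omega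
          rw [e, rho_hl D]
          exact Ideal.zero_mem _
        · have hg := gen_mem_E (n := n) (l := l) i
          have := Ideal.add_mem _
            (L_le_E D (rho_hj_add_mem_L D (i.val + 1) (by omega) i.isLt hil)) hg
          rwa [add_assoc, add_selfP, add_zero] at this

lemma psi_Tev :
    QsChow.psi n (Tev n a l) = QsChow.eps n 1 ^ (n - 1) * QsChow.eps n 2 := by
  obtain ⟨hkl, -⟩ := even_l_arith n a m l D.hm3 D.hnm D.hl D.hl3
  have e0 : (2 * l - 3) * 2 ^ a - n = 0 := by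
    rw [D.hl, D.hnm, Nat.mul_comm m (2 ^ a)]
    exact Nat.sub_self _
  have hh : QsChow.hrel n l = iota n (Tev n a l) + QsChow.xvar n := by
    unfold QsChow.hrel
    rw [if_neg (by have := D.hl3; omega), if_pos ⟨D.hl3, D.hls⟩, hkl, e0, pow_zero, one_mul]
    unfold Tev
    rw [map_add, map_mul, map_pow, map_pow, iota_evarE, iota_evarE, iota_sPolyE]
    ring
  have h2 : iota n (Tev n a l) = QsChow.hrel n l + QsChow.xvar n := by
    rw [hh, add_assoc, add_selfE, add_zero]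
  rw [← phi_iota, h2, map_add, phi_hrel_all D.hn, zero_add, phi_xvar]

lemma E_le (hT : QsChow.psi n (Tev n a l) = QsChow.eps n 1 ^ (n - 1) * QsChow.eps n 2) :
    Eid n l ≤ Jid n a ⊔ RingHom.ker (QsChow.psi n) := by
  have hK : ∀ g ∈ QsChow.presIdeal n,
      rho n (Tev n a l) g ∈ Jid n a ⊔ RingHom.ker (QsChow.psi n) :=
    fun g hg => Ideal.mem_sup_right (rho_mem_ker _ D.hn hT g hg)
  have he1T : QsChow.evarE n 1 * Tev n a l ∈ Jid n a ⊔ RingHom.ker (QsChow.psi n) := by
    have := hK (QsChow.evar n 1 * QsChow.xvar n)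
      (Ideal.subset_span (Or.inl (Or.inr (Or.inl rfl))))
    rwa [map_mul, rho_evar, rho_xvar] at this
  have hL : Lid n a l ≤ Jid n a ⊔ RingHom.ker (QsChow.psi n) := by
    unfold Lid
    apply sup_le le_sup_left
    rw [Ideal.span_le]
    intro x hx
    rw [Set.mem_singleton_iff] at hx
    rw [hx]
    exact he1T
  have hJ : ∀ y, y ∈ Jid n a → y ∈ Jid n a ⊔ RingHom.ker (QsChow.psi n) :=
    fun y hy => Ideal.mem_sup_left hy
  unfold Eid
  rw [Ideal.span_le]
  rintro x (hx | ⟨i, rfl⟩)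
  · rw [Set.mem_singleton_iff] at hx
    rw [hx]
    show QsChow.evarE n 1 * QsChow.evarE n l ^ 2 ^ (QsChow.kprime n l - 1) ∈
      Jid n a ⊔ RingHom.ker (QsChow.psi n)
    obtain ⟨-, hkl'⟩ := even_l_arith n a m l D.hm3 D.hnm D.hl D.hl3
    have e : QsChow.kprime n l - 1 = a := by omega
    rw [e]
    have := Ideal.add_mem _ (hJ _ (e1T_add_mem_J D)) he1T
    rwa [add_cancel_P] at this
  · show QsChow.evarE n (i.val + 1) ^ 2 ^ QsChow.kprime n (i.val + 1) ∈
      Jid n a ⊔ RingHom.ker (QsChow.psi n)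
    by_cases hi0 : i.val = 0
    · have e : i.val + 1 = 1 := by omega
      rw [e, D.hk1]
      exact hJ _ gen0_mem_J
    · by_cases hi1 : i.val = 1
      · have e : i.val + 1 = 2 := by omega
        rw [e]
        have h2 := hK (QsChow.hrel n 2)
          (hrel_mem (n := n) (⟨1, one_lt_numVars D.hn⟩ : Fin (QsChow.numVars n)))
        have := Ideal.add_mem _ (hJ _ (rho_h2_add_mem_J D)) h2
        rwa [add_cancel_P] at this
      · by_cases hil : 2 * (i.val + 1) - 3 = m
        · have e : i.val + 1 = l := by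
            have h1 := D.hl
            have h2 := D.hl3
            omega
          rw [e]
          obtain ⟨-, hkl'⟩ := even_l_arith n a m l D.hm3 D.hnm D.hl D.hl3
          rw [hkl']
          have h2 := hK (QsChow.xvar n ^ 2) (Ideal.subset_span (Or.inl (Or.inr (Or.inr rfl))))
          rw [map_pow, rho_xvar] at h2
          have := Ideal.add_mem _ (hJ _ (T_sq_add_mem_J D)) h2
          rwa [add_cancel_P] at this
        · have h2 := hK (QsChow.hrel n (i.val + 1)) (hrel_mem i)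
          have := Ideal.add_mem _
            (hL (rho_hj_add_mem_L D (i.val + 1) (by omega) i.isLt hil)) h2
          rwa [add_cancel_P] at this

theorem even_main (τ : QsChow.P n →ₐ[ZMod 2] QsChow.P n)
    (hτ1 : τ (QsChow.eps n 1) = QsChow.eps n 1)
    (hτ : ∀ j : ℕ, 2 ≤ j → j ≤ QsChow.numVars n →
      τ (QsChow.eps n j) = QsChow.eps n j + QsChow.eps n 1 ^ (2 * j - 3)) :
    (∀ q : QsChow.FreeP n,
      (∃ w : QsChow.P n, τ w = w ∧ QsChow.psi n q = QsChow.eps n 1 ^ 2 ^ a * w) ↔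
        q ∈ Eid n l) ∧
    (∀ z : QsChow.P n, τ z = z → ∃ q : QsChow.FreeP n, ∃ w : QsChow.P n,
      τ w = w ∧ z = QsChow.psi n q + QsChow.eps n 1 ^ 2 ^ a * w) := by
  have hT := psi_Tev D
  have hrange : (QsChow.psi n).range = AlgHom.equalizer τ (AlgHom.id (ZMod 2) (QsChow.P n)) :=
    (range_psi_eq _ D.hn hT).trans (range_phi_eq D.hn τ hτ1 hτ)
  have hfix : ∀ w : QsChow.P n, τ w = w ↔ w ∈ (QsChow.psi n).range := by
    intro w
    rw [hrange, AlgHom.mem_equalizer, AlgHom.id_apply]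
  have hpsi1 : QsChow.psi n (QsChow.evarE n 1) = QsChow.eps n 1 := by
    rw [← phi_iota, iota_evarE, phi_evar1 D.hn]
  have hgen0 : QsChow.evarE n 1 ^ 2 ^ a ∈ Eid n l := J_le_E D gen0_mem_J
  constructor
  · intro q
    constructor
    · rintro ⟨w, hw, hq⟩
      obtain ⟨r, rfl⟩ := (AlgHom.mem_range _).1 ((hfix w).1 hw)
      have hker : q + QsChow.evarE n 1 ^ 2 ^ a * r ∈ RingHom.ker (QsChow.psi n) := by
        rw [RingHom.mem_ker, map_add, map_mul, map_pow, hpsi1, hq]
        exact add_self n _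
      rw [ker_psi_eq _ D.hn hT] at hker
      have h1 := map_rho_le_E D hker
      have h2 : QsChow.evarE n 1 ^ 2 ^ a * r ∈ Eid n l := Ideal.mul_mem_right _ _ hgen0
      have := Ideal.add_mem _ h1 h2
      rwa [add_assoc, add_selfP, add_zero] at this
    · intro hq
      have := E_le D hT hq
      obtain ⟨x, hx, y, hy, rfl⟩ := Submodule.mem_sup.1 this
      unfold Jid at hx
      obtain ⟨r, rfl⟩ := Ideal.mem_span_singleton'.1 hx
      refine ⟨QsChow.psi n r, (hfix _).2 ((AlgHom.mem_range _).2 ⟨r, rfl⟩), ?_⟩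
      rw [RingHom.mem_ker] at hy
      rw [map_add, hy, add_zero, map_mul, map_pow, hpsi1, mul_comm]
  · intro z hz
    obtain ⟨q, rfl⟩ := (AlgHom.mem_range _).1 ((hfix z).1 hz)
    exact ⟨q, 0, map_zero τ, by rw [mul_zero, add_zero]⟩

end

theorem even_result (n : ℕ) (hn : 2 ≤ n)
    (τ : QsChow.P n →ₐ[ZMod 2] QsChow.P n) (hτ1 : τ (QsChow.eps n 1) = QsChow.eps n 1)
    (hτ : ∀ j : ℕ, 2 ≤ j → j ≤ QsChow.numVars n →
      τ (QsChow.eps n j) = QsChow.eps n j + QsChow.eps n 1 ^ (2 * j - 3))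
    (ha : 1 ≤ QsChow.twoExp n) (hne : n ≠ 2 ^ QsChow.twoExp n) :
    (∀ q : QsChow.FreeP n,
      (∃ w : QsChow.P n, τ w = w ∧ QsChow.psi n q = QsChow.eps n 1 ^ 2 ^ QsChow.twoExp n * w) ↔
        q ∈ QsChow.evenIdeal n) ∧
    (∀ z : QsChow.P n, τ z = z → ∃ q : QsChow.FreeP n, ∃ w : QsChow.P n,
      τ w = w ∧ z = QsChow.psi n q + QsChow.eps n 1 ^ 2 ^ QsChow.twoExp n * w) := by
  obtain ⟨m, hm, hm3, hnm, hl, hl3, hls⟩ := even_setup n hn ha hne
  have D : EvenData n (QsChow.twoExp n) m (QsChow.lIdx n) :=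
    ⟨hn, ha, hm, hm3, hnm, hl, hl3, hls, by unfold QsChow.kprime; rw [if_pos rfl]⟩
  exact even_main D τ hτ1 hτ

end Groth.Agent.H9.QsC
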