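import Mathlib

set_option autoImplicit false
set_option linter.unusedSectionVars false
set_option linter.unusedVariables false
set_option linter.style.haveILetI false
universe u
namespace Groth.Agent.H9.QuartSing
open MvPolynomial
noncomputable section
variable {k : Type u} [Field k]

def ex (a b c : ℕ) : Fin 3 →₀ ℕ := Finsupp.single 0 a + Finsupp.single 1 b + Finsupp.single 2 c

lemma ex_apply0 (a b c : ℕ) : ex a b c 0 = a := by simp [ex, Finsupp.single_apply]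
lemma ex_apply1 (a b c : ℕ) : ex a b c 1 = b := by simp [ex, Finsupp.single_apply]
lemma ex_apply2 (a b c : ℕ) : ex a b c 2 = c := by simp [ex, Finsupp.single_apply]
lemma eq_ex (m : Fin 3 →₀ ℕ) : m = ex (m 0) (m 1) (m 2) := by
  ext i; fin_cases i <;> simp [ex, Finsupp.single_apply]
lemma degree_ex (a b c : ℕ) : (ex a b c).degree = a + b + c := by
  rw [ex, map_add, map_add, Finsupp.degree_single, Finsupp.degree_single, Finsupp.degree_single]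
lemma monomial_ex (a b c : ℕ) (r : k) :
    monomial (ex a b c) r = C r * X 0 ^ a * X 1 ^ b * X 2 ^ c := by
  rw [ex, monomial_add_single, monomial_add_single, ← C_mul_X_pow_eq_monomial]

theorem quartic_expand {g : MvPolynomial (Fin 3) k} (hg : g.IsHomogeneous 4) :
    g = ∑ i ∈ Finset.range 5, ∑ j ∈ Finset.range (5 - i),
        monomial (ex i j (4 - i - j)) (coeff (ex i j (4 - i - j)) g) := by
  ext m
  rw [coeff_sum]
  simp_rw [coeff_sum, coeff_monomial]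
  by_cases hm : m.degree = 4
  · have h4 : m 0 + m 1 + m 2 = 4 := by
      rw [Finsupp.degree_eq_sum, Fin.sum_univ_three] at hm; exact hm
    rw [Finset.sum_eq_single (m 0)]
    · rw [Finset.sum_eq_single (m 1)]
      · have h2 : 4 - m 0 - m 1 = m 2 := by omega
        have : ex (m 0) (m 1) (4 - m 0 - m 1) = m := by
          rw [h2]; exact (eq_ex m).symm
        rw [if_pos this, this]
      · intro j _ hj
        rw [if_neg]
        intro h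
        apply hj
        have := congrArg (fun e => e 1) h
        simp only [ex_apply1] at this
        exact this
      · intro h
        exfalso; apply h; rw [Finset.mem_range]; omega
    · intro i _ hi
      refine Finset.sum_eq_zero fun j _ => ?_
      rw [if_neg]
      intro h
      apply hi
      have := congrArg (fun e => e 0) h
      simp only [ex_apply0] at this
      exact this
    · intro h; exfalso; apply h; rw [Finset.mem_range]; omega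
  · rw [hg.coeff_eq_zero hm]
    symm
    refine Finset.sum_eq_zero fun i hi => Finset.sum_eq_zero fun j hj => ?_
    rw [if_neg]
    intro h
    apply hm
    rw [← h, degree_ex]
    rw [Finset.mem_range] at hi hj
    omega

def Q15 (c : ℕ → ℕ → k) : MvPolynomial (Fin 3) k :=
  C (c 4 0) * X 0 ^ 4 + C (c 3 1) * X 0 ^ 3 * X 1 + C (c 3 0) * X 0 ^ 3 * X 2 +
  C (c 2 2) * X 0 ^ 2 * X 1 ^ 2 + C (c 2 1) * X 0 ^ 2 * X 1 * X 2 + C (c 2 0) * X 0 ^ 2 * X 2 ^ 2 +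
  C (c 1 3) * X 0 * X 1 ^ 3 + C (c 1 2) * X 0 * X 1 ^ 2 * X 2 + C (c 1 1) * X 0 * X 1 * X 2 ^ 2 +
  C (c 1 0) * X 0 * X 2 ^ 3 + C (c 0 4) * X 1 ^ 4 + C (c 0 3) * X 1 ^ 3 * X 2 +
  C (c 0 2) * X 1 ^ 2 * X 2 ^ 2 + C (c 0 1) * X 1 * X 2 ^ 3 + C (c 0 0) * X 2 ^ 4

theorem exists_Q15 {g : MvPolynomial (Fin 3) k} (hg : g.IsHomogeneous 4) :
    ∃ c : ℕ → ℕ → k, g = Q15 c := by
  refine ⟨fun i j => coeff (ex i j (4 - i - j)) g, ?_⟩
  calc g = _ := quartic_expand hg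
    _ = _ := by
      simp only [Finset.sum_range_succ, Finset.sum_range_zero, monomial_ex, Q15]
      simp only [Nat.reduceSub, zero_add, pow_zero, pow_one, mul_one]
      ring

theorem eval_Q15 (c : ℕ → ℕ → k) (x : Fin 3 → k) : eval x (Q15 c) =
    c 4 0 * x 0 ^ 4 + c 3 1 * x 0 ^ 3 * x 1 + c 3 0 * x 0 ^ 3 * x 2 +
    c 2 2 * x 0 ^ 2 * x 1 ^ 2 + c 2 1 * x 0 ^ 2 * x 1 * x 2 + c 2 0 * x 0 ^ 2 * x 2 ^ 2 +
    c 1 3 * x 0 * x 1 ^ 3 + c 1 2 * x 0 * x 1 ^ 2 * x 2 + c 1 1 * x 0 * x 1 * x 2 ^ 2 +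
    c 1 0 * x 0 * x 2 ^ 3 + c 0 4 * x 1 ^ 4 + c 0 3 * x 1 ^ 3 * x 2 +
    c 0 2 * x 1 ^ 2 * x 2 ^ 2 + c 0 1 * x 1 * x 2 ^ 3 + c 0 0 * x 2 ^ 4 := by
  simp only [Q15, map_add, map_mul, map_pow, eval_C, eval_X]

theorem eval_pd0_Q15 (c : ℕ → ℕ → k) (x : Fin 3 → k) : eval x (pderiv 0 (Q15 c)) =
    4 * c 4 0 * x 0 ^ 3 + 3 * c 3 1 * x 0 ^ 2 * x 1 + 3 * c 3 0 * x 0 ^ 2 * x 2 +
    2 * c 2 2 * x 0 * x 1 ^ 2 + 2 * c 2 1 * x 0 * x 1 * x 2 + 2 * c 2 0 * x 0 * x 2 ^ 2 +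
    c 1 3 * x 1 ^ 3 + c 1 2 * x 1 ^ 2 * x 2 + c 1 1 * x 1 * x 2 ^ 2 + c 1 0 * x 2 ^ 3 := by
  simp only [Q15, map_add, Derivation.leibniz, Derivation.leibniz_pow, pderiv_C, pderiv_X,
    Pi.single_apply, smul_eq_mul, map_mul, map_pow, eval_C, eval_X, smul_zero, nsmul_eq_mul]
  simp
  ring


theorem eval_pd1_Q15 (c : ℕ → ℕ → k) (x : Fin 3 → k) : eval x (pderiv 1 (Q15 c)) =
    c 3 1 * x 0 ^ 3 + 2 * c 2 2 * x 0 ^ 2 * x 1 + c 2 1 * x 0 ^ 2 * x 2 +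
    3 * c 1 3 * x 0 * x 1 ^ 2 + 2 * c 1 2 * x 0 * x 1 * x 2 + c 1 1 * x 0 * x 2 ^ 2 +
    4 * c 0 4 * x 1 ^ 3 + 3 * c 0 3 * x 1 ^ 2 * x 2 + 2 * c 0 2 * x 1 * x 2 ^ 2 +
    c 0 1 * x 2 ^ 3 := by
  simp only [Q15, map_add, Derivation.leibniz, Derivation.leibniz_pow, pderiv_C, pderiv_X,
    Pi.single_apply, smul_eq_mul, map_mul, map_pow, eval_C, eval_X, smul_zero, nsmul_eq_mul]
  simp
  ring

theorem eval_pd2_Q15 (c : ℕ → ℕ → k) (x : Fin 3 → k) : eval x (pderiv 2 (Q15 c)) =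
    c 3 0 * x 0 ^ 3 + c 2 1 * x 0 ^ 2 * x 1 + 2 * c 2 0 * x 0 ^ 2 * x 2 +
    c 1 2 * x 0 * x 1 ^ 2 + 2 * c 1 1 * x 0 * x 1 * x 2 + 3 * c 1 0 * x 0 * x 2 ^ 2 +
    c 0 3 * x 1 ^ 3 + 2 * c 0 2 * x 1 ^ 2 * x 2 + 3 * c 0 1 * x 1 * x 2 ^ 2 +
    4 * c 0 0 * x 2 ^ 3 := by
  simp only [Q15, map_add, Derivation.leibniz, Derivation.leibniz_pow, pderiv_C, pderiv_X,
    Pi.single_apply, smul_eq_mul, map_mul, map_pow, eval_C, eval_X, smul_zero, nsmul_eq_mul]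
  simp
  ring

/-- singular point of the cone -/
def SingAt (f : MvPolynomial (Fin 3) k) (x : Fin 3 → k) : Prop :=
  eval x f = 0 ∧ ∀ i, eval x (pderiv i f) = 0

theorem not_isUnit_of_eval_zero {p : MvPolynomial (Fin 3) k}
    (h : eval (0 : Fin 3 → k) p = 0) : ¬ IsUnit p := by
  intro hu
  have := hu.map (eval (0 : Fin 3 → k))
  rw [h] at this
  exact not_isUnit_zero this

theorem vertex0 {c : ℕ → ℕ → k} (h : SingAt (Q15 c) ![1, 0, 0]) :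
    c 4 0 = 0 ∧ c 3 1 = 0 ∧ c 3 0 = 0 := by
  obtain ⟨h0, hd⟩ := h
  have h1 := hd 1
  have h2 := hd 2
  rw [eval_Q15] at h0
  rw [eval_pd1_Q15] at h1
  rw [eval_pd2_Q15] at h2
  simp at h0 h1 h2
  exact ⟨h0, h1, h2⟩

theorem vertex1 {c : ℕ → ℕ → k} (h : SingAt (Q15 c) ![0, 1, 0]) :
    c 0 4 = 0 ∧ c 1 3 = 0 ∧ c 0 3 = 0 := by
  obtain ⟨h0, hd⟩ := h
  have h1 := hd 0
  have h2 := hd 2
  rw [eval_Q15] at h0
  rw [eval_pd0_Q15] at h1
  rw [eval_pd2_Q15] at h2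
  simp at h0 h1 h2
  exact ⟨h0, h1, h2⟩

theorem vertex2 {c : ℕ → ℕ → k} (h : SingAt (Q15 c) ![0, 0, 1]) :
    c 0 0 = 0 ∧ c 1 0 = 0 ∧ c 0 1 = 0 := by
  obtain ⟨h0, hd⟩ := h
  have h1 := hd 0
  have h2 := hd 1
  rw [eval_Q15] at h0
  rw [eval_pd0_Q15] at h1
  rw [eval_pd1_Q15] at h2
  simp at h0 h1 h2
  exact ⟨h0, h1, h2⟩

section Sides
variable {c : ℕ → ℕ → k}

theorem s2_coeff (h40 : c 4 0 = 0) (h31 : c 3 1 = 0) (h30 : c 3 0 = 0)
    (h04 : c 0 4 = 0) (h13 : c 1 3 = 0) (h03 : c 0 3 = 0)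
    {w : Fin 3 → k} (hw2 : w 2 = 0) (hw0 : w 0 ≠ 0) (hw1 : w 1 ≠ 0)
    (hs : SingAt (Q15 c) w) : c 2 2 = 0 ∧ c 2 1 * w 0 + c 1 2 * w 1 = 0 := by
  have e1 := hs.1
  have e2 := hs.2 2
  have k1 : c 2 2 * (w 0 ^ 2 * w 1 ^ 2) = 0 := by
    rw [eval_Q15, hw2, h40, h31, h30, h04, h13, h03] at e1
    linear_combination e1
  have k2 : (w 0 * w 1) * (c 2 1 * w 0 + c 1 2 * w 1) = 0 := by
    rw [eval_pd2_Q15, hw2, h30, h03] at e2
    linear_combination e2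
  constructor
  · rcases mul_eq_zero.mp k1 with h | h
    · exact h
    · exact absurd h (mul_ne_zero (pow_ne_zero 2 hw0) (pow_ne_zero 2 hw1))
  · rcases mul_eq_zero.mp k2 with h | h
    · exact absurd h (mul_ne_zero hw0 hw1)
    · exact h

theorem s1_coeff (h40 : c 4 0 = 0) (h31 : c 3 1 = 0) (h30 : c 3 0 = 0)
    (h00 : c 0 0 = 0) (h10 : c 1 0 = 0) (h01 : c 0 1 = 0)
    {w : Fin 3 → k} (hw1 : w 1 = 0) (hw0 : w 0 ≠ 0) (hw2 : w 2 ≠ 0)
    (hs : SingAt (Q15 c) w) : c 2 0 = 0 ∧ c 2 1 * w 0 + c 1 1 * w 2 = 0 := by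
  have e1 := hs.1
  have e2 := hs.2 1
  have k1 : c 2 0 * (w 0 ^ 2 * w 2 ^ 2) = 0 := by
    rw [eval_Q15, hw1, h40, h30, h10, h00] at e1
    linear_combination e1
  have k2 : (w 0 * w 2) * (c 2 1 * w 0 + c 1 1 * w 2) = 0 := by
    rw [eval_pd1_Q15, hw1, h31, h01] at e2
    linear_combination e2
  constructor
  · rcases mul_eq_zero.mp k1 with h | h
    · exact h
    · exact absurd h (mul_ne_zero (pow_ne_zero 2 hw0) (pow_ne_zero 2 hw2))
  · rcases mul_eq_zero.mp k2 with h | h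
    · exact absurd h (mul_ne_zero hw0 hw2)
    · exact h

theorem s0_coeff (h04 : c 0 4 = 0) (h13 : c 1 3 = 0) (h03 : c 0 3 = 0)
    (h00 : c 0 0 = 0) (h10 : c 1 0 = 0) (h01 : c 0 1 = 0)
    {w : Fin 3 → k} (hw0 : w 0 = 0) (hw1 : w 1 ≠ 0) (hw2 : w 2 ≠ 0)
    (hs : SingAt (Q15 c) w) : c 0 2 = 0 ∧ c 1 2 * w 1 + c 1 1 * w 2 = 0 := by
  have e1 := hs.1
  have e2 := hs.2 0
  have k1 : c 0 2 * (w 1 ^ 2 * w 2 ^ 2) = 0 := by
    rw [eval_Q15, hw0, h04, h03, h01, h00] at e1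
    linear_combination e1
  have k2 : (w 1 * w 2) * (c 1 2 * w 1 + c 1 1 * w 2) = 0 := by
    rw [eval_pd0_Q15, hw0, h13, h10] at e2
    linear_combination e2
  constructor
  · rcases mul_eq_zero.mp k1 with h | h
    · exact h
    · exact absurd h (mul_ne_zero (pow_ne_zero 2 hw1) (pow_ne_zero 2 hw2))
  · rcases mul_eq_zero.mp k2 with h | h
    · exact absurd h (mul_ne_zero hw1 hw2)
    · exact h

theorem side2_false (hsq : Squarefree (Q15 c))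
    (h40 : c 4 0 = 0) (h31 : c 3 1 = 0) (h30 : c 3 0 = 0)
    (h04 : c 0 4 = 0) (h13 : c 1 3 = 0) (h03 : c 0 3 = 0)
    {w w' : Fin 3 → k} (hw2 : w 2 = 0) (hw2' : w' 2 = 0)
    (hw0 : w 0 ≠ 0) (hw1 : w 1 ≠ 0) (hw0' : w' 0 ≠ 0) (hw1' : w' 1 ≠ 0)
    (hdet : w 0 * w' 1 - w 1 * w' 0 ≠ 0)
    (hs : SingAt (Q15 c) w) (hs' : SingAt (Q15 c) w') : False := by
  obtain ⟨h22, l1⟩ := s2_coeff h40 h31 h30 h04 h13 h03 hw2 hw0 hw1 hs
  obtain ⟨-, l1'⟩ := s2_coeff h40 h31 h30 h04 h13 h03 hw2' hw0' hw1' hs'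
  have h21 : c 2 1 = 0 := by
    have : c 2 1 * (w 0 * w' 1 - w 1 * w' 0) = 0 := by
      linear_combination w' 1 * l1 - w 1 * l1'
    rcases mul_eq_zero.mp this with h | h
    · exact h
    · exact absurd h hdet
  have h12 : c 1 2 = 0 := by
    have : c 1 2 * (w 0 * w' 1 - w 1 * w' 0) = 0 := by
      linear_combination w 0 * l1' - w' 0 * l1
    rcases mul_eq_zero.mp this with h | h
    · exact h
    · exact absurd h hdet
  have hfac : Q15 c = X 2 * X 2 * (C (c 2 0) * X 0 ^ 2 + C (c 1 1) * X 0 * X 1 +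
      C (c 1 0) * X 0 * X 2 + C (c 0 2) * X 1 ^ 2 + C (c 0 1) * X 1 * X 2 +
      C (c 0 0) * X 2 ^ 2) := by
    rw [Q15, h40, h31, h30, h04, h13, h03, h22, h21, h12]
    simp only [map_zero]
    ring
  exact not_isUnit_of_eval_zero (by simp) (hsq (X 2) ⟨_, hfac⟩)

theorem side1_false (hsq : Squarefree (Q15 c))
    (h40 : c 4 0 = 0) (h31 : c 3 1 = 0) (h30 : c 3 0 = 0)
    (h00 : c 0 0 = 0) (h10 : c 1 0 = 0) (h01 : c 0 1 = 0)
    {w w' : Fin 3 → k} (hw1 : w 1 = 0) (hw1' : w' 1 = 0)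
    (hw0 : w 0 ≠ 0) (hw2 : w 2 ≠ 0) (hw0' : w' 0 ≠ 0) (hw2' : w' 2 ≠ 0)
    (hdet : w 0 * w' 2 - w 2 * w' 0 ≠ 0)
    (hs : SingAt (Q15 c) w) (hs' : SingAt (Q15 c) w') : False := by
  obtain ⟨h20, l1⟩ := s1_coeff h40 h31 h30 h00 h10 h01 hw1 hw0 hw2 hs
  obtain ⟨-, l1'⟩ := s1_coeff h40 h31 h30 h00 h10 h01 hw1' hw0' hw2' hs'
  have h21 : c 2 1 = 0 := by
    have : c 2 1 * (w 0 * w' 2 - w 2 * w' 0) = 0 := by
      linear_combination w' 2 * l1 - w 2 * l1'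
    rcases mul_eq_zero.mp this with h | h
    · exact h
    · exact absurd h hdet
  have h11 : c 1 1 = 0 := by
    have : c 1 1 * (w 0 * w' 2 - w 2 * w' 0) = 0 := by
      linear_combination w 0 * l1' - w' 0 * l1
    rcases mul_eq_zero.mp this with h | h
    · exact h
    · exact absurd h hdet
  have hfac : Q15 c = X 1 * X 1 * (C (c 2 2) * X 0 ^ 2 + C (c 1 3) * X 0 * X 1 +
      C (c 1 2) * X 0 * X 2 + C (c 0 4) * X 1 ^ 2 + C (c 0 3) * X 1 * X 2 +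
      C (c 0 2) * X 2 ^ 2) := by
    rw [Q15, h40, h31, h30, h00, h10, h01, h20, h21, h11]
    simp only [map_zero]
    ring
  exact not_isUnit_of_eval_zero (by simp) (hsq (X 1) ⟨_, hfac⟩)

theorem side0_false (hsq : Squarefree (Q15 c))
    (h04 : c 0 4 = 0) (h13 : c 1 3 = 0) (h03 : c 0 3 = 0)
    (h00 : c 0 0 = 0) (h10 : c 1 0 = 0) (h01 : c 0 1 = 0)
    {w w' : Fin 3 → k} (hw0 : w 0 = 0) (hw0' : w' 0 = 0)
    (hw1 : w 1 ≠ 0) (hw2 : w 2 ≠ 0) (hw1' : w' 1 ≠ 0) (hw2' : w' 2 ≠ 0)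
    (hdet : w 1 * w' 2 - w 2 * w' 1 ≠ 0)
    (hs : SingAt (Q15 c) w) (hs' : SingAt (Q15 c) w') : False := by
  obtain ⟨h02, l1⟩ := s0_coeff h04 h13 h03 h00 h10 h01 hw0 hw1 hw2 hs
  obtain ⟨-, l1'⟩ := s0_coeff h04 h13 h03 h00 h10 h01 hw0' hw1' hw2' hs'
  have h12 : c 1 2 = 0 := by
    have : c 1 2 * (w 1 * w' 2 - w 2 * w' 1) = 0 := by
      linear_combination w' 2 * l1 - w 2 * l1'
    rcases mul_eq_zero.mp this with h | h
    · exact h
    · exact absurd h hdet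
  have h11 : c 1 1 = 0 := by
    have : c 1 1 * (w 1 * w' 2 - w 2 * w' 1) = 0 := by
      linear_combination w 1 * l1' - w' 1 * l1
    rcases mul_eq_zero.mp this with h | h
    · exact h
    · exact absurd h hdet
  have hfac : Q15 c = X 0 * X 0 * (C (c 4 0) * X 0 ^ 2 + C (c 3 1) * X 0 * X 1 +
      C (c 3 0) * X 0 * X 2 + C (c 2 2) * X 1 ^ 2 + C (c 2 1) * X 1 * X 2 +
      C (c 2 0) * X 2 ^ 2) := by
    rw [Q15, h04, h13, h03, h00, h10, h01, h02, h12, h11]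
    simp only [map_zero]
    ring
  exact not_isUnit_of_eval_zero (by simp) (hsq (X 0) ⟨_, hfac⟩)

end Sides

section Conic

/-- ternary quadratic form -/
def qf (A B Cc D E F z0 z1 z2 : k) : k :=
  A * z0 ^ 2 + B * z1 ^ 2 + Cc * z2 ^ 2 + D * z1 * z2 + E * z0 * z2 + F * z0 * z1

/-- the linear form `det [y, p, z]` -/
def lf (y0 y1 y2 p0 p1 p2 z0 z1 z2 : k) : k :=
  (y1 * p2 - y2 * p1) * z0 + (y2 * p0 - y0 * p2) * z1 + (y0 * p1 - y1 * p0) * z2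

theorem conic_key (A B Cc D E F y0 y1 y2 p0 p1 p2 : k)
    (hq : qf A B Cc D E F y0 y1 y2 = 0)
    (g0 : 2 * A * y0 + F * y1 + E * y2 = 0) (g1 : F * y0 + 2 * B * y1 + D * y2 = 0)
    (g2 : E * y0 + D * y1 + 2 * Cc * y2 = 0)
    (hq' : qf A B Cc D E F p0 p1 p2 = 0)
    (g0' : 2 * A * p0 + F * p1 + E * p2 = 0) (g1' : F * p0 + 2 * B * p1 + D * p2 = 0)
    (g2' : E * p0 + D * p1 + 2 * Cc * p2 = 0) (z0 z1 z2 w0 w1 w2 : k) :
    (lf y0 y1 y2 p0 p1 p2 w0 w1 w2) ^ 2 * qf A B Cc D E F z0 z1 z2 =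
      (lf y0 y1 y2 p0 p1 p2 z0 z1 z2) ^ 2 * qf A B Cc D E F w0 w1 w2 := by
  simp only [qf] at hq hq'
  simp only [qf, lf]
  linear_combination
    (z0 * (p1 * w2 - p2 * w1) - z1 * (p0 * w2 - p2 * w0) + z2 * (p0 * w1 - p1 * w0)) ^ 2 * hq +
    (y0 * (z1 * w2 - z2 * w1) - y1 * (z0 * w2 - z2 * w0) + y2 * (z0 * w1 - z1 * w0)) ^ 2 * hq' +
    (z0 * (p1 * w2 - p2 * w1) - z1 * (p0 * w2 - p2 * w0) + z2 * (p0 * w1 - p1 * w0)) *
      (y0 * (z1 * w2 - z2 * w1) - y1 * (z0 * w2 - z2 * w0) + y2 * (z0 * w1 - z1 * w0)) *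
      (p0 * g0 + p1 * g1 + p2 * g2) +
    (z0 * (p1 * w2 - p2 * w1) - z1 * (p0 * w2 - p2 * w0) + z2 * (p0 * w1 - p1 * w0)) *
      ((y1 * p2 - y2 * p1) * z0 + (y2 * p0 - y0 * p2) * z1 + (y0 * p1 - y1 * p0) * z2) *
      (w0 * g0 + w1 * g1 + w2 * g2) +
    (y0 * (z1 * w2 - z2 * w1) - y1 * (z0 * w2 - z2 * w0) + y2 * (z0 * w1 - z1 * w0)) *
      ((y1 * p2 - y2 * p1) * z0 + (y2 * p0 - y0 * p2) * z1 + (y0 * p1 - y1 * p0) * z2) *
      (w0 * g0' + w1 * g1' + w2 * g2')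


theorem div_helper {a q L m : k} (hL : L ≠ 0) (h : L * a = m * q) : a = q / L * m := by
  rw [div_mul_eq_mul_div, eq_div_iff hL]
  linear_combination h

theorem conic_sq (A B Cc D E F y0 y1 y2 p0 p1 p2 : k)
    (hq : qf A B Cc D E F y0 y1 y2 = 0)
    (g0 : 2 * A * y0 + F * y1 + E * y2 = 0) (g1 : F * y0 + 2 * B * y1 + D * y2 = 0)
    (g2 : E * y0 + D * y1 + 2 * Cc * y2 = 0)
    (hq' : qf A B Cc D E F p0 p1 p2 = 0)
    (g0' : 2 * A * p0 + F * p1 + E * p2 = 0) (g1' : F * p0 + 2 * B * p1 + D * p2 = 0)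
    (g2' : E * p0 + D * p1 + 2 * Cc * p2 = 0)
    (hl : ¬ (y1 * p2 - y2 * p1 = 0 ∧ y2 * p0 - y0 * p2 = 0 ∧ y0 * p1 - y1 * p0 = 0)) :
    ∃ lam l0 l1 l2 : k, A = lam * l0 ^ 2 ∧ B = lam * l1 ^ 2 ∧ Cc = lam * l2 ^ 2 ∧
      D = lam * (2 * l1 * l2) ∧ E = lam * (2 * l0 * l2) ∧ F = lam * (2 * l0 * l1) := by
  have key := conic_key A B Cc D E F y0 y1 y2 p0 p1 p2 hq g0 g1 g2 hq' g0' g1' g2'
  have hex : ∃ w0 w1 w2 : k, lf y0 y1 y2 p0 p1 p2 w0 w1 w2 ≠ 0 := by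
    by_contra hcon
    push_neg at hcon
    apply hl
    have a0 := hcon 1 0 0
    have a1 := hcon 0 1 0
    have a2 := hcon 0 0 1
    simp only [lf, mul_one, mul_zero, add_zero, zero_add] at a0 a1 a2
    exact ⟨a0, a1, a2⟩
  obtain ⟨w0, w1, w2, hw⟩ := hex
  have hL := pow_ne_zero 2 hw
  have kA := key 1 0 0 w0 w1 w2
  have kB := key 0 1 0 w0 w1 w2
  have kC := key 0 0 1 w0 w1 w2
  have kD := key 0 1 1 w0 w1 w2
  have kE := key 1 0 1 w0 w1 w2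
  have kF := key 1 1 0 w0 w1 w2
  have hA : (lf y0 y1 y2 p0 p1 p2 w0 w1 w2) ^ 2 * A =
      (y1 * p2 - y2 * p1) ^ 2 * qf A B Cc D E F w0 w1 w2 := by
    simp only [qf, lf] at kA ⊢
    linear_combination kA
  have hB : (lf y0 y1 y2 p0 p1 p2 w0 w1 w2) ^ 2 * B =
      (y2 * p0 - y0 * p2) ^ 2 * qf A B Cc D E F w0 w1 w2 := by
    simp only [qf, lf] at kB ⊢
    linear_combination kB
  have hC : (lf y0 y1 y2 p0 p1 p2 w0 w1 w2) ^ 2 * Cc =
      (y0 * p1 - y1 * p0) ^ 2 * qf A B Cc D E F w0 w1 w2 := by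
    simp only [qf, lf] at kC ⊢
    linear_combination kC
  have hD : (lf y0 y1 y2 p0 p1 p2 w0 w1 w2) ^ 2 * D =
      (2 * (y2 * p0 - y0 * p2) * (y0 * p1 - y1 * p0)) * qf A B Cc D E F w0 w1 w2 := by
    simp only [qf, lf] at kB kC kD ⊢
    linear_combination kD - kB - kC
  have hE : (lf y0 y1 y2 p0 p1 p2 w0 w1 w2) ^ 2 * E =
      (2 * (y1 * p2 - y2 * p1) * (y0 * p1 - y1 * p0)) * qf A B Cc D E F w0 w1 w2 := by
    simp only [qf, lf] at kA kC kE ⊢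
    linear_combination kE - kA - kC
  have hF : (lf y0 y1 y2 p0 p1 p2 w0 w1 w2) ^ 2 * F =
      (2 * (y1 * p2 - y2 * p1) * (y2 * p0 - y0 * p2)) * qf A B Cc D E F w0 w1 w2 := by
    simp only [qf, lf] at kA kB kF ⊢
    linear_combination kF - kA - kB
  exact ⟨qf A B Cc D E F w0 w1 w2 / (lf y0 y1 y2 p0 p1 p2 w0 w1 w2) ^ 2,
    y1 * p2 - y2 * p1, y2 * p0 - y0 * p2, y0 * p1 - y1 * p0,
    div_helper hL hA, div_helper hL hB, div_helper hL hC, div_helper hL hD, div_helper hL hE,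
    div_helper hL hF⟩

end Conic

theorem forall_fin3 {P : Fin 3 → Prop} (h0 : P 0) (h1 : P 1) (h2 : P 2) : ∀ i, P i := by
  intro i
  fin_cases i
  exacts [h0, h1, h2]

theorem prop_of_cross {a b : Fin 3 → k} (ha : a ≠ 0) (c0 : a 1 * b 2 - a 2 * b 1 = 0)
    (c1 : a 2 * b 0 - a 0 * b 2 = 0) (c2 : a 0 * b 1 - a 1 * b 0 = 0) : ∃ t : k, b = t • a := by
  by_cases h0 : a 0 = 0
  · by_cases h1 : a 1 = 0
    · have h2 : a 2 ≠ 0 := by
        intro h2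
        apply ha
        exact funext (forall_fin3 (P := fun i => a i = (0 : Fin 3 → k) i) h0 h1 h2)
      refine ⟨b 2 / a 2, funext (forall_fin3 (P := fun i => b i = ((b 2 / a 2) • a) i) ?_ ?_ ?_)⟩
      · show b 0 = b 2 / a 2 * a 0
        rw [div_mul_eq_mul_div, eq_div_iff h2]
        linear_combination c1
      · show b 1 = b 2 / a 2 * a 1
        rw [div_mul_eq_mul_div, eq_div_iff h2]
        linear_combination (-1 : k) * c0
      · show b 2 = b 2 / a 2 * a 2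
        rw [div_mul_cancel₀ _ h2]
    · refine ⟨b 1 / a 1, funext (forall_fin3 (P := fun i => b i = ((b 1 / a 1) • a) i) ?_ ?_ ?_)⟩
      · show b 0 = b 1 / a 1 * a 0
        rw [div_mul_eq_mul_div, eq_div_iff h1]
        linear_combination (-1 : k) * c2
      · show b 1 = b 1 / a 1 * a 1
        rw [div_mul_cancel₀ _ h1]
      · show b 2 = b 1 / a 1 * a 2
        rw [div_mul_eq_mul_div, eq_div_iff h1]
        linear_combination c0
  · refine ⟨b 0 / a 0, funext (forall_fin3 (P := fun i => b i = ((b 0 / a 0) • a) i) ?_ ?_ ?_)⟩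
    · show b 0 = b 0 / a 0 * a 0
      rw [div_mul_cancel₀ _ h0]
    · show b 1 = b 0 / a 0 * a 1
      rw [div_mul_eq_mul_div, eq_div_iff h0]
      linear_combination c2
    · show b 2 = b 0 / a 0 * a 2
      rw [div_mul_eq_mul_div, eq_div_iff h0]
      linear_combination (-1 : k) * c1

section Tri
variable {c : ℕ → ℕ → k}

theorem off_false (hsq : Squarefree (Q15 c))
    (h40 : c 4 0 = 0) (h31 : c 3 1 = 0) (h30 : c 3 0 = 0)
    (h04 : c 0 4 = 0) (h13 : c 1 3 = 0) (h03 : c 0 3 = 0)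
    (h00 : c 0 0 = 0) (h10 : c 1 0 = 0) (h01 : c 0 1 = 0)
    {x x' : Fin 3 → k} (hx0 : x 0 ≠ 0) (hx1 : x 1 ≠ 0) (hx2 : x 2 ≠ 0)
    (hx0' : x' 0 ≠ 0) (hx1' : x' 1 ≠ 0) (hx2' : x' 2 ≠ 0)
    (hnp : ¬ ∃ t : k, x' = t • x)
    (hs : SingAt (Q15 c) x) (hs' : SingAt (Q15 c) x') : False := by
  have conic : ∀ {x : Fin 3 → k}, x 0 ≠ 0 → x 1 ≠ 0 → x 2 ≠ 0 → SingAt (Q15 c) x →
      qf (c 0 2) (c 2 0) (c 2 2) (c 2 1) (c 1 2) (c 1 1) (x 1 * x 2) (x 0 * x 2) (x 0 * x 1) = 0 ∧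
      2 * c 0 2 * (x 1 * x 2) + c 1 1 * (x 0 * x 2) + c 1 2 * (x 0 * x 1) = 0 ∧
      c 1 1 * (x 1 * x 2) + 2 * c 2 0 * (x 0 * x 2) + c 2 1 * (x 0 * x 1) = 0 ∧
      c 1 2 * (x 1 * x 2) + c 2 1 * (x 0 * x 2) + 2 * c 2 2 * (x 0 * x 1) = 0 := by
    intro x hx0 hx1 hx2 hs
    have e := hs.1
    have d0 := hs.2 0
    have d1 := hs.2 1
    have d2 := hs.2 2
    rw [eval_Q15, h40, h31, h30, h04, h13, h03, h00, h10, h01] at e
    rw [eval_pd0_Q15, h40, h31, h30, h13, h10] at d0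
    rw [eval_pd1_Q15, h31, h13, h04, h03, h01] at d1
    rw [eval_pd2_Q15, h30, h10, h03, h01, h00] at d2
    refine ⟨?_, ?_, ?_, ?_⟩
    · simp only [qf]
      linear_combination e
    · have : (x 1 * x 2) *
          (2 * c 0 2 * (x 1 * x 2) + c 1 1 * (x 0 * x 2) + c 1 2 * (x 0 * x 1)) = 0 := by
        linear_combination 2 * e - x 0 * d0
      rcases mul_eq_zero.mp this with h | h
      · exact absurd h (mul_ne_zero hx1 hx2)
      · exact h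
    · have : (x 0 * x 2) *
          (c 1 1 * (x 1 * x 2) + 2 * c 2 0 * (x 0 * x 2) + c 2 1 * (x 0 * x 1)) = 0 := by
        linear_combination 2 * e - x 1 * d1
      rcases mul_eq_zero.mp this with h | h
      · exact absurd h (mul_ne_zero hx0 hx2)
      · exact h
    · have : (x 0 * x 1) *
          (c 1 2 * (x 1 * x 2) + c 2 1 * (x 0 * x 2) + 2 * c 2 2 * (x 0 * x 1)) = 0 := by
        linear_combination 2 * e - x 2 * d2
      rcases mul_eq_zero.mp this with h | h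
      · exact absurd h (mul_ne_zero hx0 hx1)
      · exact h
  obtain ⟨hq, g0, g1, g2⟩ := conic hx0 hx1 hx2 hs
  obtain ⟨hq', g0', g1', g2'⟩ := conic hx0' hx1' hx2' hs'
  have hl : ¬ ((x 0 * x 2) * (x' 0 * x' 1) - (x 0 * x 1) * (x' 0 * x' 2) = 0 ∧
      (x 0 * x 1) * (x' 1 * x' 2) - (x 1 * x 2) * (x' 0 * x' 1) = 0 ∧
      (x 1 * x 2) * (x' 0 * x' 2) - (x 0 * x 2) * (x' 1 * x' 2) = 0) := by
    rintro ⟨a0, a1, a2⟩
    apply hnp
    have b0 : x 1 * x' 2 - x 2 * x' 1 = 0 := by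
      have : (x 0 * x' 0) * (x 1 * x' 2 - x 2 * x' 1) = 0 := by linear_combination (-1 : k) * a0
      rcases mul_eq_zero.mp this with h | h
      · exact absurd h (mul_ne_zero hx0 hx0')
      · exact h
    have b1 : x 2 * x' 0 - x 0 * x' 2 = 0 := by
      have : (x 1 * x' 1) * (x 2 * x' 0 - x 0 * x' 2) = 0 := by linear_combination (-1 : k) * a1
      rcases mul_eq_zero.mp this with h | h
      · exact absurd h (mul_ne_zero hx1 hx1')
      · exact h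
    have b2 : x 0 * x' 1 - x 1 * x' 0 = 0 := by
      have : (x 2 * x' 2) * (x 0 * x' 1 - x 1 * x' 0) = 0 := by linear_combination (-1 : k) * a2
      rcases mul_eq_zero.mp this with h | h
      · exact absurd h (mul_ne_zero hx2 hx2')
      · exact h
    exact prop_of_cross (fun h => hx0 (by rw [h]; rfl)) b0 b1 b2
  obtain ⟨lam, l0, l1, l2, hA, hB, hC, hD, hE, hF⟩ :=
    conic_sq _ _ _ _ _ _ _ _ _ _ _ _ hq g0 g1 g2 hq' g0' g1' g2' hl
  have hfac : Q15 c = (C l0 * X 1 * X 2 + C l1 * X 0 * X 2 + C l2 * X 0 * X 1) *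
      (C l0 * X 1 * X 2 + C l1 * X 0 * X 2 + C l2 * X 0 * X 1) * C lam := by
    rw [Q15, h40, h31, h30, h04, h13, h03, h00, h10, h01, hA, hB, hC, hD, hE, hF]
    simp only [map_zero, map_mul, map_pow, map_ofNat]
    ring
  exact not_isUnit_of_eval_zero (by simp) (hsq _ ⟨_, hfac⟩)

theorem all_four_false (hsq : Squarefree (Q15 c))
    (h40 : c 4 0 = 0) (h31 : c 3 1 = 0) (h30 : c 3 0 = 0)
    (h04 : c 0 4 = 0) (h13 : c 1 3 = 0) (h03 : c 0 3 = 0)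
    (h00 : c 0 0 = 0) (h10 : c 1 0 = 0) (h01 : c 0 1 = 0)
    (h22 : c 2 2 = 0) (h20 : c 2 0 = 0) (h02 : c 0 2 = 0)
    {d : Fin 3 → k} (hd0 : d 0 ≠ 0) (hd1 : d 1 ≠ 0) (hd2 : d 2 ≠ 0)
    (hs : SingAt (Q15 c) d) : False := by
  have e := hs.1
  have d0 := hs.2 0
  have d1 := hs.2 1
  have d2 := hs.2 2
  rw [eval_Q15, h40, h31, h30, h04, h13, h03, h00, h10, h01, h22, h20, h02] at e
  rw [eval_pd0_Q15, h40, h31, h30, h13, h10, h22, h20] at d0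
  rw [eval_pd1_Q15, h31, h13, h04, h03, h01, h22, h02] at d1
  rw [eval_pd2_Q15, h30, h10, h03, h01, h00, h20, h02] at d2
  have h21 : c 2 1 = 0 := by
    have : c 2 1 * (d 0 ^ 2 * d 1 * d 2) = 0 := by linear_combination d 0 * d0 - e
    rcases mul_eq_zero.mp this with h | h
    · exact h
    · exact absurd h (mul_ne_zero (mul_ne_zero (pow_ne_zero 2 hd0) hd1) hd2)
  have h12 : c 1 2 = 0 := by
    have : c 1 2 * (d 0 * d 1 ^ 2 * d 2) = 0 := by linear_combination d 1 * d1 - e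
    rcases mul_eq_zero.mp this with h | h
    · exact h
    · exact absurd h (mul_ne_zero (mul_ne_zero hd0 (pow_ne_zero 2 hd1)) hd2)
  have h11 : c 1 1 = 0 := by
    have : c 1 1 * (d 0 * d 1 * d 2 ^ 2) = 0 := by linear_combination d 2 * d2 - e
    rcases mul_eq_zero.mp this with h | h
    · exact h
    · exact absurd h (mul_ne_zero (mul_ne_zero hd0 hd1) (pow_ne_zero 2 hd2))
  have hz : Q15 c = 0 := by
    rw [Q15, h40, h31, h30, h04, h13, h03, h00, h10, h01, h22, h20, h02, h21, h12, h11]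
    simp
  rw [hz] at hsq
  exact not_squarefree_zero hsq

/-- at most one zero coordinate -/
def TwoNZ (x : Fin 3 → k) : Prop :=
  (x 0 ≠ 0 ∧ x 1 ≠ 0) ∨ (x 0 ≠ 0 ∧ x 2 ≠ 0) ∨ (x 1 ≠ 0 ∧ x 2 ≠ 0)

open Classical in
/-- the class of a point relative to the coordinate triangle -/
def cl (x : Fin 3 → k) : Fin 4 :=
  if x 0 = 0 then 0 else if x 1 = 0 then 1 else if x 2 = 0 then 2 else 3

theorem cl_eq_zero_iff (x : Fin 3 → k) : cl x = 0 ↔ x 0 = 0 := by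
  unfold cl
  split_ifs with h0 h1 h2 <;> simp [*]

theorem cl_eq_one_iff (x : Fin 3 → k) : cl x = 1 ↔ x 0 ≠ 0 ∧ x 1 = 0 := by
  unfold cl
  split_ifs with h0 h1 h2 <;> simp [*]

theorem cl_eq_two_iff (x : Fin 3 → k) : cl x = 2 ↔ x 0 ≠ 0 ∧ x 1 ≠ 0 ∧ x 2 = 0 := by
  unfold cl
  split_ifs with h0 h1 h2 <;> simp [*]

theorem cl_eq_three_iff (x : Fin 3 → k) : cl x = 3 ↔ x 0 ≠ 0 ∧ x 1 ≠ 0 ∧ x 2 ≠ 0 := by
  unfold cl
  split_ifs with h0 h1 h2 <;> simp [*]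

theorem fin4_cases (v : Fin 4) : v = 0 ∨ v = 1 ∨ v = 2 ∨ v = 3 := by
  revert v; decide

/-- counting lemma -/
theorem encard_le_of_no_inj {α : Type*} (S : Set α) (n : ℕ)
    (h : ∀ g : Fin (n + 1) → α, (∀ i, g i ∈ S) → Function.Injective g → False) :
    S.encard ≤ n := by
  by_contra hcon
  rw [not_le] at hcon
  have h1 : ((n + 1 : ℕ) : ℕ∞) ≤ S.encard := by
    have := Order.add_one_le_of_lt hcon
    simpa using this
  obtain ⟨t, hts, htc⟩ := Set.exists_subset_encard_eq h1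
  have htf : t.Finite := Set.finite_of_encard_eq_coe htc
  have hcard : htf.toFinset.card = n + 1 := by
    have := htf.encard_eq_coe_toFinset_card
    rw [htc] at this
    exact_mod_cast this.symm
  let e := Finset.equivFinOfCardEq hcard
  refine h (fun i => (e.symm i).1) (fun i => hts ?_) ?_
  · exact htf.mem_toFinset.mp (e.symm i).2
  · intro i j hij
    have : e.symm i = e.symm j := Subtype.ext hij
    exact e.symm.injective this

theorem tri_encard (hsq : Squarefree (Q15 c))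
    (hv0 : SingAt (Q15 c) ![1, 0, 0]) (hv1 : SingAt (Q15 c) ![0, 1, 0])
    (hv2 : SingAt (Q15 c) ![0, 0, 1])
    (Q : Set (Fin 3 → k)) (hQs : ∀ x ∈ Q, SingAt (Q15 c) x) (hQ2 : ∀ x ∈ Q, TwoNZ x)
    (hQnp : ∀ x ∈ Q, ∀ y ∈ Q, (∃ t : k, y = t • x) → x = y) : Q.encard ≤ 3 := by
  obtain ⟨h40, h31, h30⟩ := vertex0 hv0
  obtain ⟨h04, h13, h03⟩ := vertex1 hv1
  obtain ⟨h00, h10, h01⟩ := vertex2 hv2
  refine (encard_le_of_no_inj Q 3 ?_).trans (le_of_eq (by norm_num))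
  intro w hw hinj
  have hcl : Function.Injective (fun j => cl (w j)) := by
    intro j j' hjj
    by_contra hne
    have hxx : w j ≠ w j' := fun h => hne (hinj h)
    have hnp : ¬ ∃ t : k, w j' = t • w j := fun h => hxx (hQnp _ (hw j) _ (hw j') h)
    have hjj' : cl (w j) = cl (w j') := hjj
    have hnz : w j ≠ 0 := by
      intro h0
      rcases hQ2 _ (hw j) with ⟨a, -⟩ | ⟨a, -⟩ | ⟨a, -⟩
      · exact a (by rw [h0]; rfl)
      · exact a (by rw [h0]; rfl)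
      · exact a (by rw [h0]; rfl)
    rcases fin4_cases (cl (w j)) with e | e | e | e
    · have e' : cl (w j') = 0 := by rw [← hjj']; exact e
      rw [cl_eq_zero_iff] at e e'
      have hx : w j 1 ≠ 0 ∧ w j 2 ≠ 0 := by
        rcases hQ2 _ (hw j) with ⟨a, -⟩ | ⟨a, -⟩ | a
        · exact absurd e a
        · exact absurd e a
        · exact a
      have hx' : w j' 1 ≠ 0 ∧ w j' 2 ≠ 0 := by
        rcases hQ2 _ (hw j') with ⟨a, -⟩ | ⟨a, -⟩ | a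
        · exact absurd e' a
        · exact absurd e' a
        · exact a
      have hdet : w j 1 * w j' 2 - w j 2 * w j' 1 ≠ 0 := by
        intro hd
        exact hnp (prop_of_cross hnz hd (by rw [e, e']; ring) (by rw [e, e']; ring))
      exact side0_false hsq h04 h13 h03 h00 h10 h01 e e' hx.1 hx.2 hx'.1 hx'.2 hdet
        (hQs _ (hw j)) (hQs _ (hw j'))
    · have e' : cl (w j') = 1 := by rw [← hjj']; exact e
      rw [cl_eq_one_iff] at e e'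
      have hx : w j 2 ≠ 0 := by
        rcases hQ2 _ (hw j) with ⟨-, a⟩ | ⟨-, a⟩ | ⟨a, -⟩
        · exact absurd e.2 a
        · exact a
        · exact absurd e.2 a
      have hx' : w j' 2 ≠ 0 := by
        rcases hQ2 _ (hw j') with ⟨-, a⟩ | ⟨-, a⟩ | ⟨a, -⟩
        · exact absurd e'.2 a
        · exact a
        · exact absurd e'.2 a
      have hdet : w j 0 * w j' 2 - w j 2 * w j' 0 ≠ 0 := by
        intro hd
        exact hnp (prop_of_cross hnz (by rw [e.2, e'.2]; ring) (by linear_combination (-1 : k) * hd)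
          (by rw [e.2, e'.2]; ring))
      exact side1_false hsq h40 h31 h30 h00 h10 h01 e.2 e'.2 e.1 hx e'.1 hx' hdet
        (hQs _ (hw j)) (hQs _ (hw j'))
    · have e' : cl (w j') = 2 := by rw [← hjj']; exact e
      rw [cl_eq_two_iff] at e e'
      have hdet : w j 0 * w j' 1 - w j 1 * w j' 0 ≠ 0 := by
        intro hd
        exact hnp (prop_of_cross hnz (by rw [e.2.2, e'.2.2]; ring) (by rw [e.2.2, e'.2.2]; ring) hd)
      exact side2_false hsq h40 h31 h30 h04 h13 h03 e.2.2 e'.2.2 e.1 e.2.1 e'.1 e'.2.1 hdet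
        (hQs _ (hw j)) (hQs _ (hw j'))
    · have e' : cl (w j') = 3 := by rw [← hjj']; exact e
      rw [cl_eq_three_iff] at e e'
      exact off_false hsq h40 h31 h30 h04 h13 h03 h00 h10 h01 e.1 e.2.1 e.2.2 e'.1 e'.2.1 e'.2.2
        hnp (hQs _ (hw j)) (hQs _ (hw j'))
  have hsurj : Function.Surjective (fun j => cl (w j)) := Finite.injective_iff_surjective.mp hcl
  obtain ⟨j0, e0⟩ := hsurj 0
  obtain ⟨j1, e1⟩ := hsurj 1
  obtain ⟨j2, e2⟩ := hsurj 2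
  obtain ⟨j3, e3⟩ := hsurj 3
  have e0' : cl (w j0) = 0 := e0
  have e1' : cl (w j1) = 1 := e1
  have e2' : cl (w j2) = 2 := e2
  have e3' : cl (w j3) = 3 := e3
  rw [cl_eq_zero_iff] at e0'
  rw [cl_eq_one_iff] at e1'
  rw [cl_eq_two_iff] at e2'
  rw [cl_eq_three_iff] at e3'
  have hx0 : w j0 1 ≠ 0 ∧ w j0 2 ≠ 0 := by
    rcases hQ2 _ (hw j0) with ⟨a, -⟩ | ⟨a, -⟩ | a
    · exact absurd e0' a
    · exact absurd e0' a
    · exact a
  have hx1 : w j1 2 ≠ 0 := by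
    rcases hQ2 _ (hw j1) with ⟨-, a⟩ | ⟨-, a⟩ | ⟨a, -⟩
    · exact absurd e1'.2 a
    · exact a
    · exact absurd e1'.2 a
  have h02 := (s0_coeff h04 h13 h03 h00 h10 h01 e0' hx0.1 hx0.2 (hQs _ (hw j0))).1
  have h20 := (s1_coeff h40 h31 h30 h00 h10 h01 e1'.2 e1'.1 hx1 (hQs _ (hw j1))).1
  have h22 := (s2_coeff h40 h31 h30 h04 h13 h03 e2'.2.2 e2'.1 e2'.2.1 (hQs _ (hw j2))).1
  exact all_four_false hsq h40 h31 h30 h04 h13 h03 h00 h10 h01 h22 h20 h02 e3'.1 e3'.2.1 e3'.2.2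
    (hQs _ (hw j3))

end Tri

end
end Groth.Agent.H9.QuartSing
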