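import Mathlib
import Groth.Agent.Lib.Helper9.Misc.QuartSingA

/-! Helper9: a reduced plane quartic has at most six singular points (coordinate changes and the
count). -/

set_option autoImplicit false
set_option linter.unusedSectionVars false
set_option linter.unusedVariables false
set_option linter.style.haveILetI false

universe u

namespace Groth.Agent.H9.QuartSing

open MvPolynomial

noncomputable section

section Sigma
variable (k : Type u) [Field k] {n : ℕ}

/-- substitution `x_i ↦ Σ_j N i j x_j` on polynomials over `k` -/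
def sigma (N : Matrix (Fin n) (Fin n) k) : MvPolynomial (Fin n) k →ₐ[k] MvPolynomial (Fin n) k :=
  MvPolynomial.aeval fun i => ∑ j, MvPolynomial.C (N i j) * MvPolynomial.X j

lemma sigma_X (N : Matrix (Fin n) (Fin n) k) (i : Fin n) :
    sigma k N (MvPolynomial.X i) = ∑ j, MvPolynomial.C (N i j) * MvPolynomial.X j := by
  rw [sigma, MvPolynomial.aeval_X]

lemma sigma_comp (N N' : Matrix (Fin n) (Fin n) k) :
    (sigma k N).comp (sigma k N') = sigma k (N' * N) := by
  apply MvPolynomial.algHom_ext; intro i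
  rw [AlgHom.comp_apply, sigma_X, map_sum, sigma_X]
  simp_rw [map_mul, MvPolynomial.algHom_C, sigma_X, Finset.mul_sum]
  rw [Finset.sum_comm]
  refine Finset.sum_congr rfl fun j _ => ?_
  rw [Matrix.mul_apply, map_sum, Finset.sum_mul]
  refine Finset.sum_congr rfl fun l _ => ?_
  rw [map_mul, MvPolynomial.algebraMap_eq]
  ring

lemma sigma_one : sigma k (1 : Matrix (Fin n) (Fin n) k) = AlgHom.id k _ := by
  classical
  apply MvPolynomial.algHom_ext; intro i
  rw [sigma_X, AlgHom.id_apply, Finset.sum_eq_single i]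
  · rw [Matrix.one_apply_eq, map_one, one_mul]
  · intro j _ hj
    rw [Matrix.one_apply_ne hj.symm, map_zero, zero_mul]
  · intro hi; exact absurd (Finset.mem_univ i) hi

lemma eval_sigma (N : Matrix (Fin n) (Fin n) k) (u : Fin n → k) (p : MvPolynomial (Fin n) k) :
    MvPolynomial.eval u (sigma k N p) = MvPolynomial.eval (N.mulVec u) p := by
  have h : (MvPolynomial.aeval u : MvPolynomial (Fin n) k →ₐ[k] k).comp (sigma k N) =
      MvPolynomial.aeval (N.mulVec u) := by
    apply MvPolynomial.algHom_ext; intro i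
    rw [AlgHom.comp_apply, sigma_X, map_sum, MvPolynomial.aeval_X]
    simp only [map_mul, MvPolynomial.aeval_C, MvPolynomial.aeval_X, Algebra.algebraMap_self_apply,
      Matrix.mulVec, dotProduct]
  have h2 := congrArg (fun φ : MvPolynomial (Fin n) k →ₐ[k] k => φ p) h
  simp only [AlgHom.comp_apply] at h2
  exact h2

lemma pderiv_sigma_X (M : Matrix (Fin n) (Fin n) k) (i l : Fin n) :
    MvPolynomial.pderiv i (sigma k M (MvPolynomial.X l)) = MvPolynomial.C (M l i) := by
  classical
  rw [sigma_X, map_sum]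
  simp_rw [MvPolynomial.pderiv_C_mul, MvPolynomial.pderiv_X, Pi.single_apply]
  rw [Finset.sum_eq_single i]
  · rw [if_pos rfl, mul_one]
  · intro j _ hj
    rw [if_neg hj, mul_zero]
  · intro h; exact absurd (Finset.mem_univ i) h

theorem pderiv_sigma (M : Matrix (Fin n) (Fin n) k) (i : Fin n) (F : MvPolynomial (Fin n) k) :
    MvPolynomial.pderiv i (sigma k M F) =
      ∑ j, MvPolynomial.C (M j i) * sigma k M (MvPolynomial.pderiv j F) := by
  classical
  induction F using MvPolynomial.induction_on with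
  | C c =>
    have h1 : sigma k M (MvPolynomial.C c) = MvPolynomial.C c := by
      rw [sigma]; exact MvPolynomial.aeval_C _ c
    rw [h1, MvPolynomial.pderiv_C]
    simp
  | add p q hp hq =>
    simp only [map_add, hp, hq, mul_add, Finset.sum_add_distrib]
  | mul_X p l hp =>
    have hR : ∀ j, sigma k M (MvPolynomial.pderiv j (p * MvPolynomial.X l)) =
        sigma k M p * (if l = j then 1 else 0) +
          sigma k M (MvPolynomial.X l) * sigma k M (MvPolynomial.pderiv j p) := by
      intro j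
      rw [Derivation.leibniz, MvPolynomial.pderiv_X, smul_eq_mul, smul_eq_mul, map_add, map_mul,
        map_mul, Pi.single_apply]
      split_ifs <;> simp
    rw [map_mul, Derivation.leibniz, pderiv_sigma_X, hp, smul_eq_mul, smul_eq_mul]
    simp_rw [hR, mul_add, Finset.sum_add_distrib]
    have h1 : ∑ j, MvPolynomial.C (M j i) * (sigma k M p * (if l = j then 1 else 0)) =
        sigma k M p * MvPolynomial.C (M l i) := by
      rw [Finset.sum_eq_single l]
      · rw [if_pos rfl, mul_one, mul_comm]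
      · intro j _ hj
        rw [if_neg (Ne.symm hj), mul_zero, mul_zero]
      · intro h; exact absurd (Finset.mem_univ l) h
    rw [h1, Finset.mul_sum]
    congr 1
    refine Finset.sum_congr rfl fun j _ => ?_
    ring

theorem sigma_isHomogeneous (N : Matrix (Fin n) (Fin n) k) {f : MvPolynomial (Fin n) k} {d : ℕ}
    (hf : f.IsHomogeneous d) : (sigma k N f).IsHomogeneous d := by
  have := hf.aeval (fun i => ∑ j, MvPolynomial.C (N i j) * MvPolynomial.X j) (n := 1)
    (fun i => IsHomogeneous.sum _ _ _ (fun j _ => isHomogeneous_C_mul_X _ _))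
  simpa [sigma] using this

theorem squarefree_sigma (N N' : Matrix (Fin n) (Fin n) k) (h1 : N * N' = 1) (h2 : N' * N = 1)
    {f : MvPolynomial (Fin n) k} (hf : Squarefree f) : Squarefree (sigma k N f) := by
  have hcomp1 : ∀ p, sigma k N' (sigma k N p) = p := by
    intro p
    have h := congrArg (fun φ : MvPolynomial (Fin n) k →ₐ[k] MvPolynomial (Fin n) k => φ p)
      (sigma_comp k N' N)
    simp only [AlgHom.comp_apply] at h
    rw [h, h1, sigma_one]; rfl
  have hcomp2 : ∀ p, sigma k N (sigma k N' p) = p := by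
    intro p
    have h := congrArg (fun φ : MvPolynomial (Fin n) k →ₐ[k] MvPolynomial (Fin n) k => φ p)
      (sigma_comp k N N')
    simp only [AlgHom.comp_apply] at h
    rw [h, h2, sigma_one]; rfl
  intro a ha
  have hu : IsUnit (sigma k N' a) := by
    apply hf
    obtain ⟨b, hb⟩ := ha
    refine ⟨sigma k N' b, ?_⟩
    have e : sigma k N' (a * a * b) = sigma k N' a * sigma k N' a * sigma k N' b := by
      rw [map_mul, map_mul]
    rw [← e, ← hb, hcomp1]
  have := hu.map (sigma k N)
  rwa [hcomp2] at this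

end Sigma

variable {k : Type u} [Field k]

theorem singAt_sigma (N : Matrix (Fin 3) (Fin 3) k) (f : MvPolynomial (Fin 3) k) (u : Fin 3 → k)
    (h : SingAt f (N.mulVec u)) : SingAt (sigma k N f) u := by
  refine ⟨?_, fun i => ?_⟩
  · rw [eval_sigma]; exact h.1
  · rw [pderiv_sigma, map_sum]
    refine Finset.sum_eq_zero fun j _ => ?_
    rw [map_mul, eval_C, eval_sigma, h.2 j, mul_zero]

/-- explicit determinant -/
def det3 (a b c : Fin 3 → k) : k :=
  a 0 * (b 1 * c 2 - b 2 * c 1) - a 1 * (b 0 * c 2 - b 2 * c 0) + a 2 * (b 0 * c 1 - b 1 * c 0)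

/-- the matrix with the given columns -/
def colMat (a b c : Fin 3 → k) : Matrix (Fin 3) (Fin 3) k := Matrix.of fun i j => ![a, b, c] j i

theorem det_colMat (a b c : Fin 3 → k) : (colMat a b c).det = det3 a b c := by
  rw [Matrix.det_fin_three]
  simp [colMat, det3]
  ring

theorem colMat_mulVec (a b c u : Fin 3 → k) :
    (colMat a b c).mulVec u = u 0 • a + u 1 • b + u 2 • c := by
  funext i
  simp [colMat, Matrix.mulVec, dotProduct, Fin.sum_univ_three]
  ring

theorem vc_transfer {f : MvPolynomial (Fin 3) k} (hf : f.IsHomogeneous 4) (hsq : Squarefree f)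
    (P : Set (Fin 3 → k)) (hP0 : ∀ x ∈ P, x ≠ 0) (hPs : ∀ x ∈ P, SingAt f x)
    (hPnp : ∀ x ∈ P, ∀ y ∈ P, (∃ t : k, y = t • x) → x = y)
    (a b c' : Fin 3 → k) (hdet : det3 a b c' ≠ 0) :
    ∃ (c : ℕ → ℕ → k) (P' : Set (Fin 3 → k)), Squarefree (Q15 c) ∧ P.encard = P'.encard ∧
      (∀ u ∈ P', u ≠ 0) ∧ (∀ u ∈ P', SingAt (Q15 c) u) ∧
      (∀ u ∈ P', ∀ v ∈ P', (∃ t : k, v = t • u) → u = v) ∧
      (∀ u, u ∈ P' ↔ u 0 • a + u 1 • b + u 2 • c' ∈ P) := by
  have hNdet : IsUnit (colMat a b c').det := by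
    rw [det_colMat]; exact Ne.isUnit hdet
  have h1 : colMat a b c' * (colMat a b c')⁻¹ = 1 := Matrix.mul_nonsing_inv _ hNdet
  have h2 : (colMat a b c')⁻¹ * colMat a b c' = 1 := Matrix.nonsing_inv_mul _ hNdet
  have hg : (sigma k (colMat a b c') f).IsHomogeneous 4 := sigma_isHomogeneous k _ hf
  obtain ⟨c, hc⟩ := exists_Q15 hg
  have hinj : Function.Injective (colMat a b c').mulVec := by
    intro u v huv
    have := congrArg (colMat a b c')⁻¹.mulVec huv
    rw [Matrix.mulVec_mulVec, Matrix.mulVec_mulVec, h2, Matrix.one_mulVec, Matrix.one_mulVec] at this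
    exact this
  refine ⟨c, {u | (colMat a b c').mulVec u ∈ P}, ?_, ?_, ?_, ?_, ?_, ?_⟩
  · rw [← hc]; exact squarefree_sigma k _ _ h1 h2 hsq
  · have himg : (colMat a b c').mulVec '' {u | (colMat a b c').mulVec u ∈ P} = P := by
      ext x
      constructor
      · rintro ⟨u, hu, rfl⟩; exact hu
      · intro hx
        refine ⟨(colMat a b c')⁻¹.mulVec x, ?_, ?_⟩
        · show (colMat a b c').mulVec ((colMat a b c')⁻¹.mulVec x) ∈ P
          rw [Matrix.mulVec_mulVec, h1, Matrix.one_mulVec]; exact hx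
        · rw [Matrix.mulVec_mulVec, h1, Matrix.one_mulVec]
    conv_lhs => rw [← himg]
    exact hinj.encard_image _
  · intro u hu h0
    apply hP0 _ hu
    rw [h0]; exact Matrix.mulVec_zero _
  · intro u hu
    rw [← hc]; exact singAt_sigma _ f u (hPs _ hu)
  · rintro u hu v hv ⟨t, ht⟩
    apply hinj
    apply hPnp _ hu _ hv
    exact ⟨t, by rw [ht, Matrix.mulVec_smul]⟩
  · intro u
    show (colMat a b c').mulVec u ∈ P ↔ _
    rw [colMat_mulVec]

theorem eq_smul_e0 {u : Fin 3 → k} (h1 : u 1 = 0) (h2 : u 2 = 0) : u = u 0 • ![1, 0, 0] :=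
  funext (forall_fin3 (P := fun i => u i = (u 0 • (![1, 0, 0] : Fin 3 → k)) i)
    (by simp) (by simp [h1]) (by simp [h2]))

theorem eq_smul_e1 {u : Fin 3 → k} (h0 : u 0 = 0) (h2 : u 2 = 0) : u = u 1 • ![0, 1, 0] :=
  funext (forall_fin3 (P := fun i => u i = (u 1 • (![0, 1, 0] : Fin 3 → k)) i)
    (by simp [h0]) (by simp) (by simp [h2]))

theorem eq_smul_e2 {u : Fin 3 → k} (h0 : u 0 = 0) (h1 : u 1 = 0) : u = u 2 • ![0, 0, 1] :=
  funext (forall_fin3 (P := fun i => u i = (u 2 • (![0, 0, 1] : Fin 3 → k)) i)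
    (by simp [h0]) (by simp [h1]) (by simp))

theorem encard_pair_le' {α : Type*} (x y : α) : ({x, y} : Set α).encard ≤ 2 := by
  refine (Set.encard_insert_le _ _).trans ?_
  rw [Set.encard_singleton]
  exact le_of_eq one_add_one_eq_two

theorem encard_triple_le' {α : Type*} (x y z : α) : ({x, y, z} : Set α).encard ≤ 3 := by
  refine (Set.encard_insert_le _ _).trans ?_
  have := encard_pair_le' y z
  calc ({y, z} : Set α).encard + 1 ≤ 2 + 1 := add_le_add this le_rfl
    _ = 3 := by norm_num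

theorem vec_core {f : MvPolynomial (Fin 3) k} (hf : f.IsHomogeneous 4) (hsq : Squarefree f)
    (P : Set (Fin 3 → k)) (hP0 : ∀ x ∈ P, x ≠ 0) (hPs : ∀ x ∈ P, SingAt f x)
    (hPnp : ∀ x ∈ P, ∀ y ∈ P, (∃ t : k, y = t • x) → x = y) : P.encard ≤ 6 := by
  by_cases h1 : P.encard ≤ 1
  · exact h1.trans (by norm_num)
  rw [not_le] at h1
  obtain ⟨a, b, ha, hb, hab⟩ := Set.one_lt_encard_iff.mp h1
  have hex : ∃ w : Fin 3 → k, det3 a b w ≠ 0 := by
    by_contra hcon
    push_neg at hcon
    have c0 : a 1 * b 2 - a 2 * b 1 = 0 := by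
      have h := hcon ![1, 0, 0]
      simp [det3] at h
      first | linear_combination h | linear_combination (-1 : k) * h
    have c1 : a 2 * b 0 - a 0 * b 2 = 0 := by
      have h := hcon ![0, 1, 0]
      simp [det3] at h
      first | linear_combination h | linear_combination (-1 : k) * h
    have c2 : a 0 * b 1 - a 1 * b 0 = 0 := by
      have h := hcon ![0, 0, 1]
      simp [det3] at h
      first | linear_combination h | linear_combination (-1 : k) * h
    exact hab (hPnp a ha b hb (prop_of_cross (hP0 a ha) c0 c1 c2))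
  obtain ⟨w, hw⟩ := hex
  by_cases h2 : ∀ x ∈ P, det3 a b x = 0
  · -- all singular points on one line
    obtain ⟨c, P', hsq', hcard, hP0', hPs', hPnp', hmem⟩ :=
      vc_transfer hf hsq P hP0 hPs hPnp a b w hw
    have he0 : (![1, 0, 0] : Fin 3 → k) ∈ P' := by
      rw [hmem]; simpa using ha
    have he1 : (![0, 1, 0] : Fin 3 → k) ∈ P' := by
      rw [hmem]; simpa using hb
    have h3 : ∀ u ∈ P', u 2 = 0 := by
      intro u hu
      have := h2 _ ((hmem u).mp hu)
      have e : det3 a b (u 0 • a + u 1 • b + u 2 • w) = u 2 * det3 a b w := by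
        simp only [det3, Pi.add_apply, Pi.smul_apply, smul_eq_mul]; ring
      rw [e] at this
      rcases mul_eq_zero.mp this with h | h
      · exact h
      · exact absurd h hw
    obtain ⟨h40, h31, h30⟩ := vertex0 (hPs' _ he0)
    obtain ⟨h04, h13, h03⟩ := vertex1 (hPs' _ he1)
    rw [hcard]
    have hQ : (P' \ {![1, 0, 0], ![0, 1, 0]}).encard ≤ 1 := by
      rw [Set.encard_le_one_iff]
      intro u v hu hv
      by_contra huv
      have hu2 := h3 u hu.1
      have hv2 := h3 v hv.1
      have hu0 : u 0 ≠ 0 := by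
        intro h
        have : (![0, 1, 0] : Fin 3 → k) = u := hPnp' _ he1 _ hu.1 ⟨u 1, eq_smul_e1 h hu2⟩
        exact hu.2 (by rw [← this]; exact Set.mem_insert_of_mem _ rfl)
      have hu1 : u 1 ≠ 0 := by
        intro h
        have : (![1, 0, 0] : Fin 3 → k) = u := hPnp' _ he0 _ hu.1 ⟨u 0, eq_smul_e0 h hu2⟩
        exact hu.2 (by rw [← this]; exact Set.mem_insert _ _)
      have hv0 : v 0 ≠ 0 := by
        intro h
        have : (![0, 1, 0] : Fin 3 → k) = v := hPnp' _ he1 _ hv.1 ⟨v 1, eq_smul_e1 h hv2⟩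
        exact hv.2 (by rw [← this]; exact Set.mem_insert_of_mem _ rfl)
      have hv1 : v 1 ≠ 0 := by
        intro h
        have : (![1, 0, 0] : Fin 3 → k) = v := hPnp' _ he0 _ hv.1 ⟨v 0, eq_smul_e0 h hv2⟩
        exact hv.2 (by rw [← this]; exact Set.mem_insert _ _)
      have hdet : u 0 * v 1 - u 1 * v 0 ≠ 0 := by
        intro hd
        exact huv (hPnp' _ hu.1 _ hv.1 (prop_of_cross (hP0' _ hu.1)
          (by rw [hu2, hv2]; ring) (by rw [hu2, hv2]; ring) hd))
      exact side2_false hsq' h40 h31 h30 h04 h13 h03 hu2 hv2 hu0 hu1 hv0 hv1 hdet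
        (hPs' _ hu.1) (hPs' _ hv.1)
    have hsub : P' ⊆ {![1, 0, 0], ![0, 1, 0]} ∪ (P' \ {![1, 0, 0], ![0, 1, 0]}) := by
      intro u hu
      by_cases h : u ∈ ({![1, 0, 0], ![0, 1, 0]} : Set (Fin 3 → k))
      · exact Or.inl h
      · exact Or.inr ⟨hu, h⟩
    calc P'.encard ≤ _ := Set.encard_le_encard hsub
      _ ≤ ({![1, 0, 0], ![0, 1, 0]} : Set (Fin 3 → k)).encard +
          (P' \ {![1, 0, 0], ![0, 1, 0]}).encard := Set.encard_union_le _ _
      _ ≤ 2 + 1 := add_le_add (encard_pair_le' _ _) hQ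
      _ ≤ 6 := by norm_num
  · -- three non-collinear singular points
    push_neg at h2
    obtain ⟨c', hc'P, hc'⟩ := h2
    obtain ⟨c, P', hsq', hcard, hP0', hPs', hPnp', hmem⟩ :=
      vc_transfer hf hsq P hP0 hPs hPnp a b c' hc'
    have he0 : (![1, 0, 0] : Fin 3 → k) ∈ P' := by
      rw [hmem]; simpa using ha
    have he1 : (![0, 1, 0] : Fin 3 → k) ∈ P' := by
      rw [hmem]; simpa using hb
    have he2 : (![0, 0, 1] : Fin 3 → k) ∈ P' := by
      rw [hmem]; simpa using hc'P
    rw [hcard]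
    have hQ : (P' \ {![1, 0, 0], ![0, 1, 0], ![0, 0, 1]}).encard ≤ 3 := by
      refine tri_encard hsq' (hPs' _ he0) (hPs' _ he1) (hPs' _ he2) _
        (fun x hx => hPs' x hx.1) ?_ (fun x hx y hy h => hPnp' x hx.1 y hy.1 h)
      intro u hu
      by_contra hno
      unfold TwoNZ at hno
      push_neg at hno
      obtain ⟨n1, n2, n3⟩ := hno
      by_cases h0 : u 0 = 0
      · by_cases h1 : u 1 = 0
        · have : (![0, 0, 1] : Fin 3 → k) = u := hPnp' _ he2 _ hu.1 ⟨u 2, eq_smul_e2 h0 h1⟩
          exact hu.2 (by rw [← this]; simp)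
        · have h2' : u 2 = 0 := n3 h1
          have : (![0, 1, 0] : Fin 3 → k) = u := hPnp' _ he1 _ hu.1 ⟨u 1, eq_smul_e1 h0 h2'⟩
          exact hu.2 (by rw [← this]; simp)
      · have h1 : u 1 = 0 := n1 h0
        have h2' : u 2 = 0 := n2 h0
        have : (![1, 0, 0] : Fin 3 → k) = u := hPnp' _ he0 _ hu.1 ⟨u 0, eq_smul_e0 h1 h2'⟩
        exact hu.2 (by rw [← this]; simp)
    have hsub : P' ⊆ {![1, 0, 0], ![0, 1, 0], ![0, 0, 1]} ∪
        (P' \ {![1, 0, 0], ![0, 1, 0], ![0, 0, 1]}) := by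
      intro u hu
      by_cases h : u ∈ ({![1, 0, 0], ![0, 1, 0], ![0, 0, 1]} : Set (Fin 3 → k))
      · exact Or.inl h
      · exact Or.inr ⟨hu, h⟩
    calc P'.encard ≤ _ := Set.encard_le_encard hsub
      _ ≤ ({![1, 0, 0], ![0, 1, 0], ![0, 0, 1]} : Set (Fin 3 → k)).encard +
          (P' \ {![1, 0, 0], ![0, 1, 0], ![0, 0, 1]}).encard := Set.encard_union_le _ _
      _ ≤ 3 + 3 := add_le_add (encard_triple_le' _ _ _) hQ
      _ = 6 := by norm_num

theorem main (f : MvPolynomial (Fin 3) k) (hf : f.IsHomogeneous 4) (hred : Squarefree f) :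
    ∃ s : Finset (Projectivization k (Fin 3 → k)), s.card ≤ 6 ∧
      ∀ p : Projectivization k (Fin 3 → k),
        MvPolynomial.eval p.rep f = 0 →
          (∀ i : Fin 3, MvPolynomial.eval p.rep (MvPolynomial.pderiv i f) = 0) → p ∈ s := by
  classical
  have hinj : Function.Injective (fun p : Projectivization k (Fin 3 → k) => p.rep) := by
    intro p q h
    have h' : p.rep = q.rep := h
    rw [← p.mk_rep, ← q.mk_rep]
    congr 1
  have hle : ((fun p : Projectivization k (Fin 3 → k) => p.rep) ''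
      {p | SingAt f p.rep}).encard ≤ 6 := by
    refine vec_core hf hred _ ?_ ?_ ?_
    · rintro _ ⟨p, -, rfl⟩; exact p.rep_nonzero
    · rintro _ ⟨p, hp, rfl⟩; exact hp
    · rintro _ ⟨p, hp, rfl⟩ _ ⟨q, hq, rfl⟩ ⟨t, ht⟩
      have : q = p := by
        rw [← q.mk_rep, ← p.mk_rep, Projectivization.mk_eq_mk_iff']
        exact ⟨t, ht.symm⟩
      rw [this]
  rw [hinj.encard_image] at hle
  have hfin : {p : Projectivization k (Fin 3 → k) | SingAt f p.rep}.Finite :=
    Set.finite_of_encard_le_coe (k := 6) (by simpa using hle)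
  refine ⟨hfin.toFinset, ?_, ?_⟩
  · have := hfin.encard_eq_coe_toFinset_card
    rw [this] at hle
    exact_mod_cast hle
  · intro p h1 h2
    exact hfin.mem_toFinset.mpr ⟨h1, h2⟩

end
end Groth.Agent.H9.QuartSing
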