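import Mathlib

/-! Helper9: 3-secant lines of a rational quintic via binary forms (S19809). -/

namespace Groth.Agent.H9.Quin

open MvPolynomial Module

universe u

section
variable (K : Type u) [Field K]

abbrev H (n : ℕ) : Submodule K (MvPolynomial (Fin 2) K) := homogeneousSubmodule (Fin 2) K n

noncomputable def degEquiv (n : ℕ) : {d : Fin 2 →₀ ℕ | d.degree = n} ≃ Fin (n + 1) where
  toFun d := ⟨d.1 0, by
    have := d.2
    simp only [Set.mem_ofPred_eq, Finsupp.degree_eq_sum, Fin.sum_univ_two] at this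
    omega⟩
  invFun i := ⟨Finsupp.single 0 i.1 + Finsupp.single 1 (n - i.1), by
    have := i.2
    simp only [Set.mem_ofPred_eq, Finsupp.degree_eq_sum, Fin.sum_univ_two]
    simp
    omega⟩
  left_inv d := by
    have := d.2
    simp only [Set.mem_ofPred_eq, Finsupp.degree_eq_sum, Fin.sum_univ_two] at this
    ext i
    fin_cases i
    · simp
    · simp
      omega
  right_inv i := by
    ext
    simp

noncomputable instance (n : ℕ) : Fintype {d : Fin 2 →₀ ℕ | d.degree = n} := Fintype.ofEquiv _ (degEquiv n).symm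

lemma finrank_H (n : ℕ) : finrank K (H K n) = n + 1 := by
  have e : H K n ≃ₗ[K] ({d : Fin 2 →₀ ℕ | d.degree = n} →₀ K) := by
    exact (LinearEquiv.ofEq _ _ (homogeneousSubmodule_eq_finsupp_supported (Fin 2) K n)).trans
      (AddMonoidAlgebra.supportedEquivFinsupp (R := K) (S := K) {d : Fin 2 →₀ ℕ | d.degree = n})
  rw [e.finrank_eq, Module.finrank_finsupp_self, Fintype.card_congr (degEquiv n)]
  simp


variable {K}

noncomputable def dd (n i : ℕ) : Fin 2 →₀ ℕ := Finsupp.single 0 i + Finsupp.single 1 (n - i)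

lemma dd_degree {n i : ℕ} (hi : i ≤ n) : (dd n i).degree = n := by
  simp only [dd, Finsupp.degree_eq_sum, Fin.sum_univ_two]
  simp
  omega

lemma dd_eq {n : ℕ} {m : Fin 2 →₀ ℕ} (hm : m.degree = n) : dd n (m 0) = m := by
  simp only [Finsupp.degree_eq_sum, Fin.sum_univ_two] at hm
  ext i
  fin_cases i
  · simp [dd]
  · simp [dd]
    omega

lemma dd_inj {n i j : ℕ} (h : dd n i = dd n j) : i = j := by
  have := DFunLike.congr_fun h 0
  simpa [dd] using this

lemma monomial_dd (n i : ℕ) (a : K) :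
    monomial (dd n i) a = C a * X 0 ^ i * X 1 ^ (n - i) := by
  rw [monomial_eq, dd, Finsupp.prod_add_index' (by simp) (by intros; rw [pow_add]),
    Finsupp.prod_single_index (by simp), Finsupp.prod_single_index (by simp), mul_assoc]

lemma expand_hom {n : ℕ} {p : MvPolynomial (Fin 2) K} (hp : p.IsHomogeneous n) :
    p = ∑ i ∈ Finset.range (n + 1), monomial (dd n i) (coeff (dd n i) p) := by
  classical
  ext m
  rw [coeff_sum]
  simp only [coeff_monomial]
  by_cases hm : m.degree = n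
  · have hm0 : m 0 ≤ n := by
      simp only [Finsupp.degree_eq_sum, Fin.sum_univ_two] at hm
      omega
    rw [Finset.sum_eq_single (m 0)]
    · rw [if_pos (dd_eq hm), dd_eq hm]
    · intro j _ hj
      rw [if_neg]
      intro h
      rw [← dd_eq hm] at h
      exact hj (dd_inj h)
    · intro h
      exact absurd (Finset.mem_range.2 (Nat.lt_succ_of_le hm0)) h
  · rw [hp.coeff_eq_zero hm]
    symm
    apply Finset.sum_eq_zero
    intro j hj
    rw [if_neg]
    intro h
    apply hm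
    rw [← h]
    exact dd_degree (Nat.lt_succ_iff.1 (Finset.mem_range.1 hj))

lemma isHom_X_pow_mul (i j : ℕ) (a : K) :
    (C a * X (0 : Fin 2) ^ i * X 1 ^ j : MvPolynomial (Fin 2) K).IsHomogeneous (i + j) := by
  have h1 : (C a : MvPolynomial (Fin 2) K).IsHomogeneous 0 := isHomogeneous_C _ _
  have h2 : (X (0 : Fin 2) ^ i : MvPolynomial (Fin 2) K).IsHomogeneous i := by
    simpa using (isHomogeneous_X K (0 : Fin 2)).pow i
  have h3 : (X (1 : Fin 2) ^ j : MvPolynomial (Fin 2) K).IsHomogeneous j := by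
    simpa using (isHomogeneous_X K (1 : Fin 2)).pow j
  simpa using (h1.mul h2).mul h3

lemma isHom1 (a b : K) :
    (C a * X (0 : Fin 2) + C b * X 1 : MvPolynomial (Fin 2) K).IsHomogeneous 1 := by
  refine IsHomogeneous.add ?_ ?_
  · simpa using isHom_X_pow_mul 1 0 a
  · simpa using isHom_X_pow_mul 0 1 b

lemma isHom2 (a b c : K) :
    (C a * X (0 : Fin 2) ^ 2 + C b * X 0 * X 1 + C c * X 1 ^ 2 :
      MvPolynomial (Fin 2) K).IsHomogeneous 2 := by
  refine (IsHomogeneous.add ?_ ?_).add ?_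
  · simpa using isHom_X_pow_mul 2 0 a
  · simpa using isHom_X_pow_mul 1 1 b
  · simpa using isHom_X_pow_mul 0 2 c

lemma factor_explicit [IsAlgClosed K] (a0 a1 a2 a3 : K) :
    ∃ l q : MvPolynomial (Fin 2) K, l.IsHomogeneous 1 ∧ q.IsHomogeneous 2 ∧
      (C a0 * X 1 ^ 3 + C a1 * X 0 * X 1 ^ 2 + C a2 * X 0 ^ 2 * X 1 + C a3 * X 0 ^ 3 :
        MvPolynomial (Fin 2) K) = l * q := by
  by_cases h3 : a3 = 0
  · refine ⟨C 0 * X 0 + C 1 * X 1, C a2 * X 0 ^ 2 + C a1 * X 0 * X 1 + C a0 * X 1 ^ 2,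
      isHom1 _ _, isHom2 _ _ _, ?_⟩
    rw [h3]
    simp only [map_zero, map_one]
    ring
  · let P : Polynomial K := Polynomial.C a3 * Polynomial.X ^ 3 + Polynomial.C a2 * Polynomial.X ^ 2
      + Polynomial.C a1 * Polynomial.X + Polynomial.C a0
    have hdeg : P.degree = 3 := Polynomial.degree_cubic h3
    obtain ⟨x0, hx0⟩ := IsAlgClosed.exists_root P (by rw [hdeg]; norm_num)
    have hroot : a3 * x0 ^ 3 + a2 * x0 ^ 2 + a1 * x0 + a0 = 0 := by
      simpa [P, Polynomial.IsRoot] using hx0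
    have hC := congrArg (C : K → MvPolynomial (Fin 2) K) hroot
    simp only [map_add, map_mul, map_pow, map_zero] at hC
    refine ⟨C 1 * X 0 + C (-x0) * X 1, C a3 * X 0 ^ 2 + C (a2 + a3 * x0) * X 0 * X 1 +
      C (a1 + a2 * x0 + a3 * x0 ^ 2) * X 1 ^ 2, isHom1 _ _, isHom2 _ _ _, ?_⟩
    simp only [map_add, map_mul, map_pow, map_neg, map_one]
    linear_combination (X 1 ^ 3) * hC

lemma cubic_factor [IsAlgClosed K] {g : MvPolynomial (Fin 2) K} (hg : g.IsHomogeneous 3) :
    ∃ l q : MvPolynomial (Fin 2) K, l.IsHomogeneous 1 ∧ q.IsHomogeneous 2 ∧ g = l * q := by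
  have hexp := expand_hom hg
  simp only [Finset.sum_range_succ, Finset.sum_range_zero, zero_add, monomial_dd] at hexp
  obtain ⟨l, q, hl, hq, h⟩ := factor_explicit (coeff (dd 3 0) g) (coeff (dd 3 1) g)
    (coeff (dd 3 2) g) (coeff (dd 3 3) g)
  refine ⟨l, q, hl, hq, ?_⟩
  rw [← h]
  refine hexp.trans ?_
  norm_num


lemma exists_functionals {E : Type*} [AddCommGroup E] [Module K E] (W V : Submodule K E)
    (hVW : V ≤ W) [FiniteDimensional K W] (h : finrank K W = finrank K V + 2) :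
    ∃ φ1 φ2 : E →ₗ[K] K, ∀ w ∈ W, (w ∈ V ↔ φ1 w = 0 ∧ φ2 w = 0) := by
  set V' : Submodule K W := V.comap W.subtype with hV'
  have h1 : finrank K V' = finrank K V := (Submodule.comapSubtypeEquivOfLe hVW).finrank_eq
  have h2 : finrank K (W ⧸ V') = 2 := by
    have := Submodule.finrank_quotient_add_finrank V'
    omega
  let b : Basis (Fin 2) K (W ⧸ V') := finBasisOfFinrankEq K _ h2
  obtain ⟨φ1, hφ1⟩ := LinearMap.exists_extend ((b.coord 0) ∘ₗ V'.mkQ)
  obtain ⟨φ2, hφ2⟩ := LinearMap.exists_extend ((b.coord 1) ∘ₗ V'.mkQ)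
  refine ⟨φ1, φ2, ?_⟩
  intro w hw
  have e1 : φ1 w = b.coord 0 (V'.mkQ ⟨w, hw⟩) := by
    have := LinearMap.congr_fun hφ1 ⟨w, hw⟩
    simpa using this
  have e2 : φ2 w = b.coord 1 (V'.mkQ ⟨w, hw⟩) := by
    have := LinearMap.congr_fun hφ2 ⟨w, hw⟩
    simpa using this
  have e3 : w ∈ V ↔ V'.mkQ ⟨w, hw⟩ = 0 := by
    rw [Submodule.mkQ_apply, Submodule.Quotient.mk_eq_zero]
    simp [hV']
  rw [e3, e1, e2, ← b.forall_coord_eq_zero_iff]
  constructor
  · intro hh
    exact ⟨hh 0, hh 1⟩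
  · rintro ⟨h0, h1⟩ i
    fin_cases i
    · exact h0
    · exact h1


lemma mulLeft_inj {g : MvPolynomial (Fin 2) K} (hg : g ≠ 0) :
    Function.Injective (LinearMap.mulLeft K g) := fun _ _ h => mul_left_cancel₀ hg h

lemma finrank_map_mulLeft {g : MvPolynomial (Fin 2) K} (hg : g ≠ 0)
    (S : Submodule K (MvPolynomial (Fin 2) K)) :
    finrank K (S.map (LinearMap.mulLeft K g)) = finrank K S :=
  (Submodule.equivMapOfInjective _ (mulLeft_inj hg) S).finrank_eq.symm

instance (n : ℕ) : FiniteDimensional K (H K n) :=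
  Module.finite_of_finrank_pos (by rw [finrank_H]; omega)

section main
set_option linter.unusedSectionVars false
variable [IsAlgClosed K] (V : Submodule K (MvPolynomial (Fin 2) K))
  (hV : V ≤ H K 5) (hdim : finrank K V = 4)
  (hsep : ∀ e ∈ H K 2, e ≠ 0 → ∀ F ∈ H K 5, ∃ v ∈ V, ∃ h ∈ H K 3, F = v + e * h)

include hV hdim hsep in
lemma no_full {g : MvPolynomial (Fin 2) K} (hg : g ∈ H K 3) (hg0 : g ≠ 0)
    (hgV : ∀ e ∈ H K 2, g * e ∈ V) : False := by
  obtain ⟨l, q, hl, hq, rfl⟩ := cubic_factor hg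
  have hl0 : l ≠ 0 := left_ne_zero_of_mul hg0
  have hq0 : q ≠ 0 := right_ne_zero_of_mul hg0
  have : FiniteDimensional K V := Module.finite_of_finrank_pos (by rw [hdim]; omega)
  set A := (H K 3).map (LinearMap.mulLeft K q) with hA
  set B := (H K 2).map (LinearMap.mulLeft K (l * q)) with hB
  have fA : finrank K A = 4 := by rw [hA, finrank_map_mulLeft hq0, finrank_H]
  have fB : finrank K B = 3 := by rw [hB, finrank_map_mulLeft hg0, finrank_H]
  have hBle : B ≤ V ⊓ A := by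
    rintro _ ⟨e, he, rfl⟩
    refine ⟨hgV e he, ?_⟩
    refine ⟨l * e, ?_, ?_⟩
    · exact (show (l * e).IsHomogeneous (1 + 2) from hl.mul he)
    · simp only [LinearMap.mulLeft_apply]
      ring
  have hWle : H K 5 ≤ V ⊔ A := by
    intro F hF
    obtain ⟨v, hv, h, hh, rfl⟩ := hsep q hq hq0 F hF
    exact Submodule.add_mem_sup hv ⟨h, hh, rfl⟩
  have h1 := Submodule.finrank_mono hWle
  have h2 := Submodule.finrank_mono hBle
  have h3 := Submodule.finrank_sup_add_finrank_inf_eq V A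
  rw [finrank_H] at h1
  omega

omit [IsAlgClosed K] in
lemma exists_g (ψ : MvPolynomial (Fin 2) K →ₗ[K] K) :
    ∃ g ∈ H K 3, g ≠ 0 ∧ ∀ e ∈ H K 2, ψ (g * e) = 0 := by
  let Ψ : H K 3 →ₗ[K] (H K 2 →ₗ[K] K) :=
    ((LinearMap.mul K (MvPolynomial (Fin 2) K)).compr₂ ψ).domRestrict₁₂ (H K 3) (H K 2)
  have hlt : finrank K (H K 2 →ₗ[K] K) < finrank K (H K 3) := by
    have : finrank K (H K 2 →ₗ[K] K) = finrank K (H K 2) := Subspace.dual_finrank_eq
    rw [this, finrank_H, finrank_H]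
    omega
  have hker := LinearMap.ker_ne_bot_of_finrank_lt (f := Ψ) hlt
  obtain ⟨x, hx, hx0⟩ := Submodule.exists_mem_ne_zero_of_ne_bot hker
  refine ⟨x.1, x.2, fun h => hx0 (Subtype.ext h), ?_⟩
  intro e he
  have := LinearMap.congr_fun (LinearMap.mem_ker.1 hx) ⟨e, he⟩
  exact this

omit [IsAlgClosed K] in
include hdim in
lemma dim2 (φ1 φ2 : MvPolynomial (Fin 2) K →ₗ[K] K)
    (hφ : ∀ w ∈ H K 5, (w ∈ V ↔ φ1 w = 0 ∧ φ2 w = 0)) (t : K)
    {g : MvPolynomial (Fin 2) K} (hg : g ∈ H K 3) (hg0 : g ≠ 0)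
    (hgk : ∀ e ∈ H K 2, (φ1 + t • φ2) (g * e) = 0) :
    2 ≤ finrank K ↥(V ⊓ (H K 2).map (LinearMap.mulLeft K g)) := by
  have : FiniteDimensional K V := Module.finite_of_finrank_pos (by rw [hdim]; omega)
  let θ : H K 2 →ₗ[K] K := (φ2 ∘ₗ LinearMap.mulLeft K g) ∘ₗ (H K 2).subtype
  have hrn := LinearMap.finrank_range_add_finrank_ker θ
  have hr : finrank K (LinearMap.range θ) ≤ 1 := by
    have := Submodule.finrank_le (LinearMap.range θ)
    simpa using this
  rw [finrank_H] at hrn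
  have hk : 2 ≤ finrank K (LinearMap.ker θ) := by omega
  set f : H K 2 →ₗ[K] MvPolynomial (Fin 2) K := (LinearMap.mulLeft K g) ∘ₗ (H K 2).subtype with hf
  have hfinj : Function.Injective f := by
    rw [hf]
    exact (mulLeft_inj hg0).comp (Submodule.injective_subtype _)
  have hle : (LinearMap.ker θ).map f ≤ V ⊓ (H K 2).map (LinearMap.mulLeft K g) := by
    rintro _ ⟨e, he, rfl⟩
    have he2 : φ2 (g * e.1) = 0 := by simpa [θ] using he
    have he1 : φ1 (g * e.1) = 0 := by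
      have := hgk e.1 e.2
      simp only [LinearMap.add_apply, LinearMap.smul_apply, he2, smul_zero, add_zero] at this
      exact this
    have hmem : g * e.1 ∈ H K 5 := (show (g * e.1).IsHomogeneous (3 + 2) from hg.mul e.2)
    refine ⟨(hφ _ hmem).2 ⟨he1, he2⟩, ⟨e.1, e.2, rfl⟩⟩
  have h1 := Submodule.finrank_mono hle
  have h2 : finrank K ((LinearMap.ker θ).map f) = finrank K (LinearMap.ker θ) :=
    (Submodule.equivMapOfInjective f hfinj _).finrank_eq.symm
  omega

include hV hdim hsep in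
theorem main [CharZero K] (F : Finset (MvPolynomial (Fin 2) K)) :
    ∃ g ∈ H K 3, g ≠ 0 ∧
      2 ≤ finrank K ↥(V ⊓ (H K 2).map (LinearMap.mulLeft K g)) ∧
      ∀ g' ∈ F, ∀ c : K, g ≠ c • g' := by
  obtain ⟨φ1, φ2, hφ⟩ := exists_functionals (H K 5) V hV (by rw [finrank_H, hdim])
  let bad : MvPolynomial (Fin 2) K → Set K := fun g' =>
    {t | g' ∈ H K 3 ∧ g' ≠ 0 ∧ ∀ e ∈ H K 2, (φ1 + t • φ2) (g' * e) = 0}
  have hsub : ∀ g', (bad g').Subsingleton := by
    intro g' t ht t' ht'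
    by_contra hne
    obtain ⟨hg, hg0, h1⟩ := ht
    obtain ⟨_, _, h2⟩ := ht'
    refine no_full V hV hdim hsep hg hg0 ?_
    intro e he
    have e1 := h1 e he
    have e2 := h2 e he
    simp only [LinearMap.add_apply, LinearMap.smul_apply, smul_eq_mul] at e1 e2
    have hmem : g' * e ∈ H K 5 := (show (g' * e).IsHomogeneous (3 + 2) from hg.mul he)
    have h3 : (t - t') * φ2 (g' * e) = 0 := by linear_combination e1 - e2
    have h4 : φ2 (g' * e) = 0 := by
      rcases mul_eq_zero.1 h3 with h | h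
      · exact absurd (sub_eq_zero.1 h) hne
      · exact h
    have h5 : φ1 (g' * e) = 0 := by rw [h4] at e1; simpa using e1
    exact (hφ _ hmem).2 ⟨h5, h4⟩
  have hfin : (⋃ g' ∈ (F : Set (MvPolynomial (Fin 2) K)), bad g').Finite :=
    Set.Finite.biUnion F.finite_toSet (fun g' _ => (hsub g').finite)
  have : Infinite K := inferInstance
  obtain ⟨t, ht⟩ := hfin.exists_notMem
  obtain ⟨g, hg, hg0, hgk⟩ := exists_g (φ1 + t • φ2)
  refine ⟨g, hg, hg0, dim2 V hdim φ1 φ2 hφ t hg hg0 hgk, ?_⟩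
  intro g' hg' c heq
  apply ht
  simp only [Set.mem_iUnion]
  refine ⟨g', hg', ?_⟩
  have hc : c ≠ 0 := by
    rintro rfl
    exact hg0 (by simpa using heq)
  have hg'eq : g' = c⁻¹ • g := by
    rw [heq, smul_smul, inv_mul_cancel₀ hc, one_smul]
  refine ⟨?_, ?_, ?_⟩
  · rw [hg'eq]
    exact (H K 3).smul_mem _ hg
  · rintro rfl
    exact hg0 (by simpa using heq)
  · intro e he
    rw [hg'eq, smul_mul_assoc, map_smul, hgk e he, smul_zero]

end main

end

end Groth.Agent.H9.Quin
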