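import Mathlib
set_option autoImplicit false
set_option linter.style.haveILetI false
set_option linter.unusedSectionVars false
set_option linter.unusedVariables false
namespace Groth.Agent.H9.QuivWall
universe u
open Set

variable {I : Type u} [Fintype I]

abbrev dot (θ : I → ℝ) (e : I → ℕ) : ℝ := ∑ i, θ i * (e i : ℝ)

lemma dot_continuous (e : I → ℕ) : Continuous fun θ : I → ℝ => dot θ e := by
  unfold dot
  fun_prop

lemma dot_comb (θ₁ θ₂ : I → ℝ) (e : I → ℕ) (a b : ℝ) :
    dot (a • θ₁ + b • θ₂) e = a * dot θ₁ e + b * dot θ₂ e := by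
  unfold dot
  rw [Finset.mul_sum, Finset.mul_sum, ← Finset.sum_add_distrib]
  refine Finset.sum_congr rfl fun i _ => ?_
  simp only [Pi.add_apply, Pi.smul_apply, smul_eq_mul]
  ring

lemma sign_comb {x y : ℝ} (h : SignType.sign x = SignType.sign y) {a b : ℝ} (ha : 0 ≤ a) (hb : 0 ≤ b)
    (hab : a + b = 1) : SignType.sign (a * x + b * y) = SignType.sign x := by
  rcases lt_trichotomy x 0 with hx | hx | hx
  · have hy : y < 0 := by
      rw [sign_neg hx] at h
      exact sign_eq_neg_one_iff.mp h.symm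
    rw [sign_neg hx]
    apply sign_neg
    rcases eq_or_lt_of_le ha with ha0 | ha0
    · have : b = 1 := by linarith
      subst this; rw [← ha0]; linarith
    · nlinarith
  · subst hx
    have hy : y = 0 := by
      rw [sign_zero] at h
      exact sign_eq_zero_iff.mp h.symm
    subst hy
    simp
  · have hy : 0 < y := by
      rw [sign_pos hx] at h
      exact sign_eq_one_iff.mp h.symm
    rw [sign_pos hx]
    apply sign_pos
    rcases eq_or_lt_of_le ha with ha0 | ha0
    · have : b = 1 := by linarith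
      subst this; rw [← ha0]; linarith
    · nlinarith

theorem main (d : I → ℕ) (θ₁ θ₂ : I → ℝ)
    (h₁ : ∑ i, θ₁ i * (d i : ℝ) = 0) (h₂ : ∑ i, θ₂ i * (d i : ℝ) = 0) :
    (∀ d' : I → ℕ, d' ≤ d →
        SignType.sign (∑ i, θ₁ i * (d' i : ℝ)) = SignType.sign (∑ i, θ₂ i * (d' i : ℝ))) ↔
    ∃ J₁ : Set (I → ℕ), J₁ ⊆ {d' | d' ≤ d ∧ ¬ ∃ m : ℕ, d = m • d'} ∧
      θ₂ ∈ connectedComponentIn
        {θ : I → ℝ | ∑ i, θ i * (d i : ℝ) = 0 ∧ (∀ d₁ ∈ J₁, ∑ i, θ i * (d₁ i : ℝ) = 0) ∧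
          ∀ d₂ : I → ℕ, d₂ ≤ d → (¬ ∃ m : ℕ, d = m • d₂) → d₂ ∉ J₁ →
            ∑ i, θ i * (d₂ i : ℝ) ≠ 0} θ₁ := by
  constructor
  · intro h
    refine ⟨{d' | d' ≤ d ∧ (¬ ∃ m : ℕ, d = m • d') ∧ dot θ₁ d' = 0}, fun d' hd' => ⟨hd'.1, hd'.2.1⟩, ?_⟩
    have hseg : segment ℝ θ₁ θ₂ ⊆ {θ : I → ℝ | ∑ i, θ i * (d i : ℝ) = 0 ∧
        (∀ d₁ ∈ {d' | d' ≤ d ∧ (¬ ∃ m : ℕ, d = m • d') ∧ dot θ₁ d' = 0},
          ∑ i, θ i * (d₁ i : ℝ) = 0) ∧
        ∀ d₂ : I → ℕ, d₂ ≤ d → (¬ ∃ m : ℕ, d = m • d₂) →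
          d₂ ∉ {d' | d' ≤ d ∧ (¬ ∃ m : ℕ, d = m • d') ∧ dot θ₁ d' = 0} →
          ∑ i, θ i * (d₂ i : ℝ) ≠ 0} := by
      rintro θ ⟨a, b, ha, hb, hab, rfl⟩
      refine ⟨?_, ?_, ?_⟩
      · have := dot_comb θ₁ θ₂ d a b
        unfold dot at this
        rw [this, h₁, h₂]; simp
      · rintro d₁ ⟨hd₁, hm, h0⟩
        have hs := sign_comb (h d₁ hd₁) ha hb hab
        have := dot_comb θ₁ θ₂ d₁ a b
        unfold dot at this h0
        rw [← this, h0, sign_zero] at hs
        exact sign_eq_zero_iff.mp hs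
      · intro d₂ hd₂ hm hnot
        have hne : dot θ₁ d₂ ≠ 0 := fun h0 => hnot ⟨hd₂, hm, h0⟩
        have hs := sign_comb (h d₂ hd₂) ha hb hab
        have := dot_comb θ₁ θ₂ d₂ a b
        unfold dot at this hne
        rw [← this] at hs
        intro h0
        rw [h0, sign_zero] at hs
        exact hne (sign_eq_zero_iff.mp hs.symm)
    exact (convex_segment θ₁ θ₂).isPreconnected.subset_connectedComponentIn
      (left_mem_segment ℝ θ₁ θ₂) hseg (right_mem_segment ℝ θ₁ θ₂)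
  · rintro ⟨J₁, hJ, hmem⟩ d' hd'
    set S : Set (I → ℝ) := {θ : I → ℝ | ∑ i, θ i * (d i : ℝ) = 0 ∧
        (∀ d₁ ∈ J₁, ∑ i, θ i * (d₁ i : ℝ) = 0) ∧
          ∀ d₂ : I → ℕ, d₂ ≤ d → (¬ ∃ m : ℕ, d = m • d₂) → d₂ ∉ J₁ →
            ∑ i, θ i * (d₂ i : ℝ) ≠ 0} with hS
    have hθ₁ : θ₁ ∈ S := connectedComponentIn_nonempty_iff.mp ⟨θ₂, hmem⟩
    have hCS := connectedComponentIn_subset S θ₁
    have hθ₂ : θ₂ ∈ S := hCS hmem
    have hC : IsPreconnected (connectedComponentIn S θ₁) := isPreconnected_connectedComponentIn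
    have hθ₁C : θ₁ ∈ connectedComponentIn S θ₁ := mem_connectedComponentIn hθ₁
    by_cases hm : ∃ m : ℕ, d = m • d'
    · obtain ⟨m, hm⟩ := hm
      have key : ∀ θ : I → ℝ, ∑ i, θ i * (d i : ℝ) = (m : ℝ) * ∑ i, θ i * (d' i : ℝ) := by
        intro θ
        rw [Finset.mul_sum]
        refine Finset.sum_congr rfl fun i _ => ?_
        rw [hm]
        simp only [Pi.smul_apply, smul_eq_mul, Nat.cast_mul]
        ring
      rcases Nat.eq_zero_or_pos m with hm0 | hm0
      · subst hm0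
        have hd0 : d = 0 := by rw [hm]; simp
        have hd'0 : d' = 0 := by
          funext i
          have := hd' i
          rw [hd0] at this
          simpa using this
        subst hd'0
        simp
      · have hmR : (m : ℝ) ≠ 0 := by positivity
        have e1 : ∑ i, θ₁ i * (d' i : ℝ) = 0 := by
          have := key θ₁
          rw [h₁] at this
          rcases mul_eq_zero.mp this.symm with h | h
          · exact absurd h hmR
          · exact h
        have e2 : ∑ i, θ₂ i * (d' i : ℝ) = 0 := by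
          have := key θ₂
          rw [h₂] at this
          rcases mul_eq_zero.mp this.symm with h | h
          · exact absurd h hmR
          · exact h
        rw [e1, e2]
    · by_cases hJ1 : d' ∈ J₁
      · rw [hθ₁.2.1 d' hJ1, hθ₂.2.1 d' hJ1]
      · have hne : ∀ θ ∈ S, ∑ i, θ i * (d' i : ℝ) ≠ 0 := fun θ hθ => hθ.2.2 d' hd' hm hJ1
        have hcont : ContinuousOn (fun θ : I → ℝ => dot θ d') (connectedComponentIn S θ₁) :=
          (dot_continuous d').continuousOn
        by_contra hsign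
        have hx := hne θ₁ hθ₁
        have hy := hne θ₂ hθ₂
        rcases lt_or_gt_of_ne hx with hx | hx
        · rcases lt_or_gt_of_ne hy with hy | hy
          · exact hsign (by rw [sign_neg hx, sign_neg hy])
          · have := hC.intermediate_value hθ₁C hmem hcont (show (0 : ℝ) ∈ Icc _ _ from ⟨hx.le, hy.le⟩)
            obtain ⟨c, hc, hc0⟩ := this
            exact hne c (hCS hc) hc0
        · rcases lt_or_gt_of_ne hy with hy | hy
          · have := hC.intermediate_value hmem hθ₁C hcont (show (0 : ℝ) ∈ Icc _ _ from ⟨hy.le, hx.le⟩)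
            obtain ⟨c, hc, hc0⟩ := this
            exact hne c (hCS hc) hc0
          · exact hsign (by rw [sign_pos hx, sign_pos hy])

end Groth.Agent.H9.QuivWall
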