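import Mathlib
import Groth.Prelude.Def_AlgGrp
import Groth.Prelude.Def_AGF
import Groth.Agent.Lib.Helper9.Misc.QuoTower
import Groth.Agent.Lib.Helper5.Lim.ConnComponents

/-! Helper9: the quotient of a group scheme of finite type over a field by an open-image subgroup
is finite; a connected reduced subgroup lies in every subgroup of finite index (S14596). -/

set_option autoImplicit false
set_option linter.style.haveILetI false
set_option linter.unusedSectionVars false
set_option linter.unusedVariables false

universe u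
open CategoryTheory CategoryTheory.Limits AlgebraicGeometry MonoidalCategory
  CartesianMonoidalCategory MonObj GrpObj

namespace Groth.Agent.H9.QuoFin

/-- a scheme locally of finite type over a field with finitely many points is finite -/
theorem isFinite_of_finite {k : Type u} [Field k] (X : Scheme.{u})
    (f : X ⟶ Spec (CommRingCat.of k)) [LocallyOfFiniteType f] [Finite X] : IsFinite f := by
  haveI : LocallyQuasiFinite f := .of_finite_preimage_singleton f (fun x => Set.toFinite _)
  haveI : CompactSpace X := Finite.compactSpace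
  haveI : QuasiCompact f := quasiCompact_of_compactSpace f
  haveI : IsLocallyArtinian (Spec (CommRingCat.of k)) := by
    rw [Scheme.isLocallyArtinianScheme_Spec]; infer_instance
  exact IsFinite.of_locallyQuasiFinite f

/-- a compact T0 space all of whose closed points are open is finite -/
theorem finite_of_closedPoints_open {Y : Type*} [TopologicalSpace Y] [T0Space Y] [CompactSpace Y]
    (h : ∀ y : Y, IsClosed ({y} : Set Y) → IsOpen ({y} : Set Y)) : Finite Y := by
  have hall : ∀ y : Y, IsOpen ({y} : Set Y) := by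
    let U : Set Y := ⋃ (y : Y) (_ : IsClosed ({y} : Set Y)), {y}
    have hU : IsOpen U := isOpen_iUnion fun y => isOpen_iUnion fun hy => h y hy
    have hUc : Uᶜ = ∅ := by
      by_contra hne
      obtain ⟨y, hyU, hy⟩ := hU.isClosed_compl.exists_closed_singleton
        (Set.nonempty_iff_ne_empty.mpr hne)
      exact hyU (Set.mem_iUnion.mpr ⟨y, Set.mem_iUnion.mpr ⟨hy, rfl⟩⟩)
    intro y
    have hy : y ∈ U := by
      by_contra hy
      have : y ∈ Uᶜ := hy
      rw [hUc] at this
      exact this
    obtain ⟨y', hy'⟩ := Set.mem_iUnion.mp hy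
    obtain ⟨hc, hyy'⟩ := Set.mem_iUnion.mp hy'
    have : y = y' := hyy'
    subst this
    exact h y hc
  haveI : DiscreteTopology Y := discreteTopology_iff_isOpen_singleton.mpr hall
  exact finite_of_compact_of_discrete

section Ranges

variable {S : Scheme.{u}}

theorem range_whiskerLeft (G : Over S) {A B : Over S} (f : A ⟶ B) :
    Set.range (G ◁ f).left = (snd G B).left ⁻¹' Set.range f.left := by
  rw [← id_tensorHom, Over.tensorHom_left, Scheme.Pullback.range_map]
  simp

end Ranges

variable (k : Type u) [Field k]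

local notation "𝟙K" => 𝟙_ (Over (Spec (CommRingCat.of k)))

theorem finite_quotient
    (G G₀ X : Over (Spec (CommRingCat.of k))) [GrpObj G] [GrpObj G₀]
    [LocallyOfFiniteType G.hom] [QuasiCompact G.hom]
    (r₀ : G₀ ⟶ G) [IsMonHom r₀] (hopen : IsOpen (Set.range r₀.left))
    (a : AlgGrp.Action G X) (o : 𝟙K ⟶ X) (hX : AGF.IsQuotient r₀ X a o) : IsFinite X.hom := by
  obtain ⟨hXl, hπf, hπs, hπk⟩ := hX
  obtain ⟨π, hπdef⟩ : ∃ π, π = a.orbitMap o := ⟨_, rfl⟩
  rw [← hπdef] at hπf hπs hπk
  haveI := hπf; haveI := hπs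
  haveI : IsLocallyNoetherian X.left := LocallyOfFiniteType.isLocallyNoetherian X.hom
  haveI : LocallyOfFiniteType π.left := by
    have : LocallyOfFiniteType (π.left ≫ X.hom) := by rw [Over.w π]; infer_instance
    exact locallyOfFiniteType_of_comp π.left X.hom
  haveI : LocallyOfFinitePresentation π.left := inferInstance
  haveI : CompactSpace G.left := QuasiCompact.compactSpace_of_compactSpace G.hom
  haveI : CompactSpace X.left := by
    rw [← isCompact_univ_iff, ← Set.range_eq_univ.mpr π.left.surjective]
    exact isCompact_range π.left.continuous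
  haveI : JacobsonSpace X.left := LocallyOfFiniteType.jacobsonSpace X.hom
  have hηπ : η[G] ≫ π = o := by rw [hπdef]; exact Groth.Agent.H9.ORB3.unit_orbitMap a o
  -- the base point is open
  have hr₀π : r₀ ≫ π = toUnit G₀ ≫ o := by
    have h1 := Groth.Agent.H9.QuoTower.mul_comp_orbit r₀ π hπk (1 : G₀ ⟶ G) (𝟙 G₀)
    rw [Category.id_comp, _root_.one_mul] at h1
    rw [h1, Hom.one_def, Category.assoc, hηπ]
  have hU₀ : IsOpen (Set.range o.left) := by
    have : Set.range o.left = π.left '' (Set.range r₀.left) := by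
      ext x
      constructor
      · rintro ⟨s, rfl⟩
        refine ⟨(η[G]).left s, ⟨(η[G₀]).left s, ?_⟩, ?_⟩
        · rw [← Scheme.Hom.comp_apply, ← Over.comp_left, IsMonHom.one_hom]
        · rw [← Scheme.Hom.comp_apply, ← Over.comp_left, hηπ]
      · rintro ⟨_, ⟨v, rfl⟩, rfl⟩
        refine ⟨(toUnit G₀).left v, ?_⟩
        rw [← Scheme.Hom.comp_apply, ← Over.comp_left, ← hr₀π, Over.comp_left,
          Scheme.Hom.comp_apply]
    rw [this]
    exact π.left.isOpenMap _ hopen
  -- the graph of π is open
  let sh : G ⊗ X ≅ G ⊗ X := ⟨Groth.Agent.H9.FLH.shear a, Groth.Agent.H9.FLH.shearInv a,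
    Groth.Agent.H9.FLH.shear_shearInv a, Groth.Agent.H9.FLH.shearInv_shear a⟩
  haveI : IsIso sh.hom.left :=
    (inferInstance : IsIso ((Over.forget (Spec (CommRingCat.of k))).mapIso sh).hom)
  have hc : lift (𝟙 G) (toUnit G ≫ o) = (ρ_ G).inv ≫ (G ◁ o) := by
    apply CartesianMonoidalCategory.hom_ext
    · simp
    · rw [lift_snd, Category.assoc, whiskerLeft_snd, ← Category.assoc]
      congr 1
      exact toUnit_unique _ _
  have hΓ : IsOpen (Set.range (lift (𝟙 G) π).left) := by
    have h1 : lift (𝟙 G) π = (ρ_ G).inv ≫ (G ◁ o) ≫ sh.hom := by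
      rw [← Category.assoc, ← hc]
      show _ = _ ≫ lift (fst G X) a.act
      rw [comp_lift, lift_fst, hπdef]
      rfl
    haveI : IsIso (ρ_ G).inv.left := inferInstanceAs (IsIso ((Over.forget _).map (ρ_ G).inv))
    rw [h1, Over.comp_left, Over.comp_left, Scheme.Hom.comp_base, TopCat.coe_comp,
      Set.range_comp, Set.range_eq_univ.mpr (ρ_ G).inv.left.surjective, Set.image_univ,
      Scheme.Hom.comp_base, TopCat.coe_comp, Set.range_comp]
    apply sh.hom.left.isOpenEmbedding.isOpenMap
    rw [range_whiskerLeft]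
    exact hU₀.preimage (snd G X).left.continuous
  -- the diagonal of X is open
  have hΔ : IsOpen (Set.range (lift (𝟙 X) (𝟙 X)).left) := by
    have h1 : lift (𝟙 G) π ≫ (π ▷ X) = π ≫ lift (𝟙 X) (𝟙 X) := by
      rw [lift_whiskerRight, comp_lift, Category.id_comp, Category.comp_id]
    have h2 : Set.range (π ≫ lift (𝟙 X) (𝟙 X)).left = Set.range (lift (𝟙 X) (𝟙 X)).left := by
      rw [Over.comp_left, Scheme.Hom.comp_base, TopCat.coe_comp, Set.range_comp,
        Set.range_eq_univ.mpr π.left.surjective, Set.image_univ]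
    rw [← h2, ← h1, Over.comp_left, Scheme.Hom.comp_base, TopCat.coe_comp, Set.range_comp]
    have sq := Groth.Agent.H9.SIM.isPullback_whiskerRight_left π X
    haveI : Flat (π ▷ X).left := MorphismProperty.of_isPullback (P := @Flat) sq inferInstance
    haveI : LocallyOfFinitePresentation (π ▷ X).left :=
      MorphismProperty.of_isPullback (P := @LocallyOfFinitePresentation) sq inferInstance
    exact (π ▷ X).left.isOpenMap _ hΓ
  -- closed points of X are open
  have hcl : ∀ x : X.left, IsClosed ({x} : Set X.left) → IsOpen ({x} : Set X.left) := by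
    intro x hx
    haveI : LocallyOfFiniteType (X.left.fromSpecResidueField x) :=
      isClosed_singleton_iff_locallyOfFiniteType.mp hx
    let T : Over (Spec (CommRingCat.of k)) := Over.mk (X.left.fromSpecResidueField x ≫ X.hom)
    let gam : T ⟶ X := Over.homMk (X.left.fromSpecResidueField x) rfl
    have hgam : ∀ t : T.left, gam.left t = x := by
      intro t
      have : gam.left t ∈ Set.range (X.left.fromSpecResidueField x) := ⟨t, rfl⟩
      rw [Scheme.range_fromSpecResidueField] at this
      exact this
    haveI : LocallyOfFiniteType T.hom := by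
      show LocallyOfFiniteType (X.left.fromSpecResidueField x ≫ X.hom)
      infer_instance
    haveI : LocallyOfFinitePresentation T.hom :=
      LocallyOfFinitePresentation.iff_locallyOfFiniteType.mpr inferInstance
    haveI : Flat T.hom := inferInstance
    haveI : Flat (snd T X).left := by
      show Flat (pullback.snd T.hom X.hom); infer_instance
    haveI : LocallyOfFinitePresentation (snd T X).left := by
      show LocallyOfFinitePresentation (pullback.snd T.hom X.hom); infer_instance
    have hD : IsOpen ((gam ▷ X).left ⁻¹' Set.range (lift (𝟙 X) (𝟙 X)).left) :=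
      hΔ.preimage (gam ▷ X).left.continuous
    have himg : (snd T X).left '' ((gam ▷ X).left ⁻¹' Set.range (lift (𝟙 X) (𝟙 X)).left) = {x} := by
      ext w
      constructor
      · rintro ⟨v, ⟨x', hx'⟩, rfl⟩
        have e1 : (snd T X).left v = x' := by
          rw [← whiskerRight_snd gam X, Over.comp_left, Scheme.Hom.comp_apply, ← hx',
            ← Scheme.Hom.comp_apply, ← Over.comp_left, lift_snd]
          rfl
        have e2 : x = x' := by
          rw [← hgam ((fst T X).left v), ← Scheme.Hom.comp_apply, ← Over.comp_left,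
            ← whiskerRight_fst gam X, Over.comp_left, Scheme.Hom.comp_apply, ← hx',
            ← Scheme.Hom.comp_apply, ← Over.comp_left, lift_fst]
          rfl
        rw [e1, ← e2]
        rfl
      · rintro rfl
        haveI : Nonempty T.left := inferInstanceAs (Nonempty (Spec (X.left.residueField w)))
        obtain ⟨t₀⟩ := ‹Nonempty T.left›
        refine ⟨(lift (𝟙 T) gam).left t₀, ⟨gam.left t₀, ?_⟩, ?_⟩
        · rw [← Scheme.Hom.comp_apply, ← Scheme.Hom.comp_apply, ← Over.comp_left,
            ← Over.comp_left, lift_whiskerRight, comp_lift, Category.id_comp, Category.comp_id]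
        · rw [← Scheme.Hom.comp_apply, ← Over.comp_left, lift_snd]
          exact hgam t₀
    rw [← himg]
    exact (snd T X).left.isOpenMap _ hD
  haveI : Finite X.left := finite_of_closedPoints_open hcl
  exact isFinite_of_finite X.left X.hom

theorem factor_of_finite
    (G G₀ H X : Over (Spec (CommRingCat.of k))) [GrpObj G] [GrpObj G₀] [GrpObj H]
    (r₀ : G₀ ⟶ G) [IsMonHom r₀] [IsReduced G₀.left] [ConnectedSpace G₀.left]
    (h : H ⟶ G) (a : AlgGrp.Action G X) (o : 𝟙K ⟶ X) (hX : AGF.IsQuotient h X a o)
    [IsFinite X.hom] : ∃ g : G₀ ⟶ H, g ≫ h = r₀ := by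
  obtain ⟨hXl, hπf, hπs, hπk⟩ := hX
  obtain ⟨π, hπdef⟩ : ∃ π, π = a.orbitMap o := ⟨_, rfl⟩
  rw [← hπdef] at hπf hπs hπk
  have hηπ : η[G] ≫ π = o := by rw [hπdef]; exact Groth.Agent.H9.ORB3.unit_orbitMap a o
  haveI : IsLocallyArtinian (Spec (CommRingCat.of k)) := by
    rw [Scheme.isLocallyArtinianScheme_Spec]; infer_instance
  haveI : IsLocallyArtinian X.left := IsLocallyArtinian.of_locallyQuasiFinite X.hom
  haveI : DiscreteTopology X.left := inferInstance
  let p₀ : X.left := o.left (IsLocalRing.closedPoint k)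
  have hrange : Set.range (r₀ ≫ π).left ⊆ Set.range o.left := by
    have hclopen : IsClopen ((r₀ ≫ π).left ⁻¹' {p₀}) :=
      ⟨(isClosed_discrete _).preimage (r₀ ≫ π).left.continuous,
        (isOpen_discrete _).preimage (r₀ ≫ π).left.continuous⟩
    have hne : ((r₀ ≫ π).left ⁻¹' {p₀}).Nonempty := by
      refine ⟨(η[G₀]).left (IsLocalRing.closedPoint k), ?_⟩
      show (r₀ ≫ π).left ((η[G₀]).left (IsLocalRing.closedPoint k)) = p₀
      rw [← Scheme.Hom.comp_apply, ← Over.comp_left, ← Category.assoc, IsMonHom.one_hom, hηπ]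
    have huniv := hclopen.eq_univ hne
    rintro _ ⟨v, rfl⟩
    have : v ∈ (r₀ ≫ π).left ⁻¹' {p₀} := by rw [huniv]; trivial
    exact ⟨IsLocalRing.closedPoint k, this.symm⟩
  haveI : IsClosedImmersion o.left :=
    isClosedImmersion_of_comp_eq_id (Y := Spec (CommRingCat.of k)) X.hom o.left (Over.w o)
  obtain ⟨l, hl⟩ := Groth.Agent.H8.RedImm.exists_lift_of_isImmersion_of_isReduced o.left
    (r₀ ≫ π).left hrange
  have hr₀π : r₀ ≫ π = toUnit G₀ ≫ o := by
    apply Over.OverMorphism.ext
    rw [Over.comp_left _ _ _ (toUnit G₀) o, ← hl]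
    congr 1
    have : l = (toUnit G₀).left := by
      have h1 : l ≫ (𝟙K).hom = G₀.hom := by
        have := congrArg (· ≫ X.hom) hl
        simp only [Category.assoc, Over.w] at this
        exact this
      have h2 : (toUnit G₀).left ≫ (𝟙K).hom = G₀.hom := Over.w (toUnit G₀)
      have h3 : (𝟙K).hom = 𝟙 _ := rfl
      rw [h3, Category.comp_id] at h1 h2
      rw [h1, h2]
    exact this
  obtain ⟨g, hg⟩ := Groth.Agent.H9.QuoTower.exists_eq_mul_of_orbit_eq h π hπk (1 : G₀ ⟶ G) r₀ (by
    rw [hr₀π, Hom.one_def, Category.assoc, hηπ])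
  exact ⟨g, by rw [hg, _root_.one_mul]⟩

end Groth.Agent.H9.QuoFin
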