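import Mathlib
import Groth.Prelude.Def_W4c1hurwitzcptBd

/-! Helper9: RootDisk 2 × R rank-3 submodules containing 1 (S13885). -/

namespace Groth.Agent.H9.RD2

open W4c1hurwitzcpt PowerSeries

universe u
variable {k : Type u} [Field k]

theorem val_smul (r : PowerSeries k) (s : RootDisk 2 k) :
    RootDisk.val (r • s) = PowerSeries.expand 2 (by norm_num) r * RootDisk.val s := by
  rw [Algebra.smul_def]; rfl

theorem aux (F : ℕ → k) (q i j : ℕ) (hi : i < 2) (hj : j < 2) :
    (if i ≤ 2*q+j then (if 2 ∣ 2*q+j-i then F (2*((2*q+j-i)/2)+i) else 0) else 0)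
      = if i = j then F (2*q+j) else 0 := by
  by_cases h : i = j
  · subst h
    have h1 : 2*q+i-i = 2*q := by omega
    simp [h1]
  · rw [if_neg h]
    split_ifs with h1 h2
    · exfalso; omega
    · rfl
    · rfl

theorem decomp (f : RootDisk 2 k) :
    f = ∑ i : Fin 2, (PowerSeries.mk fun n => coeff (2 * n + i) (RootDisk.val f)) •
      (RootDisk.val.symm (X ^ (i : ℕ)) : RootDisk 2 k) := by
  apply RootDisk.val.injective
  rw [map_sum]
  simp only [val_smul, RingEquiv.apply_symm_apply]
  ext m
  rw [map_sum]
  simp only [coeff_mul_X_pow', coeff_expand, coeff_mk]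
  obtain ⟨q, j, hj, rfl⟩ : ∃ q j, j < 2 ∧ m = 2 * q + j :=
    ⟨m / 2, m % 2, Nat.mod_lt _ (by norm_num), (Nat.div_add_mod m 2).symm⟩
  rw [Finset.sum_congr rfl (fun (i : Fin 2) _ =>
    aux (fun n => coeff n (RootDisk.val f)) q (i : ℕ) j i.2 hj)]
  rw [Fin.sum_univ_two]
  interval_cases j <;> simp

/-- the three spanning elements of `k⟦x⟧ × R` -/
noncomputable def w : Fin 3 → RootDisk 2 k × PowerSeries k :=
  Fin.cons (0, 1) (fun i : Fin 2 => ((RootDisk.val.symm (X ^ (i : ℕ)) : RootDisk 2 k), 0))

theorem span_top : Submodule.span (PowerSeries k) (Set.range (w (k := k))) = ⊤ := by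
  rw [eq_top_iff]
  rintro ⟨a, b⟩ -
  have : ((a, b) : RootDisk 2 k × PowerSeries k) = b • w 0 +
      ∑ i : Fin 2, (PowerSeries.mk fun n => coeff (2 * n + i) (RootDisk.val a)) • w i.succ := by
    simp only [w, Fin.cons_zero, Fin.cons_succ]
    apply Prod.ext
    · simp only [Prod.fst_add, Prod.smul_fst, smul_zero, zero_add, Prod.fst_sum]
      exact decomp a
    · simp [Prod.snd_sum]
  rw [this]
  exact Submodule.add_mem _ (Submodule.smul_mem _ _ (Submodule.subset_span ⟨_, rfl⟩))
    (Submodule.sum_mem _ fun i _ => Submodule.smul_mem _ _ (Submodule.subset_span ⟨_, rfl⟩))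

/-- `N = {a | (a, 0) ∈ M}` -/
noncomputable def NN (M : Submodule (PowerSeries k) (RootDisk 2 k × PowerSeries k)) :
    Submodule (PowerSeries k) (RootDisk 2 k) :=
  M.comap (LinearMap.inl (PowerSeries k) (RootDisk 2 k) (PowerSeries k))

theorem mem_NN (M : Submodule (PowerSeries k) (RootDisk 2 k × PowerSeries k)) (a : RootDisk 2 k) :
    a ∈ NN M ↔ ((a, 0) : RootDisk 2 k × PowerSeries k) ∈ M := Iff.rfl

theorem exists_class (M : Submodule (PowerSeries k) (RootDisk 2 k × PowerSeries k))
    (bM : Module.Basis (Fin 3) (PowerSeries k) M) (r : Fin 2) :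
    ∃ n : ℕ, ∃ m ∈ NN M, PowerSeries.order (RootDisk.val m) = (n : ℕ∞) ∧ n % 2 = r.val := by
  classical
  set xr : RootDisk 2 k := RootDisk.val.symm (X ^ (r : ℕ)) with hxr
  let v : Fin 4 → RootDisk 2 k × PowerSeries k :=
    Fin.cons (xr, 0) (fun i => ((bM i : M) : RootDisk 2 k × PowerSeries k))
  have hnl : ¬ LinearIndependent (PowerSeries k) v := by
    intro hli
    have := linearIndependent_le_span v hli (Set.range (w (k := k))) span_top
    have h2 : Fintype.card (Set.range (w (k := k))) ≤ 3 := by
      have := Fintype.card_range_le (w (k := k))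
      rwa [Fintype.card_fin] at this
    rw [Cardinal.mk_fin] at this
    have h4 : (4 : ℕ) ≤ Fintype.card (Set.range (w (k := k))) := by exact_mod_cast this
    omega
  rw [Fintype.not_linearIndependent_iff] at hnl
  obtain ⟨c, hc, hne⟩ := hnl
  rw [Fin.sum_univ_succ] at hc
  simp only [v, Fin.cons_zero, Fin.cons_succ] at hc
  have hc0 : c 0 ≠ 0 := by
    intro h0
    rw [h0, zero_smul, zero_add] at hc
    have h3 : ∑ i : Fin 3, c i.succ • bM i = 0 := by
      apply Subtype.ext
      rw [Submodule.coe_sum]
      simpa using hc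
    have := Fintype.linearIndependent_iff.1 bM.linearIndependent _ h3
    obtain ⟨i, hi⟩ := hne
    induction i using Fin.cases with
    | zero => exact hi h0
    | succ j => exact hi (this j)
  refine ⟨2 * (PowerSeries.order (c 0)).toNat + r.val, c 0 • xr, ?_, ?_, ?_⟩
  · rw [mem_NN]
    have : ((c 0 • xr, 0) : RootDisk 2 k × PowerSeries k)
        = - ∑ i : Fin 3, c i.succ • ((bM i : M) : RootDisk 2 k × PowerSeries k) := by
      rw [eq_neg_iff_add_eq_zero, ← hc]
      congr 1
      simp
    rw [this]
    exact Submodule.neg_mem _ (Submodule.sum_mem _ fun i _ => Submodule.smul_mem _ _ (bM i).2)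
  · rw [val_smul, hxr, RingEquiv.apply_symm_apply, order_mul, order_expand, order_X_pow]
    have : PowerSeries.order (c 0) = ((PowerSeries.order (c 0)).toNat : ℕ∞) := by
      rw [ENat.natCast_toNat]
      rwa [Ne, PowerSeries.order_eq_top]
    rw [this]
    simp
  · omega

theorem val_C_smul (c : k) (s : RootDisk 2 k) :
    RootDisk.val ((C c : PowerSeries k) • s) = C c * RootDisk.val s := by
  rw [val_smul, expand_C]

theorem key (M : Submodule (PowerSeries k) (RootDisk 2 k)) (n : Fin 2 → ℕ)
    (gg : Fin 2 → RootDisk 2 k)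
    (h1 : ∀ r, PowerSeries.order (RootDisk.val (gg r)) = (n r : ℕ∞))
    (h2 : ∀ r, n r % 2 = r.val)
    (hmin : ∀ r d, d < n r → d % 2 = r.val → ∀ m ∈ M, PowerSeries.order (RootDisk.val m) ≠ (d : ℕ∞))
    (c : Fin 2 → k) (m : RootDisk 2 k) (hm : m ∈ M)
    (h : ∑ r, (C (c r) : PowerSeries k) • gg r = (X : PowerSeries k) • m) : c = 0 := by
  classical
  by_contra hc
  have hT : (Finset.univ.filter fun r => c r ≠ 0).Nonempty := by
    by_contra hT
    rw [Finset.not_nonempty_iff_eq_empty, Finset.filter_eq_empty_iff] at hT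
    apply hc
    funext r
    have := hT (Finset.mem_univ r)
    simpa using this
  obtain ⟨r0, hr0, hr0min⟩ := Finset.exists_min_image _ n hT
  rw [Finset.mem_filter] at hr0
  have hcoef : ∀ i, coeff i (RootDisk.val (∑ r, (C (c r) : PowerSeries k) • gg r))
      = ∑ r, c r * coeff i (RootDisk.val (gg r)) := by
    intro i
    rw [map_sum, map_sum]
    refine Finset.sum_congr rfl fun r _ => ?_
    rw [val_C_smul, coeff_C_mul]
  have hlt : ∀ r, r ≠ r0 → c r ≠ 0 → n r0 < n r := by
    intro r hr hcr
    have hle := hr0min r (Finset.mem_filter.2 ⟨Finset.mem_univ _, hcr⟩)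
    have hne : n r0 ≠ n r := by
      intro he
      apply hr
      apply Fin.ext
      rw [← h2 r, ← h2 r0, he]
    omega
  have hord : PowerSeries.order (RootDisk.val (∑ r, (C (c r) : PowerSeries k) • gg r))
      = (n r0 : ℕ∞) := by
    rw [PowerSeries.order_eq_nat]
    constructor
    · rw [hcoef, Finset.sum_eq_single r0]
      · exact mul_ne_zero hr0.2 ((PowerSeries.order_eq_nat.1 (h1 r0)).1)
      · intro r _ hr
        by_cases hcr : c r = 0
        · rw [hcr, zero_mul]
        · rw [(PowerSeries.order_eq_nat.1 (h1 r)).2 _ (hlt r hr hcr), mul_zero]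
      · intro h; exact absurd (Finset.mem_univ _) h
    · intro i hi
      rw [hcoef]
      refine Finset.sum_eq_zero fun r _ => ?_
      by_cases hcr : c r = 0
      · rw [hcr, zero_mul]
      · have hle := hr0min r (Finset.mem_filter.2 ⟨Finset.mem_univ _, hcr⟩)
        rw [(PowerSeries.order_eq_nat.1 (h1 r)).2 _ (lt_of_lt_of_le hi hle), mul_zero]
  rw [h, val_smul, expand_X, order_mul, order_X_pow] at hord
  have hfin : PowerSeries.order (RootDisk.val m) ≠ ⊤ := by
    intro htop
    rw [htop] at hord
    simp at hord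
  have hd : PowerSeries.order (RootDisk.val m)
      = ((PowerSeries.order (RootDisk.val m)).toNat : ℕ∞) := (ENat.natCast_toNat hfin).symm
  rw [hd] at hord
  have hd3 : 2 + (PowerSeries.order (RootDisk.val m)).toNat = n r0 := by exact_mod_cast hord
  refine hmin r0 (PowerSeries.order (RootDisk.val m)).toNat (by omega) ?_ m hm hd
  rw [← h2 r0]
  omega

theorem main (M : Submodule (PowerSeries k) (RootDisk 2 k × PowerSeries k))
    (h1 : (1 : RootDisk 2 k × PowerSeries k) ∈ M)
    (bM : Module.Basis (Fin 3) (PowerSeries k) M) :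
    ∃ f₁ f₂ : RootDisk 2 k,
      ¬ Nat.ModEq 2 (PowerSeries.order (RootDisk.val f₁)).toNat
        (PowerSeries.order (RootDisk.val f₂)).toNat ∧
      M = Submodule.span (PowerSeries k)
        {(1 : RootDisk 2 k × PowerSeries k), (f₁, 0), (f₂, 0)} := by
  classical
  have hex := exists_class M bM
  have hspec : ∀ r : Fin 2, ∃ m : NN M, PowerSeries.order (RootDisk.val (m : RootDisk 2 k))
      = ((Nat.find (hex r) : ℕ) : ℕ∞) ∧ Nat.find (hex r) % 2 = r.val := by
    intro r
    obtain ⟨m, hm, h1, h2⟩ := Nat.find_spec (hex r)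
    exact ⟨⟨m, hm⟩, h1, h2⟩
  choose gg hgg1 hgg2 using hspec
  have hmin : ∀ r d, d < Nat.find (hex r) → d % 2 = r.val → ∀ m ∈ NN M,
      PowerSeries.order (RootDisk.val m) ≠ (d : ℕ∞) := by
    intro r d hd hd3 m hm he
    exact Nat.find_min (hex r) hd ⟨m, hm, he, hd3⟩
  have hkey := key (NN M) (fun r => Nat.find (hex r)) (fun r => (gg r : RootDisk 2 k))
    hgg1 hgg2 hmin
  let G : Fin 3 → M := Fin.cons ⟨1, h1⟩ (fun r => ⟨((gg r : RootDisk 2 k), 0), (gg r).2⟩)
  -- the matrix
  let A : Matrix (Fin 3) (Fin 3) (PowerSeries k) := fun r j => bM.repr (G r) j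
  have hA : IsUnit A.det := by
    rw [PowerSeries.isUnit_iff_constantCoeff, RingHom.map_det, isUnit_iff_ne_zero]
    intro h0
    obtain ⟨c, hc, hcA⟩ := Matrix.exists_vecMul_eq_zero_iff.2 h0
    have hb : ∀ j, ∃ b' : PowerSeries k, ∑ r, C (c r) * A r j = X * b' := by
      intro j
      have : (X : PowerSeries k) ∣ ∑ r, C (c r) * A r j := by
        rw [PowerSeries.X_dvd_iff, map_sum]
        have := congrFun hcA j
        simp only [Matrix.vecMul, dotProduct, Pi.zero_apply] at this
        simpa using this
      exact this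
    choose b' hb' using hb
    have hsum : ∑ r, (C (c r) : PowerSeries k) • G r = (X : PowerSeries k) • ∑ j, b' j • bM j := by
      have h1 : ∀ r, G r = ∑ j, A r j • bM j := fun r => (bM.sum_repr (G r)).symm
      calc ∑ r, (C (c r) : PowerSeries k) • G r
          = ∑ r, ∑ j, (C (c r) * A r j) • bM j := by
            refine Finset.sum_congr rfl fun r _ => ?_
            conv_lhs => rw [h1 r]
            rw [Finset.smul_sum]
            refine Finset.sum_congr rfl fun j _ => ?_
            rw [smul_smul]
        _ = ∑ j, (∑ r, C (c r) * A r j) • bM j := by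
            rw [Finset.sum_comm]
            refine Finset.sum_congr rfl fun j _ => ?_
            rw [Finset.sum_smul]
        _ = (X : PowerSeries k) • ∑ j, b' j • bM j := by
            rw [Finset.smul_sum]
            refine Finset.sum_congr rfl fun j _ => ?_
            rw [hb' j, smul_smul]
    set m' : M := ∑ j, b' j • bM j with hm'
    have hsum' := congrArg (fun x : M => (x : RootDisk 2 k × PowerSeries k)) hsum
    simp only [Submodule.coe_sum, Submodule.coe_smul] at hsum'
    rw [Fin.sum_univ_succ] at hsum'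
    simp only [G, Fin.cons_zero, Fin.cons_succ] at hsum'
    have hsnd : (C (c 0) : PowerSeries k) = X * (m' : RootDisk 2 k × PowerSeries k).2 := by
      have := congrArg Prod.snd hsum'
      simpa [Prod.snd_sum] using this
    have hc0 : c 0 = 0 := by
      have := congrArg PowerSeries.constantCoeff hsnd
      simpa using this
    have hm2 : (m' : RootDisk 2 k × PowerSeries k).2 = 0 := by
      rw [hc0, map_zero] at hsnd
      have := hsnd.symm
      rcases mul_eq_zero.1 this with h | h
      · exact absurd h PowerSeries.X_ne_zero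
      · exact h
    have hmN : (m' : RootDisk 2 k × PowerSeries k).1 ∈ NN M := by
      rw [mem_NN]
      have : (((m' : RootDisk 2 k × PowerSeries k).1, 0) : RootDisk 2 k × PowerSeries k)
          = (m' : RootDisk 2 k × PowerSeries k) := by
        apply Prod.ext
        · rfl
        · exact hm2.symm
      rw [this]
      exact m'.2
    have hfst := congrArg Prod.fst hsum'
    simp only [Prod.fst_add, Prod.smul_fst, Prod.fst_sum, hc0, map_zero, zero_smul,
      zero_add] at hfst
    have hcs := hkey (fun r => c r.succ) _ hmN hfst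
    apply hc
    funext i
    induction i using Fin.cases with
    | zero => exact hc0
    | succ j => exact congrFun hcs j
  let f : M →ₗ[PowerSeries k] M := bM.constr (PowerSeries k) G
  have hf : (LinearMap.toMatrix bM bM f).det = A.det := by
    rw [← Matrix.det_transpose]
    congr 1
    ext i j
    simp [f, A, LinearMap.toMatrix_apply]
  have hf' : IsUnit (LinearMap.toMatrix bM bM f).det := by rw [hf]; exact hA
  let e := LinearEquiv.ofIsUnitDet hf'
  have hg : ∀ i, (bM.map e) i = G i := by
    intro i
    simp [e, f]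
  refine ⟨gg 0, gg 1, ?_, ?_⟩
  · rw [hgg1, hgg1, ENat.toNat_natCast, ENat.toNat_natCast]
    intro hmod
    have := hgg2 0
    have := hgg2 1
    unfold Nat.ModEq at hmod
    simp at *
    omega
  · apply le_antisymm
    · intro m hm
      have := (bM.map e).sum_repr ⟨m, hm⟩
      have h2 := congrArg (fun x : M => (x : RootDisk 2 k × PowerSeries k)) this
      simp only [Submodule.coe_sum, Submodule.coe_smul] at h2
      rw [← h2]
      refine Submodule.sum_mem _ fun i _ => Submodule.smul_mem _ _ (Submodule.subset_span ?_)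
      rw [hg]
      induction i using Fin.cases with
      | zero => simp [G]
      | succ j =>
        have hGs : G j.succ = ⟨((gg j : RootDisk 2 k), 0), (gg j).2⟩ := rfl
        rw [hGs]
        fin_cases j <;> simp
    · rw [Submodule.span_le]
      intro x hx
      simp only [Set.mem_insert_iff, Set.mem_singleton_iff] at hx
      rcases hx with rfl | rfl | rfl
      · exact h1
      · exact (gg 0).2
      · exact (gg 1).2

end Groth.Agent.H9.RD2
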