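import Mathlib
import Groth.Prelude.Def_W4c1hurwitzcptBd

/-! Helper9: RootDisk 3 free rank-3 submodules have a basis with valuations distinct mod 3 (S13884). -/

namespace Groth.Agent.H9.RD3

open W4c1hurwitzcpt PowerSeries

universe u
variable {k : Type u} [Field k]

theorem val_smul (r : PowerSeries k) (s : RootDisk 3 k) :
    RootDisk.val (r • s) = PowerSeries.expand 3 (by norm_num) r * RootDisk.val s := by
  rw [Algebra.smul_def]; rfl

theorem aux (F : ℕ → k) (q i j : ℕ) (hi : i < 3) (hj : j < 3) :
    (if i ≤ 3*q+j then (if 3 ∣ 3*q+j-i then F (3*((3*q+j-i)/3)+i) else 0) else 0)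
      = if i = j then F (3*q+j) else 0 := by
  by_cases h : i = j
  · subst h
    have h1 : 3*q+i-i = 3*q := by omega
    simp [h1]
  · rw [if_neg h]
    split_ifs with h1 h2
    · exfalso; omega
    · rfl
    · rfl

theorem span_top : Submodule.span (PowerSeries k)
    (Set.range fun i : Fin 3 => (RootDisk.val.symm (X ^ (i : ℕ)) : RootDisk 3 k)) = ⊤ := by
  rw [eq_top_iff]
  rintro f -
  have : f = ∑ i : Fin 3, (PowerSeries.mk fun n => coeff (3 * n + i) (RootDisk.val f)) •
      (RootDisk.val.symm (X ^ (i : ℕ)) : RootDisk 3 k) := by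
    apply RootDisk.val.injective
    rw [map_sum]
    simp only [val_smul, RingEquiv.apply_symm_apply]
    ext m
    rw [map_sum]
    simp only [coeff_mul_X_pow', coeff_expand, coeff_mk]
    obtain ⟨q, j, hj, rfl⟩ : ∃ q j, j < 3 ∧ m = 3 * q + j :=
      ⟨m / 3, m % 3, Nat.mod_lt _ (by norm_num), (Nat.div_add_mod m 3).symm⟩
    rw [Finset.sum_congr rfl (fun (i : Fin 3) _ => aux (fun n => coeff n (RootDisk.val f)) q (i : ℕ) j i.2 hj)]
    rw [Fin.sum_univ_three]
    interval_cases j <;> simp
  rw [this]
  exact Submodule.sum_mem _ fun i _ => Submodule.smul_mem _ _ (Submodule.subset_span ⟨i, rfl⟩)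

theorem exists_class (M : Submodule (PowerSeries k) (RootDisk 3 k))
    (bM : Module.Basis (Fin 3) (PowerSeries k) M) (r : Fin 3) :
    ∃ n : ℕ, ∃ m ∈ M, PowerSeries.order (RootDisk.val m) = (n : ℕ∞) ∧ n % 3 = r.val := by
  classical
  set xr : RootDisk 3 k := RootDisk.val.symm (X ^ (r : ℕ)) with hxr
  let v : Fin 4 → RootDisk 3 k := Fin.cons xr (fun i => ((bM i : M) : RootDisk 3 k))
  have hnl : ¬ LinearIndependent (PowerSeries k) v := by
    intro hli
    have := linearIndependent_le_span v hli
      (Set.range fun i : Fin 3 => (RootDisk.val.symm (X ^ (i : ℕ)) : RootDisk 3 k)) span_top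
    have h2 : Fintype.card (Set.range fun i : Fin 3 =>
        (RootDisk.val.symm (X ^ (i : ℕ)) : RootDisk 3 k)) ≤ 3 := by
      have := Fintype.card_range_le (fun i : Fin 3 =>
        (RootDisk.val.symm (X ^ (i : ℕ)) : RootDisk 3 k))
      rwa [Fintype.card_fin] at this
    rw [Cardinal.mk_fin] at this
    have h4 : (4 : ℕ) ≤ Fintype.card (Set.range fun i : Fin 3 =>
        (RootDisk.val.symm (X ^ (i : ℕ)) : RootDisk 3 k)) := by exact_mod_cast this
    omega
  rw [Fintype.not_linearIndependent_iff] at hnl
  obtain ⟨c, hc, hne⟩ := hnl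
  rw [Fin.sum_univ_succ] at hc
  simp only [v, Fin.cons_zero, Fin.cons_succ] at hc
  have hc0 : c 0 ≠ 0 := by
    intro h0
    rw [h0, zero_smul, zero_add] at hc
    have h3 : ∑ i : Fin 3, c i.succ • bM i = 0 := by
      apply Subtype.ext
      rw [Submodule.coe_sum]
      simpa using hc
    have := Fintype.linearIndependent_iff.1 bM.linearIndependent _ h3
    obtain ⟨i, hi⟩ := hne
    induction i using Fin.cases with
    | zero => exact hi h0
    | succ j => exact hi (this j)
  refine ⟨3 * (PowerSeries.order (c 0)).toNat + r.val, c 0 • xr, ?_, ?_, ?_⟩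
  · have : c 0 • xr = - ∑ i : Fin 3, c i.succ • ((bM i : M) : RootDisk 3 k) := by
      rw [eq_neg_iff_add_eq_zero]; exact hc
    rw [this]
    exact Submodule.neg_mem _ (Submodule.sum_mem _ fun i _ => Submodule.smul_mem _ _ (bM i).2)
  · rw [val_smul, hxr, RingEquiv.apply_symm_apply, order_mul, order_expand, order_X_pow]
    have : PowerSeries.order (c 0) = ((PowerSeries.order (c 0)).toNat : ℕ∞) := by
      rw [ENat.natCast_toNat]
      rwa [Ne, PowerSeries.order_eq_top]
    rw [this]
    simp
  · omega


theorem val_C_smul (c : k) (s : RootDisk 3 k) :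
    RootDisk.val ((C c : PowerSeries k) • s) = C c * RootDisk.val s := by
  rw [val_smul, expand_C]

theorem key (M : Submodule (PowerSeries k) (RootDisk 3 k)) (n : Fin 3 → ℕ)
    (gg : Fin 3 → RootDisk 3 k)
    (h1 : ∀ r, PowerSeries.order (RootDisk.val (gg r)) = (n r : ℕ∞))
    (h2 : ∀ r, n r % 3 = r.val)
    (hmin : ∀ r d, d < n r → d % 3 = r.val → ∀ m ∈ M, PowerSeries.order (RootDisk.val m) ≠ (d : ℕ∞))
    (c : Fin 3 → k) (m : RootDisk 3 k) (hm : m ∈ M)
    (h : ∑ r, (C (c r) : PowerSeries k) • gg r = (X : PowerSeries k) • m) : c = 0 := by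
  classical
  by_contra hc
  have hT : (Finset.univ.filter fun r => c r ≠ 0).Nonempty := by
    by_contra hT
    rw [Finset.not_nonempty_iff_eq_empty, Finset.filter_eq_empty_iff] at hT
    apply hc
    funext r
    have := hT (Finset.mem_univ r)
    simpa using this
  obtain ⟨r0, hr0, hr0min⟩ := Finset.exists_min_image _ n hT
  rw [Finset.mem_filter] at hr0
  have hcoef : ∀ i, coeff i (RootDisk.val (∑ r, (C (c r) : PowerSeries k) • gg r))
      = ∑ r, c r * coeff i (RootDisk.val (gg r)) := by
    intro i
    rw [map_sum, map_sum]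
    refine Finset.sum_congr rfl fun r _ => ?_
    rw [val_C_smul, coeff_C_mul]
  have hlt : ∀ r, r ≠ r0 → c r ≠ 0 → n r0 < n r := by
    intro r hr hcr
    have hle := hr0min r (Finset.mem_filter.2 ⟨Finset.mem_univ _, hcr⟩)
    have hne : n r0 ≠ n r := by
      intro he
      apply hr
      apply Fin.ext
      rw [← h2 r, ← h2 r0, he]
    omega
  have hord : PowerSeries.order (RootDisk.val (∑ r, (C (c r) : PowerSeries k) • gg r))
      = (n r0 : ℕ∞) := by
    rw [PowerSeries.order_eq_nat]
    constructor
    · rw [hcoef, Finset.sum_eq_single r0]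
      · exact mul_ne_zero hr0.2 ((PowerSeries.order_eq_nat.1 (h1 r0)).1)
      · intro r _ hr
        by_cases hcr : c r = 0
        · rw [hcr, zero_mul]
        · rw [(PowerSeries.order_eq_nat.1 (h1 r)).2 _ (hlt r hr hcr), mul_zero]
      · intro h; exact absurd (Finset.mem_univ _) h
    · intro i hi
      rw [hcoef]
      refine Finset.sum_eq_zero fun r _ => ?_
      by_cases hcr : c r = 0
      · rw [hcr, zero_mul]
      · have hle := hr0min r (Finset.mem_filter.2 ⟨Finset.mem_univ _, hcr⟩)
        rw [(PowerSeries.order_eq_nat.1 (h1 r)).2 _ (lt_of_lt_of_le hi hle), mul_zero]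
  rw [h, val_smul, expand_X, order_mul, order_X_pow] at hord
  have hfin : PowerSeries.order (RootDisk.val m) ≠ ⊤ := by
    intro htop
    rw [htop] at hord
    simp at hord
  have hd : PowerSeries.order (RootDisk.val m)
      = ((PowerSeries.order (RootDisk.val m)).toNat : ℕ∞) := (ENat.natCast_toNat hfin).symm
  rw [hd] at hord
  have hd3 : 3 + (PowerSeries.order (RootDisk.val m)).toNat = n r0 := by exact_mod_cast hord
  refine hmin r0 (PowerSeries.order (RootDisk.val m)).toNat (by omega) ?_ m hm hd
  rw [← h2 r0]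
  omega

theorem main (M : Submodule (PowerSeries k) (RootDisk 3 k))
    (bM : Module.Basis (Fin 3) (PowerSeries k) M) :
    ∃ g : Module.Basis (Fin 3) (PowerSeries k) M, ∀ i j : Fin 3, i ≠ j →
      ¬ Nat.ModEq 3 (PowerSeries.order (RootDisk.val ((g i : M) : RootDisk 3 k))).toNat
        (PowerSeries.order (RootDisk.val ((g j : M) : RootDisk 3 k))).toNat := by
  classical
  have hex := exists_class M bM
  have hspec : ∀ r : Fin 3, ∃ m : M, PowerSeries.order (RootDisk.val (m : RootDisk 3 k))
      = ((Nat.find (hex r) : ℕ) : ℕ∞) ∧ Nat.find (hex r) % 3 = r.val := by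
    intro r
    obtain ⟨m, hm, h1, h2⟩ := Nat.find_spec (hex r)
    exact ⟨⟨m, hm⟩, h1, h2⟩
  choose gg hgg1 hgg2 using hspec
  have hmin : ∀ r d, d < Nat.find (hex r) → d % 3 = r.val → ∀ m ∈ M,
      PowerSeries.order (RootDisk.val m) ≠ (d : ℕ∞) := by
    intro r d hd hd3 m hm he
    exact Nat.find_min (hex r) hd ⟨m, hm, he, hd3⟩
  have hkey := key M (fun r => Nat.find (hex r)) (fun r => (gg r : RootDisk 3 k)) hgg1 hgg2 hmin
  -- the matrix
  let A : Matrix (Fin 3) (Fin 3) (PowerSeries k) := fun r j => bM.repr (gg r) j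
  have hA : IsUnit A.det := by
    rw [PowerSeries.isUnit_iff_constantCoeff, RingHom.map_det, isUnit_iff_ne_zero]
    intro h0
    obtain ⟨c, hc, hcA⟩ := Matrix.exists_vecMul_eq_zero_iff.2 h0
    have hb : ∀ j, ∃ b' : PowerSeries k, ∑ r, C (c r) * A r j = X * b' := by
      intro j
      have : (X : PowerSeries k) ∣ ∑ r, C (c r) * A r j := by
        rw [PowerSeries.X_dvd_iff, map_sum]
        have := congrFun hcA j
        simp only [Matrix.vecMul, dotProduct, Matrix.map_apply, Pi.zero_apply] at this
        simpa using this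
      exact this
    choose b' hb' using hb
    have hsum : ∑ r, (C (c r) : PowerSeries k) • gg r = (X : PowerSeries k) • ∑ j, b' j • bM j := by
      have h1 : ∀ r, gg r = ∑ j, A r j • bM j := fun r => (bM.sum_repr (gg r)).symm
      calc ∑ r, (C (c r) : PowerSeries k) • gg r
          = ∑ r, ∑ j, (C (c r) * A r j) • bM j := by
            refine Finset.sum_congr rfl fun r _ => ?_
            conv_lhs => rw [h1 r]
            rw [Finset.smul_sum]
            refine Finset.sum_congr rfl fun j _ => ?_
            rw [smul_smul]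
        _ = ∑ j, (∑ r, C (c r) * A r j) • bM j := by
            rw [Finset.sum_comm]
            refine Finset.sum_congr rfl fun j _ => ?_
            rw [Finset.sum_smul]
        _ = (X : PowerSeries k) • ∑ j, b' j • bM j := by
            rw [Finset.smul_sum]
            refine Finset.sum_congr rfl fun j _ => ?_
            rw [hb' j, smul_smul]
    have := hkey c ((∑ j, b' j • bM j : M) : RootDisk 3 k) (Submodule.coe_mem _) (by
      have := congrArg (fun x : M => (x : RootDisk 3 k)) hsum
      simpa using this)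
    exact hc this
  let f : M →ₗ[PowerSeries k] M := bM.constr (PowerSeries k) gg
  have hf : (LinearMap.toMatrix bM bM f).det = A.det := by
    rw [← Matrix.det_transpose]
    congr 1
    ext i j
    simp [f, A, LinearMap.toMatrix_apply]
  have hf' : IsUnit (LinearMap.toMatrix bM bM f).det := by rw [hf]; exact hA
  let e := LinearEquiv.ofIsUnitDet hf'
  refine ⟨bM.map e, ?_⟩
  have hg : ∀ i, (bM.map e) i = gg i := by
    intro i
    simp [e, f]
  intro i j hij
  rw [hg, hg, hgg1, hgg1, ENat.toNat_natCast, ENat.toNat_natCast]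
  intro hmod
  apply hij
  apply Fin.ext
  rw [← hgg2 i, ← hgg2 j]
  exact hmod

end Groth.Agent.H9.RD3
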