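import Mathlib
import Groth.Prelude.Def_W4c1hurwitzcptBd
import Groth.Agent.Lib.Helper9.Misc.RD3

/-! Helper9: closedness under multiplication criterion, triple ramified cover (S19485). -/

namespace Groth.Agent.H9.RD4

open W4c1hurwitzcpt PowerSeries

universe u
variable {k : Type u} [Field k]

theorem ord_sum_ne (P Q : PowerSeries k) (d : ℕ) (hP : order P ≠ (d : ℕ∞))
    (hQ : (d : ℕ∞) < order Q) : order (P + Q) ≠ (d : ℕ∞) := by
  intro h
  apply hP
  have hne : order (P + Q) ≠ order (-Q) := by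
    rw [order_neg, h]; exact ne_of_lt hQ
  have := order_add_of_order_ne (P + Q) (-Q) hne
  rw [add_neg_cancel_right, h, order_neg, min_eq_left hQ.le] at this
  exact this

theorem order_nat_of_ne_zero (r : PowerSeries k) (hr : r ≠ 0) :
    ∃ a : ℕ, order r = (a : ℕ∞) := by
  refine ⟨(order r).toNat, (ENat.natCast_toNat ?_).symm⟩
  rwa [Ne, order_eq_top]

/-- the mod `p` argument for `p = 3` -/
theorem ord_AB_ne (r₁ r₂ G : PowerSeries k) (hG : order G = 0) (m : ℕ) (hm : ¬ 3 ∣ m) :
    order (expand 3 (by norm_num) r₁ + expand 3 (by norm_num) r₂ * (X ^ m * G))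
      ≠ ((2 * m : ℕ) : ℕ∞) := by
  have hB : ∀ b : ℕ, order r₂ = (b : ℕ∞) →
      order (expand 3 (by norm_num) r₂ * (X ^ m * G)) = ((3 * b + m : ℕ) : ℕ∞) := by
    intro b hb
    rw [order_mul, order_mul, order_expand, order_X_pow, hG, hb]
    push_cast
    simp
  have hA : ∀ a : ℕ, order r₁ = (a : ℕ∞) →
      order (expand 3 (by norm_num) r₁) = ((3 * a : ℕ) : ℕ∞) := by
    intro a ha
    rw [order_expand, ha]
    push_cast
    simp
  by_cases h1 : r₁ = 0
  · by_cases h2 : r₂ = 0
    · rw [h1, h2]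
      simp only [map_zero, zero_mul, add_zero, order_zero]
      exact (ENat.natCast_ne_top _).symm
    · obtain ⟨b, hb⟩ := order_nat_of_ne_zero r₂ h2
      rw [h1, map_zero, zero_add, hB b hb]
      intro h
      have : 3 * b + m = 2 * m := by exact_mod_cast h
      omega
  · obtain ⟨a, ha⟩ := order_nat_of_ne_zero r₁ h1
    by_cases h2 : r₂ = 0
    · rw [h2, map_zero, zero_mul, add_zero, hA a ha]
      intro h
      have : 3 * a = 2 * m := by exact_mod_cast h
      omega
    · obtain ⟨b, hb⟩ := order_nat_of_ne_zero r₂ h2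
      have hne : order (expand 3 (by norm_num) r₁)
          ≠ order (expand 3 (by norm_num) r₂ * (X ^ m * G)) := by
        rw [hA a ha, hB b hb]
        intro h
        have : 3 * a = 3 * b + m := by exact_mod_cast h
        omega
      rw [order_add_of_order_ne _ _ hne, hA a ha, hB b hb]
      intro h
      rcases le_total (3 * a) (3 * b + m) with hle | hle
      · rw [min_eq_left (by exact_mod_cast hle)] at h
        have : 3 * a = 2 * m := by exact_mod_cast h
        omega
      · rw [min_eq_right (by exact_mod_cast hle)] at h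
        have : 3 * b + m = 2 * m := by exact_mod_cast h
        omega

theorem mem_M (m n : ℕ) (x g : RootDisk 3 k) (a : RootDisk 3 k) :
    a ∈ Submodule.span (PowerSeries k) {1, x ^ m * g} ⊔
      (Ideal.span {x ^ n} : Ideal (RootDisk 3 k)).restrictScalars (PowerSeries k) ↔
    ∃ (r₁ r₂ : PowerSeries k) (s : RootDisk 3 k),
      a = r₁ • 1 + r₂ • (x ^ m * g) + x ^ n * s := by
  rw [Submodule.mem_sup]
  constructor
  · rintro ⟨y, hy, z, hz, rfl⟩
    rw [Submodule.mem_span_pair] at hy
    obtain ⟨r₁, r₂, rfl⟩ := hy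
    rw [Submodule.restrictScalars_mem, Ideal.mem_span_singleton'] at hz
    obtain ⟨s, rfl⟩ := hz
    exact ⟨r₁, r₂, s, by rw [mul_comm s]⟩
  · rintro ⟨r₁, r₂, s, rfl⟩
    refine ⟨r₁ • 1 + r₂ • (x ^ m * g), ?_, x ^ n * s, ?_, rfl⟩
    · rw [Submodule.mem_span_pair]; exact ⟨r₁, r₂, rfl⟩
    · rw [Submodule.restrictScalars_mem, Ideal.mem_span_singleton']
      exact ⟨s, mul_comm _ _⟩

theorem main (m n : ℕ) (hm : ¬ 3 ∣ m) (x g : RootDisk 3 k)
    (hx : RootDisk.val x = PowerSeries.X) (hg : PowerSeries.order (RootDisk.val g) = 0)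
    (M : Submodule (PowerSeries k) (RootDisk 3 k))
    (hM : M = Submodule.span (PowerSeries k) {1, x ^ m * g} ⊔
      (Ideal.span {x ^ n} : Ideal (RootDisk 3 k)).restrictScalars (PowerSeries k)) :
    (∀ a ∈ M, ∀ b ∈ M, a * b ∈ M) ↔ n ≤ 2 * m := by
  subst hM
  constructor
  · intro hcl
    by_contra hlt
    push Not at hlt
    have hu : x ^ m * g ∈ Submodule.span (PowerSeries k) {1, x ^ m * g} ⊔
        (Ideal.span {x ^ n} : Ideal (RootDisk 3 k)).restrictScalars (PowerSeries k) := by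
      rw [mem_M]; exact ⟨0, 1, 0, by simp⟩
    have := hcl _ hu _ hu
    rw [mem_M] at this
    obtain ⟨r₁, r₂, s, hs⟩ := this
    have hv := congrArg RootDisk.val hs
    rw [map_add, map_add, RD3.val_smul, RD3.val_smul, map_one, mul_one, map_mul, map_mul,
      map_mul, map_pow, map_pow, hx] at hv
    have hL : order (X ^ m * RootDisk.val g * (X ^ m * RootDisk.val g)) = ((2 * m : ℕ) : ℕ∞) := by
      rw [order_mul, order_mul, order_X_pow, hg]
      push_cast
      ring
    rw [hv] at hL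
    refine ord_sum_ne _ _ (2 * m) (ord_AB_ne r₁ r₂ _ hg m hm) ?_ hL
    calc ((2 * m : ℕ) : ℕ∞) < (n : ℕ∞) := by exact_mod_cast hlt
      _ ≤ order (X ^ n * RootDisk.val s) := by
        rw [order_mul, order_X_pow]
        exact le_self_add
  · intro hn a ha b hb
    rw [mem_M] at ha hb ⊢
    obtain ⟨r₁, r₂, s, rfl⟩ := ha
    obtain ⟨r₁', r₂', s', rfl⟩ := hb
    obtain ⟨e, he⟩ : ∃ e, 2 * m = n + e := ⟨2 * m - n, by omega⟩
    refine ⟨r₁ * r₁', r₁ * r₂' + r₂ * r₁',
      algebraMap _ _ (r₂ * r₂') * (x ^ e * g * g) + (r₁ • 1 + r₂ • (x ^ m * g)) * s'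
        + (r₁' • 1 + r₂' • (x ^ m * g)) * s + x ^ n * s * s', ?_⟩
    simp only [Algebra.smul_def, map_mul, map_add]
    have hpow : x ^ m * x ^ m = x ^ n * x ^ e := by rw [← pow_add, ← pow_add, ← he, two_mul]
    linear_combination (algebraMap (PowerSeries k) (RootDisk 3 k) r₂ *
      algebraMap (PowerSeries k) (RootDisk 3 k) r₂' * g * g) * hpow

end Groth.Agent.H9.RD4
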