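import Mathlib
import Groth.Prelude.Def_W4c1hurwitzcptBd
import Groth.Agent.Lib.Helper9.Misc.RD2
import Groth.Agent.Lib.Helper9.Misc.RD4

/-! Helper9: non-closedness computation, simply ramified triple cover (S19486). -/

namespace Groth.Agent.H9.RD5

open W4c1hurwitzcpt PowerSeries

universe u
variable {k : Type u} [Field k]

theorem ord_B_ne (r₂ G : PowerSeries k) (hG : order G = 0) (m : ℕ) (hm : Odd m) :
    order (expand 2 (by norm_num) r₂ * (X ^ m * G)) ≠ ((2 * m : ℕ) : ℕ∞) := by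
  by_cases h2 : r₂ = 0
  · rw [h2]
    simp only [map_zero, zero_mul, order_zero]
    exact (ENat.natCast_ne_top _).symm
  · obtain ⟨b, hb⟩ := RD4.order_nat_of_ne_zero r₂ h2
    have : order (expand 2 (by norm_num) r₂ * (X ^ m * G)) = ((2 * b + m : ℕ) : ℕ∞) := by
      rw [order_mul, order_mul, order_expand, order_X_pow, hG, hb]
      push_cast
      simp
    rw [this]
    intro h
    have : 2 * b + m = 2 * m := by exact_mod_cast h
    obtain ⟨c, hc⟩ := hm
    omega

theorem mem_M (m n : ℕ) (x g : RootDisk 2 k) (a : RootDisk 2 k × PowerSeries k) :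
    a ∈ Submodule.span (PowerSeries k)
        {(1 : RootDisk 2 k × PowerSeries k), (x ^ m * g, 0)} ⊔
      ((Ideal.span {x ^ n} : Ideal (RootDisk 2 k)).restrictScalars (PowerSeries k)).prod ⊥ ↔
    ∃ (r₁ r₂ : PowerSeries k) (s : RootDisk 2 k),
      a = r₁ • 1 + r₂ • ((x ^ m * g, 0) : RootDisk 2 k × PowerSeries k) + (x ^ n * s, 0) := by
  rw [Submodule.mem_sup]
  constructor
  · rintro ⟨y, hy, z, hz, rfl⟩
    rw [Submodule.mem_span_pair] at hy
    obtain ⟨r₁, r₂, rfl⟩ := hy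
    rw [Submodule.mem_prod] at hz
    obtain ⟨hz1, hz2⟩ := hz
    rw [Submodule.restrictScalars_mem, Ideal.mem_span_singleton'] at hz1
    obtain ⟨s, hs⟩ := hz1
    rw [Submodule.mem_bot] at hz2
    refine ⟨r₁, r₂, s, ?_⟩
    congr 1
    apply Prod.ext
    · rw [← hs, mul_comm]
    · exact hz2
  · rintro ⟨r₁, r₂, s, rfl⟩
    refine ⟨r₁ • 1 + r₂ • ((x ^ m * g, 0) : RootDisk 2 k × PowerSeries k), ?_,
      (x ^ n * s, 0), ?_, rfl⟩
    · rw [Submodule.mem_span_pair]; exact ⟨r₁, r₂, rfl⟩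
    · rw [Submodule.mem_prod]
      refine ⟨?_, ?_⟩
      · rw [Submodule.restrictScalars_mem, Ideal.mem_span_singleton']
        exact ⟨s, mul_comm _ _⟩
      · simp

theorem main (m n : ℕ) (hm : Odd m) (hmn : 2 * m < n) (x g : RootDisk 2 k)
    (hx : RootDisk.val x = PowerSeries.X) (hg : PowerSeries.order (RootDisk.val g) = 0)
    (M : Submodule (PowerSeries k) (RootDisk 2 k × PowerSeries k))
    (hM : M = Submodule.span (PowerSeries k)
        {(1 : RootDisk 2 k × PowerSeries k), (x ^ m * g, 0)} ⊔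
      ((Ideal.span {x ^ n} : Ideal (RootDisk 2 k)).restrictScalars (PowerSeries k)).prod ⊥) :
    ∃ a ∈ M, ∃ b ∈ M, a * b ∉ M := by
  subst hM
  have hu : ((x ^ m * g, 0) : RootDisk 2 k × PowerSeries k) ∈ Submodule.span (PowerSeries k)
        {(1 : RootDisk 2 k × PowerSeries k), (x ^ m * g, 0)} ⊔
      ((Ideal.span {x ^ n} : Ideal (RootDisk 2 k)).restrictScalars (PowerSeries k)).prod ⊥ := by
    rw [mem_M]; exact ⟨0, 1, 0, by simp⟩
  refine ⟨_, hu, _, hu, ?_⟩
  intro hmem
  rw [mem_M] at hmem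
  obtain ⟨r₁, r₂, s, hs⟩ := hmem
  have h2 := congrArg Prod.snd hs
  simp only [Prod.snd_mul, mul_zero, Prod.snd_add, Prod.smul_snd, Prod.snd_one, smul_eq_mul,
    mul_one, add_zero] at h2
  have h1 := congrArg Prod.fst hs
  simp only [Prod.fst_mul, Prod.fst_add, Prod.smul_fst, Prod.fst_one, ← h2, zero_smul,
    zero_add] at h1
  have hv := congrArg RootDisk.val h1
  rw [map_add, RD2.val_smul, map_mul, map_mul, map_mul, map_pow, map_pow, hx] at hv
  have hL : order (X ^ m * RootDisk.val g * (X ^ m * RootDisk.val g)) = ((2 * m : ℕ) : ℕ∞) := by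
    rw [order_mul, order_mul, order_X_pow, hg]
    push_cast
    ring
  rw [hv] at hL
  refine RD4.ord_sum_ne _ _ (2 * m) (ord_B_ne r₂ _ hg m hm) ?_ hL
  calc ((2 * m : ℕ) : ℕ∞) < (n : ℕ∞) := by exact_mod_cast hmn
    _ ≤ order (X ^ n * RootDisk.val s) := by
      rw [order_mul, order_X_pow]
      exact le_self_add

end Groth.Agent.H9.RD5
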