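import Mathlib
import Groth.Prelude.Def_Red
import Groth.Agent.Lib.Helper9.Misc.GSB2

/-! Helper9: group scheme with reduced geometric local ring at the unit is smooth (S14588); reducedness of Jacobson schemes via closed points. -/

set_option linter.style.haveILetI false
set_option linter.unusedSectionVars false

namespace Groth.Agent.H9.RDG

universe u

open CategoryTheory CategoryTheory.Limits MonoidalCategory CartesianMonoidalCategory MonObj GrpObj
  AlgebraicGeometry

section jacobson

theorem isReduced_atPrime_of_le {R : Type*} [CommRing R] (P Q : Ideal R) [P.IsPrime] [Q.IsPrime]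
    (hQP : Q ≤ P) (SP SQ : Type*) [CommRing SP] [CommRing SQ] [Algebra R SP] [Algebra R SQ]
    [IsLocalization.AtPrime SP P] [IsLocalization.AtPrime SQ Q] [IsReduced SP] : IsReduced SQ := by
  constructor
  intro z hz
  obtain ⟨a, s, rfl⟩ := IsLocalization.exists_mk'_eq Q.primeCompl z
  obtain ⟨n, hn⟩ := hz
  rw [← IsLocalization.mk'_pow, IsLocalization.mk'_eq_zero_iff] at hn
  obtain ⟨u, hu⟩ := hn
  -- (u a)^(n+1) = 0
  have h1 : ((u : R) * a) ^ (n + 1) = 0 := by
    rw [mul_pow, pow_succ (u : R), pow_succ a]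
    calc (u : R) ^ n * u * (a ^ n * a) = (u : R) ^ n * a * ((u : R) * a ^ n) := by ring
      _ = 0 := by rw [hu, mul_zero]
  have h2 : algebraMap R SP ((u : R) * a) = 0 := by
    apply IsReduced.eq_zero
    exact ⟨n + 1, by rw [← map_pow, h1, map_zero]⟩
  rw [IsLocalization.map_eq_zero_iff P.primeCompl] at h2
  obtain ⟨v, hv⟩ := h2
  rw [IsLocalization.mk'_eq_zero_iff]
  have hvQ : (v : R) ∈ Q.primeCompl := fun hvq => v.2 (hQP hvq)
  refine ⟨⟨v, hvQ⟩ * u, ?_⟩
  rw [Submonoid.coe_mul, _root_.mul_assoc]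
  exact hv


/-- In a Jacobson scheme, reducedness may be tested on the stalks at closed points. -/
theorem isReduced_of_closedPoints (X : Scheme.{u}) [JacobsonSpace X]
    (h : ∀ x : X, IsClosed {x} → _root_.IsReduced (X.presheaf.stalk x)) : IsReduced X := by
  apply +allowSynthFailures isReduced_of_isReduced_stalk
  intro y
  have hne : (closure {y} : Set X).Nonempty := ⟨y, subset_closure rfl⟩
  obtain ⟨x, hxy, hxc⟩ := nonempty_inter_closedPoints hne isClosed_closure.isLocallyClosed
  have hsp : y ⤳ x := specializes_iff_mem_closure.mpr hxy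
  have hxred := h x hxc
  obtain ⟨_, ⟨U, hU, rfl⟩, hxU, -⟩ := X.isBasis_affineOpens.exists_subset_of_mem_open
    (Set.mem_univ x) isOpen_univ
  have hyU : y ∈ U := hsp.mem_open U.2 hxU
  letI a1 : Algebra Γ(X, U) (X.presheaf.stalk x) :=
    TopCat.Presheaf.algebra_section_stalk X.presheaf (U := U) ⟨x, hxU⟩
  letI a2 : Algebra Γ(X, U) (X.presheaf.stalk y) :=
    TopCat.Presheaf.algebra_section_stalk X.presheaf (U := U) ⟨y, hyU⟩
  haveI := hU.isLocalization_stalk ⟨x, hxU⟩
  haveI := hU.isLocalization_stalk ⟨y, hyU⟩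
  have hsp' : (⟨y, hyU⟩ : U) ⤳ ⟨x, hxU⟩ := (subtype_specializes_iff _ _).mpr hsp
  have hle : (hU.primeIdealOf ⟨y, hyU⟩).asIdeal ≤ (hU.primeIdealOf ⟨x, hxU⟩).asIdeal := by
    have h2 := hsp'.map hU.isoSpec.hom.continuous
    exact (PrimeSpectrum.le_iff_specializes _ _).mpr h2
  exact isReduced_atPrime_of_le (hU.primeIdealOf ⟨x, hxU⟩).asIdeal (hU.primeIdealOf ⟨y, hyU⟩).asIdeal
    hle (X.presheaf.stalk x) (X.presheaf.stalk y)

end jacobson

section Grp

variable {K : Type u} [Field K]

theorem isReduced_of_stalk_unit [IsAlgClosed K] (G : Over (Spec (CommRingCat.of K))) [GrpObj G]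
    [LocallyOfFiniteType G.hom] (t : ↥((𝟙_ (Over (Spec (CommRingCat.of K)))).left))
    (h : _root_.IsReduced (G.left.presheaf.stalk ((η[G]).left.base t))) : IsReduced G.left := by
  haveI := LocallyOfFiniteType.jacobsonSpace G.hom
  apply isReduced_of_closedPoints
  intro x hx
  let P : 𝟙_ (Over (Spec (CommRingCat.of K))) ⟶ G :=
    Over.homMk ((pointEquivClosedPoint G.hom).symm ⟨x, hx⟩).1
      ((pointEquivClosedPoint G.hom).symm ⟨x, hx⟩).2
  have hP : P.left (IsLocalRing.closedPoint K) = x := by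
    have := (pointEquivClosedPoint G.hom).apply_symm_apply ⟨x, hx⟩
    exact congrArg Subtype.val this
  have ht : t = IsLocalRing.closedPoint K := @Subsingleton.elim (PrimeSpectrum K) _ _ _
  let α := GrpObj.mulRight (A := G) P
  have hα : η[G] ≫ α.hom = P := by
    show η[G] ≫ (lift (𝟙 G) (toUnit G ≫ P) ≫ μ[G]) = P
    rw [comp_lift_assoc]
    have h0 : η[G] ≫ toUnit G ≫ P = P := by
      rw [← Category.assoc, toUnit_unique (η[G] ≫ toUnit G) (𝟙 _), Category.id_comp]
    rw [Category.comp_id, h0]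
    have h1 : η[G] = (1 : 𝟙_ (Over (Spec (CommRingCat.of K))) ⟶ G) := by
      rw [Hom.one_def]
      simp
    rw [← Hom.mul_def, h1, _root_.one_mul]
  have hα' : α.hom.left ((η[G]).left t) = x := by
    rw [← hP, ← hα, ht]
    rfl
  haveI : IsIso α.hom.left := inferInstanceAs (IsIso ((Over.forget _).mapIso α).hom)
  have hiso : IsIso (α.hom.left.stalkMap ((η[G]).left t)) := inferInstance
  have hinj : Function.Injective (α.hom.left.stalkMap ((η[G]).left t)).hom :=
    ((ConcreteCategory.isIso_iff_bijective _).mp hiso).1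
  have hred : _root_.IsReduced (G.left.presheaf.stalk (α.hom.left ((η[G]).left t))) :=
    isReduced_of_injective _ hinj
  rw [hα'] at hred
  exact hred

theorem S14588_main (k : Type u) [Field k]
    (G : Over (Spec (CommRingCat.of k))) [GrpObj G] [LocallyOfFiniteType G.hom]
    (t : ↥((𝟙_ (Over (Spec (CommRingCat.of (AlgebraicClosure k))))).left))
    (h : _root_.IsReduced ↑((Red.bc (Spec.map (CommRingCat.ofHom (algebraMap k (AlgebraicClosure k)))) G).left.presheaf.stalk ((η[Red.bc (Spec.map (CommRingCat.ofHom (algebraMap k (AlgebraicClosure k)))) G]).left.base t))) :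
    Smooth G.hom := by
  let g : Spec (CommRingCat.of (AlgebraicClosure k)) ⟶ Spec (CommRingCat.of k) :=
    Spec.map (CommRingCat.ofHom (algebraMap k (AlgebraicClosure k)))
  have hlft : LocallyOfFiniteType (Red.bc g G).hom :=
    inferInstanceAs (LocallyOfFiniteType (pullback.snd G.hom g))
  have hred : IsReduced (Red.bc g G).left := isReduced_of_stalk_unit (Red.bc g G) t h
  have hsm : Smooth (Red.bc g G).hom := Groth.Agent.H9.GSB.S7495_main (Red.bc g G)
  apply MorphismProperty.of_pullback_snd_of_descendsAlong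
    (Q := @Surjective ⊓ @Flat ⊓ @QuasiCompact) (g := g)
  · exact ⟨⟨inferInstance, inferInstance⟩, inferInstance⟩
  · exact hsm

end Grp

end Groth.Agent.H9.RDG
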