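import Mathlib

set_option autoImplicit false
set_option linter.style.haveILetI false
set_option linter.unusedSectionVars false
set_option linter.unusedVariables false

namespace Groth.Agent.H9.RES

section NS
variable {k P : Type*} [CommRing k] [CommRing P] [Algebra k P]

/-- If `g ∈ m^r` with `r ≥ 2` but `g ∉ m^(r+1)`, then `P/(g)` is not formally smooth over `k`
(for any base ring `k` and any `k`-algebra `P`). -/
theorem not_formallySmooth_of_mem_pow (m : Ideal P) (g : P) (s : ℕ) (hs : 1 ≤ s)
    (hg : g ∈ m ^ (s + 1)) (hg' : g ∉ m ^ (s + 2)) :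
    ¬ Algebra.FormallySmooth k (P ⧸ Ideal.span {g}) := by
  intro hsm
  set C := P ⧸ m ^ (s + 2) with hC
  let π : P →ₐ[k] C := Ideal.Quotient.mkₐ k (m ^ (s + 2))
  let N : ℕ → Ideal C := fun j => (m ^ j).map π.toRingHom
  have hNmono : ∀ {i j}, i ≤ j → N j ≤ N i := fun h => Ideal.map_mono (Ideal.pow_le_pow_right h)
  have hNmul : ∀ i j, N i * N j = N (i + j) := by
    intro i j
    change (m ^ i).map π.toRingHom * (m ^ j).map π.toRingHom = (m ^ (i + j)).map π.toRingHom
    rw [← Ideal.map_mul, ← pow_add]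
  have hNbot : ∀ j, s + 2 ≤ j → N j = ⊥ := by
    intro j hj
    rw [eq_bot_iff]
    refine (hNmono hj).trans ?_
    change (m ^ (s + 2)).map (Ideal.Quotient.mk (m ^ (s + 2))) ≤ ⊥
    rw [Ideal.map_quotient_self]
  have hπN : ∀ j x, x ∈ m ^ j → π x ∈ N j := fun j x hx => Ideal.mem_map_of_mem _ hx
  set I : Ideal C := N (s + 1) with hI
  have hI2 : I ^ 2 = ⊥ := by
    rw [pow_two, hI, hNmul]
    exact hNbot _ (by omega)
  -- canonical map
  have hker : ∀ a ∈ Ideal.span {g}, ((Ideal.Quotient.mkₐ k I).comp π) a = 0 := by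
    intro a ha
    obtain ⟨c, rfl⟩ := Ideal.mem_span_singleton'.mp ha
    rw [map_mul, AlgHom.comp_apply (φ₁ := Ideal.Quotient.mkₐ k I) (φ₂ := π) (p := g)]
    have : (Ideal.Quotient.mkₐ k I) (π g) = 0 := by
      change Ideal.Quotient.mk I (π g) = 0
      rw [Ideal.Quotient.eq_zero_iff_mem]
      exact hπN _ _ hg
    rw [this, mul_zero]
  let can : (P ⧸ Ideal.span {g}) →ₐ[k] (C ⧸ I) :=
    Ideal.Quotient.liftₐ (Ideal.span {g}) ((Ideal.Quotient.mkₐ k I).comp π) hker
  obtain ⟨f, hf⟩ := Algebra.FormallySmooth.exists_lift I ⟨2, hI2⟩ can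
  let Φ : P →ₐ[k] C := f.comp (Ideal.Quotient.mkₐ k (Ideal.span {g}))
  have hΦI : ∀ x, Φ x - π x ∈ I := by
    intro x
    rw [← Ideal.Quotient.eq]
    have := AlgHom.congr_fun hf (Ideal.Quotient.mk (Ideal.span {g}) x)
    exact this
  have hclaim : ∀ j, ∀ x ∈ m ^ j, Φ x - π x ∈ N (j + s) := by
    intro j
    induction j with
    | zero =>
      intro x _
      exact hNmono (by omega) (hΦI x)
    | succ j ih =>
      intro x hx
      rw [pow_succ] at hx
      refine Submodule.mul_induction_on hx ?_ ?_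
      · intro a ha b hb
        have e : Φ (a * b) - π (a * b) = Φ a * (Φ b - π b) + (Φ a - π a) * π b := by
          rw [map_mul, map_mul]; ring
        rw [e]
        have h1 : Φ a ∈ N j := by
          have : Φ a = π a + (Φ a - π a) := by ring
          rw [this]
          exact (N j).add_mem (hπN _ _ ha) (hNmono (by omega) (ih a ha))
        have h2 : Φ b - π b ∈ N (s + 1) := hΦI b
        have h3 : π b ∈ N 1 := hπN 1 b (by simpa using hb)
        refine (N (j + 1 + s)).add_mem ?_ ?_
        · have := Ideal.mul_mem_mul h1 h2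
          rw [hNmul] at this
          exact hNmono (by omega) this
        · have := Ideal.mul_mem_mul (ih a ha) h3
          rw [hNmul] at this
          exact hNmono (by omega) this
      · intro a b ha hb
        have e : Φ (a + b) - π (a + b) = (Φ a - π a) + (Φ b - π b) := by
          rw [map_add, map_add]; ring
        rw [e]
        exact (N (j + 1 + s)).add_mem ha hb
  have h1 := hclaim (s + 1) g hg
  rw [hNbot _ (by omega)] at h1
  have hΦg : Φ g = 0 := by
    change f (Ideal.Quotient.mk (Ideal.span {g}) g) = 0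
    have : Ideal.Quotient.mk (Ideal.span {g}) g = 0 :=
      Ideal.Quotient.eq_zero_iff_mem.mpr (Ideal.subset_span rfl)
    rw [this, map_zero]
  rw [hΦg, zero_sub, Ideal.mem_bot, neg_eq_zero] at h1
  apply hg'
  exact Ideal.Quotient.eq_zero_iff_mem.mp h1

/-- Noetherian domain version: `0 ≠ g ∈ m²` with `m` proper. -/
theorem not_formallySmooth_of_mem_sq [IsNoetherianRing P] [IsDomain P] (m : Ideal P)
    (hm : m ≠ ⊤) (g : P) (hg0 : g ≠ 0) (hg : g ∈ m ^ 2) :
    ¬ Algebra.FormallySmooth k (P ⧸ Ideal.span {g}) := by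
  classical
  have hK := Ideal.iInf_pow_eq_bot_of_isDomain m hm
  have hex : ∃ i, g ∉ m ^ i := by
    by_contra hcon
    push Not at hcon
    have : g ∈ ⨅ i, m ^ i := by
      rw [Ideal.mem_iInf]; exact hcon
    rw [hK] at this
    exact hg0 this
  set r := Nat.find hex with hr
  have hr1 : g ∉ m ^ r := Nat.find_spec hex
  have hr2 : ∀ i < r, g ∈ m ^ i := fun i hi => by
    by_contra h
    exact Nat.find_min hex hi h
  have hr3 : 3 ≤ r := by
    by_contra hlt
    push Not at hlt
    exact hr1 (Ideal.pow_le_pow_right (by omega) hg)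
  obtain ⟨s, hs⟩ : ∃ s, r = s + 2 := ⟨r - 2, by omega⟩
  rw [hs] at hr1
  exact not_formallySmooth_of_mem_pow m g s (by omega) (hr2 (s + 1) (by omega)) hr1

end NS

end Groth.Agent.H9.RES
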