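import Mathlib

set_option autoImplicit false
set_option linter.style.haveILetI false
set_option linter.unusedSectionVars false
set_option linter.unusedVariables false

namespace Groth.Agent.H9.RES

open Polynomial

section Chart
variable {k : Type*} [Field k]

/-- The inclusion `k[X] → k[X₀, X₁]`, `X ↦ X₀`. -/
noncomputable def iot : k[X] →ₐ[k] MvPolynomial (Fin 2) k := Polynomial.aeval (MvPolynomial.X 0)

@[simp] lemma iot_X : iot (k := k) X = MvPolynomial.X 0 := by simp [iot]

@[simp] lemma iot_C (r : k) : iot (k := k) (C r) = MvPolynomial.C r := by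
  simp [iot, MvPolynomial.algebraMap_eq]

/-- The chart polynomial `a(X₀) + b(X₀)·X₁`. -/
noncomputable def chartPoly (a b : k[X]) : MvPolynomial (Fin 2) k :=
  iot a + iot b * MvPolynomial.X 1

theorem smooth_chart (a b : k[X]) (hab : IsCoprime a b) :
    Algebra.Smooth k (MvPolynomial (Fin 2) k ⧸ Ideal.span {chartPoly a b}) := by
  classical
  set T := MvPolynomial (Fin 2) k with hT
  set g := chartPoly a b with hg
  set A := T ⧸ Ideal.span {g} with hA
  set L := Localization.Away b with hL
  let inv : L := IsLocalization.Away.invSelf b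
  have hinv : algebraMap k[X] L b * inv = 1 := IsLocalization.Away.mul_invSelf b
  -- Φ
  let vals : Fin 2 → L := ![algebraMap k[X] L X, -(algebraMap k[X] L a) * inv]
  let Φ : T →ₐ[k] L := MvPolynomial.aeval vals
  have hΦι : ∀ p : k[X], Φ (iot p) = algebraMap k[X] L p := by
    intro p
    have : Φ.comp iot = IsScalarTower.toAlgHom k k[X] L := by
      apply Polynomial.algHom_ext
      change Φ (iot X) = algebraMap k[X] L X
      rw [iot_X]
      change MvPolynomial.aeval vals (MvPolynomial.X 0) = _
      rw [MvPolynomial.aeval_X]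
      rfl
    exact AlgHom.congr_fun this p
  have hΦg : Φ g = 0 := by
    rw [hg, chartPoly, map_add, map_mul, hΦι, hΦι]
    have : Φ (MvPolynomial.X 1) = -(algebraMap k[X] L a) * inv := by
      change MvPolynomial.aeval vals (MvPolynomial.X 1) = _
      rw [MvPolynomial.aeval_X]
      rfl
    rw [this]
    linear_combination (-(algebraMap k[X] L a)) * hinv
  let Φq : A →ₐ[k] L := Ideal.Quotient.liftₐ (Ideal.span {g}) Φ (by
    intro x hx
    obtain ⟨c, rfl⟩ := Ideal.mem_span_singleton'.mp hx
    rw [map_mul, hΦg, mul_zero])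
  -- Ψ
  let mkA : T →ₐ[k] A := Ideal.Quotient.mkₐ k (Ideal.span {g})
  have hmkg : mkA g = 0 := Ideal.Quotient.eq_zero_iff_mem.mpr (Ideal.subset_span rfl)
  have hrel : mkA (iot a) = - (mkA (iot b) * mkA (MvPolynomial.X 1)) := by
    have : mkA (iot a + iot b * MvPolynomial.X 1) = 0 := hmkg
    rw [map_add, map_mul] at this
    linear_combination this
  obtain ⟨u, v, huv⟩ := hab
  have hbunit : IsUnit (mkA (iot b)) := by
    refine IsUnit.of_mul_eq_one (mkA (iot v) - mkA (iot u) * mkA (MvPolynomial.X 1)) ?_
    have h1 : mkA (iot (u * a + v * b)) = 1 := by rw [huv, map_one, map_one]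
    rw [map_add, map_mul, map_mul, map_add, map_mul, map_mul, hrel] at h1
    linear_combination h1
  let Ψ₀ : k[X] →ₐ[k] A := mkA.comp iot
  let Ψ : L →ₐ[k] A :=
    IsLocalization.liftAlgHom (M := Submonoid.powers b) (f := Ψ₀) (by
      rintro ⟨_, ⟨j, rfl⟩⟩
      rw [map_pow]
      exact hbunit.pow j)
  have hΨalg : ∀ p : k[X], Ψ (algebraMap k[X] L p) = mkA (iot p) := by
    intro p
    change IsLocalization.lift _ (algebraMap k[X] L p) = _
    rw [IsLocalization.lift_eq]
    rfl
  have hΨinv : Ψ inv * mkA (iot b) = 1 := by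
    rw [← hΨalg, ← map_mul, mul_comm, hinv, map_one]
  -- compositions
  have h1 : Φq.comp Ψ = AlgHom.id k L := by
    apply AlgHom.coe_ringHom_injective
    apply IsLocalization.ringHom_ext (Submonoid.powers b)
    ext p
    · simp only [RingHom.coe_comp, RingHom.coe_coe, Function.comp_apply, AlgHom.coe_comp,
        AlgHom.coe_id, id_eq, Polynomial.algebraMap_apply]
      change Φq (Ψ (algebraMap k[X] L (C p))) = algebraMap k[X] L (C p)
      rw [hΨalg]
      exact hΦι _
    · simp only [RingHom.coe_comp, RingHom.coe_coe, Function.comp_apply, AlgHom.coe_comp,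
        AlgHom.coe_id, id_eq]
      rw [hΨalg]
      exact hΦι _
  have h2 : Ψ.comp Φq = AlgHom.id k A := by
    apply Ideal.Quotient.algHom_ext
    apply MvPolynomial.algHom_ext
    intro i
    change Ψ (Φ (MvPolynomial.X i)) = mkA (MvPolynomial.X i)
    fin_cases i
    · have : Φ (MvPolynomial.X 0) = algebraMap k[X] L X := by
        change MvPolynomial.aeval vals (MvPolynomial.X 0) = _
        rw [MvPolynomial.aeval_X]
        rfl
      change Ψ (Φ (MvPolynomial.X 0)) = mkA (MvPolynomial.X 0)
      rw [this, hΨalg, iot_X]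
    · have : Φ (MvPolynomial.X 1) = -(algebraMap k[X] L a) * inv := by
        change MvPolynomial.aeval vals (MvPolynomial.X 1) = _
        rw [MvPolynomial.aeval_X]
        rfl
      change Ψ (Φ (MvPolynomial.X 1)) = mkA (MvPolynomial.X 1)
      rw [this, map_mul, map_neg, hΨalg, hrel]
      linear_combination (mkA (MvPolynomial.X 1)) * hΨinv
  let e : A ≃ₐ[k] L := AlgEquiv.ofAlgHom Φq Ψ h1 h2
  haveI : Algebra.Smooth k[X] L := Algebra.Smooth.of_isLocalization_Away b
  haveI : Algebra.Smooth k k[X] := ⟨inferInstance, inferInstance⟩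
  haveI : Algebra.Smooth k L := Algebra.Smooth.comp k k[X] L
  exact Algebra.Smooth.of_equiv e.symm

end Chart

end Groth.Agent.H9.RES
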