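import Mathlib
import Groth.Agent.Lib.Helper9.Misc.RES1
import Groth.Agent.Lib.Helper9.Misc.RES2

set_option autoImplicit false
set_option linter.style.haveILetI false
set_option linter.unusedSectionVars false
set_option linter.unusedVariables false

namespace Groth.Agent.H9.RES

open Polynomial

section Pol
variable {k : Type*} [Field k] {N : ℕ}

noncomputable def pol (c : Fin (N + 1) → k) : k[X] := ∑ i : Fin (N + 1), C (c i) * X ^ (i : ℕ)

noncomputable def polr (c : Fin (N + 1) → k) : k[X] :=
  ∑ i : Fin (N + 1), C (c i) * X ^ (N - (i : ℕ))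

lemma coeff_pol (c : Fin (N + 1) → k) (j : ℕ) :
    (pol c).coeff j = if h : j < N + 1 then c ⟨j, h⟩ else 0 := by
  classical
  unfold pol
  rw [finsetSum_coeff]
  simp only [coeff_C_mul, coeff_X_pow]
  by_cases h : j < N + 1
  · rw [dif_pos h, Finset.sum_eq_single (⟨j, h⟩ : Fin (N + 1))]
    · simp
    · intro i _ hi
      have : j ≠ (i : ℕ) := fun e => hi (Fin.ext e.symm)
      simp [this]
    · intro h'; exact absurd (Finset.mem_univ _) h'
  · rw [dif_neg h]
    refine Finset.sum_eq_zero fun i _ => ?_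
    have : j ≠ (i : ℕ) := fun e => h (e ▸ i.2)
    simp [this]

lemma natDegree_pol_le (c : Fin (N + 1) → k) : (pol c).natDegree ≤ N := by
  rw [natDegree_le_iff_coeff_eq_zero]
  intro j hj
  rw [coeff_pol, dif_neg (by omega)]

lemma pol_eq_zero_iff (c : Fin (N + 1) → k) : pol c = 0 ↔ c = 0 := by
  constructor
  · intro h
    funext i
    have := congrArg (fun p => coeff p (i : ℕ)) h
    simp only [coeff_pol, coeff_zero, dif_pos i.2] at this
    exact this
  · rintro rfl
    simp [pol]

lemma polr_eq_pol_rev (c : Fin (N + 1) → k) : polr c = pol (c ∘ Fin.rev) := by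
  unfold polr pol
  rw [← Equiv.sum_comp Fin.revPerm]
  refine Finset.sum_congr rfl fun i _ => ?_
  simp only [Fin.revPerm_apply, Function.comp_apply, Fin.rev_rev, Fin.val_rev]
  congr 2
  omega

lemma polr_eq_zero_iff (c : Fin (N + 1) → k) : polr c = 0 ↔ c = 0 := by
  rw [polr_eq_pol_rev, pol_eq_zero_iff]
  constructor
  · intro h
    funext i
    have := congrFun h (Fin.rev i)
    simpa using this
  · rintro rfl
    rfl

lemma reflect_pol (c : Fin (N + 1) → k) : reflect N (pol c) = polr c := by
  ext j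
  rw [coeff_reflect, polr_eq_pol_rev, coeff_pol, coeff_pol]
  by_cases hj : j < N + 1
  · have e : revAt N j = N - j := revAt_le (by omega)
    rw [e, dif_pos hj, dif_pos (by omega)]
    simp only [Function.comp_apply]
    congr 1
    ext
    simp [Fin.rev]
  · have e : revAt N j = j := by
      simp [revAt, show ¬ j ≤ N by omega]
    rw [e, dif_neg hj, dif_neg hj]

lemma iot_pol (c : Fin (N + 1) → k) :
    iot (pol c) = ∑ i : Fin (N + 1), MvPolynomial.C (c i) * MvPolynomial.X 0 ^ (i : ℕ) := by
  simp [pol, map_sum]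

lemma iot_polr (c : Fin (N + 1) → k) :
    iot (polr c) = ∑ i : Fin (N + 1), MvPolynomial.C (c i) * MvPolynomial.X 0 ^ (N - (i : ℕ)) := by
  simp [polr, map_sum]

end Pol

section Res
variable {k : Type*} [Field k]

lemma coprime_of_res_ne_zero (a b : k[X]) (m n : ℕ) (ha : a.natDegree ≤ m) (hb : b.natDegree ≤ n)
    (H : m ≠ 0 ∨ n ≠ 0) (hres : resultant a b m n ≠ 0) : IsCoprime a b := by
  obtain ⟨p, q', -, -, e⟩ := exists_mul_add_mul_eq_C_resultant a b ha hb H
  refine ⟨C (resultant a b m n)⁻¹ * p, C (resultant a b m n)⁻¹ * q', ?_⟩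
  have : C (resultant a b m n)⁻¹ * C (resultant a b m n) = (1 : k[X]) := by
    rw [← C_mul, inv_mul_cancel₀ hres, C_1]
  linear_combination (C (resultant a b m n)⁻¹) * e + this

lemma natDegree_lt_of_coeff_eq_zero (a : k[X]) (m : ℕ) (hm : 1 ≤ m) (ha : a.natDegree ≤ m)
    (h0 : a.coeff m = 0) : a.natDegree < m := by
  rcases ha.lt_or_eq with h | h
  · exact h
  · exfalso
    by_cases ha0 : a = 0
    · rw [ha0, natDegree_zero] at h; omega
    · have := leadingCoeff_ne_zero.mpr ha0
      rw [leadingCoeff, h] at this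
      exact this h0

lemma coprime_reflect_of_res_ne_zero (a b : k[X]) (m n : ℕ) (ha : a.natDegree ≤ m)
    (hb : b.natDegree ≤ n) (hm : 1 ≤ m) (hn : 1 ≤ n) (hres : resultant a b m n ≠ 0) :
    IsCoprime (reflect m a) (reflect n b) := by
  obtain ⟨p, q', hp, hq', e⟩ :=
    exists_mul_add_mul_eq_C_resultant a b ha hb (Or.inl (by omega))
  have hp' : p.natDegree ≤ n - 1 := by
    by_cases hp0 : p = 0
    · simp [hp0]
    · have := (natDegree_lt_iff_degree_lt hp0).mpr hp
      omega
  have hq'' : q'.natDegree ≤ m - 1 := by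
    by_cases hq0 : q' = 0
    · simp [hq0]
    · have := (natDegree_lt_iff_degree_lt hq0).mpr hq'
      omega
  set D := m + n - 1 with hD
  have e1 : reflect D (a * p) = reflect m a * reflect (n - 1) p := by
    have : D = m + (n - 1) := by omega
    rw [this]; exact reflect_mul a p ha hp'
  have e2 : reflect D (b * q') = reflect n b * reflect (m - 1) q' := by
    have : D = n + (m - 1) := by omega
    rw [this]; exact reflect_mul b q' hb hq''
  have e3 := congrArg (reflect D) e
  rw [reflect_add, e1, e2, reflect_C] at e3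
  have hnz : ¬ (reflect m a = 0 ∧ reflect n b = 0) := by
    rintro ⟨h1, h2⟩
    rw [h1, h2, zero_mul, zero_mul, add_zero] at e3
    have := congrArg (fun f => coeff f D) e3
    simp at this
    exact hres this.symm
  apply isCoprime_of_dvd _ _ hnz
  intro z hz hz0 hza hzb
  have hzX : z ∣ X ^ D := by
    have h1 : z ∣ C (resultant a b m n) * X ^ D := by
      rw [← e3]
      exact dvd_add (hza.mul_right _) (hzb.mul_right _)
    have hu : IsUnit (C (resultant a b m n) : k[X]) := isUnit_C.mpr (IsUnit.mk0 _ hres)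
    exact (hu.dvd_mul_left).mp h1
  obtain ⟨j, -, hj⟩ := (dvd_prime_pow prime_X D).mp hzX
  have hj1 : j ≠ 0 := by
    rintro rfl
    rw [pow_zero] at hj
    exact hz (hj.isUnit_iff.mpr isUnit_one)
  have hXz : (X : k[X]) ∣ z := by
    refine dvd_trans ?_ hj.symm.dvd
    exact dvd_pow_self X hj1
  have h1 : (reflect m a).coeff 0 = 0 := by
    have := dvd_trans hXz hza
    rwa [X_dvd_iff] at this
  have h2 : (reflect n b).coeff 0 = 0 := by
    have := dvd_trans hXz hzb
    rwa [X_dvd_iff] at this
  rw [coeff_reflect, revAt_zero] at h1 h2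
  exact hres (resultant_eq_zero_of_lt_lt a b m n
    (natDegree_lt_of_coeff_eq_zero a m hm ha h1) (natDegree_lt_of_coeff_eq_zero b n hn hb h2))

lemma res_ne_zero_of_coprime (a b : k[X]) (m n : ℕ) (ha : a.natDegree ≤ m) (hb : b.natDegree ≤ n)
    (hab : IsCoprime a b) (hlead : a.coeff m ≠ 0 ∨ b.coeff n ≠ 0) :
    resultant a b m n ≠ 0 := by
  have h0 := resultant_ne_zero a b hab
  rcases hlead with h | h
  · have hdeg : a.natDegree = m := by
      refine le_antisymm ha ?_
      exact le_natDegree_of_ne_zero h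
    obtain ⟨d, hd⟩ : ∃ d, n = b.natDegree + d := ⟨n - b.natDegree, by omega⟩
    rw [hd, resultant_add_right_deg _ _ _ _ d le_rfl, ← hdeg]
    refine mul_ne_zero (pow_ne_zero _ ?_) h0
    rwa [hdeg]
  · have hdeg : b.natDegree = n := by
      refine le_antisymm hb ?_
      exact le_natDegree_of_ne_zero h
    obtain ⟨d, hd⟩ : ∃ d, m = a.natDegree + d := ⟨m - a.natDegree, by omega⟩
    rw [hd, resultant_add_left_deg _ _ _ _ d le_rfl, ← hdeg]
    refine mul_ne_zero (mul_ne_zero (pow_ne_zero _ (by simp)) (pow_ne_zero _ ?_)) h0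
    rwa [hdeg]

end Res

end Groth.Agent.H9.RES
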