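import Mathlib
import Groth.Agent.Lib.Helper9.Misc.RES1
import Groth.Agent.Lib.Helper9.Misc.RES2
import Groth.Agent.Lib.Helper9.Misc.RES3

set_option autoImplicit false
set_option linter.style.haveILetI false
set_option linter.unusedSectionVars false
set_option linter.unusedVariables false

namespace Groth.Agent.H9.RES

open Polynomial

section NonSmooth
variable {k : Type*} [Field k]

/-- evaluation `X₀ ↦ X`, `X₁ ↦ C c`. -/
noncomputable def evc (c : k) : MvPolynomial (Fin 2) k →ₐ[k] k[X] :=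
  MvPolynomial.aeval ![X, C c]

lemma evc_iot (c : k) (p : k[X]) : evc c (iot p) = p := by
  have : (evc c).comp iot = AlgHom.id k k[X] := by
    apply Polynomial.algHom_ext
    change evc c (iot X) = X
    rw [iot_X]
    change MvPolynomial.aeval ![X, C c] (MvPolynomial.X 0) = X
    rw [MvPolynomial.aeval_X]
    rfl
  exact AlgHom.congr_fun this p

lemma evc_X1 (c : k) : evc c (MvPolynomial.X 1) = C c := by
  change MvPolynomial.aeval ![X, C c] (MvPolynomial.X 1) = C c
  rw [MvPolynomial.aeval_X]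
  rfl

lemma chartPoly_eq_zero (a b : k[X]) (h : chartPoly a b = 0) : a = 0 ∧ b = 0 := by
  have h0 := congrArg (evc (0 : k)) h
  have h1 := congrArg (evc (1 : k)) h
  rw [chartPoly, map_add, map_mul, evc_iot, evc_iot, evc_X1] at h0 h1
  rw [C_0, mul_zero, add_zero, map_zero] at h0
  rw [C_1, mul_one, h0, zero_add, map_zero] at h1
  exact ⟨h0, h1⟩

lemma chartPoly_mul (p a b : k[X]) : chartPoly (p * a) (p * b) = iot p * chartPoly a b := by
  simp only [chartPoly, map_mul]
  ring

lemma isUnit_lin {K : Type*} [Field K] (α β : K) (h : IsUnit (C α + C β * X : K[X])) :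
    β = 0 ∧ α ≠ 0 := by
  obtain ⟨r, hr, e⟩ := Polynomial.isUnit_iff.mp h
  have h1 := congrArg (fun f => coeff f 1) e
  have h0 := congrArg (fun f => coeff f 0) e
  simp at h1 h0
  refine ⟨h1.symm, ?_⟩
  rw [← h0]
  exact hr.ne_zero

theorem not_smooth_chart (a b : k[X]) (hne : ¬ (a = 0 ∧ b = 0)) (hab : ¬ IsCoprime a b) :
    ¬ Algebra.FormallySmooth k (MvPolynomial (Fin 2) k ⧸ Ideal.span {chartPoly a b}) ∨
    ¬ Algebra.FormallySmooth k (MvPolynomial (Fin 2) k ⧸ Ideal.span {chartPoly b a}) := by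
  classical
  obtain ⟨π, hπ, hπa, hπb⟩ : ∃ π : k[X], Irreducible π ∧ π ∣ a ∧ π ∣ b := by
    by_contra hcon
    push Not at hcon
    exact hab (isCoprime_of_irreducible_dvd hne hcon)
  obtain ⟨a₁, rfl⟩ := hπa
  obtain ⟨b₁, rfl⟩ := hπb
  haveI : Fact (Irreducible π) := ⟨hπ⟩
  set K := AdjoinRoot π with hK
  let ρ : MvPolynomial (Fin 2) k →ₐ[k] K[X] :=
    MvPolynomial.aeval ![C (AdjoinRoot.root π), X]
  have hρι : ∀ p : k[X], ρ (iot p) = C (AdjoinRoot.mk π p) := by
    intro p
    have : ρ.comp iot = (IsScalarTower.toAlgHom k K K[X]).comp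
        (Polynomial.aeval (AdjoinRoot.root π)) := by
      apply Polynomial.algHom_ext
      change ρ (iot X) = algebraMap K K[X] (Polynomial.aeval (AdjoinRoot.root π) X)
      rw [iot_X, aeval_X]
      change MvPolynomial.aeval ![C (AdjoinRoot.root π), X] (MvPolynomial.X 0) = _
      rw [MvPolynomial.aeval_X]
      rfl
    have h2 := AlgHom.congr_fun this p
    rw [AlgHom.comp_apply, AlgHom.comp_apply, AdjoinRoot.aeval_eq] at h2
    exact h2
  have hρX1 : ρ (MvPolynomial.X 1) = X := by
    change MvPolynomial.aeval ![C (AdjoinRoot.root π), X] (MvPolynomial.X 1) = _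
    rw [MvPolynomial.aeval_X]
    rfl
  have hρπ : ρ (iot π) = 0 := by rw [hρι, AdjoinRoot.mk_self, C_0]
  have hρchart : ∀ x y : k[X], ρ (chartPoly x y) =
      C (AdjoinRoot.mk π x) + C (AdjoinRoot.mk π y) * X := by
    intro x y
    rw [chartPoly, map_add, map_mul, hρι, hρι, hρX1]
  -- generic argument for a chart whose ρ-image is a non-unit
  have key : ∀ x y : k[X], ¬ (π * x = 0 ∧ π * y = 0) → ¬ IsUnit (ρ (chartPoly x y)) →
      ¬ Algebra.FormallySmooth k
        (MvPolynomial (Fin 2) k ⧸ Ideal.span {chartPoly (π * x) (π * y)}) := by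
    intro x y hxy hnu
    set m : Ideal (MvPolynomial (Fin 2) k) := Ideal.span {iot π, chartPoly x y} with hm
    have hmtop : m ≠ ⊤ := by
      intro htop
      have h1 : (1 : MvPolynomial (Fin 2) k) ∈ m := by rw [htop]; trivial
      rw [hm, Ideal.mem_span_pair] at h1
      obtain ⟨u, v, huv⟩ := h1
      have h2 := congrArg ρ huv
      rw [map_add, map_mul, map_mul, hρπ, mul_zero, zero_add, map_one] at h2
      exact hnu (IsUnit.of_mul_eq_one _ (by rw [mul_comm]; exact h2))
    refine not_formallySmooth_of_mem_sq m hmtop _ ?_ ?_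
    · intro h0
      exact hxy (chartPoly_eq_zero _ _ h0)
    · rw [chartPoly_mul, pow_two]
      exact Ideal.mul_mem_mul (Ideal.subset_span (by simp)) (Ideal.subset_span (by simp))
  by_cases hu1 : IsUnit (ρ (chartPoly a₁ b₁))
  · right
    refine key b₁ a₁ (fun h => hne ⟨h.2, h.1⟩) ?_
    rw [hρchart] at hu1 ⊢
    intro hu2
    have h1 := isUnit_lin _ _ hu1
    have h2 := isUnit_lin _ _ hu2
    exact h1.2 h2.1
  · left
    exact key a₁ b₁ hne hu1

end NonSmooth

section Main
variable (k : Type*) [Field k]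

theorem main (n : ℕ) (hn : 3 ≤ n) (q : Fin 3 → k) (ξ : Fin (n + 1) → k) (hqξ : q ≠ 0 ∨ ξ ≠ 0) :
    (Algebra.Smooth k (MvPolynomial (Fin 2) k ⧸ Ideal.span {chartPoly (pol q) (pol ξ)}) ∧
      Algebra.Smooth k (MvPolynomial (Fin 2) k ⧸ Ideal.span {chartPoly (pol ξ) (pol q)}) ∧
      Algebra.Smooth k (MvPolynomial (Fin 2) k ⧸ Ideal.span {chartPoly (polr q) (polr ξ)}) ∧
      Algebra.Smooth k (MvPolynomial (Fin 2) k ⧸ Ideal.span {chartPoly (polr ξ) (polr q)})) ↔
    Polynomial.resultant (pol q) (pol ξ) 2 n ≠ 0 := by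
  have ha : (pol q).natDegree ≤ 2 := natDegree_pol_le q
  have hb : (pol ξ).natDegree ≤ n := natDegree_pol_le ξ
  have hne : ¬ (pol q = 0 ∧ pol ξ = 0) := by
    rintro ⟨h1, h2⟩
    rw [pol_eq_zero_iff] at h1 h2
    rcases hqξ with h | h
    · exact h h1
    · exact h h2
  have hner : ¬ (polr q = 0 ∧ polr ξ = 0) := by
    rintro ⟨h1, h2⟩
    rw [polr_eq_zero_iff] at h1 h2
    rcases hqξ with h | h
    · exact h h1
    · exact h h2
  constructor
  · rintro ⟨s1, s2, s3, s4⟩
    intro hres
    by_cases hab : IsCoprime (pol q) (pol ξ)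
    · -- both leading coefficients vanish
      have hlead : ¬ ((pol q).coeff 2 ≠ 0 ∨ (pol ξ).coeff n ≠ 0) := fun h =>
        res_ne_zero_of_coprime _ _ 2 n ha hb hab h hres
      push Not at hlead
      have hX1 : (X : k[X]) ∣ polr q := by
        rw [X_dvd_iff, ← reflect_pol, coeff_reflect, revAt_zero]
        exact hlead.1
      have hX2 : (X : k[X]) ∣ polr ξ := by
        rw [X_dvd_iff, ← reflect_pol, coeff_reflect, revAt_zero]
        exact hlead.2
      have hnc : ¬ IsCoprime (polr q) (polr ξ) := by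
        intro hc
        exact not_isUnit_X (hc.isUnit_of_dvd' hX1 hX2)
      rcases not_smooth_chart _ _ hner hnc with h | h
      · exact h s3.formallySmooth
      · exact h s4.formallySmooth
    · rcases not_smooth_chart _ _ hne hab with h | h
      · exact h s1.formallySmooth
      · exact h s2.formallySmooth
  · intro hres
    have hc1 : IsCoprime (pol q) (pol ξ) :=
      coprime_of_res_ne_zero _ _ 2 n ha hb (Or.inl (by norm_num)) hres
    have hc2 : IsCoprime (polr q) (polr ξ) := by
      rw [← reflect_pol, ← reflect_pol]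
      exact coprime_reflect_of_res_ne_zero _ _ 2 n ha hb (by norm_num) (by omega) hres
    exact ⟨smooth_chart _ _ hc1, smooth_chart _ _ hc1.symm, smooth_chart _ _ hc2,
      smooth_chart _ _ hc2.symm⟩

end Main

end Groth.Agent.H9.RES
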