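import Mathlib
import Groth.Prelude.Def_W4c5nonratstablectREq
import Groth.Agent.Lib.Lead.PN.OverBridge

set_option autoImplicit false
set_option linter.style.haveILetI false
set_option linter.unusedSectionVars false
set_option linter.unusedVariables false

universe u

open AlgebraicGeometry CategoryTheory CategoryTheory.Limits

namespace Groth.Agent.H9.REqSep

/-- the homogeneous spectrum of a polynomial ring over a field is irreducible: the zero ideal is a
generic point. -/
theorem preirreducible_proj (n : ℕ) (K : Type u) [Field K] :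
    IsPreirreducible (Set.univ : Set (ProjectiveSpectrum (CohB1.polyGrading n K))) := by
  have hprime : ((⊥ : HomogeneousIdeal (CohB1.polyGrading n K)).toIdeal).IsPrime := by
    rw [HomogeneousIdeal.toIdeal_bot]; exact Ideal.isPrime_bot
  have hirr : ¬ HomogeneousIdeal.irrelevant (CohB1.polyGrading n K) ≤ ⊥ := by
    intro h
    have hx : (MvPolynomial.X 0 : MvPolynomial (Fin (n + 1)) K) ∈
        HomogeneousIdeal.irrelevant (CohB1.polyGrading n K) :=
      HomogeneousIdeal.mem_irrelevant_of_mem (𝒜 := CohB1.polyGrading n K) (i := 1) Nat.one_pos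
        (MvPolynomial.isHomogeneous_X K (0 : Fin (n + 1)))
    have h0 := SetLike.le_def.mp h hx
    have h1 : (MvPolynomial.X 0 : MvPolynomial (Fin (n + 1)) K) ∈
        (⊥ : HomogeneousIdeal (CohB1.polyGrading n K)).toIdeal := h0
    rw [HomogeneousIdeal.toIdeal_bot, Ideal.mem_bot] at h1
    exact MvPolynomial.X_ne_zero _ h1
  let η : ProjectiveSpectrum (CohB1.polyGrading n K) := ⟨⊥, hprime, hirr⟩
  have hcl : closure ({η} : Set (ProjectiveSpectrum (CohB1.polyGrading n K))) = Set.univ := by
    refine Set.eq_univ_of_forall fun y => ?_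
    rw [← ProjectiveSpectrum.le_iff_mem_closure, ← ProjectiveSpectrum.as_ideal_le_as_ideal]
    intro x hx
    have hx' : x ∈ (⊥ : HomogeneousIdeal (CohB1.polyGrading n K)).toIdeal := hx
    rw [HomogeneousIdeal.toIdeal_bot, Ideal.mem_bot] at hx'
    rw [hx']; exact zero_mem _
  rw [← hcl]
  exact isPreirreducible_singleton.closure

/-- open subschemes of the projective line over a field are (pre)irreducible. -/
theorem preirreducibleSpace_opens (K : Type u) [Field K] (U : (REq.P1K K).Opens) :
    PreirreducibleSpace ↥(U : Scheme.{u}) := by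
  let e := Groth.Agent.LD.PN.OB.bridge 1 K
  let j : (U : Scheme.{u}) ⟶ CohB1.ProjSpace 1 K := U.ι ≫ e.inv
  haveI : IsOpenImmersion j := by dsimp only [j]; infer_instance
  have hemb := j.isOpenEmbedding
  have h1 : IsPreirreducible (Set.univ : Set ↥(CohB1.ProjSpace 1 K)) := preirreducible_proj 1 K
  have h2 := h1.preimage hemb
  rw [Set.preimage_univ] at h2
  exact ⟨h2⟩

theorem link_inv {k : Type u} [Field k] {Y : Scheme.{u}} (g : Y ⟶ Spec (CommRingCat.of k))
    (K : Type u) [Field K] [Algebra k K]
    (V W : Set Y) (hV : IsClosed V) (hW : IsClosed W) (hVW : V ∪ W = Set.univ)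
    (hT : ∀ z : REq.Pts g K, ¬ (Set.range z.1.base ⊆ V ∩ W)) (A B : REq.Pts g K)
    (hAB : REq.ElemLink g K A B) :
    (Set.range A.1.base ⊆ V ↔ Set.range B.1.base ⊆ V) := by
  obtain ⟨U, h, a, b, hh, ha, hb, haA, hbB⟩ := hAB
  haveI := preirreducibleSpace_opens K U
  have hpre : IsPreirreducible (Set.univ : Set ↥(U : Scheme.{u})) :=
    PreirreducibleSpace.isPreirreducible_univ
  have hcV : IsClosed (h.base ⁻¹' V) := hV.preimage h.continuous
  have hcW : IsClosed (h.base ⁻¹' W) := hW.preimage h.continuous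
  have hcov : (Set.univ : Set ↥(U : Scheme.{u})) ⊆ h.base ⁻¹' V ∪ h.base ⁻¹' W := by
    rw [← Set.preimage_union, hVW, Set.preimage_univ]
  have hrA : ∀ S : Set Y, Set.univ ⊆ h.base ⁻¹' S → Set.range A.1.base ⊆ S := by
    intro S hS
    rintro _ ⟨t, rfl⟩
    rw [← haA]
    exact hS (Set.mem_univ (a.base t))
  have hrB : ∀ S : Set Y, Set.univ ⊆ h.base ⁻¹' S → Set.range B.1.base ⊆ S := by
    intro S hS
    rintro _ ⟨t, rfl⟩
    rw [← hbB]
    exact hS (Set.mem_univ (b.base t))
  rcases (isPreirreducible_iff_isClosed_union_isClosed.mp hpre) _ _ hcV hcW hcov with h1 | h1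
  · exact ⟨fun _ => hrB V h1, fun _ => hrA V h1⟩
  · constructor
    · intro hA; exact absurd (Set.subset_inter hA (hrA W h1)) (hT A)
    · intro hB; exact absurd (Set.subset_inter hB (hrB W h1)) (hT B)

theorem main {k : Type u} [Field k] {Y : Scheme.{u}} (g : Y ⟶ Spec (CommRingCat.of k))
    (K : Type u) [Field K] [Algebra k K]
    (V W : Set Y) (hV : IsClosed V) (hW : IsClosed W) (hVW : V ∪ W = Set.univ)
    (hT : ∀ z : REq.Pts g K, ¬ (Set.range z.1.base ⊆ V ∩ W))
    (p q : REq.Pts g K) (hp : Set.range p.1.base ⊆ V) (hq : Set.range q.1.base ⊆ W) :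
    ¬ REq.REquiv g K p q := by
  intro hpq
  have key : ∀ A B, Relation.EqvGen (REq.ElemLink g K) A B →
      (Set.range A.1.base ⊆ V ↔ Set.range B.1.base ⊆ V) := by
    intro A B hAB
    induction hAB with
    | rel x y hxy => exact link_inv g K V W hV hW hVW hT x y hxy
    | refl x => exact Iff.rfl
    | symm x y _ ih => exact ih.symm
    | trans x y z _ _ ih1 ih2 => exact ih1.trans ih2
  have hqV := (key p q hpq).mp hp
  exact hT q (Set.subset_inter hqV hq)

end Groth.Agent.H9.REqSep
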