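import Mathlib

set_option autoImplicit false

open CategoryTheory CategoryTheory.Limits AlgebraicGeometry

universe u

namespace Groth.Agent.H9.RFE

theorem exists_ev_div {S : Scheme.{u}} {s : S} {V : S.Opens} (hV : IsAffineOpen V) (hs : s ∈ V)
    (c : S.residueField s) :
    ∃ a d : Γ(S, V), (S.evaluation V s hs).hom d ≠ 0 ∧
      (S.evaluation V s hs).hom d * c = (S.evaluation V s hs).hom a := by
  obtain ⟨z, rfl⟩ := S.residue_surjective s c
  letI : Algebra Γ(S, V) (S.presheaf.stalk s) := (S.presheaf.germ V s hs).hom.toAlgebra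
  haveI := hV.isLocalization_stalk ⟨s, hs⟩
  obtain ⟨⟨a, d⟩, h⟩ := IsLocalization.surj (hV.primeIdealOf ⟨s, hs⟩).asIdeal.primeCompl z
  have hu : IsUnit (algebraMap Γ(S, V) (S.presheaf.stalk s) d) :=
    IsLocalization.map_units (S.presheaf.stalk s) d
  have hev : ∀ y : Γ(S, V), (S.evaluation V s hs).hom y =
      (S.residue s).hom (algebraMap Γ(S, V) (S.presheaf.stalk s) y) := fun y => rfl
  refine ⟨a, d, ?_, ?_⟩
  · rw [hev]
    exact (hu.map (S.residue s).hom).ne_zero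
  · rw [hev, hev, ← map_mul, mul_comm]
    exact congrArg (S.residue s).hom h

theorem main (S : Scheme.{u}) (s : ↥S)
    (ℓ : Type u) [Field ℓ] [Algebra (S.residueField s) ℓ] [Module.Finite (S.residueField s) ℓ] :
    ∃ (U' : Scheme.{u}) (b : U' ⟶ S) (t : Spec (CommRingCat.of ℓ) ⟶ U'),
      IsAffine U' ∧ Flat b ∧ LocallyOfFinitePresentation b ∧ IsPreimmersion t ∧
        t ≫ b = Spec.map (CommRingCat.ofHom (algebraMap (S.residueField s) ℓ)) ≫
          S.fromSpecResidueField s := by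
  obtain ⟨V, hV, hs, -⟩ := exists_isAffineOpen_mem_and_subset (x := s) (U := ⊤) trivial
  let ev : Γ(S, V) ⟶ S.residueField s := S.evaluation V s hs
  let ψ₀ : Γ(S, V) →+* ℓ := (algebraMap (S.residueField s) ℓ).comp ev.hom
  let β := Module.finBasis (S.residueField s) ℓ
  let Φ : MvPolynomial (Fin (Module.finrank (S.residueField s) ℓ)) Γ(S, V) →+* ℓ :=
    MvPolynomial.eval₂Hom ψ₀ β
  have hΦC : ∀ a, Φ (MvPolynomial.C a) = ψ₀ a := fun a => MvPolynomial.eval₂Hom_C _ _ a
  have hΦX : ∀ i, Φ (MvPolynomial.X i) = β i := fun i => MvPolynomial.eval₂Hom_X' _ _ i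
  -- the fraction closure of the image of `Φ`
  have good_add : ∀ x y : ℓ, (∃ r s, Φ s ≠ 0 ∧ Φ s * x = Φ r) →
      (∃ r s, Φ s ≠ 0 ∧ Φ s * y = Φ r) → ∃ r s, Φ s ≠ 0 ∧ Φ s * (x + y) = Φ r := by
    rintro x y ⟨r, s, hs0, hx⟩ ⟨r', s', hs0', hy⟩
    refine ⟨r * s' + r' * s, s * s', by rw [map_mul]; exact mul_ne_zero hs0 hs0', ?_⟩
    rw [map_mul, map_add, map_mul, map_mul, ← hx, ← hy]; ring
  have good_mul : ∀ x y : ℓ, (∃ r s, Φ s ≠ 0 ∧ Φ s * x = Φ r) →
      (∃ r s, Φ s ≠ 0 ∧ Φ s * y = Φ r) → ∃ r s, Φ s ≠ 0 ∧ Φ s * (x * y) = Φ r := by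
    rintro x y ⟨r, s, hs0, hx⟩ ⟨r', s', hs0', hy⟩
    refine ⟨r * r', s * s', by rw [map_mul]; exact mul_ne_zero hs0 hs0', ?_⟩
    rw [map_mul, map_mul, ← hx, ← hy]; ring
  have good_base : ∀ c : S.residueField s,
      ∃ r d, Φ d ≠ 0 ∧ Φ d * algebraMap (S.residueField s) ℓ c = Φ r := by
    intro c
    obtain ⟨a, d, hd, hda⟩ := exists_ev_div hV hs c
    refine ⟨MvPolynomial.C a, MvPolynomial.C d, ?_, ?_⟩
    · rw [hΦC]
      exact (map_ne_zero (algebraMap (S.residueField s) ℓ)).mpr hd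
    · rw [hΦC, hΦC]
      show algebraMap (S.residueField s) ℓ (ev.hom d) * algebraMap (S.residueField s) ℓ c =
        algebraMap (S.residueField s) ℓ (ev.hom a)
      rw [← map_mul, hda]
  have good_all : ∀ x : ℓ, ∃ r s, Φ s ≠ 0 ∧ Φ s * x = Φ r := by
    intro x
    rw [← β.sum_repr x]
    refine Finset.sum_induction _ (fun y => ∃ r s, Φ s ≠ 0 ∧ Φ s * y = Φ r) good_add
      ⟨0, 1, by simp, by simp⟩ fun i _ => ?_
    rw [Algebra.smul_def]
    exact good_mul _ _ (good_base _) ⟨MvPolynomial.X i, 1, by simp, by rw [hΦX]; simp⟩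
  refine ⟨Spec (CommRingCat.of (MvPolynomial (Fin (Module.finrank (S.residueField s) ℓ)) Γ(S, V))),
    Spec.map (CommRingCat.ofHom (algebraMap Γ(S, V)
      (MvPolynomial (Fin (Module.finrank (S.residueField s) ℓ)) Γ(S, V)))) ≫ hV.fromSpec,
    Spec.map (CommRingCat.ofHom Φ), inferInstance, ?_, ?_, ?_, ?_⟩
  · haveI : Flat (Spec.map (CommRingCat.ofHom (algebraMap Γ(S, V)
        (MvPolynomial (Fin (Module.finrank (S.residueField s) ℓ)) Γ(S, V))))) := by
      rw [HasRingHomProperty.Spec_iff (P := @Flat)]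
      exact RingHom.flat_algebraMap_iff.mpr inferInstance
    infer_instance
  · haveI : LocallyOfFinitePresentation (Spec.map (CommRingCat.ofHom (algebraMap Γ(S, V)
        (MvPolynomial (Fin (Module.finrank (S.residueField s) ℓ)) Γ(S, V))))) := by
      rw [HasRingHomProperty.Spec_iff (P := @LocallyOfFinitePresentation)]
      exact RingHom.finitePresentation_algebraMap.mpr inferInstance
    infer_instance
  · refine IsPreimmersion.mk_SpecMap (Topology.IsEmbedding.of_subsingleton _) ?_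
    refine RingHom.surjectiveOnStalks_of_exists_div fun x => ?_
    obtain ⟨r, s', hs0, hx⟩ := good_all x
    exact ⟨r, s', isUnit_iff_ne_zero.mpr hs0, hx⟩
  · rw [← Spec.map_comp_assoc]
    have h1 : CommRingCat.ofHom (algebraMap Γ(S, V)
        (MvPolynomial (Fin (Module.finrank (S.residueField s) ℓ)) Γ(S, V))) ≫
        CommRingCat.ofHom Φ =
        ev ≫ CommRingCat.ofHom (algebraMap (S.residueField s) ℓ) := by
      ext a
      exact hΦC a
    rw [h1, Spec.map_comp_assoc]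
    congr 1
    show Spec.map (S.presheaf.germ V s hs ≫ S.residue s) ≫ hV.fromSpec = _
    rw [Spec.map_comp_assoc]
    show Spec.map (S.residue s) ≫ hV.fromSpecStalk hs = _
    rw [hV.fromSpecStalk_eq_fromSpecStalk hs]
    rfl

end Groth.Agent.H9.RFE
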