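import Mathlib
import Groth.Prelude.Def_W4c1limliniiiiRamP1

set_option autoImplicit false
set_option linter.style.haveILetI false
set_option linter.unusedSectionVars false
set_option linter.unusedVariables false

namespace Groth.Agent.H9.RMP

open Polynomial

universe u
variable {k : Type u} [Field k]

/-- bilinearity of the Wronskian in explicit form -/
theorem wronskian_comb (F G : k[X]) (a b a' b' : k) :
    wronskian (a • F + b • G) (a' • F + b' • G) = (a * b' - b * a') • wronskian F G := by
  simp only [wronskian, smul_eq_C_mul, derivative_add, derivative_mul, derivative_C, zero_mul,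
    zero_add, map_sub, map_mul]
  ring

theorem wronskian_comb_right (F G : k[X]) (a b : k) :
    wronskian (a • F + b • G) G = a • wronskian F G := by
  have := wronskian_comb F G a b 0 1
  simpa using this

theorem wronskian_comb_left (F G : k[X]) (a b : k) :
    wronskian F (a • F + b • G) = b • wronskian F G := by
  have := wronskian_comb F G 1 0 a b
  simpa using this

theorem wronskian_mul_mul (D F G : k[X]) :
    wronskian (D * F) (D * G) = D ^ 2 * wronskian F G := by
  simp only [wronskian, derivative_mul]
  ring

/-- divisibility of the Wronskian by `(X - a)^(m-1)` when one argument is divisible by `(X-a)^m` -/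
theorem pow_pred_dvd_wronskian_left {s r : k[X]} {a : k} {m : ℕ}
    (h : (X - C a) ^ m ∣ s) : (X - C a) ^ (m - 1) ∣ wronskian s r := by
  have h1 : (X - C a) ^ (m - 1) ∣ derivative s := pow_sub_one_dvd_derivative_of_pow_dvd h
  have h2 : (X - C a) ^ (m - 1) ∣ s := (pow_dvd_pow _ (Nat.sub_le m 1)).trans h
  unfold wronskian
  exact dvd_sub (Dvd.dvd.mul_right h2 _) (Dvd.dvd.mul_right h1 _)

theorem pow_pred_dvd_wronskian_right {s r : k[X]} {a : k} {m : ℕ}
    (h : (X - C a) ^ m ∣ s) : (X - C a) ^ (m - 1) ∣ wronskian r s := by
  rw [← wronskian_neg_eq]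
  exact (pow_pred_dvd_wronskian_left h).neg_right

/-- if moreover the other argument vanishes at `a`, get the full power (for `m ≥ 1`) -/
theorem pow_dvd_wronskian_left {s r : k[X]} {a : k} {m : ℕ} (hm : 1 ≤ m)
    (h : (X - C a) ^ m ∣ s) (hr : (X - C a) ∣ r) : (X - C a) ^ m ∣ wronskian s r := by
  have h1 : (X - C a) ^ (m - 1) ∣ derivative s := pow_sub_one_dvd_derivative_of_pow_dvd h
  have h3 : (X - C a) ^ m ∣ derivative s * r := by
    have : (X - C a) ^ m = (X - C a) ^ (m - 1) * (X - C a) := by
      rw [← pow_succ]; congr 1; omega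
    rw [this]
    exact mul_dvd_mul h1 hr
  unfold wronskian
  exact dvd_sub (Dvd.dvd.mul_right h _) h3

theorem pow_dvd_wronskian_right {s r : k[X]} {a : k} {m : ℕ} (hm : 1 ≤ m)
    (h : (X - C a) ^ m ∣ s) (hr : (X - C a) ∣ r) : (X - C a) ^ m ∣ wronskian r s := by
  rw [← wronskian_neg_eq]
  exact (pow_dvd_wronskian_left hm h hr).neg_right

/-- transfer of divisibility from `W(s, ·)` to `W(F,G)` for `s` a nonzero member of `span{F,G}` -/
theorem dvd_wronskian_of_mem {F G s Q : k[X]} (hs : s ∈ Submodule.span k {F, G}) (hs0 : s ≠ 0)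
    (h1 : Q ∣ wronskian s G) (h2 : Q ∣ wronskian F s) : Q ∣ wronskian F G := by
  obtain ⟨a, b, rfl⟩ := Submodule.mem_span_pair.1 hs
  by_cases ha : a = 0
  · have hb : b ≠ 0 := by
      rintro rfl
      apply hs0
      simp [ha]
    rw [wronskian_comb_left] at h2
    rw [smul_eq_C_mul] at h2
    have hu : IsUnit (C b : k[X]) := Polynomial.isUnit_C.2 (Ne.isUnit hb)
    exact (hu.dvd_mul_left).1 h2
  · rw [wronskian_comb_right] at h1
    rw [smul_eq_C_mul] at h1
    have hu : IsUnit (C a : k[X]) := Polynomial.isUnit_C.2 (Ne.isUnit ha)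
    exact (hu.dvd_mul_left).1 h1

/-- Wronskian of members of `span{F,G}` is a scalar multiple of `W(F,G)` -/
theorem wronskian_mem_span {F G s t : k[X]} (hs : s ∈ Submodule.span k {F, G})
    (ht : t ∈ Submodule.span k {F, G}) : ∃ c : k, wronskian s t = c • wronskian F G := by
  obtain ⟨a, b, rfl⟩ := Submodule.mem_span_pair.1 hs
  obtain ⟨a', b', rfl⟩ := Submodule.mem_span_pair.1 ht
  exact ⟨_, wronskian_comb F G a b a' b'⟩

/-- degree count -/
theorem sum_le_natDegree_of_dvd {ι : Type*} [Fintype ι] (a : ι → k) (ha : Function.Injective a)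
    (m : ι → ℕ) (W : k[X]) (hW : W ≠ 0) (h : ∀ j, (X - C (a j)) ^ (m j) ∣ W) :
    ∑ j, m j ≤ W.natDegree := by
  classical
  have hdvd : ∏ j, (X - C (a j)) ^ (m j) ∣ W := by
    apply Fintype.prod_dvd_of_coprime _ h
    intro i j hij
    exact IsCoprime.pow (pairwise_coprime_X_sub_C ha hij)
  have := natDegree_le_of_dvd hdvd hW
  rw [natDegree_prod_of_monic _ _ (fun j _ => (monic_X_sub_C (a j)).pow (m j))] at this
  simpa [natDegree_pow, natDegree_X_sub_C] using this

/-- the Wronskian of two polynomials of degree `≤ d` has degree `≤ 2d - 2` -/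
theorem natDegree_wronskian_add_two_le {d : ℕ} {F G : k[X]} (hF : F.natDegree ≤ d)
    (hG : G.natDegree ≤ d) (hW : wronskian F G ≠ 0) : (wronskian F G).natDegree + 2 ≤ 2 * d := by
  by_cases hb : G.coeff d = 0
  · -- G has degree < d
    have hd : d ≠ 0 := by
      rintro rfl
      apply hW
      have h1 := eq_C_of_natDegree_le_zero hF
      have h2 := eq_C_of_natDegree_le_zero hG
      rw [h1, h2]
      simp [wronskian]
    have hG' : G.natDegree < d := by
      rcases Nat.lt_or_ge G.natDegree d with h | h
      · exact h
      · exfalso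
        have hGd : G.natDegree = d := le_antisymm hG h
        have hG0 : G ≠ 0 := by
          rintro rfl; exact hW (wronskian_zero_right _)
        have : G.leadingCoeff ≠ 0 := leadingCoeff_ne_zero.2 hG0
        rw [leadingCoeff, hGd] at this
        exact this hb
    have := natDegree_wronskian_lt_add hW
    omega
  · set H : k[X] := G.coeff d • F - F.coeff d • G with hH
    have hHW : wronskian H G = G.coeff d • wronskian F G := by
      have := wronskian_comb_right F G (G.coeff d) (-(F.coeff d))
      rw [hH, sub_eq_add_neg, ← neg_smul]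
      exact this
    have hHW0 : wronskian H G ≠ 0 := by
      rw [hHW]
      exact smul_ne_zero hb hW
    have hd : d ≠ 0 := by
      rintro rfl
      apply hW
      have h1 := eq_C_of_natDegree_le_zero hF
      have h2 := eq_C_of_natDegree_le_zero hG
      rw [h1, h2]
      simp [wronskian]
    have hHdeg : H.natDegree < d := by
      have hle : H.natDegree ≤ d := by
        rw [hH]
        refine (natDegree_sub_le _ _).trans (max_le ?_ ?_)
        · exact (natDegree_smul_le _ _).trans hF
        · exact (natDegree_smul_le _ _).trans hG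
      rcases Nat.lt_or_ge H.natDegree d with h | h
      · exact h
      · exfalso
        have hHd : H.natDegree = d := le_antisymm hle h
        have hH0 : H ≠ 0 := by
          intro h0; rw [h0] at hHW0; exact hHW0 (wronskian_zero_left _)
        have : H.leadingCoeff ≠ 0 := leadingCoeff_ne_zero.2 hH0
        rw [leadingCoeff, hHd] at this
        apply this
        rw [hH]
        simp only [coeff_sub, coeff_smul, smul_eq_mul]
        ring
    have h1 := natDegree_wronskian_lt_add hHW0
    have h2 : (wronskian H G).natDegree = (wronskian F G).natDegree := by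
      rw [hHW]
      exact natDegree_smul _ hb
    omega

theorem eval_wronskian_eq_zero {F G : k[X]} {a : k} (hF : F.eval a = 0) (hG : G.eval a = 0) :
    (wronskian F G).eval a = 0 := by
  simp [wronskian, hF, hG]

end Groth.Agent.H9.RMP
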