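import Mathlib
import Groth.Prelude.Def_W4c1limliniiiiRamP1
import Groth.Agent.Lib.Helper9.Misc.RMP1

set_option autoImplicit false
set_option linter.style.haveILetI false
set_option linter.unusedSectionVars false
set_option linter.unusedVariables false

namespace Groth.Agent.H9.RMP

open Polynomial

universe u
variable {k : Type u} [Field k]

/-- polynomials of degree `≤ d` divisible by `(X-a)^e` -/
def Asub (d : ℕ) (a : k) (e : ℕ) : Submodule k k[X] where
  carrier := {s | s ∈ degreeLE k d ∧ (X - C a) ^ e ∣ s}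
  add_mem' := fun h1 h2 => ⟨Submodule.add_mem _ h1.1 h2.1, dvd_add h1.2 h2.2⟩
  zero_mem' := ⟨Submodule.zero_mem _, dvd_zero _⟩
  smul_mem' := fun c s h => ⟨Submodule.smul_mem _ c h.1, by
    rw [smul_eq_C_mul]; exact Dvd.dvd.mul_left h.2 _⟩

theorem mem_Asub {d : ℕ} {a : k} {e : ℕ} {s : k[X]} :
    s ∈ Asub d a e ↔ s ∈ degreeLE k d ∧ (X - C a) ^ e ∣ s := Iff.rfl

theorem natDegree_le_of_mem_degreeLE {d : ℕ} {s : k[X]} (h : s ∈ degreeLE k d) :
    s.natDegree ≤ d := natDegree_le_of_degree_le (mem_degreeLE.1 h)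

theorem mem_degreeLE_of_natDegree_le {d : ℕ} {s : k[X]} (h : s.natDegree ≤ d) :
    s ∈ degreeLE k d := mem_degreeLE.2 (degree_le_of_natDegree_le h)

theorem Asub_inf_eq_zero {d : ℕ} {a b : k} {m n : ℕ} (hab : a ≠ b) (h : d < m + n) {s : k[X]}
    (h1 : s ∈ Asub d a m) (h2 : s ∈ Asub d b n) : s = 0 := by
  by_contra hs
  have hc : IsCoprime ((X - C a) ^ m) ((X - C b) ^ n) :=
    IsCoprime.pow (isCoprime_X_sub_C_of_isUnit_sub (Ne.isUnit (sub_ne_zero.2 hab)))
  have hd : (X - C a) ^ m * (X - C b) ^ n ∣ s := hc.mul_dvd h1.2 h2.2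
  have := natDegree_le_of_dvd hd hs
  rw [natDegree_mul (pow_ne_zero _ (X_sub_C_ne_zero a)) (pow_ne_zero _ (X_sub_C_ne_zero b)),
    natDegree_pow, natDegree_pow, natDegree_X_sub_C, natDegree_X_sub_C] at this
  have h3 := natDegree_le_of_mem_degreeLE h1.1
  omega

section three

variable (d : ℕ) (P : Fin 3 → k) (e : Fin 3 → ℕ)

/-- the linear space of pairs -/
def Lsub : Submodule k (k[X] × k[X]) where
  carrier := {v | v.1 ∈ Asub d (P 0) (e 0) ∧ v.2 ∈ Asub d (P 1) (e 1) ∧
    v.1 + v.2 ∈ Asub d (P 2) (e 2)}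
  add_mem' := by
    intro v w hv hw
    refine ⟨Submodule.add_mem _ hv.1 hw.1, Submodule.add_mem _ hv.2.1 hw.2.1, ?_⟩
    have := Submodule.add_mem _ hv.2.2 hw.2.2
    convert this using 1
    simp only [Prod.fst_add, Prod.snd_add]
    ring
  zero_mem' := by
    refine ⟨Submodule.zero_mem _, Submodule.zero_mem _, ?_⟩
    simp
  smul_mem' := by
    intro c v hv
    refine ⟨Submodule.smul_mem _ c hv.1, Submodule.smul_mem _ c hv.2.1, ?_⟩
    have := Submodule.smul_mem _ c hv.2.2
    convert this using 1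
    simp only [Prod.smul_fst, Prod.smul_snd, smul_add]

/-- the set of pencils meeting the three Schubert conditions -/
def Sset : Set (Submodule k k[X]) :=
  {V | V ≤ degreeLE k d ∧ Module.finrank k V = 2 ∧
    ∀ i, ∃ s ∈ V, s ≠ 0 ∧ e i ≤ rootMultiplicity (P i) s}

variable {d P e}

theorem mem_Lsub {v : k[X] × k[X]} : v ∈ Lsub d P e ↔
    v.1 ∈ Asub d (P 0) (e 0) ∧ v.2 ∈ Asub d (P 1) (e 1) ∧ v.1 + v.2 ∈ Asub d (P 2) (e 2) :=
  Iff.rfl

variable (hP : Function.Injective P) (hle : ∀ i, e i ≤ d) (hsum : e 0 + e 1 + e 2 = 2 * d + 1)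

include hle hsum in
theorem lt_add_of_ne {i j : Fin 3} (hij : i ≠ j) : d < e i + e j := by
  have h0 := hle 0
  have h1 := hle 1
  have h2 := hle 2
  fin_cases i <;> fin_cases j <;> simp at hij ⊢ <;> omega

include hP hle hsum in
theorem inf_zero {i j : Fin 3} (hij : i ≠ j) {s : k[X]} (h1 : s ∈ Asub d (P i) (e i))
    (h2 : s ∈ Asub d (P j) (e j)) : s = 0 :=
  Asub_inf_eq_zero (fun h => hij (hP h)) (lt_add_of_ne hle hsum hij) h1 h2

/-- kernel of the truncated Taylor map -/
theorem taylor_coeff_zero_dvd {a : k} {n : ℕ} {s : k[X]}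
    (h : ∀ i < n, (taylor a s).coeff i = 0) : (X - C a) ^ n ∣ s := by
  rw [X_sub_C_pow_dvd_iff, ← taylor_apply, X_pow_dvd_iff]
  exact h

include hle hsum in
theorem Lsub_ne_bot : Lsub d P e ≠ ⊥ := by
  classical
  set n0 := d + 1 - e 0 with hn0
  set n1 := d + 1 - e 1 with hn1
  have h0 := hle 0
  have h1 := hle 1
  have h2 := hle 2
  let ψ : k[X] →ₗ[k] (Fin (e 2) → k) :=
    LinearMap.pi (fun i => (lcoeff k i).comp (taylor (P 2)))
  let Φ : (degreeLT k n0 × degreeLT k n1) →ₗ[k] (Fin (e 2) → k) :=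
    ψ.comp ((LinearMap.mulLeft k ((X - C (P 0)) ^ (e 0))).comp
        ((degreeLT k n0).subtype.comp (LinearMap.fst k _ _)) +
      (LinearMap.mulLeft k ((X - C (P 1)) ^ (e 1))).comp
        ((degreeLT k n1).subtype.comp (LinearMap.snd k _ _)))
  have hfr : Module.finrank k (Fin (e 2) → k) <
      Module.finrank k (degreeLT k n0 × degreeLT k n1) := by
    haveI : Module.Finite k (degreeLT k n0) := Module.Finite.equiv (degreeLTEquiv k n0).symm
    haveI : Module.Finite k (degreeLT k n1) := Module.Finite.equiv (degreeLTEquiv k n1).symm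
    rw [Module.finrank_prod, (degreeLTEquiv k n0).finrank_eq, (degreeLTEquiv k n1).finrank_eq]
    simp only [Module.finrank_fin_fun]
    omega
  have hni : ¬ Function.Injective Φ := fun hinj =>
    absurd (LinearMap.finrank_le_finrank_of_injective hinj) (not_le.2 hfr)
  have : ∃ x, x ≠ 0 ∧ Φ x = 0 := by
    by_contra hcon
    push Not at hcon
    apply hni
    rw [injective_iff_map_eq_zero]
    intro a ha
    by_contra ha0
    exact hcon a ha0 ha
  obtain ⟨x, hx0, hx⟩ := this
  -- the pair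
  set F : k[X] := (X - C (P 0)) ^ (e 0) * (x.1 : k[X]) with hF
  set G : k[X] := (X - C (P 1)) ^ (e 1) * (x.2 : k[X]) with hG
  have hΦ : Φ x = ψ (F + G) := rfl
  have hdeg : ∀ (a : k) (m n : ℕ) (y : k[X]), y ∈ degreeLT k n → m + n ≤ d + 1 →
      (X - C a) ^ m * y ∈ degreeLE k d := by
    intro a m n y hy hmn
    by_cases hy0 : y = 0
    · rw [hy0, mul_zero]; exact Submodule.zero_mem _
    apply mem_degreeLE_of_natDegree_le
    rw [natDegree_mul (pow_ne_zero _ (X_sub_C_ne_zero a)) hy0, natDegree_pow, natDegree_X_sub_C]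
    have : y.natDegree < n := by
      have := mem_degreeLT.1 hy
      by_cases hn : n = 0
      · subst hn
        exfalso
        have h' : y.degree < 0 := by simpa using this
        exact hy0 (degree_eq_bot.1 (by
          rcases hd : y.degree with _ | m
          · rfl
          · rw [hd] at h'
            exact absurd h' (by
              intro hh
              have := WithBot.coe_lt_coe.1 hh
              omega)))
      · exact (natDegree_lt_iff_degree_lt hy0).2 this
    omega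
  have hFA : F ∈ Asub d (P 0) (e 0) :=
    ⟨hdeg _ _ n0 _ x.1.2 (by omega), dvd_mul_right _ _⟩
  have hGA : G ∈ Asub d (P 1) (e 1) :=
    ⟨hdeg _ _ n1 _ x.2.2 (by omega), dvd_mul_right _ _⟩
  have hFG : F + G ∈ Asub d (P 2) (e 2) := by
    refine ⟨Submodule.add_mem _ hFA.1 hGA.1, ?_⟩
    apply taylor_coeff_zero_dvd
    intro i hi
    have := congrFun (hΦ.symm.trans hx) ⟨i, hi⟩
    simpa [ψ] using this
  intro hbot
  have hmem : ((F, G) : k[X] × k[X]) ∈ Lsub d P e := ⟨hFA, hGA, hFG⟩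
  rw [hbot, Submodule.mem_bot, Prod.mk_eq_zero] at hmem
  apply hx0
  have e1 : (x.1 : k[X]) = 0 := by
    have := hmem.1
    rw [hF] at this
    exact (mul_eq_zero.1 this).resolve_left (pow_ne_zero _ (X_sub_C_ne_zero _))
  have e2 : (x.2 : k[X]) = 0 := by
    have := hmem.2
    rw [hG] at this
    exact (mul_eq_zero.1 this).resolve_left (pow_ne_zero _ (X_sub_C_ne_zero _))
  apply Prod.ext
  · exact Subtype.ext e1
  · exact Subtype.ext e2


include hP hle hsum in
theorem comps_ne_zero {v : k[X] × k[X]} (hv : v ∈ Lsub d P e) (hv0 : v ≠ 0) :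
    v.1 ≠ 0 ∧ v.2 ≠ 0 ∧ v.1 + v.2 ≠ 0 := by
  have hF : v.1 = 0 → v.2 = 0 := by
    intro h
    have h2 := hv.2.2
    rw [h, zero_add] at h2
    exact inf_zero hP hle hsum (i := 1) (j := 2) (by decide) hv.2.1 h2
  have hG : v.2 = 0 → v.1 = 0 := by
    intro h
    have h2 := hv.2.2
    rw [h, add_zero] at h2
    exact inf_zero hP hle hsum (i := 0) (j := 2) (by decide) hv.1 h2
  have hFG : v.1 + v.2 = 0 → v.1 = 0 := by
    intro h
    have : v.1 = -v.2 := eq_neg_of_add_eq_zero_left h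
    have h2 : v.1 ∈ Asub d (P 1) (e 1) := by
      rw [this]; exact Submodule.neg_mem _ hv.2.1
    exact inf_zero hP hle hsum (i := 0) (j := 1) (by decide) hv.1 h2
  refine ⟨fun h => hv0 (Prod.ext h (hF h)), fun h => hv0 (Prod.ext (hG h) h), fun h => ?_⟩
  exact hv0 (Prod.ext (hFG h) (hF (hFG h)))

include hP hle hsum in
theorem linindep {v : k[X] × k[X]} (hv : v ∈ Lsub d P e) (hv0 : v ≠ 0) :
    LinearIndependent k ![v.1, v.2] := by
  obtain ⟨h1, h2, h3⟩ := comps_ne_zero hP hle hsum hv hv0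
  rw [LinearIndependent.pair_iff]
  intro a b hab
  have hb : b = 0 := by
    by_contra hb
    have : v.2 = (-(b⁻¹ * a)) • v.1 := by
      have : b • v.2 = -(a • v.1) := eq_neg_of_add_eq_zero_right hab
      calc v.2 = b⁻¹ • (b • v.2) := by rw [smul_smul, inv_mul_cancel₀ hb, one_smul]
        _ = _ := by rw [this, smul_neg, smul_smul, neg_smul]
    have hm : v.2 ∈ Asub d (P 0) (e 0) := by
      rw [this]; exact Submodule.smul_mem _ _ hv.1
    exact h2 (inf_zero hP hle hsum (i := 0) (j := 1) (by decide) hm hv.2.1)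
  subst hb
  rw [zero_smul, add_zero] at hab
  exact ⟨(smul_eq_zero.1 hab).resolve_right h1, rfl⟩

theorem le_rootMult_of_dvd {a : k} {n : ℕ} {s : k[X]} (hs : s ≠ 0) (h : (X - C a) ^ n ∣ s) :
    n ≤ rootMultiplicity a s := (le_rootMultiplicity_iff hs).2 h

theorem dvd_of_le_rootMult {a : k} {n : ℕ} {s : k[X]} (h : n ≤ rootMultiplicity a s) :
    (X - C a) ^ n ∣ s := by
  by_cases hs : s = 0
  · rw [hs]; exact dvd_zero _
  · exact (le_rootMultiplicity_iff hs).1 h

include hP hle hsum in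
theorem span_mem_Sset {v : k[X] × k[X]} (hv : v ∈ Lsub d P e) (hv0 : v ≠ 0) :
    Submodule.span k {v.1, v.2} ∈ Sset d P e := by
  obtain ⟨h1, h2, h3⟩ := comps_ne_zero hP hle hsum hv hv0
  refine ⟨?_, ?_, ?_⟩
  · rw [Submodule.span_le]
    intro x hx
    rcases hx with rfl | rfl
    · exact hv.1.1
    · exact hv.2.1.1
  · have hli := linindep hP hle hsum hv hv0
    have := finrank_span_eq_card hli
    rw [Matrix.range_cons_cons_empty] at this
    simpa using this
  · intro i
    fin_cases i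
    · exact ⟨v.1, Submodule.subset_span (by simp), h1, le_rootMult_of_dvd h1 hv.1.2⟩
    · exact ⟨v.2, Submodule.subset_span (by simp), h2, le_rootMult_of_dvd h2 hv.2.1.2⟩
    · refine ⟨v.1 + v.2, Submodule.add_mem _ (Submodule.subset_span (by simp))
        (Submodule.subset_span (by simp)), h3, le_rootMult_of_dvd h3 hv.2.2.2⟩

include hP hle hsum in
theorem exists_of_mem_Sset {V : Submodule k k[X]} (hV : V ∈ Sset d P e) :
    ∃ v ∈ Lsub d P e, v ≠ 0 ∧ Submodule.span k {v.1, v.2} = V := by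
  obtain ⟨hVd, hfr, hs⟩ := hV
  obtain ⟨s0, hs0V, hs00, hs0m⟩ := hs 0
  obtain ⟨s1, hs1V, hs10, hs1m⟩ := hs 1
  obtain ⟨s2, hs2V, hs20, hs2m⟩ := hs 2
  have hA0 : s0 ∈ Asub d (P 0) (e 0) := ⟨hVd hs0V, dvd_of_le_rootMult hs0m⟩
  have hA1 : s1 ∈ Asub d (P 1) (e 1) := ⟨hVd hs1V, dvd_of_le_rootMult hs1m⟩
  have hA2 : s2 ∈ Asub d (P 2) (e 2) := ⟨hVd hs2V, dvd_of_le_rootMult hs2m⟩
  -- s0, s1 independent
  have hli : LinearIndependent k ![s0, s1] := by
    rw [LinearIndependent.pair_iff]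
    intro a b hab
    have hb : b = 0 := by
      by_contra hb
      have : s1 = (-(b⁻¹ * a)) • s0 := by
        have : b • s1 = -(a • s0) := eq_neg_of_add_eq_zero_right hab
        calc s1 = b⁻¹ • (b • s1) := by rw [smul_smul, inv_mul_cancel₀ hb, one_smul]
          _ = _ := by rw [this, smul_neg, smul_smul, neg_smul]
      have hm : s1 ∈ Asub d (P 0) (e 0) := by
        rw [this]; exact Submodule.smul_mem _ _ hA0
      exact hs10 (inf_zero hP hle hsum (i := 0) (j := 1) (by decide) hm hA1)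
    subst hb
    rw [zero_smul, add_zero] at hab
    exact ⟨(smul_eq_zero.1 hab).resolve_right hs00, rfl⟩
  have hspan : Submodule.span k {s0, s1} = V := by
    haveI : Module.Finite k V := Module.finite_of_finrank_pos (by omega)
    apply Submodule.eq_of_le_of_finrank_eq
    · rw [Submodule.span_le]
      intro x hx
      rcases hx with rfl | rfl
      · exact hs0V
      · exact hs1V
    · have := finrank_span_eq_card hli
      rw [Matrix.range_cons_cons_empty] at this
      rw [hfr]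
      simpa using this
  have hs2' : s2 ∈ Submodule.span k {s0, s1} := by rw [hspan]; exact hs2V
  obtain ⟨a, b, hab⟩ := Submodule.mem_span_pair.1 hs2'
  have ha : a ≠ 0 := by
    rintro rfl
    rw [zero_smul, zero_add] at hab
    have hm : s2 ∈ Asub d (P 1) (e 1) := by
      rw [← hab]; exact Submodule.smul_mem _ _ hA1
    exact hs20 (inf_zero hP hle hsum (i := 1) (j := 2) (by decide) hm hA2)
  have hb : b ≠ 0 := by
    rintro rfl
    rw [zero_smul, add_zero] at hab
    have hm : s2 ∈ Asub d (P 0) (e 0) := by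
      rw [← hab]; exact Submodule.smul_mem _ _ hA0
    exact hs20 (inf_zero hP hle hsum (i := 0) (j := 2) (by decide) hm hA2)
  refine ⟨(a • s0, b • s1), ⟨Submodule.smul_mem _ _ hA0, Submodule.smul_mem _ _ hA1, ?_⟩, ?_, ?_⟩
  · show a • s0 + b • s1 ∈ _
    rw [hab]; exact hA2
  · intro h
    have := (Prod.mk_eq_zero.1 h).1
    exact hs00 ((smul_eq_zero.1 this).resolve_left ha)
  · rw [← hspan]
    apply le_antisymm
    · rw [Submodule.span_le]
      intro x hx
      rcases hx with rfl | rfl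
      · exact Submodule.smul_mem _ _ (Submodule.subset_span (by simp))
      · exact Submodule.smul_mem _ _ (Submodule.subset_span (by simp))
    · have e0 : s0 ∈ Submodule.span k {a • s0, b • s1} := by
        have h : a⁻¹ • (a • s0) ∈ Submodule.span k {a • s0, b • s1} :=
          Submodule.smul_mem _ _ (Submodule.subset_span (by simp))
        rwa [smul_smul, inv_mul_cancel₀ ha, one_smul] at h
      have e1 : s1 ∈ Submodule.span k {a • s0, b • s1} := by
        have h : b⁻¹ • (b • s1) ∈ Submodule.span k {a • s0, b • s1} :=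
          Submodule.smul_mem _ _ (Submodule.subset_span (by simp))
        rwa [smul_smul, inv_mul_cancel₀ hb, one_smul] at h
      rw [Submodule.span_le]
      intro x hx
      rcases hx with rfl | rfl
      · exact e0
      · exact e1

/-- rigidity: all elements of `L` define the same rational function -/
theorem cross_eq {v w : k[X] × k[X]} (hP : Function.Injective P)
    (hsum : e 0 + e 1 + e 2 = 2 * d + 1) (hv : v ∈ Lsub d P e) (hw : w ∈ Lsub d P e) :
    w.1 * v.2 = v.1 * w.2 := by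
  by_contra hne
  set u : k[X] := w.1 * v.2 - v.1 * w.2 with hu
  have hu0 : u ≠ 0 := sub_ne_zero.2 hne
  have hdeg : u.natDegree ≤ 2 * d := by
    rw [hu]
    refine (natDegree_sub_le _ _).trans (max_le ?_ ?_)
    · refine natDegree_mul_le.trans ?_
      have := natDegree_le_of_mem_degreeLE hw.1.1
      have := natDegree_le_of_mem_degreeLE hv.2.1.1
      omega
    · refine natDegree_mul_le.trans ?_
      have := natDegree_le_of_mem_degreeLE hv.1.1
      have := natDegree_le_of_mem_degreeLE hw.2.1.1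
      omega
  have hdvd : ∀ j, (X - C (P j)) ^ (e j) ∣ u := by
    intro j
    fin_cases j
    · exact dvd_sub (Dvd.dvd.mul_right hw.1.2 _) (Dvd.dvd.mul_right hv.1.2 _)
    · exact dvd_sub (Dvd.dvd.mul_left hv.2.1.2 _) (Dvd.dvd.mul_left hw.2.1.2 _)
    · have : u = w.1 * (v.1 + v.2) - v.1 * (w.1 + w.2) := by rw [hu]; ring
      rw [this]
      exact dvd_sub (Dvd.dvd.mul_left hv.2.2.2 _) (Dvd.dvd.mul_left hw.2.2.2 _)
  have := sum_le_natDegree_of_dvd P hP e u hu0 hdvd
  rw [Fin.sum_univ_three] at this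
  omega

include hP hle hsum in
theorem proportional {v w : k[X] × k[X]} (hv : v ∈ Lsub d P e) (hw : w ∈ Lsub d P e)
    (hv0 : v ≠ 0) (hw0 : w ≠ 0)
    (hspan : Submodule.span k {v.1, v.2} = Submodule.span k {w.1, w.2}) : ∃ c : k, w = c • v := by
  obtain ⟨h1, h2, h3⟩ := comps_ne_zero hP hle hsum hv hv0
  have hw1 : w.1 ∈ Submodule.span k {v.1, v.2} := by
    rw [hspan]; exact Submodule.subset_span (by simp)
  have hw2 : w.2 ∈ Submodule.span k {v.1, v.2} := by
    rw [hspan]; exact Submodule.subset_span (by simp)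
  obtain ⟨a, b, hab⟩ := Submodule.mem_span_pair.1 hw1
  obtain ⟨a', b', hab'⟩ := Submodule.mem_span_pair.1 hw2
  have hb : b = 0 := by
    by_contra hb
    have : v.2 = b⁻¹ • (w.1 - a • v.1) := by
      rw [← hab, add_sub_cancel_left, smul_smul, inv_mul_cancel₀ hb, one_smul]
    have hm : v.2 ∈ Asub d (P 0) (e 0) := by
      rw [this]
      exact Submodule.smul_mem _ _ (Submodule.sub_mem _ hw.1 (Submodule.smul_mem _ _ hv.1))
    exact h2 (inf_zero hP hle hsum (i := 0) (j := 1) (by decide) hm hv.2.1)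
  have ha' : a' = 0 := by
    by_contra ha'
    have : v.1 = a'⁻¹ • (w.2 - b' • v.2) := by
      rw [← hab', add_sub_cancel_right, smul_smul, inv_mul_cancel₀ ha', one_smul]
    have hm : v.1 ∈ Asub d (P 1) (e 1) := by
      rw [this]
      exact Submodule.smul_mem _ _ (Submodule.sub_mem _ hw.2.1 (Submodule.smul_mem _ _ hv.2.1))
    exact h1 (inf_zero hP hle hsum (i := 0) (j := 1) (by decide) hv.1 hm)
  subst hb ha'
  rw [zero_smul, add_zero] at hab
  rw [zero_smul, zero_add] at hab'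
  have hsub : (a - b') • v.1 ∈ Asub d (P 2) (e 2) := by
    have h4 : (a - b') • v.1 = (w.1 + w.2) - b' • (v.1 + v.2) := by
      rw [← hab, ← hab', sub_smul, smul_add]; abel
    rw [h4]
    exact Submodule.sub_mem _ hw.2.2 (Submodule.smul_mem _ _ hv.2.2)
  have hsub0 : (a - b') • v.1 ∈ Asub d (P 0) (e 0) := Submodule.smul_mem _ _ hv.1
  have := inf_zero hP hle hsum (i := 0) (j := 2) (by decide) hsub0 hsub
  have hab2 : a = b' := sub_eq_zero.1 ((smul_eq_zero.1 this).resolve_right h1)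
  refine ⟨a, Prod.ext ?_ ?_⟩
  · rw [Prod.smul_fst, hab]
  · rw [Prod.smul_snd, hab2, hab']

end three


theorem admissible_data {p d : ℕ} {e : Fin 3 → ℕ} (he : W4c1limliniiii.Admissible p d e) :
    (∀ i, e i ≤ d) ∧ e 0 + e 1 + e 2 = 2 * d + 1 ∧ ∀ i, 2 ≤ e i := by
  obtain ⟨h1, h2⟩ := he
  rw [Fin.sum_univ_three] at h2
  exact ⟨fun i => (h1 i).2.1, by omega, fun i => (h1 i).1⟩

theorem three_main (p : ℕ) (d : ℕ) (P : Fin 3 → k) (hP : Function.Injective P)
    (e : Fin 3 → ℕ) (he : W4c1limliniiii.Admissible p d e) :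
    ∃ L : Submodule k (k[X] × k[X]), L ≠ ⊥ ∧
      (∀ v ∈ L, v ≠ 0 →
        Submodule.span k {v.1, v.2} ≤ Polynomial.degreeLE k d ∧
          Module.finrank k (Submodule.span k {v.1, v.2}) = 2 ∧
          ∀ i, ∃ s ∈ Submodule.span k {v.1, v.2}, s ≠ 0 ∧
            e i ≤ Polynomial.rootMultiplicity (P i) s) ∧
      (∀ V : Submodule k k[X], V ≤ Polynomial.degreeLE k d → Module.finrank k V = 2 →
        (∀ i, ∃ s ∈ V, s ≠ 0 ∧ e i ≤ Polynomial.rootMultiplicity (P i) s) →
          ∃ v ∈ L, v ≠ 0 ∧ Submodule.span k {v.1, v.2} = V) ∧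
      (∀ v ∈ L, ∀ w ∈ L, v ≠ 0 → w ≠ 0 →
        Submodule.span k {v.1, v.2} = Submodule.span k {w.1, w.2} → ∃ c : k, w = c • v) := by
  obtain ⟨hle, hsum, h2⟩ := admissible_data he
  refine ⟨Lsub d P e, Lsub_ne_bot hle hsum, ?_, ?_, ?_⟩
  · intro v hv hv0
    exact span_mem_Sset hP hle hsum hv hv0
  · intro V h1 h2 h3
    exact exists_of_mem_Sset hP hle hsum ⟨h1, h2, h3⟩
  · intro v hv w hw hv0 hw0 hspan
    exact proportional hP hle hsum hv hw hv0 hw0 hspan

end Groth.Agent.H9.RMP
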