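import Mathlib
import Groth.Prelude.Def_W4c1limliniiiiRamP1
import Groth.Agent.Lib.Helper9.Misc.RMP1
import Groth.Agent.Lib.Helper9.Misc.RMP2

set_option autoImplicit false
set_option linter.style.haveILetI false
set_option linter.unusedSectionVars false
set_option linter.unusedVariables false

namespace Groth.Agent.H9.RMP

open Polynomial W4c1limliniiii

universe u
variable {k : Type u} [Field k]

section three

variable {d : ℕ} {P : Fin 3 → k} {e : Fin 3 → ℕ}

theorem ramMaps_subset_Sset {V : Submodule k k[X]} (hV : V ∈ ramMaps d P e) : V ∈ Sset d P e := by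
  obtain ⟨⟨h1, h2, -, -⟩, -, h3⟩ := hV
  exact ⟨h1, h2, fun i => (h3 i).1⟩

/-- contradiction from too much vanishing of the Wronskian -/
theorem contra_of_dvd (hP : Function.Injective P) (hsum : e 0 + e 1 + e 2 = 2 * d + 1)
    (h2 : ∀ i, 2 ≤ e i) {W : k[X]} (hW : W ≠ 0) (hdeg : W.natDegree + 2 ≤ 2 * d)
    (hbase : ∀ j, (X - C (P j)) ^ (e j - 1) ∣ W) (i : Fin 3) (hi : (X - C (P i)) ^ (e i) ∣ W) :
    False := by
  classical
  have := sum_le_natDegree_of_dvd P hP (fun j => if j = i then e i else e j - 1) W hW (by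
    intro j
    by_cases hj : j = i
    · subst hj; simpa using hi
    · simpa [hj] using hbase j)
  have hs : ∑ j, (if j = i then e i else e j - 1) = ∑ j, (e j - 1) + 1 := by
    have : ∀ j, (if j = i then e i else e j - 1) = (e j - 1) + (if j = i then 1 else 0) := by
      intro j
      by_cases hj : j = i
      · subst hj
        have := h2 j
        simp; omega
      · simp [hj]
    rw [Finset.sum_congr rfl (fun j _ => this j), Finset.sum_add_distrib]
    simp
  rw [hs, Fin.sum_univ_three] at this
  have := h2 0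
  have := h2 1
  have := h2 2
  omega

theorem contra_of_dvd_extra (hP : Function.Injective P) (hsum : e 0 + e 1 + e 2 = 2 * d + 1)
    (h2 : ∀ i, 2 ≤ e i) {W : k[X]} (hW : W ≠ 0) (hdeg : W.natDegree + 2 ≤ 2 * d)
    (hbase : ∀ j, (X - C (P j)) ^ (e j - 1) ∣ W) (a : k) (ha : ∀ j, P j ≠ a)
    (hi : (X - C a) ∣ W) : False := by
  classical
  have hinj : Function.Injective (fun o : Option (Fin 3) => o.elim a P) := by
    intro x y hxy
    cases x with
    | none =>
      cases y with
      | none => rfl
      | some j => exact absurd hxy.symm (ha j)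
    | some i =>
      cases y with
      | none => exact absurd hxy (ha i)
      | some j => exact congrArg some (hP hxy)
  have := sum_le_natDegree_of_dvd (fun o : Option (Fin 3) => o.elim a P) hinj
    (fun o => o.elim 1 (fun j => e j - 1)) W hW (by
    intro o
    cases o with
    | none => simpa using hi
    | some j => simpa using hbase j)
  rw [Fintype.sum_option, Fin.sum_univ_three] at this
  simp only [Option.elim_none, Option.elim_some] at this
  have := h2 0
  have := h2 1
  have := h2 2
  omega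

variable (hP : Function.Injective P) (hle : ∀ i, e i ≤ d) (hsum : e 0 + e 1 + e 2 = 2 * d + 1)
  (h2 : ∀ i, 2 ≤ e i)

include hP hle hsum h2 in
theorem mem_ramMaps_of_sep {V : Submodule k k[X]} (hV : V ∈ Sset d P e) (hsep : IsSeparable V) :
    V ∈ ramMaps d P e := by
  obtain ⟨v, hvL, hv0, hspan⟩ := exists_of_mem_Sset hP hle hsum hV
  obtain ⟨hVd, hfr, hs⟩ := hV
  set F := v.1 with hF
  set G := v.2 with hG
  have hFV : F ∈ V := by rw [← hspan]; exact Submodule.subset_span (by simp)
  have hGV : G ∈ V := by rw [← hspan]; exact Submodule.subset_span (by simp)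
  obtain ⟨F', hF', G', hG', hW'⟩ := hsep
  have hW : wronskian F G ≠ 0 := by
    rw [← hspan] at hF' hG'
    obtain ⟨c, hc⟩ := wronskian_mem_span hF' hG'
    intro h0
    rw [h0, smul_zero] at hc
    exact hW' hc
  have hFd : F.natDegree ≤ d := natDegree_le_of_mem_degreeLE (hVd hFV)
  have hGd : G.natDegree ≤ d := natDegree_le_of_mem_degreeLE (hVd hGV)
  have hdeg := natDegree_wronskian_add_two_le hFd hGd hW
  have hbase : ∀ j, (X - C (P j)) ^ (e j - 1) ∣ wronskian F G := by
    intro j
    obtain ⟨s, hsV, hs0, hsm⟩ := hs j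
    rw [← hspan] at hsV
    have hdvd := dvd_of_le_rootMult hsm
    exact dvd_wronskian_of_mem hsV hs0 (pow_pred_dvd_wronskian_left hdvd)
      (pow_pred_dvd_wronskian_right hdvd)
  have hd2 : 2 ≤ d := (h2 0).trans (hle 0)
  refine ⟨⟨hVd, hfr, ?_, ?_⟩, ⟨F, hFV, G, hGV, hW⟩, ?_⟩
  · -- member of degree d
    by_contra hcon
    push Not at hcon
    have hF1 : F.natDegree ≤ d - 1 := by
      have := hcon F hFV; omega
    have hG1 : G.natDegree ≤ d - 1 := by
      have := hcon G hGV; omega
    have h3 := natDegree_wronskian_add_two_le hF1 hG1 hW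
    have := sum_le_natDegree_of_dvd P hP (fun j => e j - 1) _ hW hbase
    rw [Fin.sum_univ_three] at this
    have := h2 0
    have := h2 1
    have := h2 2
    omega
  · -- base point free
    intro a
    by_contra hcon
    push Not at hcon
    have hFa : (X - C a) ∣ F := dvd_iff_isRoot.2 (hcon F hFV)
    have hGa : (X - C a) ∣ G := dvd_iff_isRoot.2 (hcon G hGV)
    by_cases hex : ∃ i, P i = a
    · obtain ⟨i, rfl⟩ := hex
      obtain ⟨s, hsV, hs0, hsm⟩ := hs i
      rw [← hspan] at hsV
      have hdvd := dvd_of_le_rootMult hsm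
      have h1 : 1 ≤ e i := by have := h2 i; omega
      exact contra_of_dvd hP hsum h2 hW hdeg hbase i
        (dvd_wronskian_of_mem hsV hs0 (pow_dvd_wronskian_left h1 hdvd hGa)
          (pow_dvd_wronskian_right h1 hdvd hFa))
    · push Not at hex
      have : (X - C a) ∣ wronskian F G := by
        rw [dvd_iff_isRoot]
        exact eval_wronskian_eq_zero (hcon F hFV) (hcon G hGV)
      exact contra_of_dvd_extra hP hsum h2 hW hdeg hbase a hex this
  · intro i
    refine ⟨hs i, ?_⟩
    intro s hsV hs0
    by_contra hcon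
    push Not at hcon
    have hdvd : (X - C (P i)) ^ (e i + 1) ∣ s := dvd_of_le_rootMult hcon
    rw [← hspan] at hsV
    exact contra_of_dvd hP hsum h2 hW hdeg hbase i
      (dvd_wronskian_of_mem hsV hs0 (pow_pred_dvd_wronskian_left hdvd)
        (pow_pred_dvd_wronskian_right hdvd))

include hP hle hsum in
theorem rigid [IsAlgClosed k] {V V' : Submodule k k[X]} (hV : V ∈ ramMaps d P e)
    (hV' : V' ∈ Sset d P e) : V' = V := by
  obtain ⟨v, hvL, hv0, hspan⟩ := exists_of_mem_Sset hP hle hsum (ramMaps_subset_Sset hV)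
  obtain ⟨w, hwL, hw0, hspan'⟩ := exists_of_mem_Sset hP hle hsum hV'
  have hcross := cross_eq hP hsum hvL hwL
  obtain ⟨⟨hVd, hfr, ⟨s, hsV, hsd⟩, hbpf⟩, -, -⟩ := hV
  obtain ⟨hv1, hv2, -⟩ := comps_ne_zero hP hle hsum hvL hv0
  obtain ⟨hw1, hw2, -⟩ := comps_ne_zero hP hle hsum hwL hw0
  set F := v.1 with hF
  set G := v.2 with hG
  have hcop : IsCoprime F G := by
    rw [isCoprime_iff_aeval_ne_zero_of_isAlgClosed k k F G]
    intro a
    obtain ⟨t, htV, hta⟩ := hbpf a
    rw [← hspan] at htV
    obtain ⟨α, β, rfl⟩ := Submodule.mem_span_pair.1 htV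
    by_contra hcon
    push Not at hcon
    apply hta
    simp only [coe_aeval_eq_eval] at hcon
    simp [eval_add, eval_smul, hcon.1, hcon.2]
  have hdvd : F ∣ w.1 := by
    apply hcop.dvd_of_dvd_mul_right
    rw [hcross]
    exact dvd_mul_right _ _
  obtain ⟨h, hh⟩ := hdvd
  have hg : w.2 = h * G := by
    rw [hh] at hcross
    have : F * (h * G) = F * w.2 := by rw [← hcross]; ring
    exact (mul_left_cancel₀ hv1 this).symm
  have hh0 : h ≠ 0 := by
    rintro rfl
    rw [mul_zero] at hh
    exact hw1 hh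
  have hFd : F.natDegree ≤ d := natDegree_le_of_mem_degreeLE hvL.1.1
  have hGd : G.natDegree ≤ d := natDegree_le_of_mem_degreeLE hvL.2.1.1
  have hdeg : F.natDegree = d ∨ G.natDegree = d := by
    by_contra hcon
    push Not at hcon
    rw [← hspan] at hsV
    obtain ⟨α, β, rfl⟩ := Submodule.mem_span_pair.1 hsV
    have h1 : (α • F + β • G).natDegree ≤ d - 1 := by
      refine (natDegree_add_le _ _).trans (max_le ?_ ?_)
      · refine (natDegree_smul_le _ _).trans ?_
        have := hcon.1; omega
      · refine (natDegree_smul_le _ _).trans ?_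
        have := hcon.2; omega
    have hd0 : d ≠ 0 := by
      rintro rfl
      have := hcon.1
      omega
    omega
  have hh0' : h.natDegree = 0 := by
    rcases hdeg with hd | hd
    · have h1 := natDegree_le_of_mem_degreeLE hwL.1.1
      rw [hh, natDegree_mul hv1 hh0] at h1
      omega
    · have h1 := natDegree_le_of_mem_degreeLE hwL.2.1.1
      rw [hg, natDegree_mul hh0 hv2] at h1
      omega
  obtain ⟨c, hc⟩ : ∃ c : k, h = C c := ⟨_, eq_C_of_natDegree_eq_zero hh0'⟩
  have hc0 : c ≠ 0 := by
    rintro rfl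
    rw [map_zero] at hc
    exact hh0 hc
  rw [← hspan, ← hspan']
  have e1 : w.1 = c • F := by rw [hh, hc, smul_eq_C_mul, mul_comm]
  have e2 : w.2 = c • G := by rw [hg, hc, smul_eq_C_mul]
  rw [e1, e2]
  apply le_antisymm
  · rw [Submodule.span_le]
    intro x hx
    rcases hx with rfl | rfl
    · exact Submodule.smul_mem _ _ (Submodule.subset_span (by simp))
    · exact Submodule.smul_mem _ _ (Submodule.subset_span (by simp))
  · have e0 : F ∈ Submodule.span k {c • F, c • G} := by
      have h : c⁻¹ • (c • F) ∈ Submodule.span k {c • F, c • G} :=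
        Submodule.smul_mem _ _ (Submodule.subset_span (by simp))
      rwa [smul_smul, inv_mul_cancel₀ hc0, one_smul] at h
    have e1 : G ∈ Submodule.span k {c • F, c • G} := by
      have h : c⁻¹ • (c • G) ∈ Submodule.span k {c • F, c • G} :=
        Submodule.smul_mem _ _ (Submodule.subset_span (by simp))
      rwa [smul_smul, inv_mul_cancel₀ hc0, one_smul] at h
    rw [Submodule.span_le]
    intro x hx
    rcases hx with rfl | rfl
    · exact e0
    · exact e1

include hP hle hsum in
theorem Sset_nonempty : ∃ V, V ∈ Sset d P e := by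
  obtain ⟨v, hv, hv0⟩ := Submodule.exists_mem_ne_zero_of_ne_bot (Lsub_ne_bot (P := P) hle hsum)
  exact ⟨_, span_mem_Sset hP hle hsum hv hv0⟩

include hP hle hsum h2 in
theorem main_18 [IsAlgClosed k] :
    (ramMaps d P e).Subsingleton ∧
      (ramMaps d P e = ∅ ↔
        ∃ V : Submodule k k[X], V ≤ Polynomial.degreeLE k d ∧ Module.finrank k V = 2 ∧
          ¬ IsSeparable V ∧
          ∀ i, ∃ s ∈ V, s ≠ 0 ∧ e i ≤ Polynomial.rootMultiplicity (P i) s) := by
  refine ⟨?_, ?_, ?_⟩
  · intro V hV V' hV'
    exact (rigid hP hle hsum hV' (ramMaps_subset_Sset hV)).symm ▸ rfl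
  · intro hempty
    obtain ⟨V, hV⟩ := Sset_nonempty hP hle hsum
    refine ⟨V, hV.1, hV.2.1, ?_, hV.2.2⟩
    intro hsep
    have := mem_ramMaps_of_sep hP hle hsum h2 hV hsep
    rw [hempty] at this
    exact this
  · rintro ⟨V', h1, h2', hnsep, h3⟩
    by_contra hne
    obtain ⟨V, hV⟩ := Set.nonempty_iff_ne_empty.2 hne
    have := rigid hP hle hsum hV ⟨h1, h2', h3⟩
    rw [this] at hnsep
    exact hnsep hV.2.1

end three

end Groth.Agent.H9.RMP
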