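import Mathlib
import Groth.Prelude.Def_W4c1limliniiiiRamP1
import Groth.Agent.Lib.Helper9.Misc.RMP1
import Groth.Agent.Lib.Helper9.Misc.RMP2
import Groth.Agent.Lib.Helper9.Misc.RMP3

set_option autoImplicit false
set_option linter.style.haveILetI false
set_option linter.unusedSectionVars false
set_option linter.unusedVariables false

namespace Groth.Agent.H9.RMP

open Polynomial W4c1limliniiii

universe u
variable {k : Type u} [Field k]

/-- vanishing derivative and small degree imply constant -/
theorem eq_C_of_derivative_eq_zero {p d : ℕ} [CharP k p] (hp : p = 0 ∨ d < p) {f : k[X]}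
    (hf : derivative f = 0) (hd : f.natDegree ≤ d) : f = C (f.coeff 0) := by
  ext n
  cases n with
  | zero => simp
  | succ n =>
    rw [coeff_C_succ]
    by_cases hn : f.natDegree < n + 1
    · exact coeff_eq_zero_of_natDegree_lt hn
    · push Not at hn
      have h1 := congrArg (fun g => g.coeff n) hf
      simp only [coeff_derivative, coeff_zero] at h1
      have h2 : ((n : k) + 1) ≠ 0 := by
        have : ((n + 1 : ℕ) : k) ≠ 0 := by
          rw [Ne, CharP.cast_eq_zero_iff k p]
          intro hdvd
          rcases hp with rfl | hp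
          · simp at hdvd
          · have := Nat.le_of_dvd (Nat.succ_pos n) hdvd
            omega
        simpa using this
      exact (mul_eq_zero.1 h1).resolve_right h2

/-- independent polynomials of small degree have nonzero Wronskian -/
theorem wronskian_ne_zero_of_small {p d : ℕ} [CharP k p] (hp : p = 0 ∨ d < p) {F G : k[X]}
    (hF : F.natDegree ≤ d) (hG : G.natDegree ≤ d) (hli : LinearIndependent k ![F, G]) :
    wronskian F G ≠ 0 := by
  classical
  letI : GCDMonoid k[X] := EuclideanDomain.gcdMonoid k[X]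
  intro hW
  have hF0 : F ≠ 0 := by simpa using hli.ne_zero 0
  have hG0 : G ≠ 0 := by simpa using hli.ne_zero 1
  set D := GCDMonoid.gcd F G with hD
  have hD0 : D ≠ 0 := gcd_ne_zero_of_right hG0
  have hcop : IsCoprime (F / D) (G / D) := isCoprime_div_gcd_div_gcd hG0
  have eF : D * (F / D) = F := EuclideanDomain.mul_div_cancel' hD0 (GCDMonoid.gcd_dvd_left F G)
  have eG : D * (G / D) = G := EuclideanDomain.mul_div_cancel' hD0 (GCDMonoid.gcd_dvd_right F G)
  have hW1 : wronskian (F / D) (G / D) = 0 := by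
    have := wronskian_mul_mul D (F / D) (G / D)
    rw [eF, eG, hW] at this
    exact (mul_eq_zero.1 this.symm).resolve_left (pow_ne_zero _ hD0)
  obtain ⟨h1, h2⟩ := hcop.wronskian_eq_zero_iff.1 hW1
  have hF1 : (F / D).natDegree ≤ d := by
    refine le_trans ?_ hF
    exact natDegree_le_of_dvd ⟨D, by rw [mul_comm]; exact eF.symm⟩ hF0
  have hG1 : (G / D).natDegree ≤ d := by
    refine le_trans ?_ hG
    exact natDegree_le_of_dvd ⟨D, by rw [mul_comm]; exact eG.symm⟩ hG0
  have cF := eq_C_of_derivative_eq_zero hp h1 hF1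
  have cG := eq_C_of_derivative_eq_zero hp h2 hG1
  set a := (F / D).coeff 0
  set b := (G / D).coeff 0
  have ha : a ≠ 0 := by
    intro h0
    rw [h0, map_zero] at cF
    rw [cF, mul_zero] at eF
    exact hF0 eF.symm
  rw [LinearIndependent.pair_iff] at hli
  have := hli b (-a) (by
    rw [← eF, ← eG, cF, cG, smul_eq_C_mul, smul_eq_C_mul, map_neg]
    ring)
  exact ha (neg_eq_zero.1 this.2)

section three

variable {d : ℕ} {P : Fin 3 → k} {e : Fin 3 → ℕ}

/-- the inseparable pencil `(X-P₂)^(d-p) ⟨(X-P₀)^p, (X-P₁)^p⟩` -/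
theorem insep_pencil {p : ℕ} [hp : Fact p.Prime] [CharP k p] (hP : Function.Injective P)
    (he0 : e 0 < p) (he1 : e 1 < p) (hpd : p ≤ d) (he2 : e 2 ≤ d) :
    ∃ V ∈ Sset d P e, ¬ IsSeparable V := by
  set h : k[X] := (X - C (P 2)) ^ (d - p) with hh
  set A : k[X] := (X - C (P 0)) ^ p with hA
  set B : k[X] := (X - C (P 1)) ^ p with hB
  have hA' : derivative A = 0 := by
    rw [hA, derivative_X_sub_C_pow, CharP.cast_eq_zero k p, map_zero, zero_mul]
  have hB' : derivative B = 0 := by
    rw [hB, derivative_X_sub_C_pow, CharP.cast_eq_zero k p, map_zero, zero_mul]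
  have hh0 : h ≠ 0 := pow_ne_zero _ (X_sub_C_ne_zero _)
  have hA0 : A ≠ 0 := pow_ne_zero _ (X_sub_C_ne_zero _)
  have hB0 : B ≠ 0 := pow_ne_zero _ (X_sub_C_ne_zero _)
  have h01 : P 0 ≠ P 1 := fun h => by simpa using hP h
  have hW0 : wronskian (h * A) (h * B) = 0 := by
    rw [wronskian_mul_mul]
    simp [wronskian, hA', hB']
  have hdegA : (h * A).natDegree = d := by
    rw [natDegree_mul hh0 hA0, hh, hA, natDegree_pow, natDegree_pow, natDegree_X_sub_C,
      natDegree_X_sub_C]
    omega
  have hdegB : (h * B).natDegree = d := by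
    rw [natDegree_mul hh0 hB0, hh, hB, natDegree_pow, natDegree_pow, natDegree_X_sub_C,
      natDegree_X_sub_C]
    omega
  have hli : LinearIndependent k ![h * A, h * B] := by
    rw [LinearIndependent.pair_iff]
    intro α β hαβ
    have h1 : α • A + β • B = 0 := by
      have : h * (α • A + β • B) = 0 := by
        rw [← hαβ]
        simp only [smul_eq_C_mul]
        ring
      exact (mul_eq_zero.1 this).resolve_left hh0
    have e0 := congrArg (eval (P 0)) h1
    have e1 := congrArg (eval (P 1)) h1
    simp only [hA, hB, eval_add, eval_smul, eval_pow, eval_sub, eval_X, eval_C, sub_self,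
      smul_eq_mul, eval_zero] at e0 e1
    rw [zero_pow hp.out.ne_zero, mul_zero] at e0 e1
    rw [zero_add] at e0
    rw [add_zero] at e1
    have hβ : β = 0 :=
      (mul_eq_zero.1 e0).resolve_right (pow_ne_zero _ (sub_ne_zero.2 h01))
    have hα : α = 0 :=
      (mul_eq_zero.1 e1).resolve_right (pow_ne_zero _ (sub_ne_zero.2 h01.symm))
    exact ⟨hα, hβ⟩
  refine ⟨Submodule.span k {h * A, h * B}, ⟨?_, ?_, ?_⟩, ?_⟩
  · rw [Submodule.span_le]
    intro x hx
    rcases hx with rfl | rfl
    · exact mem_degreeLE_of_natDegree_le hdegA.le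
    · exact mem_degreeLE_of_natDegree_le hdegB.le
  · have := finrank_span_eq_card hli
    rw [Matrix.range_cons_cons_empty] at this
    simpa using this
  · intro i
    fin_cases i
    · refine ⟨h * A, Submodule.subset_span (by simp), mul_ne_zero hh0 hA0, ?_⟩
      apply le_rootMult_of_dvd (mul_ne_zero hh0 hA0)
      exact Dvd.dvd.mul_left (pow_dvd_pow _ he0.le) _
    · refine ⟨h * B, Submodule.subset_span (by simp), mul_ne_zero hh0 hB0, ?_⟩
      apply le_rootMult_of_dvd (mul_ne_zero hh0 hB0)
      exact Dvd.dvd.mul_left (pow_dvd_pow _ he1.le) _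
    · -- the member (X - P₂)^d
      set α : k := ((P 2 - P 1) / (P 0 - P 1)) ^ p with hα
      have hid : (X - C (P 2)) ^ p = α • A + (1 - α) • B := by
        have hk : (P 2) ^ p = α * (P 0) ^ p + (1 - α) * (P 1) ^ p := by
          have h3 : (P 2 - P 1) ^ p = α * (P 0 - P 1) ^ p := by
            rw [hα, ← mul_pow, div_mul_cancel₀ _ (sub_ne_zero.2 h01)]
          rw [sub_pow_char, sub_pow_char] at h3
          linear_combination h3
        rw [hA, hB, sub_pow_char, sub_pow_char, sub_pow_char, ← C_pow, ← C_pow, ← C_pow, hk]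
        simp only [smul_eq_C_mul, map_add, map_mul, map_sub, map_one]
        ring
      have hmem : (X - C (P 2)) ^ d ∈ Submodule.span k {h * A, h * B} := by
        have : (X - C (P 2)) ^ d = α • (h * A) + (1 - α) • (h * B) := by
          have : (X - C (P 2)) ^ d = h * (X - C (P 2)) ^ p := by
            rw [hh, ← pow_add]; congr 1; omega
          rw [this, hid]
          simp only [smul_eq_C_mul]
          ring
        rw [this]
        exact Submodule.add_mem _ (Submodule.smul_mem _ _ (Submodule.subset_span (by simp)))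
          (Submodule.smul_mem _ _ (Submodule.subset_span (by simp)))
      have hne : (X - C (P 2)) ^ d ≠ 0 := pow_ne_zero _ (X_sub_C_ne_zero _)
      exact ⟨_, hmem, hne, le_rootMult_of_dvd hne (pow_dvd_pow _ he2)⟩
  · rintro ⟨F', hF', G', hG', hW'⟩
    obtain ⟨c, hc⟩ := wronskian_mem_span hF' hG'
    rw [hW0, smul_zero] at hc
    exact hW' hc

variable (hP : Function.Injective P) (hle : ∀ i, e i ≤ d) (hsum : e 0 + e 1 + e 2 = 2 * d + 1)
  (h2 : ∀ i, 2 ≤ e i)

include hP hle hsum h2 in
theorem main_19 [IsAlgClosed k] (p : ℕ) [CharP k p] :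
    (p ≠ 0 → e 0 < p → e 1 < p → p ≤ d → ramMaps d P e = ∅) ∧
      (p = 0 ∨ d < p → ∃ V : Submodule k k[X], ramMaps d P e = {V}) := by
  constructor
  · intro hp0 he0 he1 hpd
    haveI : Fact p.Prime := ⟨(CharP.char_is_prime_or_zero k p).resolve_right hp0⟩
    obtain ⟨V', hV', hnsep⟩ := insep_pencil (k := k) (p := p) hP he0 he1 hpd (hle 2)
    by_contra hne
    obtain ⟨V, hV⟩ := Set.nonempty_iff_ne_empty.2 hne
    have := rigid hP hle hsum hV hV'
    rw [this] at hnsep
    exact hnsep hV.2.1
  · intro hp
    obtain ⟨v, hv, hv0⟩ := Submodule.exists_mem_ne_zero_of_ne_bot (Lsub_ne_bot (P := P) hle hsum)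
    have hVS := span_mem_Sset hP hle hsum hv hv0
    have hli := linindep hP hle hsum hv hv0
    have hW := wronskian_ne_zero_of_small (p := p) hp (natDegree_le_of_mem_degreeLE hv.1.1)
      (natDegree_le_of_mem_degreeLE hv.2.1.1) hli
    have hsep : IsSeparable (Submodule.span k {v.1, v.2}) :=
      ⟨v.1, Submodule.subset_span (by simp), v.2, Submodule.subset_span (by simp), hW⟩
    have hmem := mem_ramMaps_of_sep hP hle hsum h2 hVS hsep
    refine ⟨_, Set.eq_singleton_iff_unique_mem.2 ⟨hmem, ?_⟩⟩
    intro V' hV'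
    exact rigid hP hle hsum hmem (ramMaps_subset_Sset hV')

end three

end Groth.Agent.H9.RMP
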