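import Mathlib
import Groth.Prelude.Def_W4c1limliniiiiRamP1
import Groth.Agent.Lib.Helper9.Misc.RMP1
import Groth.Agent.Lib.Helper9.Misc.RMP2

set_option autoImplicit false
set_option linter.style.haveILetI false
set_option linter.unusedSectionVars false
set_option linter.unusedVariables false

namespace Groth.Agent.H9.RMP

open Polynomial W4c1limliniiii

universe u
variable {k : Type u} [Field k]

/-- exact order of the Wronskian (tame case): non-divisibility -/
theorem not_pow_dvd_wronskian {r h : k[X]} {a : k} {b : ℕ} (hb : 1 ≤ b) (hbk : (b : k) ≠ 0)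
    (hr : r.eval a ≠ 0) (hh : h.eval a ≠ 0) :
    ¬ (X - C a) ^ b ∣ wronskian r ((X - C a) ^ b * h) := by
  intro hdvd
  have hform : wronskian r ((X - C a) ^ b * h) =
      (X - C a) ^ (b - 1) * (C (b : k) * r * h) +
        (X - C a) ^ b * (r * derivative h - derivative r * h) := by
    have hpow : (X - C a) ^ b = (X - C a) ^ (b - 1) * (X - C a) := by
      rw [← pow_succ]; congr 1; omega
    simp only [wronskian, derivative_mul, derivative_X_sub_C_pow]
    rw [hpow]
    ring
  rw [hform] at hdvd
  have h1 : (X - C a) ^ b ∣ (X - C a) ^ (b - 1) * (C (b : k) * r * h) :=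
    (dvd_add_left (dvd_mul_right _ _)).1 hdvd
  have hpow : (X - C a) ^ b = (X - C a) ^ (b - 1) * (X - C a) := by
    rw [← pow_succ]; congr 1; omega
  rw [hpow] at h1
  have h2 : (X - C a) ∣ C (b : k) * r * h :=
    (mul_dvd_mul_iff_left (pow_ne_zero _ (X_sub_C_ne_zero a))).1 h1
  rw [dvd_iff_isRoot, IsRoot, eval_mul, eval_mul, eval_C] at h2
  exact (mul_ne_zero (mul_ne_zero hbk hr) hh) h2

/-- `L2`: exact order of `W(F,G)` from members of the span -/
theorem not_pow_dvd_wronskian_of_mem {F G r s : k[X]} {a : k}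
    (hr : r ∈ Submodule.span k {F, G}) (hs : s ∈ Submodule.span k {F, G}) (hra : r.eval a ≠ 0)
    (hs0 : s ≠ 0) (hb : 1 ≤ rootMultiplicity a s) (hbk : ((rootMultiplicity a s : ℕ) : k) ≠ 0) :
    ¬ (X - C a) ^ (rootMultiplicity a s) ∣ wronskian F G := by
  intro hdvd
  obtain ⟨h, hsh, hh⟩ := exists_eq_pow_rootMultiplicity_mul_and_not_dvd s hs0 a
  obtain ⟨c, hc⟩ := wronskian_mem_span hr hs
  have : (X - C a) ^ (rootMultiplicity a s) ∣ wronskian r s := by
    rw [hc, smul_eq_C_mul]
    exact Dvd.dvd.mul_left hdvd _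
  rw [dvd_iff_isRoot] at hh
  set b := rootMultiplicity a s with hbdef
  have h3 : wronskian r s = wronskian r ((X - C a) ^ b * h) := by
    conv_lhs => rw [hsh]
  rw [h3] at this
  exact not_pow_dvd_wronskian hb hbk hra hh this

theorem wronskian_add_Xp {p : ℕ} [CharP k p] (F G : k[X]) (c : k) :
    wronskian F (G + C c * X ^ p * F) = wronskian F G := by
  have hp : (C ((p : ℕ) : k) : k[X]) = 0 := by rw [CharP.cast_eq_zero k p, map_zero]
  simp only [wronskian, derivative_add, derivative_mul, derivative_C, derivative_X_pow, zero_mul,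
    zero_add, hp, mul_zero]
  ring

section main

variable {p : ℕ} [hp : Fact p.Prime] [CharP k p] {d n : ℕ} {P : Fin n → k} {e : Fin n → ℕ} {E : ℕ}

theorem linindep_of_deg {F G : k[X]} (hF0 : F ≠ 0) (h : F.natDegree < G.natDegree) :
    LinearIndependent k ![F, G] := by
  rw [LinearIndependent.pair_iff]
  intro α β hαβ
  have hβ : β = 0 := by
    by_contra hβ
    have : G = (-(β⁻¹ * α)) • F := by
      have : β • G = -(α • F) := eq_neg_of_add_eq_zero_right hαβ
      calc G = β⁻¹ • (β • G) := by rw [smul_smul, inv_mul_cancel₀ hβ, one_smul]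
        _ = _ := by rw [this, smul_neg, smul_smul, neg_smul]
    have h1 : G.natDegree ≤ F.natDegree := by
      rw [this]; exact natDegree_smul_le _ _
    omega
  subst hβ
  rw [zero_smul, add_zero] at hαβ
  exact ⟨(smul_eq_zero.1 hαβ).resolve_right hF0, rfl⟩

theorem span_pair_eq {V : Submodule k k[X]} (hfr : Module.finrank k V = 2) {F G : k[X]}
    (hF : F ∈ V) (hG : G ∈ V) (hli : LinearIndependent k ![F, G]) :
    Submodule.span k {F, G} = V := by
  haveI : Module.Finite k V := Module.finite_of_finrank_pos (by omega)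
  apply Submodule.eq_of_le_of_finrank_eq
  · rw [Submodule.span_le]
    intro x hx
    rcases hx with rfl | rfl
    · exact hF
    · exact hG
  · have := finrank_span_eq_card hli
    rw [Matrix.range_cons_cons_empty] at this
    rw [hfr]
    simpa using this

theorem natDegree_comb {F G : k[X]} (h : F.natDegree < G.natDegree) (α β : k) (hβ : β ≠ 0) :
    (α • F + β • G).natDegree = G.natDegree := by
  have h1 : (β • G).natDegree = G.natDegree := natDegree_smul _ hβ
  have h2 : (α • F).natDegree < (β • G).natDegree := by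
    rw [h1]; exact lt_of_le_of_lt (natDegree_smul_le _ _) h
  rw [natDegree_add_eq_right_of_natDegree_lt h2, h1]

/-- the deformed pencil -/
theorem deform (h1e : ∀ i, 1 ≤ e i) (hlt : ∀ i, e i < p) (hE : p < E)
    {V : Submodule k k[X]} (hV : V ∈ ramMaps d P e) (hVE : HasRamIdxInf d V E) :
    ∃ F G : k[X], F ≠ 0 ∧ F.natDegree + E = d ∧ G.natDegree = d ∧
      ∀ c : k, Submodule.span k {F, G + C c * X ^ p * F} ∈ ramMaps d P e ∧
        HasRamIdxInf d (Submodule.span k {F, G + C c * X ^ p * F}) E := by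
  obtain ⟨⟨hVd, hfr, ⟨G, hGV, hGd⟩, hbpf⟩, hsep, hram⟩ := hV
  obtain ⟨⟨F, hFV, hF0, hFE⟩, hinf⟩ := hVE
  have hFE' : F.natDegree + E = d := le_antisymm hFE (hinf F hFV hF0)
  have hp0 : 0 < p := hp.out.pos
  have hFG : F.natDegree < G.natDegree := by omega
  have hli := linindep_of_deg hF0 hFG
  have hspan := span_pair_eq hfr hFV hGV hli
  obtain ⟨F', hF', G', hG', hW'⟩ := hsep
  have hW : wronskian F G ≠ 0 := by
    rw [← hspan] at hF' hG'
    obtain ⟨c, hc⟩ := wronskian_mem_span hF' hG'
    intro h0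
    rw [h0, smul_zero] at hc
    exact hW' hc
  -- local facts about W at the P i
  have hWdvd : ∀ i, (X - C (P i)) ^ (e i - 1) ∣ wronskian F G := by
    intro i
    obtain ⟨⟨s, hsV, hs0, hsm⟩, -⟩ := hram i
    rw [← hspan] at hsV
    have hdvd := dvd_of_le_rootMult hsm
    exact dvd_wronskian_of_mem hsV hs0 (pow_pred_dvd_wronskian_left hdvd)
      (pow_pred_dvd_wronskian_right hdvd)
  have hWndvd : ∀ i, ¬ (X - C (P i)) ^ (e i) ∣ wronskian F G := by
    intro i
    obtain ⟨⟨s, hsV, hs0, hsm⟩, hmax⟩ := hram i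
    have hsm' : rootMultiplicity (P i) s = e i := le_antisymm (hmax s hsV hs0) hsm
    obtain ⟨r, hrV, hra⟩ := hbpf (P i)
    rw [← hspan] at hsV hrV
    have := not_pow_dvd_wronskian_of_mem hrV hsV hra hs0 (by rw [hsm']; exact h1e i) (by
      rw [hsm', Ne, CharP.cast_eq_zero_iff k p]
      intro hdvd
      have := Nat.le_of_dvd (h1e i) hdvd
      have := hlt i
      omega)
    rwa [hsm'] at this
  refine ⟨F, G, hF0, hFE', hGd, ?_⟩
  intro c
  set Gc : k[X] := G + C c * X ^ p * F with hGc
  have hextra : (C c * X ^ p * F).natDegree < d := by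
    refine lt_of_le_of_lt natDegree_mul_le ?_
    have : (C c * X ^ p : k[X]).natDegree ≤ p := by
      refine natDegree_mul_le.trans ?_
      rw [natDegree_C, zero_add, natDegree_X_pow]
    omega
  have hGcd : Gc.natDegree = d := by
    rw [hGc, natDegree_add_eq_left_of_natDegree_lt (by rw [hGd]; exact hextra), hGd]
  have hFGc : F.natDegree < Gc.natDegree := by omega
  have hlic := linindep_of_deg hF0 hFGc
  have hWc : wronskian F Gc = wronskian F G := wronskian_add_Xp F G c
  set Vc := Submodule.span k {F, Gc} with hVc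
  have hFVc : F ∈ Vc := Submodule.subset_span (by simp)
  have hGVc : Gc ∈ Vc := Submodule.subset_span (by simp)
  have hFd : F.natDegree ≤ d := by omega
  -- base point freeness of Vc
  have hbpfc : ∀ a : k, ∃ s ∈ Vc, s.eval a ≠ 0 := by
    intro a
    by_cases hFa : F.eval a = 0
    · refine ⟨Gc, hGVc, ?_⟩
      obtain ⟨t, htV, hta⟩ := hbpf a
      rw [← hspan] at htV
      obtain ⟨α, β, rfl⟩ := Submodule.mem_span_pair.1 htV
      have hGa : G.eval a ≠ 0 := by
        intro hGa
        apply hta
        simp [eval_add, eval_smul, hFa, hGa]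
      simpa [hGc, eval_add, eval_mul, hFa] using hGa
    · exact ⟨F, hFVc, hFa⟩
  have hfrc : Module.finrank k Vc = 2 := by
    have := finrank_span_eq_card hlic
    rw [Matrix.range_cons_cons_empty] at this
    simpa using this
  refine ⟨⟨⟨?_, hfrc, ⟨Gc, hGVc, hGcd⟩, hbpfc⟩, ⟨F, hFVc, Gc, hGVc, by rw [hWc]; exact hW⟩, ?_⟩,
    ⟨⟨F, hFVc, hF0, hFE⟩, ?_⟩⟩
  · rw [hVc, Submodule.span_le]
    intro x hx
    rcases hx with rfl | rfl
    · exact mem_degreeLE_of_natDegree_le hFd
    · exact mem_degreeLE_of_natDegree_le hGcd.le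
  · -- ramification at P i
    intro i
    constructor
    · -- existence
      obtain ⟨r, hrVc, hra⟩ := hbpfc (P i)
      -- a nonzero member vanishing at P i
      obtain ⟨s, hsVc, hs0, hsa⟩ : ∃ s ∈ Vc, s ≠ 0 ∧ s.eval (P i) = 0 := by
        by_cases hFa : F.eval (P i) = 0
        · exact ⟨F, hFVc, hF0, hFa⟩
        · refine ⟨Gc - (Gc.eval (P i) / F.eval (P i)) • F,
            Submodule.sub_mem _ hGVc (Submodule.smul_mem _ _ hFVc), ?_, ?_⟩
          · intro h0
            rw [LinearIndependent.pair_iff] at hlic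
            have := hlic (-(Gc.eval (P i) / F.eval (P i))) 1 (by
              rw [one_smul, neg_smul, neg_add_eq_sub]; exact h0)
            exact one_ne_zero this.2
          · simp [eval_sub, eval_smul, div_mul_cancel₀ _ hFa]
      have hb1 : 1 ≤ rootMultiplicity (P i) s := by
        rw [Nat.one_le_iff_ne_zero, Ne, rootMultiplicity_eq_zero_iff]
        push Not
        exact ⟨hsa, hs0⟩
      refine ⟨s, hsVc, hs0, ?_⟩
      by_contra hcon
      push Not at hcon
      have hbk : ((rootMultiplicity (P i) s : ℕ) : k) ≠ 0 := by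
        rw [Ne, CharP.cast_eq_zero_iff k p]
        intro hdvd
        have := Nat.le_of_dvd hb1 hdvd
        have := hlt i
        omega
      have := not_pow_dvd_wronskian_of_mem hrVc hsVc hra hs0 hb1 hbk
      rw [hWc] at this
      apply this
      exact (pow_dvd_pow _ (by omega)).trans (hWdvd i)
    · intro s hsVc hs0
      by_contra hcon
      push Not at hcon
      have hdvd : (X - C (P i)) ^ (e i + 1) ∣ s := dvd_of_le_rootMult hcon
      have := dvd_wronskian_of_mem hsVc hs0 (pow_pred_dvd_wronskian_left hdvd)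
        (pow_pred_dvd_wronskian_right hdvd)
      rw [hWc] at this
      exact hWndvd i this
  · intro s hsVc hs0
    obtain ⟨α, β, rfl⟩ := Submodule.mem_span_pair.1 hsVc
    by_cases hβ : β = 0
    · subst hβ
      rw [zero_smul, add_zero] at hs0 ⊢
      have hα : α ≠ 0 := by
        rintro rfl
        exact hs0 (zero_smul _ _)
      rw [natDegree_smul _ hα]
      omega
    · rw [natDegree_comb hFGc α β hβ]
      omega

theorem deform_injective (hE : p < E) {F G : k[X]} (hF0 : F ≠ 0) (hFE : F.natDegree + E = d)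
    (hGd : G.natDegree = d) :
    Function.Injective (fun c : k => Submodule.span k {F, G + C c * X ^ p * F}) := by
  intro c c' hcc
  simp only at hcc
  have hp0 : 0 < p := hp.out.pos
  have hextra : ∀ c : k, (C c * X ^ p * F).natDegree < d := by
    intro c
    refine lt_of_le_of_lt natDegree_mul_le ?_
    have : (C c * X ^ p : k[X]).natDegree ≤ p := by
      refine natDegree_mul_le.trans ?_
      rw [natDegree_C, zero_add, natDegree_X_pow]
    omega
  have hGcd : ∀ c : k, (G + C c * X ^ p * F).natDegree = d := by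
    intro c
    rw [natDegree_add_eq_left_of_natDegree_lt (by rw [hGd]; exact hextra c), hGd]
  have hmem : G + C c' * X ^ p * F ∈ Submodule.span k {F, G + C c * X ^ p * F} := by
    rw [hcc]; exact Submodule.subset_span (by simp)
  obtain ⟨α, β, hαβ⟩ := Submodule.mem_span_pair.1 hmem
  have hdiff : C (c' - c) * X ^ p * F = α • F + (β - 1) • (G + C c * X ^ p * F) := by
    rw [sub_smul, one_smul, ← add_sub_assoc, hαβ, map_sub]
    ring
  have hβ : β = 1 := by
    by_contra hβ
    have h1 := natDegree_comb (F := F) (G := G + C c * X ^ p * F) (by rw [hGcd]; omega) α (β - 1)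
      (sub_ne_zero.2 hβ)
    rw [← hdiff, hGcd] at h1
    have := hextra (c' - c)
    omega
  subst hβ
  rw [sub_self, zero_smul, add_zero, smul_eq_C_mul] at hdiff
  have h2 : C (c' - c) * X ^ p = C α := mul_right_cancel₀ hF0 hdiff
  have h3 := congrArg (fun g => g.coeff p) h2
  simp only [coeff_C_mul, coeff_X_pow, if_true, mul_one, coeff_C, hp0.ne', if_false] at h3
  exact (sub_eq_zero.1 h3).symm

theorem main_20 [IsAlgClosed k]
    (he : Admissible p d (Fin.cons E e : Fin (n + 1) → ℕ))
    (hlt : ∀ i, e i < p) (hE : p < E) :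
    {V : Submodule k k[X] | V ∈ ramMaps d P e ∧ HasRamIdxInf d V E} = ∅ ∨
      {V : Submodule k k[X] | V ∈ ramMaps d P e ∧ HasRamIdxInf d V E}.Infinite := by
  by_cases hem : {V : Submodule k k[X] | V ∈ ramMaps d P e ∧ HasRamIdxInf d V E} = ∅
  · exact Or.inl hem
  right
  obtain ⟨V, hV, hVE⟩ := Set.nonempty_iff_ne_empty.2 hem
  have h1e : ∀ i, 1 ≤ e i := by
    intro i
    have := (he.1 i.succ).1
    rw [Fin.cons_succ] at this
    omega
  obtain ⟨F, G, hF0, hFE, hGd, hall⟩ := deform h1e hlt hE hV hVE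
  exact Set.infinite_of_injective_forall_mem (deform_injective (d := d) hE hF0 hFE hGd)
    (fun c => hall c)

end main

end Groth.Agent.H9.RMP
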