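import Mathlib
import Groth.Agent.Lib.Helper9.Misc.RSL1

set_option autoImplicit false
set_option linter.style.haveILetI false
set_option linter.unusedSectionVars false
set_option linter.unusedVariables false

universe u

namespace Groth.Agent.H9.RSL

open RingTheory.Sequence

theorem main_aux (P : Type u) [CommRing P] [IsRegularRing P]
    (I : Ideal P) (q : Ideal (P ⧸ I)) [q.IsPrime] (c : ℕ)
    (hc : (c : ℕ∞) + q.height = (q.comap (Ideal.Quotient.mk I)).height)
    (f : Fin c → Localization.AtPrime (q.comap (Ideal.Quotient.mk I)))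
    (hf : ∀ i, f i ∈ I.map (algebraMap _ (Localization.AtPrime (q.comap (Ideal.Quotient.mk I)))))
    (hgen : Ideal.span (Set.range f) ⊔
        IsLocalRing.maximalIdeal (Localization.AtPrime (q.comap (Ideal.Quotient.mk I))) *
          I.map (algebraMap _ (Localization.AtPrime (q.comap (Ideal.Quotient.mk I)))) =
      I.map (algebraMap _ (Localization.AtPrime (q.comap (Ideal.Quotient.mk I))))) :
    RingTheory.Sequence.IsRegular (Localization.AtPrime (q.comap (Ideal.Quotient.mk I))) (List.ofFn f) := by
  have hIq' : I ≤ q.comap (Ideal.Quotient.mk I) := by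
    intro x hx
    change Ideal.Quotient.mk I x ∈ q
    rw [Ideal.Quotient.eq_zero_iff_mem.mpr hx]
    exact q.zero_mem
  have hJm : I.map (algebraMap P (Localization.AtPrime (q.comap (Ideal.Quotient.mk I)))) ≤
      IsLocalRing.maximalIdeal (Localization.AtPrime (q.comap (Ideal.Quotient.mk I))) := by
    rw [← Localization.AtPrime.map_eq_maximalIdeal]
    exact Ideal.map_mono hIq'
  -- Nakayama
  have hspanJ : Ideal.span (Set.range f) ≤
      I.map (algebraMap P (Localization.AtPrime (q.comap (Ideal.Quotient.mk I)))) := by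
    rw [Ideal.span_le]
    rintro _ ⟨i, rfl⟩
    exact hf i
  have hjac : IsLocalRing.maximalIdeal (Localization.AtPrime (q.comap (Ideal.Quotient.mk I))) ≤
      Ideal.jacobson ⊥ := by
    rw [IsLocalRing.jacobson_eq_maximalIdeal ⊥ bot_ne_top]
  have hJle : (I.map (algebraMap P (Localization.AtPrime (q.comap (Ideal.Quotient.mk I)))) :
      Submodule _ (Localization.AtPrime (q.comap (Ideal.Quotient.mk I)))) ≤
      Ideal.span (Set.range f) := by
    refine Submodule.le_of_le_smul_of_le_jacobson_bot (IsNoetherian.noetherian _) hjac ?_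
    rw [smul_eq_mul]
    exact hgen.ge
  have hJeq : Ideal.span (Set.range f) =
      I.map (algebraMap P (Localization.AtPrime (q.comap (Ideal.Quotient.mk I)))) :=
    le_antisymm hspanJ hJle
  have hofList : Ideal.ofList (List.ofFn f) =
      I.map (algebraMap P (Localization.AtPrime (q.comap (Ideal.Quotient.mk I)))) := by
    rw [← hJeq, Ideal.ofList]
    congr 1
    ext x
    simp [List.mem_ofFn]
  -- dimension of R/J
  have hsub : Algebra.algebraMapSubmonoid (P ⧸ I) (q.comap (Ideal.Quotient.mk I)).primeCompl =
      q.primeCompl := by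
    ext x
    constructor
    · rintro ⟨p, hp, rfl⟩
      exact hp
    · intro hx
      obtain ⟨p, rfl⟩ := Ideal.Quotient.mk_surjective x
      exact ⟨p, hx, rfl⟩
  haveI : IsLocalization q.primeCompl
      (Localization.AtPrime (q.comap (Ideal.Quotient.mk I)) ⧸
        I.map (algebraMap P (Localization.AtPrime (q.comap (Ideal.Quotient.mk I))))) := by
    rw [← hsub]; infer_instance
  have hd1 : ringKrullDim (Localization.AtPrime (q.comap (Ideal.Quotient.mk I)) ⧸
        I.map (algebraMap P (Localization.AtPrime (q.comap (Ideal.Quotient.mk I))))) = q.height :=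
    IsLocalization.AtPrime.ringKrullDim_eq_height q _
  have hd2 : ringKrullDim (Localization.AtPrime (q.comap (Ideal.Quotient.mk I))) =
      (q.comap (Ideal.Quotient.mk I)).height :=
    IsLocalization.AtPrime.ringKrullDim_eq_height _ _
  apply isRegular_of_dim _ (List.ofFn f)
  · intro x hx
    rw [List.mem_ofFn] at hx
    obtain ⟨i, rfl⟩ := hx
    exact hJm (hf i)
  · rw [hofList, hd1, hd2, List.length_ofFn, ← hc]
    push_cast
    rw [add_comm]

theorem main (k : Type u) [Field k] (n : ℕ)
    (I : Ideal (MvPolynomial (Fin n) k)) (q : Ideal (MvPolynomial (Fin n) k ⧸ I)) [q.IsPrime] (c : ℕ)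
    (hc : (c : ℕ∞) + q.height = (q.comap (Ideal.Quotient.mk I)).height)
    (f : Fin c → Localization.AtPrime (q.comap (Ideal.Quotient.mk I)))
    (hf : ∀ i, f i ∈ I.map (algebraMap _ (Localization.AtPrime (q.comap (Ideal.Quotient.mk I)))))
    (hgen : Ideal.span (Set.range f) ⊔
        IsLocalRing.maximalIdeal (Localization.AtPrime (q.comap (Ideal.Quotient.mk I))) *
          I.map (algebraMap _ (Localization.AtPrime (q.comap (Ideal.Quotient.mk I)))) =
      I.map (algebraMap _ (Localization.AtPrime (q.comap (Ideal.Quotient.mk I))))) :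
    RingTheory.Sequence.IsRegular (Localization.AtPrime (q.comap (Ideal.Quotient.mk I))) (List.ofFn f) :=
  main_aux (MvPolynomial (Fin n) k) I q c hc f hf hgen

end Groth.Agent.H9.RSL
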