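import Mathlib

universe u v w

open CategoryTheory TopologicalSpace Opposite AlgebraicGeometry Topology

namespace Groth.Agent.H9.RSQ

theorem mm {T : TopCat.{w}} (F : (Opens T)ᵒᵖ ⥤ CommRingCat.{u}) {A B C : (Opens T)ᵒᵖ}
    (p : A ⟶ B) (q : B ⟶ C) (r : A ⟶ C) (s : F.obj A) :
    F.map q (F.map p s) = F.map r s := by
  have hr : r = p ≫ q := Quiver.Hom.unop_inj (Subsingleton.elim _ _)
  rw [hr, F.map_comp]; rfl

theorem lift_ring {A B C' : CommRingCat.{u}} (p : B ⟶ C') (q : A ⟶ C')
    (hp : Function.Injective p) (hq : ∀ a, q a ∈ Set.range p) : ∃ r : A ⟶ B, r ≫ p = q := by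
  classical
  choose r0 hr0 using hq
  have hr0' : ∀ a, p.hom (r0 a) = q.hom a := hr0
  let r : A →+* B :=
    { toFun := r0
      map_one' := hp (by
        show p.hom (r0 1) = p.hom 1
        rw [hr0', map_one, map_one])
      map_mul' := fun a b => hp (by
        show p.hom (r0 (a * b)) = p.hom (r0 a * r0 b)
        rw [hr0', map_mul, map_mul, hr0', hr0'])
      map_zero' := hp (by
        show p.hom (r0 0) = p.hom 0
        rw [hr0', map_zero, map_zero])
      map_add' := fun a b => hp (by
        show p.hom (r0 (a + b)) = p.hom (r0 a + r0 b)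
        rw [hr0', map_add, map_add, hr0', hr0']) }
  refine ⟨CommRingCat.ofHom r, ?_⟩
  apply CommRingCat.hom_ext
  apply RingHom.ext
  intro a
  exact hr0' a

theorem c_congr {P R : PresheafedSpace.{_, _, w} CommRingCat.{u}} (α β : P ⟶ R) (e : α = β)
    (W : Opens R) (s : R.presheaf.obj (op W))
    (r : op ((Opens.map β.base).obj W) ⟶ op ((Opens.map α.base).obj W)) :
    α.c.app (op W) s = P.presheaf.map r (β.c.app (op W) s) := by
  subst e
  have hr : r = 𝟙 _ := Quiver.Hom.unop_inj (Subsingleton.elim _ _)
  rw [hr, CategoryTheory.Functor.map_id]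
  rfl

theorem hom_ext_elem {Q R : PresheafedSpace.{_, _, w} CommRingCat.{u}}
    (a b : PresheafedSpace.Hom Q R) (hb : a.base = b.base)
    (hc : ∀ (W : Opens R) (s : R.presheaf.obj (op W))
      (ρ : op ((Opens.map a.base).obj W) ⟶ op ((Opens.map b.base).obj W)),
      Q.presheaf.map ρ (a.c.app (op W) s) = b.c.app (op W) s) : a = b := by
  cases a with
  | mk ab ac =>
  cases b with
  | mk bb bc =>
  obtain rfl : ab = bb := hb
  have hcc : ac = bc := by
    apply NatTrans.ext
    funext O
    apply CommRingCat.hom_ext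
    apply RingHom.ext
    intro s
    have h1 := hc O.unop s (𝟙 _)
    rw [Q.presheaf.map_id] at h1
    exact h1
  rw [hcc]

theorem desc_unique {P Q R : PresheafedSpace.{_, _, w} CommRingCat.{u}} (π : P ⟶ Q)
    (hsurj : Function.Surjective π.base)
    (hinj : ∀ V : Opens Q, Function.Injective (π.c.app (op V)))
    (a b : Q ⟶ R) (e : π ≫ a = π ≫ b) : a = b := by
  have hb : a.base = b.base := by
    have e' : π.base ≫ a.base = π.base ≫ b.base :=
      congrArg (fun m => PresheafedSpace.Hom.base m) e
    haveI : Epi π.base := (TopCat.epi_iff_surjective _).mpr hsurj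
    exact (cancel_epi π.base).mp e'
  refine hom_ext_elem a b hb (fun W s ρ => ?_)
  apply hinj ((Opens.map b.base).obj W)
  have hle : (Opens.map (π ≫ a).base).obj W ≤ (Opens.map (π ≫ b).base).obj W := by rw [e]
  calc π.c.app (op ((Opens.map b.base).obj W)) (Q.presheaf.map ρ (a.c.app (op W) s))
      = P.presheaf.map ((Opens.map π.base).map ρ.unop).op
          (π.c.app (op ((Opens.map a.base).obj W)) (a.c.app (op W) s)) :=
        ConcreteCategory.congr_hom (π.c.naturality ρ) (a.c.app (op W) s)
    _ = P.presheaf.map ((Opens.map π.base).map ρ.unop).op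
          (P.presheaf.map (homOfLE hle).op
            (π.c.app (op ((Opens.map b.base).obj W)) (b.c.app (op W) s))) :=
        congrArg (fun z => P.presheaf.map ((Opens.map π.base).map ρ.unop).op z)
          (c_congr (π ≫ a) (π ≫ b) e W s (homOfLE hle).op)
    _ = P.presheaf.map (𝟙 (op ((Opens.map π.base).obj ((Opens.map b.base).obj W))))
          (π.c.app (op ((Opens.map b.base).obj W)) (b.c.app (op W) s)) :=
        mm P.presheaf _ _ _ _
    _ = π.c.app (op ((Opens.map b.base).obj W)) (b.c.app (op W) s) := by
        rw [P.presheaf.map_id]; rfl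

theorem exists_desc {P Q R : PresheafedSpace.{_, _, w} CommRingCat.{u}} (π : P ⟶ Q) (f : P ⟶ R)
    (hq : Topology.IsQuotientMap π.base)
    (hfib : ∀ x x' : P, π.base x = π.base x' → f.base x = f.base x')
    (hinj : ∀ V : Opens Q, Function.Injective (π.c.app (op V)))
    (hrange : ∀ (W : Opens R) (V : Opens Q)
      (r : op ((Opens.map f.base).obj W) ⟶ op ((Opens.map π.base).obj V))
      (s : R.presheaf.obj (op W)),
      P.presheaf.map r (f.c.app (op W) s) ∈ Set.range (π.c.app (op V))) :
    ∃ fbar : Q ⟶ R, π ≫ fbar = f := by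
  classical
  have hsurj : Function.Surjective π.base := hq.surjective
  let g0f : Q → R := fun y => f.base (Function.surjInv hsurj y)
  have hg0 : ∀ x : P, g0f (π.base x) = f.base x := fun x =>
    hfib _ _ (Function.surjInv_eq hsurj (π.base x))
  have hcont : Continuous g0f := by
    rw [hq.continuous_iff]
    have : g0f ∘ π.base = f.base := funext hg0
    rw [this]
    exact f.base.hom.continuous
  let g0 : (Q : TopCat) ⟶ (R : TopCat) := TopCat.ofHom ⟨g0f, hcont⟩
  have hbase : π.base ≫ g0 = f.base := by
    ext x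
    exact hg0 x
  have eW : ∀ W : Opens R,
      (Opens.map f.base).obj W = (Opens.map π.base).obj ((Opens.map g0).obj W) := fun W =>
    (congrArg (fun m => (Opens.map m).obj W) hbase).symm
  have hex : ∀ W : Opens R,
      ∃ r : R.presheaf.obj (op W) ⟶ Q.presheaf.obj (op ((Opens.map g0).obj W)),
      ∀ s, π.c.app (op ((Opens.map g0).obj W)) (r s) =
        P.presheaf.map (eqToHom (eW W).symm).op (f.c.app (op W) s) := by
    intro W
    obtain ⟨r, hr⟩ := lift_ring (π.c.app (op ((Opens.map g0).obj W)))
      (f.c.app (op W) ≫ P.presheaf.map (eqToHom (eW W).symm).op) (hinj _)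
      (fun s => hrange W _ _ s)
    exact ⟨r, fun s => ConcreteCategory.congr_hom hr s⟩
  choose cO hcO using hex
  let c : R.presheaf ⟶ (TopCat.Presheaf.pushforward _ g0).obj Q.presheaf :=
    { app := fun O => cO O.unop
      naturality := by
        intro O O' i
        apply CommRingCat.hom_ext
        apply RingHom.ext
        intro s
        apply hinj ((Opens.map g0).obj O'.unop)
        have hle : (Opens.map π.base).obj ((Opens.map g0).obj O'.unop) ≤
            (Opens.map f.base).obj O.unop :=
          (eW O'.unop).ge.trans ((Opens.map f.base).map i.unop).le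
        calc π.c.app (op ((Opens.map g0).obj O'.unop)) (cO O'.unop (R.presheaf.map i s))
            = P.presheaf.map (eqToHom (eW O'.unop).symm).op
                (f.c.app (op O'.unop) (R.presheaf.map i s)) := hcO _ _
          _ = P.presheaf.map (eqToHom (eW O'.unop).symm).op
                (P.presheaf.map ((Opens.map f.base).map i.unop).op (f.c.app (op O.unop) s)) :=
              congrArg (fun z => P.presheaf.map (eqToHom (eW O'.unop).symm).op z)
                (ConcreteCategory.congr_hom (f.c.naturality i) s)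
          _ = P.presheaf.map (homOfLE hle).op (f.c.app (op O.unop) s) := mm P.presheaf _ _ _ _
          _ = P.presheaf.map ((Opens.map π.base).map ((Opens.map g0).map i.unop)).op
                (P.presheaf.map (eqToHom (eW O.unop).symm).op (f.c.app (op O.unop) s)) :=
              (mm P.presheaf _ _ _ _).symm
          _ = P.presheaf.map ((Opens.map π.base).map ((Opens.map g0).map i.unop)).op
                (π.c.app (op ((Opens.map g0).obj O.unop)) (cO O.unop s)) :=
              congrArg (fun z => P.presheaf.map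
                ((Opens.map π.base).map ((Opens.map g0).map i.unop)).op z) (hcO _ _).symm
          _ = π.c.app (op ((Opens.map g0).obj O'.unop))
                (Q.presheaf.map ((Opens.map g0).map i.unop).op (cO O.unop s)) :=
              (ConcreteCategory.congr_hom
                (π.c.naturality ((Opens.map g0).map i.unop).op) (cO O.unop s)).symm }
  refine ⟨⟨g0, c⟩, hom_ext_elem _ _ hbase (fun W s ρ => ?_)⟩
  calc P.presheaf.map ρ (π.c.app (op ((Opens.map g0).obj W)) (cO W s))
      = P.presheaf.map ρ (P.presheaf.map (eqToHom (eW W).symm).op (f.c.app (op W) s)) :=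
        congrArg (fun z => P.presheaf.map ρ z) (hcO W s)
    _ = P.presheaf.map (𝟙 (op ((Opens.map f.base).obj W))) (f.c.app (op W) s) :=
        mm P.presheaf _ _ _ _
    _ = f.c.app (op W) s := by rw [P.presheaf.map_id]; rfl

theorem main (X Y : SheafedSpace CommRingCat.{u}) (Γ : Type v) [Group Γ]
    (τ : Γ →* Aut X) (π : X ⟶ Y) (hτ : ∀ g : Γ, (τ g).hom ≫ π = π)
    (h1 : IsQuotientMap π.hom.base)
    (h2 : ∀ x x' : X, π.hom.base x = π.hom.base x' ↔ ∃ g : Γ, (τ g).hom.hom.base x = x')
    (h3 : ∀ V : Opens Y, Function.Injective (π.hom.c.app (op V)) ∧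
      Set.range (π.hom.c.app (op V)) =
        {s | ∀ g : Γ, (τ g).hom.hom.c.app (op ((Opens.map π.hom.base).obj V)) s =
          X.presheaf.map (eqToHom (congrArg (fun f : X ⟶ Y => op ((Opens.map f.hom.base).obj V))
            (hτ g).symm)) s})
    (Z : SheafedSpace CommRingCat.{u}) (f : X ⟶ Z) (hf : ∀ g : Γ, (τ g).hom ≫ f = f) :
    ∃! fbar : Y ⟶ Z, π ≫ fbar = f := by
  have hfib : ∀ x x' : X, π.hom.base x = π.hom.base x' → f.hom.base x = f.hom.base x' := by
    intro x x' hx
    obtain ⟨g, rfl⟩ := (h2 x x').mp hx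
    have := congrArg (fun m => m.hom.base x) (hf g)
    exact this.symm
  have hinj : ∀ V : Opens Y, Function.Injective (π.hom.c.app (op V)) := fun V => (h3 V).1
  have hrange : ∀ (W : Opens Z) (V : Opens Y)
      (r : op ((Opens.map f.hom.base).obj W) ⟶ op ((Opens.map π.hom.base).obj V))
      (s : Z.presheaf.obj (op W)),
      X.presheaf.map r (f.hom.c.app (op W) s) ∈ Set.range (π.hom.c.app (op V)) := by
    intro W V r s
    refine (Set.ext_iff.mp (h3 V).2 _).mpr (fun g => ?_)
    have F2 : (τ g).hom.hom ≫ f.hom = f.hom := congrArg (fun m => m.hom) (hf g)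
    have hle : (Opens.map ((τ g).hom.hom ≫ f.hom).base).obj W ≤ (Opens.map f.hom.base).obj W := by
      rw [F2]
    have i1 : (τ g).hom.hom.c.app (op ((Opens.map f.hom.base).obj W)) (f.hom.c.app (op W) s) =
        X.presheaf.map (homOfLE hle).op (f.hom.c.app (op W) s) :=
      c_congr ((τ g).hom.hom ≫ f.hom) f.hom F2 W s (homOfLE hle).op
    have n1 : (τ g).hom.hom.c.app (op ((Opens.map π.hom.base).obj V))
          (X.presheaf.map r (f.hom.c.app (op W) s)) =
        X.presheaf.map ((Opens.map (τ g).hom.hom.base).map r.unop).op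
          ((τ g).hom.hom.c.app (op ((Opens.map f.hom.base).obj W)) (f.hom.c.app (op W) s)) :=
      ConcreteCategory.congr_hom ((τ g).hom.hom.c.naturality r) (f.hom.c.app (op W) s)
    refine Eq.trans (n1.trans ((congrArg (fun z => X.presheaf.map
      ((Opens.map (τ g).hom.hom.base).map r.unop).op z) i1).trans
      (mm X.presheaf _ _ ((homOfLE hle).op ≫ ((Opens.map (τ g).hom.hom.base).map r.unop).op) _)))
      (mm X.presheaf _ _ _ _).symm
  obtain ⟨fbarP, hfbarP⟩ := exists_desc π.hom f.hom h1 hfib hinj hrange
  refine ⟨InducedCategory.homMk fbarP, InducedCategory.hom_ext hfbarP, ?_⟩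
  intro fb hfb
  apply InducedCategory.hom_ext
  refine desc_unique π.hom h1.surjective hinj _ _ ?_
  have := congrArg (fun m => m.hom) hfb
  exact this.trans hfbarP.symm

end Groth.Agent.H9.RSQ
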