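import Mathlib

set_option autoImplicit false
set_option linter.unusedSectionVars false
set_option linter.unusedVariables false

universe u

namespace Groth.Agent.H9.RadoPack

open Finset

section rado
variable (K : Type*) {W : Type*} [Field K] [AddCommGroup W] [Module K W] [FiniteDimensional K W]

/-- rank of a finite set of vectors -/
noncomputable def rk (S : Finset W) : ℕ := Module.finrank K (Submodule.span K (S : Set W))

lemma rk_mono {S T : Finset W} (h : S ⊆ T) : rk K S ≤ rk K T :=
  Submodule.finrank_mono (Submodule.span_mono (Finset.coe_subset.mpr h))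

lemma rk_submod [DecidableEq W] (X Y : Finset W) :
    rk K (X ∪ Y) + rk K (X ∩ Y) ≤ rk K X + rk K Y := by
  unfold rk
  rw [Finset.coe_union, Submodule.span_union, Finset.coe_inter]
  have h := Submodule.finrank_sup_add_finrank_inf_eq (Submodule.span K (X : Set W))
    (Submodule.span K (Y : Set W))
  have h2 : Module.finrank K ↥(Submodule.span K ((X : Set W) ∩ (Y : Set W))) ≤
      Module.finrank K ↥(Submodule.span K (X : Set W) ⊓ Submodule.span K (Y : Set W)) :=
    Submodule.finrank_mono (le_inf (Submodule.span_mono Set.inter_subset_left)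
      (Submodule.span_mono Set.inter_subset_right))
  omega

lemma biUnion_update_of_notMem {E : Type*} [DecidableEq E] [DecidableEq W]
    (A : E → Finset W) (e₀ : E) (S : Finset W)
    (J : Finset E) (h : e₀ ∉ J) : J.biUnion (Function.update A e₀ S) = J.biUnion A := by
  apply Finset.biUnion_congr rfl
  intro e he
  rw [Function.update_of_ne]
  rintro rfl; exact h he

lemma rado_step {E : Type*} [DecidableEq E] [DecidableEq W] (A : E → Finset W)
    (hA : ∀ J : Finset E, J.card ≤ rk K (J.biUnion A))
    (e₀ : E) (a b : W) (ha : a ∈ A e₀) (hb : b ∈ A e₀) (hab : a ≠ b) :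
    (∀ J : Finset E, J.card ≤ rk K (J.biUnion (Function.update A e₀ ((A e₀).erase a)))) ∨
    (∀ J : Finset E, J.card ≤ rk K (J.biUnion (Function.update A e₀ ((A e₀).erase b)))) := by
  by_contra hcon
  push Not at hcon
  obtain ⟨⟨J, hJ⟩, ⟨J', hJ'⟩⟩ := hcon
  have he₀J : e₀ ∈ J := by
    by_contra h
    rw [biUnion_update_of_notMem A e₀ _ J h] at hJ
    exact absurd (hA J) (not_le.mpr hJ)
  have he₀J' : e₀ ∈ J' := by
    by_contra h
    rw [biUnion_update_of_notMem A e₀ _ J' h] at hJ'
    exact absurd (hA J') (not_le.mpr hJ')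
  obtain ⟨X, hX⟩ : ∃ X, X = J.biUnion (Function.update A e₀ ((A e₀).erase a)) := ⟨_, rfl⟩
  obtain ⟨Y, hY⟩ : ∃ Y, Y = J'.biUnion (Function.update A e₀ ((A e₀).erase b)) := ⟨_, rfl⟩
  rw [← hX] at hJ
  rw [← hY] at hJ'
  have h1 : (J ∪ J').biUnion A ⊆ X ∪ Y := by
    intro w hw
    rw [Finset.mem_biUnion] at hw
    obtain ⟨e, he, hwe⟩ := hw
    rw [Finset.mem_union]
    by_cases hee : e = e₀
    · subst hee
      by_cases hwa : w = a
      · right
        rw [hY, Finset.mem_biUnion]
        refine ⟨e, he₀J', ?_⟩
        rw [Function.update_self, Finset.mem_erase]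
        exact ⟨by rw [hwa]; exact hab, hwe⟩
      · left
        rw [hX, Finset.mem_biUnion]
        refine ⟨e, he₀J, ?_⟩
        rw [Function.update_self, Finset.mem_erase]
        exact ⟨hwa, hwe⟩
    · rcases Finset.mem_union.mp he with h | h
      · left
        rw [hX, Finset.mem_biUnion]
        exact ⟨e, h, by rw [Function.update_of_ne hee]; exact hwe⟩
      · right
        rw [hY, Finset.mem_biUnion]
        exact ⟨e, h, by rw [Function.update_of_ne hee]; exact hwe⟩
  have h2 : ((J ∩ J').erase e₀).biUnion A ⊆ X ∩ Y := by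
    intro w hw
    rw [Finset.mem_biUnion] at hw
    obtain ⟨e, he, hwe⟩ := hw
    rw [Finset.mem_erase, Finset.mem_inter] at he
    obtain ⟨hee, heJ, heJ'⟩ := he
    rw [Finset.mem_inter]
    constructor
    · rw [hX, Finset.mem_biUnion]
      exact ⟨e, heJ, by rw [Function.update_of_ne hee]; exact hwe⟩
    · rw [hY, Finset.mem_biUnion]
      exact ⟨e, heJ', by rw [Function.update_of_ne hee]; exact hwe⟩
  have c1 := hA (J ∪ J')
  have c2 := hA ((J ∩ J').erase e₀)
  have c3 := rk_mono K h1
  have c4 := rk_mono K h2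
  have c5 := rk_submod K X Y
  have c6 := Finset.card_union_add_card_inter J J'
  have c7 : ((J ∩ J').erase e₀).card = (J ∩ J').card - 1 :=
    Finset.card_erase_of_mem (Finset.mem_inter.mpr ⟨he₀J, he₀J'⟩)
  have c8 : 0 < (J ∩ J').card :=
    Finset.card_pos.mpr ⟨e₀, Finset.mem_inter.mpr ⟨he₀J, he₀J'⟩⟩
  omega

theorem rado {E : Type*} [Fintype E] [DecidableEq E] [DecidableEq W] :
    ∀ (n : ℕ) (A : E → Finset W), (∑ e, (A e).card = n) →
      (∀ J : Finset E, J.card ≤ rk K (J.biUnion A)) →
      ∃ f : E → W, (∀ e, f e ∈ A e) ∧ LinearIndependent K f := by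
  intro n
  induction n using Nat.strong_induction_on with
  | _ n ih =>
    intro A hn hA
    by_cases hbig : ∃ e₀, 1 < (A e₀).card
    · obtain ⟨e₀, he₀⟩ := hbig
      obtain ⟨a, ha, b, hb, hab⟩ := Finset.one_lt_card.mp he₀
      have hsum : ∀ c ∈ A e₀,
          ∑ e, ((Function.update A e₀ ((A e₀).erase c)) e).card + 1 = n := by
        intro c hc
        rw [← hn, ← Finset.add_sum_erase Finset.univ (fun e => (A e).card) (Finset.mem_univ e₀),
          ← Finset.add_sum_erase Finset.univ
            (fun e => ((Function.update A e₀ ((A e₀).erase c)) e).card) (Finset.mem_univ e₀)]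
        have h1 : ∑ e ∈ Finset.univ.erase e₀, ((Function.update A e₀ ((A e₀).erase c)) e).card
            = ∑ e ∈ Finset.univ.erase e₀, (A e).card := by
          apply Finset.sum_congr rfl
          intro e he
          rw [Function.update_of_ne (Finset.ne_of_mem_erase he)]
        rw [h1, Function.update_self, Finset.card_erase_of_mem hc]
        have := Finset.card_pos.mpr ⟨c, hc⟩
        omega
      have hfin : ∀ c ∈ A e₀,
          (∀ J : Finset E, J.card ≤ rk K (J.biUnion (Function.update A e₀ ((A e₀).erase c)))) →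
          ∃ f : E → W, (∀ e, f e ∈ A e) ∧ LinearIndependent K f := by
        intro c hc h
        have hs := hsum c hc
        obtain ⟨f, hf, hli⟩ := ih (n-1) (by omega) _ (by omega) h
        refine ⟨f, fun e => ?_, hli⟩
        have h3 := hf e
        by_cases hee : e = e₀
        · subst hee
          rw [Function.update_self] at h3
          exact Finset.mem_of_mem_erase h3
        · rwa [Function.update_of_ne hee] at h3
      rcases rado_step K A hA e₀ a b ha hb hab with h | h
      · exact hfin a ha h
      · exact hfin b hb h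
    · push Not at hbig
      have hne : ∀ e, (A e).Nonempty := by
        intro e
        have h1 := hA {e}
        rw [Finset.card_singleton, Finset.singleton_biUnion] at h1
        by_contra h0
        rw [Finset.not_nonempty_iff_eq_empty] at h0
        rw [h0] at h1
        simp [rk] at h1
      choose f hf using hne
      refine ⟨f, hf, ?_⟩
      rw [linearIndependent_iff_card_eq_finrank_span]
      have h1 := hA Finset.univ
      have h2 : rk K (Finset.univ.biUnion A) ≤ (Set.range f).finrank K := by
        show Module.finrank K (Submodule.span K _) ≤ Module.finrank K (Submodule.span K _)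
        apply Submodule.finrank_mono
        apply Submodule.span_mono
        intro w hw
        rw [Finset.mem_coe, Finset.mem_biUnion] at hw
        obtain ⟨e, -, hwe⟩ := hw
        have h3 := Finset.card_le_one.mp (hbig e) w hwe (f e) (hf e)
        exact ⟨e, h3.symm⟩
      have h3 := finrank_range_le_card (R := K) f
      rw [Finset.card_univ] at h1
      omega

end rado

section pack
variable {K : Type*} {V : Type*} [Field K] [AddCommGroup V] [Module K V] [FiniteDimensional K V]

theorem packing {ι : Type*} [Fintype ι] [DecidableEq ι] (x : ι → V) (w : ι → ℕ) (k : ℕ)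
    (hsum : ∑ j, w j = k * Module.finrank K V)
    (hcond : ∀ T : Finset ι,
      ∑ j ∈ T, w j ≤ k * Module.finrank K (Submodule.span K (x '' (T : Set ι)))) :
    ∃ S : Fin k → Finset ι,
      (∀ c, (S c).card = Module.finrank K V ∧ LinearIndependent K (fun j : S c => x j)) ∧
      ∀ j, (Finset.univ.filter (fun c => j ∈ S c)).card = w j := by
  classical
  obtain ⟨A, hAdef⟩ : ∃ A : (Σ j : ι, Fin (w j)) → Finset (Fin k → V), ∀ e, A e =
      Finset.univ.image (fun c : Fin k => LinearMap.single K (fun _ : Fin k => V) c (x e.1)) :=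
    ⟨_, fun _ => rfl⟩
  have hR : ∀ J : Finset (Σ j : ι, Fin (w j)), J.card ≤ rk K (J.biUnion A) := by
    intro J
    obtain ⟨T, hT⟩ : ∃ T : Finset ι, T = J.image Sigma.fst := ⟨_, rfl⟩
    obtain ⟨L, hL⟩ : ∃ L : Submodule K V, L = Submodule.span K (x '' (T : Set ι)) := ⟨_, rfl⟩
    have h1 : J.card ≤ ∑ j ∈ T, w j := by
      have hsub : J ⊆ T.sigma (fun j => (Finset.univ : Finset (Fin (w j)))) := by
        intro e he
        rw [Finset.mem_sigma, hT]
        exact ⟨Finset.mem_image_of_mem _ he, Finset.mem_univ _⟩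
      calc J.card ≤ (T.sigma (fun j => (Finset.univ : Finset (Fin (w j))))).card :=
            Finset.card_le_card hsub
        _ = ∑ j ∈ T, w j := by rw [Finset.card_sigma]; simp
    have h2 : k * Module.finrank K L ≤ rk K (J.biUnion A) := by
      have hΦinj : Function.Injective (L.subtype.compLeft (Fin k)) := by
        intro g g' hgg
        funext c
        have := congrFun hgg c
        exact Subtype.ext this
      have hrange : LinearMap.range (L.subtype.compLeft (Fin k)) ≤
          Submodule.span K ((J.biUnion A : Finset (Fin k → V)) : Set (Fin k → V)) := by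
        rintro _ ⟨g, rfl⟩
        have hg : L.subtype.compLeft (Fin k) g =
            ∑ c, LinearMap.single K (fun _ : Fin k => V) c ((g c : V)) :=
          (Finset.univ_sum_single (fun c => ((g c : L) : V))).symm
        rw [hg]
        refine Submodule.sum_mem _ fun c _ => ?_
        have hmem : ((g c : L) : V) ∈ L := (g c).2
        have hmap : Submodule.map (LinearMap.single K (fun _ : Fin k => V) c) L ≤
            Submodule.span K ((J.biUnion A : Finset (Fin k → V)) : Set (Fin k → V)) := by
          rw [hL, Submodule.map_span]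
          apply Submodule.span_mono
          rintro _ ⟨_, ⟨j, hj, rfl⟩, rfl⟩
          rw [Finset.mem_coe, hT, Finset.mem_image] at hj
          obtain ⟨e, he, rfl⟩ := hj
          rw [Finset.mem_coe, Finset.mem_biUnion]
          refine ⟨e, he, ?_⟩
          rw [hAdef]
          exact Finset.mem_image_of_mem _ (Finset.mem_univ c)
        exact hmap (Submodule.mem_map_of_mem hmem)
      calc k * Module.finrank K L = Module.finrank K (Fin k → L) := by
            rw [Module.finrank_pi_fintype]; simp
        _ = Module.finrank K (LinearMap.range (L.subtype.compLeft (Fin k))) :=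
            (LinearMap.finrank_range_of_inj hΦinj).symm
        _ ≤ rk K (J.biUnion A) := Submodule.finrank_mono hrange
    have h3 := hcond T
    rw [← hL] at h3
    exact h1.trans (h3.trans h2)
  obtain ⟨f, hf, hli⟩ := rado K _ A rfl hR
  have hcol : ∀ e : (Σ j : ι, Fin (w j)), ∃ c : Fin k,
      f e = LinearMap.single K (fun _ : Fin k => V) c (x e.1) := by
    intro e
    have h4 := hf e
    rw [hAdef, Finset.mem_image] at h4
    obtain ⟨c, -, hc⟩ := h4
    exact ⟨c, hc.symm⟩
  choose col hcolf using hcol
  have hcls : ∀ c : Fin k,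
      LinearIndependent K (fun e : {e : (Σ j : ι, Fin (w j)) // col e = c} => x e.1.1) := by
    intro c
    have h1 : LinearIndependent K (fun e : {e : (Σ j : ι, Fin (w j)) // col e = c} => f e.1) :=
      hli.comp Subtype.val Subtype.val_injective
    have h2 : (fun e : {e : (Σ j : ι, Fin (w j)) // col e = c} => f e.1) =
        (LinearMap.single K (fun _ : Fin k => V) c) ∘
          (fun e : {e : (Σ j : ι, Fin (w j)) // col e = c} => x e.1.1) := by
      funext e
      rw [hcolf e.1, e.2]
      rfl
    rw [h2] at h1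
    exact LinearIndependent.of_comp (LinearMap.single K (fun _ : Fin k => V) c) h1
  have hinj : ∀ c (e e' : (Σ j : ι, Fin (w j))), col e = c → col e' = c → e.1 = e'.1 → e = e' := by
    intro c e e' he he' h
    have h4 : (⟨e, he⟩ : {e : (Σ j : ι, Fin (w j)) // col e = c}) = ⟨e', he'⟩ :=
      (hcls c).injective (show x e.1 = x e'.1 by rw [h])
    exact congrArg Subtype.val h4
  obtain ⟨Ec, hEc⟩ : ∃ Ec : Fin k → Finset (Σ j : ι, Fin (w j)),
      ∀ c, Ec c = Finset.univ.filter (fun e => col e = c) := ⟨_, fun _ => rfl⟩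
  obtain ⟨S, hS⟩ : ∃ S : Fin k → Finset ι, ∀ c, S c = (Ec c).image Sigma.fst :=
    ⟨_, fun _ => rfl⟩
  have hScard : ∀ c, (S c).card = (Ec c).card := by
    intro c
    rw [hS]
    apply Finset.card_image_of_injOn
    intro e he e' he' h
    rw [Finset.mem_coe, hEc, Finset.mem_filter] at he he'
    exact hinj c e e' he.2 he'.2 h
  have hSli : ∀ c, LinearIndependent K (fun j : S c => x j) := by
    intro c
    have hex : ∀ j : S c, ∃ e : {e : (Σ j : ι, Fin (w j)) // col e = c}, e.1.1 = j.1 := by
      intro j
      have hj : (j : ι) ∈ (Ec c).image Sigma.fst := by rw [← hS]; exact j.2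
      rw [Finset.mem_image] at hj
      obtain ⟨e, he, hej⟩ := hj
      rw [hEc, Finset.mem_filter] at he
      exact ⟨⟨e, he.2⟩, hej⟩
    choose σ hσ using hex
    have hσinj : Function.Injective σ := by
      intro j j' h
      apply Subtype.ext
      rw [← hσ j, ← hσ j', h]
    have h6 := (hcls c).comp σ hσinj
    have h5 : ((fun e : {e : (Σ j : ι, Fin (w j)) // col e = c} => x e.1.1) ∘ σ) =
        (fun j : S c => x j) := by
      funext j
      simp only [Function.comp_apply, hσ]
    rwa [h5] at h6
  have hle : ∀ c, (Ec c).card ≤ Module.finrank K V := by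
    intro c
    rw [← hScard c]
    have h7 := (hSli c).fintype_card_le_finrank
    rwa [Fintype.card_coe] at h7
  have htot : ∑ c, (Ec c).card = k * Module.finrank K V := by
    rw [← hsum]
    have h6 : ∑ c, (Ec c).card = Fintype.card (Σ j : ι, Fin (w j)) := by
      rw [← Finset.card_univ]
      rw [Finset.card_eq_sum_card_fiberwise (f := col) (s := Finset.univ) (t := Finset.univ)
        (fun e _ => Finset.mem_univ _)]
      apply Finset.sum_congr rfl
      intro c _
      rw [hEc]
    rw [h6, Fintype.card_sigma]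
    simp
  have heq : ∀ c, (Ec c).card = Module.finrank K V := by
    by_contra hne
    push Not at hne
    obtain ⟨c₀, hc₀⟩ := hne
    have hlt : ∑ c, (Ec c).card < ∑ c : Fin k, Module.finrank K V :=
      Finset.sum_lt_sum (fun c _ => hle c) ⟨c₀, Finset.mem_univ _, lt_of_le_of_ne (hle c₀) hc₀⟩
    rw [htot] at hlt
    simp at hlt
  refine ⟨S, fun c => ⟨by rw [hScard c, heq c], hSli c⟩, ?_⟩
  intro j
  have himg : Finset.univ.filter (fun c => j ∈ S c) =
      Finset.univ.image (fun t : Fin (w j) => col ⟨j, t⟩) := by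
    ext c
    simp only [Finset.mem_filter, Finset.mem_univ, true_and, Finset.mem_image]
    constructor
    · intro hj
      rw [hS, Finset.mem_image] at hj
      obtain ⟨e, he, hej⟩ := hj
      rw [hEc, Finset.mem_filter] at he
      obtain ⟨j', t⟩ := e
      simp only at hej
      subst hej
      exact ⟨t, he.2⟩
    · rintro ⟨t, ht⟩
      rw [hS, Finset.mem_image]
      refine ⟨⟨j, t⟩, ?_, rfl⟩
      rw [hEc, Finset.mem_filter]
      exact ⟨Finset.mem_univ _, ht⟩
  rw [himg, Finset.card_image_of_injective, Finset.card_univ, Fintype.card_fin]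
  intro t t' htt
  have h8 := hinj (col ⟨j, t⟩) ⟨j, t⟩ ⟨j, t'⟩ rfl htt.symm rfl
  cases h8
  rfl

lemma card_le_of_li_mem {ι : Type*} [DecidableEq ι] (x : ι → V) (L : Submodule K V)
    (S : Finset ι) (hli : LinearIndependent K (fun j : S => x j)) (T : Finset ι)
    (hT : ∀ j ∈ T, x j ∈ L) :
    (S ∩ T).card ≤ Module.finrank K L := by
  have hmem : ∀ j : ↥(S ∩ T), x j ∈ L := fun j => hT j (Finset.mem_inter.mp j.2).2
  let incl : ↥(S ∩ T) → S := fun j => ⟨j.1, (Finset.mem_inter.mp j.2).1⟩
  have hincl : Function.Injective incl := by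
    intro j j' h
    apply Subtype.ext
    exact congrArg (fun z : S => (z : ι)) h
  have h1 : LinearIndependent K (fun j : ↥(S ∩ T) => x j) := hli.comp incl hincl
  have h2 : LinearIndependent K (fun j : ↥(S ∩ T) => (⟨x j, hmem j⟩ : L)) := by
    apply LinearIndependent.of_comp L.subtype
    exact h1
  have h3 := h2.fintype_card_le_finrank
  rwa [Fintype.card_coe] at h3

lemma double_count {ι : Type*} [DecidableEq ι] (P : Multiset (Finset ι)) (T : Finset ι) :
    ∑ j ∈ T, Multiset.card (P.filter (fun S => j ∈ S)) =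
      (P.map (fun S => (S ∩ T).card)).sum := by
  induction P using Multiset.induction_on with
  | empty => simp
  | cons S P ih =>
    rw [Multiset.map_cons, Multiset.sum_cons, ← ih]
    have h1 : ∀ j, Multiset.card ((S ::ₘ P).filter (fun S => j ∈ S)) =
        (if j ∈ S then 1 else 0) + Multiset.card (P.filter (fun S => j ∈ S)) := by
      intro j
      by_cases hj : j ∈ S
      · rw [Multiset.filter_cons_of_pos (p := fun S => j ∈ S) P hj, Multiset.card_cons,
          if_pos hj, add_comm]
      · rw [Multiset.filter_cons_of_neg (p := fun S => j ∈ S) P hj, if_neg hj, zero_add]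
    simp_rw [h1]
    rw [Finset.sum_add_distrib]
    congr 1
    rw [Finset.sum_boole, Finset.filter_mem_eq_inter, Finset.inter_comm]
    simp

end pack

theorem main (K : Type u) [Field K]
    (V : Type u) [AddCommGroup V] [Module K V] [FiniteDimensional K V]
    (m : ℕ) (x : Fin (m + 1) → V) (hx : ∀ i, x i ≠ 0) :
    (∀ L : Submodule K V, L ≠ ⊥ → L ≠ ⊤ →
        Set.ncard {i : Fin (m + 1) | x i ∈ L} * Module.finrank K V < Module.finrank K L * (m + 1)) ↔
      ∃ N N₀ : ℕ, 0 < N₀ ∧ N₀ ≤ N ∧
        ∀ i : Fin (m + 1), ∃ P : Multiset (Finset (Fin (m + 1))), P ≠ 0 ∧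
          (∀ S ∈ P, S.card = Module.finrank K V ∧ LinearIndependent K (fun j : S => x j)) ∧
          ∀ j : Fin (m + 1),
            Multiset.card (P.filter (fun S => j ∈ S)) = if j = i then N - N₀ else N := by
  constructor
  · intro hst
    obtain ⟨n, hn⟩ : ∃ n, n = Module.finrank K V := ⟨_, rfl⟩
    have hnpos : 0 < n := by
      rw [hn]; exact Module.finrank_pos_iff_exists_ne_zero.mpr ⟨x 0, hx 0⟩
    rw [← hn]
    refine ⟨n * (n+1), n, hnpos, by nlinarith, fun i => ?_⟩
    obtain ⟨w, hw⟩ : ∃ w : Fin (m+1) → ℕ, ∀ j, w j = if j = i then n * n else n * (n+1) :=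
      ⟨_, fun _ => rfl⟩
    have hsumw : ∑ j, w j = (m * n + m + n) * Module.finrank K V := by
      rw [← hn, ← Finset.add_sum_erase Finset.univ w (Finset.mem_univ i)]
      have h1 : ∑ j ∈ Finset.univ.erase i, w j = ∑ j ∈ Finset.univ.erase i, n * (n+1) :=
        Finset.sum_congr rfl (fun j hj => by rw [hw j, if_neg (Finset.ne_of_mem_erase hj)])
      rw [h1, Finset.sum_const, Finset.card_erase_of_mem (Finset.mem_univ i), Finset.card_univ,
        Fintype.card_fin, hw i, if_pos rfl, smul_eq_mul, Nat.add_sub_cancel]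
      ring
    have hwle : ∀ j, w j ≤ n * (n+1) := by
      intro j; rw [hw j]; split_ifs <;> nlinarith
    have hcond : ∀ T : Finset (Fin (m+1)), ∑ j ∈ T, w j ≤
        (m * n + m + n) * Module.finrank K (Submodule.span K (x '' (T : Set (Fin (m+1))))) := by
      intro T
      rcases T.eq_empty_or_nonempty with rfl | ⟨j₀, hj₀⟩
      · simp
      obtain ⟨L, hL⟩ : ∃ L : Submodule K V, L = Submodule.span K (x '' (T : Set (Fin (m+1)))) :=
        ⟨_, rfl⟩
      rw [← hL]
      have hxL : ∀ j ∈ T, x j ∈ L := fun j hj => by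
        rw [hL]; exact Submodule.subset_span ⟨j, hj, rfl⟩
      have hLbot : L ≠ ⊥ := by
        intro h
        have h9 := hxL j₀ hj₀
        rw [h, Submodule.mem_bot] at h9
        exact hx j₀ h9
      by_cases hLtop : L = ⊤
      · rw [hLtop, finrank_top, ← hsumw]
        exact Finset.sum_le_univ_sum_of_nonneg (fun _ => Nat.zero_le _)
      · have h1 := hst L hLbot hLtop
        have h2 : T.card ≤ Set.ncard {i : Fin (m+1) | x i ∈ L} := by
          rw [← Set.ncard_coe_finset T]
          exact Set.ncard_le_ncard (fun j hj => hxL j hj) (Set.toFinite _)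
        have h3 : ∑ j ∈ T, w j ≤ T.card * (n * (n+1)) := by
          rw [← smul_eq_mul]
          exact Finset.sum_le_card_nsmul T w _ (fun j _ => hwle j)
        have h4 : Module.finrank K L ≤ n := by rw [hn]; exact Submodule.finrank_le L
        rw [← hn] at h1
        obtain ⟨a, ha⟩ : ∃ a, a = Set.ncard {i : Fin (m+1) | x i ∈ L} := ⟨_, rfl⟩
        obtain ⟨ℓ, hℓ⟩ : ∃ ℓ, ℓ = Module.finrank K L := ⟨_, rfl⟩
        rw [← ha] at h1 h2
        rw [← hℓ] at h1 h4 ⊢
        have h5 : T.card * n + 1 ≤ ℓ * (m+1) := by
          have h10 := Nat.mul_le_mul_right n h2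
          omega
        have h6 : (T.card * n + 1) * (n+1) ≤ ℓ * (m+1) * (n+1) := Nat.mul_le_mul_right _ h5
        calc ∑ j ∈ T, w j ≤ T.card * (n * (n+1)) := h3
          _ ≤ (m*n+m+n) * ℓ := by nlinarith
    obtain ⟨S, hS, hcnt⟩ := packing x w (m * n + m + n) hsumw hcond
    refine ⟨Finset.univ.val.map S, ?_, ?_, ?_⟩
    · intro h0
      have h11 := congrArg Multiset.card h0
      rw [Multiset.card_map] at h11
      simp at h11
      omega
    · intro S' hS'
      rw [Multiset.mem_map] at hS'
      obtain ⟨c, -, rfl⟩ := hS'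
      rw [hn]
      exact hS c
    · intro j
      rw [Multiset.filter_map, Multiset.card_map]
      have h12 : n * (n+1) - n = n * n := by rw [Nat.mul_succ, Nat.add_sub_cancel]
      rw [h12, ← hw j]
      exact hcnt j
  · rintro ⟨N, N₀, hN₀, hNN, hP⟩ L hLbot hLtop
    classical
    have hℓpos : 0 < Module.finrank K L :=
      Nat.pos_of_ne_zero (fun h => hLbot (Submodule.finrank_eq_zero.mp h))
    have hℓlt : Module.finrank K L < Module.finrank K V := Submodule.finrank_lt hLtop
    obtain ⟨T, hT⟩ : ∃ T : Finset (Fin (m+1)), ∀ j, j ∈ T ↔ x j ∈ L :=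
      ⟨Finset.univ.filter (fun j => x j ∈ L), fun j => by simp⟩
    have hncard : Set.ncard {i : Fin (m+1) | x i ∈ L} = T.card := by
      rw [← Set.ncard_coe_finset T]
      congr 1
      ext j
      simp [hT]
    rw [hncard]
    have hex : ∃ i, x i ∉ L := by
      by_contra hall
      push Not at hall
      obtain ⟨P, hP0, hPS, -⟩ := hP 0
      obtain ⟨S, hS⟩ := Multiset.exists_mem_of_ne_zero hP0
      have h1 := card_le_of_li_mem x L S (hPS S hS).2 Finset.univ (fun j _ => hall j)
      rw [Finset.inter_univ, (hPS S hS).1] at h1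
      omega
    obtain ⟨i, hi⟩ := hex
    obtain ⟨P, hP0, hPS, hPc⟩ := hP i
    have d1 := double_count P Finset.univ
    have d2 := double_count P T
    have hA1 : (P.map (fun S => (S ∩ Finset.univ).card)).sum =
        Multiset.card P * Module.finrank K V := by
      have h13 : P.map (fun S => (S ∩ Finset.univ).card) =
          P.map (fun _ => Module.finrank K V) :=
        Multiset.map_congr rfl (fun S hS => by rw [Finset.inter_univ]; exact (hPS S hS).1)
      rw [h13, Multiset.map_const', Multiset.sum_replicate, smul_eq_mul]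
    have hA2 : (P.map (fun S => (S ∩ T).card)).sum ≤ Multiset.card P * Module.finrank K L := by
      have h14 := Multiset.sum_le_card_nsmul (P.map (fun S => (S ∩ T).card))
        (Module.finrank K L) (by
          intro y hy
          rw [Multiset.mem_map] at hy
          obtain ⟨S, hS, rfl⟩ := hy
          exact card_le_of_li_mem x L S (hPS S hS).2 T (fun j hj => (hT j).mp hj))
      rwa [Multiset.card_map, smul_eq_mul] at h14
    have e1 : ∑ j : Fin (m+1), Multiset.card (P.filter (fun S => j ∈ S)) = (N - N₀) + m * N := by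
      rw [← Finset.add_sum_erase Finset.univ _ (Finset.mem_univ i)]
      have h15 : ∑ j ∈ Finset.univ.erase i, Multiset.card (P.filter (fun S => j ∈ S)) =
          ∑ j ∈ Finset.univ.erase i, N :=
        Finset.sum_congr rfl (fun j hj => by rw [hPc j, if_neg (Finset.ne_of_mem_erase hj)])
      rw [h15, hPc i, if_pos rfl, Finset.sum_const, Finset.card_erase_of_mem (Finset.mem_univ i),
        Finset.card_univ, Fintype.card_fin, smul_eq_mul, Nat.add_sub_cancel]
    have e2 : ∑ j ∈ T, Multiset.card (P.filter (fun S => j ∈ S)) = T.card * N := by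
      have h16 : ∑ j ∈ T, Multiset.card (P.filter (fun S => j ∈ S)) = ∑ j ∈ T, N :=
        Finset.sum_congr rfl (fun j hj => by
          rw [hPc j, if_neg]
          rintro rfl
          exact hi ((hT j).mp hj))
      rw [h16, Finset.sum_const, smul_eq_mul]
    rw [e1, hA1] at d1
    rw [e2] at d2
    have d3 := d2.le.trans hA2
    obtain ⟨D, hD⟩ : ∃ D, D = N - N₀ := ⟨_, rfl⟩
    have hDN : D + N₀ = N := by omega
    rw [← hD] at d1
    obtain ⟨n, hn⟩ : ∃ n, n = Module.finrank K V := ⟨_, rfl⟩
    obtain ⟨ℓ, hℓ⟩ : ∃ ℓ, ℓ = Module.finrank K L := ⟨_, rfl⟩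
    obtain ⟨kk, hkk⟩ : ∃ kk, kk = Multiset.card P := ⟨_, rfl⟩
    rw [← hn, ← hkk] at d1
    rw [← hℓ, ← hkk] at d3
    rw [← hℓ] at hℓpos
    rw [← hn, ← hℓ]
    by_contra hcon
    push Not at hcon
    subst hDN
    have g1 := Nat.mul_le_mul_right (D + N₀) hcon
    have g2 := Nat.mul_le_mul_left n d3
    have g3 : ℓ * (kk * n) = ℓ * (D + m * (D + N₀)) := by rw [d1]
    have g4 : 0 < ℓ * N₀ := Nat.mul_pos hℓpos hN₀
    nlinarith

end Groth.Agent.H9.RadoPack
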