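import Mathlib

/-! Helper9: ramification of the linear series V(-p) of exact differentials on P^1 (S17245). -/

namespace Groth.Agent.H9.RamP

open Polynomial

universe u

section
variable {k : Type u} [Field k] {m : ℕ} (r : Fin m → k) (a : Fin m → ℕ)

noncomputable def AA : k[X] := ∏ j, (X - C (r j)) ^ (a j)
noncomputable def BB : k[X] := ∏ j, (X - C (r j))
noncomputable def DD : k[X] := ∏ j, (X - C (r j)) ^ (a j + 1)
noncomputable def Di (i : Fin m) : k[X] := ∏ j ∈ Finset.univ.erase i, (X - C (r j)) ^ (a j + 1)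
noncomputable def Ei (i : Fin m) : k[X] := ∏ j ∈ Finset.univ.erase i, (X - C (r j)) ^ (a j)
noncomputable def Bi (i : Fin m) : k[X] := ∏ j ∈ Finset.univ.erase i, (X - C (r j))

lemma DD_eq : DD r a = AA r a * BB r := by
  simp only [DD, AA, BB, pow_succ, Finset.prod_mul_distrib]

lemma AA_eq (i : Fin m) : AA r a = Ei r a i * (X - C (r i)) ^ a i := by
  rw [AA, Ei, mul_comm]
  exact (Finset.mul_prod_erase _ (fun j => (X - C (r j)) ^ a j) (Finset.mem_univ i)).symm

lemma BB_eq (i : Fin m) : BB r = Bi r i * (X - C (r i)) := by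
  rw [BB, Bi, mul_comm]
  exact (Finset.mul_prod_erase _ (fun j => X - C (r j)) (Finset.mem_univ i)).symm

lemma Di_eq (i : Fin m) : Di r a i = Ei r a i * Bi r i := by
  simp only [Di, Ei, Bi, pow_succ, Finset.prod_mul_distrib]

noncomputable def Wr (A P : k[X]) : k[X] := derivative P * A - P * derivative A

lemma Wr_add (A P Q : k[X]) : Wr A (P + Q) = Wr A P + Wr A Q := by
  simp only [Wr, derivative_add]; ring

lemma Wr_smul (A P : k[X]) (c : k) : Wr A (c • P) = c • Wr A P := by
  simp only [Wr, derivative_smul, smul_mul_assoc, smul_sub]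

lemma Wr_C_mul (A P : k[X]) (c : k) : Wr A (C c * P) = C c * Wr A P := by
  simp only [Wr, derivative_mul, derivative_C]; ring

lemma Wr_zero (A : k[X]) : Wr A 0 = 0 := by simp [Wr]

lemma Wr_self (A : k[X]) : Wr A A = 0 := by simp only [Wr]; ring

lemma Wr_sub (A P Q : k[X]) : Wr A (P - Q) = Wr A P - Wr A Q := by
  simp only [Wr, derivative_sub]; ring

lemma Wr_mul (A U : k[X]) : Wr A (A * U) = A ^ 2 * derivative U := by
  simp only [Wr, derivative_mul]; ring

lemma natDegree_AA_le : (AA r a).natDegree ≤ ∑ j, a j := by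
  unfold AA
  refine (natDegree_prod_le _ _).trans ?_
  apply Finset.sum_le_sum
  intro j _
  refine (natDegree_pow_le).trans ?_
  rw [natDegree_X_sub_C, mul_one]

lemma natDegree_Ei_le (i : Fin m) : (Ei r a i).natDegree + a i ≤ ∑ j, a j := by
  unfold Ei
  have h1 : (∏ j ∈ Finset.univ.erase i, (X - C (r j)) ^ a j).natDegree ≤
      ∑ j ∈ Finset.univ.erase i, a j := by
    refine (natDegree_prod_le _ _).trans ?_
    apply Finset.sum_le_sum
    intro j _
    refine (natDegree_pow_le).trans ?_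
    rw [natDegree_X_sub_C, mul_one]
  have h2 := Finset.add_sum_erase Finset.univ a (Finset.mem_univ i)
  omega

lemma AA_ne_zero : AA r a ≠ 0 := by
  unfold AA
  rw [Finset.prod_ne_zero_iff]
  intro j _
  exact pow_ne_zero _ (X_sub_C_ne_zero _)

lemma eval_AA_ne_zero {q : k} (hq : ∀ j, q ≠ r j) : (AA r a).eval q ≠ 0 := by
  unfold AA
  rw [eval_prod, Finset.prod_ne_zero_iff]
  intro j _
  simp only [eval_pow, eval_sub, eval_X, eval_C]
  exact pow_ne_zero _ (sub_ne_zero.2 (hq j))

lemma eval_BB_ne_zero {q : k} (hq : ∀ j, q ≠ r j) : (BB r).eval q ≠ 0 := by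
  unfold BB
  rw [eval_prod, Finset.prod_ne_zero_iff]
  intro j _
  simp only [eval_sub, eval_X, eval_C]
  exact sub_ne_zero.2 (hq j)

lemma coprime_of_eval_ne_zero {q : k} {A : k[X]} (h : A.eval q ≠ 0) (n : ℕ) :
    IsCoprime ((X - C q) ^ n) A := by
  apply IsCoprime.pow_left
  rw [(irreducible_X_sub_C q).coprime_iff_not_dvd, dvd_iff_isRoot]
  exact h

/-- The submodule of polynomials admitting a "primitive" of degree ≤ N. -/
noncomputable def RR (N : ℕ) : Submodule k k[X] where
  carrier := {h | ∃ P ∈ degreeLT k (N + 1), h * AA r a = BB r * Wr (AA r a) P}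
  zero_mem' := ⟨0, Submodule.zero_mem _, by simp [Wr_zero]⟩
  add_mem' := by
    rintro h1 h2 ⟨P1, hP1, e1⟩ ⟨P2, hP2, e2⟩
    refine ⟨P1 + P2, Submodule.add_mem _ hP1 hP2, ?_⟩
    rw [Wr_add, add_mul, e1, e2, mul_add]
  smul_mem' := by
    rintro c h ⟨P, hP, e⟩
    refine ⟨c • P, Submodule.smul_mem _ c hP, ?_⟩
    rw [Wr_smul, smul_mul_assoc, e, mul_smul_comm]

lemma mem_RR {N : ℕ} {h : k[X]} :
    h ∈ RR r a N ↔ ∃ P ∈ degreeLT k (N + 1), h * AA r a = BB r * Wr (AA r a) P := Iff.rfl


end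

section gens
set_option linter.unusedSectionVars false
set_option linter.unusedSimpArgs false
variable {k : Type u} [Field k] [CharZero k] {m : ℕ} (r : Fin m → k) (a : Fin m → ℕ)

lemma mem_degLT_of_natDegree_le {P : k[X]} {N : ℕ} (h : P.natDegree ≤ N) :
    P ∈ degreeLT k (N + 1) := by
  rw [mem_degreeLT]
  exact lt_of_le_of_lt degree_le_natDegree (by exact_mod_cast Nat.lt_succ_of_le h)

lemma gen1 {N b l : ℕ} (hN : (∑ j, a j) + b ≤ N) (hl : l < b) :
    DD r a * X ^ l ∈ RR r a N := by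
  have hc : ((l : k) + 1) ≠ 0 := by exact_mod_cast Nat.succ_ne_zero l
  refine ⟨AA r a * (C (1 / ((l : k) + 1)) * X ^ (l + 1)), ?_, ?_⟩
  · apply mem_degLT_of_natDegree_le
    refine natDegree_mul_le.trans ?_
    have h1 := natDegree_AA_le r a
    have h2 : (C (1 / ((l : k) + 1)) * X ^ (l + 1) : k[X]).natDegree ≤ l + 1 :=
      (natDegree_C_mul_le _ _).trans (by rw [natDegree_X_pow])
    omega
  · rw [Wr_mul, DD_eq]
    have hd : derivative (C (1 / ((l : k) + 1)) * X ^ (l + 1) : k[X]) = X ^ l := by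
      rw [derivative_C_mul, derivative_X_pow, ← mul_assoc, ← C_mul]
      have : (1 / ((l : k) + 1)) * ((l + 1 : ℕ) : k) = 1 := by
        push_cast
        field_simp
      rw [this]
      simp
    rw [hd]
    ring

lemma wr_key (E B' T : k[X]) (hT' : derivative T = 1) (a' l : ℕ) (c : k)
    (hc : c * ((l : k) - ((a' : k) + 1)) = 1) :
    (E * B' * T ^ l) * (E * T ^ (a' + 1)) =
      (B' * T) * (C c * Wr (E * T ^ (a' + 1)) (E * T ^ l)) := by
  have hcc : (C c : k[X]) * (C (l : k) - (C (a' : k) + 1)) = 1 := by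
    rw [← C_1, ← C_add, ← C_sub, ← C_mul, hc]
  rcases l with _ | l'
  · simp only [Wr, derivative_mul, derivative_pow, hT', pow_zero, mul_one, derivative_one,
      mul_zero, add_zero, Nat.cast_add, Nat.cast_one, Nat.add_sub_cancel]
    simp only [Nat.cast_zero, C_0, zero_sub] at hcc
    simp only [C_add, C_1]
    linear_combination (- E ^ 2 * B' * T ^ (a' + 1)) * hcc
  · simp only [Wr, derivative_mul, derivative_pow, hT', mul_one, Nat.cast_add, Nat.cast_one,
      Nat.add_sub_cancel]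
    simp only [Nat.cast_add, Nat.cast_one, C_add, C_1] at hcc
    simp only [C_add, C_1]
    linear_combination (- E ^ 2 * B' * T ^ (a' + 1 + l' + 1)) * hcc

lemma gen2 {N l : ℕ} (i : Fin m) (hN : (∑ j, a j) ≤ N) (hl : l < a i) :
    Di r a i * (X - C (r i)) ^ l ∈ RR r a N := by
  obtain ⟨a', ha'⟩ : ∃ a', a i = a' + 1 := ⟨a i - 1, by omega⟩
  have hc : ((l : k) - ((a' : k) + 1)) ≠ 0 := by
    rw [sub_ne_zero]
    have : l ≠ a' + 1 := by omega
    exact_mod_cast this
  refine ⟨C (1 / ((l : k) - ((a' : k) + 1))) * (Ei r a i * (X - C (r i)) ^ l), ?_, ?_⟩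
  · apply mem_degLT_of_natDegree_le
    refine (natDegree_C_mul_le _ _).trans ?_
    refine natDegree_mul_le.trans ?_
    have h1 := natDegree_Ei_le r a i
    have h2 : ((X - C (r i)) ^ l : k[X]).natDegree ≤ l :=
      natDegree_pow_le.trans (by rw [natDegree_X_sub_C, mul_one])
    omega
  · rw [Wr_C_mul, Di_eq, AA_eq r a i, BB_eq r i, ha']
    refine wr_key (Ei r a i) (Bi r i) (X - C (r i)) ?_ a' l _ ?_
    · rw [derivative_sub, derivative_X, derivative_C, sub_zero]
    · rw [one_div, inv_mul_cancel₀ hc]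

noncomputable def VV (b : ℕ) : Submodule k k[X] :=
  (degreeLT k b).map (LinearMap.mulLeft k (DD r a)) ⊔
    ⨆ i, (degreeLT k (a i)).map (LinearMap.mulLeft k (Di r a i))

lemma VV_le_RR {N b : ℕ} (hN : (∑ j, a j) + b ≤ N) : VV r a b ≤ RR r a N := by
  classical
  apply sup_le
  · rw [Submodule.map_le_iff_le_comap, degreeLT_eq_span_X_pow, Submodule.span_le]
    intro x hx
    simp only [Finset.coe_image, Finset.coe_range, Set.mem_image, Set.mem_Iio] at hx
    obtain ⟨l, hl, rfl⟩ := hx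
    exact gen1 r a hN hl
  · apply iSup_le
    intro i
    rw [Submodule.map_le_iff_le_comap]
    intro u hu
    show Di r a i * u ∈ RR r a N
    have hsum := sum_taylor_eq u (r i)
    rw [← hsum, Polynomial.sum_def, Finset.mul_sum]
    apply Submodule.sum_mem
    intro l hl
    have hl' : l < a i := by
      have hne : taylor (r i) u ≠ 0 := by
        rintro h
        rw [h] at hl
        simp at hl
      have hu0 : u ≠ 0 := by
        rintro rfl
        exact hne (by simp)
      have h1 : l ≤ (taylor (r i) u).natDegree := le_natDegree_of_mem_supp _ hl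
      rw [natDegree_taylor] at h1
      have h2 : u.natDegree < a i := by
        rw [mem_degreeLT] at hu
        exact (natDegree_lt_iff_degree_lt hu0).2 hu
      omega
    have : Di r a i * (C ((taylor (r i) u).coeff l) * (X - C (r i)) ^ l) =
        (taylor (r i) u).coeff l • (Di r a i * (X - C (r i)) ^ l) := by
      rw [smul_eq_C_mul]
      ring
    rw [this]
    exact Submodule.smul_mem _ _ (gen2 r a i (by omega) hl')

lemma h_zero_of_rel {h : k[X]} (hrel : h * AA r a = BB r * Wr (AA r a) 0) : h = 0 := by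
  rw [Wr_zero, mul_zero] at hrel
  exact (mul_eq_zero.1 hrel).resolve_right (AA_ne_zero r a)

lemma key {N : ℕ} (hN : (∑ j, a j) ≤ N) {h P : k[X]} (hP : P ∈ degreeLT k (N + 1))
    (hrel : h * AA r a = BB r * Wr (AA r a) P) {q : k} (hq : ∀ j, q ≠ r j) {n : ℕ}
    (hdvd : (X - C q) ^ n ∣ h) :
    ∃ G ∈ degreeLT k (N + 1), h * AA r a = BB r * Wr (AA r a) G ∧ (X - C q) ^ (n + 1) ∣ G := by
  have hAq := eval_AA_ne_zero r a hq
  have hBq := eval_BB_ne_zero r hq
  set A := AA r a with hA
  set c := P.eval q / A.eval q with hc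
  refine ⟨P - C c * A, ?_, ?_, ?_⟩
  · refine Submodule.sub_mem _ hP ?_
    apply mem_degLT_of_natDegree_le
    exact (natDegree_C_mul_le _ _).trans ((natDegree_AA_le r a).trans hN)
  · rw [Wr_sub, Wr_C_mul, Wr_self, mul_zero, sub_zero]
    exact hrel
  · set G := P - C c * A with hG
    have hWG : Wr A G = Wr A P := by
      rw [hG, Wr_sub, Wr_C_mul, Wr_self, mul_zero, sub_zero]
    have hGq : G.IsRoot q := by
      rw [IsRoot, hG, eval_sub, eval_mul, eval_C, hc, div_mul_cancel₀ _ hAq, sub_self]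
    by_cases hG0 : G = 0
    · rw [hG0]; exact dvd_zero _
    have hm : 1 ≤ G.rootMultiplicity q := (rootMultiplicity_pos hG0).2 hGq
    by_contra hnot
    have hmn : G.rootMultiplicity q ≤ n := by
      by_contra hlt
      push Not at hlt
      exact hnot ((le_rootMultiplicity_iff hG0).1 hlt)
    set mm := G.rootMultiplicity q with hmm
    have hTG : (X - C q) ^ mm ∣ G := pow_rootMultiplicity_dvd G q
    have hTh : (X - C q) ^ mm ∣ h := (pow_dvd_pow _ hmn).trans hdvd
    have hTW : (X - C q) ^ mm ∣ BB r * Wr A G := by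
      rw [hWG, ← hrel]
      exact hTh.mul_right _
    have hTW' : (X - C q) ^ mm ∣ Wr A G :=
      (coprime_of_eval_ne_zero hBq mm).dvd_of_dvd_mul_left hTW
    have hTGA : (X - C q) ^ mm ∣ derivative G * A := by
      have : derivative G * A = Wr A G + G * derivative A := by
        simp only [Wr]; ring
      rw [this]
      exact dvd_add hTW' (hTG.mul_right _)
    have hTG' : (X - C q) ^ mm ∣ derivative G :=
      (coprime_of_eval_ne_zero hAq mm).dvd_of_dvd_mul_right hTGA
    have hG'0 : derivative G ≠ 0 := by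
      intro h0
      have := Polynomial.derivative_eq_zero.1 h0
      rw [natDegree_eq_zero] at this
      obtain ⟨x, hx⟩ := this
      rw [← hx, IsRoot, eval_C] at hGq
      rw [hGq, C_0] at hx
      exact hG0 hx.symm
    have h1 := (le_rootMultiplicity_iff hG'0).2 hTG'
    rw [derivative_rootMultiplicity_of_root hGq] at h1
    omega

noncomputable def Xi (b : ℕ) :
    (degreeLT k b × (∀ i, degreeLT k (a i))) →ₗ[k] k[X] :=
  ((LinearMap.mulLeft k (DD r a)) ∘ₗ (degreeLT k b).subtype).coprod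
    (LinearMap.lsum k (fun i => degreeLT k (a i)) k
      (fun i => (LinearMap.mulLeft k (Di r a i)) ∘ₗ (degreeLT k (a i)).subtype))

lemma Xi_apply (b : ℕ) (u : degreeLT k b) (v : ∀ i, degreeLT k (a i)) :
    Xi r a b (u, v) = DD r a * u.1 + ∑ i, Di r a i * (v i).1 := by
  simp [Xi, LinearMap.lsum_apply]

lemma range_Xi (b : ℕ) : LinearMap.range (Xi r a b) = VV r a b := by
  classical
  apply le_antisymm
  · rintro _ ⟨⟨u, v⟩, rfl⟩
    rw [Xi_apply]
    refine Submodule.add_mem_sup ⟨u.1, u.2, rfl⟩ ?_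
    apply Submodule.sum_mem
    intro i _
    exact Submodule.mem_iSup_of_mem i ⟨(v i).1, (v i).2, rfl⟩
  · apply sup_le
    · rintro _ ⟨u, hu, rfl⟩
      refine ⟨(⟨u, hu⟩, 0), ?_⟩
      rw [Xi_apply]
      simp
    · apply iSup_le
      intro i
      rintro _ ⟨u, hu, rfl⟩
      refine ⟨(0, Pi.single i ⟨u, hu⟩), ?_⟩
      rw [Xi_apply]
      simp only [ZeroMemClass.coe_zero, mul_zero, zero_add, LinearMap.mulLeft_apply]
      rw [Finset.sum_eq_single i]
      · simp
      · intro j _ hj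
        simp [Pi.single_eq_of_ne hj]
      · intro h; exact absurd (Finset.mem_univ i) h

lemma eval_Di_ne_zero (hr : Function.Injective r) (i : Fin m) : (Di r a i).eval (r i) ≠ 0 := by
  unfold Di
  rw [eval_prod, Finset.prod_ne_zero_iff]
  intro j hj
  simp only [eval_pow, eval_sub, eval_X, eval_C]
  apply pow_ne_zero
  rw [sub_ne_zero]
  intro h
  exact (Finset.ne_of_mem_erase hj) (hr h).symm

lemma Xi_injective (hr : Function.Injective r) (b : ℕ) : Function.Injective (Xi r a b) := by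
  rw [← LinearMap.ker_eq_bot, LinearMap.ker_eq_bot']
  rintro ⟨u, v⟩ h0
  rw [Xi_apply] at h0
  have hv : ∀ i, v i = 0 := by
    intro i
    have hdvdD : (X - C (r i)) ^ (a i + 1) ∣ DD r a :=
      Finset.dvd_prod_of_mem (fun j => (X - C (r j)) ^ (a j + 1)) (Finset.mem_univ i)
    have hdvdDj : ∀ j ∈ Finset.univ.erase i, (X - C (r i)) ^ (a i + 1) ∣ Di r a j := by
      intro j hj
      exact Finset.dvd_prod_of_mem (fun l => (X - C (r l)) ^ (a l + 1))
        (Finset.mem_erase.2 ⟨(Finset.ne_of_mem_erase hj).symm, Finset.mem_univ i⟩)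
    have heq : Di r a i * (v i).1 =
        0 - DD r a * u.1 - ∑ j ∈ Finset.univ.erase i, Di r a j * (v j).1 := by
      rw [← h0, ← Finset.add_sum_erase _ _ (Finset.mem_univ i)]
      ring
    have hdvd : (X - C (r i)) ^ (a i + 1) ∣ Di r a i * (v i).1 := by
      rw [heq]
      refine dvd_sub (dvd_sub (dvd_zero _) (hdvdD.mul_right _)) ?_
      exact Finset.dvd_sum (fun j hj => (hdvdDj j hj).mul_right _)
    have hdvd' : (X - C (r i)) ^ (a i + 1) ∣ (v i).1 :=
      (coprime_of_eval_ne_zero (eval_Di_ne_zero r a hr i) _).dvd_of_dvd_mul_left hdvd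
    have hdeg : (v i).1.degree < ((X - C (r i)) ^ (a i + 1) : k[X]).degree := by
      have h1 := mem_degreeLT.1 (v i).2
      rw [degree_pow, degree_X_sub_C]
      refine h1.trans ?_
      simp only [nsmul_eq_mul, mul_one]
      exact_mod_cast Nat.lt_succ_self _
    exact Subtype.ext (eq_zero_of_dvd_of_degree_lt hdvd' hdeg)
  have hu : u = 0 := by
    have : DD r a * u.1 = 0 := by
      rw [← h0]
      simp [hv]
    have hD0 : DD r a ≠ 0 := by
      unfold DD
      rw [Finset.prod_ne_zero_iff]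
      intro j _
      exact pow_ne_zero _ (X_sub_C_ne_zero _)
    exact Subtype.ext ((mul_eq_zero.1 this).resolve_left hD0)
  rw [hu, funext hv]
  rfl

lemma finrank_degreeLT (n : ℕ) : Module.finrank k (degreeLT k n) = n := by
  rw [(degreeLTEquiv k n).finrank_eq, Module.finrank_fin_fun]

lemma finrank_VV (hr : Function.Injective r) (b : ℕ) :
    Module.finrank k (VV r a b) = (∑ j, a j) + b := by
  rw [← range_Xi, LinearMap.finrank_range_of_inj (Xi_injective r a hr b), Module.finrank_prod,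
    Module.finrank_pi_fintype]
  simp only [finrank_degreeLT]
  ring

lemma mem_span1 {f h : k[X]} : h ∈ (Ideal.span {f}).restrictScalars k ↔ f ∣ h := by
  rw [Submodule.restrictScalars_mem, Ideal.mem_span_singleton]

lemma factor_deg {N n d : ℕ} (hnd : n + d = N) {G : k[X]} (hG : G ∈ degreeLT k (N + 1)) {q : k}
    (hdvd : (X - C q) ^ n ∣ G) : ∃ L : k[X], L.natDegree ≤ d ∧ G = (X - C q) ^ n * L := by
  obtain ⟨L, rfl⟩ := hdvd
  refine ⟨L, ?_, rfl⟩
  by_cases hL : L = 0
  · simp [hL]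
  · have hT : ((X - C q) ^ n : k[X]) ≠ 0 := pow_ne_zero _ (X_sub_C_ne_zero q)
    have h1 : ((X - C q) ^ n * L).natDegree = n + L.natDegree := by
      rw [natDegree_mul hT hL, natDegree_pow, natDegree_X_sub_C, mul_one]
    have h2 : ((X - C q) ^ n * L).natDegree < N + 1 := by
      rw [mem_degreeLT] at hG
      exact (natDegree_lt_iff_degree_lt (mul_ne_zero hT hL)).2 hG
    omega

lemma Wr_pow_mul (A L : k[X]) (q : k) (n' : ℕ) :
    Wr A ((X - C q) ^ (n' + 1) * L) = (X - C q) ^ n' *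
      (((C ((n' : k) + 1)) * L + (X - C q) * derivative L) * A - (X - C q) * L * derivative A) := by
  simp only [Wr, derivative_mul, derivative_pow, derivative_sub, derivative_X, derivative_C,
    sub_zero, mul_one, Nat.add_sub_cancel, Nat.cast_add, Nat.cast_one]
  ring

lemma eval_Wr_zero {h G : k[X]} (hrel : h * AA r a = BB r * Wr (AA r a) G) {p : k}
    (hp : ∀ j, p ≠ r j) (hhp : h.eval p = 0) : (Wr (AA r a) G).eval p = 0 := by
  have := congrArg (eval p) hrel
  simp only [eval_mul, hhp, zero_mul] at this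
  exact (mul_eq_zero.1 this.symm).resolve_left (eval_BB_ne_zero r hp)

lemma no_high {N b : ℕ} (hN : (∑ j, a j) + b = N) {h : k[X]} (hV : h ∈ VV r a b) {q : k}
    (hq : ∀ j, q ≠ r j) (hd : (X - C q) ^ N ∣ h) : h = 0 := by
  obtain ⟨P, hP, hrel⟩ := VV_le_RR r a (le_of_eq hN) hV
  obtain ⟨G, hG, hrelG, hdG⟩ := key r a (by omega) hP hrel hq hd
  have hG0 : G = 0 := by
    apply eq_zero_of_dvd_of_degree_lt hdG
    rw [degree_pow, degree_X_sub_C]
    simp only [nsmul_eq_mul, mul_one]
    exact mem_degreeLT.1 hG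
  rw [hG0] at hrelG
  exact h_zero_of_rel r a hrelG

lemma uniq_cond {N b : ℕ} (hN : (∑ j, a j) + b = N) (hN1 : 1 ≤ N) {p q : k}
    (hp : ∀ j, p ≠ r j) (hq : ∀ j, q ≠ r j) (hqp : q ≠ p) {h : k[X]} (hV : h ∈ VV r a b)
    (hhp : h.eval p = 0) (hd : (X - C q) ^ (N - 1) ∣ h) (h0 : h ≠ 0) :
    (N : k) * (AA r a).eval p = (p - q) * (derivative (AA r a)).eval p := by
  obtain ⟨P, hP, hrel⟩ := VV_le_RR r a (le_of_eq hN) hV
  obtain ⟨G, hG, hrelG, hdG⟩ := key r a (by omega) hP hrel hq hd
  rw [Nat.sub_add_cancel hN1] at hdG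
  obtain ⟨L, hL, rfl⟩ := factor_deg (d := 0) (n := N) (N := N) rfl hG hdG
  obtain ⟨γ, rfl⟩ : ∃ γ, L = C γ := ⟨L.coeff 0, eq_C_of_natDegree_le_zero hL⟩
  have hγ : γ ≠ 0 := by
    rintro rfl
    rw [C_0, mul_zero] at hrelG
    exact h0 (h_zero_of_rel r a hrelG)
  have hW := eval_Wr_zero r a hrelG hp hhp
  obtain ⟨N', rfl⟩ : ∃ N', N = N' + 1 := ⟨N - 1, by omega⟩
  rw [Wr_pow_mul] at hW
  simp only [eval_mul, eval_pow, eval_sub, eval_X, eval_C, eval_add, derivative_C, mul_zero,
    add_zero, eval_one] at hW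
  have hpq : (p - q) ^ N' ≠ 0 := pow_ne_zero _ (sub_ne_zero.2 hqp.symm)
  have h1 := (mul_eq_zero.1 hW).resolve_left hpq
  have h2 : γ * (((N' : k) + 1) * (AA r a).eval p - (p - q) * (derivative (AA r a)).eval p) = 0 := by
    linear_combination h1
  have h3 := (mul_eq_zero.1 h2).resolve_left hγ
  push_cast
  linear_combination h3

lemma line {N b : ℕ} (hN : (∑ j, a j) + b = N) (hN2 : 2 ≤ N) {p q : k}
    (hp : ∀ j, p ≠ r j) (hq : ∀ j, q ≠ r j) (hqp : q ≠ p) {h1 h2 : k[X]}
    (h1V : h1 ∈ VV r a b) (h1p : h1.eval p = 0) (h1d : (X - C q) ^ (N - 2) ∣ h1)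
    (h2V : h2 ∈ VV r a b) (h2p : h2.eval p = 0) (h2d : (X - C q) ^ (N - 2) ∣ h2)
    (h10 : h1 ≠ 0) : ∃ c : k, h2 = c • h1 := by
  obtain ⟨N', rfl⟩ : ∃ N', N = N' + 2 := ⟨N - 2, by omega⟩
  simp only [Nat.add_sub_cancel] at h1d h2d
  have hAp := eval_AA_ne_zero r a hp
  have hpq : (p - q) ≠ 0 := sub_ne_zero.2 hqp.symm
  -- common extraction
  have ext : ∀ h : k[X], h ∈ VV r a b → h.eval p = 0 → (X - C q) ^ N' ∣ h →
      ∃ α β : k, h * AA r a = BB r * Wr (AA r a) ((X - C q) ^ (N' + 1) * (C α * X + C β)) ∧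
        α * ((((N' : k) + 1) * p + (p - q)) * (AA r a).eval p -
            (p - q) * p * (derivative (AA r a)).eval p) +
          β * (((N' : k) + 1) * (AA r a).eval p - (p - q) * (derivative (AA r a)).eval p) = 0 := by
    intro h hV hhp hd
    obtain ⟨P, hP, hrel⟩ := VV_le_RR r a (le_of_eq hN) hV
    obtain ⟨G, hG, hrelG, hdG⟩ := key r a (by omega) hP hrel hq hd
    obtain ⟨L, hL, rfl⟩ := factor_deg (d := 1) (n := N' + 1) (N := N' + 2) rfl hG hdG
    obtain ⟨α, β, rfl⟩ := exists_eq_X_add_C_of_natDegree_le_one hL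
    refine ⟨α, β, hrelG, ?_⟩
    have hW := eval_Wr_zero r a hrelG hp hhp
    rw [Wr_pow_mul] at hW
    simp only [eval_mul, eval_pow, eval_sub, eval_X, eval_C, eval_add, derivative_C, mul_zero,
      add_zero, eval_one, derivative_add, derivative_mul, derivative_X, zero_mul, zero_add,
      mul_one] at hW
    have h1 := (mul_eq_zero.1 hW).resolve_left (pow_ne_zero _ hpq)
    linear_combination h1
  obtain ⟨α1, β1, rel1, e1⟩ := ext h1 h1V h1p h1d
  obtain ⟨α2, β2, rel2, e2⟩ := ext h2 h2V h2p h2d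
  set w1 := (((N' : k) + 1) * p + (p - q)) * (AA r a).eval p -
            (p - q) * p * (derivative (AA r a)).eval p with hw1
  set w0 := ((N' : k) + 1) * (AA r a).eval p - (p - q) * (derivative (AA r a)).eval p with hw0
  have hw : w1 - p * w0 = (p - q) * (AA r a).eval p := by
    rw [hw1, hw0]; ring
  have hdet : α1 * β2 - α2 * β1 = 0 := by
    have d1 : (α1 * β2 - α2 * β1) * w1 = 0 := by linear_combination β2 * e1 - β1 * e2
    have d0 : (α1 * β2 - α2 * β1) * w0 = 0 := by linear_combination - α2 * e1 + α1 * e2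
    have d : (α1 * β2 - α2 * β1) * ((p - q) * (AA r a).eval p) = 0 := by
      rw [← hw]; linear_combination d1 - p * d0
    exact (mul_eq_zero.1 d).resolve_right (mul_ne_zero hpq hAp)
  have hL1 : α1 ≠ 0 ∨ β1 ≠ 0 := by
    by_contra hcon
    push Not at hcon
    rw [hcon.1, hcon.2] at rel1
    simp only [C_0, zero_mul, add_zero, mul_zero] at rel1
    exact h10 (h_zero_of_rel r a rel1)
  obtain ⟨c, hc1, hc2⟩ : ∃ c : k, α2 = c * α1 ∧ β2 = c * β1 := by
    by_cases hα : α1 = 0
    · have hβ : β1 ≠ 0 := hL1.resolve_left (not_not.2 hα)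
      refine ⟨β2 / β1, ?_, ?_⟩
      · rw [hα, mul_zero]
        rw [hα] at hdet
        have : α2 * β1 = 0 := by linear_combination -hdet
        exact (mul_eq_zero.1 this).resolve_right hβ
      · field_simp
    · refine ⟨α2 / α1, ?_, ?_⟩
      · field_simp
      · field_simp
        linear_combination hdet
  refine ⟨c, ?_⟩
  have hA0 := AA_ne_zero r a
  apply mul_right_cancel₀ hA0
  rw [rel2, hc1, hc2, smul_eq_C_mul, mul_assoc, rel1]
  have : (X - C q) ^ (N' + 1) * (C (c * α1) * X + C (c * β1)) =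
      C c * ((X - C q) ^ (N' + 1) * (C α1 * X + C β1)) := by
    simp only [C_mul]; ring
  rw [this, Wr_C_mul]
  ring

theorem main (hr : Function.Injective r) (b : ℕ) (hb : 1 ≤ b) (N : ℕ)
    (hN : N = (∑ j, a j) + b)
    (V : Submodule k (Polynomial k))
    (hV : V = (Polynomial.degreeLT k b).map (LinearMap.mulLeft k (∏ j, (X - C (r j)) ^ (a j + 1))) ⊔
      ⨆ i, (Polynomial.degreeLT k (a i)).map
        (LinearMap.mulLeft k (∏ j ∈ Finset.univ.erase i, (X - C (r j)) ^ (a j + 1))))
    (p : k) (hp : ∀ j, p ≠ r j) (V₁ : Submodule k (Polynomial k))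
    (hV₁ : V₁ = V ⊓ (Ideal.span {X - C p}).restrictScalars k) :
    Module.finrank k ↥V₁ + 1 = N ∧
    (V₁ ⊓ (Ideal.span {(X - C p) ^ N}).restrictScalars k) = ⊥ ∧
    (∀ q : k, (∀ j, q ≠ r j) → q ≠ p →
      (V₁ ⊓ (Ideal.span {(X - C q) ^ N}).restrictScalars k) = ⊥ ∧
      Module.finrank k ↥(V₁ ⊓ (Ideal.span {(X - C q) ^ (N - 2)}).restrictScalars k) ≤ 1) ∧
    (∀ q q' : k, (∀ j, q ≠ r j) → q ≠ p → (∀ j, q' ≠ r j) → q' ≠ p →
      (V₁ ⊓ (Ideal.span {(X - C q) ^ (N - 1)}).restrictScalars k) ≠ ⊥ →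
      (V₁ ⊓ (Ideal.span {(X - C q') ^ (N - 1)}).restrictScalars k) ≠ ⊥ → q = q') := by
  have hV' : V = VV r a b := hV
  subst hV'
  subst hV₁
  have hN' : (∑ j, a j) + b = N := hN.symm
  have hfr := finrank_VV r a hr b
  have hfd : FiniteDimensional k (VV r a b) :=
    Module.finite_of_finrank_pos (by rw [hfr]; omega)
  have hmemV₁ : ∀ h : k[X], h ∈ VV r a b ⊓ (Ideal.span {X - C p}).restrictScalars k ↔
      h ∈ VV r a b ∧ h.eval p = 0 := by
    intro h
    rw [Submodule.mem_inf, mem_span1, dvd_iff_isRoot]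
    rfl
  -- claim 1
  have c1 : Module.finrank k ↥(VV r a b ⊓ (Ideal.span {X - C p}).restrictScalars k) + 1 = N := by
    let f : VV r a b →ₗ[k] k := (leval p) ∘ₗ (VV r a b).subtype
    have hker : LinearMap.ker f =
        (VV r a b ⊓ (Ideal.span {X - C p}).restrictScalars k).comap (VV r a b).subtype := by
      ext x
      rw [LinearMap.mem_ker, Submodule.mem_comap, hmemV₁]
      simp [f, leval]
    have hfin : Module.finrank k (LinearMap.ker f) =
        Module.finrank k ↥(VV r a b ⊓ (Ideal.span {X - C p}).restrictScalars k) := by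
      rw [hker]
      exact (Submodule.comapSubtypeEquivOfLe inf_le_left).finrank_eq
    have hD : DD r a ∈ VV r a b := by
      have h1 : (1 : k[X]) ∈ degreeLT k b := by
        rw [mem_degreeLT, degree_one]
        exact_mod_cast hb
      exact Submodule.mem_sup_left ⟨1, h1, by simp⟩
    have hDp : (DD r a).eval p ≠ 0 := by
      rw [DD_eq, eval_mul]
      exact mul_ne_zero (eval_AA_ne_zero r a hp) (eval_BB_ne_zero r hp)
    have hsurj : LinearMap.range f = ⊤ := by
      rw [LinearMap.range_eq_top]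
      intro y
      refine ⟨(y / (DD r a).eval p) • ⟨DD r a, hD⟩, ?_⟩
      simp only [f, leval, LinearMap.coe_comp, Submodule.coe_subtype, Function.comp_apply,
        LinearMap.coe_mk, AddHom.coe_mk, Submodule.coe_smul, eval_smul, smul_eq_mul]
      exact div_mul_cancel₀ _ hDp
    have hrn := LinearMap.finrank_range_add_finrank_ker f
    rw [hsurj, finrank_top, Module.finrank_self, hfin, hfr] at hrn
    omega
  refine ⟨c1, ?_, ?_, ?_⟩
  · rw [eq_bot_iff]
    rintro h ⟨⟨hhV, _⟩, hd⟩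
    exact (Submodule.mem_bot k).2 (no_high r a hN' hhV hp (mem_span1.1 hd))
  · intro q hq hqp
    constructor
    · rw [eq_bot_iff]
      rintro h ⟨⟨hhV, _⟩, hd⟩
      exact (Submodule.mem_bot k).2 (no_high r a hN' hhV hq (mem_span1.1 hd))
    · by_cases hN2 : 2 ≤ N
      · by_cases hU : (VV r a b ⊓ (Ideal.span {X - C p}).restrictScalars k) ⊓
            (Ideal.span {(X - C q) ^ (N - 2)}).restrictScalars k = ⊥
        · rw [hU]
          simp
        · obtain ⟨h1, h1U, h10⟩ := Submodule.exists_mem_ne_zero_of_ne_bot hU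
          refine finrank_le_one (⟨h1, h1U⟩ : ↥((VV r a b ⊓
            (Ideal.span {X - C p}).restrictScalars k) ⊓
            (Ideal.span {(X - C q) ^ (N - 2)}).restrictScalars k)) ?_
          rintro ⟨h2, h2U⟩
          obtain ⟨h1a, h1d⟩ := h1U
          obtain ⟨h2a, h2d⟩ := h2U
          replace h1a := (hmemV₁ _).1 h1a
          replace h2a := (hmemV₁ _).1 h2a
          obtain ⟨c, hc⟩ := line r a hN' hN2 hp hq hqp h1a.1 h1a.2 (mem_span1.1 h1d)
            h2a.1 h2a.2 (mem_span1.1 h2d) h10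
          exact ⟨c, Subtype.ext hc.symm⟩
      · have h0 : Module.finrank k
            ↥(VV r a b ⊓ (Ideal.span {X - C p}).restrictScalars k) = 0 := by omega
        have := Submodule.finrank_mono (inf_le_left :
          (VV r a b ⊓ (Ideal.span {X - C p}).restrictScalars k) ⊓
            (Ideal.span {(X - C q) ^ (N - 2)}).restrictScalars k ≤
          VV r a b ⊓ (Ideal.span {X - C p}).restrictScalars k)
        omega
  · intro q q' hq hqp hq' hqp' hne hne'
    obtain ⟨h, hU, h0⟩ := Submodule.exists_mem_ne_zero_of_ne_bot hne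
    obtain ⟨h', hU', h0'⟩ := Submodule.exists_mem_ne_zero_of_ne_bot hne'
    obtain ⟨ha, hd⟩ := hU
    obtain ⟨ha', hd'⟩ := hU'
    replace ha := (hmemV₁ _).1 ha
    replace ha' := (hmemV₁ _).1 ha'
    have hN1 : 1 ≤ N := by omega
    have e1 := uniq_cond r a hN' hN1 hp hq hqp ha.1 ha.2 (mem_span1.1 hd) h0
    have e2 := uniq_cond r a hN' hN1 hp hq' hqp' ha'.1 ha'.2 (mem_span1.1 hd') h0'
    have hAp := eval_AA_ne_zero r a hp
    have hNk : (N : k) ≠ 0 := by exact_mod_cast (by omega : N ≠ 0)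
    have h3 : (q' - q) * (derivative (AA r a)).eval p = 0 := by linear_combination e2 - e1
    rcases mul_eq_zero.1 h3 with h4 | h4
    · exact (sub_eq_zero.1 h4).symm
    · exfalso
      rw [h4, mul_zero] at e1
      exact (mul_ne_zero hNk hAp) e1

end gens

end Groth.Agent.H9.RamP
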