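import Mathlib
import Groth.Agent.Lib.Helper9.Misc.RamP

/-! Helper9: hyperplanes of exact differentials on P^1 containing lower pole order (S17243). -/

namespace Groth.Agent.H9.RamP

open Polynomial

universe u

section
set_option linter.unusedSectionVars false
variable {k : Type u} [Field k] [CharZero k] {m : ℕ} (r : Fin m → k) (a : Fin m → ℕ)

lemma coeff_T_pow (q : k) (n j : ℕ) :
    ((X - C q) ^ n).coeff j = (-q) ^ (n - j) * (n.choose j : k) := by
  rw [sub_eq_add_neg, ← C_neg, coeff_X_add_C_pow]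

lemma coeff_T_pow_mul_lin_top (q α β : k) (M : ℕ) :
    ((X - C q) ^ M * (C α * X + C β)).coeff (M + 1) = α := by
  have : (X - C q) ^ M * (C α * X + C β) = (X - C q) ^ M * C α * X + (X - C q) ^ M * C β := by ring
  rw [this, coeff_add, coeff_mul_X, coeff_mul_C, coeff_mul_C, coeff_T_pow, coeff_T_pow]
  simp [Nat.choose_succ_self]

lemma coeff_T_pow_mul_lin_next (q α β : k) (M : ℕ) :
    ((X - C q) ^ (M + 1) * (C α * X + C β)).coeff (M + 1) = β - ((M : k) + 1) * q * α := by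
  have : (X - C q) ^ (M + 1) * (C α * X + C β) =
      (X - C q) ^ (M + 1) * C α * X + (X - C q) ^ (M + 1) * C β := by ring
  rw [this, coeff_add, coeff_mul_X, coeff_mul_C, coeff_mul_C, coeff_T_pow, coeff_T_pow]
  simp [Nat.choose_succ_self_right]
  ring

lemma coeff_T_pow_mul_C_top (q γ : k) (M : ℕ) :
    ((X - C q) ^ M * C γ).coeff M = γ := by
  rw [coeff_mul_C, coeff_T_pow]
  simp

lemma coeff_T_pow_mul_C_next (q γ : k) (M : ℕ) :
    ((X - C q) ^ (M + 1) * C γ).coeff M = - ((M : k) + 1) * q * γ := by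
  rw [coeff_mul_C, coeff_T_pow]
  simp [Nat.choose_succ_self_right]
  ring

/-- Primitive with a linear condition on the top two coefficients. -/
noncomputable def RRl (N : ℕ) (l1 l2 : k) : Submodule k k[X] where
  carrier := {h | ∃ P ∈ degreeLT k (N + 1), h * AA r a = BB r * Wr (AA r a) P ∧
    l1 * P.coeff N + l2 * P.coeff (N - 1) = 0}
  zero_mem' := ⟨0, Submodule.zero_mem _, by simp [Wr_zero], by simp⟩
  add_mem' := by
    rintro h1 h2 ⟨P1, hP1, e1, c1⟩ ⟨P2, hP2, e2, c2⟩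
    refine ⟨P1 + P2, Submodule.add_mem _ hP1 hP2, ?_, ?_⟩
    · rw [Wr_add, add_mul, e1, e2, mul_add]
    · rw [coeff_add, coeff_add]
      linear_combination c1 + c2
  smul_mem' := by
    rintro c h ⟨P, hP, e, c1⟩
    refine ⟨c • P, Submodule.smul_mem _ c hP, ?_, ?_⟩
    · rw [Wr_smul, smul_mul_assoc, e, mul_smul_comm]
    · rw [coeff_smul, coeff_smul, smul_eq_mul, smul_eq_mul]
      linear_combination c * c1

lemma key2 {N : ℕ} (hN : (∑ j, a j) ≤ N) {h P : k[X]} (hP : P ∈ degreeLT k (N + 1))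
    (hrel : h * AA r a = BB r * Wr (AA r a) P) {q : k} (hq : ∀ j, q ≠ r j) {n : ℕ}
    (hdvd : (X - C q) ^ n ∣ h) :
    ∃ c : k, P - C c * AA r a ∈ degreeLT k (N + 1) ∧
      h * AA r a = BB r * Wr (AA r a) (P - C c * AA r a) ∧
      (X - C q) ^ (n + 1) ∣ P - C c * AA r a := by
  have hAq := eval_AA_ne_zero r a hq
  have hBq := eval_BB_ne_zero r hq
  set A := AA r a with hA
  set c := P.eval q / A.eval q with hc
  refine ⟨c, ?_, ?_, ?_⟩
  · refine Submodule.sub_mem _ hP ?_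
    apply mem_degLT_of_natDegree_le
    exact (natDegree_C_mul_le _ _).trans ((natDegree_AA_le r a).trans hN)
  · rw [Wr_sub, Wr_C_mul, Wr_self, mul_zero, sub_zero]
    exact hrel
  · set G := P - C c * A with hG
    have hWG : Wr A G = Wr A P := by
      rw [hG, Wr_sub, Wr_C_mul, Wr_self, mul_zero, sub_zero]
    have hGq : G.IsRoot q := by
      rw [IsRoot, hG, eval_sub, eval_mul, eval_C, hc, div_mul_cancel₀ _ hAq, sub_self]
    by_cases hG0 : G = 0
    · rw [hG0]; exact dvd_zero _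
    have hm : 1 ≤ G.rootMultiplicity q := (rootMultiplicity_pos hG0).2 hGq
    by_contra hnot
    have hmn : G.rootMultiplicity q ≤ n := by
      by_contra hlt
      push Not at hlt
      exact hnot ((le_rootMultiplicity_iff hG0).1 hlt)
    set mm := G.rootMultiplicity q with hmm
    have hTG : (X - C q) ^ mm ∣ G := pow_rootMultiplicity_dvd G q
    have hTh : (X - C q) ^ mm ∣ h := (pow_dvd_pow _ hmn).trans hdvd
    have hTW : (X - C q) ^ mm ∣ BB r * Wr A G := by
      rw [hWG, ← hrel]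
      exact hTh.mul_right _
    have hTW' : (X - C q) ^ mm ∣ Wr A G :=
      (coprime_of_eval_ne_zero hBq mm).dvd_of_dvd_mul_left hTW
    have hTGA : (X - C q) ^ mm ∣ derivative G * A := by
      have : derivative G * A = Wr A G + G * derivative A := by
        simp only [Wr]; ring
      rw [this]
      exact dvd_add hTW' (hTG.mul_right _)
    have hTG' : (X - C q) ^ mm ∣ derivative G :=
      (coprime_of_eval_ne_zero hAq mm).dvd_of_dvd_mul_right hTGA
    have hG'0 : derivative G ≠ 0 := by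
      intro h0
      have := Polynomial.derivative_eq_zero.1 h0
      rw [natDegree_eq_zero] at this
      obtain ⟨x, hx⟩ := this
      rw [← hx, IsRoot, eval_C] at hGq
      rw [hGq, C_0] at hx
      exact hG0 hx.symm
    have h1 := (le_rootMultiplicity_iff hG'0).2 hTG'
    rw [derivative_rootMultiplicity_of_root hGq] at h1
    omega

lemma keyl {N : ℕ} (hN : (∑ j, a j) ≤ N) {l1 l2 : k}
    (hlA : l1 * (AA r a).coeff N + l2 * (AA r a).coeff (N - 1) = 0) {h : k[X]}
    (hh : h ∈ RRl r a N l1 l2) {q : k} (hq : ∀ j, q ≠ r j) {n : ℕ}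
    (hdvd : (X - C q) ^ n ∣ h) :
    ∃ G ∈ degreeLT k (N + 1), h * AA r a = BB r * Wr (AA r a) G ∧ (X - C q) ^ (n + 1) ∣ G ∧
      l1 * G.coeff N + l2 * G.coeff (N - 1) = 0 := by
  obtain ⟨P, hP, hrel, hl⟩ := hh
  obtain ⟨c, h1, h2, h3⟩ := key2 r a hN hP hrel hq hdvd
  refine ⟨_, h1, h2, h3, ?_⟩
  rw [coeff_sub, coeff_sub, coeff_C_mul, coeff_C_mul]
  linear_combination hl - c * hlA


lemma prop_end {h1 h2 : k[X]} {q α1 β1 α2 β2 : k} {M : ℕ}
    (rel1 : h1 * AA r a = BB r * Wr (AA r a) ((X - C q) ^ M * (C α1 * X + C β1)))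
    (rel2 : h2 * AA r a = BB r * Wr (AA r a) ((X - C q) ^ M * (C α2 * X + C β2)))
    (hdet : α1 * β2 - α2 * β1 = 0) (h10 : h1 ≠ 0) : ∃ c : k, h2 = c • h1 := by
  have hL1 : α1 ≠ 0 ∨ β1 ≠ 0 := by
    by_contra hcon
    push Not at hcon
    rw [hcon.1, hcon.2] at rel1
    simp only [C_0, zero_mul, add_zero, mul_zero] at rel1
    exact h10 (h_zero_of_rel r a rel1)
  obtain ⟨c, hc1, hc2⟩ : ∃ c : k, α2 = c * α1 ∧ β2 = c * β1 := by
    by_cases hα : α1 = 0
    · have hβ : β1 ≠ 0 := hL1.resolve_left (not_not.2 hα)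
      refine ⟨β2 / β1, ?_, ?_⟩
      · rw [hα, mul_zero]
        rw [hα] at hdet
        have : α2 * β1 = 0 := by linear_combination -hdet
        exact (mul_eq_zero.1 this).resolve_right hβ
      · field_simp
    · refine ⟨α2 / α1, ?_, ?_⟩
      · field_simp
      · field_simp
        linear_combination hdet
  refine ⟨c, ?_⟩
  have hA0 := AA_ne_zero r a
  apply mul_right_cancel₀ hA0
  rw [rel2, hc1, hc2, smul_eq_C_mul, mul_assoc, rel1]
  have : (X - C q) ^ M * (C (c * α1) * X + C (c * β1)) =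
      C c * ((X - C q) ^ M * (C α1 * X + C β1)) := by
    simp only [C_mul]; ring
  rw [this, Wr_C_mul]
  ring

lemma line2 {N : ℕ} (hN : (∑ j, a j) ≤ N) (hN2 : 2 ≤ N) {l1 l2 : k} (hl : l1 ≠ 0 ∨ l2 ≠ 0)
    (hlA : l1 * (AA r a).coeff N + l2 * (AA r a).coeff (N - 1) = 0) {q : k}
    (hq : ∀ j, q ≠ r j) {h1 h2 : k[X]}
    (h1V : h1 ∈ RRl r a N l1 l2) (h1d : (X - C q) ^ (N - 2) ∣ h1)
    (h2V : h2 ∈ RRl r a N l1 l2) (h2d : (X - C q) ^ (N - 2) ∣ h2)
    (h10 : h1 ≠ 0) : ∃ c : k, h2 = c • h1 := by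
  obtain ⟨N', rfl⟩ : ∃ N', N = N' + 2 := ⟨N - 2, by omega⟩
  simp only [Nat.add_sub_cancel] at h1d h2d
  have ext : ∀ h : k[X], h ∈ RRl r a (N' + 2) l1 l2 → (X - C q) ^ N' ∣ h →
      ∃ α β : k, h * AA r a = BB r * Wr (AA r a) ((X - C q) ^ (N' + 1) * (C α * X + C β)) ∧
        α * (l1 - l2 * (((N' : k) + 1) * q)) + β * l2 = 0 := by
    intro h hV hd
    obtain ⟨G, hG, hrelG, hdG, hlG⟩ := keyl r a hN hlA hV hq hd
    obtain ⟨L, hL, rfl⟩ := factor_deg (d := 1) (n := N' + 1) (N := N' + 2) rfl hG hdG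
    obtain ⟨α, β, rfl⟩ := exists_eq_X_add_C_of_natDegree_le_one hL
    refine ⟨α, β, hrelG, ?_⟩
    have e1 : ((X - C q) ^ (N' + 1) * (C α * X + C β)).coeff (N' + 2) = α :=
      coeff_T_pow_mul_lin_top q α β (N' + 1)
    have e2 : ((X - C q) ^ (N' + 1) * (C α * X + C β)).coeff (N' + 2 - 1) =
        β - ((N' : k) + 1) * q * α := coeff_T_pow_mul_lin_next q α β N'
    rw [e1, e2] at hlG
    linear_combination hlG
  obtain ⟨α1, β1, rel1, e1⟩ := ext h1 h1V h1d
  obtain ⟨α2, β2, rel2, e2⟩ := ext h2 h2V h2d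
  set w1 := l1 - l2 * (((N' : k) + 1) * q) with hw1
  have hw : w1 ≠ 0 ∨ l2 ≠ 0 := by
    by_cases h2 : l2 = 0
    · left
      rw [hw1, h2, zero_mul, sub_zero]
      exact hl.resolve_right (not_not.2 h2)
    · exact Or.inr h2
  have hdet : α1 * β2 - α2 * β1 = 0 := by
    have d1 : (α1 * β2 - α2 * β1) * w1 = 0 := by linear_combination β2 * e1 - β1 * e2
    have d0 : (α1 * β2 - α2 * β1) * l2 = 0 := by linear_combination - α2 * e1 + α1 * e2
    rcases hw with h | h
    · exact (mul_eq_zero.1 d1).resolve_right h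
    · exact (mul_eq_zero.1 d0).resolve_right h
  exact prop_end r a rel1 rel2 hdet h10

lemma uniq2 {N : ℕ} (hN : (∑ j, a j) ≤ N) (hN1 : 1 ≤ N) {l1 l2 : k}
    (hlA : l1 * (AA r a).coeff N + l2 * (AA r a).coeff (N - 1) = 0) {q : k}
    (hq : ∀ j, q ≠ r j) {h : k[X]} (hV : h ∈ RRl r a N l1 l2)
    (hd : (X - C q) ^ (N - 1) ∣ h) (h0 : h ≠ 0) : l1 = l2 * ((N : k) * q) := by
  obtain ⟨G, hG, hrelG, hdG, hlG⟩ := keyl r a hN hlA hV hq hd
  rw [Nat.sub_add_cancel hN1] at hdG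
  obtain ⟨L, hL, rfl⟩ := factor_deg (d := 0) (n := N) (N := N) rfl hG hdG
  obtain ⟨γ, rfl⟩ : ∃ γ, L = C γ := ⟨L.coeff 0, eq_C_of_natDegree_le_zero hL⟩
  have hγ : γ ≠ 0 := by
    rintro rfl
    rw [C_0, mul_zero] at hrelG
    exact h0 (h_zero_of_rel r a hrelG)
  obtain ⟨N', rfl⟩ : ∃ N', N = N' + 1 := ⟨N - 1, by omega⟩
  rw [coeff_T_pow_mul_C_top, Nat.add_sub_cancel, coeff_T_pow_mul_C_next] at hlG
  have : γ * (l1 - l2 * (((N' : k) + 1) * q)) = 0 := by linear_combination hlG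
  have h3 := (mul_eq_zero.1 this).resolve_left hγ
  push_cast
  linear_combination h3


lemma coeff_zero_of_mem_degLT {P : k[X]} {n j : ℕ} (hP : P ∈ degreeLT k n) (hj : n ≤ j) :
    P.coeff j = 0 := by
  rw [mem_degreeLT] at hP
  apply coeff_eq_zero_of_degree_lt
  exact lt_of_lt_of_le hP (by exact_mod_cast hj)

lemma setupA (hr : Function.Injective r) {b N : ℕ} (hb : 1 ≤ b) (hN : (∑ j, a j) + b = N)
    (V₁ : Submodule k k[X]) (hV₁ : V₁ ≤ VV r a b) (hfin : Module.finrank k V₁ + 1 = N)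
    (hU : VV r a (b - 2) ≤ V₁) :
    ∃ l1 l2 : k, (l1 ≠ 0 ∨ l2 ≠ 0) ∧
      l1 * (AA r a).coeff N + l2 * (AA r a).coeff (N - 1) = 0 ∧ V₁ ≤ RRl r a N l1 l2 := by
  have hfr := finrank_VV r a hr b
  have hfdV : FiniteDimensional k (VV r a b) :=
    Module.finite_of_finrank_pos (by rw [hfr]; omega)
  have hfd1 : FiniteDimensional k V₁ := Submodule.finiteDimensional_of_le hV₁
  have hfU := finrank_VV r a hr (b - 2)
  have U_le : VV r a (b - 2) ≤ RR r a ((∑ j, a j) + (b - 2)) := VV_le_RR r a le_rfl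
  have hAN : (AA r a).coeff N = 0 := by
    apply coeff_eq_zero_of_natDegree_lt
    have := natDegree_AA_le r a
    omega
  by_cases hb1 : b = 1
  · subst hb1
    have hUV : VV r a (1 - 2) = V₁ := Submodule.eq_of_le_of_finrank_eq hU (by rw [hfU]; omega)
    refine ⟨1, 0, Or.inl one_ne_zero, by rw [hAN]; ring, ?_⟩
    intro h hh
    rw [← hUV] at hh
    obtain ⟨P, hP, hrel⟩ := U_le hh
    refine ⟨P, degreeLT_mono (by omega) hP, hrel, ?_⟩
    rw [coeff_zero_of_mem_degLT hP (by omega)]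
    ring
  · have hb2 : 2 ≤ b := by omega
    have hAN1 : (AA r a).coeff (N - 1) = 0 := by
      apply coeff_eq_zero_of_natDegree_lt
      have := natDegree_AA_le r a
      omega
    obtain ⟨v, hv, hvU⟩ : ∃ v ∈ V₁, v ∉ VV r a (b - 2) := by
      by_contra hcon
      push Not at hcon
      have hle : V₁ ≤ VV r a (b - 2) := hcon
      have hfdU : FiniteDimensional k (VV r a (b - 2)) := Submodule.finiteDimensional_of_le hU
      have := Submodule.finrank_mono hle
      omega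
    have hsup : VV r a (b - 2) ⊔ Submodule.span k {v} = V₁ := by
      have hle : VV r a (b - 2) ⊔ Submodule.span k {v} ≤ V₁ :=
        sup_le hU ((Submodule.span_singleton_le_iff_mem v V₁).2 hv)
      apply Submodule.eq_of_le_of_finrank_le hle
      have hfds : FiniteDimensional k ↥(VV r a (b - 2) ⊔ Submodule.span k {v}) :=
        Submodule.finiteDimensional_of_le hle
      have hlt : VV r a (b - 2) < VV r a (b - 2) ⊔ Submodule.span k {v} := by
        refine lt_of_le_of_ne le_sup_left ?_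
        intro heq
        apply hvU
        rw [heq]
        exact Submodule.mem_sup_right (Submodule.mem_span_singleton_self v)
      have := Submodule.finrank_lt_finrank_of_lt hlt
      omega
    obtain ⟨Pv, hPv, hrelv⟩ := VV_le_RR r a (le_of_eq hN) (hV₁ hv)
    obtain ⟨l1, l2, hl, hlv⟩ : ∃ l1 l2 : k, (l1 ≠ 0 ∨ l2 ≠ 0) ∧
        l1 * Pv.coeff N + l2 * Pv.coeff (N - 1) = 0 := by
      by_cases hx : Pv.coeff N = 0
      · by_cases hy : Pv.coeff (N - 1) = 0
        · exact ⟨1, 0, Or.inl one_ne_zero, by rw [hx, hy]; ring⟩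
        · exact ⟨Pv.coeff (N - 1), - Pv.coeff N, Or.inl hy, by ring⟩
      · exact ⟨Pv.coeff (N - 1), - Pv.coeff N, Or.inr (neg_ne_zero.2 hx), by ring⟩
    refine ⟨l1, l2, hl, by rw [hAN, hAN1]; ring, ?_⟩
    rw [← hsup]
    apply sup_le
    · intro h hh
      obtain ⟨P, hP, hrel⟩ := U_le hh
      refine ⟨P, degreeLT_mono (by omega) hP, hrel, ?_⟩
      rw [coeff_zero_of_mem_degLT hP (by omega), coeff_zero_of_mem_degLT hP (by omega)]
      ring
    · rw [Submodule.span_singleton_le_iff_mem]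
      exact ⟨Pv, hPv, hrelv, hlv⟩

theorem main2 (hr : Function.Injective r) (b : ℕ) (hb : 1 ≤ b) (N : ℕ)
    (hN : N = (∑ j, a j) + b)
    (V : Submodule k (Polynomial k))
    (hV : V = (Polynomial.degreeLT k b).map (LinearMap.mulLeft k (∏ j, (X - C (r j)) ^ (a j + 1))) ⊔
      ⨆ i, (Polynomial.degreeLT k (a i)).map
        (LinearMap.mulLeft k (∏ j ∈ Finset.univ.erase i, (X - C (r j)) ^ (a j + 1))))
    (V₁ : Submodule k (Polynomial k)) (hV₁ : V₁ ≤ V) (hfin : Module.finrank k ↥V₁ + 1 = N)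
    (hU : (Polynomial.degreeLT k (b - 2)).map (LinearMap.mulLeft k (∏ j, (X - C (r j)) ^ (a j + 1))) ⊔
      (⨆ i, (Polynomial.degreeLT k (a i)).map
        (LinearMap.mulLeft k (∏ j ∈ Finset.univ.erase i, (X - C (r j)) ^ (a j + 1)))) ≤ V₁) :
    (∀ q : k, (∀ j, q ≠ r j) →
      (V₁ ⊓ (Ideal.span {(X - C q) ^ N}).restrictScalars k) = ⊥ ∧
      Module.finrank k ↥(V₁ ⊓ (Ideal.span {(X - C q) ^ (N - 2)}).restrictScalars k) ≤ 1) ∧
    (∀ q q' : k, (∀ j, q ≠ r j) → (∀ j, q' ≠ r j) →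
      (V₁ ⊓ (Ideal.span {(X - C q) ^ (N - 1)}).restrictScalars k) ≠ ⊥ →
      (V₁ ⊓ (Ideal.span {(X - C q') ^ (N - 1)}).restrictScalars k) ≠ ⊥ → q = q') := by
  have hV' : V = VV r a b := hV
  subst hV'
  have hU' : VV r a (b - 2) ≤ V₁ := hU
  have hN' : (∑ j, a j) + b = N := hN.symm
  obtain ⟨l1, l2, hl, hlA, hle⟩ := setupA r a hr hb hN' V₁ hV₁ hfin hU'
  have hfr := finrank_VV r a hr b
  have hfdV : FiniteDimensional k (VV r a b) :=
    Module.finite_of_finrank_pos (by rw [hfr]; omega)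
  have hfd1 : FiniteDimensional k V₁ := Submodule.finiteDimensional_of_le hV₁
  constructor
  · intro q hq
    constructor
    · rw [eq_bot_iff]
      rintro h ⟨hhV, hd⟩
      exact (Submodule.mem_bot k).2 (no_high r a hN' (hV₁ hhV) hq (mem_span1.1 hd))
    · by_cases hN2 : 2 ≤ N
      · by_cases hUU : V₁ ⊓ (Ideal.span {(X - C q) ^ (N - 2)}).restrictScalars k = ⊥
        · rw [hUU]
          simp
        · obtain ⟨h1, h1U, h10⟩ := Submodule.exists_mem_ne_zero_of_ne_bot hUU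
          refine finrank_le_one (⟨h1, h1U⟩ : ↥(V₁ ⊓
            (Ideal.span {(X - C q) ^ (N - 2)}).restrictScalars k)) ?_
          rintro ⟨h2, h2U⟩
          obtain ⟨h1a, h1d⟩ := h1U
          obtain ⟨h2a, h2d⟩ := h2U
          obtain ⟨c, hc⟩ := line2 r a (by omega) hN2 hl hlA hq (hle h1a) (mem_span1.1 h1d)
            (hle h2a) (mem_span1.1 h2d) h10
          exact ⟨c, Subtype.ext hc.symm⟩
      · have h0 : Module.finrank k ↥V₁ = 0 := by omega
        have := Submodule.finrank_mono (inf_le_left :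
          V₁ ⊓ (Ideal.span {(X - C q) ^ (N - 2)}).restrictScalars k ≤ V₁)
        omega
  · intro q q' hq hq' hne hne'
    obtain ⟨h, hUh, h0⟩ := Submodule.exists_mem_ne_zero_of_ne_bot hne
    obtain ⟨h', hUh', h0'⟩ := Submodule.exists_mem_ne_zero_of_ne_bot hne'
    obtain ⟨ha, hd⟩ := hUh
    obtain ⟨ha', hd'⟩ := hUh'
    have hN1 : 1 ≤ N := by omega
    have e1 := uniq2 r a (by omega) hN1 hlA hq (hle ha) (mem_span1.1 hd) h0
    have e2 := uniq2 r a (by omega) hN1 hlA hq' (hle ha') (mem_span1.1 hd') h0'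
    have hNk : (N : k) ≠ 0 := by exact_mod_cast (by omega : N ≠ 0)
    have h3 : l2 * ((N : k) * (q - q')) = 0 := by linear_combination e2 - e1
    rcases mul_eq_zero.1 h3 with h4 | h4
    · exfalso
      rw [h4, zero_mul] at e1
      rcases hl with h5 | h5
      · exact h5 e1
      · exact h5 h4
    · exact sub_eq_zero.1 ((mul_eq_zero.1 h4).resolve_left hNk)

end

end Groth.Agent.H9.RamP
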