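import Mathlib
import Groth.Agent.Lib.Helper9.Misc.RamP2

/-! Helper9: vanishing sequences of exact differentials on P^1 at marked points (S17241). -/

namespace Groth.Agent.H9.RamP

open Polynomial

universe u

section
set_option linter.unusedSectionVars false
variable {k : Type u} [Field k] [CharZero k]

lemma rootMult_pow_mul {q : k} {Q : k[X]} (hQ : Q.eval q ≠ 0) (n : ℕ) :
    rootMultiplicity q ((X - C q) ^ n * Q) = n := by
  have hQ0 : Q ≠ 0 := by rintro rfl; simp at hQ
  rw [rootMultiplicity_mul (mul_ne_zero (pow_ne_zero _ (X_sub_C_ne_zero q)) hQ0),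
    rootMultiplicity_X_sub_C_pow, rootMultiplicity_eq_zero (by exact hQ), add_zero]

lemma coeff_X_mul_derivative (p : k[X]) (n : ℕ) :
    (X * derivative p).coeff n = (n : k) * p.coeff n := by
  rcases n with _ | n
  · simp
  · rw [coeff_X_mul, coeff_derivative]
    push_cast
    ring

lemma wr_id (T E Gs : k[X]) (hT' : derivative T = 1) (s a' : ℕ) :
    T * Wr (T ^ (a' + 1) * E) (T ^ s * Gs) = T ^ (s + (a' + 1)) *
      ((C (s : k) - (C (a' : k) + 1)) * Gs * E + T * (derivative Gs * E - Gs * derivative E)) := by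
  rcases s with _ | s'
  · simp only [Wr, derivative_mul, derivative_pow, hT', pow_zero, one_mul, mul_one,
      Nat.cast_add, Nat.cast_one, Nat.add_sub_cancel, Nat.cast_zero, C_0, C_add, C_1,
      zero_add, zero_sub, derivative_one, zero_mul]
    ring
  · simp only [Wr, derivative_mul, derivative_pow, hT', mul_one,
      Nat.cast_add, Nat.cast_one, Nat.add_sub_cancel, C_add, C_1]
    ring

/-- Local valuation of the Wronskian. -/
lemma val_formula {A E G : k[X]} {q : k} {a : ℕ} (ha : 1 ≤ a) (hA : A = (X - C q) ^ a * E)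
    (hE : E.eval q ≠ 0) (hG0 : G ≠ 0) (hs : G.rootMultiplicity q ≠ a) :
    Wr A G ≠ 0 ∧ (Wr A G).rootMultiplicity q + 1 = G.rootMultiplicity q + a := by
  obtain ⟨Gs, hGs, hnd⟩ := exists_eq_pow_rootMultiplicity_mul_and_not_dvd G hG0 q
  have hGsq : Gs.eval q ≠ 0 := by
    intro h
    exact hnd (dvd_iff_isRoot.2 h)
  obtain ⟨a', rfl⟩ : ∃ a', a = a' + 1 := ⟨a - 1, by omega⟩
  have hT' : derivative (X - C q : k[X]) = 1 := by
    rw [derivative_sub, derivative_X, derivative_C, sub_zero]
  have hid := wr_id (X - C q) E Gs hT' (G.rootMultiplicity q) a'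
  rw [← hGs, ← hA] at hid
  have hKq : (((C ((G.rootMultiplicity q : ℕ) : k) - (C (a' : k) + 1)) * Gs * E +
      (X - C q) * (derivative Gs * E - Gs * derivative E)) : k[X]).eval q ≠ 0 := by
    simp only [eval_add, eval_mul, eval_C, eval_sub, eval_X, sub_self, zero_mul, add_zero,
      eval_one]
    refine mul_ne_zero (mul_ne_zero ?_ hGsq) hE
    rw [sub_ne_zero]
    intro h
    apply hs
    have : ((G.rootMultiplicity q : ℕ) : k) = ((a' + 1 : ℕ) : k) := by
      push_cast
      exact h
    exact_mod_cast this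
  have hW0 : Wr A G ≠ 0 := by
    intro h0
    rw [h0, mul_zero] at hid
    have hK0 : (((C ((G.rootMultiplicity q : ℕ) : k) - (C (a' : k) + 1)) * Gs * E +
      (X - C q) * (derivative Gs * E - Gs * derivative E)) : k[X]) ≠ 0 := by
      intro h; rw [h] at hKq; simp at hKq
    exact (mul_ne_zero (pow_ne_zero _ (X_sub_C_ne_zero q)) hK0) hid.symm
  refine ⟨hW0, ?_⟩
  have h1 : rootMultiplicity q ((X - C q) * Wr A G) = 1 + (Wr A G).rootMultiplicity q := by
    rw [rootMultiplicity_mul (mul_ne_zero (X_sub_C_ne_zero q) hW0), rootMultiplicity_X_sub_C_self]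
  have h2 := rootMult_pow_mul hKq (G.rootMultiplicity q + (a' + 1))
  rw [hid, h2] at h1
  omega

/-- Degree of the Wronskian. -/
lemma deg_formula {A G : k[X]} (hG0 : G ≠ 0) (hA0 : A ≠ 0) (hes : G.natDegree ≠ A.natDegree) :
    Wr A G ≠ 0 ∧ (Wr A G).natDegree + 1 = G.natDegree + A.natDegree := by
  set e := G.natDegree with he
  set s := A.natDegree with hs
  have hid : X * Wr A G = (X * derivative G) * A - G * (X * derivative A) := by
    simp only [Wr]; ring
  have hd1 : (X * derivative G).natDegree ≤ e := by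
    rw [natDegree_le_iff_coeff_eq_zero]
    intro n hn
    rw [coeff_X_mul_derivative, coeff_eq_zero_of_natDegree_lt hn, mul_zero]
  have hd2 : (X * derivative A).natDegree ≤ s := by
    rw [natDegree_le_iff_coeff_eq_zero]
    intro n hn
    rw [coeff_X_mul_derivative, coeff_eq_zero_of_natDegree_lt hn, mul_zero]
  have hc : (X * Wr A G).coeff (e + s) = ((e : k) - (s : k)) * G.coeff e * A.coeff s := by
    rw [hid, coeff_sub, coeff_mul_add_eq_of_natDegree_le hd1 le_rfl,
      coeff_mul_add_eq_of_natDegree_le le_rfl hd2, coeff_X_mul_derivative,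
      coeff_X_mul_derivative]
    ring
  have hc0 : (X * Wr A G).coeff (e + s) ≠ 0 := by
    rw [hc]
    refine mul_ne_zero (mul_ne_zero ?_ ?_) ?_
    · rw [sub_ne_zero]; exact_mod_cast hes
    · exact leadingCoeff_ne_zero.2 hG0
    · exact leadingCoeff_ne_zero.2 hA0
  have hW0 : Wr A G ≠ 0 := by
    rintro h0
    rw [h0, mul_zero, coeff_zero] at hc0
    exact hc0 rfl
  refine ⟨hW0, ?_⟩
  have h1 : e + s ≤ (X * Wr A G).natDegree := le_natDegree_of_ne_zero hc0
  have h2 : (X * Wr A G).natDegree ≤ e + s := by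
    rw [hid]
    refine (natDegree_sub_le _ _).trans (max_le ?_ ?_)
    · exact natDegree_mul_le.trans (by omega)
    · exact natDegree_mul_le.trans (by omega)
  rw [natDegree_X_mul hW0] at h1 h2
  omega

lemma finrank_le_inf_ker_add_one {E : Type*} [AddCommGroup E] [Module k E] (S : Submodule k E)
    [FiniteDimensional k S] (φ : E →ₗ[k] k) :
    Module.finrank k S ≤ Module.finrank k ↥(S ⊓ LinearMap.ker φ) + 1 := by
  let ψ : S →ₗ[k] k := φ ∘ₗ S.subtype
  have hker : LinearMap.ker ψ = (S ⊓ LinearMap.ker φ).comap S.subtype := by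
    ext x
    simp [ψ]
  have hfin : Module.finrank k (LinearMap.ker ψ) = Module.finrank k ↥(S ⊓ LinearMap.ker φ) := by
    rw [hker]
    exact (Submodule.comapSubtypeEquivOfLe inf_le_left).finrank_eq
  have hrn := LinearMap.finrank_range_add_finrank_ker ψ
  have hr : Module.finrank k (LinearMap.range ψ) ≤ 1 := by
    have := Submodule.finrank_le (LinearMap.range ψ)
    simpa using this
  omega

lemma count (f : ℕ → ℕ) (N e : ℕ) (he : e ≤ N) (h0 : f 0 = N) (hN1 : f (N + 1) = 0)
    (hanti : ∀ n, f (n + 1) ≤ f n) (hstep : ∀ n, f n ≤ f (n + 1) + 1)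
    (hee : f e = f (e + 1)) (n : ℕ) : f n = if n ≤ e then N - n else N + 1 - n := by
  have gen : ∀ j n, f (n + j) ≤ f n ∧ f n ≤ f (n + j) + j := by
    intro j
    induction j with
    | zero => intro n; simp
    | succ j ih =>
      intro n
      have h1 := ih n
      have h2 := hanti (n + j)
      have h3 := hstep (n + j)
      rw [← add_assoc]
      omega
  split_ifs with hn
  · have h1 := (gen n 0).2
    have h2 := (gen (e - n) n).2
    have h3 := (gen (N - e) (e + 1)).2
    rw [zero_add] at h1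
    rw [show n + (e - n) = e by omega] at h2
    rw [show e + 1 + (N - e) = N + 1 by omega] at h3
    omega
  · by_cases hn2 : n ≤ N + 1
    · have h1 := (gen (N + 1 - n) n).2
      have h2 := (gen (n - (e + 1)) (e + 1)).2
      have h3 := (gen e 0).2
      rw [show n + (N + 1 - n) = N + 1 by omega] at h1
      rw [show e + 1 + (n - (e + 1)) = n by omega] at h2
      rw [zero_add] at h3
      omega
    · have h1 := (gen (n - (N + 1)) (N + 1)).1
      rw [show N + 1 + (n - (N + 1)) = n by omega] at h1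
      omega


section cfg
variable {m : ℕ} (r : Fin m → k) (a : Fin m → ℕ)

lemma eval_Ei_ne_zero (hr : Function.Injective r) (i : Fin m) : (Ei r a i).eval (r i) ≠ 0 := by
  unfold Ei
  rw [eval_prod, Finset.prod_ne_zero_iff]
  intro j hj
  simp only [eval_pow, eval_sub, eval_X, eval_C]
  apply pow_ne_zero
  rw [sub_ne_zero]
  intro h
  exact (Finset.ne_of_mem_erase hj) (hr h).symm

lemma eval_Bi_ne_zero (hr : Function.Injective r) (i : Fin m) : (Bi r i).eval (r i) ≠ 0 := by
  unfold Bi
  rw [eval_prod, Finset.prod_ne_zero_iff]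
  intro j hj
  simp only [eval_sub, eval_X, eval_C]
  rw [sub_ne_zero]
  intro h
  exact (Finset.ne_of_mem_erase hj) (hr h).symm

lemma BB_ne_zero : BB r ≠ 0 := by
  unfold BB
  rw [Finset.prod_ne_zero_iff]
  intro j _
  exact X_sub_C_ne_zero _

lemma monic_AA : (AA r a).Monic :=
  monic_prod_of_monic _ _ (fun j _ => (monic_X_sub_C (r j)).pow (a j))

lemma natDegree_AA : (AA r a).natDegree = ∑ j, a j := by
  unfold AA
  rw [natDegree_prod_of_monic _ _ (fun j _ => (monic_X_sub_C (r j)).pow (a j))]
  apply Finset.sum_congr rfl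
  intro j _
  rw [natDegree_pow, natDegree_X_sub_C, mul_one]

lemma natDegree_BB : (BB r).natDegree = m := by
  unfold BB
  rw [natDegree_prod_of_monic _ _ (fun j _ => monic_X_sub_C (r j))]
  simp

lemma rel_ne_zero {h G : k[X]} (h0 : h ≠ 0) (hrel : h * AA r a = BB r * Wr (AA r a) G) (c : k) :
    G - C c * AA r a ≠ 0 := by
  intro hG
  have : G = C c * AA r a := sub_eq_zero.1 hG
  rw [this, Wr_C_mul, Wr_self, mul_zero, mul_zero] at hrel
  exact h0 ((mul_eq_zero.1 hrel).resolve_right (AA_ne_zero r a))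

lemma rel_sub {h G : k[X]} (hrel : h * AA r a = BB r * Wr (AA r a) G) (c : k) :
    h * AA r a = BB r * Wr (AA r a) (G - C c * AA r a) := by
  rw [Wr_sub, Wr_C_mul, Wr_self, mul_zero, sub_zero]
  exact hrel

lemma mem_degLT_sub {N : ℕ} (hN : (∑ j, a j) ≤ N) {G : k[X]} (hG : G ∈ degreeLT k (N + 1))
    (c : k) : G - C c * AA r a ∈ degreeLT k (N + 1) := by
  refine Submodule.sub_mem _ hG ?_
  apply mem_degLT_of_natDegree_le
  exact (natDegree_C_mul_le _ _).trans ((natDegree_AA_le r a).trans hN)

/-- Vanishing orders at a marked point. -/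
lemma M_loc (hr : Function.Injective r) {b N : ℕ} (hN : (∑ j, a j) + b = N)
    (ha : ∀ j, 1 ≤ a j) (i : Fin m) {h : k[X]} (hV : h ∈ VV r a b) (h0 : h ≠ 0) :
    h.rootMultiplicity (r i) ≠ a i ∧ h.rootMultiplicity (r i) ≤ N := by
  obtain ⟨P, hP, hrel⟩ := VV_le_RR r a (le_of_eq hN) hV
  have hA : AA r a = (X - C (r i)) ^ a i * Ei r a i := by rw [AA_eq r a i, mul_comm]
  have hEq := eval_Ei_ne_zero r a hr i
  have hBq := eval_Bi_ne_zero r hr i
  have hP0 : P ≠ 0 := by simpa using rel_ne_zero r a h0 hrel 0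
  -- good primitive
  obtain ⟨G, hG0, hG, hrelG, hvG⟩ : ∃ G : k[X], G ≠ 0 ∧ G ∈ degreeLT k (N + 1) ∧
      h * AA r a = BB r * Wr (AA r a) G ∧ G.rootMultiplicity (r i) ≠ a i := by
    by_cases hv : P.rootMultiplicity (r i) = a i
    · obtain ⟨Pa, hPa, _⟩ := exists_eq_pow_rootMultiplicity_mul_and_not_dvd P hP0 (r i)
      rw [hv] at hPa
      set c := Pa.eval (r i) / (Ei r a i).eval (r i) with hc
      have hG0 := rel_ne_zero r a h0 hrel c
      refine ⟨P - C c * AA r a, hG0, mem_degLT_sub r a (by omega) hP c, rel_sub r a hrel c, ?_⟩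
      have hdvd : (X - C (r i)) ^ (a i + 1) ∣ P - C c * AA r a := by
        have e1 : P - C c * AA r a = (X - C (r i)) ^ a i * (Pa - C c * Ei r a i) := by
          rw [hA]
          conv_lhs => rw [hPa]
          ring
        rw [e1, pow_succ]
        apply mul_dvd_mul_left
        rw [dvd_iff_isRoot, IsRoot, eval_sub, eval_mul, eval_C, hc, div_mul_cancel₀ _ hEq,
          sub_self]
      have := (le_rootMultiplicity_iff hG0).2 hdvd
      omega
    · exact ⟨P, hP0, hP, hrel, hv⟩
  obtain ⟨hW0, hvW⟩ := val_formula (ha i) hA hEq hG0 hvG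
  have hvA : (AA r a).rootMultiplicity (r i) = a i := by
    rw [hA]; exact rootMult_pow_mul hEq _
  have hvB : (BB r).rootMultiplicity (r i) = 1 := by
    have : BB r = (X - C (r i)) ^ 1 * Bi r i := by rw [BB_eq r i, pow_one, mul_comm]
    rw [this]; exact rootMult_pow_mul hBq _
  have h1 : rootMultiplicity (r i) (h * AA r a) = h.rootMultiplicity (r i) + a i := by
    rw [rootMultiplicity_mul (mul_ne_zero h0 (AA_ne_zero r a)), hvA]
  have h2 : rootMultiplicity (r i) (BB r * Wr (AA r a) G) =
      1 + (Wr (AA r a) G).rootMultiplicity (r i) := by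
    rw [rootMultiplicity_mul (mul_ne_zero (BB_ne_zero r) hW0), hvB]
  rw [hrelG, h2] at h1
  have hvh : h.rootMultiplicity (r i) = G.rootMultiplicity (r i) := by omega
  refine ⟨by rw [hvh]; exact hvG, ?_⟩
  rw [hvh]
  have hd : (X - C (r i)) ^ G.rootMultiplicity (r i) ∣ G := pow_rootMultiplicity_dvd G (r i)
  have := natDegree_le_of_dvd hd hG0
  rw [natDegree_pow, natDegree_X_sub_C, mul_one] at this
  have h3 : G.natDegree < N + 1 := by
    rw [mem_degreeLT] at hG
    exact (natDegree_lt_iff_degree_lt hG0).2 hG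
  omega

/-- Degrees of members (vanishing orders at infinity). -/
lemma M_inf {b N : ℕ} (hN : (∑ j, a j) + b = N) {h : k[X]} (hV : h ∈ VV r a b) (h0 : h ≠ 0) :
    ∃ e : ℕ, e ≤ N ∧ e ≠ ∑ j, a j ∧ h.natDegree + 1 = m + e := by
  obtain ⟨P, hP, hrel⟩ := VV_le_RR r a (le_of_eq hN) hV
  have hP0 : P ≠ 0 := by simpa using rel_ne_zero r a h0 hrel 0
  have hsA := natDegree_AA r a
  obtain ⟨G, hG0, hG, hrelG, hvG⟩ : ∃ G : k[X], G ≠ 0 ∧ G ∈ degreeLT k (N + 1) ∧
      h * AA r a = BB r * Wr (AA r a) G ∧ G.natDegree ≠ (AA r a).natDegree := by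
    by_cases hv : P.natDegree = (AA r a).natDegree
    · set c := P.coeff (AA r a).natDegree with hc
      have hG0 := rel_ne_zero r a h0 hrel c
      refine ⟨P - C c * AA r a, hG0, mem_degLT_sub r a (by omega) hP c, rel_sub r a hrel c, ?_⟩
      intro hdeg
      have hlc : (P - C c * AA r a).coeff (AA r a).natDegree = 0 := by
        rw [coeff_sub, coeff_C_mul, coeff_natDegree, (monic_AA r a).leadingCoeff, mul_one, hc,
          sub_self]
      rw [← hdeg, coeff_natDegree, leadingCoeff_eq_zero] at hlc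
      exact hG0 hlc
    · exact ⟨P, hP0, hP, hrel, hv⟩
  obtain ⟨hW0, hdW⟩ := deg_formula hG0 (AA_ne_zero r a) hvG
  have h1 : (h * AA r a).natDegree = h.natDegree + (AA r a).natDegree :=
    natDegree_mul h0 (AA_ne_zero r a)
  have h2 : (BB r * Wr (AA r a) G).natDegree = m + (Wr (AA r a) G).natDegree := by
    rw [natDegree_mul (BB_ne_zero r) hW0, natDegree_BB]
  rw [hrelG, h2] at h1
  have h3 : G.natDegree < N + 1 := by
    rw [mem_degreeLT] at hG
    exact (natDegree_lt_iff_degree_lt hG0).2 hG
  refine ⟨G.natDegree, by omega, by rw [← hsA]; exact hvG, by omega⟩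

lemma span1_anti (q : k) {n n' : ℕ} (h : n ≤ n') :
    (Ideal.span {(X - C q) ^ n'}).restrictScalars k ≤
      (Ideal.span {(X - C q) ^ n}).restrictScalars k := by
  intro x hx
  exact mem_span1.2 ((pow_dvd_pow _ h).trans (mem_span1.1 hx))

lemma step_loc (S : Submodule k k[X]) [FiniteDimensional k S] (q : k) (n : ℕ) :
    Module.finrank k ↥(S ⊓ (Ideal.span {(X - C q) ^ n}).restrictScalars k) ≤
      Module.finrank k ↥(S ⊓ (Ideal.span {(X - C q) ^ (n + 1)}).restrictScalars k) + 1 := by
  let φ : k[X] →ₗ[k] k := (lcoeff k n) ∘ₗ (taylor q)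
  have h1 := finrank_le_inf_ker_add_one
    (S ⊓ (Ideal.span {(X - C q) ^ n}).restrictScalars k) φ
  have hle : (S ⊓ (Ideal.span {(X - C q) ^ n}).restrictScalars k) ⊓ LinearMap.ker φ ≤
      S ⊓ (Ideal.span {(X - C q) ^ (n + 1)}).restrictScalars k := by
    rintro h ⟨⟨hS, hd⟩, hker⟩
    refine ⟨hS, ?_⟩
    rw [SetLike.mem_coe, mem_span1] at hd ⊢
    rw [X_sub_C_pow_dvd_iff, X_pow_dvd_iff] at hd ⊢
    intro j hj
    by_cases hjn : j < n
    · exact hd j hjn
    · have : j = n := by omega
      subst this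
      have := LinearMap.mem_ker.1 hker
      simpa [φ, taylor_apply] using this
  have h2 := Submodule.finrank_mono hle
  omega

lemma step_inf (S : Submodule k k[X]) [FiniteDimensional k S] (s : ℕ) :
    Module.finrank k ↥(S ⊓ degreeLT k (s + 1)) ≤ Module.finrank k ↥(S ⊓ degreeLT k s) + 1 := by
  have h1 := finrank_le_inf_ker_add_one (S ⊓ degreeLT k (s + 1)) (lcoeff k s)
  have hle : (S ⊓ degreeLT k (s + 1)) ⊓ LinearMap.ker (lcoeff k s) ≤ S ⊓ degreeLT k s := by
    rintro h ⟨⟨hS, hd⟩, hker⟩
    refine ⟨hS, ?_⟩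
    rw [SetLike.mem_coe, mem_degreeLT, degree_lt_iff_coeff_zero] at hd ⊢
    intro j hj
    by_cases hjs : s + 1 ≤ j
    · exact hd j hjs
    · have : j = s := by omega
      subst this
      exact LinearMap.mem_ker.1 hker
  have h2 := Submodule.finrank_mono hle
  omega

theorem main3 (hr : Function.Injective r) (ha : ∀ j, 1 ≤ a j) (b : ℕ) (hb : 1 ≤ b) (N d : ℕ)
    (hN : N = (∑ j, a j) + b) (hd : d + 1 = (∑ j, (a j + 1)) + b)
    (V : Submodule k (Polynomial k))
    (hV : V = (Polynomial.degreeLT k b).map (LinearMap.mulLeft k (∏ j, (X - C (r j)) ^ (a j + 1))) ⊔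
      ⨆ i, (Polynomial.degreeLT k (a i)).map
        (LinearMap.mulLeft k (∏ j ∈ Finset.univ.erase i, (X - C (r j)) ^ (a j + 1)))) :
    Module.finrank k ↥V = N ∧
    (∀ (i : Fin m) (n : ℕ), Module.finrank k ↥(V ⊓ (Ideal.span {(X - C (r i)) ^ n}).restrictScalars k) =
        if n ≤ a i then N - n else N + 1 - n) ∧
    (∀ n : ℕ, Module.finrank k ↥(V ⊓ Polynomial.degreeLT k (d + 1 - n)) =
        if n ≤ b then N - n else N + 1 - n) := by
  have hV' : V = VV r a b := hV
  subst hV'
  have hN' : (∑ j, a j) + b = N := hN.symm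
  have hfr := finrank_VV r a hr b
  have hfd : FiniteDimensional k (VV r a b) :=
    Module.finite_of_finrank_pos (by rw [hfr]; omega)
  have hd' : d + 1 = (∑ j, a j) + m + b := by
    rw [hd, Finset.sum_add_distrib]
    simp
  refine ⟨by rw [hfr, hN'], ?_, ?_⟩
  · intro i n
    apply count (fun n => Module.finrank k
      ↥(VV r a b ⊓ (Ideal.span {(X - C (r i)) ^ n}).restrictScalars k)) N (a i)
    · have := Finset.single_le_sum (f := a) (fun j _ => Nat.zero_le _) (Finset.mem_univ i)
      omega
    · show Module.finrank k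
        ↥(VV r a b ⊓ (Ideal.span {(X - C (r i)) ^ 0}).restrictScalars k) = N
      rw [pow_zero, Ideal.span_singleton_one, Submodule.restrictScalars_top, inf_top_eq, hfr, hN']
    · show Module.finrank k
        ↥(VV r a b ⊓ (Ideal.span {(X - C (r i)) ^ (N + 1)}).restrictScalars k) = 0
      have : VV r a b ⊓ (Ideal.span {(X - C (r i)) ^ (N + 1)}).restrictScalars k = ⊥ := by
        rw [eq_bot_iff]
        rintro h ⟨hhV, hdv⟩
        rw [Submodule.mem_bot]
        by_contra h0
        have h1 := (M_loc r a hr hN' ha i hhV h0).2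
        have h2 := (le_rootMultiplicity_iff h0).2 (mem_span1.1 hdv)
        omega
      rw [this, finrank_bot]
    · intro n
      apply Submodule.finrank_mono
      exact inf_le_inf_left _ (span1_anti _ (Nat.le_succ n))
    · intro n
      exact step_loc _ _ _
    · show Module.finrank k
        ↥(VV r a b ⊓ (Ideal.span {(X - C (r i)) ^ (a i)}).restrictScalars k) =
        Module.finrank k
        ↥(VV r a b ⊓ (Ideal.span {(X - C (r i)) ^ (a i + 1)}).restrictScalars k)
      have heq : VV r a b ⊓ (Ideal.span {(X - C (r i)) ^ (a i)}).restrictScalars k =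
          VV r a b ⊓ (Ideal.span {(X - C (r i)) ^ (a i + 1)}).restrictScalars k := by
        apply le_antisymm
        · rintro h ⟨hhV, hdv⟩
          refine ⟨hhV, ?_⟩
          rw [SetLike.mem_coe, mem_span1] at hdv ⊢
          by_cases h0 : h = 0
          · rw [h0]; exact dvd_zero _
          · have h1 := (M_loc r a hr hN' ha i hhV h0).1
            have h2 := (le_rootMultiplicity_iff h0).2 hdv
            exact (le_rootMultiplicity_iff h0).1 (by omega)
        · exact inf_le_inf_left _ (span1_anti _ (Nat.le_succ _))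
      rw [heq]
  · intro n
    apply count (fun n => Module.finrank k ↥(VV r a b ⊓ degreeLT k (d + 1 - n))) N b
    · omega
    · show Module.finrank k ↥(VV r a b ⊓ degreeLT k (d + 1 - 0)) = N
      have : VV r a b ⊓ degreeLT k (d + 1 - 0) = VV r a b := by
        rw [inf_eq_left]
        intro h hh
        by_cases h0 : h = 0
        · rw [h0]; exact Submodule.zero_mem _
        · obtain ⟨e, he1, he2, he3⟩ := M_inf r a hN' hh h0
          rw [mem_degreeLT]
          apply (natDegree_lt_iff_degree_lt h0).1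
          omega
      rw [this, hfr, hN']
    · show Module.finrank k ↥(VV r a b ⊓ degreeLT k (d + 1 - (N + 1))) = 0
      have : VV r a b ⊓ degreeLT k (d + 1 - (N + 1)) = ⊥ := by
        rw [eq_bot_iff]
        rintro h ⟨hhV, hdv⟩
        rw [Submodule.mem_bot]
        by_contra h0
        obtain ⟨e, he1, he2, he3⟩ := M_inf r a hN' hhV h0
        rw [SetLike.mem_coe, mem_degreeLT] at hdv
        have := (natDegree_lt_iff_degree_lt h0).2 hdv
        omega
      rw [this, finrank_bot]
    · intro n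
      apply Submodule.finrank_mono
      apply inf_le_inf_left
      exact degreeLT_mono (by omega)
    · intro n
      show Module.finrank k ↥(VV r a b ⊓ degreeLT k (d + 1 - n)) ≤
        Module.finrank k ↥(VV r a b ⊓ degreeLT k (d + 1 - (n + 1))) + 1
      by_cases hn : n ≤ d
      · have e1 : d + 1 - n = (d - n) + 1 := by omega
        have e2 : d + 1 - (n + 1) = d - n := by omega
        rw [e1, e2]
        exact step_inf _ _
      · have e1 : d + 1 - n = 0 := by omega
        have e2 : d + 1 - (n + 1) = 0 := by omega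
        rw [e1, e2]
        omega
    · show Module.finrank k ↥(VV r a b ⊓ degreeLT k (d + 1 - b)) =
        Module.finrank k ↥(VV r a b ⊓ degreeLT k (d + 1 - (b + 1)))
      have heq : VV r a b ⊓ degreeLT k (d + 1 - b) = VV r a b ⊓ degreeLT k (d + 1 - (b + 1)) := by
        apply le_antisymm
        · rintro h ⟨hhV, hdv⟩
          refine ⟨hhV, ?_⟩
          by_cases h0 : h = 0
          · rw [h0]; exact Submodule.zero_mem _
          · obtain ⟨e, he1, he2, he3⟩ := M_inf r a hN' hhV h0
            rw [SetLike.mem_coe, mem_degreeLT] at hdv ⊢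
            have := (natDegree_lt_iff_degree_lt h0).2 hdv
            apply (natDegree_lt_iff_degree_lt h0).1
            omega
        · exact inf_le_inf_left _ (degreeLT_mono (by omega))
      rw [heq]

end cfg

end

end Groth.Agent.H9.RamP
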