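import Mathlib
import Groth.Agent.Lib.Helper9.Misc.RamP3

/-! Helper9: weights of V(-p) at marked points (S17246). -/

namespace Groth.Agent.H9.RamP

open Polynomial

universe u

section comb

lemma sum_ind (M e : ℕ) : ∑ n ∈ Finset.range M, (if e ≤ n then 1 else 0) = M - e := by
  induction M with
  | zero => simp
  | succ M ih =>
    rw [Finset.sum_range_succ, ih]
    split_ifs <;> omega

lemma W0 (φ : ℕ → ℕ) (M e : ℕ)
    (h : ∀ n, n < M → φ (n + 1) = (M - 1 - n) + (if e ≤ n then 1 else 0)) :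
    ∑ n ∈ Finset.range M, φ (n + 1) = M.choose 2 + (M - e) := by
  rw [Finset.sum_congr rfl (fun n hn => h n (Finset.mem_range.1 hn)), Finset.sum_add_distrib,
    sum_ind, Finset.sum_range_reflect (fun j => j) M, Finset.sum_range_id, Nat.choose_two_right]

lemma gen_ineq (f : ℕ → ℕ) (hanti : ∀ n, f (n + 1) ≤ f n) (hstep : ∀ n, f n ≤ f (n + 1) + 1) :
    ∀ j n, f (n + j) ≤ f n ∧ f n ≤ f (n + j) + j := by
  intro j
  induction j with
  | zero => intro n; simp
  | succ j ih =>
    intro n
    have h1 := ih n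
    have h2 := hanti (n + j)
    have h3 := hstep (n + j)
    rw [← add_assoc]
    omega

lemma wt_loc (φ : ℕ → ℕ) (N e d : ℕ) (he : e + 1 ≤ N) (hd : N ≤ d) (F0 : φ 0 = N - 1)
    (F1 : ∀ n, φ (n + 1) ≤ φ n) (F2 : ∀ n, φ n ≤ φ (n + 1) + 1) (F3 : φ e = φ (e + 1))
    (F4 : ∀ n, N + 1 ≤ n → φ n = 0) (F5 : e + 1 < N → φ (N - 1) ≤ 1)
    (F6 : e + 1 = N → φ N = 0) :
    ∃ ε : ℕ, ε ≤ 1 ∧ (∑ n ∈ Finset.range d, φ (n + 1)) + 1 = (N - 1).choose 2 + (N - e) + ε := by
  have gen := gen_ineq φ F1 F2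
  have hφN : φ N ≤ 1 := by
    have := (gen 1 N).2
    rw [F4 (N + 1) le_rfl] at this
    omega
  have vals : ∀ n, n < N - 1 → φ (n + 1) = (N - 1 - 1 - n) + (if e + 1 ≤ n + 1 then 1 else 0) := by
    intro n hn
    have l1 := (gen (n + 1) 0).2
    rw [zero_add] at l1
    by_cases hcase : e + 1 < N
    · have h5 := F5 hcase
      split_ifs with hk
      · have u1 := (gen (N - 1 - (n + 1)) (n + 1)).2
        rw [show n + 1 + (N - 1 - (n + 1)) = N - 1 by omega] at u1
        have l2 := (gen e 0).2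
        rw [zero_add] at l2
        have l3 := (gen (n + 1 - (e + 1)) (e + 1)).2
        rw [show e + 1 + (n + 1 - (e + 1)) = n + 1 by omega] at l3
        omega
      · have u1 := (gen (e - (n + 1)) (n + 1)).2
        rw [show n + 1 + (e - (n + 1)) = e by omega] at u1
        have u2 := (gen (N - 1 - (e + 1)) (e + 1)).2
        rw [show e + 1 + (N - 1 - (e + 1)) = N - 1 by omega] at u2
        omega
    · have heN : e + 1 = N := by omega
      have h6 := F6 heN
      rw [if_neg (by omega)]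
      have u1 := (gen (e - (n + 1)) (n + 1)).2
      rw [show n + 1 + (e - (n + 1)) = e by omega] at u1
      rw [← heN] at h6
      omega
  refine ⟨φ N, hφN, ?_⟩
  obtain ⟨d', rfl⟩ : ∃ d', d = (N - 1) + (1 + d') := ⟨d - N, by omega⟩
  rw [Finset.sum_range_add, Finset.sum_range_add, Finset.sum_range_one]
  have hz : ∑ x ∈ Finset.range d', φ (N - 1 + (1 + x) + 1) = 0 := by
    apply Finset.sum_eq_zero
    intro x _
    exact F4 _ (by omega)
  rw [hz, add_zero]
  have hW := W0 φ (N - 1) e (fun n hn => by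
    rw [vals n hn]
    congr 1
    simp only [Nat.add_le_add_iff_right])
  rw [hW, show N - 1 + 0 + 1 = N by omega]
  omega

lemma wt0 (φ : ℕ → ℕ) (N : ℕ) (hN : 1 ≤ N) (F0 : φ 0 = N - 1)
    (F2 : ∀ n, φ n ≤ φ (n + 1) + 1) (F1 : ∀ n, φ (n + 1) ≤ φ n) (F7 : φ (N - 1) = 0) :
    (∑ n ∈ Finset.range (N - 1), φ (n + 1)) = (N - 1).choose 2 := by
  have gen := gen_ineq φ F1 F2
  have hW := W0 φ (N - 1) (N - 1) (fun n hn => by
    rw [if_neg (by omega), add_zero]
    have l1 := (gen (n + 1) 0).2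
    rw [zero_add] at l1
    have u1 := (gen (N - 1 - (n + 1)) (n + 1)).2
    rw [show n + 1 + (N - 1 - (n + 1)) = N - 1 by omega] at u1
    omega)
  rw [hW]
  omega

end comb

section geom
set_option linter.unusedSectionVars false
set_option linter.unusedSimpArgs false
variable {k : Type u} [Field k] [CharZero k] {m : ℕ} (r : Fin m → k) (a : Fin m → ℕ)

lemma good_loc (hr : Function.Injective r) {b N : ℕ} (hN : (∑ j, a j) + b = N)
    (ha : ∀ j, 1 ≤ a j) (i : Fin m) {h : k[X]} (hV : h ∈ VV r a b) (h0 : h ≠ 0) :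
    ∃ G : k[X], G ≠ 0 ∧ G ∈ degreeLT k (N + 1) ∧ h * AA r a = BB r * Wr (AA r a) G ∧
      G.rootMultiplicity (r i) = h.rootMultiplicity (r i) := by
  obtain ⟨P, hP, hrel⟩ := VV_le_RR r a (le_of_eq hN) hV
  have hA : AA r a = (X - C (r i)) ^ a i * Ei r a i := by rw [AA_eq r a i, mul_comm]
  have hEq := eval_Ei_ne_zero r a hr i
  have hBq := eval_Bi_ne_zero r hr i
  have hP0 : P ≠ 0 := by simpa using rel_ne_zero r a h0 hrel 0
  obtain ⟨G, hG0, hG, hrelG, hvG⟩ : ∃ G : k[X], G ≠ 0 ∧ G ∈ degreeLT k (N + 1) ∧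
      h * AA r a = BB r * Wr (AA r a) G ∧ G.rootMultiplicity (r i) ≠ a i := by
    by_cases hv : P.rootMultiplicity (r i) = a i
    · obtain ⟨Pa, hPa, _⟩ := exists_eq_pow_rootMultiplicity_mul_and_not_dvd P hP0 (r i)
      rw [hv] at hPa
      set c := Pa.eval (r i) / (Ei r a i).eval (r i) with hc
      have hG0 := rel_ne_zero r a h0 hrel c
      refine ⟨P - C c * AA r a, hG0, mem_degLT_sub r a (by omega) hP c, rel_sub r a hrel c, ?_⟩
      have hdvd : (X - C (r i)) ^ (a i + 1) ∣ P - C c * AA r a := by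
        have e1 : P - C c * AA r a = (X - C (r i)) ^ a i * (Pa - C c * Ei r a i) := by
          rw [hA]
          conv_lhs => rw [hPa]
          ring
        rw [e1, pow_succ]
        apply mul_dvd_mul_left
        rw [dvd_iff_isRoot, IsRoot, eval_sub, eval_mul, eval_C, hc, div_mul_cancel₀ _ hEq,
          sub_self]
      have := (le_rootMultiplicity_iff hG0).2 hdvd
      omega
    · exact ⟨P, hP0, hP, hrel, hv⟩
  obtain ⟨hW0, hvW⟩ := val_formula (ha i) hA hEq hG0 hvG
  have hvA : (AA r a).rootMultiplicity (r i) = a i := by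
    rw [hA]; exact rootMult_pow_mul hEq _
  have hvB : (BB r).rootMultiplicity (r i) = 1 := by
    have : BB r = (X - C (r i)) ^ 1 * Bi r i := by rw [BB_eq r i, pow_one, mul_comm]
    rw [this]; exact rootMult_pow_mul hBq _
  have h1 : rootMultiplicity (r i) (h * AA r a) = h.rootMultiplicity (r i) + a i := by
    rw [rootMultiplicity_mul (mul_ne_zero h0 (AA_ne_zero r a)), hvA]
  have h2 : rootMultiplicity (r i) (BB r * Wr (AA r a) G) =
      1 + (Wr (AA r a) G).rootMultiplicity (r i) := by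
    rw [rootMultiplicity_mul (mul_ne_zero (BB_ne_zero r) hW0), hvB]
  rw [hrelG, h2] at h1
  exact ⟨G, hG0, hG, hrelG, by omega⟩

lemma good_inf {b N : ℕ} (hN : (∑ j, a j) + b = N) {h : k[X]} (hV : h ∈ VV r a b)
    (h0 : h ≠ 0) :
    ∃ G : k[X], G ≠ 0 ∧ G ∈ degreeLT k (N + 1) ∧ h * AA r a = BB r * Wr (AA r a) G ∧
      h.natDegree + 1 = m + G.natDegree := by
  obtain ⟨P, hP, hrel⟩ := VV_le_RR r a (le_of_eq hN) hV
  have hP0 : P ≠ 0 := by simpa using rel_ne_zero r a h0 hrel 0
  obtain ⟨G, hG0, hG, hrelG, hvG⟩ : ∃ G : k[X], G ≠ 0 ∧ G ∈ degreeLT k (N + 1) ∧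
      h * AA r a = BB r * Wr (AA r a) G ∧ G.natDegree ≠ (AA r a).natDegree := by
    by_cases hv : P.natDegree = (AA r a).natDegree
    · set c := P.coeff (AA r a).natDegree with hc
      have hG0 := rel_ne_zero r a h0 hrel c
      refine ⟨P - C c * AA r a, hG0, mem_degLT_sub r a (by omega) hP c, rel_sub r a hrel c, ?_⟩
      intro hdeg
      have hlc : (P - C c * AA r a).coeff (AA r a).natDegree = 0 := by
        rw [coeff_sub, coeff_C_mul, coeff_natDegree, (monic_AA r a).leadingCoeff, mul_one, hc,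
          sub_self]
      rw [← hdeg, coeff_natDegree, leadingCoeff_eq_zero] at hlc
      exact hG0 hlc
    · exact ⟨P, hP0, hP, hrel, hv⟩
  obtain ⟨hW0, hdW⟩ := deg_formula hG0 (AA_ne_zero r a) hvG
  have h1 : (h * AA r a).natDegree = h.natDegree + (AA r a).natDegree :=
    natDegree_mul h0 (AA_ne_zero r a)
  have h2 : (BB r * Wr (AA r a) G).natDegree = m + (Wr (AA r a) G).natDegree := by
    rw [natDegree_mul (BB_ne_zero r) hW0, natDegree_BB]
  rw [hrelG, h2] at h1
  exact ⟨G, hG0, hG, hrelG, by omega⟩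

lemma line_core {p q : k} (hp : ∀ j, p ≠ r j) (hqp : q ≠ p) {n' : ℕ} {h1 h2 : k[X]}
    {α1 β1 α2 β2 : k}
    (rel1 : h1 * AA r a = BB r * Wr (AA r a) ((X - C q) ^ (n' + 1) * (C α1 * X + C β1)))
    (rel2 : h2 * AA r a = BB r * Wr (AA r a) ((X - C q) ^ (n' + 1) * (C α2 * X + C β2)))
    (h1p : h1.eval p = 0) (h2p : h2.eval p = 0) (h10 : h1 ≠ 0) : ∃ c : k, h2 = c • h1 := by
  have hAp := eval_AA_ne_zero r a hp
  have hpq : (p - q) ≠ 0 := sub_ne_zero.2 hqp.symm
  have ext : ∀ (h : k[X]) (α β : k),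
      h * AA r a = BB r * Wr (AA r a) ((X - C q) ^ (n' + 1) * (C α * X + C β)) →
      h.eval p = 0 →
        α * ((((n' : k) + 1) * p + (p - q)) * (AA r a).eval p -
            (p - q) * p * (derivative (AA r a)).eval p) +
          β * (((n' : k) + 1) * (AA r a).eval p - (p - q) * (derivative (AA r a)).eval p) = 0 := by
    intro h α β hrel hhp
    have hW := eval_Wr_zero r a hrel hp hhp
    rw [Wr_pow_mul] at hW
    simp only [eval_mul, eval_pow, eval_sub, eval_X, eval_C, eval_add, derivative_C, mul_zero,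
      add_zero, eval_one, derivative_add, derivative_mul, derivative_X, zero_mul, zero_add,
      mul_one] at hW
    have h1 := (mul_eq_zero.1 hW).resolve_left (pow_ne_zero _ hpq)
    linear_combination h1
  have e1 := ext h1 α1 β1 rel1 h1p
  have e2 := ext h2 α2 β2 rel2 h2p
  set w1 := (((n' : k) + 1) * p + (p - q)) * (AA r a).eval p -
            (p - q) * p * (derivative (AA r a)).eval p with hw1
  set w0 := ((n' : k) + 1) * (AA r a).eval p - (p - q) * (derivative (AA r a)).eval p with hw0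
  have hw : w1 - p * w0 = (p - q) * (AA r a).eval p := by
    rw [hw1, hw0]; ring
  have hdet : α1 * β2 - α2 * β1 = 0 := by
    have d1 : (α1 * β2 - α2 * β1) * w1 = 0 := by linear_combination β2 * e1 - β1 * e2
    have d0 : (α1 * β2 - α2 * β1) * w0 = 0 := by linear_combination - α2 * e1 + α1 * e2
    have d : (α1 * β2 - α2 * β1) * ((p - q) * (AA r a).eval p) = 0 := by
      rw [← hw]; linear_combination d1 - p * d0
    exact (mul_eq_zero.1 d).resolve_right (mul_ne_zero hpq hAp)
  exact prop_end r a rel1 rel2 hdet h10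

lemma line_core0 {p : k} (hp : ∀ j, p ≠ r j) {h1 h2 : k[X]} {α1 β1 α2 β2 : k}
    (rel1 : h1 * AA r a = BB r * Wr (AA r a) (C α1 * X + C β1))
    (rel2 : h2 * AA r a = BB r * Wr (AA r a) (C α2 * X + C β2))
    (h1p : h1.eval p = 0) (h2p : h2.eval p = 0) (h10 : h1 ≠ 0) : ∃ c : k, h2 = c • h1 := by
  have hAp := eval_AA_ne_zero r a hp
  have ext : ∀ (h : k[X]) (α β : k),
      h * AA r a = BB r * Wr (AA r a) (C α * X + C β) → h.eval p = 0 →
        α * ((AA r a).eval p - p * (derivative (AA r a)).eval p) +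
          β * (- (derivative (AA r a)).eval p) = 0 := by
    intro h α β hrel hhp
    have hW := eval_Wr_zero r a hrel hp hhp
    simp only [Wr, eval_mul, eval_sub, eval_X, eval_C, eval_add, derivative_C, mul_zero,
      add_zero, eval_one, derivative_add, derivative_mul, derivative_X, zero_mul, zero_add,
      mul_one] at hW
    linear_combination hW
  have e1 := ext h1 α1 β1 rel1 h1p
  have e2 := ext h2 α2 β2 rel2 h2p
  set w1 := (AA r a).eval p - p * (derivative (AA r a)).eval p with hw1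
  set w0 := - (derivative (AA r a)).eval p with hw0
  have hw : w1 - p * w0 = (AA r a).eval p := by
    rw [hw1, hw0]; ring
  have hdet : α1 * β2 - α2 * β1 = 0 := by
    have d1 : (α1 * β2 - α2 * β1) * w1 = 0 := by linear_combination β2 * e1 - β1 * e2
    have d0 : (α1 * β2 - α2 * β1) * w0 = 0 := by linear_combination - α2 * e1 + α1 * e2
    have d : (α1 * β2 - α2 * β1) * ((AA r a).eval p) = 0 := by
      rw [← hw]; linear_combination d1 - p * d0
    exact (mul_eq_zero.1 d).resolve_right hAp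
  have rel1' : h1 * AA r a = BB r * Wr (AA r a) ((X - C (0 : k)) ^ 0 * (C α1 * X + C β1)) := by
    simpa using rel1
  have rel2' : h2 * AA r a = BB r * Wr (AA r a) ((X - C (0 : k)) ^ 0 * (C α2 * X + C β2)) := by
    simpa using rel2
  exact prop_end r a rel1' rel2' hdet h10

/-- facts about `V` extracted for reuse -/
lemma loc_dvd_succ (hr : Function.Injective r) {b N : ℕ} (hN : (∑ j, a j) + b = N)
    (ha : ∀ j, 1 ≤ a j) (i : Fin m) {h : k[X]} (hV : h ∈ VV r a b)
    (hd : (X - C (r i)) ^ (a i) ∣ h) : (X - C (r i)) ^ (a i + 1) ∣ h := by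
  by_cases h0 : h = 0
  · rw [h0]; exact dvd_zero _
  · have h1 := (M_loc r a hr hN ha i hV h0).1
    have h2 := (le_rootMultiplicity_iff h0).2 hd
    exact (le_rootMultiplicity_iff h0).1 (by omega)

lemma loc_zero (hr : Function.Injective r) {b N : ℕ} (hN : (∑ j, a j) + b = N)
    (ha : ∀ j, 1 ≤ a j) (i : Fin m) {h : k[X]} (hV : h ∈ VV r a b) {n : ℕ} (hn : N + 1 ≤ n)
    (hd : (X - C (r i)) ^ n ∣ h) : h = 0 := by
  by_contra h0
  have h1 := (M_loc r a hr hN ha i hV h0).2
  have h2 := (le_rootMultiplicity_iff h0).2 hd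
  omega

lemma sum_succ_eq (a : Fin m → ℕ) : ∑ j, (a j + 1) = (∑ j, a j) + m := by
  rw [Finset.sum_add_distrib]
  simp

lemma card_le_sum (ha : ∀ j, 1 ≤ a j) : m ≤ ∑ j, a j := by
  have : ∑ _j : Fin m, 1 ≤ ∑ j, a j := Finset.sum_le_sum (fun j _ => ha j)
  simpa using this

theorem main4 (hr : Function.Injective r) (ha : ∀ j, 1 ≤ a j) (b : ℕ) (hb : 1 ≤ b) (N d : ℕ)
    (hN : N = (∑ j, a j) + b) (hd : d + 1 = (∑ j, (a j + 1)) + b)
    (V : Submodule k (Polynomial k))
    (hV : V = (Polynomial.degreeLT k b).map (LinearMap.mulLeft k (∏ j, (X - C (r j)) ^ (a j + 1))) ⊔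
      ⨆ i, (Polynomial.degreeLT k (a i)).map
        (LinearMap.mulLeft k (∏ j ∈ Finset.univ.erase i, (X - C (r j)) ^ (a j + 1))))
    (p : k) (hp : ∀ j, p ≠ r j) (V₁ : Submodule k (Polynomial k))
    (hV₁ : V₁ = V ⊓ (Ideal.span {X - C p}).restrictScalars k) :
    (∀ i : Fin m, ∃ ε : ℕ, ε ≤ 1 ∧
      (∑ n ∈ Finset.range d, Module.finrank k ↥(V₁ ⊓ (Ideal.span {(X - C (r i)) ^ (n + 1)}).restrictScalars k)) + 1 =
        (N - 1).choose 2 + (N - a i) + ε) ∧
    (∃ ε : ℕ, ε ≤ 1 ∧
      (∑ n ∈ Finset.range d, Module.finrank k ↥(V₁ ⊓ Polynomial.degreeLT k (d - n))) + 1 =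
        (N - 1).choose 2 + (N - b) + ε) := by
  have hc1 := (main r a hr b hb N hN V hV p hp V₁ hV₁).1
  have hm3 := main3 r a hr ha b hb N d hN hd V hV
  have hV' : V = VV r a b := hV
  subst hV'
  have hN' : (∑ j, a j) + b = N := hN.symm
  have hfr := finrank_VV r a hr b
  have hfd : FiniteDimensional k (VV r a b) :=
    Module.finite_of_finrank_pos (by rw [hfr]; omega)
  have hV₁le : V₁ ≤ VV r a b := by rw [hV₁]; exact inf_le_left
  have hfd1 : FiniteDimensional k V₁ := Submodule.finiteDimensional_of_le hV₁le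
  have hd' : d + 1 = (∑ j, a j) + m + b := by rw [hd, sum_succ_eq]
  have hmem : ∀ h : k[X], h ∈ V₁ → h ∈ VV r a b ∧ h.eval p = 0 := by
    intro h hh
    rw [hV₁, Submodule.mem_inf, mem_span1, dvd_iff_isRoot] at hh
    exact hh
  have hDV : DD r a ∈ VV r a b := by
    have h1 : (1 : k[X]) ∈ degreeLT k b := by
      rw [mem_degreeLT, degree_one]
      exact_mod_cast hb
    exact Submodule.mem_sup_left ⟨1, h1, by simp⟩
  have hDp : (DD r a).eval p ≠ 0 := by
    rw [DD_eq, eval_mul]
    exact mul_ne_zero (eval_AA_ne_zero r a hp) (eval_BB_ne_zero r hp)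
  constructor
  · intro i
    have hai : a i + 1 ≤ N := by
      have := Finset.single_le_sum (f := a) (fun j _ => Nat.zero_le _) (Finset.mem_univ i)
      omega
    have hmpos : 1 ≤ m := by
      have := i.2
      omega
    apply wt_loc (fun n => Module.finrank k
      ↥(V₁ ⊓ (Ideal.span {(X - C (r i)) ^ n}).restrictScalars k)) N (a i) d hai (by omega)
    · show Module.finrank k ↥(V₁ ⊓ (Ideal.span {(X - C (r i)) ^ 0}).restrictScalars k) = N - 1
      rw [pow_zero, Ideal.span_singleton_one, Submodule.restrictScalars_top, inf_top_eq]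
      omega
    · intro n
      apply Submodule.finrank_mono
      exact inf_le_inf_left _ (span1_anti _ (Nat.le_succ n))
    · intro n
      exact step_loc _ _ _
    · show Module.finrank k ↥(V₁ ⊓ (Ideal.span {(X - C (r i)) ^ (a i)}).restrictScalars k) =
        Module.finrank k ↥(V₁ ⊓ (Ideal.span {(X - C (r i)) ^ (a i + 1)}).restrictScalars k)
      have heq : V₁ ⊓ (Ideal.span {(X - C (r i)) ^ (a i)}).restrictScalars k =
          V₁ ⊓ (Ideal.span {(X - C (r i)) ^ (a i + 1)}).restrictScalars k := by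
        apply le_antisymm
        · rintro h ⟨hh1, hdv⟩
          refine ⟨hh1, ?_⟩
          rw [SetLike.mem_coe, mem_span1] at hdv ⊢
          exact loc_dvd_succ r a hr hN' ha i (hV₁le hh1) hdv
        · exact inf_le_inf_left _ (span1_anti _ (Nat.le_succ _))
      rw [heq]
    · intro n hn
      show Module.finrank k ↥(V₁ ⊓ (Ideal.span {(X - C (r i)) ^ n}).restrictScalars k) = 0
      have : V₁ ⊓ (Ideal.span {(X - C (r i)) ^ n}).restrictScalars k = ⊥ := by
        rw [eq_bot_iff]
        rintro h ⟨hh1, hdv⟩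
        rw [Submodule.mem_bot]
        exact loc_zero r a hr hN' ha i (hV₁le hh1) hn (mem_span1.1 hdv)
      rw [this, finrank_bot]
    · intro hlt
      show Module.finrank k ↥(V₁ ⊓ (Ideal.span {(X - C (r i)) ^ (N - 1)}).restrictScalars k) ≤ 1
      by_cases hU : V₁ ⊓ (Ideal.span {(X - C (r i)) ^ (N - 1)}).restrictScalars k = ⊥
      · rw [hU]; simp
      · obtain ⟨h1, h1U, h10⟩ := Submodule.exists_mem_ne_zero_of_ne_bot hU
        refine finrank_le_one (⟨h1, h1U⟩ : ↥(V₁ ⊓
          (Ideal.span {(X - C (r i)) ^ (N - 1)}).restrictScalars k)) ?_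
        rintro ⟨h2, h2U⟩
        by_cases h20 : h2 = 0
        · exact ⟨0, Subtype.ext (by simp [h20])⟩
        obtain ⟨h1a, h1d⟩ := h1U
        obtain ⟨h2a, h2d⟩ := h2U
        rw [SetLike.mem_coe, mem_span1] at h1d h2d
        obtain ⟨h1V, h1p⟩ := hmem h1 h1a
        obtain ⟨h2V, h2p⟩ := hmem h2 h2a
        obtain ⟨N', hN'2⟩ : ∃ N', N = N' + 2 := ⟨N - 2, by have := ha i; omega⟩
        have ext : ∀ h : k[X], h ∈ VV r a b → h ≠ 0 → (X - C (r i)) ^ (N - 1) ∣ h →
            ∃ α β : k, h * AA r a = BB r * Wr (AA r a)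
              ((X - C (r i)) ^ (N' + 1) * (C α * X + C β)) := by
          intro h hhV hh0 hhd
          obtain ⟨G, hG0, hG, hrelG, hvG⟩ := good_loc r a hr hN' ha i hhV hh0
          have hv := (le_rootMultiplicity_iff hh0).2 hhd
          rw [← hvG] at hv
          have hGd := (le_rootMultiplicity_iff hG0).1 hv
          rw [hN'2] at hGd hG
          simp only [Nat.add_succ_sub_one] at hGd
          obtain ⟨L, hL, rfl⟩ := factor_deg (d := 1) (n := N' + 1) (N := N' + 2) rfl hG hGd
          obtain ⟨α, β, rfl⟩ := exists_eq_X_add_C_of_natDegree_le_one hL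
          exact ⟨α, β, hrelG⟩
        obtain ⟨α1, β1, rel1⟩ := ext h1 h1V h10 h1d
        obtain ⟨α2, β2, rel2⟩ := ext h2 h2V h20 h2d
        obtain ⟨c, hc⟩ := line_core r a hp (hp i).symm rel1 rel2 h1p h2p h10
        exact ⟨c, Subtype.ext hc.symm⟩
    · intro heq
      show Module.finrank k ↥(V₁ ⊓ (Ideal.span {(X - C (r i)) ^ N}).restrictScalars k) = 0
      have hone : Module.finrank k
          ↥(VV r a b ⊓ (Ideal.span {(X - C (r i)) ^ N}).restrictScalars k) = 1 := by
        rw [hm3.2.1 i N, if_neg (by omega)]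
        omega
      have hDmem : DD r a ∈ VV r a b ⊓ (Ideal.span {(X - C (r i)) ^ N}).restrictScalars k := by
        refine ⟨hDV, ?_⟩
        rw [SetLike.mem_coe, mem_span1, ← heq]
        exact Finset.dvd_prod_of_mem (fun j => (X - C (r j)) ^ (a j + 1)) (Finset.mem_univ i)
      have hD0 : DD r a ≠ 0 := by rintro h; rw [h] at hDp; simp at hDp
      have : V₁ ⊓ (Ideal.span {(X - C (r i)) ^ N}).restrictScalars k = ⊥ := by
        rw [eq_bot_iff]
        rintro h ⟨hh1, hdv⟩
        rw [Submodule.mem_bot]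
        obtain ⟨hhV, hhp⟩ := hmem h hh1
        have hsp := (finrank_eq_one_iff_of_nonzero' (⟨DD r a, hDmem⟩ :
          ↥(VV r a b ⊓ (Ideal.span {(X - C (r i)) ^ N}).restrictScalars k))
          (by intro h; exact hD0 (congrArg Subtype.val h))).1 hone ⟨h, ⟨hhV, hdv⟩⟩
        obtain ⟨c, hc⟩ := hsp
        have hc' : c • DD r a = h := congrArg Subtype.val hc
        rw [← hc', eval_smul, smul_eq_mul] at hhp
        have hc0 : c = 0 := (mul_eq_zero.1 hhp).resolve_right hDp
        rw [← hc', hc0, zero_smul]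
      rw [this, finrank_bot]
  · -- at infinity
    have inf_top : ∀ h, h ∈ VV r a b → h ∈ degreeLT k (d + 1) := by
      intro h hh
      by_cases h0 : h = 0
      · rw [h0]; exact Submodule.zero_mem _
      · obtain ⟨e, he1, he2, he3⟩ := M_inf r a hN' hh h0
        rw [mem_degreeLT]
        apply (natDegree_lt_iff_degree_lt h0).1
        omega
    have F0 : Module.finrank k ↥(V₁ ⊓ degreeLT k (d + 1 - 0)) = N - 1 := by
      have : V₁ ⊓ degreeLT k (d + 1 - 0) = V₁ := by
        rw [inf_eq_left]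
        intro h hh
        exact inf_top h (hV₁le hh)
      rw [this]
      omega
    have F1 : ∀ n, Module.finrank k ↥(V₁ ⊓ degreeLT k (d + 1 - (n + 1))) ≤
        Module.finrank k ↥(V₁ ⊓ degreeLT k (d + 1 - n)) := by
      intro n
      apply Submodule.finrank_mono
      exact inf_le_inf_left _ (degreeLT_mono (by omega))
    have F2 : ∀ n, Module.finrank k ↥(V₁ ⊓ degreeLT k (d + 1 - n)) ≤
        Module.finrank k ↥(V₁ ⊓ degreeLT k (d + 1 - (n + 1))) + 1 := by
      intro n
      by_cases hn : n ≤ d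
      · have e1 : d + 1 - n = (d - n) + 1 := by omega
        have e2 : d + 1 - (n + 1) = d - n := by omega
        rw [e1, e2]
        exact step_inf _ _
      · have e1 : d + 1 - n = 0 := by omega
        have e2 : d + 1 - (n + 1) = 0 := by omega
        rw [e1, e2]
        omega
    have hsumeq : ∑ n ∈ Finset.range d, Module.finrank k ↥(V₁ ⊓ degreeLT k (d - n)) =
        ∑ n ∈ Finset.range d, (fun n => Module.finrank k ↥(V₁ ⊓ degreeLT k (d + 1 - n))) (n + 1) := by
      apply Finset.sum_congr rfl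
      intro n _
      show _ = Module.finrank k ↥(V₁ ⊓ degreeLT k (d + 1 - (n + 1)))
      rw [Nat.add_sub_add_right]
    rw [hsumeq]
    have const_zero : ∀ h, h ∈ V₁ → h ∈ degreeLT k 1 → h = 0 := by
      intro h hh hdeg
      obtain ⟨_, hhp⟩ := hmem h hh
      rw [mem_degreeLT] at hdeg
      have hle : h.degree ≤ 0 := by
        have : h.degree < 1 := by exact_mod_cast hdeg
        exact Nat.WithBot.lt_one_iff_le_zero.1 this
      rw [eq_C_of_degree_le_zero hle, eval_C] at hhp
      rw [eq_C_of_degree_le_zero hle, hhp, C_0]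
    by_cases hm0 : m = 0
    · -- no finite marked points
      have hsa : ∑ j, a j = 0 := by subst hm0; simp
      have hdN : d = N - 1 := by omega
      have hF7 : Module.finrank k ↥(V₁ ⊓ degreeLT k (d + 1 - (N - 1))) = 0 := by
        have : V₁ ⊓ degreeLT k (d + 1 - (N - 1)) = ⊥ := by
          rw [eq_bot_iff]
          rintro h ⟨hh1, hdv⟩
          rw [Submodule.mem_bot]
          have e : d + 1 - (N - 1) = 1 := by omega
          rw [e] at hdv
          exact const_zero h hh1 hdv
        rw [this, finrank_bot]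
      have hw := wt0 (fun n => Module.finrank k ↥(V₁ ⊓ degreeLT k (d + 1 - n))) N (by omega)
        F0 F2 F1 hF7
      rw [hdN]
      rw [hdN] at hw
      refine ⟨1, le_rfl, ?_⟩
      rw [hw]
      omega
    · have hmpos : 1 ≤ m := by omega
      have hsm := card_le_sum a ha
      apply wt_loc (fun n => Module.finrank k ↥(V₁ ⊓ degreeLT k (d + 1 - n))) N b d (by omega)
        (by omega) F0 F1 F2
      · show Module.finrank k ↥(V₁ ⊓ degreeLT k (d + 1 - b)) =
          Module.finrank k ↥(V₁ ⊓ degreeLT k (d + 1 - (b + 1)))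
        have heq : V₁ ⊓ degreeLT k (d + 1 - b) = V₁ ⊓ degreeLT k (d + 1 - (b + 1)) := by
          apply le_antisymm
          · rintro h ⟨hh1, hdv⟩
            refine ⟨hh1, ?_⟩
            by_cases h0 : h = 0
            · rw [h0]; exact Submodule.zero_mem _
            · obtain ⟨e, he1, he2, he3⟩ := M_inf r a hN' (hV₁le hh1) h0
              rw [SetLike.mem_coe, mem_degreeLT] at hdv ⊢
              have := (natDegree_lt_iff_degree_lt h0).2 hdv
              apply (natDegree_lt_iff_degree_lt h0).1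
              omega
          · exact inf_le_inf_left _ (degreeLT_mono (by omega))
        rw [heq]
      · intro n hn
        show Module.finrank k ↥(V₁ ⊓ degreeLT k (d + 1 - n)) = 0
        have : V₁ ⊓ degreeLT k (d + 1 - n) = ⊥ := by
          rw [eq_bot_iff]
          rintro h ⟨hh1, hdv⟩
          rw [Submodule.mem_bot]
          by_contra h0
          obtain ⟨e, he1, he2, he3⟩ := M_inf r a hN' (hV₁le hh1) h0
          rw [SetLike.mem_coe, mem_degreeLT] at hdv
          have := (natDegree_lt_iff_degree_lt h0).2 hdv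
          omega
        rw [this, finrank_bot]
      · intro hlt
        show Module.finrank k ↥(V₁ ⊓ degreeLT k (d + 1 - (N - 1))) ≤ 1
        by_cases hU : V₁ ⊓ degreeLT k (d + 1 - (N - 1)) = ⊥
        · rw [hU]; simp
        · obtain ⟨h1, h1U, h10⟩ := Submodule.exists_mem_ne_zero_of_ne_bot hU
          refine finrank_le_one (⟨h1, h1U⟩ : ↥(V₁ ⊓ degreeLT k (d + 1 - (N - 1)))) ?_
          rintro ⟨h2, h2U⟩
          by_cases h20 : h2 = 0
          · exact ⟨0, Subtype.ext (by simp [h20])⟩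
          obtain ⟨h1a, h1d⟩ := h1U
          obtain ⟨h2a, h2d⟩ := h2U
          obtain ⟨h1V, h1p⟩ := hmem h1 h1a
          obtain ⟨h2V, h2p⟩ := hmem h2 h2a
          have ext : ∀ h : k[X], h ∈ VV r a b → h ≠ 0 → h ∈ degreeLT k (d + 1 - (N - 1)) →
              ∃ α β : k, h * AA r a = BB r * Wr (AA r a) (C α * X + C β) := by
            intro h hhV hh0 hhd
            obtain ⟨G, hG0, hG, hrelG, hdG⟩ := good_inf r a hN' hhV hh0
            rw [mem_degreeLT] at hhd
            have := (natDegree_lt_iff_degree_lt hh0).2 hhd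
            have hG1 : G.natDegree ≤ 1 := by omega
            obtain ⟨α, β, rfl⟩ := exists_eq_X_add_C_of_natDegree_le_one hG1
            exact ⟨α, β, hrelG⟩
          obtain ⟨α1, β1, rel1⟩ := ext h1 h1V h10 h1d
          obtain ⟨α2, β2, rel2⟩ := ext h2 h2V h20 h2d
          obtain ⟨c, hc⟩ := line_core0 r a hp rel1 rel2 h1p h2p h10
          exact ⟨c, Subtype.ext hc.symm⟩
      · intro heq
        show Module.finrank k ↥(V₁ ⊓ degreeLT k (d + 1 - N)) = 0
        have : V₁ ⊓ degreeLT k (d + 1 - N) = ⊥ := by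
          rw [eq_bot_iff]
          rintro h ⟨hh1, hdv⟩
          rw [Submodule.mem_bot]
          have e : d + 1 - N = 1 := by omega
          rw [e] at hdv
          exact const_zero h hh1 hdv
        rw [this, finrank_bot]

end geom

end Groth.Agent.H9.RamP
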