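import Mathlib
import Groth.Agent.Lib.Helper9.Misc.RamP4

/-! Helper9: weights of hyperplanes containing lower pole order at marked points (S17244). -/

namespace Groth.Agent.H9.RamP

open Polynomial

universe u

section geom
set_option linter.unusedSectionVars false
set_option linter.unusedSimpArgs false
variable {k : Type u} [Field k] [CharZero k] {m : ℕ} (r : Fin m → k) (a : Fin m → ℕ)

lemma good_loc' (hr : Function.Injective r) (ha : ∀ j, 1 ≤ a j) (i : Fin m) {h P : k[X]}
    (hrel : h * AA r a = BB r * Wr (AA r a) P) (h0 : h ≠ 0) :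
    ∃ c : k, P - C c * AA r a ≠ 0 ∧
      (P - C c * AA r a).rootMultiplicity (r i) = h.rootMultiplicity (r i) := by
  have hA : AA r a = (X - C (r i)) ^ a i * Ei r a i := by rw [AA_eq r a i, mul_comm]
  have hEq := eval_Ei_ne_zero r a hr i
  have hBq := eval_Bi_ne_zero r hr i
  have hP0 : P ≠ 0 := by simpa using rel_ne_zero r a h0 hrel 0
  obtain ⟨c, hvG⟩ : ∃ c : k, (P - C c * AA r a).rootMultiplicity (r i) ≠ a i := by
    by_cases hv : P.rootMultiplicity (r i) = a i
    · obtain ⟨Pa, hPa, _⟩ := exists_eq_pow_rootMultiplicity_mul_and_not_dvd P hP0 (r i)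
      rw [hv] at hPa
      set c := Pa.eval (r i) / (Ei r a i).eval (r i) with hc
      have hG0 := rel_ne_zero r a h0 hrel c
      refine ⟨c, ?_⟩
      have hdvd : (X - C (r i)) ^ (a i + 1) ∣ P - C c * AA r a := by
        have e1 : P - C c * AA r a = (X - C (r i)) ^ a i * (Pa - C c * Ei r a i) := by
          rw [hA]
          conv_lhs => rw [hPa]
          ring
        rw [e1, pow_succ]
        apply mul_dvd_mul_left
        rw [dvd_iff_isRoot, IsRoot, eval_sub, eval_mul, eval_C, hc, div_mul_cancel₀ _ hEq,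
          sub_self]
      have := (le_rootMultiplicity_iff hG0).2 hdvd
      omega
    · exact ⟨0, by simpa using hv⟩
  have hG0 := rel_ne_zero r a h0 hrel c
  have hrelG := rel_sub r a hrel c
  refine ⟨c, hG0, ?_⟩
  obtain ⟨hW0, hvW⟩ := val_formula (ha i) hA hEq hG0 hvG
  have hvA : (AA r a).rootMultiplicity (r i) = a i := by
    rw [hA]; exact rootMult_pow_mul hEq _
  have hvB : (BB r).rootMultiplicity (r i) = 1 := by
    have : BB r = (X - C (r i)) ^ 1 * Bi r i := by rw [BB_eq r i, pow_one, mul_comm]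
    rw [this]; exact rootMult_pow_mul hBq _
  have h1 : rootMultiplicity (r i) (h * AA r a) = h.rootMultiplicity (r i) + a i := by
    rw [rootMultiplicity_mul (mul_ne_zero h0 (AA_ne_zero r a)), hvA]
  have h2 : rootMultiplicity (r i) (BB r * Wr (AA r a) (P - C c * AA r a)) =
      1 + (Wr (AA r a) (P - C c * AA r a)).rootMultiplicity (r i) := by
    rw [rootMultiplicity_mul (mul_ne_zero (BB_ne_zero r) hW0), hvB]
  rw [hrelG, h2] at h1
  omega

/-- Marked-point analogue of `keyl`. -/
lemma keyl_loc (hr : Function.Injective r) (ha : ∀ j, 1 ≤ a j) (i : Fin m) {N : ℕ}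
    (hN : (∑ j, a j) ≤ N) {l1 l2 : k}
    (hlA : l1 * (AA r a).coeff N + l2 * (AA r a).coeff (N - 1) = 0) {h : k[X]}
    (hh : h ∈ RRl r a N l1 l2) (h0 : h ≠ 0) {n : ℕ} (hdvd : (X - C (r i)) ^ n ∣ h) :
    ∃ G ∈ degreeLT k (N + 1), G ≠ 0 ∧ h * AA r a = BB r * Wr (AA r a) G ∧
      (X - C (r i)) ^ n ∣ G ∧ l1 * G.coeff N + l2 * G.coeff (N - 1) = 0 := by
  obtain ⟨P, hP, hrel, hl⟩ := hh
  obtain ⟨c, hG0, hv⟩ := good_loc' r a hr ha i hrel h0
  refine ⟨_, mem_degLT_sub r a hN hP c, hG0, rel_sub r a hrel c, ?_, ?_⟩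
  · have := (le_rootMultiplicity_iff h0).2 hdvd
    rw [← hv] at this
    exact (le_rootMultiplicity_iff hG0).1 this
  · rw [coeff_sub, coeff_sub, coeff_C_mul, coeff_C_mul]
    linear_combination hl - c * hlA

lemma line2_core {N' : ℕ} {l1 l2 : k} (hl : l1 ≠ 0 ∨ l2 ≠ 0) {q : k} {h1 h2 : k[X]}
    {α1 β1 α2 β2 : k}
    (rel1 : h1 * AA r a = BB r * Wr (AA r a) ((X - C q) ^ (N' + 1) * (C α1 * X + C β1)))
    (rel2 : h2 * AA r a = BB r * Wr (AA r a) ((X - C q) ^ (N' + 1) * (C α2 * X + C β2)))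
    (e1 : α1 * (l1 - l2 * (((N' : k) + 1) * q)) + β1 * l2 = 0)
    (e2 : α2 * (l1 - l2 * (((N' : k) + 1) * q)) + β2 * l2 = 0)
    (h10 : h1 ≠ 0) : ∃ c : k, h2 = c • h1 := by
  set w1 := l1 - l2 * (((N' : k) + 1) * q) with hw1
  have hw : w1 ≠ 0 ∨ l2 ≠ 0 := by
    by_cases h2 : l2 = 0
    · left
      rw [hw1, h2, zero_mul, sub_zero]
      exact hl.resolve_right (not_not.2 h2)
    · exact Or.inr h2
  have hdet : α1 * β2 - α2 * β1 = 0 := by
    have d1 : (α1 * β2 - α2 * β1) * w1 = 0 := by linear_combination β2 * e1 - β1 * e2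
    have d0 : (α1 * β2 - α2 * β1) * l2 = 0 := by linear_combination - α2 * e1 + α1 * e2
    rcases hw with h | h
    · exact (mul_eq_zero.1 d1).resolve_right h
    · exact (mul_eq_zero.1 d0).resolve_right h
  exact prop_end r a rel1 rel2 hdet h10

lemma VV_mono {b b' : ℕ} (h : b ≤ b') : VV r a b ≤ VV r a b' := by
  unfold VV
  exact sup_le_sup_right (Submodule.map_mono (degreeLT_mono h)) _

lemma sum_range_eq_of_zero (f : ℕ → ℕ) {A B : ℕ} (hAB : A ≤ B)
    (hz : ∀ n, A ≤ n → n < B → f n = 0) :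
    ∑ n ∈ Finset.range B, f n = ∑ n ∈ Finset.range A, f n := by
  symm
  apply Finset.sum_subset (Finset.range_mono hAB)
  intro n hn hn'
  rw [Finset.mem_range] at hn hn'
  exact hz n (by omega) hn

theorem main5 (hr : Function.Injective r) (ha : ∀ j, 1 ≤ a j) (b : ℕ) (hb : 1 ≤ b) (N d : ℕ)
    (hN : N = (∑ j, a j) + b) (hd : d + 1 = (∑ j, (a j + 1)) + b)
    (V : Submodule k (Polynomial k))
    (hV : V = (Polynomial.degreeLT k b).map (LinearMap.mulLeft k (∏ j, (X - C (r j)) ^ (a j + 1))) ⊔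
      ⨆ i, (Polynomial.degreeLT k (a i)).map
        (LinearMap.mulLeft k (∏ j ∈ Finset.univ.erase i, (X - C (r j)) ^ (a j + 1))))
    (V₁ : Submodule k (Polynomial k)) (hV₁ : V₁ ≤ V) (hfin : Module.finrank k ↥V₁ + 1 = N)
    (hU : (Polynomial.degreeLT k (b - 2)).map (LinearMap.mulLeft k (∏ j, (X - C (r j)) ^ (a j + 1))) ⊔
      (⨆ i, (Polynomial.degreeLT k (a i)).map
        (LinearMap.mulLeft k (∏ j ∈ Finset.univ.erase i, (X - C (r j)) ^ (a j + 1)))) ≤ V₁) :
    (∀ i : Fin m, ∃ ε : ℕ, ε ≤ 1 ∧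
      (∑ n ∈ Finset.range d, Module.finrank k ↥(V₁ ⊓ (Ideal.span {(X - C (r i)) ^ (n + 1)}).restrictScalars k)) + 1 =
        (N - 1).choose 2 + (N - a i) + ε) ∧
    (∃ ε : ℕ, ε ≤ 1 ∧
      (∑ n ∈ Finset.range d, Module.finrank k ↥(V₁ ⊓ Polynomial.degreeLT k (d - n))) =
        (N - 1).choose 2 + (N - b) + (N - 2) + ε) := by
  have hm3 := main3 r a hr ha b hb N d hN hd V hV
  have hV' : V = VV r a b := hV
  subst hV'
  have hU' : VV r a (b - 2) ≤ V₁ := hU
  have hN' : (∑ j, a j) + b = N := hN.symm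
  obtain ⟨l1, l2, hl, hlA, hle⟩ := setupA r a hr hb hN' V₁ hV₁ hfin hU'
  have hfr := finrank_VV r a hr b
  have hfd : FiniteDimensional k (VV r a b) :=
    Module.finite_of_finrank_pos (by rw [hfr]; omega)
  have hfd1 : FiniteDimensional k V₁ := Submodule.finiteDimensional_of_le hV₁
  have hd' : d + 1 = (∑ j, a j) + m + b := by rw [hd, sum_succ_eq]
  have hsm := card_le_sum a ha
  constructor
  · intro i
    have hai : a i + 1 ≤ N := by
      have := Finset.single_le_sum (f := a) (fun j _ => Nat.zero_le _) (Finset.mem_univ i)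
      omega
    have hmpos : 1 ≤ m := by
      have := i.2
      omega
    apply wt_loc (fun n => Module.finrank k
      ↥(V₁ ⊓ (Ideal.span {(X - C (r i)) ^ n}).restrictScalars k)) N (a i) d hai (by omega)
    · show Module.finrank k ↥(V₁ ⊓ (Ideal.span {(X - C (r i)) ^ 0}).restrictScalars k) = N - 1
      rw [pow_zero, Ideal.span_singleton_one, Submodule.restrictScalars_top, inf_top_eq]
      omega
    · intro n
      apply Submodule.finrank_mono
      exact inf_le_inf_left _ (span1_anti _ (Nat.le_succ n))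
    · intro n
      exact step_loc _ _ _
    · show Module.finrank k ↥(V₁ ⊓ (Ideal.span {(X - C (r i)) ^ (a i)}).restrictScalars k) =
        Module.finrank k ↥(V₁ ⊓ (Ideal.span {(X - C (r i)) ^ (a i + 1)}).restrictScalars k)
      have heq : V₁ ⊓ (Ideal.span {(X - C (r i)) ^ (a i)}).restrictScalars k =
          V₁ ⊓ (Ideal.span {(X - C (r i)) ^ (a i + 1)}).restrictScalars k := by
        apply le_antisymm
        · rintro h ⟨hh1, hdv⟩
          refine ⟨hh1, ?_⟩
          rw [SetLike.mem_coe, mem_span1] at hdv ⊢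
          exact loc_dvd_succ r a hr hN' ha i (hV₁ hh1) hdv
        · exact inf_le_inf_left _ (span1_anti _ (Nat.le_succ _))
      rw [heq]
    · intro n hn
      show Module.finrank k ↥(V₁ ⊓ (Ideal.span {(X - C (r i)) ^ n}).restrictScalars k) = 0
      have : V₁ ⊓ (Ideal.span {(X - C (r i)) ^ n}).restrictScalars k = ⊥ := by
        rw [eq_bot_iff]
        rintro h ⟨hh1, hdv⟩
        rw [Submodule.mem_bot]
        exact loc_zero r a hr hN' ha i (hV₁ hh1) hn (mem_span1.1 hdv)
      rw [this, finrank_bot]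
    · intro hlt
      show Module.finrank k ↥(V₁ ⊓ (Ideal.span {(X - C (r i)) ^ (N - 1)}).restrictScalars k) ≤ 1
      by_cases hUU : V₁ ⊓ (Ideal.span {(X - C (r i)) ^ (N - 1)}).restrictScalars k = ⊥
      · rw [hUU]; simp
      · obtain ⟨h1, h1U, h10⟩ := Submodule.exists_mem_ne_zero_of_ne_bot hUU
        refine finrank_le_one (⟨h1, h1U⟩ : ↥(V₁ ⊓
          (Ideal.span {(X - C (r i)) ^ (N - 1)}).restrictScalars k)) ?_
        rintro ⟨h2, h2U⟩
        by_cases h20 : h2 = 0
        · exact ⟨0, Subtype.ext (by simp [h20])⟩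
        obtain ⟨h1a, h1d⟩ := h1U
        obtain ⟨h2a, h2d⟩ := h2U
        rw [SetLike.mem_coe, mem_span1] at h1d h2d
        obtain ⟨N', hN'2⟩ : ∃ N', N = N' + 2 := ⟨N - 2, by have := ha i; omega⟩
        have ext : ∀ h : k[X], h ∈ V₁ → h ≠ 0 → (X - C (r i)) ^ (N - 1) ∣ h →
            ∃ α β : k, h * AA r a = BB r * Wr (AA r a)
              ((X - C (r i)) ^ (N' + 1) * (C α * X + C β)) ∧
              α * (l1 - l2 * (((N' : k) + 1) * r i)) + β * l2 = 0 := by
          intro h hhV hh0 hhd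
          obtain ⟨G, hG, hG0, hrelG, hGd, hlG⟩ :=
            keyl_loc r a hr ha i (by omega) hlA (hle hhV) hh0 hhd
          rw [hN'2] at hGd hG hlG
          simp only [Nat.add_succ_sub_one] at hGd
          obtain ⟨L, hL, rfl⟩ := factor_deg (d := 1) (n := N' + 1) (N := N' + 2) rfl hG hGd
          obtain ⟨α, β, rfl⟩ := exists_eq_X_add_C_of_natDegree_le_one hL
          refine ⟨α, β, hrelG, ?_⟩
          have e1 : ((X - C (r i)) ^ (N' + 1) * (C α * X + C β)).coeff (N' + 2) = α :=
            coeff_T_pow_mul_lin_top (r i) α β (N' + 1)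
          have e2 : ((X - C (r i)) ^ (N' + 1) * (C α * X + C β)).coeff (N' + 2 - 1) =
              β - ((N' : k) + 1) * r i * α := coeff_T_pow_mul_lin_next (r i) α β N'
          rw [e1, e2] at hlG
          linear_combination hlG
        obtain ⟨α1, β1, rel1, e1⟩ := ext h1 h1a h10 h1d
        obtain ⟨α2, β2, rel2, e2⟩ := ext h2 h2a h20 h2d
        obtain ⟨c, hc⟩ := line2_core r a hl rel1 rel2 e1 e2 h10
        exact ⟨c, Subtype.ext hc.symm⟩
    · intro heq
      show Module.finrank k ↥(V₁ ⊓ (Ideal.span {(X - C (r i)) ^ N}).restrictScalars k) = 0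
      have hai2 := Finset.single_le_sum (f := a) (fun j _ => Nat.zero_le _) (Finset.mem_univ i)
      have hsa : ∑ j, a j = N - 1 := by omega
      have hAN : (AA r a).coeff N = 0 := by
        apply coeff_eq_zero_of_natDegree_lt
        rw [natDegree_AA]
        omega
      have hAN1 : (AA r a).coeff (N - 1) = 1 := by
        have := (monic_AA r a).leadingCoeff
        rw [leadingCoeff, natDegree_AA, hsa] at this
        exact this
      rw [hAN, hAN1, mul_zero, zero_add, mul_one] at hlA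
      have hl1 : l1 ≠ 0 := hl.resolve_right (not_not.2 hlA)
      have : V₁ ⊓ (Ideal.span {(X - C (r i)) ^ N}).restrictScalars k = ⊥ := by
        rw [eq_bot_iff]
        rintro h ⟨hh1, hdv⟩
        rw [Submodule.mem_bot]
        by_contra hh0
        rw [SetLike.mem_coe, mem_span1] at hdv
        obtain ⟨G, hG, hG0, hrelG, hGd, hlG⟩ :=
          keyl_loc r a hr ha i (by omega) (by rw [hAN, hAN1, hlA]; ring) (hle hh1) hh0 hdv
        obtain ⟨L, hL, rfl⟩ := factor_deg (d := 0) (n := N) (N := N) rfl hG hGd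
        obtain ⟨γ, rfl⟩ : ∃ γ, L = C γ := ⟨L.coeff 0, eq_C_of_natDegree_le_zero hL⟩
        rw [coeff_T_pow_mul_C_top, hlA, zero_mul, add_zero] at hlG
        have hγ : γ = 0 := (mul_eq_zero.1 hlG).resolve_left hl1
        apply hG0
        rw [hγ, C_0, mul_zero]
      rw [this, finrank_bot]
  · -- at infinity
    by_cases hN1 : N = 1
    · have hm0 : m = 0 := by omega
      have hd0 : d = 0 := by omega
      refine ⟨0, by omega, ?_⟩
      rw [hd0, hN1]
      simp
      omega
    have hN2 : 2 ≤ N := by omega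
    have hd1 : 1 ≤ d := by omega
    -- U = V ⊓ degLT (d+1-2)
    have hUle : VV r a (b - 2) ≤ VV r a b ⊓ degreeLT k (d + 1 - 2) := by
      intro h hh
      refine ⟨VV_mono r a (by omega) hh, ?_⟩
      by_cases h0 : h = 0
      · rw [h0]; exact Submodule.zero_mem _
      · obtain ⟨e, he1, he2, he3⟩ := M_inf r a (b := b - 2) rfl hh h0
        rw [SetLike.mem_coe, mem_degreeLT]
        apply (natDegree_lt_iff_degree_lt h0).1
        omega
    have hUeq : VV r a (b - 2) = VV r a b ⊓ degreeLT k (d + 1 - 2) := by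
      apply Submodule.eq_of_le_of_finrank_eq hUle
      rw [finrank_VV r a hr (b - 2), hm3.2.2 2]
      split_ifs <;> omega
    have hψ : ∀ n, 2 ≤ n → Module.finrank k ↥(V₁ ⊓ degreeLT k (d + 1 - n)) =
        if n ≤ b then N - n else N + 1 - n := by
      intro n hn
      rw [← hm3.2.2 n]
      have : V₁ ⊓ degreeLT k (d + 1 - n) = VV r a b ⊓ degreeLT k (d + 1 - n) := by
        apply le_antisymm
        · exact inf_le_inf_right _ hV₁
        · rintro h ⟨hh1, hh2⟩
          refine ⟨?_, hh2⟩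
          apply hU'
          rw [hUeq]
          exact ⟨hh1, degreeLT_mono (by omega) hh2⟩
      rw [this]
    have hψ1u : Module.finrank k ↥(V₁ ⊓ degreeLT k (d + 1 - 1)) ≤ N - 1 := by
      have := Submodule.finrank_mono (inf_le_left : V₁ ⊓ degreeLT k (d + 1 - 1) ≤ V₁)
      omega
    have hψ1l : N - 2 ≤ Module.finrank k ↥(V₁ ⊓ degreeLT k (d + 1 - 1)) := by
      have h2 := hψ 2 le_rfl
      have := Submodule.finrank_mono (inf_le_inf_left V₁ (degreeLT_mono (by omega)) :
        V₁ ⊓ degreeLT k (d + 1 - 2) ≤ V₁ ⊓ degreeLT k (d + 1 - 1))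
      rw [h2] at this
      split_ifs at this <;> omega
    refine ⟨Module.finrank k ↥(V₁ ⊓ degreeLT k (d + 1 - 1)) - (N - 2), by omega, ?_⟩
    obtain ⟨d', rfl⟩ : ∃ d', d = d' + 1 := ⟨d - 1, by omega⟩
    rw [Finset.sum_range_succ']
    have hterm0 : Module.finrank k ↥(V₁ ⊓ degreeLT k (d' + 1 - 0)) =
        Module.finrank k ↥(V₁ ⊓ degreeLT k (d' + 1 + 1 - 1)) := by
      rw [show d' + 1 - 0 = d' + 1 + 1 - 1 by omega]
    rw [hterm0]
    have hsum : ∑ n ∈ Finset.range d', Module.finrank k ↥(V₁ ⊓ degreeLT k (d' + 1 - (n + 1))) =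
        ∑ n ∈ Finset.range d', (fun j => if j + 1 ≤ b then N - (j + 1) else N + 1 - (j + 1)) (n + 1) := by
      apply Finset.sum_congr rfl
      intro n _
      have := hψ (n + 2) (by omega)
      rw [show d' + 1 + 1 - (n + 2) = d' + 1 - (n + 1) by omega] at this
      rw [this]
    rw [hsum]
    have hW := W0 (fun j => if j + 1 ≤ b then N - (j + 1) else N + 1 - (j + 1)) (N - 1) (b - 1)
      (fun n hn => by
        show (if n + 1 + 1 ≤ b then N - (n + 1 + 1) else N + 1 - (n + 1 + 1)) = _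
        split_ifs <;> omega)
    have hrange : ∑ n ∈ Finset.range d',
        (fun j => if j + 1 ≤ b then N - (j + 1) else N + 1 - (j + 1)) (n + 1) =
        ∑ n ∈ Finset.range (N - 1),
        (fun j => if j + 1 ≤ b then N - (j + 1) else N + 1 - (j + 1)) (n + 1) := by
      by_cases hm0 : m = 0
      · have hsa : ∑ j, a j = 0 := by subst hm0; simp
        have hd'N : d' + 1 = N - 1 := by omega
        rw [← hd'N, Finset.sum_range_succ]
        have : (fun j => if j + 1 ≤ b then N - (j + 1) else N + 1 - (j + 1)) (d' + 1) = 0 := by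
          show (if d' + 1 + 1 ≤ b then N - (d' + 1 + 1) else N + 1 - (d' + 1 + 1)) = 0
          split_ifs <;> omega
        rw [this, add_zero]
      · apply sum_range_eq_of_zero (fun n =>
          (fun j => if j + 1 ≤ b then N - (j + 1) else N + 1 - (j + 1)) (n + 1)) (by omega)
        intro n hn1 hn2
        show (if n + 1 + 1 ≤ b then N - (n + 1 + 1) else N + 1 - (n + 1 + 1)) = 0
        split_ifs <;> omega
    rw [hrange, hW]
    omega

end geom

end Groth.Agent.H9.RamP
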