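import Mathlib

/-! Helper9: a reduced scheme over a field with a dense set of rational points is geometrically
reduced. -/

set_option autoImplicit false
set_option linter.style.haveILetI false
set_option linter.unusedSectionVars false
set_option linter.unusedVariables false

universe u
open CategoryTheory CategoryTheory.Limits AlgebraicGeometry TensorProduct MonoidalCategory
  CartesianMonoidalCategory

namespace Groth.Agent.H9.RatDense

/-- jointly injective family of `k`-points ⇒ `K ⊗ A` reduced. -/
theorem isReduced_tensor_of_points (k A K : Type u) [Field k] [CommRing A] [Algebra k A]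
    [Field K] [Algebra k K] {ι' : Type*} (ψ : ι' → (A →ₐ[k] k))
    (hinj : ∀ a : A, (∀ i, ψ i a = 0) → a = 0) : IsReduced (K ⊗[k] A) := by
  classical
  let ℬ := Module.Free.chooseBasis k K
  constructor
  intro z hz
  apply (TensorProduct.equivFinsuppOfBasisLeft (N := A) ℬ).injective
  rw [map_zero]
  ext j
  rw [Finsupp.zero_apply]
  set a := (TensorProduct.equivFinsuppOfBasisLeft (N := A) ℬ) z j with ha
  apply hinj
  intro i
  have hz' : IsNilpotent (Algebra.TensorProduct.map (AlgHom.id k K) (ψ i) z) := hz.map _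
  have hz'' : IsNilpotent ((Algebra.TensorProduct.rid k k K)
      (Algebra.TensorProduct.map (AlgHom.id k K) (ψ i) z)) := hz'.map _
  have h0' := hz''.eq_zero
  have h0 : Algebra.TensorProduct.map (AlgHom.id k K) (ψ i) z = 0 := by
    apply (Algebra.TensorProduct.rid k k K).injective
    rw [h0', map_zero]
  have h1 : (TensorProduct.equivFinsuppOfBasisLeft (N := k) ℬ)
        (Algebra.TensorProduct.map (AlgHom.id k K) (ψ i) z) j = ψ i a := by
      rw [ha, TensorProduct.equivFinsuppOfBasisLeft_apply,
        TensorProduct.equivFinsuppOfBasisLeft_apply]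
      clear hz hz' hz'' h0' h0 ha
      induction z with
      | zero => simp
      | tmul c b => simp
      | add x y hx hy => simp only [map_add, hx, hy]
  rw [h0, map_zero, Finsupp.zero_apply] at h1
  exact h1.symm

theorem isReduced_tensor_of_points' (k A K : Type u) [Field k] [CommRing A] [Algebra k A]
    [Field K] [Algebra k K] {ι' : Type*} (ψ : ι' → (A →ₐ[k] k))
    (hinj : ∀ a : A, (∀ i, ψ i a = 0) → a = 0) : IsReduced (A ⊗[k] K) := by
  haveI := isReduced_tensor_of_points k A K ψ hinj
  exact isReduced_of_injective (Algebra.TensorProduct.comm k A K)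
    (Algebra.TensorProduct.comm k A K).injective

/-- `geometrically P` is local at the source for Zariski-local `P` (here `IsReduced`). -/
theorem geometricallyReduced_of_openCover {X Y : Scheme.{u}} (f : X ⟶ Y) (𝒰 : X.OpenCover)
    (h : ∀ i, GeometricallyReduced (𝒰.f i ≫ f)) : GeometricallyReduced f := by
  rw [GeometricallyReduced.eq_geometrically]
  intro K _ y Z fst snd hpb
  apply +allowSynthFailures @IsReduced.of_openCover (𝒰 := 𝒰.pullback₁ fst)
  intro i
  have hi := h i
  rw [GeometricallyReduced.eq_geometrically] at hi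
  have top : IsPullback (pullback.snd fst (𝒰.f i)) (pullback.fst fst (𝒰.f i)) (𝒰.f i) fst :=
    (IsPullback.of_hasPullback fst (𝒰.f i)).flip
  exact hi y _ _ (top.paste_vert hpb)

/-- the point of a rational point -/
noncomputable abbrev pt (k : Type u) [Field k] {X : Over (Spec (CommRingCat.of k))}
    (s : 𝟙_ (Over (Spec (CommRingCat.of k))) ⟶ X) : X.left :=
  s.left.base (IsLocalRing.closedPoint k)

/-- affine case -/
theorem geometricallyReduced_affine (k : Type u) [Field k] (A : CommRingCat.{u})
    (φ : CommRingCat.of k ⟶ A) [_root_.IsReduced A] {ι' : Type*}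
    (ψ : ι' → (A ⟶ CommRingCat.of k)) (hψ : ∀ i, φ ≫ ψ i = 𝟙 _)
    (hinj : ∀ a : A, (∀ i, (ψ i).hom a = 0) → a = 0) :
    GeometricallyReduced (Spec.map φ) := by
  rw [GeometricallyReduced.eq_geometrically,
    geometrically_iff_of_commRing_of_isClosedUnderIsomorphisms]
  intro K _ _
  algebraize [φ.hom]
  let ψ' : ι' → (A →ₐ[k] k) := fun i =>
    { toRingHom := (ψ i).hom
      commutes' := fun c => congr($(hψ i).hom c) }
  haveI : _root_.IsReduced (↑A ⊗[k] K) := isReduced_tensor_of_points' k A K ψ' hinj
  haveI : IsReduced (Spec (CommRingCat.of (↑A ⊗[k] K))) := (affine_isReduced_iff _).mpr this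
  exact isReduced_of_isOpenImmersion (pullbackSpecIso k A K).hom

/-- a reduced `k`-scheme with a dense set of rational points is geometrically reduced -/
theorem geometricallyReduced_of_dense (k : Type u) [Field k]
    (X : Over (Spec (CommRingCat.of k)))
    [IsReduced X.left] (D : Set (𝟙_ (Over (Spec (CommRingCat.of k))) ⟶ X))
    (hD : Dense ((fun s => pt k s) '' D)) :
    GeometricallyReduced X.hom := by
  classical
  let 𝒰 := X.left.affineOpenCover
  apply geometricallyReduced_of_openCover X.hom 𝒰.openCover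
  intro i
  show GeometricallyReduced (𝒰.f i ≫ X.hom)
  obtain ⟨φ, hφ⟩ := Spec.map_surjective (𝒰.f i ≫ X.hom)
  rw [← hφ]
  haveI : IsReduced (Spec (𝒰.X i)) := isReduced_of_isOpenImmersion (𝒰.f i)
  haveI : _root_.IsReduced (𝒰.X i) := (affine_isReduced_iff _).mp this
  let ι' := {s : 𝟙_ (Over (Spec (CommRingCat.of k))) ⟶ X // s ∈ D ∧ pt k s ∈ Set.range (𝒰.f i)}
  have hrange : ∀ s : ι', Set.range s.1.left ⊆ Set.range (𝒰.f i) := by
    rintro s _ ⟨z, rfl⟩
    have : z = IsLocalRing.closedPoint k :=
      @Subsingleton.elim (PrimeSpectrum k) _ z (IsLocalRing.closedPoint k)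
    rw [this]; exact s.2.2
  let l : ∀ s : ι', Spec (CommRingCat.of k) ⟶ Spec (𝒰.X i) := fun s =>
    IsOpenImmersion.lift (𝒰.f i) s.1.left (hrange s)
  have hl : ∀ s, l s ≫ 𝒰.f i = s.1.left := fun s => IsOpenImmersion.lift_fac _ _ _
  let ψ : ι' → (𝒰.X i ⟶ CommRingCat.of k) := fun s => Spec.preimage (l s)
  have hψl : ∀ s, Spec.map (ψ s) = l s := fun s => Spec.map_preimage _
  apply geometricallyReduced_affine k (𝒰.X i) φ ψ
  · intro s
    apply Spec.map_injective
    rw [Spec.map_comp, hψl, hφ, ← Category.assoc, hl, Spec.map_id]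
    exact Over.w s.1
  · intro a ha
    have hnil : IsNilpotent a := by
      rw [nilpotent_iff_mem_prime]
      intro J hJ
      by_contra haJ
      let q : PrimeSpectrum (𝒰.X i) := ⟨J, hJ⟩
      have hq : q ∈ (PrimeSpectrum.basicOpen a : Set _) := haJ
      have hopen : IsOpen ((𝒰.f i).base ''
          (PrimeSpectrum.basicOpen a : Set (PrimeSpectrum (𝒰.X i)))) :=
        (𝒰.f i).isOpenEmbedding.isOpenMap _ (PrimeSpectrum.basicOpen a).isOpen
      obtain ⟨x, hxV, hxD⟩ := hD.inter_open_nonempty _ hopen ⟨_, Set.mem_image_of_mem _ hq⟩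
      obtain ⟨s, hsD, rfl⟩ := hxD
      obtain ⟨q', hq', hq's⟩ := hxV
      let s' : ι' := ⟨s, hsD, ⟨q', hq's⟩⟩
      have h1 : (l s').base (IsLocalRing.closedPoint k) = q' := by
        apply (𝒰.f i).isOpenEmbedding.injective
        rw [hq's, ← Scheme.Hom.comp_apply, hl]
      have h2 := ha s'
      rw [← hψl, Spec.map_apply] at h1
      apply hq'
      rw [← h1]
      show a ∈ (PrimeSpectrum.comap (ψ s').hom (IsLocalRing.closedPoint k)).asIdeal
      rw [PrimeSpectrum.comap_asIdeal, Ideal.mem_comap, h2]
      exact Ideal.zero_mem _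
    exact hnil.eq_zero

end Groth.Agent.H9.RatDense
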