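import Mathlib
import Groth.Agent.Lib.Helper9.Misc.RatDense1
import Groth.Agent.Lib.Helper9.Misc.GZD3
import Groth.Agent.Lib.Helper8.RedImm

/-! Helper9: the closure of a subgroup of rational points is a smooth closed subgroup scheme. -/

set_option autoImplicit false
set_option linter.style.haveILetI false
set_option linter.unusedSectionVars false
set_option linter.unusedVariables false

universe u
open CategoryTheory CategoryTheory.Limits AlgebraicGeometry TensorProduct MonoidalCategory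
  CartesianMonoidalCategory MonObj

namespace Groth.Agent.H9.RatDense

/-- product density -/
theorem dense_prod (k : Type u) [Field k] (X Y : Over (Spec (CommRingCat.of k)))
    (DX : Set (𝟙_ (Over (Spec (CommRingCat.of k))) ⟶ X))
    (DY : Set (𝟙_ (Over (Spec (CommRingCat.of k))) ⟶ Y))
    (hX : Dense ((fun s => pt k s) '' DX)) (hY : Dense ((fun s => pt k s) '' DY)) :
    Dense ((fun p : (𝟙_ (Over (Spec (CommRingCat.of k))) ⟶ X) ×
      (𝟙_ (Over (Spec (CommRingCat.of k))) ⟶ Y) => pt k (lift p.1 p.2)) '' (DX ×ˢ DY)) := by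
  rw [dense_iff_inter_open]
  intro V hV hne
  haveI : UniversallyOpen (snd X Y).left :=
    inferInstanceAs (UniversallyOpen (pullback.snd X.hom Y.hom))
  have hopen : IsOpenMap (snd X Y).left.base := (snd X Y).left.isOpenMap
  obtain ⟨y, hyV, hyD⟩ := hY.inter_open_nonempty _ (hopen V hV) (hne.image _)
  obtain ⟨b, hb, rfl⟩ := hyD
  obtain ⟨v, hv, hvb⟩ := hyV
  let j : X ⟶ X ⊗ Y := lift (𝟙 X) (toUnit X ≫ b)
  have hfst : j.left ≫ (fst X Y).left = 𝟙 X.left := by
    rw [← Over.comp_left, lift_fst]; rfl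
  have hsnd : j.left ≫ (snd X Y).left = X.hom ≫ b.left := by
    rw [← Over.comp_left, lift_snd, Over.comp_left, Over.toUnit_left]
  have hvj : v ∈ Set.range j.left.base := by
    have h1 : v ∈ (snd X Y).left.base ⁻¹' Set.range b.left.base := ⟨_, hvb.symm⟩
    rw [← Scheme.Pullback.range_fst] at h1
    obtain ⟨w, rfl⟩ := h1
    let q := pullback.fst (snd X Y).left b.left ≫ (fst X Y).left
    have hb1 : b.left ≫ Y.hom = 𝟙 _ := Over.w b
    have hps : pullback.snd (snd X Y).left b.left = q ≫ X.hom := by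
      calc pullback.snd (snd X Y).left b.left
          = pullback.snd (snd X Y).left b.left ≫ b.left ≫ Y.hom := by
            rw [hb1, Category.comp_id]
        _ = pullback.fst (snd X Y).left b.left ≫ (snd X Y).left ≫ Y.hom := by
            rw [← Category.assoc, ← pullback.condition, Category.assoc]
        _ = pullback.fst (snd X Y).left b.left ≫ (fst X Y).left ≫ X.hom := by
            rw [Over.w (snd X Y), Over.w (fst X Y)]
        _ = q ≫ X.hom := by rw [Category.assoc]
    have hq : pullback.fst (snd X Y).left b.left = q ≫ j.left := by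
      apply pullback.hom_ext (f := X.hom) (g := Y.hom)
      · show _ ≫ (fst X Y).left = (q ≫ j.left) ≫ (fst X Y).left
        rw [Category.assoc, hfst, Category.comp_id]
      · show _ ≫ (snd X Y).left = (q ≫ j.left) ≫ (snd X Y).left
        rw [Category.assoc, hsnd, pullback.condition, hps, Category.assoc]
    exact ⟨q.base w, by rw [hq]; rfl⟩
  obtain ⟨x, rfl⟩ := hvj
  have hopen2 : IsOpen (j.left.base ⁻¹' V) := hV.preimage j.left.continuous
  obtain ⟨x', hx'V, hx'D⟩ := hX.inter_open_nonempty _ hopen2 ⟨x, hv⟩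
  obtain ⟨a, ha, rfl⟩ := hx'D
  refine ⟨_, hx'V, ⟨(a, b), ⟨ha, hb⟩, ?_⟩⟩
  show pt k (lift a b) = j.left.base (pt k a)
  have : lift a b = a ≫ j := by
    rw [comp_lift, Category.comp_id, ← Category.assoc, toUnit_unique (a ≫ toUnit X) (𝟙 _),
      Category.id_comp]
  rw [this]; rfl

/-- **The closure of a subgroup of rational points is a smooth closed subgroup scheme.** -/
theorem closure_subgroup (k : Type u) [Field k]
    (G : Over (Spec (CommRingCat.of k))) [GrpObj G] [LocallyOfFiniteType G.hom]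
    (S : Subgroup (𝟙_ (Over (Spec (CommRingCat.of k))) ⟶ G)) :
    ∃ (H : Over (Spec (CommRingCat.of k))) (_ : GrpObj H) (i : H ⟶ G), IsMonHom i ∧
      IsClosedImmersion i.left ∧ Smooth H.hom ∧
      Set.range i.left.base =
        closure ((fun s : (𝟙_ (Over (Spec (CommRingCat.of k))) ⟶ G) =>
          s.left.base (IsLocalRing.closedPoint k)) '' (S : Set _)) := by
  classical
  obtain ⟨C, hC⟩ : ∃ C : Set G.left, C = closure ((fun s : (𝟙_ (Over (Spec (CommRingCat.of k))) ⟶ G) =>
          s.left.base (IsLocalRing.closedPoint k)) '' (S : Set _)) := ⟨_, rfl⟩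
  rw [← hC]
  have hCcl : IsClosed C := by rw [hC]; exact isClosed_closure
  have hSC : ∀ s ∈ S, pt k s ∈ C := by
    intro s hs
    rw [hC]
    exact subset_closure ⟨s, hs, rfl⟩
  obtain ⟨H, i, himm, hredH, hH⟩ :=
    Groth.Agent.H8.RedImm.exists_reduced_immersion C hCcl.isLocallyClosed
  haveI : IsClosedImmersion i := by
    haveI : IsPreimmersion i := inferInstance
    exact IsClosedImmersion.of_isPreimmersion i (by rw [hH]; exact hCcl)
  obtain ⟨Ho, io, hHl, hio⟩ : ∃ (Ho : Over (Spec (CommRingCat.of k))) (io : Ho ⟶ G)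
      (hHl : Ho.left = H), io.left = eqToHom hHl ≫ i :=
    ⟨Over.mk (i ≫ G.hom), Over.homMk i rfl, rfl, by simp⟩
  subst hHl
  simp only [eqToHom_refl, Category.id_comp] at hio
  subst hio
  haveI : Mono io.left := inferInstance
  haveI : Mono io := (Over.forget _).mono_of_mono_map (inferInstanceAs (Mono io.left))
  have hlift : ∀ s ∈ S, ∃ a : 𝟙_ (Over (Spec (CommRingCat.of k))) ⟶ Ho, a ≫ io = s := by
    intro s hs
    haveI : IsReduced (𝟙_ (Over (Spec (CommRingCat.of k)))).left :=
      inferInstanceAs (IsReduced (Spec (CommRingCat.of k)))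
    obtain ⟨l, hl⟩ := Groth.Agent.H8.RedImm.exists_lift_of_isImmersion_of_isReduced io.left s.left (by
      rintro _ ⟨z, rfl⟩
      have : z = IsLocalRing.closedPoint k :=
        @Subsingleton.elim (PrimeSpectrum k) _ z (IsLocalRing.closedPoint k)
      rw [hH, this]
      exact hSC s hs)
    refine ⟨Over.homMk l ?_, Over.OverMorphism.ext hl⟩
    rw [← Over.w io, ← Category.assoc, hl]
    exact Over.w s
  let D : Set (𝟙_ (Over (Spec (CommRingCat.of k))) ⟶ Ho) := {a | a ≫ io ∈ S}
  have hD : Dense ((fun a => pt k a) '' D) := by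
    rw [io.left.isEmbedding.isInducing.dense_iff]
    intro x
    have hx : io.left.base x ∈ C := by rw [← hH]; exact ⟨x, rfl⟩
    rw [hC] at hx
    refine closure_mono ?_ hx
    rintro _ ⟨s, hs, rfl⟩
    obtain ⟨a, rfl⟩ := hlift s hs
    exact ⟨pt k a, ⟨a, hs, rfl⟩, rfl⟩
  haveI : LocallyOfFiniteType Ho.hom := by rw [← Over.w io]; infer_instance
  haveI : GeometricallyReduced Ho.hom := geometricallyReduced_of_dense k Ho D hD
  haveI : IsLocallyNoetherian Ho.left := LocallyOfFiniteType.isLocallyNoetherian Ho.hom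
  haveI : IsReduced (Ho ⊗ Ho).left := inferInstanceAs (IsReduced (pullback Ho.hom Ho.hom))
  have hDD := dense_prod k Ho Ho D D hD hD
  -- multiplication
  obtain ⟨m, hm⟩ : ∃ m : Ho ⊗ Ho ⟶ Ho, m ≫ io = (io ⊗ₘ io) ≫ μ[G] := by
    obtain ⟨l, hl⟩ := Groth.Agent.H8.RedImm.exists_lift_of_isImmersion_of_isReduced io.left
      ((io ⊗ₘ io) ≫ μ[G]).left (by
      rw [hH]
      rintro _ ⟨z, rfl⟩
      have hcl : IsClosed (((io ⊗ₘ io) ≫ μ[G]).left.base ⁻¹' C) :=
        hCcl.preimage (Scheme.Hom.continuous _)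
      have hsub : (fun p : (𝟙_ (Over (Spec (CommRingCat.of k))) ⟶ Ho) ×
          (𝟙_ (Over (Spec (CommRingCat.of k))) ⟶ Ho) => pt k (lift p.1 p.2)) '' (D ×ˢ D) ⊆
          ((io ⊗ₘ io) ≫ μ[G]).left.base ⁻¹' C := by
        rintro _ ⟨⟨a, b⟩, ⟨ha, hb⟩, rfl⟩
        show pt k (lift a b ≫ (io ⊗ₘ io) ≫ μ[G]) ∈ C
        have : lift a b ≫ (io ⊗ₘ io) ≫ μ[G] = (a ≫ io) * (b ≫ io) := by
          rw [CategoryTheory.Hom.mul_def, lift_map_assoc]
        rw [this]
        exact hSC _ (S.mul_mem ha hb)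
      exact (hcl.closure_subset_iff.mpr hsub) (hDD z))
    refine ⟨Over.homMk l ?_, Over.OverMorphism.ext hl⟩
    rw [← Over.w io, ← Category.assoc, hl]
    exact Over.w _
  -- inverse
  obtain ⟨iv, hiv⟩ : ∃ iv : Ho ⟶ Ho, iv ≫ io = io ≫ ι[G] := by
    obtain ⟨l, hl⟩ := Groth.Agent.H8.RedImm.exists_lift_of_isImmersion_of_isReduced io.left
      (io ≫ ι[G]).left (by
      rw [hH]
      rintro _ ⟨z, rfl⟩
      have hcl : IsClosed ((io ≫ ι[G]).left.base ⁻¹' C) :=
        hCcl.preimage (Scheme.Hom.continuous _)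
      have hsub : (fun a => pt k a) '' D ⊆ (io ≫ ι[G]).left.base ⁻¹' C := by
        rintro _ ⟨a, ha, rfl⟩
        show pt k (a ≫ io ≫ ι[G]) ∈ C
        have : a ≫ io ≫ ι[G] = (a ≫ io)⁻¹ := by
          rw [CategoryTheory.Hom.inv_def, Category.assoc]
        rw [this]
        exact hSC _ (S.inv_mem ha)
      exact (hcl.closure_subset_iff.mpr hsub) (hD z))
    have hw : l ≫ Ho.hom = Ho.hom := by
      have h1 : l ≫ io.left ≫ G.hom = Ho.hom := by
        rw [← Category.assoc, hl]
        exact Over.w _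
      rwa [Over.w io] at h1
    exact ⟨Over.homMk l hw, Over.OverMorphism.ext hl⟩
  -- unit
  obtain ⟨e, he⟩ := hlift 1 S.one_mem
  have he' : e ≫ io = η[G] := by
    rw [he, CategoryTheory.Hom.one_def, toUnit_unique (toUnit _) (𝟙 _), Category.id_comp]
  letI grpH : GrpObj Ho := Groth.Agent.H9.GZD.grpObjOfMono io e m iv he' hm hiv
  have hmon : IsMonHom io := Groth.Agent.H9.GZD.isMonHom_ofMono io e m iv he' hm hiv
  refine ⟨Ho, grpH, io, hmon, inferInstance, ?_, hH⟩
  letI : GrpObj (Over.mk Ho.hom) := grpH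
  exact AlgebraicGeometry.smooth_of_grpObj Ho.hom

end Groth.Agent.H9.RatDense
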