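import Mathlib

/-! Helper9: Rees module dual form extension criterion (S15329). -/

open TensorProduct LaurentPolynomial

namespace Groth.Agent.H9.ReesDual

variable (k : Type*) [Field k] (E : Type*) [AddCommGroup E] [Module k E]

theorem T_mem_range {j : ℤ} (hj : 0 ≤ j) (c : k) :
    c • (T j : k[T;T⁻¹]) ∈ (Polynomial.toLaurent : Polynomial k →+* k[T;T⁻¹]).range := by
  obtain ⟨m, rfl⟩ := Int.eq_ofNat_of_zero_le hj
  refine ⟨Polynomial.C c * Polynomial.X ^ m, ?_⟩
  rw [map_mul, Polynomial.toLaurent_C, map_pow, Polynomial.toLaurent_X, T_pow, mul_one,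
    smul_eq_C_mul]

theorem coeff_toLaurent_neg (f : Polynomial k) {j : ℤ} (hj : j < 0) :
    (Polynomial.toLaurent f).coeff j = 0 := by
  rw [LaurentPolynomial.coeff_toLaurent]
  apply Finsupp.mapDomain_of_notMem_range
  rintro ⟨n, hn⟩
  have : (n : ℤ) = j := hn
  omega

theorem eq_zero_of_mem_range {j : ℤ} (hj : j < 0) (c : k)
    (h : c • (T j : k[T;T⁻¹]) ∈ (Polynomial.toLaurent : Polynomial k →+* k[T;T⁻¹]).range) :
    c = 0 := by
  obtain ⟨f, hf⟩ := h
  have := coeff_toLaurent_neg k f hj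
  rw [hf] at this
  have h2 : (c • (T j : k[T;T⁻¹])).coeff j = c := by
    rw [AddMonoidAlgebra.coeff_smul_apply, T, AddMonoidAlgebra.coeff_single,
      Finsupp.single_apply, if_pos rfl, smul_eq_mul, mul_one]
  rw [h2] at this
  exact this

variable {k E}

theorem main (F : ℤ → Submodule k E) (hF : Monotone F) (α : Module.Dual k E) (p : ℤ) :
    (∀ m ∈ Submodule.span k {x : k[T;T⁻¹] ⊗[k] E | ∃ (n : ℤ) (v : E), v ∈ F n ∧ x = T n ⊗ₜ[k] v},
      T p * (TensorProduct.AlgebraTensorModule.rid k k[T;T⁻¹] k[T;T⁻¹])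
          (LinearMap.baseChange k[T;T⁻¹] α m)
        ∈ (Polynomial.toLaurent : Polynomial k →+* k[T;T⁻¹]).range) ↔
    ∀ v ∈ F (-p - 1), α v = 0 := by
  have hgen : ∀ (n : ℤ) (v : E),
      T p * (TensorProduct.AlgebraTensorModule.rid k k[T;T⁻¹] k[T;T⁻¹])
          (LinearMap.baseChange k[T;T⁻¹] α (T n ⊗ₜ[k] v)) = α v • (T (p + n) : k[T;T⁻¹]) := by
    intro n v
    rw [LinearMap.baseChange_tmul, TensorProduct.AlgebraTensorModule.rid_tmul, mul_smul_comm,
      ← T_add]
  constructor
  · intro h v hv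
    have h1 := h (T (-p - 1) ⊗ₜ[k] v) (Submodule.subset_span ⟨-p - 1, v, hv, rfl⟩)
    rw [hgen] at h1
    exact eq_zero_of_mem_range k (by omega) _ h1
  · intro h m hm
    induction hm using Submodule.span_induction with
    | mem x hx =>
      obtain ⟨n, v, hv, rfl⟩ := hx
      rw [hgen]
      by_cases hpn : 0 ≤ p + n
      · exact T_mem_range k hpn _
      · have : α v = 0 := h v (hF (by omega) hv)
        rw [this, zero_smul]
        exact Subring.zero_mem _
    | zero => simp
    | add x y _ _ hx hy =>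
      rw [map_add, map_add, mul_add]
      exact Subring.add_mem _ hx hy
    | smul c x _ hx =>
      rw [← algebraMap_smul k[T;T⁻¹] c x, map_smul, map_smul, smul_eq_mul, ← mul_assoc,
        mul_comm (T p), mul_assoc]
      refine Subring.mul_mem _ ⟨Polynomial.C c, ?_⟩ hx
      rw [Polynomial.toLaurent_C]
      rfl

end Groth.Agent.H9.ReesDual
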