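import Groth.Agent.H4.RelSpecLib2
import Groth.Agent.Lib.Helper6.Canon2
import Groth.Agent.Lib.Helper9.Misc.GLM1
import Mathlib

/-! Helper9: the relative spectrum is fully faithful on quasi-coherent algebras, and the relative
spectrum of a filtered colimit of quasi-coherent algebras is the limit of the relative spectra. -/

set_option autoImplicit false
set_option linter.style.haveILetI false
set_option linter.unusedSectionVars false
set_option linter.unusedVariables false
universe u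
open CategoryTheory CategoryTheory.Limits AlgebraicGeometry TopologicalSpace Opposite

namespace Groth.Agent.H9.RelSpecLim
open RelSpec Groth.Agent.H4.RelSpecLib

variable {S : Scheme.{u}}

theorem specMap_id (A : QCAlg S) : QCAlg.specMap (𝟙 A) = 𝟙 A.spec := by
  apply Groth.Agent.H4.RelSpecLib.hom_ext A
  intro U hU
  rw [QCAlg.ι_specMap, QCAlg.id_hom, NatTrans.id_app, Spec.map_id, Category.id_comp,
    Category.comp_id]

theorem specMap_comp {A B C : QCAlg S} (φ : A ⟶ B) (ψ : B ⟶ C) :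
    QCAlg.specMap (φ ≫ ψ) = QCAlg.specMap ψ ≫ QCAlg.specMap φ := by
  apply Groth.Agent.H4.RelSpecLib.hom_ext C
  intro U hU
  rw [QCAlg.ι_specMap U hU (φ ≫ ψ), reassoc_of% (QCAlg.ι_specMap U hU ψ),
    QCAlg.ι_specMap U hU φ, QCAlg.comp_hom, NatTrans.comp_app, Spec.map_comp, Category.assoc]

theorem specMap_injective {A B : QCAlg S} {φ ψ : A ⟶ B}
    (h : QCAlg.specMap φ = QCAlg.specMap ψ) : φ = ψ := by
  have key : ∀ (U : S.Opens) (hU : IsAffineOpen U), φ.hom.app (op U) = ψ.hom.app (op U) := by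
    intro U hU
    have h1 := QCAlg.ι_specMap U hU φ
    rw [h, QCAlg.ι_specMap U hU ψ] at h1
    exact Spec.map_injective ((cancel_mono (A.ι U hU)).mp h1.symm)
  apply QCAlg.hom_ext
  apply (Functor.IsCoverDense.restrictHomEquivHom (G := Scheme.AffineZariskiSite.toOpensFunctor S)
    (K := Opens.grothendieckTopology S) (ℱ := A.presheaf)
    (ℱ' := (⟨B.presheaf, B.isSheaf⟩ : TopCat.Sheaf CommRingCat.{u} S.carrier))).symm.injective
  ext U : 2
  change φ.hom.app (op U.unop.1) = ψ.hom.app (op U.unop.1)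
  exact key U.unop.1 U.unop.2

theorem exists_specMap_eq {A B : QCAlg S} (a : B.spec ⟶ A.spec) (ha : a ≫ A.π = B.π) :
    ∃ φ : A ⟶ B, QCAlg.specMap φ = a := by
  haveI := Groth.Agent.S8255.result A
  obtain ⟨φh, e0⟩ : ∃ φh : A.presheaf ⟶ B.presheaf,
      A.gammaMap ≫ φh = AffAlg.algHom A.π B.π a ha ≫ B.gammaMap :=
    ⟨inv A.gammaMap ≫ AffAlg.algHom A.π B.π a ha ≫ B.gammaMap, by rw [IsIso.hom_inv_id_assoc]⟩
  have hcomm : A.str ≫ φh = B.str := by
    rw [← A.π_c_gammaMap, Category.assoc, e0, ← Category.assoc, AffAlg.algHom_comm,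
      B.π_c_gammaMap]
  let φ : A ⟶ B := ⟨φh, hcomm⟩
  refine ⟨φ, ?_⟩
  apply Groth.Agent.H4.RelSpecLib.hom_ext B
  intro U hU
  rw [QCAlg.ι_specMap]
  have hle : B.π ⁻¹ᵁ U ≤ a ⁻¹ᵁ (A.π ⁻¹ᵁ U) := by
    rw [← Scheme.Hom.comp_preimage, ha]
  have hr : Set.range (B.ι U hU ≫ a) ⊆ Set.range (A.ι U hU) := by
    rintro _ ⟨y, rfl⟩
    have e : (B.ι U hU ≫ a) ≫ A.π = B.ι U hU ≫ B.π := by rw [Category.assoc, ha]
    have h1 : A.π.base ((B.ι U hU ≫ a).base y) = B.π.base ((B.ι U hU).base y) :=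
      congrArg (fun f : Spec (B.presheaf.obj (op U)) ⟶ S => f.base y) e
    exact exists_chart A _ U hU (h1 ▸ π_ι_mem B U hU y)
  let b := IsOpenImmersion.lift (A.ι U hU) (B.ι U hU ≫ a) hr
  have hb : b ≫ A.ι U hU = B.ι U hU ≫ a := IsOpenImmersion.lift_fac _ _ hr
  let β := Spec.preimage b
  have hβ : Spec.map β = b := Spec.map_preimage b
  have hnat : b.appTop ≫ (Scheme.ΓSpecIso (B.presheaf.obj (op U))).hom =
      (Scheme.ΓSpecIso (A.presheaf.obj (op U))).hom ≫ β := by
    rw [← hβ]; exact Scheme.ΓSpecIso_naturality β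
  have e1 : A.gammaAff U hU ≫ φ.hom.app (op U) =
      a.appLE (A.π ⁻¹ᵁ U) (B.π ⁻¹ᵁ U) hle ≫ B.gammaAff U hU := by
    have := NatTrans.congr_app e0 (op U)
    rw [NatTrans.comp_app, NatTrans.comp_app, A.gammaMap_app U hU, B.gammaMap_app U hU,
      Groth.Agent.H6.Canon.algHom_app] at this
    exact this
  have e2 : (A.ι U hU).appLE (A.π ⁻¹ᵁ U) ⊤ (A.top_le_preimage U hU) ≫ b.appTop =
      a.appLE (A.π ⁻¹ᵁ U) (B.π ⁻¹ᵁ U) hle ≫
        (B.ι U hU).appLE (B.π ⁻¹ᵁ U) ⊤ (B.top_le_preimage U hU) := by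
    rw [appLE_comp_appTop b (A.ι U hU) (A.π ⁻¹ᵁ U) (A.top_le_preimage U hU),
      Scheme.Hom.appLE_comp_appLE]
    exact appLE_congr_hom hb _ _ _
  have hφ : φ.hom.app (op U) = β := by
    haveI := Groth.Agent.S8255.isIso_gammaAff A U hU
    rw [← cancel_epi (A.gammaAff U hU), e1]
    calc a.appLE (A.π ⁻¹ᵁ U) (B.π ⁻¹ᵁ U) hle ≫ B.gammaAff U hU
        = (a.appLE (A.π ⁻¹ᵁ U) (B.π ⁻¹ᵁ U) hle ≫
            (B.ι U hU).appLE (B.π ⁻¹ᵁ U) ⊤ (B.top_le_preimage U hU)) ≫
            (Scheme.ΓSpecIso (B.presheaf.obj (op U))).hom := by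
          rw [Category.assoc]; rfl
      _ = ((A.ι U hU).appLE (A.π ⁻¹ᵁ U) ⊤ (A.top_le_preimage U hU) ≫ b.appTop) ≫
            (Scheme.ΓSpecIso (B.presheaf.obj (op U))).hom := by rw [e2]
      _ = (A.ι U hU).appLE (A.π ⁻¹ᵁ U) ⊤ (A.top_le_preimage U hU) ≫
            (Scheme.ΓSpecIso (A.presheaf.obj (op U))).hom ≫ β := by
          rw [Category.assoc, hnat]
      _ = A.gammaAff U hU ≫ β := by rw [← Category.assoc]; rfl
  rw [hφ, hβ, hb]

section Lim
variable {J : Type u} [SmallCategory J] [IsFiltered J] (A : J ⥤ QCAlg S)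

/-- the inverse system of relative spectra. -/
noncomputable abbrev D : Jᵒᵖ ⥤ Scheme.{u} where
  obj j := (A.obj j.unop).spec
  map f := QCAlg.specMap (A.map f.unop)
  map_id j := by
    rw [unop_id, A.map_id, specMap_id]
  map_comp f g := by
    rw [unop_comp, A.map_comp, specMap_comp]

instance D_affine (i j : Jᵒᵖ) (f : i ⟶ j) : IsAffineHom ((D A).map f) := by
  have : IsAffineHom (QCAlg.specMap (A.map f.unop) ≫ (A.obj j.unop).π) := by
    rw [QCAlg.specMap_π]; infer_instance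
  exact IsAffineHom.of_comp (QCAlg.specMap (A.map f.unop)) (A.obj j.unop).π

theorem main (c : Cocone A) (hc : IsColimit c)
    (T : Scheme.{u}) (v : ∀ j : J, T ⟶ (A.obj j).spec)
    (hv : ∀ (j j' : J) (φ : j ⟶ j'), v j' ≫ QCAlg.specMap (A.map φ) = v j) :
    ∃! w : T ⟶ c.pt.spec, ∀ j : J, w ≫ QCAlg.specMap (c.ι.app j) = v j := by
  obtain ⟨cL, hcL, haff⟩ := Groth.Agent.H9.GLM.S2151_main (D A)
  haveI : Nonempty J := IsFiltered.nonempty
  let j₀ : J := Classical.arbitrary J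
  haveI := haff (op j₀)
  let ℓ : cL.pt ⟶ S := cL.π.app (op j₀) ≫ (A.obj j₀).π
  have hw : ∀ (j j' : J) (f : j ⟶ j'),
      cL.π.app (op j) ≫ (A.obj j).π = cL.π.app (op j') ≫ (A.obj j').π := by
    intro j j' f
    have := cL.w f.op
    rw [← this, Category.assoc]
    change _ ≫ QCAlg.specMap (A.map f) ≫ _ = _
    rw [QCAlg.specMap_π]
  have hℓ : ∀ j : J, cL.π.app (op j) ≫ (A.obj j).π = ℓ := by
    intro j
    rw [hw j _ (IsFiltered.leftToMax j j₀)]
    exact (hw j₀ _ (IsFiltered.rightToMax j j₀)).symm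
  haveI : IsAffineHom ℓ := by
    show IsAffineHom (cL.π.app (op j₀) ≫ (A.obj j₀).π)
    infer_instance
  let A' : QCAlg S := QCAlg.directImage ℓ
  let κ : cL.pt ⟶ A'.spec := Groth.Agent.H6.Canon.canon ℓ
  haveI : IsIso κ := Groth.Agent.H6.Canon.isIso_canon ℓ
  have hκ : κ ≫ A'.π = ℓ := Groth.Agent.H6.Canon.canon_π ℓ
  have hκ' : inv κ ≫ ℓ = A'.π := by rw [IsIso.inv_comp_eq, hκ]
  have hα : ∀ j : J, ∃ α : A.obj j ⟶ A', QCAlg.specMap α = inv κ ≫ cL.π.app (op j) := by
    intro j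
    apply exists_specMap_eq
    rw [Category.assoc, hℓ j, hκ']
  choose α hα using hα
  have hαnat : ∀ (j j' : J) (f : j ⟶ j'), A.map f ≫ α j' = α j := by
    intro j j' f
    apply specMap_injective
    rw [specMap_comp, hα, hα, Category.assoc]
    congr 1
    exact cL.w f.op
  let s : Cocone A :=
    { pt := A'
      ι := { app := α
             naturality := fun j j' f => (hαnat j j' f).trans (Category.comp_id _).symm } }
  let θ : c.pt ⟶ A' := hc.desc s
  have hθ : ∀ j, c.ι.app j ≫ θ = α j := fun j => hc.fac s j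
  let m : cL.pt ⟶ c.pt.spec := κ ≫ QCAlg.specMap θ
  let coneC : Cone (D A) :=
    { pt := c.pt.spec
      π := { app := fun j => QCAlg.specMap (c.ι.app j.unop)
             naturality := fun i j f => (Category.id_comp _).trans (by
               change QCAlg.specMap (c.ι.app j.unop) =
                 QCAlg.specMap (c.ι.app i.unop) ≫ QCAlg.specMap (A.map f.unop)
               rw [← specMap_comp, c.w f.unop]) } }
  let k : c.pt.spec ⟶ cL.pt := hcL.lift coneC
  have hk : ∀ j : J, k ≫ cL.π.app (op j) = QCAlg.specMap (c.ι.app j) :=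
    fun j => hcL.fac coneC (op j)
  have hmk : m ≫ k = 𝟙 _ := by
    apply hcL.hom_ext
    intro j
    rw [Category.assoc, Category.id_comp]
    have : k ≫ cL.π.app j = QCAlg.specMap (c.ι.app j.unop) := hcL.fac coneC j
    rw [this]
    change (κ ≫ QCAlg.specMap θ) ≫ _ = _
    rw [Category.assoc, ← specMap_comp, hθ, hα, IsIso.hom_inv_id_assoc]
  have hkm : k ≫ m = 𝟙 _ := by
    have hover : (k ≫ m) ≫ c.pt.π = c.pt.π := by
      change (k ≫ κ ≫ QCAlg.specMap θ) ≫ _ = _
      rw [Category.assoc, Category.assoc, QCAlg.specMap_π, hκ, ← hℓ j₀, ← Category.assoc, hk j₀,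
        QCAlg.specMap_π]
      rfl
    obtain ⟨ρ, hρ⟩ := exists_specMap_eq (k ≫ m) hover
    have hρ1 : ρ = 𝟙 _ := by
      apply hc.hom_ext
      intro j
      rw [Category.comp_id]
      apply specMap_injective
      rw [specMap_comp, hρ, ← hk j, Category.assoc, reassoc_of% hmk]
    rw [← hρ, hρ1, specMap_id]
  let coneT : Cone (D A) :=
    { pt := T
      π := { app := fun j => v j.unop
             naturality := fun i j f => (Category.id_comp _).trans (by
               change v j.unop = v i.unop ≫ QCAlg.specMap (A.map f.unop)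
               rw [hv]) } }
  let t : T ⟶ cL.pt := hcL.lift coneT
  have ht : ∀ j : J, t ≫ cL.π.app (op j) = v j := fun j => hcL.fac coneT (op j)
  refine ⟨t ≫ m, fun j => ?_, fun w' hw' => ?_⟩
  · rw [← hk j, Category.assoc, reassoc_of% hmk, ht]
  · have h1 : w' ≫ k = t := by
      apply hcL.hom_ext
      intro j
      have e1 : k ≫ cL.π.app j = QCAlg.specMap (c.ι.app j.unop) := hcL.fac coneC j
      have e2 : t ≫ cL.π.app j = v j.unop := hcL.fac coneT j
      rw [Category.assoc, e1, e2, hw']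
    rw [← h1, Category.assoc, hkm, Category.comp_id]

end Lim

end Groth.Agent.H9.RelSpecLim
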