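import Mathlib

namespace Groth.Agent.H9.ResHyp

open Polynomial

section basic
variable {F : Type*} [Field F]

/-- polynomial with given coefficient vector -/
noncomputable def P (k : ℕ) (v : Fin (k+1) → F) : F[X] :=
  ∑ j : Fin (k+1), C (v j) * X ^ (j : ℕ)

lemma P_snoc (k : ℕ) (v : Fin (k+1) → F) (t : F) :
    P (k+1) (Fin.snoc (α := fun _ => F) v t) = P k v + C t * X ^ (k+1) := by
  unfold P
  rw [Fin.sum_univ_castSucc]
  simp [Fin.snoc_castSucc, Fin.snoc_last]

lemma P_cons (k : ℕ) (v : Fin (k+1) → F) (t : F) :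
    P (k+1) (Fin.cons (α := fun _ => F) t v) = C t + X * P k v := by
  unfold P
  rw [Fin.sum_univ_succ, Finset.mul_sum]
  simp only [Fin.cons_zero, Fin.cons_succ, Fin.val_zero, pow_zero, mul_one, Fin.val_succ]
  congr 1
  refine Finset.sum_congr rfl fun i _ => ?_
  ring

lemma P_zero (v : Fin (0+1) → F) : P 0 v = C (v 0) := by
  unfold P
  rw [Fin.sum_univ_succ]
  simp

lemma P_natDegree_le (k : ℕ) (v : Fin (k+1) → F) : (P k v).natDegree ≤ k := by
  unfold P
  refine natDegree_sum_le_of_forall_le _ _ fun j _ => ?_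
  refine (natDegree_C_mul_X_pow_le _ _).trans ?_
  have := j.isLt
  omega

lemma P_coeff (k : ℕ) (v : Fin (k+1) → F) (i : Fin (k+1)) : (P k v).coeff (i : ℕ) = v i := by
  unfold P
  rw [finsetSum_coeff]
  simp only [coeff_C_mul_X_pow]
  rw [Finset.sum_eq_single i]
  · simp
  · intro j _ hj
    rw [if_neg]
    intro h
    exact hj (Fin.ext h.symm)
  · simp

lemma P_coeff_last (k : ℕ) (v : Fin (k+1) → F) : (P k v).coeff k = v (Fin.last k) := by
  have := P_coeff k v (Fin.last k)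
  simpa using this

lemma P_of_coeff (k : ℕ) (p : F[X]) (hp : p.natDegree ≤ k) :
    P k (fun j => p.coeff (j : ℕ)) = p := by
  unfold P
  rw [Fin.sum_univ_eq_sum_range (fun j => C (p.coeff j) * X ^ j) (k+1)]
  exact (as_sum_range_C_mul_X_pow' p (Nat.lt_succ_of_le hp)).symm

lemma P_sub (k : ℕ) (e v : Fin (k+1) → F) : P k (e - v) = P k e - P k v := by
  unfold P
  rw [← Finset.sum_sub_distrib]
  refine Finset.sum_congr rfl fun j _ => ?_
  simp [sub_mul]

lemma P_smul (k : ℕ) (a : F) (v : Fin (k+1) → F) : P k (a • v) = C a * P k v := by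
  unfold P
  rw [Finset.mul_sum]
  refine Finset.sum_congr rfl fun j _ => ?_
  simp [mul_assoc]

lemma eval_P_cons (k : ℕ) (v : Fin (k+1) → F) (t r : F) :
    eval r (P (k+1) (Fin.cons (α := fun _ => F) t v)) = t + r * eval r (P k v) := by
  rw [P_cons]
  simp

open Classical in
/-- indicator of being nonzero -/
noncomputable def δ (x : F) : ℕ := if x = 0 then 0 else 1

lemma δ_zero : δ (0 : F) = 0 := by simp [δ]

lemma δ_ne {x : F} (h : x ≠ 0) : δ x = 1 := by simp [δ, h]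

lemma δ_mul (x y : F) : δ (x * y) = δ x * δ y := by
  by_cases hx : x = 0
  · simp [hx, δ_zero]
  by_cases hy : y = 0
  · simp [hy, δ_zero]
  rw [δ_ne hx, δ_ne hy, δ_ne (mul_ne_zero hx hy)]

lemma δ_unit_mul {a : F} (ha : a ≠ 0) (x : F) : δ (a * x) = δ x := by
  rw [δ_mul, δ_ne ha, one_mul]

lemma δ_pow (x : F) {n : ℕ} (hn : n ≠ 0) : δ (x ^ n) = δ x := by
  by_cases hx : x = 0
  · simp [hx, zero_pow hn]
  rw [δ_ne hx, δ_ne (pow_ne_zero _ hx)]

lemma δ_sq_self (x : F) : δ x * δ x = δ x := by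
  by_cases hx : x = 0
  · simp [hx, δ_zero]
  · simp [δ_ne hx]

lemma δ_neg_one_pow (m : ℕ) : δ ((-1 : F) ^ m) = 1 :=
  δ_ne (pow_ne_zero _ (neg_ne_zero.mpr one_ne_zero))

lemma ite_ne_eq_δ (x : F) [Decidable (x ≠ 0)] : (if x ≠ 0 then 1 else 0) = δ x := by
  unfold δ
  split_ifs <;> simp_all

lemma card_subtype_eq_sum {α : Type*} [Fintype α] (Q : α → Prop) [DecidablePred Q] :
    Nat.card {a // Q a} = ∑ a, if Q a then 1 else 0 := by
  rw [Nat.card_eq_fintype_card, Fintype.card_subtype, Finset.card_filter]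

/-- linear polynomial `a + x X` with `x ≠ 0` as a multiple of `X - r`. -/
lemma lin_eq (a x : F) (hx : x ≠ 0) : C a + C x * X ^ (0+1) = C x * (X - C (-a / x)) := by
  have : C a = - (C x * C (-a / x)) := by
    rw [← C_mul, ← C_neg]
    congr 1
    field_simp
  rw [this]
  ring

end basic

section count
variable {F : Type*} [Field F] [Fintype F]

lemma sum_split (H : F → ℕ) (a b : ℕ) (h0 : H 0 = a) (h1 : ∀ x, x ≠ 0 → H x = b) :
    ∑ x : F, H x = a + (Fintype.card F - 1) * b := by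
  classical
  rw [← Finset.add_sum_erase Finset.univ H (Finset.mem_univ (0:F)), h0]
  congr 1
  rw [Finset.sum_congr rfl (fun x hx => h1 x (Finset.ne_of_mem_erase hx)), Finset.sum_const,
    Finset.card_erase_of_mem (Finset.mem_univ _), Finset.card_univ, smul_eq_mul]

lemma sum_δ : ∑ x : F, δ x = Fintype.card F - 1 := by
  rw [sum_split δ 0 1 δ_zero (fun x hx => δ_ne hx)]
  simp

lemma sum_δ_add (b : F) : ∑ x : F, δ (x + b) = Fintype.card F - 1 := by
  have := Equiv.sum_comp (Equiv.addRight b) (fun x : F => δ x)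
  simp only [Equiv.coe_addRight] at this
  rw [this, sum_δ]

lemma sum_cons (n : ℕ) (φ : (Fin (n+1) → F) → ℕ) :
    ∑ d : Fin (n+1) → F, φ d =
      ∑ x : F, ∑ d' : Fin n → F, φ (Fin.cons (α := fun _ => F) x d') := by
  rw [← Fintype.sum_prod_type']
  exact (Fintype.sum_equiv (Fin.consEquiv (fun _ => F)) _ _ (fun p => rfl)).symm

lemma sum_snoc (n : ℕ) (φ : (Fin (n+1) → F) → ℕ) :
    ∑ d : Fin (n+1) → F, φ d =
      ∑ x : F, ∑ d' : Fin n → F, φ (Fin.snoc (α := fun _ => F) d' x) := by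
  rw [← Fintype.sum_prod_type']
  exact (Fintype.sum_equiv (Fin.snocEquiv (fun _ => F)) _ _ (fun p => rfl)).symm

lemma sum_const_fun (n : ℕ) (c : ℕ) : ∑ _d : Fin n → F, c = Fintype.card F ^ n * c := by
  rw [Finset.sum_const, Finset.card_univ, Fintype.card_fun, Fintype.card_fin, smul_eq_mul]

lemma sum_δ_last (k : ℕ) :
    ∑ d : Fin (k+1) → F, δ (d (Fin.last k)) = (Fintype.card F - 1) * Fintype.card F ^ k := by
  rw [sum_snoc]
  simp only [Fin.snoc_last, sum_const_fun]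
  rw [← Finset.mul_sum, sum_δ, mul_comm]

lemma sum_E (k : ℕ) (r : F) :
    ∑ d : Fin (k+1+1) → F, δ (d (Fin.last (k+1))) * δ (eval r (P (k+1) d)) =
      (Fintype.card F - 1)^2 * Fintype.card F ^ k := by
  rw [sum_cons]
  have h : ∀ (x : F) (d' : Fin (k+1) → F),
      δ ((Fin.cons (α := fun _ => F) x d' : Fin (k+1+1) → F) (Fin.last (k+1))) *
        δ (eval r (P (k+1) (Fin.cons (α := fun _ => F) x d'))) =
      δ (d' (Fin.last k)) * δ (x + r * eval r (P k d')) := by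
    intro x d'
    rw [eval_P_cons, ← Fin.succ_last, Fin.cons_succ]
  simp only [h]
  rw [Finset.sum_comm]
  simp only [← Finset.mul_sum, sum_δ_add]
  rw [← Finset.sum_mul, sum_δ_last]
  ring

/-- Euclidean reduction -/
lemma sum_D (f f0 : F[X]) (c2 : F) (hc2 : c2 ≠ 0) (hf : f = f0 + C c2 * X^2)
    (hf0 : f0.natDegree ≤ 1) (k : ℕ) :
    ∑ d : Fin (k+1+1) → F, δ (resultant f (P (k+1) d) 2 (k+1)) =
      Fintype.card F ^ k * ∑ h : Fin (0+1+1) → F, δ (resultant f (P (0+1) h) 2 (0+1)) := by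
  have hfdeg : f.natDegree ≤ 2 := by
    rw [hf]
    exact (natDegree_add_le _ _).trans
      (max_le (hf0.trans (by norm_num)) (natDegree_C_mul_X_pow_le _ _))
  have hfc : f.coeff 2 = c2 := by
    rw [hf, coeff_add, coeff_C_mul_X_pow,
      coeff_eq_zero_of_natDegree_lt (lt_of_le_of_lt hf0 (by norm_num))]
    simp
  induction k with
  | zero => rw [pow_zero, one_mul]
  | succ k IH =>
    rw [sum_snoc]
    have key : ∀ t : F,
        ∑ e : Fin (k+1+1) → F,
          δ (resultant f (P (k+1+1) (Fin.snoc (α := fun _ => F) e t)) 2 (k+1+1)) =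
        ∑ e : Fin (k+1+1) → F, δ (resultant f (P (k+1) e) 2 (k+1)) := by
      intro t
      set p : F[X] := C (t / c2) * X ^ k with hp
      have hpdeg : p.natDegree ≤ k := natDegree_C_mul_X_pow_le _ _
      have hw : C t * X ^ (k+1+1) = f * p - f0 * p := by
        have : C t = C c2 * C (t / c2) := by rw [← C_mul, mul_div_cancel₀ t hc2]
        rw [hf, hp, this]
        ring
      have hwdeg : (f0 * p).natDegree ≤ k + 1 := by
        refine natDegree_mul_le.trans ?_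
        omega
      set v : Fin (k+1+1) → F := fun j => (f0 * p).coeff (j : ℕ) with hv
      have hPv : P (k+1) v = f0 * p := P_of_coeff (k+1) _ hwdeg
      have step : ∀ e : Fin (k+1+1) → F,
          δ (resultant f (P (k+1+1) (Fin.snoc (α := fun _ => F) e t)) 2 (k+1+1)) =
            δ (resultant f (P (k+1) (e - v)) 2 (k+1)) := by
        intro e
        have e1 : P (k+1+1) (Fin.snoc (α := fun _ => F) e t) = P (k+1) (e - v) + f * p := by
          rw [P_snoc, hw, P_sub, hPv]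
          ring
        rw [e1, resultant_add_mul_right f _ p 2 (k+1+1) (by omega) hfdeg,
          resultant_add_right_deg f _ 2 (k+1) 1 (P_natDegree_le _ _), hfc, pow_one,
          δ_unit_mul hc2]
      simp only [step]
      exact Equiv.sum_comp (Equiv.subRight v) (fun e => δ (resultant f (P (k+1) e) 2 (k+1)))
    simp only [key]
    rw [Finset.sum_const, Finset.card_univ, smul_eq_mul, IH, pow_succ]
    ring

lemma exists_card : ∃ Q, Fintype.card F = Q + 1 :=
  ⟨Fintype.card F - 1, by have := Fintype.card_pos (α := F); omega⟩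

lemma sum_A (c2 : F) (hc2 : c2 ≠ 0) :
    ∑ c' : Fin (0+1+1) → F, ∑ h : Fin (0+1+1) → F,
        δ (resultant (P (0+1) c' + C c2 * X^2) (P (0+1) h) 2 (0+1)) =
      (Fintype.card F - 1) * Fintype.card F ^ 3 := by
  have hdeg : ∀ c' : Fin (0+1+1) → F, (P (0+1) c' + C c2 * X^2).natDegree ≤ 2 := by
    intro c'
    exact (natDegree_add_le _ _).trans
      (max_le ((P_natDegree_le _ _).trans (by norm_num)) (natDegree_C_mul_X_pow_le _ _))
  have hcoef : ∀ c' : Fin (0+1+1) → F, (P (0+1) c' + C c2 * X^2).coeff 2 = c2 := by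
    intro c'
    rw [coeff_add, coeff_C_mul_X_pow,
      coeff_eq_zero_of_natDegree_lt (lt_of_le_of_lt (P_natDegree_le _ _) (by norm_num))]
    simp
  rw [Finset.sum_comm, sum_snoc]
  rw [sum_split _ ((Fintype.card F - 1) * Fintype.card F ^ 2)
    (Fintype.card F ^ 1 * (Fintype.card F ^ 1 * (Fintype.card F - 1))) ?_ ?_]
  · obtain ⟨Q, hQ⟩ := exists_card (F := F)
    rw [hQ]
    simp only [Nat.add_sub_cancel]
    ring
  · -- h1 = 0
    have h : ∀ (h0' : Fin (0+1) → F) (c' : Fin (0+1+1) → F),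
        δ (resultant (P (0+1) c' + C c2 * X^2)
          (P (0+1) (Fin.snoc (α := fun _ => F) h0' (0:F))) 2 (0+1)) = δ (h0' (Fin.last 0)) := by
      intro h0' c'
      have e1 : P (0+1) (Fin.snoc (α := fun _ => F) h0' (0:F)) = C (h0' (Fin.last 0)) := by
        rw [P_snoc, P_zero]
        simp
      rw [e1, resultant_C_right, hcoef, δ_mul, δ_pow _ (Nat.succ_ne_zero 0), δ_ne hc2, one_mul,
        δ_pow _ two_ne_zero]
    simp only [h, sum_const_fun]
    rw [← Finset.mul_sum, sum_δ_last]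
    ring
  · -- h1 ≠ 0
    intro x hx
    have h : ∀ (h0' : Fin (0+1) → F),
        ∑ c' : Fin (0+1+1) → F, δ (resultant (P (0+1) c' + C c2 * X^2)
          (P (0+1) (Fin.snoc (α := fun _ => F) h0' x)) 2 (0+1)) =
        Fintype.card F ^ 1 * (Fintype.card F - 1) := by
      intro h0'
      have e1 : P (0+1) (Fin.snoc (α := fun _ => F) h0' x) = C x * (X - C (-(h0' 0) / x)) := by
        rw [P_snoc, P_zero, lin_eq _ _ hx]
      have e2 : ∀ c' : Fin (0+1+1) → F, δ (resultant (P (0+1) c' + C c2 * X^2)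
          (P (0+1) (Fin.snoc (α := fun _ => F) h0' x)) 2 (0+1)) =
          δ (eval (-(h0' 0) / x) (P (0+1) c' + C c2 * X^2)) := by
        intro c'
        rw [e1, resultant_C_mul_right,
          resultant_X_sub_C_right _ _ _ (hdeg c'), δ_mul, δ_pow _ two_ne_zero, δ_ne hx, one_mul,
          δ_mul, δ_neg_one_pow, one_mul]
      simp only [e2]
      rw [sum_cons]
      have e3 : ∀ (c0 : F) (c1' : Fin (0+1) → F),
          δ (eval (-(h0' 0) / x) (P (0+1) (Fin.cons (α := fun _ => F) c0 c1') + C c2 * X^2)) =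
          δ (c0 + ((-(h0' 0) / x) * eval (-(h0' 0) / x) (P 0 c1') + c2 * (-(h0' 0) / x)^2)) := by
        intro c0 c1'
        rw [eval_add, eval_P_cons]
        simp [add_assoc]
      simp only [e3]
      rw [Finset.sum_comm]
      simp only [sum_δ_add, sum_const_fun]
    simp only [h, sum_const_fun]

lemma sum_B (k : ℕ) :
    ∑ c' : Fin (0+1+1) → F, ∑ d : Fin (k+1+1) → F,
        δ (d (Fin.last (k+1))) * δ (resultant (P (0+1) c') (P (k+1) d) 1 (k+1)) =
      (Fintype.card F - 1)^2 * Fintype.card F ^ (k+2) := by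
  rw [sum_snoc]
  rw [sum_split _ ((Fintype.card F - 1) * ((Fintype.card F - 1) * Fintype.card F ^ (k+1)))
    (Fintype.card F ^ 1 * ((Fintype.card F - 1)^2 * Fintype.card F ^ k)) ?_ ?_]
  · obtain ⟨Q, hQ⟩ := exists_card (F := F)
    rw [hQ]
    simp only [Nat.add_sub_cancel]
    ring
  · -- c1 = 0
    have h : ∀ (c0' : Fin (0+1) → F) (d : Fin (k+1+1) → F),
        δ (d (Fin.last (k+1))) * δ (resultant (P (0+1) (Fin.snoc (α := fun _ => F) c0' (0:F)))
          (P (k+1) d) 1 (k+1)) = δ (c0' (Fin.last 0)) * δ (d (Fin.last (k+1))) := by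
      intro c0' d
      have e1 : P (0+1) (Fin.snoc (α := fun _ => F) c0' (0:F)) = C (c0' (Fin.last 0)) := by
        rw [P_snoc, P_zero]
        simp
      rw [e1, resultant_C_left, P_coeff_last, δ_mul, δ_mul, δ_neg_one_pow, one_mul,
        δ_pow _ one_ne_zero, δ_pow _ (Nat.succ_ne_zero k), ← mul_assoc, δ_sq_self, mul_comm]
    simp only [h]
    simp only [← Finset.mul_sum, sum_δ_last]
    rw [← Finset.sum_mul, sum_δ_last]
    ring
  · intro x hx
    have h : ∀ (c0' : Fin (0+1) → F),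
        ∑ d : Fin (k+1+1) → F,
          δ (d (Fin.last (k+1))) * δ (resultant (P (0+1) (Fin.snoc (α := fun _ => F) c0' x))
            (P (k+1) d) 1 (k+1)) = (Fintype.card F - 1)^2 * Fintype.card F ^ k := by
      intro c0'
      have e1 : P (0+1) (Fin.snoc (α := fun _ => F) c0' x) = C x * (X - C (-(c0' 0) / x)) := by
        rw [P_snoc, P_zero, lin_eq _ _ hx]
      have e2 : ∀ d : Fin (k+1+1) → F,
          δ (resultant (P (0+1) (Fin.snoc (α := fun _ => F) c0' x)) (P (k+1) d) 1 (k+1)) =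
          δ (eval (-(c0' 0) / x) (P (k+1) d)) := by
        intro d
        rw [e1, resultant_C_mul_left, resultant_X_sub_C_left _ _ _ (P_natDegree_le _ _), δ_mul,
          δ_pow _ (Nat.succ_ne_zero k), δ_ne hx, one_mul]
      simp only [e2]
      exact sum_E k _
    simp only [h, sum_const_fun]

/-- the core count -/
lemma core (k : ℕ) :
    ∑ c : Fin (1+1+1) → F, ∑ d : Fin (k+1+1) → F,
        δ (resultant (P (1+1) c) (P (k+1) d) 2 (k+1)) =
      (Fintype.card F - 1)^2 * (Fintype.card F + 1) * Fintype.card F ^ (k+2) := by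
  rw [sum_snoc]
  rw [sum_split _ ((Fintype.card F - 1)^2 * Fintype.card F ^ (k+2))
    (Fintype.card F ^ k * ((Fintype.card F - 1) * Fintype.card F ^ 3)) ?_ ?_]
  · obtain ⟨Q, hQ⟩ := exists_card (F := F)
    rw [hQ]
    simp only [Nat.add_sub_cancel]
    ring
  · -- c2 = 0
    have h : ∀ (c' : Fin (1+1) → F) (d : Fin (k+1+1) → F),
        δ (resultant (P (1+1) (Fin.snoc (α := fun _ => F) c' (0:F))) (P (k+1) d) 2 (k+1)) =
        δ (d (Fin.last (k+1))) * δ (resultant (P (0+1) c') (P (k+1) d) 1 (k+1)) := by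
      intro c' d
      have e1 : P (1+1) (Fin.snoc (α := fun _ => F) c' (0:F)) = P (0+1) c' := by
        rw [P_snoc]
        simp
      rw [e1, (resultant_succ_left_deg (P (0+1) c') (P (k+1) d) 1 (k+1) (P_natDegree_le _ _) :
        resultant (P (0+1) c') (P (k+1) d) 2 (k+1) = _), P_coeff_last, δ_mul, δ_mul,
        δ_neg_one_pow, one_mul]
    simp only [h]
    exact sum_B k
  · intro x hx
    have h : ∀ (c' : Fin (1+1) → F),
        ∑ d : Fin (k+1+1) → F,
          δ (resultant (P (1+1) (Fin.snoc (α := fun _ => F) c' x)) (P (k+1) d) 2 (k+1)) =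
        Fintype.card F ^ k * ∑ h : Fin (0+1+1) → F,
          δ (resultant (P (0+1) c' + C x * X^2) (P (0+1) h) 2 (0+1)) := by
      intro c'
      have e1 : P (1+1) (Fin.snoc (α := fun _ => F) c' x) = P (0+1) c' + C x * X^2 := by
        rw [P_snoc]
      rw [e1]
      exact sum_D _ (P (0+1) c') x hx rfl (P_natDegree_le _ _) k
    simp only [h]
    rw [← Finset.mul_sum]
    exact congrArg _ (sum_A x hx)

end count

section final

/-- the resultant of the two coefficient vectors -/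
noncomputable abbrev Rs {F : Type*} [Field F] (n : ℕ) (p : (Fin 3 → F) × (Fin (n + 1) → F)) : F :=
  Polynomial.resultant (∑ i : Fin 3, Polynomial.C (p.1 i) * Polynomial.X ^ (i : ℕ))
    (∑ j : Fin (n + 1), Polynomial.C (p.2 j) * Polynomial.X ^ (j : ℕ)) 2 n

lemma Rs_eq {F : Type*} [Field F] (n : ℕ) (p : (Fin 3 → F) × (Fin (n + 1) → F)) :
    Rs n p = resultant (P 2 p.1) (P n p.2) 2 n := rfl

theorem count_ne_Q (F : Type*) [Field F] [Fintype F] (k : ℕ) :
    Nat.card {p : (Fin 3 → F) × (Fin (k + 1 + 1) → F) // Rs (k+1) p ≠ 0} =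
      (Fintype.card F - 1)^2 * (Fintype.card F + 1) * Fintype.card F ^ (k+2) := by
  classical
  rw [card_subtype_eq_sum, Fintype.sum_prod_type]
  simp only [ite_ne_eq_δ]
  exact core k

theorem count_ne (F : Type*) [Field F] [Fintype F] (n : ℕ) (h2 : 2 ≤ n) :
    Nat.card {p : (Fin 3 → F) × (Fin (n + 1) → F) //
      Polynomial.resultant (∑ i : Fin 3, Polynomial.C (p.1 i) * Polynomial.X ^ (i : ℕ))
        (∑ j : Fin (n + 1), Polynomial.C (p.2 j) * Polynomial.X ^ (j : ℕ)) 2 n ≠ 0} =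
      Fintype.card F ^ (n + 4) - Fintype.card F ^ (n + 3) - Fintype.card F ^ (n + 2)
        + Fintype.card F ^ (n + 1) := by
  obtain ⟨k, rfl⟩ : ∃ k, n = k + 1 := ⟨n - 1, by omega⟩
  rw [count_ne_Q F k]
  obtain ⟨Q, hQ⟩ : ∃ Q, Fintype.card F = Q + 2 :=
    ⟨Fintype.card F - 2, by have := Fintype.one_lt_card (α := F); omega⟩
  rw [hQ]
  have e1 : Q + 2 - 1 = Q + 1 := rfl
  rw [e1]
  have h1 : (Q+1)^2 * (Q + 2 + 1) * (Q+2)^(k+2) + (Q+2)^(k+1+3) + (Q+2)^(k+1+2) =
      (Q+2)^(k+1+4) + (Q+2)^(k+1+1) := by ring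
  have h2 : (Q+2)^(k+1+3) + (Q+2)^(k+1+2) ≤ (Q+2)^(k+1+4) := by
    have ha : (Q+2)^(k+1+4) = (Q+2)^(k+1+3) * (Q+2) := pow_succ _ _
    have hb : (Q+2)^(k+1+3) = (Q+2)^(k+1+2) * (Q+2) := pow_succ _ _
    have hpos : 0 < (Q+2)^(k+1+2) := pow_pos (by omega) _
    nlinarith
  generalize (Q+2)^(k+1+4) = a at *
  generalize (Q+2)^(k+1+3) = b at *
  generalize (Q+2)^(k+1+2) = c at *
  generalize (Q+2)^(k+1+1) = d at *
  generalize (Q+1)^2 * (Q + 2 + 1) * (Q+2)^(k+2) = X at *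
  omega

lemma Rs_smul {F : Type*} [Field F] (n : ℕ) (a b : F) (p : (Fin 3 → F) × (Fin (n + 1) → F)) :
    Rs n (a • p.1, b • p.2) = a ^ n * b ^ 2 * Rs n p := by
  rw [Rs_eq, Rs_eq]
  show resultant (P 2 (a • p.1)) (P n (b • p.2)) 2 n = _
  rw [P_smul, P_smul, resultant_C_mul_left, resultant_C_mul_right]
  ring

lemma aux1 {F : Type*} [Field F] (a : F) (ha : a ≠ 0) (m : ℕ) :
    a ^ (2*m+1) * ((a⁻¹)^m)^2 = a := by
  rw [← pow_mul, mul_comm m 2, pow_succ, inv_pow]
  field_simp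

lemma aux2 {F : Type*} [Field F] (a : F) (ha : a ≠ 0) (m : ℕ) :
    (a⁻¹) ^ (2*m+1) * (a^m)^2 * a = 1 := by
  rw [← pow_mul, mul_comm m 2, inv_pow, mul_assoc, ← pow_succ, inv_mul_cancel₀ (pow_ne_zero _ ha)]

/-- the free action of the units -/
noncomputable def eqv {F : Type*} [Field F] (m : ℕ) :
    Fˣ × {p : (Fin 3 → F) × (Fin (2*m+1 + 1) → F) // Rs (2*m+1) p = 1} ≃
      {p : (Fin 3 → F) × (Fin (2*m+1 + 1) → F) // Rs (2*m+1) p ≠ 0} where
  toFun ap := ⟨((ap.1 : F) • ap.2.1.1, ((ap.1 : F)⁻¹)^m • ap.2.1.2), by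
    rw [Rs_smul, ap.2.2, mul_one, aux1 _ ap.1.ne_zero]
    exact ap.1.ne_zero⟩
  invFun p := (Units.mk0 (Rs (2*m+1) p.1) p.2,
    ⟨((Rs (2*m+1) p.1)⁻¹ • p.1.1, (Rs (2*m+1) p.1)^m • p.1.2), by
      rw [Rs_smul, aux2 _ p.2]⟩)
  left_inv := by
    rintro ⟨a, ⟨p, hp⟩⟩
    have hR : Rs (2*m+1) ((a : F) • p.1, ((a : F)⁻¹)^m • p.2) = (a : F) := by
      rw [Rs_smul, hp, mul_one, aux1 _ a.ne_zero]
    refine Prod.ext (Units.ext ?_) (Subtype.ext ?_)
    · exact hR
    · show ((Rs (2*m+1) ((a : F) • p.1, ((a : F)⁻¹)^m • p.2))⁻¹ • ((a : F) • p.1),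
        (Rs (2*m+1) ((a : F) • p.1, ((a : F)⁻¹)^m • p.2))^m • (((a : F)⁻¹)^m • p.2)) = p
      rw [hR]
      refine Prod.ext ?_ ?_
      · show (a : F)⁻¹ • ((a : F) • p.1) = p.1
        rw [inv_smul_smul₀ a.ne_zero]
      · show (a : F)^m • (((a : F)⁻¹)^m • p.2) = p.2
        rw [smul_smul, ← mul_pow, mul_inv_cancel₀ a.ne_zero, one_pow, one_smul]
  right_inv := by
    rintro ⟨p, hp⟩
    refine Subtype.ext ?_
    show ((Rs (2*m+1) p) • ((Rs (2*m+1) p)⁻¹ • p.1),
      ((Rs (2*m+1) p)⁻¹)^m • ((Rs (2*m+1) p)^m • p.2)) = p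
    refine Prod.ext ?_ ?_
    · show (Rs (2*m+1) p) • ((Rs (2*m+1) p)⁻¹ • p.1) = p.1
      rw [smul_inv_smul₀ hp]
    · show ((Rs (2*m+1) p)⁻¹)^m • ((Rs (2*m+1) p)^m • p.2) = p.2
      rw [smul_smul, ← mul_pow, inv_mul_cancel₀ hp, one_pow, one_smul]

theorem count_eq_one (F : Type*) [Field F] [Fintype F] (n : ℕ) (hn : Odd n) (h3 : 3 ≤ n) :
    Nat.card {p : (Fin 3 → F) × (Fin (n + 1) → F) //
      Polynomial.resultant (∑ i : Fin 3, Polynomial.C (p.1 i) * Polynomial.X ^ (i : ℕ))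
        (∑ j : Fin (n + 1), Polynomial.C (p.2 j) * Polynomial.X ^ (j : ℕ)) 2 n = 1} =
      Fintype.card F ^ (n + 3) - Fintype.card F ^ (n + 1) := by
  obtain ⟨m, rfl⟩ := hn
  have h1 := Nat.card_congr (eqv (F := F) m)
  rw [Nat.card_prod, Nat.card_units, Nat.card_eq_fintype_card (α := F)] at h1
  have h2 := count_ne_Q F (2*m)
  rw [h2] at h1
  obtain ⟨Q, hQ⟩ : ∃ Q, Fintype.card F = Q + 2 :=
    ⟨Fintype.card F - 2, by have := Fintype.one_lt_card (α := F); omega⟩
  rw [hQ] at h1 ⊢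
  have e1 : Q + 2 - 1 = Q + 1 := rfl
  rw [e1] at h1
  have h3 : Nat.card {p : (Fin 3 → F) × (Fin (2*m+1 + 1) → F) // Rs (2*m+1) p = 1} =
      (Q+1) * (Q+2+1) * (Q+2)^(2*m+2) := by
    refine Nat.eq_of_mul_eq_mul_left (by omega : 0 < Q + 1) ?_
    rw [h1]
    ring
  show Nat.card {p : (Fin 3 → F) × (Fin (2*m+1 + 1) → F) // Rs (2*m+1) p = 1} = _
  rw [h3]
  refine Nat.eq_sub_of_add_eq ?_
  ring

end final

end Groth.Agent.H9.ResHyp
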