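import Mathlib
import Groth.Agent.Lib.Helper9.Misc.RexF

set_option autoImplicit false
set_option linter.unusedSectionVars false
set_option linter.unusedVariables false

namespace Groth.Agent.H9.Rex

universe u v' u'

open CategoryTheory Limits

section FF

variable {A : Type u} [CommRing A] {B : Type u'} [Category.{v'} B] [Preadditive B]
  (F F' : FP A ⥤ B) [PreservesFiniteColimits F] [PreservesFiniteColimits F']

theorem tauF_naturality (t : F ⟶ F') (M : FP A) (m : (M.obj : ModuleCat.{u} A)) :
    tauF F M m ≫ t.app M = t.app AA ≫ tauF F' M m := by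
  rw [tauF_apply, tauF_apply]
  unfold Fm
  exact t.naturality _

theorem faithful (t t' : F ⟶ F') (h : t.app (AA : FP A) = t'.app AA) : t = t' := by
  apply NatTrans.ext
  funext M
  apply (RepF F M).hom_ext
  intro m
  show tauF F M m ≫ t.app M = tauF F M m ≫ t'.app M
  rw [tauF_naturality, tauF_naturality, h]

variable (φ : F.obj (AA : FP A) ⟶ F'.obj AA)
  (hφ : ∀ a : A, (kap F a : F.obj (AA : FP A) ⟶ F.obj AA) ≫ φ =
    φ ≫ (kap F' a : F'.obj (AA : FP A) ⟶ F'.obj AA))

noncomputable def psiM (M : FP A) : KLin (kap F) (M.obj : ModuleCat.{u} A) (F'.obj M) where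
  toFun m := φ ≫ tauF F' M m
  map_add' m m' := by
    rw [KLin.map_add, Preadditive.comp_add]
  map_smul' a m := by
    rw [KLin.map_smul, ← Category.assoc, ← hφ a, Category.assoc]

theorem psiM_apply (M : FP A) (m : (M.obj : ModuleCat.{u} A)) :
    psiM F F' φ hφ M m = φ ≫ tauF F' M m := rfl

noncomputable def natOf : F ⟶ F' where
  app M := (RepF F M).desc (psiM F F' φ hφ M)
  naturality M N f := by
    apply (RepF F M).hom_ext
    intro m
    show tauF F M m ≫ F.map f ≫ (RepF F N).desc (psiM F F' φ hφ N) =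
      tauF F M m ≫ (RepF F M).desc (psiM F F' φ hφ M) ≫ F'.map f
    have e1 : tauF F M m ≫ F.map f = tauF F N (f.hom.hom m) := by
      rw [← Fm_hom F f]
      exact tauF_comp F f.hom.hom m
    have e2 : tauF F' M m ≫ F'.map f = tauF F' N (f.hom.hom m) := by
      rw [← Fm_hom F' f]
      exact tauF_comp F' f.hom.hom m
    have d1 : tauF F N (f.hom.hom m) ≫ (RepF F N).desc (psiM F F' φ hφ N) =
        psiM F F' φ hφ N (f.hom.hom m) := (RepF F N).tau_desc _ _
    have d2 : tauF F M m ≫ (RepF F M).desc (psiM F F' φ hφ M) =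
        psiM F F' φ hφ M m := (RepF F M).tau_desc _ _
    rw [← Category.assoc, e1, d1, ← Category.assoc, d2, psiM_apply, psiM_apply, Category.assoc, e2]

theorem natOf_app_AA : (natOf F F' φ hφ).app (AA : FP A) = φ := by
  apply (RepF F AA).hom_ext
  intro a
  show tauF F AA a ≫ (RepF F AA).desc (psiM F F' φ hφ AA) = tauF F AA a ≫ φ
  have d : tauF F AA a ≫ (RepF F AA).desc (psiM F F' φ hφ AA) = psiM F F' φ hφ AA a :=
    (RepF F AA).tau_desc _ _
  rw [d, psiM_apply]
  have e1 : tauF F (AA : FP A) a = (kap F a : F.obj (AA : FP A) ⟶ F.obj AA) := by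
    rw [tauF_apply, elt_AA]
    rfl
  have e2 : tauF F' (AA : FP A) a = (kap F' a : F'.obj (AA : FP A) ⟶ F'.obj AA) := by
    rw [tauF_apply, elt_AA]
    rfl
  rw [e1, e2, hφ a]

end FF

theorem main6726
    (A : Type u) [CommRing A] {B : Type u'} [Category.{v'} B] [Preadditive B] [HasFiniteBiproducts B]
    [HasCokernels B] (F F' : (ObjectProperty.FullSubcategory (fun M : ModuleCat.{u} A => Module.FinitePresentation A M)) ⥤ B)
    [PreservesFiniteColimits F] [PreservesFiniteColimits F'] :
    (∀ t t' : F ⟶ F', t.app (⟨ModuleCat.of A A, inferInstance⟩ : (ObjectProperty.FullSubcategory (fun M : ModuleCat.{u} A => Module.FinitePresentation A M))) = t'.app (⟨ModuleCat.of A A, inferInstance⟩ : (ObjectProperty.FullSubcategory (fun M : ModuleCat.{u} A => Module.FinitePresentation A M))) → t = t') ∧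
    ∀ φ : F.obj (⟨ModuleCat.of A A, inferInstance⟩ : (ObjectProperty.FullSubcategory (fun M : ModuleCat.{u} A => Module.FinitePresentation A M))) ⟶ F'.obj (⟨ModuleCat.of A A, inferInstance⟩ : (ObjectProperty.FullSubcategory (fun M : ModuleCat.{u} A => Module.FinitePresentation A M))),
      (∀ a : A, F.map (ObjectProperty.homMk (ModuleCat.ofHom (LinearMap.lsmul A A a)) : (⟨ModuleCat.of A A, inferInstance⟩ : (ObjectProperty.FullSubcategory (fun M : ModuleCat.{u} A => Module.FinitePresentation A M))) ⟶ (⟨ModuleCat.of A A, inferInstance⟩ : (ObjectProperty.FullSubcategory (fun M : ModuleCat.{u} A => Module.FinitePresentation A M)))) ≫ φ = φ ≫ F'.map (ObjectProperty.homMk (ModuleCat.ofHom (LinearMap.lsmul A A a)) : (⟨ModuleCat.of A A, inferInstance⟩ : (ObjectProperty.FullSubcategory (fun M : ModuleCat.{u} A => Module.FinitePresentation A M))) ⟶ (⟨ModuleCat.of A A, inferInstance⟩ : (ObjectProperty.FullSubcategory (fun M : ModuleCat.{u} A => Module.FinitePresentation A M))))) →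
      ∃ t : F ⟶ F', t.app (⟨ModuleCat.of A A, inferInstance⟩ : (ObjectProperty.FullSubcategory (fun M : ModuleCat.{u} A => Module.FinitePresentation A M))) = φ := by
  refine ⟨fun t t' h => faithful F F' t t' h, fun φ hφ => ?_⟩
  exact ⟨natOf F F' φ hφ, natOf_app_AA F F' φ hφ⟩

end Groth.Agent.H9.Rex
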