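import Mathlib
set_option autoImplicit false
set_option linter.style.haveILetI false
set_option linter.unusedSectionVars false
set_option linter.unusedVariables false
namespace Groth.Agent.H9.RootBlock
universe u v w
open Submodule Module.End Set

variable {ι : Type u} [Finite ι] [DecidableEq ι] {k : Type v} [Field k] [CharZero k]
  {M : Type w} [AddCommGroup M] [Module k M] {N : Type w} [AddCommGroup N] [Module k N]
  (P : RootPairing ι k M N) (b : P.Base)

lemma closure_le_span (s : Set M) {x : M} (hx : x ∈ AddSubmonoid.closure s) : x ∈ span k s :=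
  (AddSubmonoid.closure_le (S := (span k s).toAddSubmonoid)).mpr subset_span hx

/-- decomposition of nonnegative combinations -/
lemma decomp (J : Finset ι) (x : M)
    (hx : x ∈ AddSubmonoid.closure (P.root '' (b.support : Set ι))) :
    ∃ y ∈ AddSubmonoid.closure (P.root '' (J : Set ι)),
      ∃ w ∈ AddSubmonoid.closure (P.root '' ((b.support : Set ι) \ (J : Set ι))), x = y + w := by
  induction hx using AddSubmonoid.closure_induction with
  | mem x hx =>
    obtain ⟨i, hi, rfl⟩ := hx
    by_cases hiJ : i ∈ J
    · exact ⟨P.root i, AddSubmonoid.subset_closure ⟨i, hiJ, rfl⟩, 0, zero_mem _, by simp⟩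
    · exact ⟨0, zero_mem _, P.root i, AddSubmonoid.subset_closure ⟨i, ⟨hi, hiJ⟩, rfl⟩, by simp⟩
  | zero => exact ⟨0, zero_mem _, 0, zero_mem _, by simp⟩
  | add x y hx hy ihx ihy =>
    obtain ⟨y1, hy1, w1, hw1, rfl⟩ := ihx
    obtain ⟨y2, hy2, w2, hw2, rfl⟩ := ihy
    exact ⟨y1 + y2, add_mem hy1 hy2, w1 + w2, add_mem hw1 hw2, by abel⟩

lemma mem_closure_of_mem_span (J : Finset ι) (hJ : J ⊆ b.support) (x : M)
    (hx : x ∈ AddSubmonoid.closure (P.root '' (b.support : Set ι)))
    (hxs : x ∈ span k (P.root '' (J : Set ι))) :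
    x ∈ AddSubmonoid.closure (P.root '' (J : Set ι)) := by
  obtain ⟨y, hy, w, hw, rfl⟩ := decomp P b J x hx
  have hdj : Disjoint ((J : Set ι)) ((b.support : Set ι) \ (J : Set ι)) := disjoint_sdiff_right
  have hun : (J : Set ι) ∪ ((b.support : Set ι) \ (J : Set ι)) = (b.support : Set ι) := by
    rw [Set.union_sdiff_self]
    exact Set.union_eq_self_of_subset_left (by exact_mod_cast hJ)
  have hli := b.linearIndepOn_root
  rw [← hun, linearIndepOn_union_iff hdj] at hli
  have hd := hli.2.2
  have hys := closure_le_span (k := k) _ hy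
  have hws := closure_le_span (k := k) _ hw
  have hw' : w ∈ span k (P.root '' (J : Set ι)) := by
    have : w = (y + w) - y := by abel
    rw [this]
    exact sub_mem hxs hys
  have : w = 0 := by
    have := (Submodule.disjoint_def.mp hd) w hw' hws
    exact this
  rw [this, add_zero]
  exact hy

variable [P.IsCrystallographic]

/-- the pairing of a nonnegative combination of simple roots with another simple coroot -/
lemma pairing_nonpos (J : Finset ι) (hJ : J ⊆ b.support) (l : ι) (hl : l ∈ b.support) (hlJ : l ∉ J)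
    (x : M) (hx : x ∈ AddSubmonoid.closure (P.root '' (J : Set ι))) :
    ∃ z : ℤ, z ≤ 0 ∧ P.coroot' l x = (z : k) := by
  induction hx using AddSubmonoid.closure_induction with
  | mem x hx =>
    obtain ⟨i, hi, rfl⟩ := hx
    have hil : i ≠ l := fun h => hlJ (h ▸ hi)
    refine ⟨P.pairingIn ℤ i l, b.pairingIn_le_zero_of_ne hil (hJ hi) hl, ?_⟩
    rw [RootPairing.root_coroot'_eq_pairing, ← P.algebraMap_pairingIn ℤ]
    simp
  | zero => exact ⟨0, le_refl _, by simp⟩
  | add x y hx hy ihx ihy =>
    obtain ⟨z1, h1, e1⟩ := ihx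
    obtain ⟨z2, h2, e2⟩ := ihy
    exact ⟨z1 + z2, by omega, by rw [map_add, e1, e2]; push_cast; rfl⟩

theorem main [P.IsReduced] [P.IsIrreducible]
    (I A B : Finset ι) (hcover : I ∪ A ∪ B = b.support) (hIA : Disjoint I A) (hIB : Disjoint I B)
    (hAB : Disjoint A B) (hA : A.Nonempty) (hB : B.Nonempty) :
    ∃ l ∈ A, ∃ j : ι, P.root j ∈ AddSubmonoid.closure (P.root '' ↑(I ∪ B)) ∧
      P.root j ∉ Submodule.span k (P.root '' ↑I) ∧ P.pairingIn ℤ j l < 0 := by
  by_contra hcon
  push Not at hcon
  have hIs : I ⊆ b.support := by rw [← hcover]; intro i hi; simp [hi]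
  have hAs : A ⊆ b.support := by rw [← hcover]; intro i hi; simp [hi]
  have hBs : B ⊆ b.support := by rw [← hcover]; intro i hi; simp [hi]
  have hIBs : I ∪ B ⊆ b.support := Finset.union_subset hIs hBs
  -- key vanishing
  have hvan1 : ∀ l ∈ A, ∀ j : ι, P.root j ∈ AddSubmonoid.closure (P.root '' ↑(I ∪ B)) →
      P.root j ∉ Submodule.span k (P.root '' ↑I) → P.pairing j l = 0 := by
    intro l hl j hj hjI
    have h1 := hcon l hl j hj hjI
    have hlJ : l ∉ I ∪ B := by
      intro h
      rcases Finset.mem_union.mp h with h | h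
      · exact Finset.disjoint_left.mp hIA h hl
      · exact Finset.disjoint_left.mp hAB hl h
    obtain ⟨z, hz, e⟩ := pairing_nonpos P b (I ∪ B) hIBs l (hAs hl) hlJ _ hj
    rw [RootPairing.root_coroot'_eq_pairing, ← P.algebraMap_pairingIn ℤ] at e
    have e' : P.pairingIn ℤ j l = z := by
      have : ((P.pairingIn ℤ j l : ℤ) : k) = (z : k) := by simpa using e
      exact_mod_cast this
    have : z = 0 := by omega
    rw [← P.algebraMap_pairingIn ℤ, e', this]
    simp
  -- roots in the span of I ∪ B but not of I
  let S : Set ι := {j | P.root j ∈ span k (P.root '' ↑(I ∪ B)) ∧ P.root j ∉ span k (P.root '' ↑I)}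
  have hvan : ∀ l ∈ A, ∀ j ∈ S, P.pairing j l = 0 := by
    intro l hl j hj
    rcases b.root_mem_or_neg_mem j with h | h
    · exact hvan1 l hl j (mem_closure_of_mem_span P b (I ∪ B) hIBs _ h hj.1) hj.2
    · -- use the negative root
      have hr : P.root (P.reflectionPerm j j) = - P.root j := by
        rw [RootPairing.root_reflectionPerm, RootPairing.reflection_apply_self]
      have h1 : P.root (P.reflectionPerm j j) ∈ AddSubmonoid.closure (P.root '' ↑(I ∪ B)) := by
        rw [hr]
        exact mem_closure_of_mem_span P b (I ∪ B) hIBs _ h (neg_mem hj.1)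
      have h2 : P.root (P.reflectionPerm j j) ∉ Submodule.span k (P.root '' ↑I) := by
        rw [hr]
        intro h
        exact hj.2 (by simpa using neg_mem h)
      have h3 := hvan1 l hl _ h1 h2
      have h4 : P.pairing (P.reflectionPerm j j) l = - P.pairing j l := by
        rw [← RootPairing.root_coroot'_eq_pairing, hr, map_neg, RootPairing.root_coroot'_eq_pairing]
      rw [h4] at h3
      exact neg_eq_zero.mp h3
  have hBS : ∀ i ∈ B, i ∈ S := by
    intro i hi
    refine ⟨subset_span ⟨i, by simp [hi], rfl⟩, ?_⟩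
    have h1 := b.linearIndepOn_root.notMem_span (hBs hi)
    intro h2
    apply h1
    refine span_mono (Set.image_mono ?_) h2
    intro x hx
    refine ⟨hIs hx, ?_⟩
    rintro rfl
    exact Finset.disjoint_left.mp hIB hx hi
  let q : Submodule k M := span k (P.root '' S)
  have hqle : q ≤ span k (P.root '' ↑(I ∪ B)) := by
    refine span_le.mpr ?_
    rintro _ ⟨j, hj, rfl⟩
    exact hj.1
  have hinv : ∀ i ∈ b.support, q ∈ invtSubmodule (P.reflection i) := by
    intro i hi
    rw [Module.End.mem_invtSubmodule]
    refine span_le.mpr ?_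
    rintro _ ⟨j, hj, rfl⟩
    show (P.reflection i) (P.root j) ∈ q
    rw [← hcover] at hi
    rcases Finset.mem_union.mp hi with hi | hi
    · rcases Finset.mem_union.mp hi with hi | hi
      · -- i ∈ I
        rw [← RootPairing.root_reflectionPerm]
        refine subset_span ⟨_, ⟨?_, ?_⟩, rfl⟩
        · rw [RootPairing.root_reflectionPerm, RootPairing.reflection_apply_root]
          exact sub_mem hj.1 (smul_mem _ _ (subset_span ⟨i, by simp [hi], rfl⟩))
        · rw [RootPairing.root_reflectionPerm, RootPairing.reflection_apply_root]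
          intro h
          apply hj.2
          have h2 : P.root i ∈ span k (P.root '' (I : Set ι)) := subset_span ⟨i, by simpa using hi, rfl⟩
          have := add_mem h (smul_mem _ (P.pairing j i) h2)
          simpa using this
      · -- i ∈ A
        rw [RootPairing.reflection_apply_root, hvan i hi j hj, zero_smul, sub_zero]
        exact subset_span ⟨j, hj, rfl⟩
    · -- i ∈ B
      rw [RootPairing.reflection_apply_root]
      exact sub_mem (subset_span ⟨j, hj, rfl⟩) (smul_mem _ _ (subset_span ⟨i, hBS i hi, rfl⟩))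
  have hinv' := (b.forall_mem_support_invtSubmodule_iff q).mp hinv
  obtain ⟨b0, hb0⟩ := hB
  have hne : q ≠ ⊥ := by
    intro h
    have : P.root b0 ∈ q := subset_span ⟨b0, hBS b0 hb0, rfl⟩
    rw [h, Submodule.mem_bot] at this
    exact P.ne_zero b0 this
  have htop := RootPairing.IsIrreducible.eq_top_of_invtSubmodule_reflection q hinv' hne
  obtain ⟨a0, ha0⟩ := hA
  have h1 := b.linearIndepOn_root.notMem_span (hAs ha0)
  apply h1
  have : P.root a0 ∈ span k (P.root '' ↑(I ∪ B)) := hqle (htop ▸ Submodule.mem_top)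
  refine span_mono (Set.image_mono ?_) this
  intro x hx
  have hx' : x ∈ I ∪ B := by exact_mod_cast hx
  refine ⟨hIBs hx', ?_⟩
  rintro rfl
  rcases Finset.mem_union.mp hx' with h | h
  · exact Finset.disjoint_left.mp hIA h ha0
  · exact Finset.disjoint_left.mp hAB ha0 h

end Groth.Agent.H9.RootBlock
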