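import Mathlib

/-!
# Solving the "potential" equations on the Dynkin diagram of a finite root pairing (helper9)
-/

set_option autoImplicit false
set_option linter.unusedSectionVars false
set_option linter.unusedVariables false
set_option linter.style.haveILetI false

universe u v w x

namespace Groth.Agent.H9.RootD

section Comb

variable {ι : Type*} [DecidableEq ι]

theorem exists_potential (supp : Finset ι) (a : ι → ι → ℤ)
    (hA1 : ∀ S : Finset ι, S ⊆ supp → S.Nonempty → ∃ s ∈ S, 0 < ∑ t ∈ S, a s t)
    (hA2 : ∀ s, a s s = 2)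
    (hA3 : ∀ s ∈ supp, ∀ t ∈ supp, s ≠ t → a s t ≤ 0)
    (hA4 : ∀ s ∈ supp, ∀ t ∈ supp, a s t = 0 → a t s = 0)
    (e : ι → ι → ℤ) (he : ∀ s t, e t s = - e s t)
    (he0 : ∀ s ∈ supp, ∀ t ∈ supp, s ≠ t → a s t = 0 → e s t = 0) :
    ∀ S : Finset ι, S ⊆ supp →
      ∃ u : ι → ℤ, ∀ s ∈ S, ∀ t ∈ S, s ≠ t → a s t * u s - a t s * u t = e s t := by
  intro S
  induction S using Finset.strongInduction with
  | H S ih =>
    intro hS
    by_cases hne : S.Nonempty
    · obtain ⟨s, hsS, hpos⟩ := hA1 S hS hne
      have hs_supp := hS hsS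
      have hS'sub : S.erase s ⊂ S := Finset.erase_ssubset hsS
      obtain ⟨u', hu'⟩ := ih (S.erase s) hS'sub (hS'sub.subset.trans hS)
      have hsum : ∑ t ∈ S, a s t = 2 + ∑ t ∈ S.erase s, a s t := by
        rw [← Finset.add_sum_erase S _ hsS, hA2]
      have hnonpos : ∀ t ∈ S.erase s, a s t ≤ 0 := fun t ht =>
        hA3 s hs_supp t (hS (Finset.mem_of_mem_erase ht)) (Finset.ne_of_mem_erase ht).symm
      by_cases hall : ∀ t ∈ S.erase s, a s t = 0
      · refine ⟨u', ?_⟩
        intro p hp y hy hpy
        by_cases hps : p = s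
        · rw [hps] at hpy ⊢
          have hyS' : y ∈ S.erase s := Finset.mem_erase.mpr ⟨hpy.symm, hy⟩
          have h0 := hall y hyS'
          have h0' := hA4 s hs_supp y (hS hy) h0
          rw [h0, h0', he0 s hs_supp y (hS hy) hpy h0]
          ring
        · by_cases hys : y = s
          · rw [hys] at hpy ⊢
            have hpS' : p ∈ S.erase s := Finset.mem_erase.mpr ⟨hps, hp⟩
            have h0 := hall p hpS'
            have h0' := hA4 s hs_supp p (hS hp) h0
            rw [h0, h0', he s p, he0 s hs_supp p (hS hp) (Ne.symm hpy) h0]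
            ring
          · exact hu' p (Finset.mem_erase.mpr ⟨hps, hp⟩) y (Finset.mem_erase.mpr ⟨hys, hy⟩) hpy
      · push Not at hall
        obtain ⟨t0, ht0, hat0⟩ := hall
        have ht0s : t0 ≠ s := Finset.ne_of_mem_erase ht0
        have ht0S : t0 ∈ S := Finset.mem_of_mem_erase ht0
        have hat0' : a s t0 ≤ -1 := by
          have := hnonpos t0 ht0
          omega
        have hsum' : ∑ t ∈ S.erase s, a s t =
            a s t0 + ∑ t ∈ (S.erase s).erase t0, a s t :=
          (Finset.add_sum_erase _ _ ht0).symm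
        have hrest_nonpos : ∑ t ∈ (S.erase s).erase t0, a s t ≤ 0 :=
          Finset.sum_nonpos (fun t ht => hnonpos t (Finset.mem_of_mem_erase ht))
        have h1 : a s t0 = -1 := by omega
        have h2 : ∑ t ∈ (S.erase s).erase t0, a s t = 0 := by omega
        have hothers : ∀ t ∈ (S.erase s).erase t0, a s t = 0 :=
          (Finset.sum_eq_zero_iff_of_nonpos
            (fun t ht => hnonpos t (Finset.mem_of_mem_erase ht))).mp h2
        refine ⟨Function.update u' s (- e s t0 - a t0 s * u' t0), ?_⟩
        intro p hp y hy hpy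
        by_cases hps : p = s
        · rw [hps] at hpy ⊢
          have hys : y ≠ s := hpy.symm
          rw [Function.update_self, Function.update_of_ne hys]
          by_cases hyt : y = t0
          · rw [hyt, h1]
            ring
          · have hy' : y ∈ (S.erase s).erase t0 :=
              Finset.mem_erase.mpr ⟨hyt, Finset.mem_erase.mpr ⟨hys, hy⟩⟩
            have h0 := hothers y hy'
            have h0' := hA4 s hs_supp y (hS hy) h0
            rw [h0, h0', he0 s hs_supp y (hS hy) hpy h0]
            ring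
        · by_cases hys : y = s
          · rw [hys] at hpy ⊢
            rw [Function.update_self, Function.update_of_ne hps]
            by_cases hpt : p = t0
            · rw [hpt, h1, he s t0]
              ring
            · have hp' : p ∈ (S.erase s).erase t0 :=
                Finset.mem_erase.mpr ⟨hpt, Finset.mem_erase.mpr ⟨hps, hp⟩⟩
              have h0 := hothers p hp'
              have h0' := hA4 s hs_supp p (hS hp) h0
              rw [h0, h0', he s p, he0 s hs_supp p (hS hp) (Ne.symm hpy) h0]
              ring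
          · rw [Function.update_of_ne hps, Function.update_of_ne hys]
            exact hu' p (Finset.mem_erase.mpr ⟨hps, hp⟩) y (Finset.mem_erase.mpr ⟨hys, hy⟩) hpy
    · refine ⟨fun _ => 0, ?_⟩
      intro s hs
      exact absurd ⟨s, hs⟩ hne

end Comb

section RP

variable {ι : Type u} {R : Type v} {M : Type w} {N : Type x} [CommRing R] [IsDomain R] [CharZero R]
  [AddCommGroup M] [Module R M] [AddCommGroup N] [Module R N]

theorem exists_pos_sum_root (P : RootPairing ι R M N) [Finite ι] [P.IsCrystallographic]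
    (b : P.Base) (S : Finset ι) (hS : S ⊆ b.support) (hne : S.Nonempty) :
    ∃ s ∈ S, 0 < ∑ t ∈ S, P.pairingIn ℤ t s := by
  classical
  letI : Fintype ι := Fintype.ofFinite ι
  let B := P.posRootForm ℤ
  let z : P.rootSpan ℤ := ∑ t ∈ S, P.rootSpanMem ℤ t
  have hz : z ≠ 0 := by
    intro h0
    have h1 : ∑ t ∈ S, P.root t = 0 := by
      have := congrArg (fun y : P.rootSpan ℤ => (y : M)) h0
      simpa [z] using this
    obtain ⟨s0, hs0⟩ := hne
    have hli := linearIndepOn_finset_iff.mp b.linearIndepOn_root
      (fun i => if i ∈ S then (1 : R) else 0) (by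
        rw [← h1]
        rw [← Finset.sum_subset hS (f := fun i => (if i ∈ S then (1 : R) else 0) • P.root i)]
        · apply Finset.sum_congr rfl
          intro i hi
          rw [if_pos hi, one_smul]
        · intro i _ hi
          rw [if_neg hi, zero_smul]) s0 (hS hs0)
    rw [if_pos hs0] at hli
    exact one_ne_zero hli
  have hpos : 0 < B.posForm z z := P.posRootForm_posForm_pos_of_ne_zero ℤ hz
  have hexp : B.posForm z z = ∑ s ∈ S, B.posForm z (P.rootSpanMem ℤ s) := by
    simp only [z, map_sum]
  obtain ⟨s, hsS, hs⟩ : ∃ s ∈ S, 0 < B.posForm z (P.rootSpanMem ℤ s) := by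
    by_contra hcon
    push Not at hcon
    have := Finset.sum_nonpos hcon
    omega
  refine ⟨s, hsS, ?_⟩
  have h2 : ∀ t, 2 * B.posForm (P.rootSpanMem ℤ t) (P.rootSpanMem ℤ s) =
      P.pairingIn ℤ t s * B.posForm (P.rootSpanMem ℤ s) (P.rootSpanMem ℤ s) := by
    intro t
    apply FaithfulSMul.algebraMap_injective ℤ R
    rw [map_mul, map_mul, B.algebraMap_posForm, B.algebraMap_posForm, P.algebraMap_pairingIn ℤ,
      map_ofNat]
    exact B.toInvariantForm.two_mul_apply_root_root t s
  have h3 : 2 * B.posForm z (P.rootSpanMem ℤ s) =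
      (∑ t ∈ S, P.pairingIn ℤ t s) * B.posForm (P.rootSpanMem ℤ s) (P.rootSpanMem ℤ s) := by
    simp only [z, map_sum, LinearMap.sum_apply, Finset.mul_sum, Finset.sum_mul, h2]
  have hL : 0 < B.posForm (P.rootSpanMem ℤ s) (P.rootSpanMem ℤ s) :=
    B.zero_lt_posForm_apply_root s
  by_contra hle
  push Not at hle
  have h4 : (∑ t ∈ S, P.pairingIn ℤ t s) *
      B.posForm (P.rootSpanMem ℤ s) (P.rootSpanMem ℤ s) ≤ 0 :=
    mul_nonpos_of_nonpos_of_nonneg hle hL.le
  linarith

theorem flip_pairingIn (P : RootPairing ι R M N) [P.IsCrystallographic] (i j : ι) :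
    P.flip.pairingIn ℤ i j = P.pairingIn ℤ j i := by
  apply FaithfulSMul.algebraMap_injective ℤ R
  rw [RootPairing.algebraMap_pairingIn, RootPairing.algebraMap_pairingIn, RootPairing.pairing_flip]

theorem exists_pos_sum_coroot (P : RootPairing ι R M N) [Finite ι] [P.IsCrystallographic]
    (b : P.Base) (S : Finset ι) (hS : S ⊆ b.support) (hne : S.Nonempty) :
    ∃ s ∈ S, 0 < ∑ t ∈ S, P.pairingIn ℤ s t := by
  obtain ⟨s, hs, h⟩ := exists_pos_sum_root P.flip b.flip S hS hne
  refine ⟨s, hs, ?_⟩
  simpa only [flip_pairingIn] using h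

theorem main (P : RootPairing ι R M N) [Finite ι] [P.IsCrystallographic] (b : P.Base)
    (d : ι → ι → ℤ)
    (hd : ∀ i ∈ b.support, ∀ j ∈ b.support, i ≠ j → P.pairingIn ℤ i j = 0 → d i j = d j i) :
    ∃ C : ι → ι → ℤ, ∀ i ∈ b.support, ∀ j ∈ b.support, i ≠ j →
      C i j + C j i - P.pairingIn ℤ j i * C j j = d i j := by
  classical
  have hzero : ∀ i j, P.pairingIn ℤ i j = 0 → P.pairingIn ℤ j i = 0 := by
    intro i j h
    have h1 : P.pairing i j = 0 := by
      rw [← P.algebraMap_pairingIn ℤ, h, map_zero]
    have h2 : P.pairing j i = 0 := P.pairing_eq_zero_iff'.mp h1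
    apply FaithfulSMul.algebraMap_injective ℤ R
    rw [P.algebraMap_pairingIn ℤ, h2, map_zero]
  obtain ⟨u, hu⟩ := exists_potential b.support (fun s t => P.pairingIn ℤ s t)
    (fun S hS hne => exists_pos_sum_coroot P b S hS hne)
    (fun s => P.pairingIn_same ℤ s)
    (fun s hs t ht hst => b.pairingIn_le_zero_of_ne hst hs ht)
    (fun s _ t _ h => hzero s t h)
    (fun s t => d s t - d t s) (fun s t => by ring)
    (fun s hs t ht hst h => by
      have := hd s hs t ht hst h
      show d s t - d t s = 0
      rw [this, sub_self]) b.support (Finset.Subset.refl _)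
  obtain ⟨n, ⟨eqv⟩⟩ := Finite.exists_equiv_fin ι
  let f : ι → ℕ := fun i => (eqv i : ℕ)
  have hf : Function.Injective f := fun i j h => eqv.injective (Fin.ext h)
  refine ⟨fun i j => if i = j then u i else if f i < f j then d i j + P.pairingIn ℤ j i * u j
    else 0, ?_⟩
  intro i hi j hj hij
  have hji : j ≠ i := Ne.symm hij
  have hfij : f i ≠ f j := fun h => hij (hf h)
  have heq := hu i hi j hj hij
  simp only [if_neg hij, if_neg hji, if_true]
  rcases lt_or_gt_of_ne hfij with hlt | hgt
  · rw [if_pos hlt, if_neg (by omega)]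
    ring
  · rw [if_neg (by omega), if_pos hgt]
    have heq' : P.pairingIn ℤ i j * u i - P.pairingIn ℤ j i * u j = d i j - d j i := heq
    linarith

end RP

end Groth.Agent.H9.RootD
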