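import Mathlib
import Groth.Prelude.Def_RedSub
set_option autoImplicit false
set_option linter.style.haveILetI false
set_option linter.unusedSectionVars false
set_option linter.unusedVariables false
namespace Groth.Agent.H9.RootWord
open RootPairing

variable {idx M N : Type} [AddCommGroup M] [AddCommGroup N] [Finite idx]
  (P : RootPairing idx ℤ M N) (b : P.Base)

example : P.IsCrystallographic := inferInstance

/-- closure elements are natural combinations -/
lemma exists_nat_sum (x : M) (hx : x ∈ AddSubmonoid.closure (P.root '' (b.support : Set idx))) :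
    ∃ f : idx → ℕ, x = ∑ j ∈ b.support, f j • P.root j := by
  classical
  induction hx using AddSubmonoid.closure_induction with
  | mem x hx =>
    obtain ⟨i, hi, rfl⟩ := hx
    refine ⟨Pi.single i 1, ?_⟩
    rw [Finset.sum_eq_single i]
    · simp
    · intro j _ hji; simp [Pi.single_eq_of_ne hji]
    · intro h; exact absurd hi h
  | zero => exact ⟨0, by simp⟩
  | add x y hx hy ihx ihy =>
    obtain ⟨f, rfl⟩ := ihx
    obtain ⟨g, rfl⟩ := ihy
    exact ⟨f + g, by simp [add_smul, Finset.sum_add_distrib]⟩

lemma height_pos_of_pos {c : idx} (hc : c ∈ RedSub.posRoots P b) : 0 < b.height c := by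
  obtain ⟨f, hf⟩ := exists_nat_sum P b _ hc
  have h1 : P.root c = ∑ j ∈ b.support, ((f j : ℤ)) • P.root j := by
    rw [hf]; simp
  have h2 := b.height_eq_sum h1
  have h3 := b.height_ne_zero c
  have h4 : 0 ≤ b.height c := by
    rw [h2]; exact Finset.sum_nonneg fun j _ => by positivity
  omega

lemma neg_root (c : idx) : P.root (P.reflectionPerm c c) = - P.root c := by
  rw [root_reflectionPerm, reflection_apply_self]

lemma height_neg' (c : idx) : b.height (P.reflectionPerm c c) = - b.height c :=
  b.height_reflectionPerm_self c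

lemma pos_iff (c : idx) : c ∈ RedSub.posRoots P b ↔ 0 < b.height c := by
  refine ⟨height_pos_of_pos P b, fun h => ?_⟩
  rcases b.root_mem_or_neg_mem c with h1 | h1
  · exact h1
  · exfalso
    have h2 : P.reflectionPerm c c ∈ RedSub.posRoots P b := by
      show P.root (P.reflectionPerm c c) ∈ AddSubmonoid.closure (P.root '' (b.support : Set idx))
      rw [neg_root]; exact h1
    have h3 := height_pos_of_pos P b h2
    rw [height_neg'] at h3
    omega

lemma neg_iff (c : idx) : c ∈ RedSub.negRoots P b ↔ b.height c < 0 := by
  have h0 : c ∈ RedSub.negRoots P b ↔ P.reflectionPerm c c ∈ RedSub.posRoots P b := by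
    show -P.root c ∈ AddSubmonoid.closure (P.root '' (b.support : Set idx)) ↔
      P.root (P.reflectionPerm c c) ∈ AddSubmonoid.closure (P.root '' (b.support : Set idx))
    rw [neg_root]
  rw [h0, pos_iff, height_neg']
  omega

/-- conjugation of reflections -/
lemma reflectionPerm_conj (j a : idx) :
    P.reflectionPerm (P.reflectionPerm j a) = P.reflectionPerm j * P.reflectionPerm a * P.reflectionPerm j := by
  ext x
  apply P.root.injective
  simp only [Equiv.Perm.coe_mul, Function.comp_apply, root_reflectionPerm, reflection_reflectionPerm]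
  rfl

lemma reflectionPerm_mul_self (j : idx) : P.reflectionPerm j * P.reflectionPerm j = 1 := by
  ext x
  simp [P.reflectionPerm_self]

lemma wordPerm_cons (a : idx) (t : List idx) :
    RedSub.wordPerm P (a :: t) = P.reflectionPerm a * RedSub.wordPerm P t := by
  simp [RedSub.wordPerm]

lemma wordPerm_append (l₁ l₂ : List idx) :
    RedSub.wordPerm P (l₁ ++ l₂) = RedSub.wordPerm P l₁ * RedSub.wordPerm P l₂ := by
  simp [RedSub.wordPerm]

lemma wordPerm_nil : RedSub.wordPerm P [] = 1 := by simp [RedSub.wordPerm]

lemma wordPerm_conj (l : List idx) (a : idx) :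
    P.reflectionPerm (RedSub.wordPerm P l a) =
      RedSub.wordPerm P l * P.reflectionPerm a * (RedSub.wordPerm P l)⁻¹ := by
  induction l generalizing a with
  | nil => simp [wordPerm_nil]
  | cons j t ih =>
    rw [wordPerm_cons, Equiv.Perm.mul_apply, reflectionPerm_conj, ih, mul_inv_rev]
    have hinv : (P.reflectionPerm j)⁻¹ = P.reflectionPerm j :=
      inv_eq_of_mul_eq_one_left (reflectionPerm_mul_self P j)
    rw [hinv]
    simp only [mul_assoc]

variable [P.IsReduced]

/-- the key: a positive root made negative by `w⁻¹` is `w_i (l[i])` -/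
lemma exists_index (l : List idx) (hl : ∀ a ∈ l, a ∈ b.support) (c : idx)
    (hc : c ∈ RedSub.posRoots P b) (hneg : (RedSub.wordPerm P l).symm c ∈ RedSub.negRoots P b) :
    ∃ (i : ℕ) (hi : i < l.length), c = RedSub.wordPerm P (l.take i) (l[i]) := by
  induction l generalizing c with
  | nil =>
    exfalso
    rw [wordPerm_nil] at hneg
    have h1 := (pos_iff P b c).mp hc
    have h2 := (neg_iff P b c).mp hneg
    omega
  | cons a t ih =>
    by_cases hca : c = a
    · exact ⟨0, by simp, by simp [wordPerm_nil, hca]⟩
    · have ha : a ∈ b.support := hl a (by simp)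
      have hpos : b.IsPos c := (pos_iff P b c).mp hc
      have hpos' : b.IsPos (P.reflectionPerm a c) := hpos.reflectionPerm ha hca
      have hc' : P.reflectionPerm a c ∈ RedSub.posRoots P b := (pos_iff P b _).mpr hpos'
      have hneg' : (RedSub.wordPerm P t).symm (P.reflectionPerm a c) ∈ RedSub.negRoots P b := by
        have : (RedSub.wordPerm P (a :: t)).symm c =
            (RedSub.wordPerm P t).symm (P.reflectionPerm a c) := by
          rw [wordPerm_cons]
          show ((P.reflectionPerm a * RedSub.wordPerm P t)⁻¹ : Equiv.Perm idx) c = _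
          rw [mul_inv_rev]
          have hinv : (P.reflectionPerm a)⁻¹ = P.reflectionPerm a :=
            inv_eq_of_mul_eq_one_left (reflectionPerm_mul_self P a)
          rw [hinv]
          rfl
        rw [← this]; exact hneg
      obtain ⟨i, hi, hci⟩ := ih (fun x hx => hl x (by simp [hx])) _ hc' hneg'
      refine ⟨i + 1, by simpa using hi, ?_⟩
      have : c = P.reflectionPerm a (P.reflectionPerm a c) := (P.reflectionPerm_self a c).symm
      rw [this, hci]
      simp [wordPerm_cons]

theorem main (l : List idx) (hl : ∀ a ∈ l, a ∈ b.support) (c : idx)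
    (hc : c ∈ RedSub.posRoots P b) (hneg : (RedSub.wordPerm P l).symm c ∈ RedSub.negRoots P b) :
    ∃ i : ℕ, i < l.length ∧
      P.reflectionPerm c * RedSub.wordPerm P (l.take (i + 1)) = RedSub.wordPerm P (l.take i) := by
  obtain ⟨i, hi, hci⟩ := exists_index P b l hl c hc hneg
  refine ⟨i, hi, ?_⟩
  have htake : l.take (i + 1) = l.take i ++ [l[i]] := by
    rw [List.take_succ_eq_append_getElem hi]
  rw [htake, wordPerm_append, hci, wordPerm_conj]
  have h1 : RedSub.wordPerm P [l[i]] = P.reflectionPerm l[i] := by
    rw [wordPerm_cons, wordPerm_nil, mul_one]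
  rw [h1]
  have h2 := reflectionPerm_mul_self P l[i]
  calc RedSub.wordPerm P (l.take i) * P.reflectionPerm l[i] * (RedSub.wordPerm P (l.take i))⁻¹ *
        (RedSub.wordPerm P (l.take i) * P.reflectionPerm l[i])
      = RedSub.wordPerm P (l.take i) * (P.reflectionPerm l[i] * P.reflectionPerm l[i]) := by
        simp only [mul_assoc, inv_mul_cancel_left]
    _ = RedSub.wordPerm P (l.take i) := by rw [h2, mul_one]

end Groth.Agent.H9.RootWord
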