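import Mathlib
import Groth.Agent.Lib.Helper9.Misc.RosA
import Groth.Agent.Lib.Helper9.Misc.SIM1
import Groth.Agent.Lib.Helper9.Misc.ORB3

set_option autoImplicit false
set_option linter.style.haveILetI false
set_option linter.unusedSectionVars false
set_option linter.unusedVariables false

/-!
# Rosenlicht's unit lemma for products of varieties
-/

namespace Groth.Agent.H9.RosSch

open CategoryTheory CategoryTheory.Limits MonoidalCategory CartesianMonoidalCategory
  AlgebraicGeometry TensorProduct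

universe u

/-- Rosenlicht's lemma for a pushout square of commutative rings over (a copy of) an algebraically
closed field. -/
theorem exists_of_isPushout {k : Type u} [Field k] [IsAlgClosed k] {R A B C : CommRingCat.{u}}
    (e : CommRingCat.of k ≅ R) (φA : R ⟶ A) (φB : R ⟶ B) (α : A ⟶ C) (β : B ⟶ C)
    (h : IsPushout φA φB α β) [IsDomain A] [IsDomain B] (hB : (e.hom ≫ φB).hom.FiniteType)
    (c : C) (hc : IsUnit c) : ∃ (a : A) (b : B), IsUnit a ∧ IsUnit b ∧ c = α a * β b := by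
  letI : Algebra k A := (e.hom ≫ φA).hom.toAlgebra
  letI : Algebra k B := (e.hom ≫ φB).hom.toAlgebra
  haveI : Algebra.FiniteType k B := hB
  have h' : IsPushout (e.hom ≫ φA) (e.hom ≫ φB) α β :=
    IsPushout.of_iso h e.symm (Iso.refl _) (Iso.refl _) (Iso.refl _) (by simp) (by simp)
      (by simp) (by simp)
  have hT := CommRingCat.isPushout_tensorProduct k A B
  have hA : CommRingCat.ofHom (algebraMap k A) = e.hom ≫ φA := rfl
  have hBB : CommRingCat.ofHom (algebraMap k B) = e.hom ≫ φB := rfl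
  rw [hA, hBB] at hT
  let ι := h'.isoIsPushout _ _ hT
  have hι1 : α ≫ ι.hom = _ := IsPushout.inl_isoIsPushout_hom _ _ h' hT
  have hι2 : β ≫ ι.hom = _ := IsPushout.inr_isoIsPushout_hom _ _ h' hT
  have hu : IsUnit (ι.hom c) := hc.map ι.hom.hom
  obtain ⟨a, b, ha, hb, hab⟩ := Ros.exists_tmul_of_isUnit (k := k) (A := A) (B := B) _ hu
  refine ⟨a, b, ha, hb, ?_⟩
  have h1 : ι.hom (α a * β b) = ι.hom c := by
    rw [map_mul, hab]
    have e1 : ι.hom (α a) = a ⊗ₜ[k] (1 : B) := by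
      have := congrArg (fun φ => φ.hom a) hι1
      exact this
    have e2 : ι.hom (β b) = (1 : A) ⊗ₜ[k] b := by
      have := congrArg (fun φ => φ.hom b) hι2
      exact this
    rw [e1, e2, Algebra.TensorProduct.tmul_mul_tmul, mul_one, one_mul]
  have hinj : Function.Injective ι.hom := by
    intro x y hxy
    have := congrArg ι.inv hxy
    simpa using this
  exact (hinj h1).symm

section Affine

variable {k : Type u} [Field k] [IsAlgClosed k]

theorem appLE_top_top {X Y : Scheme.{u}} (f : X ⟶ Y) (e : (⊤ : X.Opens) ≤ f ⁻¹ᵁ ⊤) :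
    f.appLE ⊤ ⊤ e = f.appTop := by
  rw [Scheme.Hom.appTop, Scheme.Hom.app_eq_appLE]
  rfl

/-- Rosenlicht's lemma for a product of integral affine schemes. -/
theorem exists_units_affine (P Q : Over (Spec (CommRingCat.of k))) [IsAffine P.left]
    [IsAffine Q.left] [IsIntegral P.left] [IsIntegral Q.left] [LocallyOfFiniteType Q.hom]
    (F : Γ((P ⊗ Q).left, ⊤)) (hF : IsUnit F) :
    ∃ (a : Γ(P.left, ⊤)) (b : Γ(Q.left, ⊤)), IsUnit a ∧ IsUnit b ∧
      F = (fst P Q).left.appTop a * (snd P Q).left.appTop b := by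
  have H : IsPullback (fst P Q).left (snd P Q).left P.hom Q.hom :=
    IsPullback.of_hasPullback P.hom Q.hom
  have hUST : (⊤ : Q.left.Opens) ≤ Q.hom ⁻¹ᵁ ⊤ := le_top
  have hUSX : (⊤ : P.left.Opens) ≤ P.hom ⁻¹ᵁ ⊤ := le_top
  have hUY : (⊤ : (P ⊗ Q).left.Opens) = (fst P Q).left ⁻¹ᵁ ⊤ ⊓ (snd P Q).left ⁻¹ᵁ ⊤ := by simp
  have hiso := isIso_pushoutSection_of_isAffineOpen H hUST hUSX hUY (isAffineOpen_top _)
    (isAffineOpen_top _) (isAffineOpen_top _)
  have hpo := (isIso_pushoutSection_iff H hUST hUSX hUY).mp hiso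
  rw [appLE_top_top, appLE_top_top, appLE_top_top, appLE_top_top] at hpo
  have hft : Q.hom.appTop.hom.FiniteType :=
    (HasRingHomProperty.iff_of_isAffine (P := @LocallyOfFiniteType)).mp inferInstance
  let e : CommRingCat.of k ≅ Γ(Spec (CommRingCat.of k), ⊤) :=
    (Scheme.ΓSpecIso (CommRingCat.of k)).symm
  have hB : (e.hom ≫ Q.hom.appTop).hom.FiniteType := by
    rw [CommRingCat.hom_comp]
    exact hft.comp (RingHom.FiniteType.of_surjective _
      (ConcreteCategory.bijective_of_isIso e.hom).2)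
  exact exists_of_isPushout e _ _ _ _ hpo hB F hF

end Affine

section Main

variable {k : Type u} [Field k] [IsAlgClosed k]

/-- pullback of global functions along a morphism over `k` -/
noncomputable def pb {A B : Over (Spec (CommRingCat.of k))} (φ : A ⟶ B) :
    Γ(B.left, ⊤) →+* Γ(A.left, ⊤) :=
  φ.left.appTop.hom

theorem pb_comp {A B C : Over (Spec (CommRingCat.of k))} (φ : A ⟶ B) (ψ : B ⟶ C)
    (x : Γ(C.left, ⊤)) : pb (φ ≫ ψ) x = pb φ (pb ψ x) := by
  simp [pb]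

theorem pb_id {A : Over (Spec (CommRingCat.of k))} (x : Γ(A.left, ⊤)) : pb (𝟙 A) x = x := by
  simp [pb]

theorem pt_toUnit {A : Over (Spec (CommRingCat.of k))}
    (x : 𝟙_ (Over (Spec (CommRingCat.of k))) ⟶ A) : x ≫ toUnit A = 𝟙 _ := by
  rw [comp_toUnit]
  exact toUnit_unique _ _

/-- affine core: a unit on `P × Q` which is `1` on both axes through a point is `1`. -/
theorem eq_one_affine (P Q : Over (Spec (CommRingCat.of k))) [IsAffine P.left]
    [IsAffine Q.left] [IsIntegral P.left] [IsIntegral Q.left] [LocallyOfFiniteType Q.hom]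
    (x₀ : 𝟙_ (Over (Spec (CommRingCat.of k))) ⟶ P) (y₀ : 𝟙_ (Over (Spec (CommRingCat.of k))) ⟶ Q)
    (F : Γ((P ⊗ Q).left, ⊤)) (hF : IsUnit F)
    (hs : pb (lift (𝟙 P) (toUnit P ≫ y₀)) F = 1)
    (ht : pb (lift (toUnit Q ≫ x₀) (𝟙 Q)) F = 1) : F = 1 := by
  obtain ⟨a, b, -, -, hab⟩ := exists_units_affine P Q F hF
  have hab' : F = pb (fst P Q) a * pb (snd P Q) b := hab
  have h1 : a * pb (toUnit P) (pb y₀ b) = 1 := by
    rw [hab', map_mul, ← pb_comp, ← pb_comp, lift_fst, lift_snd, pb_id, pb_comp] at hs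
    exact hs
  have h2 : pb (toUnit Q) (pb x₀ a) * b = 1 := by
    rw [hab', map_mul, ← pb_comp, ← pb_comp, lift_fst, lift_snd, pb_id, pb_comp] at ht
    exact ht
  have hκ : pb x₀ a * pb y₀ b = 1 := by
    have := congrArg (pb x₀) h1
    rw [map_mul, map_one, ← pb_comp x₀ (toUnit P), pt_toUnit, pb_id] at this
    exact this
  have ha : a = pb (toUnit P) (pb x₀ a) := by
    calc a = a * pb (toUnit P) (pb y₀ b * pb x₀ a) := by
          rw [mul_comm (pb y₀ b), hκ, map_one, mul_one]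
      _ = (a * pb (toUnit P) (pb y₀ b)) * pb (toUnit P) (pb x₀ a) := by
          rw [map_mul, mul_assoc]
      _ = pb (toUnit P) (pb x₀ a) := by rw [h1, one_mul]
  have hb : b = pb (toUnit Q) (pb y₀ b) := by
    calc b = pb (toUnit Q) (pb x₀ a * pb y₀ b) * b := by
          rw [hκ, map_one, one_mul]
      _ = pb (toUnit Q) (pb y₀ b) * (pb (toUnit Q) (pb x₀ a) * b) := by
          rw [map_mul]; ring
      _ = pb (toUnit Q) (pb y₀ b) := by rw [h2, mul_one]
  have e1 : pb (fst P Q) (pb (toUnit P) (pb x₀ a)) = pb (toUnit (P ⊗ Q)) (pb x₀ a) := by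
    rw [← pb_comp, comp_toUnit]
  have e2 : pb (snd P Q) (pb (toUnit Q) (pb y₀ b)) = pb (toUnit (P ⊗ Q)) (pb y₀ b) := by
    rw [← pb_comp, comp_toUnit]
  calc F = pb (fst P Q) a * pb (snd P Q) b := hab'
    _ = pb (fst P Q) (pb (toUnit P) (pb x₀ a)) * pb (snd P Q) (pb (toUnit Q) (pb y₀ b)) := by
        rw [← ha, ← hb]
    _ = 1 := by rw [e1, e2, ← map_mul, hκ, map_one]

/-- open subscheme as an object over `k` -/
noncomputable abbrev res (X : Over (Spec (CommRingCat.of k))) (U : X.left.Opens) :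
    Over (Spec (CommRingCat.of k)) :=
  Over.mk (U.ι ≫ X.hom)

/-- the inclusion of an open subscheme, over `k` -/
noncomputable abbrev resι (X : Over (Spec (CommRingCat.of k))) (U : X.left.Opens) : res X U ⟶ X :=
  Over.homMk U.ι rfl

theorem dominant_resι (X : Over (Spec (CommRingCat.of k))) [IsIntegral X.left] [IsSeparated X.hom]
    (U : X.left.Opens) (hU : IsAffineOpen U) [Nonempty U] :
    IsSchemeTheoreticallyDominant (resι X U).left ∧ QuasiCompact (resι X U).left := by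
  haveI : QuasiSeparatedSpace X.left := quasiSeparatedSpace_of_quasiSeparated X.hom
  haveI : IsAffine (U : Scheme) := hU
  haveI : IsAffine (res X U).left := hU
  have hd : Dense (U : Set X.left) := U.isOpen.dense (Set.nonempty_coe_sort.mp ‹Nonempty U›)
  haveI : IsDominant U.ι := AlgebraicGeometry.Opens.isDominant_ι hd
  have h1 : (resι X U).left = U.ι := rfl
  rw [h1]
  exact ⟨IsSchemeTheoreticallyDominant.of_isDominant _, quasiCompact_of_compactSpace _⟩

theorem pb_injective_tensorHom (X Y : Over (Spec (CommRingCat.of k))) [IsIntegral X.left]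
    [IsIntegral Y.left] [IsSeparated X.hom] [IsSeparated Y.hom]
    (U : X.left.Opens) (hU : IsAffineOpen U) [Nonempty U]
    (V : Y.left.Opens) (hV : IsAffineOpen V) [Nonempty V] :
    Function.Injective (pb (resι X U ⊗ₘ resι Y V)) := by
  obtain ⟨h1, h2⟩ := dominant_resι X U hU
  obtain ⟨h3, h4⟩ := dominant_resι Y V hV
  obtain ⟨h5, h6⟩ := Groth.Agent.H9.SIM.dominant_whiskerRight (resι X U) (res Y V)
  obtain ⟨h7, h8⟩ := Groth.Agent.H9.SIM.dominant_whiskerLeft X (resι Y V)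
  have e : resι X U ⊗ₘ resι Y V = (resι X U ▷ res Y V) ≫ (X ◁ resι Y V) := tensorHom_def _ _
  intro a b hab
  rw [e, pb_comp, pb_comp] at hab
  have i1 : Function.Injective (pb (resι X U ▷ res Y V)) :=
    Scheme.Hom.app_injective (resι X U ▷ res Y V).left ⊤
  have i2 : Function.Injective (pb (X ◁ resι Y V)) :=
    Scheme.Hom.app_injective (X ◁ resι Y V).left ⊤
  exact i2 (i1 hab)

/-- a unit on `X × Y` which is `1` on both axes through a point of `U × V` is `1`. -/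
theorem eq_one_of_axes (X Y : Over (Spec (CommRingCat.of k))) [IsIntegral X.left]
    [IsIntegral Y.left] [IsSeparated X.hom] [IsSeparated Y.hom] [LocallyOfFiniteType Y.hom]
    (U : X.left.Opens) (hU : IsAffineOpen U) (V : Y.left.Opens) (hV : IsAffineOpen V)
    (x₀ : 𝟙_ (Over (Spec (CommRingCat.of k))) ⟶ res X U)
    (y₀ : 𝟙_ (Over (Spec (CommRingCat.of k))) ⟶ res Y V)
    (F : Γ((X ⊗ Y).left, ⊤)) (hF : IsUnit F)
    (hs : pb (lift (𝟙 X) (toUnit X ≫ y₀ ≫ resι Y V)) F = 1)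
    (ht : pb (lift (toUnit Y ≫ x₀ ≫ resι X U) (𝟙 Y)) F = 1) : F = 1 := by
  haveI : Nonempty U := ⟨x₀.left (IsLocalRing.closedPoint k)⟩
  haveI : Nonempty V := ⟨y₀.left (IsLocalRing.closedPoint k)⟩
  haveI : IsAffine (res X U).left := hU
  haveI : IsAffine (res Y V).left := hV
  haveI : IsIntegral (res X U).left := inferInstanceAs (IsIntegral (U : Scheme))
  haveI : IsIntegral (res Y V).left := inferInstanceAs (IsIntegral (V : Scheme))
  haveI : LocallyOfFiniteType (res Y V).hom := by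
    show LocallyOfFiniteType (V.ι ≫ Y.hom)
    infer_instance
  have hF' : IsUnit (pb (resι X U ⊗ₘ resι Y V) F) := hF.map _
  have hs' : pb (lift (𝟙 (res X U)) (toUnit (res X U) ≫ y₀)) (pb (resι X U ⊗ₘ resι Y V) F) = 1 := by
    have e1 : lift (𝟙 (res X U)) (toUnit (res X U) ≫ y₀) ≫ (resι X U ⊗ₘ resι Y V) =
        resι X U ≫ lift (𝟙 X) (toUnit X ≫ y₀ ≫ resι Y V) := by
      apply CartesianMonoidalCategory.hom_ext
      · simp
      · simp
    rw [← pb_comp, e1, pb_comp, hs, map_one]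
  have ht' : pb (lift (toUnit (res Y V) ≫ x₀) (𝟙 (res Y V))) (pb (resι X U ⊗ₘ resι Y V) F) = 1 := by
    have e1 : lift (toUnit (res Y V) ≫ x₀) (𝟙 (res Y V)) ≫ (resι X U ⊗ₘ resι Y V) =
        resι Y V ≫ lift (toUnit Y ≫ x₀ ≫ resι X U) (𝟙 Y) := by
      apply CartesianMonoidalCategory.hom_ext
      · simp
      · simp
    rw [← pb_comp, e1, pb_comp, ht, map_one]
  have h1 := eq_one_affine (res X U) (res Y V) x₀ y₀ _ hF' hs' ht'
  apply pb_injective_tensorHom X Y U hU V hV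
  rw [h1, map_one]

theorem exists_affine_pt (X : Over (Spec (CommRingCat.of k))) [Nonempty X.left]
    [LocallyOfFiniteType X.hom] :
    ∃ (U : X.left.Opens) (_ : IsAffineOpen U),
      Nonempty (𝟙_ (Over (Spec (CommRingCat.of k))) ⟶ res X U) := by
  obtain ⟨x⟩ := ‹Nonempty X.left›
  obtain ⟨_, ⟨U, hU, rfl⟩, hxU, -⟩ :=
    X.left.isBasis_affineOpens.exists_subset_of_mem_open (Set.mem_univ x) isOpen_univ
  haveI : LocallyOfFiniteType (res X U).hom := by
    show LocallyOfFiniteType (Scheme.Opens.ι U ≫ X.hom)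
    infer_instance
  obtain ⟨x₀, -⟩ := Groth.Agent.H9.ORB3.exists_point_of_closed k (res X U) Set.univ isClosed_univ
    ⟨⟨x, hxU⟩, trivial⟩
  exact ⟨U, hU, ⟨x₀⟩⟩

/-- **Rosenlicht's unit lemma** for products of integral separated schemes of finite type over an
algebraically closed field, with explicit factors: for `k`-points `x`, `y` in suitable affine
opens, `f = p₁^*(f(·, y)) · p₂^*(f(x, ·)) · f(x, y)⁻¹`. -/
theorem S16117_main (X Y : Over (Spec (CommRingCat.of k))) [IsIntegral X.left]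
    [IsSeparated X.hom] [LocallyOfFiniteType X.hom]
    [IsIntegral Y.left] [IsSeparated Y.hom] [LocallyOfFiniteType Y.hom]
    (f : Γ((X ⊗ Y).left, ⊤)) (hf : IsUnit f) :
    ∃ (g : Γ(X.left, ⊤)) (h : Γ(Y.left, ⊤)), IsUnit g ∧ IsUnit h ∧
      f = pb (fst X Y) g * pb (snd X Y) h := by
  obtain ⟨U, hU, ⟨x₀⟩⟩ := exists_affine_pt X
  obtain ⟨V, hV, ⟨y₀⟩⟩ := exists_affine_pt Y
  let x : 𝟙_ (Over (Spec (CommRingCat.of k))) ⟶ X := x₀ ≫ resι X U
  let y : 𝟙_ (Over (Spec (CommRingCat.of k))) ⟶ Y := y₀ ≫ resι Y V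
  let s : X ⟶ X ⊗ Y := lift (𝟙 X) (toUnit X ≫ y)
  let t : Y ⟶ X ⊗ Y := lift (toUnit Y ≫ x) (𝟙 Y)
  have hxs : x ≫ s = y ≫ t := by
    apply CartesianMonoidalCategory.hom_ext
    · simp only [s, t, Category.assoc, lift_fst, Category.comp_id]
      rw [← Category.assoc, pt_toUnit, Category.id_comp]
    · simp only [s, t, Category.assoc, lift_snd, Category.comp_id]
      rw [← Category.assoc, pt_toUnit, Category.id_comp]
  obtain ⟨g₀, hg₀⟩ : ∃ g₀, g₀ = pb s f := ⟨_, rfl⟩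
  obtain ⟨h₀, hh₀⟩ : ∃ h₀, h₀ = pb t f := ⟨_, rfl⟩
  obtain ⟨c, hc⟩ : ∃ c, c = pb (x ≫ s) f := ⟨_, rfl⟩
  have hg₀u : IsUnit g₀ := hg₀ ▸ hf.map _
  have hh₀u : IsUnit h₀ := hh₀ ▸ hf.map _
  have hcu : IsUnit c := hc ▸ hf.map _
  obtain ⟨g₁, hg₁⟩ := hg₀u.exists_right_inv
  obtain ⟨h₁, hh₁⟩ := hh₀u.exists_right_inv
  obtain ⟨c₁, hc₁⟩ := hcu.exists_right_inv
  have hxg : pb x g₀ = c := by rw [hg₀, ← pb_comp, hc]
  have hyh : pb y h₀ = c := by rw [hh₀, ← pb_comp, ← hxs, hc]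
  have hxg₁ : pb x g₁ = c₁ := by
    have h1 : pb x g₀ * pb x g₁ = 1 := by rw [← map_mul, hg₁, map_one]
    rw [hxg] at h1
    calc pb x g₁ = (c₁ * c) * pb x g₁ := by rw [mul_comm c₁, hc₁, one_mul]
      _ = c₁ * (c * pb x g₁) := by ring
      _ = c₁ := by rw [h1, mul_one]
  have hyh₁ : pb y h₁ = c₁ := by
    have h1 : pb y h₀ * pb y h₁ = 1 := by rw [← map_mul, hh₁, map_one]
    rw [hyh] at h1
    calc pb y h₁ = (c₁ * c) * pb y h₁ := by rw [mul_comm c₁, hc₁, one_mul]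
      _ = c₁ * (c * pb y h₁) := by ring
      _ = c₁ := by rw [h1, mul_one]
  obtain ⟨F, hFdef⟩ : ∃ F, F = f * pb (fst X Y) g₁ * pb (snd X Y) h₁ * pb (toUnit (X ⊗ Y)) c :=
    ⟨_, rfl⟩
  have hFu : IsUnit F := by
    rw [hFdef]
    refine ((hf.mul ?_).mul ?_).mul (hcu.map _)
    · exact (IsUnit.of_mul_eq_one g₀ (by rw [mul_comm]; exact hg₁)).map _
    · exact (IsUnit.of_mul_eq_one h₀ (by rw [mul_comm]; exact hh₁)).map _
  have hsF : pb s F = 1 := by
    rw [hFdef, map_mul, map_mul, map_mul, ← hg₀, ← pb_comp s, ← pb_comp s, ← pb_comp s,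
      comp_toUnit]
    have e1 : s ≫ fst X Y = 𝟙 X := lift_fst _ _
    have e2 : s ≫ snd X Y = toUnit X ≫ y := lift_snd _ _
    rw [e1, e2, pb_id, pb_comp, hyh₁, hg₁, one_mul, ← map_mul, mul_comm, hc₁, map_one]
  have htF : pb t F = 1 := by
    rw [hFdef, map_mul, map_mul, map_mul, ← hh₀, ← pb_comp t, ← pb_comp t, ← pb_comp t,
      comp_toUnit]
    have e1 : t ≫ fst X Y = toUnit Y ≫ x := lift_fst _ _
    have e2 : t ≫ snd X Y = 𝟙 Y := lift_snd _ _
    rw [e1, e2, pb_id, pb_comp, hxg₁]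
    calc h₀ * pb (toUnit Y) c₁ * h₁ * pb (toUnit Y) c
        = (h₀ * h₁) * pb (toUnit Y) (c * c₁) := by rw [map_mul]; ring
      _ = 1 := by rw [hh₁, hc₁, map_one, mul_one]
  have hF1 : F = 1 := eq_one_of_axes X Y U hU V hV x₀ y₀ F hFu hsF htF
  refine ⟨g₀ * pb (toUnit X) c₁, h₀, hg₀u.mul ((IsUnit.of_mul_eq_one c (by
    rw [mul_comm]; exact hc₁)).map _), hh₀u, ?_⟩
  have e3 : pb (fst X Y) (pb (toUnit X) c₁) = pb (toUnit (X ⊗ Y)) c₁ := by
    rw [← pb_comp, comp_toUnit]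
  rw [map_mul, e3]
  calc f = F * (pb (fst X Y) g₀ * pb (snd X Y) h₀ * pb (toUnit (X ⊗ Y)) c₁) := by
        rw [hFdef]
        have a1 : pb (fst X Y) g₁ * pb (fst X Y) g₀ = 1 := by
          rw [← map_mul, mul_comm, hg₁, map_one]
        have a2 : pb (snd X Y) h₁ * pb (snd X Y) h₀ = 1 := by
          rw [← map_mul, mul_comm, hh₁, map_one]
        have a3 : pb (toUnit (X ⊗ Y)) c * pb (toUnit (X ⊗ Y)) c₁ = 1 := by
          rw [← map_mul, hc₁, map_one]
        calc f = f * (pb (fst X Y) g₁ * pb (fst X Y) g₀) * (pb (snd X Y) h₁ * pb (snd X Y) h₀)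
              * (pb (toUnit (X ⊗ Y)) c * pb (toUnit (X ⊗ Y)) c₁) := by
                rw [a1, a2, a3, mul_one, mul_one, mul_one]
          _ = _ := by ring
    _ = pb (fst X Y) g₀ * pb (toUnit (X ⊗ Y)) c₁ * pb (snd X Y) h₀ := by
        rw [hF1]; ring

end Main

end Groth.Agent.H9.RosSch
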