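import Mathlib
import Groth.Prelude.Def_AlgGrp
import Groth.Agent.Lib.Helper9.Misc.RosSch
import Groth.Agent.Lib.Helper9.Misc.GZB2
import Groth.Agent.H4.SmRed2
import Groth.Agent.Lib.Helper9.Misc.FLH2

set_option autoImplicit false
set_option linter.style.haveILetI false
set_option linter.unusedSectionVars false
set_option linter.unusedVariables false

/-!
# Rosenlicht: units on connected algebraic groups are characters (up to constants)
-/

namespace Groth.Agent.H9.RosGrp

open CategoryTheory CategoryTheory.Limits MonoidalCategory CartesianMonoidalCategory MonObj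
  AlgebraicGeometry Groth.Agent.H9.RosSch

universe u

variable {k : Type u} [Field k] [IsAlgClosed k]

theorem isIntegral_of_smooth_connected (G : Over (Spec (CommRingCat.of k))) [GrpObj G]
    [Smooth G.hom] [ConnectedSpace ↥G.left] : IsIntegral G.left := by
  haveI : IsReduced G.left := Groth.Agent.H4.SmRed.isReduced_of_smooth_scheme G.hom
  haveI : IrreducibleSpace G.left := Groth.Agent.H9.GZB.S0348_main G
  exact isIntegral_of_irreducibleSpace_of_isReduced G.left

/-- S16114: a unit with value `1` at the identity is a character. -/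
theorem S16114_main (G : Over (Spec (CommRingCat.of k))) [GrpObj G] [Smooth G.hom]
    [ConnectedSpace ↥G.left] (f : Γ(G.left, ⊤)) (hf : IsUnit f) (he : pb η[G] f = 1) :
    pb μ[G] f = pb (fst G G) f * pb (snd G G) f := by
  haveI := isIntegral_of_smooth_connected G
  haveI : IsSeparated G.hom := Groth.Agent.H9.GZB.isSeparated_hom G
  obtain ⟨g, h, hg, hh, hgh⟩ := S16117_main G G (pb μ[G] f) (hf.map _)
  have h1 : f = g * pb (toUnit G) (pb η[G] h) := by
    have := congrArg (pb (lift (𝟙 G) (toUnit G ≫ η[G]))) hgh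
    rw [← pb_comp, lift_comp_one_right, pb_id, map_mul, ← pb_comp, ← pb_comp, lift_fst, lift_snd,
      pb_id, pb_comp] at this
    exact this
  have h2 : f = pb (toUnit G) (pb η[G] g) * h := by
    have := congrArg (pb (lift (toUnit G ≫ η[G]) (𝟙 G))) hgh
    rw [← pb_comp, lift_comp_one_left, pb_id, map_mul, ← pb_comp, ← pb_comp, lift_fst, lift_snd,
      pb_id, pb_comp] at this
    exact this
  have h3 : pb η[G] g * pb η[G] h = 1 := by
    have := congrArg (pb η[G]) h1
    rw [he, map_mul, ← pb_comp η[G] (toUnit G), pt_toUnit, pb_id] at this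
    exact this.symm
  have e1 : pb (fst G G) (pb (toUnit G) (pb η[G] h)) = pb (toUnit (G ⊗ G)) (pb η[G] h) := by
    rw [← pb_comp, comp_toUnit]
  have e2 : pb (snd G G) (pb (toUnit G) (pb η[G] g)) = pb (toUnit (G ⊗ G)) (pb η[G] g) := by
    rw [← pb_comp, comp_toUnit]
  have e3 : pb (fst G G) f = pb (fst G G) g * pb (toUnit (G ⊗ G)) (pb η[G] h) := by
    rw [h1, map_mul, e1]
  have e4 : pb (snd G G) f = pb (toUnit (G ⊗ G)) (pb η[G] g) * pb (snd G G) h := by
    rw [h2, map_mul, e2]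
  rw [hgh, e3, e4]
  calc pb (fst G G) g * pb (snd G G) h
      = pb (fst G G) g * pb (snd G G) h * pb (toUnit (G ⊗ G)) (pb η[G] g * pb η[G] h) := by
        rw [h3, map_one, _root_.mul_one]
    _ = _ := by rw [map_mul]; ring

/-- S16115: units on `G × X` are `character ⊗ unit`. -/
theorem S16115_main (G X : Over (Spec (CommRingCat.of k))) [GrpObj G] [Smooth G.hom]
    [ConnectedSpace ↥G.left] [IsIntegral X.left] [IsSeparated X.hom] [LocallyOfFiniteType X.hom]
    (f : Γ((G ⊗ X).left, ⊤)) (hf : IsUnit f) :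
    ∃ (χ : Γ(G.left, ⊤)) (v : Γ(X.left, ⊤)), IsUnit χ ∧ pb η[G] χ = 1 ∧
      pb μ[G] χ = pb (fst G G) χ * pb (snd G G) χ ∧ IsUnit v ∧
      f = pb (fst G X) χ * pb (snd G X) v := by
  haveI := isIntegral_of_smooth_connected G
  haveI : IsSeparated G.hom := Groth.Agent.H9.GZB.isSeparated_hom G
  obtain ⟨g, h, hg, hh, hgh⟩ := S16117_main G X f hf
  obtain ⟨c₀, hc⟩ : ∃ c₀, c₀ = pb η[G] g := ⟨_, rfl⟩
  have hcu : IsUnit c₀ := hc ▸ hg.map _
  obtain ⟨c₁, hc₁⟩ := hcu.exists_right_inv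
  have hc₁u : IsUnit c₁ := IsUnit.of_mul_eq_one c₀ (by rw [mul_comm]; exact hc₁)
  have hχu : IsUnit (g * pb (toUnit G) c₁) := hg.mul (hc₁u.map _)
  have hχe : pb η[G] (g * pb (toUnit G) c₁) = 1 := by
    rw [map_mul, ← hc, ← pb_comp, pt_toUnit, pb_id, hc₁]
  refine ⟨g * pb (toUnit G) c₁, h * pb (toUnit X) c₀, hχu, hχe,
    S16114_main G _ hχu hχe, hh.mul (hcu.map _), ?_⟩
  have e1 : pb (fst G X) (pb (toUnit G) c₁) = pb (toUnit (G ⊗ X)) c₁ := by
    rw [← pb_comp, comp_toUnit]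
  have e2 : pb (snd G X) (pb (toUnit X) c₀) = pb (toUnit (G ⊗ X)) c₀ := by
    rw [← pb_comp, comp_toUnit]
  rw [map_mul, map_mul, e1, e2, hgh]
  calc pb (fst G X) g * pb (snd G X) h
      = pb (fst G X) g * pb (snd G X) h * pb (toUnit (G ⊗ X)) (c₀ * c₁) := by
        rw [hc₁, map_one, _root_.mul_one]
    _ = _ := by rw [map_mul]; ring

/-- S16116: units on a `G`-variety are semi-invariants. -/
theorem S16116_main (G X : Over (Spec (CommRingCat.of k))) [GrpObj G] [Smooth G.hom]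
    [ConnectedSpace ↥G.left] [IsIntegral X.left] [IsSeparated X.hom] [LocallyOfFiniteType X.hom]
    (a : AlgGrp.Action G X) (f : Γ(X.left, ⊤)) (hf : IsUnit f) :
    ∃! χ : Γ(G.left, ⊤), IsUnit χ ∧ pb η[G] χ = 1 ∧
      pb μ[G] χ = pb (fst G G) χ * pb (snd G G) χ ∧
      pb a.act f = pb (fst G X) χ * pb (snd G X) f := by
  obtain ⟨χ, v, hχu, hχe, hχm, hvu, hχv⟩ := S16115_main G X (pb a.act f) (hf.map _)
  have hj : lift (toUnit X ≫ η[G]) (𝟙 X) ≫ a.act = 𝟙 X := by
    have := Groth.Agent.H9.FLH.one_smul a (𝟙 X)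
    unfold Groth.Agent.H9.FLH.smul at this
    rw [Hom.one_def] at this
    exact this
  have hv : v = f := by
    have := congrArg (pb (lift (toUnit X ≫ η[G]) (𝟙 X))) hχv
    rw [← pb_comp, hj, pb_id, map_mul, ← pb_comp, ← pb_comp, lift_fst, lift_snd, pb_id, pb_comp,
      hχe, map_one, _root_.one_mul] at this
    exact this.symm
  rw [hv] at hχv
  refine ⟨χ, ⟨hχu, hχe, hχm, hχv⟩, ?_⟩
  rintro χ' ⟨-, -, -, hχ'⟩
  obtain ⟨U, hU, ⟨x₀⟩⟩ := exists_affine_pt X
  let x : 𝟙_ (Over (Spec (CommRingCat.of k))) ⟶ X := x₀ ≫ resι X U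
  have hsec : lift (𝟙 G) (toUnit G ≫ x) ≫ fst G X = 𝟙 G := lift_fst _ _
  have h1 : pb (fst G X) χ' * pb (snd G X) f = pb (fst G X) χ * pb (snd G X) f := by
    rw [← hχ', ← hχv]
  have h2 : pb (fst G X) χ' = pb (fst G X) χ := by
    have hu : IsUnit (pb (snd G X) f) := hf.map _
    exact hu.mul_left_injective h1
  have h3 := congrArg (pb (lift (𝟙 G) (toUnit G ≫ x))) h2
  rw [← pb_comp, ← pb_comp, hsec, pb_id, pb_id] at h3
  exact h3

end Groth.Agent.H9.RosGrp
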