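import Mathlib

set_option autoImplicit false
set_option linter.style.haveILetI false
set_option linter.unusedSectionVars false
set_option linter.unusedVariables false

namespace Groth.Agent.H9.SBC

open Module

section Field
variable {K : Type*} [Field K] {V : Type*} [AddCommGroup V] [Module K V]

/-- (F): if `k` is a linear relation among `x 0, …, x u` whose "`φ_c`-value" is nonzero, then
replacing `x j` by `x j + c j • x last` (and dropping `x last`) does not change the span. -/
theorem span_eq_of_rel {u : ℕ} (x : Fin (u + 1) → V) (c : Fin u → K) (k : Fin (u + 1) → K)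
    (hk : ∑ j, k j • x j = 0)
    (hφ : k (Fin.last u) - ∑ j : Fin u, c j * k j.castSucc ≠ 0) :
    Submodule.span K (Set.range fun j : Fin u => x j.castSucc + c j • x (Fin.last u)) =
      Submodule.span K (Set.range x) := by
  set x' : Fin u → V := fun j => x j.castSucc + c j • x (Fin.last u) with hx'
  apply le_antisymm
  · rw [Submodule.span_le]
    rintro _ ⟨j, rfl⟩
    exact Submodule.add_mem _ (Submodule.subset_span ⟨_, rfl⟩)
      (Submodule.smul_mem _ _ (Submodule.subset_span ⟨_, rfl⟩))
  · -- first `x last ∈ span x'`
    have hsum : ∑ j : Fin u, k j.castSucc • x' j =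
        -((k (Fin.last u) - ∑ j : Fin u, c j * k j.castSucc) • x (Fin.last u)) := by
      rw [Fin.sum_univ_castSucc] at hk
      have h1 : ∑ j : Fin u, k j.castSucc • x' j =
          ∑ j : Fin u, k j.castSucc • x j.castSucc +
            (∑ j : Fin u, c j * k j.castSucc) • x (Fin.last u) := by
        simp only [hx', smul_add, Finset.sum_add_distrib, Finset.sum_smul, smul_smul]
        congr 1
        apply Finset.sum_congr rfl
        intro j _
        rw [mul_comm]
      rw [h1, sub_smul, neg_sub]
      have h2 : ∑ j : Fin u, k j.castSucc • x j.castSucc = -(k (Fin.last u) • x (Fin.last u)) :=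
        eq_neg_of_add_eq_zero_left hk
      rw [h2]
      abel
    have hlast : x (Fin.last u) ∈ Submodule.span K (Set.range x') := by
      have hmem : ∑ j : Fin u, k j.castSucc • x' j ∈ Submodule.span K (Set.range x') :=
        Submodule.sum_mem _ fun j _ => Submodule.smul_mem _ _ (Submodule.subset_span ⟨j, rfl⟩)
      rw [hsum] at hmem
      have := Submodule.smul_mem _ (-(k (Fin.last u) - ∑ j : Fin u, c j * k j.castSucc))⁻¹ hmem
      rwa [← neg_smul, smul_smul, inv_mul_cancel₀ (neg_ne_zero.mpr hφ), one_smul] at this
    rw [Submodule.span_le]
    rintro _ ⟨j, rfl⟩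
    refine Fin.lastCases hlast (fun j => ?_) j
    have : x j.castSucc = x' j - c j • x (Fin.last u) := by simp [hx']
    rw [this]
    exact Submodule.sub_mem _ (Submodule.subset_span ⟨j, rfl⟩) (Submodule.smul_mem _ _ hlast)

/-- (F'): `u + 1` vectors spanning a space of dimension `≤ u` satisfy a nontrivial relation. -/
theorem exists_rel {u : ℕ} (x : Fin (u + 1) → V)
    (h : finrank K (Submodule.span K (Set.range x)) ≤ u) :
    ∃ k : Fin (u + 1) → K, k ≠ 0 ∧ ∑ j, k j • x j = 0 := by
  by_contra hcon
  push Not at hcon
  have hli : LinearIndependent K x := by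
    rw [Fintype.linearIndependent_iff]
    intro g hg
    by_contra hne
    push Not at hne
    refine hcon g ?_ hg
    intro h0
    obtain ⟨i, hi⟩ := hne
    exact hi (by rw [h0]; rfl)
  have := finrank_span_eq_card hli
  rw [Fintype.card_fin] at this
  omega

/-- dropping one vector lowers the dimension of the span by at most one -/
theorem finrank_span_le_succ {u : ℕ} (x : Fin (u + 1) → V) (c : Fin u → K) :
    finrank K (Submodule.span K (Set.range x)) ≤
      finrank K (Submodule.span K
        (Set.range fun j : Fin u => x j.castSucc + c j • x (Fin.last u))) + 1 := by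
  set x' : Fin u → V := fun j => x j.castSucc + c j • x (Fin.last u) with hx'
  have hle : Submodule.span K (Set.range x) ≤
      Submodule.span K (Set.range x') ⊔ Submodule.span K {x (Fin.last u)} := by
    rw [Submodule.span_le]
    rintro _ ⟨j, rfl⟩
    refine Fin.lastCases ?_ (fun j => ?_) j
    · exact Submodule.mem_sup_right (Submodule.mem_span_singleton_self _)
    · have : x j.castSucc = x' j - c j • x (Fin.last u) := by simp [hx']
      rw [this]
      exact Submodule.sub_mem _ (Submodule.mem_sup_left (Submodule.subset_span ⟨j, rfl⟩))
        (Submodule.mem_sup_right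
          (Submodule.smul_mem _ _ (Submodule.mem_span_singleton_self _)))
  have hfin1 : Module.Finite K (Submodule.span K (Set.range x')) :=
    Module.Finite.span_of_finite K (Set.finite_range _)
  have hfin2 : Module.Finite K (Submodule.span K {x (Fin.last u)}) :=
    Module.Finite.span_of_finite K (Set.finite_singleton _)
  calc finrank K (Submodule.span K (Set.range x))
      ≤ finrank K ↥(Submodule.span K (Set.range x') ⊔ Submodule.span K {x (Fin.last u)}) :=
        Submodule.finrank_mono hle
    _ ≤ finrank K (Submodule.span K (Set.range x')) +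
          finrank K (Submodule.span K {x (Fin.last u)}) :=
        Submodule.finrank_add_le_finrank_add_finrank _ _
    _ ≤ finrank K (Submodule.span K (Set.range x')) + 1 := by
        gcongr
        have := finrank_span_le_card (R := K) ({x (Fin.last u)} : Set V)
        simpa using this

theorem finrank_span_ge {u : ℕ} (x : Fin (u + 1) → V) (c : Fin u → K) :
    finrank K (Submodule.span K
        (Set.range fun j : Fin u => x j.castSucc + c j • x (Fin.last u))) ≤
      finrank K (Submodule.span K (Set.range x)) := by
  have hfin : Module.Finite K (Submodule.span K (Set.range x)) :=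
    Module.Finite.span_of_finite K (Set.finite_range _)
  apply Submodule.finrank_mono
  rw [Submodule.span_le]
  rintro _ ⟨j, rfl⟩
  exact Submodule.add_mem _ (Submodule.subset_span ⟨_, rfl⟩)
    (Submodule.smul_mem _ _ (Submodule.subset_span ⟨_, rfl⟩))

end Field

section Minor
variable {K : Type*} [Field K]

/-- (M1): the span of the rows `v s` has dimension `≥ w` iff some `w × w` minor is nonzero. -/
theorem le_finrank_span_iff {ι σ : Type*} [Fintype ι] [Fintype σ]
    (v : σ → ι → K) (w : ℕ) :
    w ≤ finrank K (Submodule.span K (Set.range v)) ↔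
      ∃ (a : Fin w → σ) (b : Fin w → ι), (Matrix.of fun s t => v (a s) (b t)).det ≠ 0 := by
  classical
  constructor
  · intro hw
    -- pick `w` linearly independent rows
    obtain ⟨κ₁, a, ha, hspan, hli⟩ := exists_linearIndependent' K v
    haveI : Finite κ₁ := Finite.of_injective a ha
    haveI : Fintype κ₁ := Fintype.ofFinite κ₁
    have hcard : Fintype.card κ₁ = finrank K (Submodule.span K (Set.range v)) := by
      rw [← hspan]; exact (finrank_span_eq_card hli).symm
    obtain ⟨e₁⟩ : Nonempty (Fin w ↪ κ₁) :=
      Function.Embedding.nonempty_of_card_le (by simpa [hcard] using hw)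
    set a' : Fin w → σ := a ∘ e₁ with ha'
    have hli' : LinearIndependent K (v ∘ a') := hli.comp e₁ e₁.injective
    -- the `w × ι` matrix
    set B : Matrix (Fin w) ι K := Matrix.of (v ∘ a') with hB
    have hBrank : B.rank = w := by
      have := LinearIndependent.rank_matrix (M := B) hli'
      simpa using this
    rw [Matrix.rank_eq_finrank_span_cols] at hBrank
    obtain ⟨κ₂, b, hb, hspan₂, hli₂⟩ := exists_linearIndependent' K B.col
    haveI : Finite κ₂ := Finite.of_injective b hb
    haveI : Fintype κ₂ := Fintype.ofFinite κ₂
    have hcard₂ : Fintype.card κ₂ = w := by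
      rw [← hBrank, ← hspan₂]; exact (finrank_span_eq_card hli₂).symm
    let e₂ : Fin w ≃ κ₂ := (Fintype.equivFinOfCardEq hcard₂).symm
    refine ⟨a', b ∘ e₂, ?_⟩
    have hli₃ : LinearIndependent K ((B.col ∘ b) ∘ e₂) :=
      hli₂.comp e₂ e₂.injective
    have hunit : IsUnit (Matrix.of fun s t => v (a' s) ((b ∘ e₂) t)) := by
      rw [← Matrix.linearIndependent_cols_iff_isUnit]
      convert hli₃ using 1
      funext t s
      rfl
    exact ((Matrix.isUnit_iff_isUnit_det _).mp hunit).ne_zero
  · rintro ⟨a, b, hdet⟩
    have hrows := Matrix.linearIndependent_rows_of_det_ne_zero hdet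
    -- the rows `v (a s)` are linearly independent
    have hli : LinearIndependent K (v ∘ a) := by
      let π : (ι → K) →ₗ[K] (Fin w → K) := LinearMap.funLeft K K b
      refine LinearIndependent.of_comp π ?_
      convert hrows using 1
      all_goals first | rfl | (funext s t; rfl)
    have hmem : ∀ s, (v ∘ a) s ∈ Submodule.span K (Set.range v) :=
      fun s => Submodule.subset_span ⟨a s, rfl⟩
    have hfin : Module.Finite K (Submodule.span K (Set.range v)) :=
      Module.Finite.span_of_finite K (Set.finite_range _)
    let f : Fin w → Submodule.span K (Set.range v) := fun s => ⟨(v ∘ a) s, hmem s⟩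
    have hlif : LinearIndependent K f := by
      refine LinearIndependent.of_comp (Submodule.subtype _) ?_
      convert hli using 1
      all_goals first | rfl | (funext s; rfl)
    simpa using hlif.fintype_card_le_finrank

end Minor

end Groth.Agent.H9.SBC
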