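import Mathlib
import Groth.Agent.Lib.Helper9.Misc.SBC1

set_option autoImplicit false
set_option linter.style.haveILetI false
set_option linter.unusedSectionVars false
set_option linter.unusedVariables false

namespace Groth.Agent.H9.SBC

open Module

variable {R : Type*} [CommRing R]

/-- reduction of a vector to the residue field at `p` -/
noncomputable def red (p : PrimeSpectrum R) {ι : Type*} (x : ι → R) :
    ι → p.asIdeal.ResidueField :=
  fun i => algebraMap R p.asIdeal.ResidueField (x i)

theorem red_add_smul (p : PrimeSpectrum R) {ι : Type*} (x y : ι → R) (a : R) :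
    red p (x + a • y) = red p x + (algebraMap R p.asIdeal.ResidueField a) • red p y := by
  funext i
  simp [red, Algebra.smul_def]

theorem red_eq_zero_iff (p : PrimeSpectrum R) {ι : Type*} (x : ι → R) :
    red p x = 0 ↔ ∀ i, x i ∈ p.asIdeal := by
  constructor
  · intro h i
    have := congrFun h i
    simpa [red, Ideal.algebraMap_residueField_eq_zero] using this
  · intro h
    funext i
    simpa [red, Ideal.algebraMap_residueField_eq_zero] using h i

/-- rank at `p` of a family of vectors -/
noncomputable def rk (p : PrimeSpectrum R) {ι σ : Type*} (v : σ → ι → R) : ℕ :=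
  finrank p.asIdeal.ResidueField
    (Submodule.span p.asIdeal.ResidueField (Set.range fun s => red p (v s)))

/-- ideal of `w × w` minors -/
def minorIdeal {ι σ : Type*} (w : ℕ) (v : σ → ι → R) : Ideal R :=
  Ideal.span {d | ∃ (a : Fin w → σ) (b : Fin w → ι), d = (Matrix.of fun s t => v (a s) (b t)).det}

theorem le_rk_iff (p : PrimeSpectrum R) {ι σ : Type*} [Fintype ι] [Fintype σ]
    (v : σ → ι → R) (w : ℕ) :
    w ≤ rk p v ↔ ¬ (minorIdeal w v ≤ p.asIdeal) := by
  unfold rk
  rw [le_finrank_span_iff]
  have key : ∀ (a : Fin w → σ) (b : Fin w → ι),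
      (Matrix.of fun s t => red p (v (a s)) (b t)).det =
        algebraMap R p.asIdeal.ResidueField (Matrix.of fun s t => v (a s) (b t)).det := by
    intro a b
    rw [RingHom.map_det]
    rfl
  constructor
  · rintro ⟨a, b, hdet⟩ hle
    rw [key, Ne, Ideal.algebraMap_residueField_eq_zero] at hdet
    exact hdet (hle (Ideal.subset_span ⟨a, b, rfl⟩))
  · intro hle
    rw [minorIdeal, Ideal.span_le, Set.not_subset] at hle
    obtain ⟨d, ⟨a, b, rfl⟩, hd⟩ := hle
    refine ⟨a, b, ?_⟩
    rw [key, Ne, Ideal.algebraMap_residueField_eq_zero]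
    exact hd

theorem rk_reduce {ι : Type*} (p : PrimeSpectrum R) {u : ℕ} (v : Fin (u + 1) → ι → R)
    (a : Fin u → R) :
    (fun j : Fin u => red p (v j.castSucc + a j • v (Fin.last u))) =
      fun j : Fin u => red p (v j.castSucc) +
        (algebraMap R p.asIdeal.ResidueField (a j)) • red p (v (Fin.last u)) := by
  funext j
  rw [red_add_smul]

theorem rk_le_succ {ι : Type*} (p : PrimeSpectrum R) {u : ℕ} (v : Fin (u + 1) → ι → R)
    (a : Fin u → R) :
    rk p v ≤ rk p (fun j : Fin u => v j.castSucc + a j • v (Fin.last u)) + 1 := by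
  unfold rk
  rw [rk_reduce]
  exact finrank_span_le_succ (fun j => red p (v j)) _

theorem rk_ge {ι : Type*} (p : PrimeSpectrum R) {u : ℕ} (v : Fin (u + 1) → ι → R)
    (a : Fin u → R) :
    rk p (fun j : Fin u => v j.castSucc + a j • v (Fin.last u)) ≤ rk p v := by
  unfold rk
  rw [rk_reduce]
  exact finrank_span_ge (fun j => red p (v j)) _

theorem rk_congr {ι : Type*} (p : PrimeSpectrum R) {u : ℕ} (v : Fin (u + 1) → ι → R)
    (a a' : Fin u → R)
    (h : ∀ j, algebraMap R p.asIdeal.ResidueField (a j) =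
      algebraMap R p.asIdeal.ResidueField (a' j)) :
    rk p (fun j : Fin u => v j.castSucc + a j • v (Fin.last u)) =
      rk p (fun j : Fin u => v j.castSucc + a' j • v (Fin.last u)) := by
  have : (fun j : Fin u => red p (v j.castSucc + a j • v (Fin.last u))) =
      (fun j : Fin u => red p (v j.castSucc + a' j • v (Fin.last u))) := by
    funext j
    rw [red_add_smul, red_add_smul, h]
  unfold rk
  rw [this]

theorem rk_eq_of_rel {ι : Type*} (p : PrimeSpectrum R) {u : ℕ} (v : Fin (u + 1) → ι → R)
    (a : Fin u → R) (k : Fin (u + 1) → p.asIdeal.ResidueField)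
    (hk : ∑ j, k j • red p (v j) = 0)
    (hφ : k (Fin.last u) -
      ∑ j : Fin u, algebraMap R p.asIdeal.ResidueField (a j) * k j.castSucc ≠ 0) :
    rk p (fun j : Fin u => v j.castSucc + a j • v (Fin.last u)) = rk p v := by
  unfold rk
  rw [rk_reduce]
  rw [span_eq_of_rel (fun j => red p (v j))
    (fun j => algebraMap R p.asIdeal.ResidueField (a j)) k hk hφ]

/-- Lemma 1: simultaneous "no drop" at finitely many primes. -/
theorem exists_simul {ι : Type*} {u : ℕ} (v : Fin (u + 1) → ι → R) :
    ∀ (P : Finset (PrimeSpectrum R)), (∀ p ∈ P, rk p v ≤ u) →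
    ∃ a : Fin u → R, ∀ p ∈ P,
      rk p (fun j : Fin u => v j.castSucc + a j • v (Fin.last u)) = rk p v := by
  classical
  intro P
  induction P using Finset.strongInduction with
  | H P ih =>
  intro hP
  rcases P.eq_empty_or_nonempty with rfl | hne
  · exact ⟨0, by simp⟩
  obtain ⟨p₀, hp₀P, hp₀min⟩ := P.exists_minimal hne
  obtain ⟨a, ha⟩ := ih (P.erase p₀) (Finset.erase_ssubset hp₀P)
    (fun p hp => hP p (Finset.mem_of_mem_erase hp))
  -- relation at p₀
  obtain ⟨k, hk0, hk⟩ := exists_rel (fun j => red p₀ (v j)) (hP p₀ hp₀P)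
  by_cases hφ : k (Fin.last u) -
      ∑ j : Fin u, algebraMap R p₀.asIdeal.ResidueField (a j) * k j.castSucc = 0
  · -- adjust
    have hj₀ : ∃ j₀ : Fin u, k j₀.castSucc ≠ 0 := by
      by_contra hall
      push Not at hall
      apply hk0
      funext j
      refine Fin.lastCases ?_ (fun j => hall j) j
      simpa [hall] using hφ
    obtain ⟨j₀, hj₀⟩ := hj₀
    -- choose r
    have hr : ∃ r : R, (∀ q ∈ P.erase p₀, r ∈ q.asIdeal) ∧ r ∉ p₀.asIdeal := by
      have hnle : ¬ ((P.erase p₀).prod fun q => q.asIdeal) ≤ p₀.asIdeal := by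
        intro hle
        obtain ⟨q, hq, hqle⟩ := (p₀.isPrime.prod_le).mp hle
        have hqP : q ∈ P := Finset.mem_of_mem_erase hq
        have hle' : q ≤ p₀ := (PrimeSpectrum.asIdeal_le_asIdeal _ _).mp hqle
        have : p₀ ≤ q := hp₀min hqP hle'
        have heq : q = p₀ := le_antisymm hle' this
        exact (Finset.ne_of_mem_erase hq) heq
      obtain ⟨r, hr, hrn⟩ := SetLike.not_le_iff_exists.mp hnle
      refine ⟨r, fun q hq => ?_, hrn⟩
      exact (Ideal.prod_le_inf.trans (Finset.inf_le hq)) hr
    obtain ⟨r, hrq, hrp⟩ := hr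
    set a' : Fin u → R := a + Pi.single j₀ r with ha'
    refine ⟨a', fun p hp => ?_⟩
    by_cases hpp : p = p₀
    · subst hpp
      have hrbar : algebraMap R p.asIdeal.ResidueField r ≠ 0 := by
        rw [Ne, Ideal.algebraMap_residueField_eq_zero]; exact hrp
      refine rk_eq_of_rel p v a' k hk ?_
      have hsum : ∑ j : Fin u, algebraMap R p.asIdeal.ResidueField (a' j) * k j.castSucc =
          ∑ j : Fin u, algebraMap R p.asIdeal.ResidueField (a j) * k j.castSucc +
            algebraMap R p.asIdeal.ResidueField r * k j₀.castSucc := by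
        simp only [ha', Pi.add_apply, map_add, add_mul, Finset.sum_add_distrib]
        congr 1
        rw [Finset.sum_eq_single j₀]
        · simp
        · intro j _ hj
          simp [Pi.single_eq_of_ne hj]
        · simp
      rw [hsum, ← sub_sub, hφ, zero_sub, neg_ne_zero]
      exact mul_ne_zero hrbar hj₀
    · have hpe : p ∈ P.erase p₀ := Finset.mem_erase.mpr ⟨hpp, hp⟩
      rw [← ha p hpe]
      refine rk_congr p v a' a (fun j => ?_)
      simp only [ha', Pi.add_apply, map_add]
      by_cases hj : j = j₀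
      · subst hj
        simp only [Pi.single_eq_same]
        rw [(Ideal.algebraMap_residueField_eq_zero).mpr (hrq p hpe), add_zero]
      · simp [Pi.single_eq_of_ne hj]
  · refine ⟨a, fun p hp => ?_⟩
    by_cases hpp : p = p₀
    · subst hpp
      exact rk_eq_of_rel p v a k hk hφ
    · exact ha p (Finset.mem_erase.mpr ⟨hpp, hp⟩)

/-- The reduction step of the general position argument. -/
theorem step [IsNoetherianRing R] {ι : Type*} [Fintype ι] (S : Set (PrimeSpectrum R))
    (hS : ∀ p ∈ S, ∀ q : PrimeSpectrum R, q ≤ p → q ∈ S)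
    (h : PrimeSpectrum R → ℕ) (hh : ∀ p q : PrimeSpectrum R, q < p → h q < h p)
    (n : ℕ) {u : ℕ} (v : Fin (u + 2) → ι → R)
    (hv : ∀ p ∈ S, min (u + 2) (n - h p) ≤ rk p v) :
    ∃ a : Fin (u + 1) → R, ∀ p ∈ S,
      min (u + 1) (n - h p) ≤
        rk p (fun j : Fin (u + 1) => v j.castSucc + a j • v (Fin.last (u + 1))) := by
  classical
  set Bad : Set (PrimeSpectrum R) :=
    {p | p ∈ S ∧ 1 ≤ rk p v ∧ rk p v = n - h p ∧ rk p v ≤ u + 1} with hBad
  have hsub : Bad ⊆ ⋃ r ∈ Finset.range (u + 2),
      {p : PrimeSpectrum R | p.asIdeal ∈ (minorIdeal (r + 1) v).minimalPrimes} := by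
    rintro p ⟨hpS, h1, h2, h3⟩
    simp only [Set.mem_iUnion, Finset.mem_range, Set.mem_ofPred_eq, exists_prop]
    refine ⟨rk p v, by omega, ?_⟩
    refine ⟨⟨p.isPrime, ?_⟩, ?_⟩
    · by_contra hcon
      have := (le_rk_iff p v (rk p v + 1)).mpr hcon
      omega
    · rintro q ⟨hqprime, hqle⟩ hqp
      by_contra hcon
      have hlt : q < p.asIdeal := lt_of_le_of_ne hqp (fun heq => hcon (heq ▸ le_rfl))
      set Q : PrimeSpectrum R := ⟨q, hqprime⟩ with hQ
      have hQlt : Q < p := (PrimeSpectrum.asIdeal_lt_asIdeal _ _).mp hlt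
      have hQS : Q ∈ S := hS p hpS Q hQlt.le
      have hrkQ : rk Q v ≤ rk p v := by
        by_contra hgt
        push Not at hgt
        have := (le_rk_iff Q v (rk p v + 1)).mp hgt
        exact this hqle
      have h4 := hv Q hQS
      have h5 := hh p Q hQlt
      omega
  have hfin : Bad.Finite := by
    refine Set.Finite.subset ?_ hsub
    refine Set.Finite.biUnion (Finset.finite_toSet _) (fun r _ => ?_)
    have := Ideal.finite_minimalPrimes_of_isNoetherianRing R (minorIdeal (r + 1) v)
    refine Set.Finite.of_injOn (f := fun p : PrimeSpectrum R => p.asIdeal) ?_ ?_ this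
    · intro p hp; exact hp
    · intro p _ q _ hpq; exact PrimeSpectrum.ext hpq
  obtain ⟨a, ha⟩ := exists_simul v hfin.toFinset (fun p hp => by
    have : p ∈ Bad := hfin.mem_toFinset.mp hp
    exact this.2.2.2)
  refine ⟨a, fun p hpS => ?_⟩
  by_cases hb : p ∈ Bad
  · rw [ha p (hfin.mem_toFinset.mpr hb)]
    obtain ⟨_, h1, h2, h3⟩ := hb
    omega
  · have h1 := hv p hpS
    have h2 := rk_le_succ p v a
    have hb' : ¬ (1 ≤ rk p v ∧ rk p v = n - h p ∧ rk p v ≤ u + 1) := fun hc => hb ⟨hpS, hc⟩
    omega

/-- General position theorem. -/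
theorem gp [IsNoetherianRing R] {ι : Type*} [Fintype ι] (S : Set (PrimeSpectrum R))
    (hS : ∀ p ∈ S, ∀ q : PrimeSpectrum R, q ≤ p → q ∈ S)
    (h : PrimeSpectrum R → ℕ) (hh : ∀ p q : PrimeSpectrum R, q < p → h q < h p)
    (n : ℕ) : ∀ (u : ℕ) (v : Fin (u + 1) → ι → R),
    (∀ p ∈ S, min (u + 1) (n - h p) ≤ rk p v) →
    ∃ y ∈ Submodule.span R (Set.range fun j : Fin u => v j.succ),
      ∀ p ∈ S, h p < n → ∃ i, (v 0 + y) i ∉ p.asIdeal := by
  intro u
  induction u with
  | zero =>
    intro v hv
    refine ⟨0, Submodule.zero_mem _, fun p hp hlt => ?_⟩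
    have h1 := hv p hp
    have h2 : 1 ≤ rk p v := by omega
    by_contra hcon
    push Not at hcon
    have hzero : ∀ s : Fin 1, red p (v s) = 0 := by
      intro s
      rw [red_eq_zero_iff]
      intro i
      have := hcon i
      rw [add_zero] at this
      rwa [Subsingleton.elim s 0]
    have : rk p v = 0 := by
      unfold rk
      have : (Set.range fun s : Fin 1 => red p (v s)) = {0} := by
        ext z
        simp only [Set.mem_range, Set.mem_singleton_iff]
        constructor
        · rintro ⟨s, rfl⟩; exact hzero s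
        · rintro rfl; exact ⟨0, hzero 0⟩
      rw [this]
      simp
    omega
  | succ u ih =>
    intro v hv
    obtain ⟨a, ha⟩ := step S hS h hh n v hv
    set v' : Fin (u + 1) → ι → R :=
      fun j => v j.castSucc + a j • v (Fin.last (u + 1)) with hv'
    obtain ⟨y', hy', hgood⟩ := ih v' ha
    refine ⟨a 0 • v (Fin.last (u + 1)) + y', ?_, ?_⟩
    · refine Submodule.add_mem _ (Submodule.smul_mem _ _ (Submodule.subset_span ?_)) ?_
      · exact ⟨Fin.last u, by simp⟩
      · refine Submodule.span_le.mpr ?_ hy'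
        rintro _ ⟨j, rfl⟩
        simp only [hv']
        refine Submodule.add_mem _ (Submodule.subset_span ⟨j.castSucc, ?_⟩)
          (Submodule.smul_mem _ _ (Submodule.subset_span ⟨Fin.last u, by simp⟩))
        simp
    · intro p hp hlt
      obtain ⟨i, hi⟩ := hgood p hp hlt
      refine ⟨i, ?_⟩
      have : v' 0 + y' = v 0 + (a 0 • v (Fin.last (u + 1)) + y') := by
        simp only [hv', Fin.castSucc_zero]
        abel
      rwa [this] at hi

end Groth.Agent.H9.SBC
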