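import Mathlib
import Groth.Agent.Lib.Helper9.Misc.SBC2

set_option autoImplicit false
set_option linter.style.haveILetI false
set_option linter.unusedSectionVars false
set_option linter.unusedVariables false

namespace Groth.Agent.H9.SBC

open Module TensorProduct

variable {R : Type*} [CommRing R]

/-- `red p` as an `R`-linear map -/
noncomputable def redL (p : PrimeSpectrum R) (ι : Type*) :
    (ι → R) →ₗ[R] (ι → p.asIdeal.ResidueField) :=
  LinearMap.compLeft (Algebra.linearMap R p.asIdeal.ResidueField) ι

theorem redL_apply (p : PrimeSpectrum R) (ι : Type*) (x : ι → R) : redL p ι x = red p x := rfl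

section Rank
variable {P : Type*} [AddCommGroup P] [Module R P]

theorem rankAtStalk_le_rk [Module.Finite R P] [Module.Projective R P] {N : ℕ}
    (f : (Fin N → R) →ₗ[R] P) (g : P →ₗ[R] (Fin N → R)) (hf : Function.Surjective f)
    (hfg : f ∘ₗ g = LinearMap.id) (p : PrimeSpectrum R) :
    rankAtStalk P p ≤ rk p (fun j : Fin N => g (f (Pi.single j 1))) := by
  classical
  rw [rankAtStalk_eq]
  let l : P →ₗ[R] (Fin N → p.asIdeal.ResidueField) := (redL p (Fin N)) ∘ₗ g
  let Ψ : p.asIdeal.ResidueField ⊗[R] P →ₗ[p.asIdeal.ResidueField] (Fin N → p.asIdeal.ResidueField) := l.liftBaseChange p.asIdeal.ResidueField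
  let Ψ' : (Fin N → p.asIdeal.ResidueField) →ₗ[p.asIdeal.ResidueField] p.asIdeal.ResidueField ⊗[R] P :=
    Fintype.linearCombination p.asIdeal.ResidueField (fun j : Fin N => (1 : p.asIdeal.ResidueField) ⊗ₜ[R] f (Pi.single j 1))
  have hΨ1 : ∀ m : P, Ψ ((1 : p.asIdeal.ResidueField) ⊗ₜ m) = red p (g m) := by
    intro m
    simp [Ψ, l, redL_apply]
  have hcomp : ∀ z, Ψ' (Ψ z) = z := by
    intro z
    induction z using TensorProduct.induction_on with
    | zero => simp
    | add x y hx hy => rw [map_add, map_add, hx, hy]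
    | tmul a m =>
      have : a ⊗ₜ[R] m = a • ((1 : p.asIdeal.ResidueField) ⊗ₜ[R] m) := by
        rw [TensorProduct.smul_tmul', smul_eq_mul, mul_one]
      rw [this, map_smul, map_smul, hΨ1]
      congr 1
      simp only [Ψ', Fintype.linearCombination_apply, red]
      have h1 : ∀ j : Fin N, algebraMap R p.asIdeal.ResidueField (g m j) • ((1 : p.asIdeal.ResidueField) ⊗ₜ[R] f (Pi.single j 1)) =
          (1 : p.asIdeal.ResidueField) ⊗ₜ[R] (g m j • f (Pi.single j 1)) := by
        intro j
        rw [TensorProduct.smul_tmul', smul_eq_mul, mul_one, Algebra.algebraMap_eq_smul_one,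
          TensorProduct.smul_tmul]
      simp_rw [h1, ← TensorProduct.tmul_sum]
      congr 1
      have h2 : ∑ j : Fin N, g m j • f (Pi.single j 1) = f (g m) := by
        have hc : g m = ∑ j : Fin N, g m j • (Pi.single j (1 : R) : Fin N → R) := by
          funext i
          simp [Finset.sum_apply, Pi.single_apply]
        conv_rhs => rw [hc, map_sum]
        simp_rw [map_smul]
      rw [h2]
      exact LinearMap.congr_fun hfg m
  have hinj : Function.Injective Ψ := Function.LeftInverse.injective hcomp
  have hfinspan : Module.Finite p.asIdeal.ResidueField (Submodule.span p.asIdeal.ResidueField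
      (Set.range fun j : Fin N => red p (g (f (Pi.single j 1))))) :=
    Module.Finite.span_of_finite p.asIdeal.ResidueField (Set.finite_range _)
  have hrange : LinearMap.range Ψ ≤ Submodule.span p.asIdeal.ResidueField
      (Set.range fun j : Fin N => red p (g (f (Pi.single j 1)))) := by
    rintro _ ⟨z, rfl⟩
    induction z using TensorProduct.induction_on with
    | zero => simp
    | add x y hx hy => rw [map_add]; exact Submodule.add_mem _ hx hy
    | tmul a m =>
      have : a ⊗ₜ[R] m = a • ((1 : p.asIdeal.ResidueField) ⊗ₜ[R] m) := by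
        rw [TensorProduct.smul_tmul', smul_eq_mul, mul_one]
      rw [this, map_smul, hΨ1]
      refine Submodule.smul_mem _ _ ?_
      obtain ⟨c, rfl⟩ := hf m
      have hc : c = ∑ j : Fin N, c j • (Pi.single j (1 : R) : Fin N → R) := by
        funext i
        simp [Finset.sum_apply, Pi.single_apply]
      rw [hc, map_sum, map_sum, ← redL_apply, map_sum]
      refine Submodule.sum_mem _ fun j _ => ?_
      rw [map_smul, map_smul, map_smul, redL_apply, ← algebraMap_smul p.asIdeal.ResidueField (c j)]
      exact Submodule.smul_mem _ _ (Submodule.subset_span ⟨j, rfl⟩)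
  unfold rk
  calc finrank p.asIdeal.ResidueField (p.asIdeal.Fiber P) = finrank p.asIdeal.ResidueField (LinearMap.range Ψ) :=
        (LinearMap.finrank_range_of_inj hinj).symm
    _ ≤ _ := Submodule.finrank_mono hrange

end Rank


section Height
variable [IsNoetherianRing R]

/-- the height function used in the general position argument -/
noncomputable def ht (p : PrimeSpectrum R) : ℕ := p.asIdeal.height.toNat

theorem ht_strictMono (p q : PrimeSpectrum R) (hqp : q < p) : ht q < ht p := by
  have hlt : q.asIdeal < p.asIdeal := (PrimeSpectrum.asIdeal_lt_asIdeal _ _).mpr hqp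
  have h1 : q.asIdeal.height < p.asIdeal.height :=
    Ideal.height_strict_mono_of_isPrime_of_isPrime hlt
  have hp : p.asIdeal.height ≠ ⊤ := Ideal.height_ne_top_of_isPrime
  have hq : q.asIdeal.height ≠ ⊤ := Ideal.height_ne_top_of_isPrime
  unfold ht
  lift p.asIdeal.height to ℕ using hp with a ha
  lift q.asIdeal.height to ℕ using hq with b hb
  simpa using h1

theorem ht_le (d : ℕ) (hdim : ringKrullDim R = d) (p : PrimeSpectrum R) : ht p ≤ d := by
  have h1 : (p.asIdeal.height : WithBot ℕ∞) ≤ ringKrullDim R :=
    Ideal.height_le_ringKrullDim_of_isPrime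
  rw [hdim] at h1
  have h2 : p.asIdeal.height ≤ (d : ℕ∞) := by exact_mod_cast h1
  exact ENat.toNat_le_of_le_natCast h2

end Height

section Unimodular
variable {P : Type*} [AddCommGroup P] [Module R P]

/-- a vector none of whose reductions vanish gives a unimodular element -/
theorem exists_functional_of_coords {N : ℕ} (g : P →ₗ[R] (Fin N → R)) (m : P)
    (hm : ∀ p : PrimeSpectrum R, ∃ i, g m i ∉ p.asIdeal) :
    ∃ φ : P →ₗ[R] R, φ m = 1 := by
  have htop : Ideal.span (Set.range (g m)) = ⊤ := by
    by_contra hne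
    obtain ⟨M, hM, hle⟩ := Ideal.exists_le_maximal _ hne
    obtain ⟨i, hi⟩ := hm ⟨M, hM.isPrime⟩
    exact hi (hle (Ideal.subset_span ⟨i, rfl⟩))
  have h1 : (1 : R) ∈ Ideal.span (Set.range (g m)) := by rw [htop]; trivial
  rw [Ideal.mem_span_range_iff_exists_fun] at h1
  obtain ⟨c, hc⟩ := h1
  refine ⟨(∑ i : Fin N, c i • LinearMap.proj i) ∘ₗ g, ?_⟩
  simp only [LinearMap.comp_apply, LinearMap.sum_apply, LinearMap.smul_apply,
    LinearMap.proj_apply, smul_eq_mul]
  exact hc

/-- Serre: a projective module of constant rank `n > dim R` has a unimodular element. -/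
theorem exists_unimodular [IsNoetherianRing R] (d n : ℕ) (hdim : ringKrullDim R = d)
    [Module.Finite R P] [Module.Projective R P]
    (hrk : ∀ p : PrimeSpectrum R, rankAtStalk (R := R) P p = n) (hnd : d < n) :
    ∃ (m : P) (φ : P →ₗ[R] R), φ m = 1 := by
  classical
  haveI : Nontrivial R := by
    by_contra hnt
    rw [not_nontrivial_iff_subsingleton] at hnt
    rw [ringKrullDim_eq_bot_of_subsingleton] at hdim
    exact absurd hdim (by simp)
  obtain ⟨N, f, g, hf, hg, hfg⟩ := Module.Finite.exists_comp_eq_id_of_projective R P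
  obtain ⟨p₀⟩ : Nonempty (PrimeSpectrum R) := inferInstance
  -- N ≠ 0
  have hN : N ≠ 0 := by
    rintro rfl
    haveI : Subsingleton P := by
      refine ⟨fun a b => ?_⟩
      obtain ⟨a', rfl⟩ := hf a
      obtain ⟨b', rfl⟩ := hf b
      rw [Subsingleton.elim a' b']
    have := hrk p₀
    rw [rankAtStalk_eq_zero_of_subsingleton] at this
    simp only [Pi.zero_apply] at this
    omega
  obtain ⟨N', rfl⟩ := Nat.exists_eq_succ_of_ne_zero hN
  set v : Fin (N' + 1) → Fin (N' + 1) → R := fun j => g (f (Pi.single j 1)) with hv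
  have hvrk : ∀ p ∈ (Set.univ : Set (PrimeSpectrum R)), min (N' + 1) (n - ht p) ≤ rk p v := by
    intro p _
    have := rankAtStalk_le_rk f g hf hfg p
    rw [hrk p] at this
    exact (min_le_right _ _).trans ((Nat.sub_le _ _).trans this)
  obtain ⟨y, hy, hgood⟩ := gp (Set.univ) (fun _ _ _ _ => Set.mem_univ _) ht ht_strictMono n N' v hvrk
  have hmem : v 0 + y ∈ LinearMap.range g := by
    refine Submodule.add_mem _ ⟨_, rfl⟩ ?_
    refine Submodule.span_le.mpr ?_ hy
    rintro _ ⟨j, rfl⟩
    exact ⟨_, rfl⟩
  obtain ⟨m, hm⟩ := hmem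
  refine ⟨m, ?_⟩
  apply exists_functional_of_coords g m
  intro p
  rw [hm]
  exact hgood p (Set.mem_univ _) (lt_of_le_of_lt (ht_le d hdim p) hnd)

end Unimodular

end Groth.Agent.H9.SBC
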