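import Mathlib
import Groth.Agent.Lib.Helper9.Misc.SBC3

set_option autoImplicit false
set_option linter.style.haveILetI false
set_option linter.unusedSectionVars false
set_option linter.unusedVariables false

universe u

namespace Groth.Agent.H9.SBC

open Module

section Split
variable {R : Type*} [CommRing R] {P : Type*} [AddCommGroup P] [Module R P]

/-- splitting off a unimodular element -/
noncomputable def splitEquiv (m : P) (φ : P →ₗ[R] R) (h : φ m = 1) :
    P ≃ₗ[R] (LinearMap.ker φ × R) where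
  toFun x := (⟨x - φ x • m, by simp [LinearMap.mem_ker, h]⟩, φ x)
  map_add' x y := by
    ext
    · simp only [map_add, add_smul, Prod.mk_add_mk, Submodule.coe_add]
      abel
    · simp
  map_smul' c x := by
    ext
    · simp [smul_sub, mul_smul]
    · simp
  invFun z := (z.1 : P) + z.2 • m
  left_inv x := by simp
  right_inv z := by
    have hz : φ (z.1 : P) = 0 := z.1.2
    ext
    · simp [hz, h]
    · simp [hz, h]

theorem exists_isCompl_of_equiv {A B : Type*} [AddCommGroup A] [Module R A] [AddCommGroup B]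
    [Module R B] (e : P ≃ₗ[R] A × B) :
    ∃ (P₀ Q : Submodule R P), IsCompl P₀ Q ∧ Nonempty (Q ≃ₗ[R] B) := by
  refine ⟨LinearMap.ker ((LinearMap.snd R A B) ∘ₗ e.toLinearMap),
    LinearMap.ker ((LinearMap.fst R A B) ∘ₗ e.toLinearMap), ?_, ?_⟩
  · refine IsCompl.of_eq ?_ ?_
    · rw [eq_bot_iff]
      rintro x ⟨h1, h2⟩
      simp only [SetLike.mem_coe, LinearMap.mem_ker, LinearMap.comp_apply, LinearMap.snd_apply,
        LinearMap.fst_apply, LinearEquiv.coe_coe] at h1 h2
      have : e x = 0 := Prod.ext h2 h1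
      simpa using this
    · rw [eq_top_iff]
      intro x _
      have hx : x = e.symm ((e x).1, 0) + e.symm (0, (e x).2) := by
        rw [← map_add]; simp
      rw [hx]
      refine Submodule.add_mem_sup ?_ ?_
      · simp [LinearMap.mem_ker]
      · simp [LinearMap.mem_ker]
  · let Q := LinearMap.ker ((LinearMap.fst R A B) ∘ₗ e.toLinearMap)
    let F : Q →ₗ[R] B := ((LinearMap.snd R A B) ∘ₗ e.toLinearMap) ∘ₗ Q.subtype
    refine ⟨LinearEquiv.ofBijective F ⟨?_, ?_⟩⟩
    · rw [← LinearMap.ker_eq_bot, eq_bot_iff]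
      rintro ⟨x, hx⟩ h2
      have hx' : (e x).1 = 0 := hx
      have h2' : (e x).2 = 0 := h2
      have : e x = 0 := Prod.ext hx' h2'
      have hx0 : x = 0 := by simpa using this
      simp [hx0]
    · intro b
      refine ⟨⟨e.symm (0, b), by show (e (e.symm (0, b))).1 = 0; simp⟩, ?_⟩
      show (e (e.symm (0, b))).2 = b
      simp

theorem equiv_of_fix {P' : Type*} [AddCommGroup P'] [Module R P']
    (ρ : (P × R) ≃ₗ[R] (P' × R)) (h : ρ (0, 1) = (0, 1)) : Nonempty (P ≃ₗ[R] P') := by
  have hy : ∀ y : R, ρ (0, y) = (0, y) := by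
    intro y
    have : ((0 : P), y) = y • ((0 : P), (1 : R)) := by simp
    rw [this, map_smul, h]
    simp
  let F : P →ₗ[R] P' := (LinearMap.fst R P' R) ∘ₗ ρ.toLinearMap ∘ₗ (LinearMap.inl R P R)
  refine ⟨LinearEquiv.ofBijective F ⟨?_, ?_⟩⟩
  · rw [← LinearMap.ker_eq_bot, eq_bot_iff]
    intro x hx
    simp only [LinearMap.mem_ker, F, LinearMap.comp_apply, LinearMap.inl_apply,
      LinearMap.fst_apply, LinearEquiv.coe_coe] at hx
    have h1 : ρ (x, 0) = ρ (0, (ρ (x, 0)).2) := by
      rw [hy]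
      exact Prod.ext hx rfl
    have h2 := ρ.injective h1
    simpa using (Prod.ext_iff.mp h2).1
  · intro x'
    set z := ρ.symm (x', 0) with hz
    refine ⟨z.1, ?_⟩
    have h1 : (z.1, (0 : R)) = z - (0, z.2) := by
      ext <;> simp
    simp only [F, LinearMap.comp_apply, LinearMap.inl_apply, LinearMap.fst_apply,
      LinearEquiv.coe_coe]
    rw [h1, map_sub, hy, hz]
    simp

end Split

section Serre
variable (R : Type u) [CommRing R] [IsNoetherianRing R]

theorem serre_iter (d : ℕ) (hdim : ringKrullDim R = d) :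
    ∀ (k : ℕ) (P : Type u) [AddCommGroup P] [Module R P] [Module.Finite R P]
      [Module.Projective R P],
      (∀ p : PrimeSpectrum R, rankAtStalk (R := R) P p = d + k) →
      ∃ (P₀ : Type u) (_ : AddCommGroup P₀) (_ : Module R P₀),
        Nonempty (P ≃ₗ[R] P₀ × (Fin k → R)) := by
  intro k
  induction k with
  | zero =>
    intro P _ _ _ _ _
    exact ⟨P, inferInstance, inferInstance, ⟨(LinearEquiv.prodUnique).symm⟩⟩
  | succ k ih =>
    intro P _ _ _ _ hrk
    haveI : Nontrivial R := by
      by_contra hnt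
      rw [not_nontrivial_iff_subsingleton] at hnt
      rw [ringKrullDim_eq_bot_of_subsingleton] at hdim
      exact absurd hdim (by simp)
    obtain ⟨m, φ, hφ⟩ := exists_unimodular d (d + (k + 1)) hdim hrk (by omega)
    let e := splitEquiv m φ hφ
    haveI : Module.Projective R (LinearMap.ker φ) :=
      Module.Projective.of_split ((e.symm.toLinearMap) ∘ₗ (LinearMap.inl R _ R))
        ((LinearMap.fst R _ R) ∘ₗ e.toLinearMap) (by
          ext x
          simp)
    have hrk' : ∀ p : PrimeSpectrum R, rankAtStalk (R := R) (LinearMap.ker φ) p = d + k := by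
      intro p
      have h1 := congrFun (rankAtStalk_eq_of_equiv (R := R) e) p
      rw [rankAtStalk_prod, Pi.add_apply, rankAtStalk_self, hrk p] at h1
      simp only [Pi.one_apply] at h1
      omega
    obtain ⟨P₀, i1, i2, ⟨e'⟩⟩ := ih (LinearMap.ker φ) hrk'
    refine ⟨P₀, i1, i2, ⟨?_⟩⟩
    have e1 : (LinearMap.ker φ × R) ≃ₗ[R] ((P₀ × (Fin k → R)) × R) :=
      LinearEquiv.prodCongr e' (LinearEquiv.refl R R)
    have e2 : ((P₀ × (Fin k → R)) × R) ≃ₗ[R] (P₀ × ((Fin k → R) × R)) :=
      LinearEquiv.prodAssoc R P₀ (Fin k → R) R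
    have e3 : ((Fin k → R) × R) ≃ₗ[R] (R × (Fin k → R)) := LinearEquiv.prodComm R (Fin k → R) R
    have e4 : (R × (Fin k → R)) ≃ₗ[R] (Fin (k + 1) → R) :=
      Fin.consLinearEquiv R (fun _ : Fin (k + 1) => R)
    have e5 : (P₀ × ((Fin k → R) × R)) ≃ₗ[R] (P₀ × (Fin (k + 1) → R)) :=
      LinearEquiv.prodCongr (LinearEquiv.refl R P₀) (e3.trans e4)
    exact e.trans (e1.trans (e2.trans e5))

theorem S19544_main (d n : ℕ) (hdim : ringKrullDim R = d)
    (P : Type u) [AddCommGroup P] [Module R P] [Module.Finite R P] [Module.Projective R P]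
    (hrk : ∀ p : PrimeSpectrum R, Module.rankAtStalk (R := R) P p = n) (hnd : d < n) :
    ∃ (P₀ Q : Submodule R P), IsCompl P₀ Q ∧ Nonempty (Q ≃ₗ[R] (Fin (n - d) → R)) := by
  obtain ⟨P₀, i1, i2, ⟨e⟩⟩ := serre_iter R d hdim (n - d) P (fun p => by rw [hrk p]; omega)
  exact exists_isCompl_of_equiv e

end Serre


section Bass
variable (R : Type u) [CommRing R] [IsNoetherianRing R]

/-- shear `(x, y) ↦ (x + y • w, y)` -/
noncomputable def shearL {P : Type*} [AddCommGroup P] [Module R P] (w : P) :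
    (P × R) ≃ₗ[R] (P × R) where
  toFun z := (z.1 + z.2 • w, z.2)
  map_add' x y := by ext <;> simp [add_smul]; abel
  map_smul' c x := by ext <;> simp [mul_smul]
  invFun z := (z.1 - z.2 • w, z.2)
  left_inv z := by ext <;> simp
  right_inv z := by ext <;> simp

/-- shear `(x, y) ↦ (x, y + ψ x)` -/
noncomputable def shearR {P : Type*} [AddCommGroup P] [Module R P] (ψ : P →ₗ[R] R) :
    (P × R) ≃ₗ[R] (P × R) where
  toFun z := (z.1, z.2 + ψ z.1)
  map_add' x y := by ext <;> simp; ring
  map_smul' c x := by ext <;> simp [mul_add]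
  invFun z := (z.1, z.2 - ψ z.1)
  left_inv z := by ext <;> simp
  right_inv z := by ext <;> simp

theorem bass_step (d n : ℕ) (hdim : ringKrullDim R = d)
    (P P' : Type u) [AddCommGroup P] [Module R P] [Module.Finite R P] [Module.Projective R P]
    [AddCommGroup P'] [Module R P']
    (hrk : ∀ p : PrimeSpectrum R, rankAtStalk (R := R) P p = n) (hnd : d < n)
    (σ : (P × R) ≃ₗ[R] (P' × R)) : Nonempty (P ≃ₗ[R] P') := by
  classical
  set pa := σ.symm (0, 1) with hpa
  set p₁ : P := pa.1 with hp₁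
  set a : R := pa.2 with ha
  let ψ : (P × R) →ₗ[R] R := (LinearMap.snd R P' R) ∘ₗ σ.toLinearMap
  have hψ : ψ (p₁, a) = 1 := by
    have : (p₁, a) = pa := rfl
    simp [ψ, this, hpa]
  let φ₀ : P →ₗ[R] R := ψ ∘ₗ (LinearMap.inl R P R)
  set c : R := ψ (0, 1) with hc
  have hφ₀ : φ₀ p₁ + a * c = 1 := by
    have h1 : ((p₁, a) : P × R) = (p₁, 0) + a • ((0 : P), (1 : R)) := by
      ext <;> simp
    rw [h1, map_add, map_smul] at hψ
    simpa [φ₀] using hψ
  obtain ⟨N, f, g, hf, hg, hfg⟩ := Module.Finite.exists_comp_eq_id_of_projective R P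
  set v : Fin (N + 1) → Fin N → R :=
    Fin.cons (g p₁) (fun j : Fin N => a • g (f (Pi.single j 1))) with hv
  set S : Set (PrimeSpectrum R) := {q | a ∉ q.asIdeal} with hS
  have hSgen : ∀ q ∈ S, ∀ q' : PrimeSpectrum R, q' ≤ q → q' ∈ S := by
    intro q hq q' hle hmem
    exact hq ((PrimeSpectrum.asIdeal_le_asIdeal _ _).mpr hle hmem)
  have hvrk : ∀ q ∈ S, min (N + 1) (n - ht q) ≤ rk q v := by
    intro q hq
    have h1 := rankAtStalk_le_rk f g hf hfg q
    rw [hrk q] at h1
    refine (min_le_right _ _).trans ((Nat.sub_le _ _).trans (h1.trans ?_))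
    unfold rk
    have hfin : Module.Finite q.asIdeal.ResidueField (Submodule.span q.asIdeal.ResidueField
        (Set.range fun s => red q (v s))) :=
      Module.Finite.span_of_finite _ (Set.finite_range _)
    apply Submodule.finrank_mono
    rw [Submodule.span_le]
    rintro _ ⟨j, rfl⟩
    have hane : algebraMap R q.asIdeal.ResidueField a ≠ 0 := by
      rw [Ne, Ideal.algebraMap_residueField_eq_zero]; exact hq
    have hvj : red q (v j.succ) =
        algebraMap R q.asIdeal.ResidueField a • red q (g (f (Pi.single j 1))) := by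
      have : v j.succ = (0 : Fin N → R) + a • g (f (Pi.single j 1)) := by
        simp [hv]
      rw [this, red_add_smul]
      have h0 : red q (0 : Fin N → R) = 0 := by
        rw [red_eq_zero_iff]; intro i; simp
      rw [h0, zero_add]
    have : red q (g (f (Pi.single j 1))) =
        (algebraMap R q.asIdeal.ResidueField a)⁻¹ • red q (v j.succ) := by
      rw [hvj, smul_smul, inv_mul_cancel₀ hane, one_smul]
    show red q (g (f (Pi.single j 1))) ∈ _
    rw [this]
    exact Submodule.smul_mem _ _ (Submodule.subset_span ⟨j.succ, rfl⟩)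
  obtain ⟨y, hy, hgood⟩ := gp S hSgen ht ht_strictMono n N v hvrk
  -- y = g (a • p')
  have hyT : y ∈ Submodule.map (a • (LinearMap.id : (Fin N → R) →ₗ[R] (Fin N → R)))
      (LinearMap.range g) := by
    refine Submodule.span_le.mpr ?_ hy
    rintro _ ⟨j, rfl⟩
    refine ⟨g (f (Pi.single j 1)), ⟨_, rfl⟩, ?_⟩
    simp [hv]
  obtain ⟨_, ⟨p', rfl⟩, hp'⟩ := hyT
  simp only [LinearMap.smul_apply, LinearMap.id_coe, id_eq] at hp'
  set q₁ : P := p₁ + a • p' with hq₁
  have hgq : g q₁ = v 0 + y := by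
    rw [hq₁, map_add, map_smul, ← hp']
    simp [hv]
  have hcoords : ∀ q : PrimeSpectrum R, ∃ i, g q₁ i ∉ q.asIdeal := by
    intro q
    by_cases hq : q ∈ S
    · rw [hgq]
      exact hgood q hq (lt_of_le_of_lt (ht_le d hdim q) hnd)
    · have haq : a ∈ q.asIdeal := by
        simpa [hS] using hq
      by_contra hall
      push Not at hall
      -- φ₀ q₁ ∈ q
      have h1 : φ₀ q₁ ∈ q.asIdeal := by
        have hq₁' : q₁ = f (g q₁) := (LinearMap.congr_fun hfg q₁).symm
        have hsum : g q₁ = ∑ i : Fin N, g q₁ i • (Pi.single i (1 : R) : Fin N → R) := by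
          funext i
          simp [Finset.sum_apply, Pi.single_apply]
        rw [hq₁', hsum, map_sum, map_sum]
        refine Ideal.sum_mem _ fun i _ => ?_
        rw [map_smul, map_smul, smul_eq_mul]
        exact Ideal.mul_mem_right _ _ (hall i)
      have h2 : φ₀ q₁ = 1 - a * c + a * φ₀ p' := by
        rw [hq₁, map_add, map_smul, smul_eq_mul]
        linear_combination hφ₀
      have h3 : (1 : R) ∈ q.asIdeal := by
        have : (1 : R) = φ₀ q₁ + a * (c - φ₀ p') := by rw [h2]; ring
        rw [this]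
        exact Ideal.add_mem _ h1 (Ideal.mul_mem_right _ _ haq)
      exact q.isPrime.ne_top ((Ideal.eq_top_iff_one _).mpr h3)
  obtain ⟨φ, hφ⟩ := exists_functional_of_coords g q₁ hcoords
  -- the automorphism τ
  let τ : (P × R) ≃ₗ[R] (P × R) :=
    (shearL R p').trans ((shearR R ((1 - a) • φ)).trans (shearL R (-q₁)))
  have hτ : τ (p₁, a) = (0, 1) := by
    simp only [τ, LinearEquiv.trans_apply, shearL, shearR, LinearEquiv.coe_mk, LinearMap.coe_mk,
      AddHom.coe_mk, LinearMap.smul_apply, smul_eq_mul]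
    rw [← hq₁, hφ]
    ext
    · simp
    · simp
  let ρ : (P × R) ≃ₗ[R] (P' × R) := τ.symm.trans σ
  have hρ : ρ (0, 1) = (0, 1) := by
    have h1 : τ.symm (0, 1) = (p₁, a) := by
      rw [← hτ]; simp
    simp only [ρ, LinearEquiv.trans_apply, h1]
    have : (p₁, a) = pa := rfl
    rw [this, hpa]
    simp
  exact equiv_of_fix ρ hρ


theorem bass_fin (d : ℕ) (hdim : ringKrullDim R = d) :
    ∀ (m n : ℕ) (P P' : Type u) [AddCommGroup P] [Module R P] [Module.Finite R P]
      [Module.Projective R P] [AddCommGroup P'] [Module R P'],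
      (∀ p : PrimeSpectrum R, rankAtStalk (R := R) P p = n) → d < n →
      ((P × (Fin m → R)) ≃ₗ[R] (P' × (Fin m → R))) → Nonempty (P ≃ₗ[R] P') := by
  intro m
  induction m with
  | zero =>
    intro n P P' _ _ _ _ _ _ _ _ e
    exact ⟨(LinearEquiv.prodUnique (R := R) (M := P) (M₂ := Fin 0 → R)).symm.trans
      (e.trans LinearEquiv.prodUnique)⟩
  | succ m ih =>
    intro n P P' _ _ _ _ _ _ hrk hnd e
    haveI : Nontrivial R := by
      by_contra hnt
      rw [not_nontrivial_iff_subsingleton] at hnt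
      rw [ringKrullDim_eq_bot_of_subsingleton] at hdim
      exact absurd hdim (by simp)
    -- (X × (Fin (m+1) → R)) ≃ ((X × (Fin m → R)) × R)
    have key : ∀ (X : Type u) [AddCommGroup X] [Module R X],
        Nonempty ((X × (Fin (m + 1) → R)) ≃ₗ[R] ((X × (Fin m → R)) × R)) := by
      intro X _ _
      have e4 : (R × (Fin m → R)) ≃ₗ[R] (Fin (m + 1) → R) :=
        Fin.consLinearEquiv R (fun _ : Fin (m + 1) => R)
      have e3 : (R × (Fin m → R)) ≃ₗ[R] ((Fin m → R) × R) := LinearEquiv.prodComm R R (Fin m → R)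
      have e5 : (X × (Fin (m + 1) → R)) ≃ₗ[R] (X × ((Fin m → R) × R)) :=
        LinearEquiv.prodCongr (LinearEquiv.refl R X) (e4.symm.trans e3)
      exact ⟨e5.trans (LinearEquiv.prodAssoc R X (Fin m → R) R).symm⟩
    obtain ⟨k1⟩ := key P
    obtain ⟨k2⟩ := key P'
    have σ : ((P × (Fin m → R)) × R) ≃ₗ[R] ((P' × (Fin m → R)) × R) :=
      k1.symm.trans (e.trans k2)
    have hrk1 : ∀ p : PrimeSpectrum R, rankAtStalk (R := R) (P × (Fin m → R)) p = n + m := by
      intro p
      rw [rankAtStalk_prod, Pi.add_apply, hrk p, rankAtStalk_eq_finrank_of_free]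
      simp
    obtain ⟨e1⟩ := bass_step R d (n + m) hdim (P × (Fin m → R)) (P' × (Fin m → R)) hrk1
      (by omega) σ
    exact ih n P P' hrk hnd e1

theorem bass_free (d n : ℕ) (hdim : ringKrullDim R = d)
    (P P' F : Type u) [AddCommGroup P] [Module R P] [Module.Finite R P]
    [Module.Projective R P] [AddCommGroup P'] [Module R P']
    [AddCommGroup F] [Module R F] [Module.Finite R F] [Module.Free R F]
    (hrk : ∀ p : PrimeSpectrum R, rankAtStalk (R := R) P p = n) (hnd : d < n)
    (e : (P × F) ≃ₗ[R] (P' × F)) : Nonempty (P ≃ₗ[R] P') := by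
  haveI : Nontrivial R := by
    by_contra hnt
    rw [not_nontrivial_iff_subsingleton] at hnt
    rw [ringKrullDim_eq_bot_of_subsingleton] at hdim
    exact absurd hdim (by simp)
  let b : F ≃ₗ[R] (Fin (finrank R F) → R) := (Module.finBasis R F).equivFun
  exact bass_fin R d hdim (finrank R F) n P P' hrk hnd
    ((LinearEquiv.prodCongr (LinearEquiv.refl R P) b.symm).trans
      (e.trans (LinearEquiv.prodCongr (LinearEquiv.refl R P') b)))

theorem S19545_main (d n : ℕ) (hdim : ringKrullDim R = d)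
    (P P' : Type u) [AddCommGroup P] [Module R P] [Module.Finite R P] [Module.Projective R P]
    [AddCommGroup P'] [Module R P'] [Module.Finite R P'] [Module.Projective R P']
    (hrk : ∀ p : PrimeSpectrum R, Module.rankAtStalk (R := R) P p = n)
    (hrk' : ∀ p : PrimeSpectrum R, Module.rankAtStalk (R := R) P' p = n) (hnd : d < n)
    (m : ℕ) (e : (P × (Fin m → R)) ≃ₗ[R] (P' × (Fin m → R))) :
    Nonempty (P ≃ₗ[R] P') :=
  bass_fin R d hdim m n P P' hrk hnd e

/-- `(ι → A × B) ≃ (ι → A) × (ι → B)` -/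
def piProdEquiv (ι : Type*) (A B : Type*) [AddCommGroup A] [Module R A] [AddCommGroup B]
    [Module R B] : (ι → A × B) ≃ₗ[R] ((ι → A) × (ι → B)) where
  toFun h := (fun i => (h i).1, fun i => (h i).2)
  map_add' x y := rfl
  map_smul' c x := rfl
  invFun z := fun i => (z.1 i, z.2 i)
  left_inv h := rfl
  right_inv z := rfl

theorem S19552_main (d n : ℕ) (hdim : ringKrullDim R = d)
    (P Q : Type u) [AddCommGroup P] [Module R P] [Module.Finite R P] [Module.Projective R P]
    [AddCommGroup Q] [Module R Q] [Module.Finite R Q] [Module.Projective R Q]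
    (hrk : ∀ p : PrimeSpectrum R, Module.rankAtStalk (R := R) P p = n)
    (hrk' : ∀ p : PrimeSpectrum R, Module.rankAtStalk (R := R) Q p = n)
    (m : ℕ) (e : (P × (Fin m → R)) ≃ₗ[R] (Q × (Fin m → R))) :
    ∃ N : ℕ, 1 ≤ N ∧ Nonempty ((Fin N → P) ≃ₗ[R] (Fin N → Q)) := by
  rcases Nat.eq_zero_or_pos n with hn | hn
  · subst hn
    haveI : Subsingleton P := (rankAtStalk_eq_zero_iff_subsingleton (R := R)).mp (funext hrk)
    haveI : Subsingleton Q := (rankAtStalk_eq_zero_iff_subsingleton (R := R)).mp (funext hrk')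
    refine ⟨1, le_rfl, ⟨?_⟩⟩
    exact
      { toFun := fun _ => 0
        map_add' := fun _ _ => by simp
        map_smul' := fun _ _ => by simp
        invFun := fun _ => 0
        left_inv := fun _ => Subsingleton.elim _ _
        right_inv := fun _ => Subsingleton.elim _ _ }
  · refine ⟨d + 1, by omega, ?_⟩
    set N := d + 1 with hN
    haveI : Module.Projective R (Fin N → P) :=
      Module.Projective.of_equiv (DFinsupp.linearEquivFunOnFintype (R := R) (M := fun _ : Fin N => P))
    have hrkN : ∀ p : PrimeSpectrum R, rankAtStalk (R := R) (Fin N → P) p = N * n := by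
      intro p
      rw [rankAtStalk_pi]
      simp [finsum_eq_sum_of_fintype, hrk p]
    have hlt : d < N * n := by
      calc d < N := by omega
        _ = N * 1 := (mul_one N).symm
        _ ≤ N * n := Nat.mul_le_mul_left N hn
    have e' : ((Fin N → P) × (Fin N → Fin m → R)) ≃ₗ[R] ((Fin N → Q) × (Fin N → Fin m → R)) :=
      (piProdEquiv R (Fin N) P (Fin m → R)).symm.trans
        ((LinearEquiv.piCongrRight (fun _ : Fin N => e)).trans
          (piProdEquiv R (Fin N) Q (Fin m → R)))
    exact bass_free R d (N * n) hdim (Fin N → P) (Fin N → Q) (Fin N → Fin m → R) hrkN hlt e'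

end Bass

end Groth.Agent.H9.SBC
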