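import Mathlib
import Groth.Agent.Lib.Helper9.Misc.SBC1

set_option autoImplicit false
set_option linter.style.haveILetI false
set_option linter.unusedSectionVars false
set_option linter.unusedVariables false

namespace Groth.Agent.H9.SBQ

open Module TensorProduct Groth.Agent.H9.SBC

variable {R : Type*} [CommRing R] {E : Type*} [AddCommGroup E] [Module R E]

/-- reduction of an element of a module to the fibre at `p` -/
noncomputable def rho (p : PrimeSpectrum R) (x : E) : p.asIdeal.ResidueField ⊗[R] E :=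
  (1 : p.asIdeal.ResidueField) ⊗ₜ[R] x

theorem rho_add_smul (p : PrimeSpectrum R) (x y : E) (a : R) :
    rho p (x + a • y) = rho p x + (algebraMap R p.asIdeal.ResidueField a) • rho p y := by
  unfold rho
  rw [tmul_add, tmul_smul, algebraMap_smul]

theorem rho_zero (p : PrimeSpectrum R) : rho p (0 : E) = 0 := by
  unfold rho; rw [tmul_zero]

/-- rank of the span of the reductions -/
noncomputable def rkQ (p : PrimeSpectrum R) {σ : Type*} (v : σ → E) : ℕ :=
  finrank p.asIdeal.ResidueField
    (Submodule.span p.asIdeal.ResidueField (Set.range fun s => rho p (v s)))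

theorem rkQ_reduce (p : PrimeSpectrum R) {u : ℕ} (v : Fin (u + 1) → E)
    (a : Fin u → R) :
    (fun j : Fin u => rho p (v j.castSucc + a j • v (Fin.last u))) =
      fun j : Fin u => rho p (v j.castSucc) +
        (algebraMap R p.asIdeal.ResidueField (a j)) • rho p (v (Fin.last u)) := by
  funext j
  rw [rho_add_smul]

theorem rkQ_le_succ (p : PrimeSpectrum R) {u : ℕ} (v : Fin (u + 1) → E)
    (a : Fin u → R) :
    rkQ p v ≤ rkQ p (fun j : Fin u => v j.castSucc + a j • v (Fin.last u)) + 1 := by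
  unfold rkQ
  rw [rkQ_reduce]
  exact finrank_span_le_succ (fun j => rho p (v j)) _

theorem rkQ_ge (p : PrimeSpectrum R) {u : ℕ} (v : Fin (u + 1) → E)
    (a : Fin u → R) :
    rkQ p (fun j : Fin u => v j.castSucc + a j • v (Fin.last u)) ≤ rkQ p v := by
  unfold rkQ
  rw [rkQ_reduce]
  exact finrank_span_ge (fun j => rho p (v j)) _

theorem rkQ_congr (p : PrimeSpectrum R) {u : ℕ} (v : Fin (u + 1) → E)
    (a a' : Fin u → R)
    (h : ∀ j, algebraMap R p.asIdeal.ResidueField (a j) =
      algebraMap R p.asIdeal.ResidueField (a' j)) :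
    rkQ p (fun j : Fin u => v j.castSucc + a j • v (Fin.last u)) =
      rkQ p (fun j : Fin u => v j.castSucc + a' j • v (Fin.last u)) := by
  have : (fun j : Fin u => rho p (v j.castSucc + a j • v (Fin.last u))) =
      fun j : Fin u => rho p (v j.castSucc + a' j • v (Fin.last u)) := by
    funext j
    rw [rho_add_smul, rho_add_smul, h j]
  unfold rkQ
  rw [this]

theorem rkQ_eq_of_rel (p : PrimeSpectrum R) {u : ℕ} (v : Fin (u + 1) → E)
    (a : Fin u → R) (k : Fin (u + 1) → p.asIdeal.ResidueField)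
    (hk : ∑ j, k j • rho p (v j) = 0)
    (hφ : k (Fin.last u) -
      ∑ j : Fin u, algebraMap R p.asIdeal.ResidueField (a j) * k j.castSucc ≠ 0) :
    rkQ p (fun j : Fin u => v j.castSucc + a j • v (Fin.last u)) = rkQ p v := by
  unfold rkQ
  rw [rkQ_reduce]
  rw [span_eq_of_rel (fun j => rho p (v j))
    (fun j => algebraMap R p.asIdeal.ResidueField (a j)) k hk hφ]

/-- Lemma 1: simultaneous "no drop" at finitely many primes. -/
theorem exists_simulQ {u : ℕ} (v : Fin (u + 1) → E) :
    ∀ (P : Finset (PrimeSpectrum R)), (∀ p ∈ P, rkQ p v ≤ u) →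
    ∃ a : Fin u → R, ∀ p ∈ P,
      rkQ p (fun j : Fin u => v j.castSucc + a j • v (Fin.last u)) = rkQ p v := by
  classical
  intro P
  induction P using Finset.strongInduction with
  | H P ih =>
  intro hP
  rcases P.eq_empty_or_nonempty with rfl | hne
  · exact ⟨0, by simp⟩
  obtain ⟨p₀, hp₀P, hp₀min⟩ := P.exists_minimal hne
  obtain ⟨a, ha⟩ := ih (P.erase p₀) (Finset.erase_ssubset hp₀P)
    (fun p hp => hP p (Finset.mem_of_mem_erase hp))
  -- relation at p₀
  obtain ⟨k, hk0, hk⟩ := exists_rel (fun j => rho p₀ (v j)) (hP p₀ hp₀P)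
  by_cases hφ : k (Fin.last u) -
      ∑ j : Fin u, algebraMap R p₀.asIdeal.ResidueField (a j) * k j.castSucc = 0
  · -- adjust
    have hj₀ : ∃ j₀ : Fin u, k j₀.castSucc ≠ 0 := by
      by_contra hall
      push Not at hall
      apply hk0
      funext j
      refine Fin.lastCases ?_ (fun j => hall j) j
      simpa [hall] using hφ
    obtain ⟨j₀, hj₀⟩ := hj₀
    -- choose r
    have hr : ∃ r : R, (∀ q ∈ P.erase p₀, r ∈ q.asIdeal) ∧ r ∉ p₀.asIdeal := by
      have hnle : ¬ ((P.erase p₀).prod fun q => q.asIdeal) ≤ p₀.asIdeal := by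
        intro hle
        obtain ⟨q, hq, hqle⟩ := (p₀.isPrime.prod_le).mp hle
        have hqP : q ∈ P := Finset.mem_of_mem_erase hq
        have hle' : q ≤ p₀ := (PrimeSpectrum.asIdeal_le_asIdeal _ _).mp hqle
        have : p₀ ≤ q := hp₀min hqP hle'
        have heq : q = p₀ := le_antisymm hle' this
        exact (Finset.ne_of_mem_erase hq) heq
      obtain ⟨r, hr, hrn⟩ := SetLike.not_le_iff_exists.mp hnle
      refine ⟨r, fun q hq => ?_, hrn⟩
      exact (Ideal.prod_le_inf.trans (Finset.inf_le hq)) hr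
    obtain ⟨r, hrq, hrp⟩ := hr
    set a' : Fin u → R := a + Pi.single j₀ r with ha'
    refine ⟨a', fun p hp => ?_⟩
    by_cases hpp : p = p₀
    · subst hpp
      have hrbar : algebraMap R p.asIdeal.ResidueField r ≠ 0 := by
        rw [Ne, Ideal.algebraMap_residueField_eq_zero]; exact hrp
      refine rkQ_eq_of_rel p v a' k hk ?_
      have hsum : ∑ j : Fin u, algebraMap R p.asIdeal.ResidueField (a' j) * k j.castSucc =
          ∑ j : Fin u, algebraMap R p.asIdeal.ResidueField (a j) * k j.castSucc +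
            algebraMap R p.asIdeal.ResidueField r * k j₀.castSucc := by
        simp only [ha', Pi.add_apply, map_add, add_mul, Finset.sum_add_distrib]
        congr 1
        rw [Finset.sum_eq_single j₀]
        · simp
        · intro j _ hj
          simp [Pi.single_eq_of_ne hj]
        · simp
      rw [hsum, ← sub_sub, hφ, zero_sub, neg_ne_zero]
      exact mul_ne_zero hrbar hj₀
    · have hpe : p ∈ P.erase p₀ := Finset.mem_erase.mpr ⟨hpp, hp⟩
      rw [← ha p hpe]
      refine rkQ_congr p v a' a (fun j => ?_)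
      simp only [ha', Pi.add_apply, map_add]
      by_cases hj : j = j₀
      · subst hj
        simp only [Pi.single_eq_same]
        rw [(Ideal.algebraMap_residueField_eq_zero).mpr (hrq p hpe), add_zero]
      · simp [Pi.single_eq_of_ne hj]
  · refine ⟨a, fun p hp => ?_⟩
    by_cases hpp : p = p₀
    · subst hpp
      exact rkQ_eq_of_rel p v a k hk hφ
    · exact ha p (Finset.mem_erase.mpr ⟨hpp, hp⟩)

/-- closedness of the rank conditions on `S` -/
def ClosedOn (S : Set (PrimeSpectrum R)) {σ : Type*} (v : σ → E) : Prop :=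
  ∀ w : ℕ, ∃ I : Ideal R, ∀ p ∈ S, (w ≤ rkQ p v ↔ ¬ (I ≤ p.asIdeal))

/-- The reduction step of the general position argument. -/
theorem stepQ [IsNoetherianRing R] (S : Set (PrimeSpectrum R))
    (hS : ∀ p ∈ S, ∀ q : PrimeSpectrum R, q ≤ p → q ∈ S)
    (h : PrimeSpectrum R → ℕ) (hh : ∀ p q : PrimeSpectrum R, q < p → h q < h p)
    (n : ℕ) {u : ℕ} (v : Fin (u + 2) → E) (hcl : ClosedOn S v)
    (hv : ∀ p ∈ S, min (u + 2) (n - h p) ≤ rkQ p v) :
    ∃ a : Fin (u + 1) → R, ∀ p ∈ S,
      min (u + 1) (n - h p) ≤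
        rkQ p (fun j : Fin (u + 1) => v j.castSucc + a j • v (Fin.last (u + 1))) := by
  classical
  choose I hI using hcl
  set Bad : Set (PrimeSpectrum R) :=
    {p | p ∈ S ∧ 1 ≤ rkQ p v ∧ rkQ p v = n - h p ∧ rkQ p v ≤ u + 1} with hBad
  have hsub : Bad ⊆ ⋃ r ∈ Finset.range (u + 2),
      {p : PrimeSpectrum R | p.asIdeal ∈ (I (r + 1)).minimalPrimes} := by
    rintro p ⟨hpS, h1, h2, h3⟩
    simp only [Set.mem_iUnion, Finset.mem_range, Set.mem_ofPred_eq, exists_prop]
    refine ⟨rkQ p v, by omega, ?_⟩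
    refine ⟨⟨p.isPrime, ?_⟩, ?_⟩
    · by_contra hcon
      have := (hI (rkQ p v + 1) p hpS).mpr hcon
      omega
    · rintro q ⟨hqprime, hqle⟩ hqp
      by_contra hcon
      have hlt : q < p.asIdeal := lt_of_le_of_ne hqp (fun heq => hcon (heq ▸ le_rfl))
      set Q : PrimeSpectrum R := ⟨q, hqprime⟩ with hQ
      have hQlt : Q < p := (PrimeSpectrum.asIdeal_lt_asIdeal _ _).mp hlt
      have hQS : Q ∈ S := hS p hpS Q hQlt.le
      have hrkQ : rkQ Q v ≤ rkQ p v := by
        by_contra hgt
        push Not at hgt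
        have := (hI (rkQ p v + 1) Q hQS).mp hgt
        exact this hqle
      have h4 := hv Q hQS
      have h5 := hh p Q hQlt
      omega
  have hfin : Bad.Finite := by
    refine Set.Finite.subset ?_ hsub
    refine Set.Finite.biUnion (Finset.finite_toSet _) (fun r _ => ?_)
    have := Ideal.finite_minimalPrimes_of_isNoetherianRing R (I (r + 1))
    refine Set.Finite.of_injOn (f := fun p : PrimeSpectrum R => p.asIdeal) ?_ ?_ this
    · intro p hp; exact hp
    · intro p _ q _ hpq; exact PrimeSpectrum.ext hpq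
  obtain ⟨a, ha⟩ := exists_simulQ v hfin.toFinset (fun p hp => by
    have : p ∈ Bad := hfin.mem_toFinset.mp hp
    exact this.2.2.2)
  refine ⟨a, fun p hpS => ?_⟩
  by_cases hb : p ∈ Bad
  · rw [ha p (hfin.mem_toFinset.mpr hb)]
    obtain ⟨_, h1, h2, h3⟩ := hb
    omega
  · have h1 := hv p hpS
    have h2 := rkQ_le_succ p v a
    have hb' : ¬ (1 ≤ rkQ p v ∧ rkQ p v = n - h p ∧ rkQ p v ≤ u + 1) := fun hc => hb ⟨hpS, hc⟩
    omega

/-- General position theorem (basic elements) for a module with closed rank conditions. -/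
theorem gpQ [IsNoetherianRing R] (S : Set (PrimeSpectrum R))
    (hS : ∀ p ∈ S, ∀ q : PrimeSpectrum R, q ≤ p → q ∈ S)
    (h : PrimeSpectrum R → ℕ) (hh : ∀ p q : PrimeSpectrum R, q < p → h q < h p)
    (hcl : ∀ (m : ℕ) (v : Fin m → E), ClosedOn S v)
    (n : ℕ) : ∀ (u : ℕ) (v : Fin (u + 1) → E),
    (∀ p ∈ S, min (u + 1) (n - h p) ≤ rkQ p v) →
    ∃ y ∈ Submodule.span R (Set.range fun j : Fin u => v j.succ),
      ∀ p ∈ S, h p < n → rho p (v 0 + y) ≠ 0 := by
  intro u
  induction u with
  | zero =>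
    intro v hv
    refine ⟨0, Submodule.zero_mem _, fun p hp hlt => ?_⟩
    have h1 := hv p hp
    have h2 : 1 ≤ rkQ p v := by omega
    intro hcon
    rw [add_zero] at hcon
    have hzero : ∀ s : Fin 1, rho p (v s) = 0 := by
      intro s
      rwa [Subsingleton.elim s 0]
    have : rkQ p v = 0 := by
      unfold rkQ
      have : (Set.range fun s : Fin 1 => rho p (v s)) = {0} := by
        ext z
        simp only [Set.mem_range, Set.mem_singleton_iff]
        constructor
        · rintro ⟨s, rfl⟩; exact hzero s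
        · rintro rfl; exact ⟨0, hzero 0⟩
      rw [this]
      simp
    omega
  | succ u ih =>
    intro v hv
    obtain ⟨a, ha⟩ := stepQ S hS h hh n v (hcl _ v) hv
    set v' : Fin (u + 1) → E :=
      fun j => v j.castSucc + a j • v (Fin.last (u + 1)) with hv'
    obtain ⟨y', hy', hgood⟩ := ih v' ha
    refine ⟨a 0 • v (Fin.last (u + 1)) + y', ?_, ?_⟩
    · refine Submodule.add_mem _ (Submodule.smul_mem _ _ (Submodule.subset_span ?_)) ?_
      · exact ⟨Fin.last u, by simp⟩
      · refine Submodule.span_le.mpr ?_ hy'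
        rintro _ ⟨j, rfl⟩
        simp only [hv']
        refine Submodule.add_mem _ (Submodule.subset_span ⟨j.castSucc, ?_⟩)
          (Submodule.smul_mem _ _ (Submodule.subset_span ⟨Fin.last u, by simp⟩))
        simp
    · intro p hp hlt
      have hi := hgood p hp hlt
      have : v' 0 + y' = v 0 + (a 0 • v (Fin.last (u + 1)) + y') := by
        simp only [hv', Fin.castSucc_zero]
        abel
      rwa [this] at hi

end Groth.Agent.H9.SBQ
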