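import Mathlib
import Groth.Agent.Lib.Helper9.Misc.SBC2
import Groth.Agent.Lib.Helper9.Misc.SBQ1

set_option autoImplicit false
set_option linter.style.haveILetI false
set_option linter.unusedSectionVars false
set_option linter.unusedVariables false

namespace Groth.Agent.H9.SBQ

open Module TensorProduct Groth.Agent.H9.SBC

section LA

variable {K V W : Type*} [Field K] [AddCommGroup V] [Module K V] [AddCommGroup W] [Module K W]
  [FiniteDimensional K V]

lemma finrank_map_add_finrank_ker (P : V →ₗ[K] W) (U : Submodule K V) :
    finrank K (U.map P) + finrank K (LinearMap.ker P) = finrank K ↥(U ⊔ LinearMap.ker P) := by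
  set U' := U ⊔ LinearMap.ker P with hU'
  have h1 := (P.domRestrict U').finrank_range_add_finrank_ker
  have h2 : LinearMap.range (P.domRestrict U') = U.map P := by
    rw [LinearMap.range_domRestrict]
    apply le_antisymm
    · rintro _ ⟨x, hx, rfl⟩
      obtain ⟨y, hy, z, hz, rfl⟩ := Submodule.mem_sup.mp hx
      refine ⟨y, hy, ?_⟩
      rw [map_add, LinearMap.mem_ker.mp hz, add_zero]
    · exact Submodule.map_mono le_sup_left
  have h3 : finrank K (LinearMap.ker (P.domRestrict U')) = finrank K (LinearMap.ker P) := by
    rw [LinearMap.ker_domRestrict]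
    exact (Submodule.comapSubtypeEquivOfLe (le_sup_right : LinearMap.ker P ≤ U')).finrank_eq
  rw [h2, h3] at h1
  exact h1

end LA

variable {R : Type*} [CommRing R]

/-- The fibre map `κ(p)^n → κ(p) ⊗ M` attached to a map `π : R^n → M`. -/
noncomputable def fibMap (p : PrimeSpectrum R) {M : Type*} [AddCommGroup M] [Module R M] {n : ℕ}
    (π : (Fin n → R) →ₗ[R] M) :
    (Fin n → p.asIdeal.ResidueField) →ₗ[p.asIdeal.ResidueField] p.asIdeal.ResidueField ⊗[R] M :=
  (π.baseChange p.asIdeal.ResidueField) ∘ₗ
    (TensorProduct.piScalarRight R p.asIdeal.ResidueField p.asIdeal.ResidueField (Fin n)).symm.toLinearMap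

lemma piScalarRight_symm_red (p : PrimeSpectrum R) {n : ℕ} (y : Fin n → R) :
    (TensorProduct.piScalarRight R p.asIdeal.ResidueField p.asIdeal.ResidueField (Fin n)).symm
      (red p y) = (1 : p.asIdeal.ResidueField) ⊗ₜ[R] y := by
  rw [LinearEquiv.symm_apply_eq]
  funext i
  simp [red, Algebra.smul_def]

lemma fibMap_red (p : PrimeSpectrum R) {M : Type*} [AddCommGroup M] [Module R M] {n : ℕ}
    (π : (Fin n → R) →ₗ[R] M) (y : Fin n → R) :
    fibMap p π (red p y) = rho p (π y) := by
  unfold fibMap rho
  rw [LinearMap.comp_apply, LinearEquiv.coe_coe, piScalarRight_symm_red,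
    LinearMap.baseChange_tmul]

lemma fibMap_surjective (p : PrimeSpectrum R) {M : Type*} [AddCommGroup M] [Module R M] {n : ℕ}
    (π : (Fin n → R) →ₗ[R] M) (hπ : Function.Surjective π) :
    Function.Surjective (fibMap p π) := by
  unfold fibMap
  rw [LinearMap.coe_comp]
  refine Function.Surjective.comp ?_ (LinearEquiv.surjective _)
  exact LinearMap.lTensor_surjective _ hπ

lemma piScalarRight_tmul_eq (p : PrimeSpectrum R) {n : ℕ} (a : p.asIdeal.ResidueField)
    (f : Fin n → R) :
    (TensorProduct.piScalarRight R p.asIdeal.ResidueField p.asIdeal.ResidueField (Fin n))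
      (a ⊗ₜ[R] f) = a • red p f := by
  funext i
  simp [red, Algebra.smul_def, mul_comm]

lemma red_mem_span (p : PrimeSpectrum R) {n c : ℕ} (k : Fin c → (Fin n → R)) (y : Fin n → R)
    (hy : y ∈ Submodule.span R (Set.range k)) :
    red p y ∈ Submodule.span p.asIdeal.ResidueField (Set.range fun j => red p (k j)) := by
  induction hy using Submodule.span_induction with
  | mem x hx =>
    obtain ⟨j, rfl⟩ := hx
    exact Submodule.subset_span ⟨j, rfl⟩
  | zero =>
    have : red p (0 : Fin n → R) = 0 := by funext i; simp [red]
    rw [this]; exact Submodule.zero_mem _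
  | add x y _ _ hx hy =>
    have : red p (x + y) = red p x + red p y := by funext i; simp [red]
    rw [this]; exact Submodule.add_mem _ hx hy
  | smul a x _ hx =>
    have : red p (a • x) = (algebraMap R p.asIdeal.ResidueField a) • red p x := by
      funext i; simp [red]
    rw [this]; exact Submodule.smul_mem _ _ hx

lemma ker_fibMap (p : PrimeSpectrum R) {M : Type*} [AddCommGroup M] [Module R M] {n c : ℕ}
    (π : (Fin n → R) →ₗ[R] M) (hπ : Function.Surjective π) (k : Fin c → (Fin n → R))
    (hk : Submodule.span R (Set.range k) = LinearMap.ker π) :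
    LinearMap.ker (fibMap p π) =
      Submodule.span p.asIdeal.ResidueField (Set.range fun j => red p (k j)) := by
  set e := TensorProduct.piScalarRight R p.asIdeal.ResidueField p.asIdeal.ResidueField (Fin n)
    with he
  have key : ∀ z : p.asIdeal.ResidueField ⊗[R] ↥(LinearMap.ker π),
      e ((LinearMap.ker π).subtype.lTensor p.asIdeal.ResidueField z) ∈
        Submodule.span p.asIdeal.ResidueField (Set.range fun j => red p (k j)) := by
    intro z
    induction z using TensorProduct.induction_on with
    | zero => simp
    | add a b ha hb =>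
      rw [map_add, map_add]
      exact Submodule.add_mem _ ha hb
    | tmul a y =>
      rw [LinearMap.lTensor_tmul, Submodule.subtype_apply, he, piScalarRight_tmul_eq]
      refine Submodule.smul_mem _ _ (red_mem_span p k _ ?_)
      rw [hk]; exact y.2
  apply le_antisymm
  · intro x hx
    rw [LinearMap.mem_ker] at hx
    have hx' : (π.lTensor p.asIdeal.ResidueField) (e.symm x) = 0 := hx
    have hex : Function.Exact ((LinearMap.ker π).subtype.lTensor p.asIdeal.ResidueField)
        (π.lTensor p.asIdeal.ResidueField) :=
      lTensor_exact _ (LinearMap.exact_subtype_ker_map π) hπ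
    obtain ⟨z, hz⟩ := (hex _).mp hx'
    have hxz : x = e ((LinearMap.ker π).subtype.lTensor p.asIdeal.ResidueField z) := by
      rw [hz, LinearEquiv.apply_symm_apply]
    rw [hxz]
    exact key z
  · rw [Submodule.span_le]
    rintro _ ⟨j, rfl⟩
    rw [SetLike.mem_coe, LinearMap.mem_ker, fibMap_red]
    have : π (k j) = 0 := by
      have : k j ∈ LinearMap.ker π := hk ▸ Submodule.subset_span ⟨j, rfl⟩
      exact this
    rw [this, rho_zero]

theorem closedOn_of_const_fiber [IsNoetherianRing R] {M : Type*} [AddCommGroup M] [Module R M]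
    [Module.Finite R M] (S : Set (PrimeSpectrum R)) (r : ℕ)
    (hr : ∀ p ∈ S, finrank p.asIdeal.ResidueField (p.asIdeal.ResidueField ⊗[R] M) = r)
    (m : ℕ) (v : Fin m → M) : ClosedOn S v := by
  classical
  obtain ⟨n, π, hπ⟩ := Module.Finite.exists_fin' R M
  obtain ⟨c, k, hk⟩ := (Submodule.fg_iff_exists_fin_generating_family).mp
    (IsNoetherian.noetherian (LinearMap.ker π))
  choose vt hvt using fun s => hπ (v s)
  intro w
  refine ⟨minorIdeal (w + (n - r)) (Sum.elim vt k), fun p hp => ?_⟩
  rw [← le_rk_iff]
  have hkey : rk p (Sum.elim vt k) = rkQ p v + (n - r) := by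
    set U := Submodule.span p.asIdeal.ResidueField (Set.range fun s => red p (vt s)) with hU
    have hN := ker_fibMap p π hπ k hk
    have h1 : rk p (Sum.elim vt k) =
        finrank p.asIdeal.ResidueField ↥(U ⊔ LinearMap.ker (fibMap p π)) := by
      unfold rk
      have : (Set.range fun s => red p (Sum.elim vt k s)) =
          (Set.range fun s => red p (vt s)) ∪ (Set.range fun j => red p (k j)) := by
        ext z
        simp only [Set.mem_range, Set.mem_union, Sum.exists, Sum.elim_inl, Sum.elim_inr]
      rw [this, Submodule.span_union, hN]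
    have h2 : U.map (fibMap p π) =
        Submodule.span p.asIdeal.ResidueField (Set.range fun s => rho p (v s)) := by
      rw [hU, Submodule.map_span]
      congr 1
      ext z
      simp only [Set.mem_image, Set.mem_range, exists_exists_eq_and, fibMap_red, hvt]
    have h3 : finrank p.asIdeal.ResidueField (LinearMap.ker (fibMap p π)) = n - r := by
      have h4 := (fibMap p π).finrank_range_add_finrank_ker
      have h5 : LinearMap.range (fibMap p π) = ⊤ :=
        LinearMap.range_eq_top.mpr (fibMap_surjective p π hπ)
      rw [h5, finrank_top, hr p hp, Module.finrank_fin_fun] at h4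
      omega
    have h6 := finrank_map_add_finrank_ker (fibMap p π) U
    rw [h1, ← h6, h2, h3]
    rfl
  rw [hkey]
  omega

end Groth.Agent.H9.SBQ
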