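import Mathlib
import Groth.Agent.Lib.Helper9.Misc.SBQ2
import Groth.Agent.Lib.Helper9.Misc.FFR1

set_option autoImplicit false
set_option linter.style.haveILetI false
set_option linter.unusedSectionVars false
set_option linter.unusedVariables false

namespace Groth.Agent.H9.SBQ

open Module TensorProduct Groth.Agent.H9.SBC

variable {R : Type*} [CommRing R]

/-- fibre rank from local freeness -/
theorem finrank_fiber_of_equiv (p : PrimeSpectrum R) {M : Type*} [AddCommGroup M] [Module R M]
    (r : ℕ) (e : LocalizedModule p.asIdeal.primeCompl M ≃ₗ[Localization.AtPrime p.asIdeal]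
      (Fin r → Localization.AtPrime p.asIdeal)) :
    finrank p.asIdeal.ResidueField (p.asIdeal.ResidueField ⊗[R] M) = r := by
  let B := Localization.AtPrime p.asIdeal
  let κ := p.asIdeal.ResidueField
  let e1 : κ ⊗[B] (B ⊗[R] M) ≃ₗ[κ] κ ⊗[R] M := AlgebraTensorModule.cancelBaseChange R B κ κ M
  let e2 : LocalizedModule p.asIdeal.primeCompl M ≃ₗ[B] B ⊗[R] M :=
    LocalizedModule.equivTensorProduct p.asIdeal.primeCompl M
  let e3 : κ ⊗[B] (B ⊗[R] M) ≃ₗ[κ] κ ⊗[B] (Fin r → B) :=
    AlgebraTensorModule.congr (LinearEquiv.refl κ κ) (e2.symm.trans e)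
  let e4 : κ ⊗[B] (Fin r → B) ≃ₗ[κ] (Fin r → κ) := TensorProduct.piScalarRight B κ κ (Fin r)
  rw [← (e1.symm.trans (e3.trans e4)).finrank_eq.symm]
  exact Module.finrank_fin_fun κ

/-- the comparison `κ(p) ⊗_B M_p ≃ κ(p) ⊗_R M` -/
noncomputable def fibEquiv (p : PrimeSpectrum R) (M : Type*) [AddCommGroup M] [Module R M] :
    p.asIdeal.ResidueField ⊗[Localization.AtPrime p.asIdeal]
      (LocalizedModule p.asIdeal.primeCompl M) ≃ₗ[p.asIdeal.ResidueField]
      p.asIdeal.ResidueField ⊗[R] M :=
  (AlgebraTensorModule.congr (LinearEquiv.refl p.asIdeal.ResidueField p.asIdeal.ResidueField)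
    (LocalizedModule.equivTensorProduct p.asIdeal.primeCompl M)).trans
  (AlgebraTensorModule.cancelBaseChange R (Localization.AtPrime p.asIdeal)
    p.asIdeal.ResidueField p.asIdeal.ResidueField M)

lemma fibEquiv_one_tmul_mk (p : PrimeSpectrum R) (M : Type*) [AddCommGroup M] [Module R M]
    (m : M) :
    fibEquiv p M ((1 : p.asIdeal.ResidueField) ⊗ₜ LocalizedModule.mk m 1) = rho p m := by
  unfold fibEquiv rho
  rw [LinearEquiv.trans_apply, AlgebraTensorModule.congr_tmul, LinearEquiv.refl_apply,
    LocalizedModule.equivTensorProduct_apply_mk, Localization.mk_one,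
    AlgebraTensorModule.cancelBaseChange_tmul, one_smul]

/-- Lemma T: an element lying in `𝔪 M_p` vanishes in the fibre. -/
theorem rho_eq_zero_of_mem (p : PrimeSpectrum R) (M : Type*) [AddCommGroup M] [Module R M]
    (m : M)
    (hm : (LocalizedModule.mk m 1 : LocalizedModule p.asIdeal.primeCompl M) ∈
      (IsLocalRing.maximalIdeal (Localization.AtPrime p.asIdeal) • ⊤ :
        Submodule (Localization.AtPrime p.asIdeal) (LocalizedModule p.asIdeal.primeCompl M))) :
    rho p m = 0 := by
  rw [← fibEquiv_one_tmul_mk]
  have key : ∀ z ∈ (IsLocalRing.maximalIdeal (Localization.AtPrime p.asIdeal) • ⊤ :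
      Submodule (Localization.AtPrime p.asIdeal) (LocalizedModule p.asIdeal.primeCompl M)),
      (1 : p.asIdeal.ResidueField) ⊗ₜ[Localization.AtPrime p.asIdeal] z = 0 := by
    intro z hz
    refine Submodule.smul_induction_on hz (fun b hb x _ => ?_) (fun x y hx hy => ?_)
    · rw [tmul_smul, smul_tmul']
      have : b • (1 : p.asIdeal.ResidueField) = 0 := by
        rw [Algebra.smul_def, mul_one]
        exact (IsLocalRing.residue_eq_zero_iff b).mpr hb
      rw [this, zero_tmul]
    · rw [tmul_add, hx, hy, add_zero]
  rw [key _ hm, map_zero]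

/-- Local lemma: quotient of a finite free module over a local ring by a basic element. -/
theorem local_quot {B : Type*} [CommRing B] [IsLocalRing B] {F : Type*} [AddCommGroup F]
    [Module B F] (r : ℕ) (e : F ≃ₗ[B] (Fin r → B)) (z : F)
    (hz : z ∉ (IsLocalRing.maximalIdeal B • ⊤ : Submodule B F)) :
    (∀ b : B, b • z = 0 → b = 0) ∧
      Nonempty ((F ⧸ Submodule.span B {z}) ≃ₗ[B] (Fin (r - 1) → B)) := by
  classical
  -- a unit coordinate
  have hunit : ∃ i, IsUnit (e z i) := by
    by_contra hcon
    push Not at hcon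
    apply hz
    have hzsum : z = ∑ i, (e z i) • e.symm (Pi.single i 1) := by
      apply e.injective
      rw [map_sum]
      funext j
      simp only [map_smul, LinearEquiv.apply_symm_apply, Finset.sum_apply, Pi.smul_apply,
        Pi.single_apply, smul_eq_mul, mul_ite, mul_one, mul_zero]
      simp
    rw [hzsum]
    refine Submodule.sum_mem _ fun i _ => Submodule.smul_mem_smul ?_ Submodule.mem_top
    exact (IsLocalRing.mem_maximalIdeal _).mpr (hcon i)
  obtain ⟨i, hi⟩ := hunit
  obtain ⟨u, hu⟩ := hi
  let lam : F →ₗ[B] B := (↑u⁻¹ : B) • ((LinearMap.proj i) ∘ₗ e.toLinearMap)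
  have hlam : lam z = 1 := by
    simp only [lam, LinearMap.smul_apply, LinearMap.comp_apply, LinearEquiv.coe_coe,
      LinearMap.proj_apply, smul_eq_mul, ← hu, Units.inv_mul]
  have htors : ∀ b : B, b • z = 0 → b = 0 := by
    intro b hb
    have := congrArg lam hb
    rwa [map_smul, hlam, smul_eq_mul, mul_one, map_zero] at this
  refine ⟨htors, ?_⟩
  let ι : B →ₗ[B] F := LinearMap.toSpanSingleton B F z
  let π : F →ₗ[B] (F ⧸ Submodule.span B {z}) := Submodule.mkQ _
  have hex : Function.Exact ι π := by
    intro y
    rw [Submodule.mkQ_apply, Submodule.Quotient.mk_eq_zero, Submodule.mem_span_singleton]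
    constructor
    · rintro ⟨a, rfl⟩; exact ⟨a, rfl⟩
    · rintro ⟨a, rfl⟩; exact ⟨a, rfl⟩
  have hπ : Function.Surjective π := Submodule.mkQ_surjective _
  have hl : lam ∘ₗ ι = LinearMap.id := by
    ext
    simp [ι, hlam]
  obtain ⟨e', he1, he2⟩ := hex.splitInjectiveEquiv hπ ⟨lam, hl⟩
  haveI : Module.Free B F := Module.Free.of_equiv e.symm
  haveI : Module.Finite B F := Module.Finite.equiv e.symm
  have hproj : Module.Projective B (F ⧸ Submodule.span B {z}) := by
    refine Module.Projective.of_split (e'.symm.toLinearMap ∘ₗ LinearMap.inr B B _) π ?_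
    ext q
    simp only [LinearMap.comp_apply, LinearMap.inr_apply, LinearEquiv.coe_coe,
      LinearMap.id_apply]
    rw [he2]
    simp
  haveI : Module.Free B (F ⧸ Submodule.span B {z}) := Module.free_of_flat_of_isLocalRing
  have hrk : Module.finrank B (F ⧸ Submodule.span B {z}) = r - 1 := by
    have h1 : Module.finrank B F = r := by
      rw [e.finrank_eq, Module.finrank_fin_fun]
    have h2 := e'.finrank_eq
    rw [Module.finrank_prod, Module.finrank_self, h1] at h2
    omega
  exact ⟨(Module.finBasisOfFinrankEq B _ hrk).equivFun⟩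

/-- localization of the quotient by a cyclic submodule -/
theorem loc_quot_span (S : Submonoid R) {M : Type*} [AddCommGroup M] [Module R M] (m : M) :
    Nonempty (LocalizedModule S (M ⧸ Submodule.span R {m}) ≃ₗ[Localization S]
      (LocalizedModule S M ⧸
        Submodule.span (Localization S) {(LocalizedModule.mk m 1 : LocalizedModule S M)})) := by
  set N := Submodule.span R {m} with hN
  have hex := Groth.Agent.H9.FFR.locMap_exact S N.subtype N.mkQ (LinearMap.exact_subtype_mkQ N)
  have hsurj := LocalizedModule.map_surjective S N.mkQ (Submodule.mkQ_surjective N)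
  have hker : LinearMap.ker (LocalizedModule.map S N.mkQ) =
      Submodule.span (Localization S) {(LocalizedModule.mk m 1 : LocalizedModule S M)} := by
    rw [hex.linearMap_ker_eq]
    apply le_antisymm
    · rintro _ ⟨x, rfl⟩
      induction x using LocalizedModule.induction_on with
      | _ x s =>
        obtain ⟨x, hx⟩ := x
        obtain ⟨a, rfl⟩ := Submodule.mem_span_singleton.mp hx
        rw [LocalizedModule.map_mk, Submodule.subtype_apply]
        have : (LocalizedModule.mk (a • m) s : LocalizedModule S M) =
            (Localization.mk a s) • LocalizedModule.mk m 1 := by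
          rw [LocalizedModule.mk_smul_mk, mul_one]
        rw [this]
        exact Submodule.smul_mem _ _ (Submodule.mem_span_singleton_self _)
    · rw [Submodule.span_le, Set.singleton_subset_iff]
      refine ⟨LocalizedModule.mk ⟨m, Submodule.mem_span_singleton_self m⟩ 1, ?_⟩
      rw [LocalizedModule.map_mk, Submodule.subtype_apply]
  exact ⟨((LinearMap.quotKerEquivOfSurjective _ hsurj).symm).trans
    (Submodule.quotEquivOfEq _ _ hker)⟩

/-- localization of a linear equivalence -/
noncomputable def locEquiv (S : Submonoid R) {M M' : Type*} [AddCommGroup M] [Module R M]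
    [AddCommGroup M'] [Module R M'] (f : M ≃ₗ[R] M') :
    LocalizedModule S M ≃ₗ[Localization S] LocalizedModule S M' :=
  LinearEquiv.ofLinearMap (LocalizedModule.map S f.toLinearMap)
    (LocalizedModule.map S f.symm.toLinearMap)
    (by
      rw [← Groth.Agent.H9.FFR.locMap_comp]
      have : f.toLinearMap ∘ₗ f.symm.toLinearMap = LinearMap.id := by ext; simp
      rw [this, LocalizedModule.map_id])
    (by
      rw [← Groth.Agent.H9.FFR.locMap_comp]
      have : f.symm.toLinearMap ∘ₗ f.toLinearMap = LinearMap.id := by ext; simp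
      rw [this, LocalizedModule.map_id])

end Groth.Agent.H9.SBQ
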