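import Mathlib
import Groth.Agent.Lib.Helper9.Misc.SBC3
import Groth.Agent.Lib.Helper9.Misc.SBQ3

set_option autoImplicit false
set_option linter.style.haveILetI false
set_option linter.unusedSectionVars false
set_option linter.unusedVariables false

namespace Groth.Agent.H9.SBQ

open Module TensorProduct Groth.Agent.H9.SBC

universe u

variable {A : Type u} [CommRing A]

/-- `M` is free of rank `r` at all primes of height `≤ k`. -/
def IsGood (A : Type u) [CommRing A] (k : ℕ) (M : Type u) [AddCommGroup M] [Module A M] (r : ℕ) : Prop :=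
  ∀ p : PrimeSpectrum A, p.asIdeal.height ≤ k →
    Nonempty (LocalizedModule p.asIdeal.primeCompl M ≃ₗ[Localization.AtPrime p.asIdeal]
      (Fin r → Localization.AtPrime p.asIdeal))

lemma IsGood.of_equiv {k : ℕ} {M M' : Type u} [AddCommGroup M] [Module A M] [AddCommGroup M']
    [Module A M'] {r : ℕ} (h : IsGood A k M r) (f : M ≃ₗ[A] M') : IsGood A k M' r := by
  intro p hp
  obtain ⟨e⟩ := h p hp
  exact ⟨(locEquiv p.asIdeal.primeCompl f).symm.trans e⟩

lemma eq_zero_of_forall_ass [IsNoetherianRing A] (b : A)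
    (h : ∀ P ∈ associatedPrimes A A, ∀ [P.IsPrime],
      algebraMap A (Localization.AtPrime P) b = 0) : b = 0 := by
  by_contra hb
  obtain ⟨P, hP, hle⟩ := exists_le_isAssociatedPrime_of_isNoetherianRing A b hb
  haveI := hP.isPrime
  have h0 := h P hP
  rw [IsLocalization.map_eq_zero_iff P.primeCompl] at h0
  obtain ⟨⟨t, ht⟩, htb⟩ := h0
  apply ht
  apply hle
  rw [Submodule.mem_colon_singleton, Submodule.mem_bot, smul_eq_mul]
  exact htb

/-- the reductions of a generating family span the fibre -/
lemma span_rho_eq_top (p : PrimeSpectrum A) {M : Type*} [AddCommGroup M] [Module A M]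
    {σ : Type*} (v : σ → M) (hv : Submodule.span A (Set.range v) = ⊤) :
    Submodule.span p.asIdeal.ResidueField (Set.range fun s => rho p (v s)) = ⊤ := by
  rw [eq_top_iff]
  rintro z -
  induction z using TensorProduct.induction_on with
  | zero => exact Submodule.zero_mem _
  | add a b ha hb => exact Submodule.add_mem _ ha hb
  | tmul a x =>
    have hx : x ∈ Submodule.span A (Set.range v) := by rw [hv]; trivial
    have key : (1 : p.asIdeal.ResidueField) ⊗ₜ[A] x ∈
        Submodule.span p.asIdeal.ResidueField (Set.range fun s => rho p (v s)) := by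
      induction hx using Submodule.span_induction with
      | mem x hx =>
        obtain ⟨s, rfl⟩ := hx
        exact Submodule.subset_span ⟨s, rfl⟩
      | zero => rw [tmul_zero]; exact Submodule.zero_mem _
      | add x y _ _ hx hy => rw [tmul_add]; exact Submodule.add_mem _ hx hy
      | smul c x _ hx =>
        rw [tmul_smul, ← algebraMap_smul p.asIdeal.ResidueField]
        exact Submodule.smul_mem _ _ hx
    have : a ⊗ₜ[A] x = a • ((1 : p.asIdeal.ResidueField) ⊗ₜ[A] x) := by
      rw [smul_tmul', smul_eq_mul, mul_one]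
    rw [this]
    exact Submodule.smul_mem _ _ key

/-- The basic element step. -/
theorem step_basic [IsNoetherianRing A] (k : ℕ)
    (hAss : ∀ p ∈ associatedPrimes A A, p.height ≤ k)
    (M : Type u) [AddCommGroup M] [Module A M] [Module.Finite A M] (r : ℕ) (hr : k < r)
    (hM : IsGood A k M r) :
    ∃ m : M, (∀ a : A, a • m = 0 → a = 0) ∧ IsGood A k (M ⧸ Submodule.span A {m}) (r - 1) := by
  classical
  set S : Set (PrimeSpectrum A) := {p | p.asIdeal.height ≤ (k : ℕ∞)} with hSdef
  have hS : ∀ p ∈ S, ∀ q : PrimeSpectrum A, q ≤ p → q ∈ S := by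
    intro p hp q hqp
    exact (Ideal.height_mono ((PrimeSpectrum.asIdeal_le_asIdeal _ _).mpr hqp)).trans hp
  have hht : ∀ p ∈ S, ht p ≤ k := fun p hp => ENat.toNat_le_of_le_natCast hp
  have hfib : ∀ p ∈ S, finrank p.asIdeal.ResidueField (p.asIdeal.ResidueField ⊗[A] M) = r := by
    intro p hp
    obtain ⟨e⟩ := hM p hp
    exact finrank_fiber_of_equiv p r e
  obtain ⟨n, f, hf⟩ := Module.Finite.exists_fin' A M
  set g : Fin n → M := fun j => f (Pi.single j 1) with hg
  have hgspan : Submodule.span A (Set.range g) = ⊤ := by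
    rw [eq_top_iff]
    rintro x -
    obtain ⟨c, rfl⟩ := hf x
    have : c = ∑ j, c j • (Pi.single j 1 : Fin n → A) := by
      funext i
      simp [Finset.sum_apply, Pi.single_apply]
    rw [this, map_sum]
    refine Submodule.sum_mem _ fun j _ => ?_
    rw [map_smul]
    exact Submodule.smul_mem _ _ (Submodule.subset_span ⟨j, rfl⟩)
  set v : Fin (n + 1) → M := Fin.cons 0 g with hv
  have hvspan : Submodule.span A (Set.range v) = ⊤ := by
    rw [eq_top_iff, ← hgspan]
    apply Submodule.span_mono
    rintro _ ⟨j, rfl⟩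
    exact ⟨j.succ, by simp [hv]⟩
  have hrk : ∀ p ∈ S, rkQ p v = r := by
    intro p hp
    unfold rkQ
    rw [span_rho_eq_top p v hvspan, finrank_top, hfib p hp]
  have hcl : ∀ (m : ℕ) (w : Fin m → M), ClosedOn S w :=
    fun m w => closedOn_of_const_fiber S r hfib m w
  obtain ⟨y, -, hy⟩ := gpQ S hS ht ht_strictMono hcl (k + 1) n v (fun p hp => by
    rw [hrk p hp]
    exact (min_le_right _ _).trans (by omega))
  refine ⟨v 0 + y, ?_, ?_⟩
  · -- torsion-freeness
    intro a ha
    apply eq_zero_of_forall_ass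
    intro P hP _
    have hPS : (⟨P, inferInstance⟩ : PrimeSpectrum A) ∈ S := hAss P hP
    obtain ⟨e⟩ := hM ⟨P, inferInstance⟩ hPS
    have hz : (LocalizedModule.mk (v 0 + y) 1 : LocalizedModule P.primeCompl M) ∉
        (IsLocalRing.maximalIdeal (Localization.AtPrime P) • ⊤ :
          Submodule (Localization.AtPrime P) (LocalizedModule P.primeCompl M)) := by
      intro hmem
      exact hy ⟨P, inferInstance⟩ hPS (Nat.lt_succ_of_le (hht _ hPS))
        (rho_eq_zero_of_mem ⟨P, inferInstance⟩ M _ hmem)
    obtain ⟨htors, -⟩ := local_quot (B := Localization.AtPrime P) r e _ hz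
    apply htors
    rw [algebraMap_smul, LocalizedModule.smul'_mk, ha, LocalizedModule.zero_mk]
  · intro p hp
    have hpS : p ∈ S := hp
    obtain ⟨e⟩ := hM p hp
    have hz : (LocalizedModule.mk (v 0 + y) 1 : LocalizedModule p.asIdeal.primeCompl M) ∉
        (IsLocalRing.maximalIdeal (Localization.AtPrime p.asIdeal) • ⊤ :
          Submodule (Localization.AtPrime p.asIdeal)
            (LocalizedModule p.asIdeal.primeCompl M)) := by
      intro hmem
      exact hy p hpS (Nat.lt_succ_of_le (hht _ hpS)) (rho_eq_zero_of_mem p M _ hmem)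
    obtain ⟨-, ⟨e2⟩⟩ := local_quot (B := Localization.AtPrime p.asIdeal) r e _ hz
    obtain ⟨e3⟩ := loc_quot_span p.asIdeal.primeCompl (v 0 + y)
    exact ⟨e3.trans e2⟩

theorem main_aux [IsNoetherianRing A] (k : ℕ)
    (hAss : ∀ p ∈ associatedPrimes A A, p.height ≤ k) (j : ℕ) :
    ∀ (M : Type u) [AddCommGroup M] [Module A M] [Module.Finite A M] (r : ℕ), k + j ≤ r →
      IsGood A k M r →
      ∃ N : Submodule A M, Nonempty (N ≃ₗ[A] (Fin j → A)) ∧ IsGood A k (M ⧸ N) (r - j) := by
  induction j with
  | zero =>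
    intro M _ _ _ r _ hM
    refine ⟨⊥, ⟨LinearEquiv.ofSubsingleton _ _⟩, ?_⟩
    exact hM.of_equiv (Submodule.quotEquivOfEqBot ⊥ rfl).symm
  | succ j ih =>
    intro M _ _ _ r hr hM
    obtain ⟨m, htors, hM'⟩ := step_basic k hAss M r (by omega) hM
    generalize hQ : Submodule.span A {m} = Q at hM'
    obtain ⟨N', ⟨eN'⟩, hN'⟩ := ih (M ⧸ Q) (r - 1) (by omega) hM'
    set φ : M →ₗ[A] ((M ⧸ Q) ⧸ N') := N'.mkQ ∘ₗ Q.mkQ with hφ
    have hφsurj : Function.Surjective φ :=
      (Submodule.mkQ_surjective N').comp (Submodule.mkQ_surjective Q)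
    refine ⟨LinearMap.ker φ, ?_, ?_⟩
    · -- the kernel is free of rank j + 1
      have hmemN : ∀ x : M, x ∈ LinearMap.ker φ ↔ Q.mkQ x ∈ N' := by
        intro x
        rw [LinearMap.mem_ker, hφ, LinearMap.comp_apply, Submodule.mkQ_apply,
          Submodule.Quotient.mk_eq_zero]
      let q : ↥(LinearMap.ker φ) →ₗ[A] ↥N' :=
        (Q.mkQ.restrict (p := LinearMap.ker φ) (q := N') (fun x hx => (hmemN x).mp hx))
      have hq : Function.Surjective q := by
        rintro ⟨y, hy⟩
        obtain ⟨x, rfl⟩ := Submodule.mkQ_surjective Q y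
        exact ⟨⟨x, (hmemN x).mpr hy⟩, rfl⟩
      have hmN : ∀ a : A, a • m ∈ LinearMap.ker φ := by
        intro a
        rw [hmemN]
        have : Q.mkQ (a • m) = 0 := by
          rw [Submodule.mkQ_apply, Submodule.Quotient.mk_eq_zero, ← hQ]
          exact Submodule.smul_mem _ _ (Submodule.mem_span_singleton_self m)
        rw [this]; exact N'.zero_mem
      let ι : A →ₗ[A] ↥(LinearMap.ker φ) :=
        (LinearMap.toSpanSingleton A M m).codRestrict (LinearMap.ker φ) (fun a => hmN a)
      have hι : Function.Injective ι := by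
        rw [injective_iff_map_eq_zero]
        intro a ha
        apply htors
        have := congrArg Subtype.val ha
        simpa [ι] using this
      have hex : Function.Exact ι q := by
        intro x
        constructor
        · intro hx
          have h1 : Q.mkQ x.1 = 0 := congrArg Subtype.val hx
          rw [Submodule.mkQ_apply, Submodule.Quotient.mk_eq_zero] at h1
          have h1' : (x : M) ∈ Submodule.span A {m} := by rw [hQ]; exact h1
          obtain ⟨a, ha⟩ := Submodule.mem_span_singleton.mp h1'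
          exact ⟨a, Subtype.ext ha⟩
        · rintro ⟨a, rfl⟩
          apply Subtype.ext
          change Q.mkQ (a • m) = 0
          rw [Submodule.mkQ_apply, Submodule.Quotient.mk_eq_zero, ← hQ]
          exact Submodule.smul_mem _ _ (Submodule.mem_span_singleton_self m)
      haveI : Module.Free A ↥N' := Module.Free.of_equiv eN'.symm
      obtain ⟨σ, hσ⟩ := Module.projective_lifting_property q LinearMap.id hq
      obtain ⟨e', -, -⟩ := hex.splitSurjectiveEquiv hι ⟨σ, hσ⟩
      exact ⟨(e'.trans (LinearEquiv.prodCongr (LinearEquiv.refl A A) eN')).trans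
        (Fin.consLinearEquiv A (fun _ : Fin (j + 1) => A))⟩
    · have e1 : (M ⧸ LinearMap.ker φ) ≃ₗ[A] ((M ⧸ Q) ⧸ N') :=
        LinearMap.quotKerEquivOfSurjective φ hφsurj
      have : r - (j + 1) = r - 1 - j := by omega
      rw [this]
      exact hN'.of_equiv e1.symm

theorem S13533_main (A : Type u) [CommRing A] [IsNoetherianRing A]
    (M : Type u) [AddCommGroup M] [Module A M] [Module.Finite A M] (k r : ℕ) (hkr : k ≤ r)
    (hAss : ∀ p ∈ associatedPrimes A A, p.height ≤ k)
    (hM : ∀ p : PrimeSpectrum A, p.asIdeal.height ≤ k →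
      Nonempty (LocalizedModule p.asIdeal.primeCompl M ≃ₗ[Localization.AtPrime p.asIdeal]
        (Fin r → Localization.AtPrime p.asIdeal))) :
    ∃ N : Submodule A M, Nonempty (N ≃ₗ[A] (Fin (r - k) → A)) ∧
      ∀ p : PrimeSpectrum A, p.asIdeal.height ≤ k →
        Nonempty (LocalizedModule p.asIdeal.primeCompl (M ⧸ N) ≃ₗ[Localization.AtPrime p.asIdeal]
          (Fin k → Localization.AtPrime p.asIdeal)) := by
  obtain ⟨N, hN, hgood⟩ := main_aux k hAss (r - k) M r (by omega) hM
  refine ⟨N, hN, ?_⟩
  have : r - (r - k) = k := by omega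
  rw [this] at hgood
  exact hgood

end Groth.Agent.H9.SBQ
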