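import Mathlib
import Groth.Prelude.Def_SGA3b
import Groth.Agent.Lib.Helper9.MultT.Dense

/-!
# Schematic density of the torsion subgroups in a diagonalisable group: the algebraic core

For a finitely generated commutative group `M` and any ring `R`: if `a, y ∈ R[M]` are such that for
every `n > 0` some `a ^ j * y` lies in the kernel of `R[M] → R[M / M^n]`, then `a ^ j * y = 0` for
some `j`.
-/

set_option autoImplicit false
set_option linter.unusedSectionVars false

namespace Groth.Agent.H9.SD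

open TensorProduct SGA3b Groth.Agent.H9.MultT

universe u

section Kill

variable {T : Type u} [CommRing T] {M : Type u} [CommGroup M]

theorem map_eq_zero_of_mem_augIdeal {S : Type*} [CommRing S] (Ψ : MonoidAlgebra T M →+* S)
    (H : Subgroup M) (hΨ : ∀ h ∈ H, Ψ (MonoidAlgebra.single h 1) = 1)
    {x : MonoidAlgebra T M} (hx : x ∈ augIdeal T H) : Ψ x = 0 := by
  have : augIdeal T H ≤ RingHom.ker Ψ := by
    rw [augIdeal, Ideal.span_le]
    rintro _ ⟨h, hh, rfl⟩
    rw [SetLike.mem_coe, RingHom.mem_ker, map_sub, map_one, hΨ h hh, sub_self]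
  exact this hx

theorem map_mem_augIdeal {S : Type u} [CommRing S] {M' : Type u} [CommGroup M']
    (Ψ : MonoidAlgebra T M →+* MonoidAlgebra S M')
    (H : Subgroup M) (H' : Subgroup M')
    (hΨ : ∀ h ∈ H, ∃ h' ∈ H', Ψ (MonoidAlgebra.single h 1) = MonoidAlgebra.single h' 1)
    {x : MonoidAlgebra T M} (hx : x ∈ augIdeal T H) : Ψ x ∈ augIdeal S H' := by
  have : augIdeal T H ≤ (augIdeal S H').comap Ψ := by
    rw [augIdeal, Ideal.span_le]
    rintro _ ⟨h, hh, rfl⟩
    obtain ⟨h', hh', e⟩ := hΨ h hh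
    rw [SetLike.mem_coe, Ideal.mem_comap, map_sub, map_one, e]
    exact Ideal.subset_span ⟨h', hh', rfl⟩
  exact this hx

/-- the projection `T[M] → T[M / M^n]` -/
noncomputable def pi (T : Type u) [CommRing T] (M : Type u) [CommGroup M] (n : ℕ) :
    MonoidAlgebra T M →+* MonoidAlgebra T (M ⧸ powSubgroup M n) :=
  MonoidAlgebra.mapDomainRingHom T (QuotientGroup.mk' (powSubgroup M n))

theorem mem_augIdeal_iff (n : ℕ) (x : MonoidAlgebra T M) :
    x ∈ augIdeal T (powSubgroup M n) ↔ pi T M n x = 0 := by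
  rw [← ker_mapDomain_mk, RingHom.mem_ker]
  rfl

theorem pi_map {S : Type u} [CommRing S] (φ : T →+* S) (n : ℕ) (z : MonoidAlgebra T M) :
    MonoidAlgebra.mapRingHom _ φ (pi T M n z) = pi S M n (MonoidAlgebra.mapRingHom M φ z) := by
  have := RingHom.congr_fun (MonoidAlgebra.mapRingHom_comp_mapDomainRingHom φ
    (QuotientGroup.mk' (powSubgroup M n))) z
  simp only [RingHom.comp_apply] at this
  exact this

theorem mapRingHom_injective {S : Type u} [CommRing S] (φ : T →+* S) (hφ : Function.Injective φ)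
    (Q : Type u) [CommMonoid Q] : Function.Injective (MonoidAlgebra.mapRingHom Q φ) := by
  intro x y hxy
  apply MonoidAlgebra.coeff_injective
  ext q
  have := congrArg (fun w => w.coeff q) hxy
  simp only [MonoidAlgebra.coeff_mapRingHom] at this
  exact hφ this

theorem pi_single_one (n : ℕ) (u : T) :
    pi T M n (MonoidAlgebra.single 1 u) = MonoidAlgebra.single 1 u := by
  simp [pi]

end Kill

section Field

variable (L : Type u) [Field L] (F : Type u) [CommGroup F] [Group.FG F] [IsMulTorsionFree F]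

theorem exists_char_ne_one [IsAlgClosed L] {m : F} (hm : m ≠ 1) :
    ∃ (χ : F →* Lˣ) (n : ℕ), 0 < n ∧ (∀ x, χ x ^ n = 1) ∧ χ m ≠ 1 := by
  classical
  set p := ringChar L with hp
  have hpz : p = 0 ∨ p.Prime := (CharP.char_is_prime_or_zero L p).symm.imp id id
  have htors : p.Prime → ∀ x : F, x ^ p = 1 → x = 1 := by
    intro hpp x hx
    apply IsMulTorsionFree.pow_left_injective hpp.ne_zero
    simpa using hx
  obtain ⟨n, hn, hpn, hmem⟩ : ∃ n : ℕ, 0 < n ∧ ¬ p ∣ n ∧ m ∉ powSubgroup F n := by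
    by_contra hcon
    refine hm (eq_one_of_forall_mem_powSubgroup p hpz htors m fun n hn hpn => ?_)
    by_contra hmem
    exact hcon ⟨n, hn, hpn, hmem⟩
  have hGtors : IsMulTorsion (F ⧸ powSubgroup F n) := fun c =>
    isOfFinOrder_iff_pow_eq_one.2 ⟨n, hn, pow_eq_one_quot n c⟩
  haveI : Group.FG (F ⧸ powSubgroup F n) := QuotientGroup.fg _
  haveI : Finite (F ⧸ powSubgroup F n) := CommGroup.finite_of_fg_isMulTorsion _ hGtors
  have hexp : Monoid.exponent (F ⧸ powSubgroup F n) ∣ n :=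
    Monoid.exponent_dvd_of_forall_pow_eq_one (pow_eq_one_quot n)
  have hnL : (n : L) ≠ 0 := by
    intro h0
    exact hpn ((ringChar.spec L n).1 h0)
  have heL : ((Monoid.exponent (F ⧸ powSubgroup F n) : ℕ) : L) ≠ 0 := by
    intro h0
    obtain ⟨c, hc⟩ := hexp
    apply hnL
    rw [hc, Nat.cast_mul, h0, zero_mul]
  haveI : NeZero ((Monoid.exponent (F ⧸ powSubgroup F n) : ℕ) : L) := ⟨heL⟩
  have hmG : (QuotientGroup.mk' (powSubgroup F n) m) ≠ 1 := by
    intro h1
    exact hmem ((QuotientGroup.eq_one_iff m).1 h1)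
  obtain ⟨φ, hφ⟩ := CommGroup.exists_apply_ne_one_of_hasEnoughRootsOfUnity
    (F ⧸ powSubgroup F n) L hmG
  refine ⟨φ.comp (QuotientGroup.mk' (powSubgroup F n)), n, hn, fun x => ?_, hφ⟩
  rw [MonoidHom.comp_apply, ← map_pow, pow_eq_one_quot, map_one]

/-- evaluation at a character -/
noncomputable def ev (χ : F →* Lˣ) : MonoidAlgebra L F →ₐ[L] L :=
  MonoidAlgebra.lift L L F ((Units.coeHom L).comp χ)

theorem ev_single (χ : F →* Lˣ) (m : F) (r : L) :
    ev L F χ (MonoidAlgebra.single m r) = r * (χ m : L) := by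
  simp [ev]

theorem eq_zero_of_forall_ev [IsAlgClosed L] (z : MonoidAlgebra L F)
    (h : ∀ (χ : F →* Lˣ) (n : ℕ), 0 < n → (∀ x, χ x ^ n = 1) → ev L F χ z = 0) : z = 0 := by
  classical
  let X := CommGroup.torsion (F →* Lˣ)
  let e : F → (X →* L) := fun m => (Units.coeHom L).comp ((MonoidHom.eval m).comp X.subtype)
  have he : Function.Injective e := by
    intro m m' hmm
    by_contra hne
    have hne' : m * m'⁻¹ ≠ 1 := fun h1 => hne (mul_inv_eq_one.1 h1)
    obtain ⟨χ, n, hn, hχ, hχm⟩ := exists_char_ne_one L F hne'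
    have hχX : χ ∈ X := by
      rw [CommGroup.mem_torsion, isOfFinOrder_iff_pow_eq_one]
      refine ⟨n, hn, ?_⟩
      ext x
      simp [MonoidHom.pow_apply, hχ x]
    have h1 := DFunLike.congr_fun hmm ⟨χ, hχX⟩
    apply hχm
    rw [map_mul, map_inv, mul_inv_eq_one]
    exact Units.ext h1
  have hli := (linearIndependent_monoidHom X L).comp e he
  rw [linearIndependent_iff'] at hli
  have hsum : ∑ m ∈ z.coeff.support,
      z.coeff m • ((fun f : X →* L => (f : X → L)) ∘ e) m = 0 := by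
    funext χ
    obtain ⟨n, hn, hχn⟩ := isOfFinOrder_iff_pow_eq_one.1 χ.2
    have h1 := h χ.1 n hn (fun x => by
      have := DFunLike.congr_fun hχn x
      simpa [MonoidHom.pow_apply] using this)
    rw [ev, MonoidAlgebra.lift_apply, Finsupp.sum] at h1
    simp only [Finset.sum_apply, Pi.smul_apply, Function.comp_apply, Pi.zero_apply]
    exact h1
  have hz : ∀ m ∈ z.coeff.support, z.coeff m = 0 := hli _ _ hsum
  apply MonoidAlgebra.coeff_injective
  ext m
  by_cases hm : m ∈ z.coeff.support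
  · simpa using hz m hm
  · simpa [Finsupp.notMem_support_iff] using hm

theorem dens_algClosed [IsAlgClosed L] (N : ℕ) (hN : 0 < N) (a y : MonoidAlgebra L F)
    (h : ∀ n : ℕ, 0 < n → N ∣ n → ∃ j : ℕ, a ^ j * y ∈ augIdeal L (powSubgroup F n)) :
    a * y = 0 := by
  apply eq_zero_of_forall_ev
  intro χ n hn hχ
  obtain ⟨j, hj⟩ := h (N * n) (Nat.mul_pos hN hn) (dvd_mul_right N n)
  have h0 : ev L F χ (a ^ j * y) = 0 := by
    refine map_eq_zero_of_mem_augIdeal ((ev L F χ : MonoidAlgebra L F →ₐ[L] L) :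
      MonoidAlgebra L F →+* L) _ ?_ hj
    rintro _ ⟨x, rfl⟩
    change ev L F χ (MonoidAlgebra.single (x ^ (N * n)) 1) = 1
    rw [ev_single, one_mul, map_pow, Units.val_pow_eq_pow_val, mul_comm N n, pow_mul,
      ← Units.val_pow_eq_pow_val, hχ x, Units.val_one, one_pow]
  rw [map_mul, map_pow] at h0
  rw [map_mul]
  rcases mul_eq_zero.1 h0 with h1 | h1
  · have ha : ev L F χ a = 0 := by
      by_contra hne
      exact pow_ne_zero j hne h1
    rw [ha, zero_mul]
  · rw [h1, mul_zero]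

theorem dens_field (N : ℕ) (hN : 0 < N) (a y : MonoidAlgebra L F)
    (h : ∀ n : ℕ, 0 < n → N ∣ n → ∃ j : ℕ, a ^ j * y ∈ augIdeal L (powSubgroup F n)) :
    a * y = 0 := by
  let Ψ := MonoidAlgebra.mapRingHom F (algebraMap L (AlgebraicClosure L))
  have hinj : Function.Injective Ψ :=
    mapRingHom_injective _ (algebraMap L (AlgebraicClosure L)).injective F
  apply hinj
  rw [map_mul, map_zero]
  apply dens_algClosed (AlgebraicClosure L) F N hN
  intro n hn hNn
  obtain ⟨j, hj⟩ := h n hn hNn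
  refine ⟨j, ?_⟩
  have := map_mem_augIdeal Ψ (powSubgroup F n) (powSubgroup F n)
    (fun h hh => ⟨h, hh, by simp [Ψ]⟩) hj
  simpa only [map_mul, map_pow] using this

end Field

section Noeth

variable {R : Type u} [CommRing R]

/-- elements of `R[Q]` all of whose coefficients lie in `I` -/
noncomputable def coI (I : Ideal R) (Q : Type u) [CommMonoid Q] : Ideal (MonoidAlgebra R Q) :=
  RingHom.ker (MonoidAlgebra.mapRingHom Q (Ideal.Quotient.mk I))

theorem mem_coI {I : Ideal R} {Q : Type u} [CommMonoid Q] {z : MonoidAlgebra R Q} :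
    z ∈ coI I Q ↔ ∀ q, z.coeff q ∈ I := by
  rw [coI, RingHom.mem_ker]
  constructor
  · intro h q
    have := congrArg (fun w => w.coeff q) h
    simpa [MonoidAlgebra.coeff_mapRingHom, Ideal.Quotient.eq_zero_iff_mem] using this
  · intro h
    apply MonoidAlgebra.coeff_injective
    ext q
    simp [MonoidAlgebra.coeff_mapRingHom, Ideal.Quotient.eq_zero_iff_mem, h q]

theorem pi_mem_coI {I : Ideal R} {F : Type u} [CommGroup F] (n : ℕ) {z : MonoidAlgebra R F}
    (hz : z ∈ coI I F) : pi R F n z ∈ coI I (F ⧸ powSubgroup F n) := by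
  rw [coI, RingHom.mem_ker] at *
  rw [pi_map, hz, map_zero]

variable (F : Type u) [CommGroup F] [Group.FG F] [IsMulTorsionFree F]

theorem dens_ideal [IsNoetherianRing R] (N : ℕ) (hN : 0 < N) (I : Ideal R) :
    ∀ a y : MonoidAlgebra R F,
      (∀ n : ℕ, 0 < n → N ∣ n → ∃ j : ℕ, pi R F n (a ^ j * y) ∈ coI I (F ⧸ powSubgroup F n)) →
      ∃ j : ℕ, a ^ j * y ∈ coI I F := by
  refine IsNoetherian.induction (P := fun I : Ideal R => ∀ a y : MonoidAlgebra R F,
      (∀ n : ℕ, 0 < n → N ∣ n → ∃ j : ℕ, pi R F n (a ^ j * y) ∈ coI I (F ⧸ powSubgroup F n)) →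
      ∃ j : ℕ, a ^ j * y ∈ coI I F) (fun I IH => ?_) I
  intro a y hyp
  by_cases htop : I = ⊤
  · exact ⟨0, mem_coI.2 fun q => by rw [htop]; exact Submodule.mem_top⟩
  by_cases hprime : Ideal.IsPrime I
  · -- the field case
    haveI : Ideal.IsPrime I := hprime
    haveI : IsDomain (R ⧸ I) := Ideal.Quotient.isDomain I
    let κ := FractionRing (R ⧸ I)
    let φ : R →+* κ := (algebraMap (R ⧸ I) κ).comp (Ideal.Quotient.mk I)
    have hker : ∀ r, φ r = 0 ↔ r ∈ I := by
      intro r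
      change algebraMap (R ⧸ I) κ (Ideal.Quotient.mk I r) = 0 ↔ _
      rw [map_eq_zero_iff _ (IsFractionRing.injective (R ⧸ I) κ), Ideal.Quotient.eq_zero_iff_mem]
    have key : MonoidAlgebra.mapRingHom F φ a * MonoidAlgebra.mapRingHom F φ y = 0 := by
      apply dens_field κ F N hN
      intro n hn hNn
      obtain ⟨j, hj⟩ := hyp n hn hNn
      refine ⟨j, ?_⟩
      rw [mem_augIdeal_iff, ← map_pow, ← map_mul, ← pi_map]
      apply MonoidAlgebra.coeff_injective
      ext q
      rw [MonoidAlgebra.coeff_mapRingHom]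
      exact (hker _).2 (mem_coI.1 hj q)
    refine ⟨1, mem_coI.2 fun m => ?_⟩
    rw [pow_one]
    have h1 := congrArg (fun w => w.coeff m) key
    rw [← map_mul] at h1
    simp only [MonoidAlgebra.coeff_mapRingHom] at h1
    exact (hker _).1 h1
  · obtain ⟨u, hu, v, hv, huv⟩ := (Ideal.not_isPrime_iff.1 hprime).resolve_left htop
    set I₁ : Ideal R := I ⊔ Ideal.span {u} with hI₁def
    set I₂ : Ideal R := Submodule.comap (LinearMap.mulLeft R u) I with hI₂def
    have hmemI₂ : ∀ r, r ∈ I₂ ↔ u * r ∈ I := fun r => Iff.rfl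
    have hI₁ : I < I₁ := SetLike.lt_iff_le_and_exists.2
      ⟨le_sup_left, u, Ideal.mem_sup_right (Ideal.mem_span_singleton_self u), hu⟩
    have hI₂ : I < I₂ := SetLike.lt_iff_le_and_exists.2
      ⟨fun r hr => (hmemI₂ r).2 (Ideal.mul_mem_left I u hr), v, (hmemI₂ v).2 huv, hv⟩
    -- step 1
    have hyp₁ : ∀ n : ℕ, 0 < n → N ∣ n →
        ∃ j : ℕ, pi R F n (a ^ j * y) ∈ coI I₁ (F ⧸ powSubgroup F n) := by
      intro n hn hNn
      obtain ⟨j, hj⟩ := hyp n hn hNn
      exact ⟨j, mem_coI.2 fun q => hI₁.le (mem_coI.1 hj q)⟩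
    obtain ⟨j₁, hj₁⟩ := IH I₁ hI₁ a y hyp₁
    set x := a ^ j₁ * y with hxdef
    have hx : ∀ m, x.coeff m ∈ I₁ := mem_coI.1 hj₁
    -- step 2
    have hex : ∀ c : R, ∃ r : R, (c = 0 → r = 0) ∧ (c ∈ I₁ → c - u * r ∈ I) := by
      intro c
      by_cases hc0 : c = 0
      · exact ⟨0, fun _ => rfl, fun _ => by simp [hc0]⟩
      · by_cases hc : c ∈ I₁
        · obtain ⟨i, hi, s, hs, his⟩ := Submodule.mem_sup.1 hc
          obtain ⟨r, hr⟩ := Ideal.mem_span_singleton'.1 hs
          refine ⟨r, fun h => absurd h hc0, fun _ => ?_⟩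
          have : c - u * r = i := by rw [← his, ← hr]; ring
          rw [this]
          exact hi
        · exact ⟨0, fun h => absurd h hc0, fun h => absurd h hc⟩
    choose ρ hρ0 hρ using hex
    let z : MonoidAlgebra R F := MonoidAlgebra.ofCoeff (x.coeff.mapRange ρ (hρ0 0 rfl))
    have hz : ∀ m, z.coeff m = ρ (x.coeff m) := fun m => by
      simp [z, MonoidAlgebra.coeff_ofCoeff, Finsupp.mapRange_apply]
    set w := x - MonoidAlgebra.single 1 u * z with hwdef
    have hw : w ∈ coI I F := mem_coI.2 fun m => by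
      rw [hwdef, MonoidAlgebra.coeff_sub, Finsupp.sub_apply, MonoidAlgebra.coeff_single_one_mul, hz]
      exact hρ _ (hx m)
    have hxw : x = w + MonoidAlgebra.single 1 u * z := by rw [hwdef]; ring
    -- step 3
    have hyp₂ : ∀ n : ℕ, 0 < n → N ∣ n →
        ∃ j : ℕ, pi R F n (a ^ j * z) ∈ coI I₂ (F ⧸ powSubgroup F n) := by
      intro n hn hNn
      obtain ⟨j, hj⟩ := hyp n hn hNn
      refine ⟨j, mem_coI.2 fun q => ?_⟩
      have h1 : pi R F n (a ^ j * x) ∈ coI I (F ⧸ powSubgroup F n) := by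
        have : a ^ j * x = a ^ j₁ * (a ^ j * y) := by rw [hxdef]; ring
        rw [this, map_mul]
        exact Ideal.mul_mem_left _ _ hj
      have h2 : pi R F n (a ^ j * w) ∈ coI I (F ⧸ powSubgroup F n) :=
        pi_mem_coI n (Ideal.mul_mem_left _ _ hw)
      have h3 : MonoidAlgebra.single 1 u * pi R F n (a ^ j * z) ∈ coI I (F ⧸ powSubgroup F n) := by
        have : MonoidAlgebra.single 1 u * pi R F n (a ^ j * z) =
            pi R F n (a ^ j * x) - pi R F n (a ^ j * w) := by
          rw [← map_sub, ← mul_sub, hxw, add_sub_cancel_left, ← pi_single_one n u, ← map_mul]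
          congr 1
          ring
        rw [this]
        exact Ideal.sub_mem _ h1 h2
      have h4 := mem_coI.1 h3 q
      rw [MonoidAlgebra.coeff_single_one_mul] at h4
      exact (hmemI₂ _).2 h4
    -- step 4
    obtain ⟨j₂, hj₂⟩ := IH I₂ hI₂ a z hyp₂
    refine ⟨j₂ + j₁, ?_⟩
    have : a ^ (j₂ + j₁) * y = a ^ j₂ * w + MonoidAlgebra.single 1 u * (a ^ j₂ * z) := by
      rw [pow_add, mul_assoc, ← hxdef, hxw]
      ring
    rw [this]
    refine Ideal.add_mem _ (Ideal.mul_mem_left _ _ hw) (mem_coI.2 fun m => ?_)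
    rw [MonoidAlgebra.coeff_single_one_mul]
    exact (hmemI₂ _).1 (mem_coI.1 hj₂ m)

theorem dens_noeth [IsNoetherianRing R] (N : ℕ) (hN : 0 < N) (a y : MonoidAlgebra R F)
    (h : ∀ n : ℕ, 0 < n → N ∣ n → ∃ j : ℕ, a ^ j * y ∈ augIdeal R (powSubgroup F n)) :
    ∃ j : ℕ, a ^ j * y = 0 := by
  obtain ⟨j, hj⟩ := dens_ideal F N hN ⊥ a y (fun n hn hNn => by
    obtain ⟨j, hj⟩ := h n hn hNn
    refine ⟨j, ?_⟩
    rw [(mem_augIdeal_iff n _).1 hj]
    exact Ideal.zero_mem _)
  refine ⟨j, ?_⟩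
  apply MonoidAlgebra.coeff_injective
  ext m
  simpa using mem_coI.1 hj m

theorem exists_lift_coeff {R₀ : Type u} [CommRing R₀] (ι : R₀ →+* R) (x : MonoidAlgebra R F)
    (hx : ∀ m, x.coeff m ∈ ι.range) : ∃ x₀ : MonoidAlgebra R₀ F, MonoidAlgebra.mapRingHom F ι x₀ = x := by
  classical
  have hex : ∀ c : R, ∃ r : R₀, (c = 0 → r = 0) ∧ (c ∈ ι.range → ι r = c) := by
    intro c
    by_cases hc0 : c = 0
    · exact ⟨0, fun _ => rfl, fun _ => by rw [hc0, map_zero]⟩
    · by_cases hc : c ∈ ι.range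
      · obtain ⟨r, hr⟩ := hc
        exact ⟨r, fun h => absurd h hc0, fun _ => hr⟩
      · exact ⟨0, fun h => absurd h hc0, fun h => absurd h hc⟩
  choose ρ hρ0 hρ using hex
  refine ⟨MonoidAlgebra.ofCoeff (x.coeff.mapRange ρ (hρ0 0 rfl)), ?_⟩
  apply MonoidAlgebra.coeff_injective
  ext m
  rw [MonoidAlgebra.coeff_mapRingHom, MonoidAlgebra.coeff_ofCoeff, Finsupp.mapRange_apply]
  exact hρ _ (hx m)

theorem dens_ring (R : Type u) [CommRing R] (N : ℕ) (hN : 0 < N) (a y : MonoidAlgebra R F)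
    (h : ∀ n : ℕ, 0 < n → N ∣ n → ∃ j : ℕ, a ^ j * y ∈ augIdeal R (powSubgroup F n)) :
    ∃ j : ℕ, a ^ j * y = 0 := by
  classical
  let S : Finset R := a.coeff.support.image a.coeff ∪ y.coeff.support.image y.coeff
  let R₀ : Subalgebra ℤ R := Algebra.adjoin ℤ (S : Set R)
  haveI : Algebra.FiniteType ℤ R₀ :=
    (Subalgebra.fg_iff_finiteType _).1 (Subalgebra.fg_adjoin_finset S)
  haveI : IsNoetherianRing R₀ := Algebra.FiniteType.isNoetherianRing ℤ R₀
  let ι : R₀ →+* R := R₀.val.toRingHom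
  have hιinj : Function.Injective ι := Subtype.val_injective
  have hmem : ∀ (x : MonoidAlgebra R F), (x.coeff.support.image x.coeff) ⊆ S →
      ∀ m, x.coeff m ∈ ι.range := by
    intro x hxS m
    by_cases hm : m ∈ x.coeff.support
    · have h1 : x.coeff m ∈ R₀ :=
        Algebra.subset_adjoin (Finset.mem_coe.2 (hxS (Finset.mem_image_of_mem _ hm)))
      exact ⟨⟨_, h1⟩, rfl⟩
    · rw [Finsupp.notMem_support_iff.1 hm]
      exact ⟨0, map_zero _⟩
  obtain ⟨a₀, ha₀⟩ := exists_lift_coeff F ι a (hmem a Finset.subset_union_left)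
  obtain ⟨y₀, hy₀⟩ := exists_lift_coeff F ι y (hmem y Finset.subset_union_right)
  have hyp₀ : ∀ n : ℕ, 0 < n → N ∣ n →
      ∃ j : ℕ, a₀ ^ j * y₀ ∈ augIdeal R₀ (powSubgroup F n) := by
    intro n hn hNn
    obtain ⟨j, hj⟩ := h n hn hNn
    refine ⟨j, ?_⟩
    rw [mem_augIdeal_iff] at hj ⊢
    apply mapRingHom_injective ι hιinj
    rw [pi_map, map_mul, map_pow, ha₀, hy₀, hj, map_zero]
  obtain ⟨j, hj⟩ := dens_noeth F N hN a₀ y₀ hyp₀
  refine ⟨j, ?_⟩
  rw [← ha₀, ← hy₀, ← map_pow, ← map_mul, hj, map_zero]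

end Noeth

section FG

variable (R : Type u) [CommRing R] (M : Type u) [CommGroup M] [Group.FG M]

theorem exists_pow_torsion : ∃ N : ℕ, 0 < N ∧ ∀ t ∈ CommGroup.torsion M, t ^ N = 1 := by
  have hfg : (CommGroup.torsion M).FG := by
    rw [Subgroup.fg_iff_add_fg]
    haveI : Module.Finite ℤ (Additive M) := Module.Finite.iff_addGroup_fg.mpr inferInstance
    haveI : IsNoetherian ℤ (Additive M) := inferInstance
    have h := IsNoetherian.noetherian
      (AddSubgroup.toIntSubmodule (CommGroup.torsion M).toAddSubgroup)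
    rw [Submodule.fg_iff_addSubgroup_fg, AddSubgroup.toIntSubmodule_toAddSubgroup] at h
    exact h
  haveI : Group.FG (CommGroup.torsion M) := (Group.fg_iff_subgroup_fg _).2 hfg
  have htors : IsMulTorsion (CommGroup.torsion M) := fun t =>
    (Submonoid.isOfFinOrder_coe (H := (CommGroup.torsion M).toSubmonoid) (x := t)).1 t.2
  haveI : Finite (CommGroup.torsion M) := CommGroup.finite_of_fg_isMulTorsion _ htors
  refine ⟨Nat.card (CommGroup.torsion M), Nat.card_pos, fun t ht => ?_⟩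
  have h1 := pow_card_eq_one' (G := CommGroup.torsion M) (x := ⟨t, ht⟩)
  have h2 : ((⟨t, ht⟩ : CommGroup.torsion M) ^ Nat.card (CommGroup.torsion M) :
      CommGroup.torsion M).1 = (1 : CommGroup.torsion M).1 := congrArg Subtype.val h1
  rw [Subgroup.coe_pow] at h2
  exact h2

theorem dens_fg (a y : MonoidAlgebra R M)
    (h : ∀ n : ℕ, 0 < n → ∃ j : ℕ, a ^ j * y ∈ augIdeal R (powSubgroup M n)) :
    ∃ j : ℕ, a ^ j * y = 0 := by
  classical
  obtain ⟨N₀, hN₀, htN⟩ := exists_pow_torsion M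
  let mkT : M →* M ⧸ CommGroup.torsion M := QuotientGroup.mk' (CommGroup.torsion M)
  let mkN : M →* M ⧸ powSubgroup M N₀ := QuotientGroup.mk' (powSubgroup M N₀)
  have hker : ∀ m : M, mkT m = 1 → mkN m = 1 → m = 1 := by
    intro m h1 h2
    have hm : m ∈ CommGroup.torsion M := (QuotientGroup.eq_one_iff m).1 h1
    obtain ⟨x, hx⟩ := (QuotientGroup.eq_one_iff m).1 h2
    change x ^ N₀ = m at hx
    have hxt : x ∈ CommGroup.torsion M := by
      rw [CommGroup.mem_torsion] at hm ⊢
      rw [← hx] at hm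
      exact hm.of_pow hN₀.ne'
    rw [← hx]
    exact htN x hxt
  have hinj : ∀ {m m' : M}, mkT m = mkT m' → mkN m = mkN m' → m = m' := by
    intro m m' h1 h2
    have := hker (m * m'⁻¹) (by rw [map_mul, map_inv, h1, mul_inv_cancel])
      (by rw [map_mul, map_inv, h2, mul_inv_cancel])
    exact mul_inv_eq_one.1 this
  let ψ : M →* MonoidAlgebra (MonoidAlgebra R (M ⧸ powSubgroup M N₀)) (M ⧸ CommGroup.torsion M) :=
    { toFun := fun m => MonoidAlgebra.single (mkT m) (MonoidAlgebra.single (mkN m) 1)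
      map_one' := by
        rw [map_one, map_one]
        rfl
      map_mul' := fun m m' => by
        rw [MonoidAlgebra.single_mul_single, MonoidAlgebra.single_mul_single, map_mul, map_mul,
          mul_one] }
  let Φ : MonoidAlgebra R M →ₐ[R]
      MonoidAlgebra (MonoidAlgebra R (M ⧸ powSubgroup M N₀)) (M ⧸ CommGroup.torsion M) :=
    MonoidAlgebra.lift R _ M ψ
  have hΦs : ∀ (m : M) (r : R), Φ (MonoidAlgebra.single m r) =
      MonoidAlgebra.single (mkT m) (MonoidAlgebra.single (mkN m) r) := by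
    intro m r
    change MonoidAlgebra.lift R _ M ψ (MonoidAlgebra.single m r) = _
    rw [MonoidAlgebra.lift_single]
    change r • MonoidAlgebra.single (mkT m) (MonoidAlgebra.single (mkN m) 1) = _
    rw [MonoidAlgebra.smul_single, MonoidAlgebra.smul_single, smul_eq_mul, mul_one]
  have hcoeff : ∀ (x : MonoidAlgebra R M) (m₀ : M),
      ((Φ x).coeff (mkT m₀)).coeff (mkN m₀) = x.coeff m₀ := by
    intro x m₀
    induction x using MonoidAlgebra.induction_linear with
    | zero => simp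
    | add x y hx hy =>
      rw [map_add, MonoidAlgebra.coeff_add, Finsupp.add_apply, MonoidAlgebra.coeff_add,
        Finsupp.add_apply, hx, hy, MonoidAlgebra.coeff_add, Finsupp.add_apply]
    | single m r =>
      rw [hΦs, MonoidAlgebra.coeff_single, MonoidAlgebra.coeff_single, Finsupp.single_apply,
        Finsupp.single_apply]
      by_cases h1 : m = m₀
      · subst h1
        rw [if_pos rfl, if_pos rfl, MonoidAlgebra.coeff_single, Finsupp.single_apply, if_pos rfl]
      · rw [if_neg h1]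
        by_cases h2 : mkT m = mkT m₀
        · rw [if_pos h2, MonoidAlgebra.coeff_single, Finsupp.single_apply, if_neg]
          intro h3
          exact h1 (hinj h2 h3)
        · rw [if_neg h2]
          rfl
  have hΦinj : Function.Injective Φ := by
    rw [injective_iff_map_eq_zero]
    intro x hx
    apply MonoidAlgebra.coeff_injective
    ext m₀
    rw [← hcoeff x m₀, hx]
    rfl
  have hcompat : ∀ n : ℕ, N₀ ∣ n → ∀ x : MonoidAlgebra R M, x ∈ augIdeal R (powSubgroup M n) →
      Φ x ∈ augIdeal (MonoidAlgebra R (M ⧸ powSubgroup M N₀))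
        (powSubgroup (M ⧸ CommGroup.torsion M) n) := by
    intro n hNn x hx
    refine map_mem_augIdeal (Φ : MonoidAlgebra R M →+*
      MonoidAlgebra (MonoidAlgebra R (M ⧸ powSubgroup M N₀)) (M ⧸ CommGroup.torsion M))
      (powSubgroup M n) _ ?_ hx
    rintro _ ⟨t, rfl⟩
    refine ⟨mkT t ^ n, ⟨mkT t, rfl⟩, ?_⟩
    change Φ (MonoidAlgebra.single (t ^ n) 1) = _
    rw [hΦs, map_pow]
    have h1 : mkN (t ^ n) = 1 := by
      obtain ⟨c, rfl⟩ := hNn
      rw [mul_comm, pow_mul, map_pow]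
      exact pow_eq_one_quot N₀ (mkN (t ^ c))
    rw [h1]
    rfl
  obtain ⟨j, hj⟩ := dens_ring (M ⧸ CommGroup.torsion M) (MonoidAlgebra R (M ⧸ powSubgroup M N₀))
    N₀ hN₀ (Φ a) (Φ y) (fun n hn hNn => by
      obtain ⟨j, hj⟩ := h n hn
      refine ⟨j, ?_⟩
      rw [← map_pow, ← map_mul]
      exact hcompat n hNn _ hj)
  refine ⟨j, hΦinj ?_⟩
  rw [map_mul, map_pow, hj, map_zero]

end FG

end Groth.Agent.H9.SD
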