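import Mathlib
import Groth.Prelude.Def_SGA3b
import Groth.Agent.Lib.Helper9.Misc.SD1
import Groth.Agent.Lib.Helper9.MultT.Local
import Groth.Agent.Lib.Helper9.MT.BaseChange

/-!
# Schematic density of the torsion subgroups in a group of multiplicative type and of finite type
-/

set_option autoImplicit false
set_option linter.unusedSectionVars false

namespace Groth.Agent.H9.SD

open TensorProduct SGA3b Groth.Agent.H9.MultT

universe u

/-- the density property of the family of the `ₙG` -/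
def QD (R : Type u) [CommRing R] (A : Type u) [CommRing A] [HopfAlgebra R A] : Prop :=
  ∀ a y : A, (∀ n : ℕ, 0 < n → ∃ j : ℕ, a ^ j * y ∈ torsionIdeal R A n) → ∃ j : ℕ, a ^ j * y = 0

theorem qd_monoidAlgebra (T : Type u) [CommRing T] (M : Type u) [CommGroup M] [Group.FG M] :
    QD T (MonoidAlgebra T M) := by
  intro a y h
  apply dens_fg T M a y
  intro n hn
  obtain ⟨j, hj⟩ := h n hn
  refine ⟨j, ?_⟩
  rw [← ker_mapDomain_mk]
  exact torsionIdeal_le_ker_mapDomain n hj

theorem qd_of_bialgEquiv {T : Type u} [CommRing T] {B C : Type u} [CommRing B] [CommRing C]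
    [HopfAlgebra T B] [HopfAlgebra T C] (E : B ≃ₐc[T] C) (h : QD T C) : QD T B := by
  intro a y hyp
  obtain ⟨j, hj⟩ := h (E a) (E y) (fun n hn => by
    obtain ⟨j, hj⟩ := hyp n hn
    refine ⟨j, ?_⟩
    have h1 := map_mem_torsionIdeal (E : B →ₐc[T] C) n hj
    have h2 : (E : B →ₐc[T] C) (a ^ j * y) = E a ^ j * E y := by
      change E (a ^ j * y) = _
      rw [map_mul, map_pow]
    rw [h2] at h1
    exact h1)
  refine ⟨j, EquivLike.injective E ?_⟩
  rw [map_mul, map_pow, hj, map_zero]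

section BC

variable {R : Type u} [CommRing R] {A : Type u} [CommRing A] [HopfAlgebra R A]

theorem exists_tmul_eq_zero (S : Type u) [CommRing S] [Algebra R S] (h : QD S (S ⊗[R] A)) (a y : A)
    (hyp : ∀ n : ℕ, 0 < n → ∃ j : ℕ, a ^ j * y ∈ torsionIdeal R A n) :
    ∃ j : ℕ, (1 : S) ⊗ₜ[R] (a ^ j * y) = 0 := by
  obtain ⟨j, hj⟩ := h ((Algebra.TensorProduct.includeRight : A →ₐ[R] S ⊗[R] A) a)
    ((Algebra.TensorProduct.includeRight : A →ₐ[R] S ⊗[R] A) y) (fun n hn => by
      obtain ⟨j, hj⟩ := hyp n hn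
      refine ⟨j, ?_⟩
      rw [← map_pow, ← map_mul]
      exact one_tmul_mem_torsionIdeal S n hj)
  refine ⟨j, ?_⟩
  rw [← map_pow, ← map_mul] at hj
  exact hj

theorem qd_of_baseChange (S : Type u) [CommRing S] [Algebra R S]
    (hinj : Function.Injective (TensorProduct.mk R S A 1))
    (h : QD S (S ⊗[R] A)) : QD R A := by
  intro a y hyp
  obtain ⟨j, hj⟩ := exists_tmul_eq_zero S h a y hyp
  refine ⟨j, hinj ?_⟩
  rw [map_zero]
  exact hj

theorem qd_of_isMultTypeConst (hft : Algebra.FiniteType R A) (h : IsMultTypeConst R A) :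
    QD R A := by
  obtain ⟨R', _, _, hff, M, _, ⟨E⟩⟩ := h
  have hinj : Function.Injective (TensorProduct.mk R R' A 1) :=
    Module.FaithfullyFlat.tensorProduct_mk_injective (A := R) (B := R') A
  by_cases hR' : Subsingleton R'
  · intro a y _
    haveI : Subsingleton (R' ⊗[R] A) := Module.subsingleton R' _
    exact ⟨0, hinj (Subsingleton.elim _ _)⟩
  · haveI : Nontrivial R' := not_subsingleton_iff_nontrivial.1 hR'
    have hftM : Algebra.FiniteType R' (MonoidAlgebra R' M) :=
      Algebra.FiniteType.equiv inferInstance (E : (R' ⊗[R] A) ≃ₐ[R'] MonoidAlgebra R' M)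
    haveI : Group.FG M := MonoidAlgebra.finiteType_iff_group_fg.1 hftM
    exact qd_of_baseChange R' hinj (qd_of_bialgEquiv E (qd_monoidAlgebra R' M))

theorem qd_of_isMultType (hft : Algebra.FiniteType R A) (h : IsMultType R A) : QD R A := by
  classical
  obtain ⟨s, hs, hloc⟩ := h
  intro a y hyp
  obtain ⟨s', hs's, hs'⟩ := (Ideal.span_eq_top_iff_finite s).1 hs
  have hf : ∀ f ∈ s, ∃ j : ℕ, (1 : Localization.Away f) ⊗ₜ[R] (a ^ j * y) = 0 := by
    intro f hf
    have hq : QD (Localization.Away f) (Localization.Away f ⊗[R] A) :=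
      qd_of_isMultTypeConst inferInstance (hloc f hf)
    exact exists_tmul_eq_zero (Localization.Away f) hq a y hyp
  choose! jf hjf using hf
  refine ⟨s'.sup jf, ?_⟩
  refine eq_zero_of_forall_one_tmul hs' _ (fun f hfs' => ?_)
  have hfs : f ∈ s := hs's hfs'
  have hle : jf f ≤ s'.sup jf := Finset.le_sup hfs'
  obtain ⟨d, hd⟩ := Nat.exists_eq_add_of_le hle
  have h1 : a ^ s'.sup jf * y = a ^ d * (a ^ jf f * y) := by
    rw [hd, pow_add]
    ring
  rw [h1]
  have h2 : (1 : Localization.Away f) ⊗ₜ[R] (a ^ d * (a ^ jf f * y)) =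
      ((1 : Localization.Away f) ⊗ₜ[R] (a ^ d)) * ((1 : Localization.Away f) ⊗ₜ[R] (a ^ jf f * y)) := by
    rw [Algebra.TensorProduct.tmul_mul_tmul, one_mul]
  rw [h2, hjf f hfs, mul_zero]

theorem iInf_map_torsionIdeal_eq_bot (hft : Algebra.FiniteType R A) (h : IsMultType R A) (a : A) :
    ⨅ n : {n : ℕ // 0 < n},
      Ideal.map (algebraMap A (Localization.Away a)) (torsionIdeal R A n.1) = ⊥ := by
  have hq := qd_of_isMultType hft h
  rw [eq_bot_iff]
  intro x hx
  rw [Ideal.mem_iInf] at hx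
  obtain ⟨y, s, rfl⟩ := IsLocalization.exists_mk'_eq (Submonoid.powers a) x
  have hyp : ∀ n : ℕ, 0 < n → ∃ j : ℕ, a ^ j * y ∈ torsionIdeal R A n := by
    intro n hn
    have h1 := hx ⟨n, hn⟩
    rw [IsLocalization.mem_map_algebraMap_iff (Submonoid.powers a)] at h1
    obtain ⟨⟨⟨i, hi⟩, ⟨_, l, rfl⟩⟩, h2⟩ := h1
    have h3 : algebraMap A (Localization.Away a) (y * a ^ l) =
        algebraMap A (Localization.Away a) (i * (s : A)) := by
      rw [map_mul, map_mul, ← h2, mul_right_comm, IsLocalization.mk'_spec]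
    obtain ⟨⟨_, t, rfl⟩, ht⟩ := (IsLocalization.eq_iff_exists (Submonoid.powers a) _).1 h3
    refine ⟨t + l, ?_⟩
    have h4 : a ^ (t + l) * y = a ^ t * (i * (s : A)) := by
      rw [← ht, pow_add]
      ring
    rw [h4]
    exact Ideal.mul_mem_left _ _ (Ideal.mul_mem_right _ _ hi)
  obtain ⟨j, hj⟩ := hq a y hyp
  rw [Ideal.mem_bot, IsLocalization.mk'_eq_zero_iff]
  exact ⟨⟨a ^ j, j, rfl⟩, hj⟩

end BC

end Groth.Agent.H9.SD
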