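import Mathlib
import Groth.Prelude.Def_SGA3b
import Groth.Agent.Lib.Helper9.Misc.SD2
import Groth.Agent.Lib.Helper9.MT.Isotrivial
import Groth.Agent.Lib.Helper9.MultT.Pow
import Groth.Agent.Lib.Helper9.MultT.Dense
import Groth.Agent.Lib.Helper9.VerschVF

/-!
# Schematic density of the torsion subgroups in a commutative group of finite type over a field
having an open subgroup of multiplicative type
-/

set_option autoImplicit false
set_option linter.unusedSectionVars false

namespace Groth.Agent.H9.SD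

open TensorProduct SGA3b WithConv Groth.Agent.H9.MultT

universe u

section Gen

variable (R : Type u) [CommRing R] (A : Type u) [CommRing A] [HopfAlgebra R A]

theorem counit_comp_powConv (n : ℕ) :
    (Bialgebra.counitAlgHom R A).comp (powConv R A n) = Bialgebra.counitAlgHom R A := by
  unfold powConv
  rw [Groth.Agent.H9.VF.comp_convPow]
  have h : toConv ((Bialgebra.counitAlgHom R A).comp (toConv (AlgHom.id R A)).ofConv) =
      (1 : WithConv (A →ₐ[R] R)) := by
    apply WithConv.ext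
    apply AlgHom.ext
    intro a
    rfl
  rw [h, one_pow]
  apply AlgHom.ext
  intro a
  rfl

theorem counit_powConv (n : ℕ) (a : A) :
    Coalgebra.counit (R := R) (powConv R A n a) = Coalgebra.counit (R := R) a :=
  DFunLike.congr_fun (counit_comp_powConv R A n) a

theorem torsionIdeal_mul_le (n m : ℕ) : torsionIdeal R A (n * m) ≤ torsionIdeal R A n := by
  unfold torsionIdeal
  rw [Ideal.map_le_iff_le_comap]
  intro c hc
  rw [RingHom.mem_ker, Bialgebra.counitAlgHom_apply] at hc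
  rw [Ideal.mem_comap, Groth.Agent.H9.VF.powConv_mul]
  change powConv R A n (powConv R A m c) ∈ _
  apply Ideal.mem_map_of_mem
  rw [RingHom.mem_ker, Bialgebra.counitAlgHom_apply, counit_powConv, hc]

theorem iInf_eq_bot_of_qd {R : Type u} [CommRing R] {A : Type u} [CommRing A] [HopfAlgebra R A]
    (hq : QD R A) (a : A) :
    ⨅ n : {n : ℕ // 0 < n},
      Ideal.map (algebraMap A (Localization.Away a)) (torsionIdeal R A n.1) = ⊥ := by
  rw [eq_bot_iff]
  intro x hx
  rw [Ideal.mem_iInf] at hx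
  obtain ⟨y, s, rfl⟩ := IsLocalization.exists_mk'_eq (Submonoid.powers a) x
  have hyp : ∀ n : ℕ, 0 < n → ∃ j : ℕ, a ^ j * y ∈ torsionIdeal R A n := by
    intro n hn
    have h1 := hx ⟨n, hn⟩
    rw [IsLocalization.mem_map_algebraMap_iff (Submonoid.powers a)] at h1
    obtain ⟨⟨⟨i, hi⟩, ⟨_, l, rfl⟩⟩, h2⟩ := h1
    have h3 : algebraMap A (Localization.Away a) (y * a ^ l) =
        algebraMap A (Localization.Away a) (i * (s : A)) := by
      rw [map_mul, map_mul, ← h2, mul_right_comm, IsLocalization.mk'_spec]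
    obtain ⟨⟨_, t, rfl⟩, ht⟩ := (IsLocalization.eq_iff_exists (Submonoid.powers a) _).1 h3
    refine ⟨t + l, ?_⟩
    have h4 : a ^ (t + l) * y = a ^ t * (i * (s : A)) := by
      rw [← ht, pow_add]
      ring
    rw [h4]
    exact Ideal.mul_mem_left _ _ (Ideal.mul_mem_right _ _ hi)
  obtain ⟨j, hj⟩ := hq a y hyp
  rw [Ideal.mem_bot, IsLocalization.mk'_eq_zero_iff]
  exact ⟨⟨a ^ j, j, rfl⟩, hj⟩

end Gen

section Trans

variable {K : Type u} [Field K] {C : Type u} [CommRing C] [HopfAlgebra K C]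
  [Coalgebra.IsCocomm K C]

/-- the constant endomorphism attached to a point -/
noncomputable def Phi (h : WithConv (C →ₐ[K] K)) : WithConv (C →ₐ[K] C) :=
  toConv ((Algebra.ofId K C).comp h.ofConv)

theorem Phi_mul (h h' : WithConv (C →ₐ[K] K)) : Phi (h * h') = Phi h * Phi h' := by
  unfold Phi
  rw [AlgHom.comp_convMul_distrib]

theorem Phi_one : Phi (1 : WithConv (C →ₐ[K] K)) = 1 := by
  apply WithConv.ext
  apply AlgHom.ext
  intro c
  rfl

theorem Phi_pow (h : WithConv (C →ₐ[K] K)) (n : ℕ) : Phi (h ^ n) = Phi h ^ n := by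
  induction n with
  | zero => rw [pow_zero, pow_zero, Phi_one]
  | succ n ih => rw [pow_succ, pow_succ, Phi_mul, ih]

/-- translation by a point -/
noncomputable def tau (h : WithConv (C →ₐ[K] K)) : C →ₐ[K] C :=
  ofConv (Phi h * toConv (AlgHom.id K C))

theorem comp_tau (x : C →ₐ[K] K) (h : WithConv (C →ₐ[K] K)) :
    x.comp (tau h) = ofConv (h * toConv x) := by
  unfold tau
  rw [AlgHom.comp_convMul_distrib]
  have h1 : toConv (x.comp (Phi h).ofConv) = h := by
    apply WithConv.ext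
    apply AlgHom.ext
    intro c
    change x (algebraMap K C (h.ofConv c)) = h.ofConv c
    rw [AlgHom.commutes]
    rfl
  have h2 : x.comp (toConv (AlgHom.id K C)).ofConv = x := AlgHom.comp_id x
  rw [h1, h2]

theorem apply_tau (x h : WithConv (C →ₐ[K] K)) (c : C) :
    x.ofConv (tau h c) = (h * x).ofConv c :=
  DFunLike.congr_fun (comp_tau x.ofConv h) c

theorem tau_id_eq (h : WithConv (C →ₐ[K] K)) :
    toConv ((tau h).comp (toConv (AlgHom.id K C)).ofConv) = Phi h * toConv (AlgHom.id K C) := by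
  change toConv ((tau h).comp (AlgHom.id K C)) = _
  rw [AlgHom.comp_id]
  rfl

theorem tau_comp_tau (h h' : WithConv (C →ₐ[K] K)) : (tau h).comp (tau h') = tau (h' * h) := by
  have h1 : toConv ((tau h).comp (Phi h').ofConv) = Phi h' := by
    apply WithConv.ext
    apply AlgHom.ext
    intro c
    change tau h (algebraMap K C (h'.ofConv c)) = algebraMap K C (h'.ofConv c)
    rw [AlgHom.commutes]
  have key : (tau h).comp (ofConv (Phi h' * toConv (AlgHom.id K C))) = tau (h' * h) := by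
    rw [AlgHom.comp_convMul_distrib, h1, tau_id_eq, ← mul_assoc, ← Phi_mul]
    rfl
  exact key

theorem tau_tau (h h' : WithConv (C →ₐ[K] K)) (c : C) : tau h (tau h' c) = tau (h' * h) c :=
  DFunLike.congr_fun (tau_comp_tau h h') c

theorem tau_one : tau (1 : WithConv (C →ₐ[K] K)) = AlgHom.id K C := by
  unfold tau
  rw [Phi_one, one_mul]

theorem tau_inv_tau (h : WithConv (C →ₐ[K] K)) (c : C) : tau h⁻¹ (tau h c) = c := by
  rw [tau_tau, mul_inv_cancel, tau_one]
  rfl

theorem tau_tau_inv (h : WithConv (C →ₐ[K] K)) (c : C) : tau h (tau h⁻¹ c) = c := by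
  rw [tau_tau, inv_mul_cancel, tau_one]
  rfl

theorem tau_comp_powConv (h : WithConv (C →ₐ[K] K)) (N : ℕ) (hN : h ^ N = 1) :
    (tau h).comp (powConv K C N) = powConv K C N := by
  unfold powConv
  rw [Groth.Agent.H9.VF.comp_convPow, tau_id_eq, mul_pow, ← Phi_pow, hN, Phi_one, one_mul]

theorem tau_mem_torsionIdeal (h : WithConv (C →ₐ[K] K)) (N : ℕ) (hN : h ^ N = 1) {z : C}
    (hz : z ∈ torsionIdeal K C N) : tau h z ∈ torsionIdeal K C N := by
  have hle : torsionIdeal K C N ≤ (torsionIdeal K C N).comap (tau h) := by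
    rw [torsionIdeal, Ideal.map_le_iff_le_comap]
    intro c hc
    rw [Ideal.mem_comap, Ideal.mem_comap]
    have h1 : tau h (powConv K C N c) = powConv K C N c := by
      rw [← AlgHom.comp_apply, tau_comp_powConv h N hN]
    rw [h1]
    exact Ideal.mem_map_of_mem _ hc
  exact hle hz

/-- some power of a point lies in the open subgroup -/
theorem exists_pow_apply_eq_zero (hft : Algebra.FiniteType K C) (e : C)
    (he : IsIdempotentElem e) (hεe : Coalgebra.counit (R := K) e = 0)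
    (x : WithConv (C →ₐ[K] K)) : ∃ m : ℕ, 0 < m ∧ (x ^ m).ofConv e = 0 := by
  haveI : IsNoetherianRing C := Algebra.FiniteType.isNoetherianRing K C
  by_contra hcon
  push Not at hcon
  have hone : ∀ m : ℕ, 0 < m → (x ^ m).ofConv e = 1 := fun m hm => by
    have hid : IsIdempotentElem ((x ^ m).ofConv e) := he.map (x ^ m).ofConv
    rcases IsIdempotentElem.iff_eq_zero_or_one.1 hid with h0 | h1
    · exact absurd h0 (hcon m hm)
    · exact h1
  let F : ℕ → C := fun i => tau ((x ^ i)⁻¹) (1 - e)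
  let I : ℕ →o Ideal C :=
    ⟨fun n => Ideal.span (F '' Set.Iic n), fun a b hab =>
      Ideal.span_mono (Set.image_mono (Set.Iic_subset_Iic.2 hab))⟩
  obtain ⟨n, hn⟩ := monotone_stabilizes_iff_noetherian.2 inferInstance I
  have h1 : F (n + 1) ∈ I n := by
    rw [hn (n + 1) (Nat.le_succ n)]
    exact Ideal.subset_span ⟨n + 1, Set.mem_Iic.2 le_rfl, rfl⟩
  have hval : ∀ i : ℕ, (x ^ (n + 1)).ofConv (F i) =
      1 - ((x ^ i)⁻¹ * x ^ (n + 1)).ofConv e := by
    intro i
    change (x ^ (n + 1)).ofConv (tau ((x ^ i)⁻¹) (1 - e)) = _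
    rw [apply_tau, map_sub, map_one]
  have hker : I n ≤ RingHom.ker (x ^ (n + 1)).ofConv := by
    change Ideal.span (F '' Set.Iic n) ≤ _
    rw [Ideal.span_le]
    rintro _ ⟨i, hi, rfl⟩
    rw [SetLike.mem_coe, RingHom.mem_ker, hval i]
    have hi' : i ≤ n + 1 := le_trans (Set.mem_Iic.1 hi) (Nat.le_succ n)
    have h2 : (x ^ i)⁻¹ * x ^ (n + 1) = x ^ (n + 1 - i) := by
      rw [pow_sub x hi', mul_comm]
    have hpos : 0 < n + 1 - i := by
      have := Set.mem_Iic.1 hi
      omega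
    rw [h2, hone _ hpos, sub_self]
  have h2 := hker h1
  rw [RingHom.mem_ker, hval (n + 1), inv_mul_cancel] at h2
  have h4 : (1 : WithConv (C →ₐ[K] K)).ofConv e = 0 := by
    rw [AlgHom.convOne_apply, hεe, map_zero]
  rw [h4, sub_zero] at h2
  exact one_ne_zero h2

end Trans

section Null

/-- weak Nullstellensatz -/
theorem exists_point_of_isMaximal {K : Type u} [Field K] [IsAlgClosed K] {C : Type u}
    [CommRing C] [Algebra K C] (hft : Algebra.FiniteType K C) (m : Ideal C) [hm : m.IsMaximal] :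
    ∃ x : C →ₐ[K] K, ∀ c ∈ m, x c = 0 := by
  letI : Field (C ⧸ m) := Ideal.Quotient.field m
  haveI : Algebra.FiniteType K (C ⧸ m) :=
    hft.of_surjective (Ideal.Quotient.mkₐ K m) (Ideal.Quotient.mkₐ_surjective K m)
  haveI : Module.Finite K (C ⧸ m) := finite_of_finite_type_of_isJacobsonRing K (C ⧸ m)
  haveI : Algebra.IsIntegral K (C ⧸ m) := Algebra.IsIntegral.of_finite K (C ⧸ m)
  have hbij : Function.Bijective (algebraMap K (C ⧸ m)) :=
    IsAlgClosed.algebraMap_bijective_of_isIntegral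
  let E : K ≃ₐ[K] (C ⧸ m) := AlgEquiv.ofBijective (Algebra.ofId K (C ⧸ m)) hbij
  refine ⟨(E.symm : (C ⧸ m) →ₐ[K] K).comp (Ideal.Quotient.mkₐ K m), fun c hc => ?_⟩
  have h0 : Ideal.Quotient.mkₐ K m c = 0 := by
    rw [Ideal.Quotient.mkₐ_eq_mk]
    exact Ideal.Quotient.eq_zero_iff_mem.2 hc
  rw [AlgHom.comp_apply, h0, map_zero]

end Null

section Char

variable {K : Type u} [Field K] {M : Type u} [CommGroup M]

/-- evaluation at a character -/
noncomputable def evc (χ : M →* Kˣ) : MonoidAlgebra K M →ₐ[K] K :=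
  MonoidAlgebra.lift K K M ((Units.coeHom K).comp χ)

theorem evc_single (χ : M →* Kˣ) (m : M) (r : K) :
    evc χ (MonoidAlgebra.single m r) = r * (χ m : K) := by
  simp [evc]

theorem evc_mul (χ χ' : M →* Kˣ) :
    toConv (evc (χ * χ')) = toConv (evc χ) * toConv (evc χ') := by
  apply WithConv.ext
  apply (MonoidAlgebra.lift K K M).symm.injective
  apply MonoidHom.ext
  intro m
  rw [MonoidAlgebra.lift_symm_apply, MonoidAlgebra.lift_symm_apply]
  change evc (χ * χ') (MonoidAlgebra.single m 1) =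
    (toConv (evc χ) * toConv (evc χ')).ofConv (MonoidAlgebra.single m 1)
  rw [AlgHom.convMul_apply,
    (MonoidAlgebra.isGroupLikeElem_single_one (R := K) (A := K) m).comul_eq_tmul_self,
    Algebra.TensorProduct.lift_tmul]
  change evc (χ * χ') (MonoidAlgebra.single m 1) =
    evc χ (MonoidAlgebra.single m 1) * evc χ' (MonoidAlgebra.single m 1)
  rw [evc_single, evc_single, evc_single]
  simp

variable {C : Type u} [CommRing C] [HopfAlgebra K C] [Coalgebra.IsCocomm K C]
  (π : C →ₐc[K] MonoidAlgebra K M)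

/-- the point of the big group attached to a character -/
noncomputable def Psi (χ : M →* Kˣ) : WithConv (C →ₐ[K] K) :=
  toConv ((evc χ).comp (π : C →ₐ[K] MonoidAlgebra K M))

theorem Psi_mul (χ χ' : M →* Kˣ) : Psi π (χ * χ') = Psi π χ * Psi π χ' := by
  unfold Psi
  have h0 := AlgHom.convMul_comp_bialgHom_distrib (toConv (evc χ)) (toConv (evc χ')) π
  have e1 : evc (χ * χ') = (toConv (evc χ) * toConv (evc χ')).ofConv :=
    congrArg ofConv (evc_mul χ χ')
  rw [e1]
  apply WithConv.ext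
  exact h0

/-- `Psi` as a group homomorphism -/
noncomputable def PsiHom : (M →* Kˣ) →* WithConv (C →ₐ[K] K) :=
  MonoidHom.mk' (Psi π) (Psi_mul π)

theorem Psi_pow (χ : M →* Kˣ) (n : ℕ) : Psi π (χ ^ n) = Psi π χ ^ n :=
  map_pow (PsiHom π) χ n

theorem exists_Psi_eq (hπ : Function.Surjective π) (e : C)
    (hker : ∀ c : C, π c = 0 ↔ ∃ d, d * e = c)
    (x : WithConv (C →ₐ[K] K)) (hx : x.ofConv e = 0) : ∃ χ : M →* Kˣ, Psi π χ = x := by
  have H : RingHom.ker (π : C →ₐ[K] MonoidAlgebra K M).toRingHom ≤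
      RingHom.ker x.ofConv.toRingHom := by
    intro c hc
    rw [RingHom.mem_ker] at hc ⊢
    have hc' : π c = 0 := hc
    obtain ⟨d, rfl⟩ := (hker c).1 hc'
    change x.ofConv (d * e) = 0
    rw [map_mul, hx, mul_zero]
  have hy : (AlgHom.liftOfSurjective (π : C →ₐ[K] MonoidAlgebra K M) hπ x.ofConv H).comp
      (π : C →ₐ[K] MonoidAlgebra K M) = x.ofConv :=
    AlgHom.liftOfSurjective_comp _ hπ _ H
  obtain ⟨y, hy'⟩ : ∃ y : MonoidAlgebra K M →ₐ[K] K,
      y.comp (π : C →ₐ[K] MonoidAlgebra K M) = x.ofConv := ⟨_, hy⟩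
  have hχ₀ : MonoidAlgebra.lift K K M ((MonoidAlgebra.lift K K M).symm y) = y :=
    (MonoidAlgebra.lift K K M).apply_symm_apply y
  refine ⟨((MonoidAlgebra.lift K K M).symm y).toHomUnits, ?_⟩
  unfold Psi evc
  have h1 : (Units.coeHom K).comp ((MonoidAlgebra.lift K K M).symm y).toHomUnits =
      (MonoidAlgebra.lift K K M).symm y := MonoidHom.ext fun m => rfl
  rw [h1, hχ₀, hy']

end Char

section Root

variable {K : Type u} [Field K] [IsAlgClosed K]

theorem root_aux {j : Type} [Fintype j] {F' : Type} [Group F'] [Finite F']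
    (χ' : (j → Multiplicative ℤ) × F' →* Kˣ) (m : ℕ) (hm : 0 < m) :
    ∃ (ψ' : (j → Multiplicative ℤ) × F' →* Kˣ) (N : ℕ), 0 < N ∧ ψ' ^ (m * N) = χ' ^ N := by
  classical
  have hr : ∀ i : j, ∃ r : Kˣ, r ^ m = χ' (Pi.mulSingle i (Multiplicative.ofAdd 1), 1) := by
    intro i
    obtain ⟨z, hz⟩ := IsAlgClosed.exists_pow_nat_eq
      ((χ' (Pi.mulSingle i (Multiplicative.ofAdd 1), 1) : Kˣ) : K) hm
    have hz0 : z ≠ 0 := by
      rintro rfl
      rw [zero_pow hm.ne'] at hz
      exact (Units.ne_zero _) hz.symm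
    exact ⟨Units.mk0 z hz0, Units.ext (by rw [Units.val_pow_eq_pow_val, Units.val_mk0, hz])⟩
  choose r hr using hr
  let ψL : (j → Multiplicative ℤ) →* Kˣ :=
    ∏ i : j, (zpowersHom Kˣ (r i)).comp (Pi.evalMonoidHom (fun _ : j => Multiplicative ℤ) i)
  have hψ1 : ∀ i : j, ψL (Pi.mulSingle i (Multiplicative.ofAdd 1)) = r i := by
    intro i
    change (∏ i' : j, (zpowersHom Kˣ (r i')).comp
      (Pi.evalMonoidHom (fun _ : j => Multiplicative ℤ) i')) _ = _
    rw [MonoidHom.finset_prod_apply, Finset.prod_eq_single i]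
    · rw [MonoidHom.comp_apply, Pi.evalMonoidHom_apply, Pi.mulSingle_eq_same, zpowersHom_apply,
        toAdd_ofAdd, zpow_one]
    · intro i' _ hne
      rw [MonoidHom.comp_apply, Pi.evalMonoidHom_apply, Pi.mulSingle_eq_of_ne hne, map_one]
    · intro h
      exact absurd (Finset.mem_univ i) h
  have hψL : ψL ^ m = χ'.comp (MonoidHom.inl (j → Multiplicative ℤ) F') := by
    apply MonoidHom.functions_ext'
    intro i
    apply MonoidHom.ext_mint
    change (ψL (Pi.mulSingle i (Multiplicative.ofAdd 1))) ^ m =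
      χ' (Pi.mulSingle i (Multiplicative.ofAdd 1), 1)
    rw [hψ1, hr]
  haveI : Nonempty F' := ⟨1⟩
  refine ⟨ψL.comp (MonoidHom.fst _ _), Nat.card F', Nat.card_pos, ?_⟩
  apply MonoidHom.ext
  rintro ⟨v, f⟩
  change (ψL v) ^ (m * Nat.card F') = (χ' (v, f)) ^ Nat.card F'
  have h1 : ((v, f) : (j → Multiplicative ℤ) × F') = (v, 1) * (1, f) := by
    rw [Prod.mk_mul_mk, mul_one, one_mul]
  have h2 : χ' (1, f) ^ Nat.card F' = 1 := by
    rw [← map_pow, Prod.pow_mk, one_pow, pow_card_eq_one']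
    exact map_one χ'
  have h3 : ψL v ^ m = χ' (v, 1) := DFunLike.congr_fun hψL v
  rw [pow_mul, h3, h1, map_mul, mul_pow, h2, mul_one]

theorem exists_root_char {M : Type u} [CommGroup M] [Group.FG M] (χ : M →* Kˣ) (m : ℕ)
    (hm : 0 < m) : ∃ (ψ : M →* Kˣ) (N : ℕ), 0 < N ∧ ψ ^ (m * N) = χ ^ N := by
  classical
  obtain ⟨ι, j, hι, hj, p, hp, e, ⟨E⟩⟩ := CommGroup.equiv_free_prod_prod_multiplicative_zmod M
  haveI : ∀ i, NeZero (p i ^ e i) := fun i => ⟨pow_ne_zero _ (hp i).ne_zero⟩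
  obtain ⟨ψ', N, hN, hψ'⟩ := root_aux (χ.comp E.symm.toMonoidHom) m hm
  refine ⟨ψ'.comp E.toMonoidHom, N, hN, ?_⟩
  apply MonoidHom.ext
  intro z
  have h1 := DFunLike.congr_fun hψ' (E z)
  rw [MonoidHom.pow_apply, MonoidHom.pow_apply, MonoidHom.comp_apply] at h1
  rw [MonoidHom.pow_apply, MonoidHom.pow_apply, MonoidHom.comp_apply]
  have hz : E.symm.toMonoidHom (E z) = z := E.symm_apply_apply z
  rw [hz] at h1
  exact h1

end Root

section Diag

/-- over an algebraically closed field, a group of multiplicative type and of finite type is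
diagonalisable -/
theorem exists_bialgEquiv_monoidAlgebra {K : Type u} [Field K] [IsAlgClosed K] {A : Type u}
    [CommRing A] [HopfAlgebra K A] (hft : Algebra.FiniteType K A) (h : IsMultType K A) :
    ∃ (M : Type u) (_ : CommGroup M), Group.FG M ∧ Nonempty (A ≃ₐc[K] MonoidAlgebra K M) := by
  haveI := hft
  obtain ⟨K', _, _, hfin, hsep, M, _, hfg, ⟨E⟩⟩ := Groth.Agent.H9.MT.exists_isDiagFT h
  haveI := hfin
  haveI : Algebra.IsIntegral K K' := Algebra.IsIntegral.of_finite K K'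
  have hbij : Function.Bijective (algebraMap K K') :=
    IsAlgClosed.algebraMap_bijective_of_isIntegral
  let φ : K' ≃ₐ[K] K := (AlgEquiv.ofBijective (Algebra.ofId K K') hbij).symm
  letI : Algebra K' K := (φ : K' →ₐ[K] K).toRingHom.toAlgebra
  haveI : IsScalarTower K K' K := IsScalarTower.of_algebraMap_eq fun r => (φ.commutes r).symm
  have hd : IsDiag K (K ⊗[K'] (K' ⊗[K] A)) :=
    Groth.Agent.H9.MT.isDiag_baseChange K ⟨M, inferInstance, ⟨E⟩⟩
  obtain ⟨M', _, ⟨E'⟩⟩ := hd
  let Ef : A ≃ₐc[K] MonoidAlgebra K M' :=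
    ((Bialgebra.TensorProduct.lid K A).symm.trans
      (Groth.Agent.H9.MT.cancelBC K K' K A).symm).trans E'
  refine ⟨M', inferInstance, ?_, ⟨Ef⟩⟩
  have h2 : Algebra.FiniteType K (MonoidAlgebra K M') :=
    hft.equiv (Ef : A ≃ₐ[K] MonoidAlgebra K M')
  exact MonoidAlgebra.finiteType_iff_group_fg.mp h2

end Diag

section Core

variable {K : Type u} [Field K] [IsAlgClosed K] {C : Type u} [CommRing C] [HopfAlgebra K C]
  [Coalgebra.IsCocomm K C]

theorem qd_core (hft : Algebra.FiniteType K C) {M : Type u} [CommGroup M] [Group.FG M]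
    (π : C →ₐc[K] MonoidAlgebra K M) (hπ : Function.Surjective π) (e : C)
    (he : IsIdempotentElem e) (hker : ∀ c : C, π c = 0 ↔ ∃ d, d * e = c) : QD K C := by
  classical
  have hπe : π e = 0 := (hker e).2 ⟨1, one_mul e⟩
  have hεe : Coalgebra.counit (R := K) e = 0 := by
    have h0 := CoalgHomClass.counit_comp_apply π e
    rw [← h0, hπe, map_zero]
  have hrep : ∀ x : WithConv (C →ₐ[K] K), ∃ (h : WithConv (C →ₐ[K] K)) (N : ℕ),
      0 < N ∧ h ^ N = 1 ∧ (h⁻¹ * x).ofConv e = 0 := by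
    intro x
    obtain ⟨m, hm, hxm⟩ := exists_pow_apply_eq_zero hft e he hεe x
    obtain ⟨χ, hχ⟩ := exists_Psi_eq π hπ e hker (x ^ m) hxm
    obtain ⟨ψ, N, hN, hψ⟩ := exists_root_char χ m hm
    refine ⟨x * (Psi π ψ)⁻¹, m * N, Nat.mul_pos hm hN, ?_, ?_⟩
    · have h1 : (Psi π ψ) ^ (m * N) = (x ^ m) ^ N := by
        rw [← Psi_pow, hψ, Psi_pow, hχ]
      rw [mul_pow, inv_pow, h1, ← pow_mul, mul_inv_cancel]
    · have h2 : (x * (Psi π ψ)⁻¹)⁻¹ * x = Psi π ψ := by
        rw [mul_inv_rev, inv_inv, mul_assoc, inv_mul_cancel, mul_one]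
      rw [h2]
      change evc ψ (π e) = 0
      rw [hπe, map_zero]
  intro a y hyp
  let T : Ideal C :=
    { carrier := {c | ∃ j : ℕ, a ^ j * (c * y) = 0}
      add_mem' := by
        rintro c c' ⟨j, hj⟩ ⟨j', hj'⟩
        refine ⟨j + j', ?_⟩
        have h0 : a ^ (j + j') * ((c + c') * y) =
            a ^ j' * (a ^ j * (c * y)) + a ^ j * (a ^ j' * (c' * y)) := by
          rw [pow_add]
          ring
        rw [h0, hj, hj', mul_zero, mul_zero, add_zero]
      zero_mem' := ⟨0, by simp⟩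
      smul_mem' := by
        rintro r c ⟨j, hj⟩
        refine ⟨j, ?_⟩
        have h0 : a ^ j * (r • c * y) = r * (a ^ j * (c * y)) := by
          rw [smul_eq_mul]
          ring
        rw [h0, hj, mul_zero] }
  have hTmem : ∀ c : C, c ∈ T ↔ ∃ j : ℕ, a ^ j * (c * y) = 0 := fun c => Iff.rfl
  suffices h1 : (1 : C) ∈ T by
    obtain ⟨j, hj⟩ := (hTmem 1).1 h1
    rw [one_mul] at hj
    exact ⟨j, hj⟩
  by_contra hT
  have hne : T ≠ ⊤ := fun h => hT (h ▸ Submodule.mem_top)
  obtain ⟨𝔪, h𝔪, hle⟩ := Ideal.exists_le_maximal T hne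
  haveI := h𝔪
  obtain ⟨x, hx⟩ := exists_point_of_isMaximal hft 𝔪
  obtain ⟨h, N, hN, hhN, hhx⟩ := hrep (toConv x)
  obtain ⟨ρ, hρ⟩ : ∃ ρ : C →ₐ[K] C, ρ = tau h := ⟨_, rfl⟩
  obtain ⟨c₀, hc₀⟩ : ∃ c₀ : C, c₀ = tau h⁻¹ (1 - e) := ⟨_, rfl⟩
  have hρc₀ : ρ c₀ = 1 - e := by rw [hρ, hc₀, tau_tau_inv]
  have hinj : Function.Injective ρ := fun u v huv => by
    rw [← tau_inv_tau h u, ← tau_inv_tau h v, ← hρ, huv]
  have hxc₀ : x c₀ = 1 := by
    have h0 := apply_tau (toConv x) h⁻¹ (1 - e)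
    have h0' : (h⁻¹ * toConv x).ofConv (1 - e) = 1 := by
      rw [map_sub, map_one, hhx, sub_zero]
    rw [hc₀]
    exact h0.trans h0'
  have hc₀T : c₀ ∈ T := by
    have hq := qd_monoidAlgebra K M
    obtain ⟨j, hj⟩ := hq (π (ρ a)) (π (ρ y)) (fun n hn => by
      obtain ⟨j, hj⟩ := hyp (n * N) (Nat.mul_pos hn hN)
      refine ⟨j, ?_⟩
      have hh : h ^ (n * N) = 1 := by rw [mul_comm, pow_mul, hhN, one_pow]
      have h1 : ρ (a ^ j * y) ∈ torsionIdeal K C (n * N) := by
        rw [hρ]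
        exact tau_mem_torsionIdeal h (n * N) hh hj
      have h2 := torsionIdeal_mul_le K C n N h1
      have h3 := map_mem_torsionIdeal π n h2
      have e3 : π (ρ (a ^ j * y)) = π (ρ a) ^ j * π (ρ y) := by
        simp only [map_mul, map_pow]
      rw [← e3]
      exact h3)
    have h4 : π (ρ a ^ j * ρ y) = 0 := by
      rw [map_mul, map_pow]
      exact hj
    obtain ⟨d, hd⟩ := (hker _).1 h4
    rw [hTmem]
    refine ⟨j, hinj ?_⟩
    rw [map_zero, map_mul, map_pow, map_mul, hρc₀]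
    calc ρ a ^ j * ((1 - e) * ρ y) = (1 - e) * (ρ a ^ j * ρ y) := by ring
      _ = (1 - e) * (d * e) := by rw [hd]
      _ = d * (e - e * e) := by ring
      _ = 0 := by rw [he.eq, sub_self, mul_zero]
  have h5 : c₀ ∈ 𝔪 := hle hc₀T
  have h6 := hx c₀ h5
  rw [hxc₀] at h6
  exact one_ne_zero h6

end Core

section Main

variable {k : Type u} [Field k] {C : Type u} [CommRing C] [HopfAlgebra k C]
  [Coalgebra.IsCocomm k C]

theorem qd_of_open_aux (K : Type u) [Field K] [IsAlgClosed K] [Algebra k K]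
    (hft : Algebra.FiniteType k C) (e : C) (he : IsIdempotentElem e)
    [(Ideal.span {e}).IsHopfIdeal k] (hG : IsMultType k (C ⧸ Ideal.span {e})) : QD k C := by
  have hπ₀ : Function.Surjective (Bialgebra.Quotient.mkBialgHom (R := k) (Ideal.span {e})) :=
    Ideal.Quotient.mk_surjective
  have hftA : Algebra.FiniteType k (C ⧸ Ideal.span {e}) :=
    hft.of_surjective
      ((Bialgebra.Quotient.mkBialgHom (R := k) (Ideal.span {e})) : C →ₐ[k] C ⧸ Ideal.span {e})
      hπ₀
  have hAK : IsMultType K (K ⊗[k] (C ⧸ Ideal.span {e})) :=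
    Groth.Agent.H9.MT.isMultType_of_isMultTypeConst
      (Groth.Agent.H9.MT.isMultTypeConst_baseChange K
        (Groth.Agent.H9.MT.isMultTypeConst_of_isMultType hG))
  haveI := hftA
  haveI := hft
  have hftAK : Algebra.FiniteType K (K ⊗[k] (C ⧸ Ideal.span {e})) := inferInstance
  have hftCK : Algebra.FiniteType K (K ⊗[k] C) := inferInstance
  obtain ⟨M, _, hfg, ⟨E⟩⟩ := exists_bialgEquiv_monoidAlgebra hftAK hAK
  haveI := hfg
  let πK : K ⊗[k] C →ₐc[K] K ⊗[k] (C ⧸ Ideal.span {e}) :=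
    Bialgebra.TensorProduct.map (BialgHom.id K K)
      (Bialgebra.Quotient.mkBialgHom (R := k) (Ideal.span {e}))
  have hπK : Function.Surjective πK := by
    intro z
    induction z using TensorProduct.induction_on with
    | zero => exact ⟨0, map_zero _⟩
    | tmul s c =>
      obtain ⟨c', rfl⟩ := hπ₀ c
      exact ⟨s ⊗ₜ[k] c', rfl⟩
    | add z z' hz hz' =>
      obtain ⟨w, rfl⟩ := hz
      obtain ⟨w', rfl⟩ := hz'
      exact ⟨w + w', map_add _ _ _⟩
  have hkerK : ∀ z : K ⊗[k] C, πK z = 0 ↔ ∃ d, d * ((1 : K) ⊗ₜ[k] e) = z := by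
    intro z
    have hk0 : RingHom.ker ((Bialgebra.Quotient.mkBialgHom (R := k) (Ideal.span {e})) :
        C →ₐ[k] C ⧸ Ideal.span {e}) = Ideal.span {e} := by
      ext c
      rw [RingHom.mem_ker]
      change Ideal.Quotient.mk (Ideal.span {e}) c = 0 ↔ _
      exact Ideal.Quotient.eq_zero_iff_mem
    have hk1 := Algebra.TensorProduct.lTensor_ker (A := K)
      ((Bialgebra.Quotient.mkBialgHom (R := k) (Ideal.span {e})) : C →ₐ[k] C ⧸ Ideal.span {e})
      hπ₀
    rw [hk0, Ideal.map_span, Set.image_singleton] at hk1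
    have hk2 : πK z = 0 ↔ z ∈ RingHom.ker (Algebra.TensorProduct.map (AlgHom.id k K)
        ((Bialgebra.Quotient.mkBialgHom (R := k) (Ideal.span {e})) :
          C →ₐ[k] C ⧸ Ideal.span {e})) := by
      rw [RingHom.mem_ker]
      have hfun : ∀ w : K ⊗[k] C, πK w = (Algebra.TensorProduct.map (AlgHom.id k K)
          ((Bialgebra.Quotient.mkBialgHom (R := k) (Ideal.span {e})) :
            C →ₐ[k] C ⧸ Ideal.span {e})) w := by
        intro w
        induction w using TensorProduct.induction_on with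
        | zero => rw [map_zero, map_zero]
        | tmul s c => rfl
        | add w w' hw hw' => rw [map_add, map_add, hw, hw']
      rw [hfun]
    rw [hk2, hk1, Ideal.mem_span_singleton']
    rfl
  let π : K ⊗[k] C →ₐc[K] MonoidAlgebra K M :=
    (E : K ⊗[k] (C ⧸ Ideal.span {e}) →ₐc[K] MonoidAlgebra K M).comp πK
  have hπ : Function.Surjective π := fun z => by
    obtain ⟨w, hw⟩ := E.surjective z
    obtain ⟨v, hv⟩ := hπK w
    exact ⟨v, by change E (πK v) = z; rw [hv]; exact hw⟩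
  have hker : ∀ z : K ⊗[k] C, π z = 0 ↔ ∃ d, d * ((1 : K) ⊗ₜ[k] e) = z := by
    intro z
    rw [← hkerK z]
    change E (πK z) = 0 ↔ _
    exact EmbeddingLike.map_eq_zero_iff
  have heK : IsIdempotentElem ((1 : K) ⊗ₜ[k] e) := by
    change (1 : K) ⊗ₜ[k] e * (1 : K) ⊗ₜ[k] e = _
    rw [Algebra.TensorProduct.tmul_mul_tmul, one_mul, he.eq]
  have hqK : QD K (K ⊗[k] C) := qd_core hftCK π hπ _ heK hker
  exact qd_of_baseChange K
    (Module.FaithfullyFlat.tensorProduct_mk_injective (A := k) (B := K) C) hqK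

theorem qd_of_open (hft : Algebra.FiniteType k C) (e : C) (he : IsIdempotentElem e)
    [(Ideal.span {e}).IsHopfIdeal k] (hG : IsMultType k (C ⧸ Ideal.span {e})) : QD k C :=
  qd_of_open_aux (AlgebraicClosure k) hft e he hG

end Main

end Groth.Agent.H9.SD
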