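import Mathlib

open CategoryTheory CategoryTheory.Limits AlgebraicGeometry

universe u

namespace Groth.Agent.H9.SDM

section Alg

theorem inj_of_pushouts {R₀ B₀ B₀' C Bc Bc' : CommRingCat.{u}}
    (β : R₀ ⟶ B₀) (β' : R₀ ⟶ B₀') (α : R₀ ⟶ C)
    (γ : B₀ ⟶ Bc) (δ : C ⟶ Bc) (γ' : B₀' ⟶ Bc') (δ' : C ⟶ Bc')
    (hpo : IsPushout β α γ δ) (hpo' : IsPushout β' α γ' δ')
    (φ₀ : B₀ ⟶ B₀') (r : B₀' →+ B₀) (hr : ∀ b, r (φ₀.hom b) = b)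
    (hrl : ∀ a b, r (β'.hom a * b) = β.hom a * r b)
    (ψ : Bc ⟶ Bc') (h1 : γ ≫ ψ = φ₀ ≫ γ') (h2 : δ ≫ ψ = δ') :
    Function.Injective ψ.hom := by
  have hsq : δ.hom.comp α.hom = γ.hom.comp β.hom := congr($(hpo.w.symm).hom)
  have hsq' : δ'.hom.comp α.hom = γ'.hom.comp β'.hom := congr($(hpo'.w.symm).hom)
  algebraize [α.hom, β.hom, β'.hom, γ.hom, δ.hom, γ'.hom, δ'.hom, δ.hom.comp α.hom,
    δ'.hom.comp α.hom]
  have : IsScalarTower R₀ C Bc := .of_algebraMap_eq' rfl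
  have : IsScalarTower R₀ B₀ Bc := .of_algebraMap_eq' hsq
  have : IsScalarTower R₀ C Bc' := .of_algebraMap_eq' rfl
  have : IsScalarTower R₀ B₀' Bc' := .of_algebraMap_eq' hsq'
  have hP : Algebra.IsPushout R₀ C B₀ Bc := CommRingCat.isPushout_iff_isPushout.mp hpo.flip
  have hP' : Algebra.IsPushout R₀ C B₀' Bc' := CommRingCat.isPushout_iff_isPushout.mp hpo'.flip
  let rL : B₀' →ₗ[R₀] B₀ :=
    { toFun := r
      map_add' := r.map_add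
      map_smul' := fun a b => by
        simp only [Algebra.smul_def, RingHom.id_apply]
        exact hrl a b }
  let g : B₀ →ₗ[R₀] Bc := (IsScalarTower.toAlgHom R₀ B₀ Bc).toLinearMap
  let ρ : Bc' →ₗ[C] Bc := hP'.out.lift (g.comp rL)
  have hρ : ∀ b', ρ (γ'.hom b') = γ.hom (r b') := fun b' => hP'.out.lift_eq _ b'
  let ψL : Bc →ₗ[C] Bc' :=
    { toFun := ψ.hom
      map_add' := ψ.hom.map_add
      map_smul' := fun c x => by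
        simp only [Algebra.smul_def, RingHom.id_apply, map_mul]
        congr 1
        exact congr($(h2).hom c) }
  have hcomp : ρ.comp ψL = LinearMap.id := by
    refine hP.out.algHom_ext _ _ fun b => ?_
    change ρ (ψ.hom (γ.hom b)) = γ.hom b
    have e1 : ψ.hom (γ.hom b) = γ'.hom (φ₀.hom b) := congr($(h1).hom b)
    rw [e1, hρ, hr]
  intro x y hxy
  have := congrArg ρ hxy
  have hx : ρ (ψ.hom x) = x := LinearMap.congr_fun hcomp x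
  have hy : ρ (ψ.hom y) = y := LinearMap.congr_fun hcomp y
  rw [← hx, ← hy]; exact this

end Alg

section Sch

theorem dominant_of_cover {P' P : Scheme.{u}} (ι : P' ⟶ P) {I : Type*} (W : I → P.affineOpens)
    (hW : ⨆ i, (W i).1 = ⊤) (hinj : ∀ i, Function.Injective (ι.app (W i).1).hom) :
    IsSchemeTheoreticallyDominant ι := by
  rw [isSchemeTheoreticallyDominant_iff]
  refine Scheme.IdealSheafData.ext_of_iSup_eq_top W hW fun i => ?_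
  refine le_antisymm ((ι.ideal_ker_le (W i)).trans ?_) ?_
  · rw [(RingHom.injective_iff_ker_eq_bot _).mp (hinj i)]; simp
  · simp

theorem affine_inter {X Y S T : Scheme.{u}} {f : T ⟶ S} {g : Y ⟶ X} {iX : X ⟶ S} {iY : Y ⟶ T}
    (H : IsPullback g iY iX f) {US : S.Opens} {UT : T.Opens} {UX : X.Opens}
    (hUST : UT ≤ f ⁻¹ᵁ US) (hUSX : UX ≤ iX ⁻¹ᵁ US) {UY : Y.Opens}
    (hUY : UY = g ⁻¹ᵁ UX ⊓ iY ⁻¹ᵁ UT)
    (hUS : IsAffineOpen US) (hUT : IsAffineOpen UT) (hUX : IsAffineOpen UX) :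
    IsAffineOpen UY := by
  have : IsAffine _ := hUS
  have : IsAffine _ := hUT
  have : IsAffine _ := hUX
  exact .of_isIso (Scheme.Hom.isPullback_resLE H hUST hUSX hUY).isoPullback.hom

theorem appLE_congr' {X Y : Scheme.{u}} {f g : X ⟶ Y} (h : f = g) (U : Y.Opens) (V : X.Opens)
    (e₁ : V ≤ f ⁻¹ᵁ U) (e₂ : V ≤ g ⁻¹ᵁ U) : f.appLE U V e₁ = g.appLE U V e₂ := by
  subst h; rfl

theorem appLE_top_top {X Y : Scheme.{u}} (f : X ⟶ Y) (e : (⊤ : X.Opens) ≤ f ⁻¹ᵁ ⊤) :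
    f.appLE ⊤ ⊤ e = f.appTop :=
  Scheme.Hom.appLE_eq_app (f := f) (U := ⊤)

theorem dominant_of_split {S Y Y' T P P' : Scheme.{u}} [IsAffine S] [IsAffine Y] [IsAffine Y']
    {f : Y ⟶ S} {f' : Y' ⟶ S} {t : T ⟶ S} {p₁ : P ⟶ Y} {p₂ : P ⟶ T} {p₁' : P' ⟶ Y'}
    {p₂' : P' ⟶ T}
    (H : IsPullback p₁ p₂ f t) (H' : IsPullback p₁' p₂' f' t)
    (j : Y' ⟶ Y)
    (r : Γ(Y', ⊤) →+ Γ(Y, ⊤)) (hr : ∀ b, r (j.appTop.hom b) = b)
    (hrl : ∀ a b, r (f'.appTop.hom a * b) = f.appTop.hom a * r b)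
    (ι : P' ⟶ P) (h1 : ι ≫ p₁ = p₁' ≫ j) (h2 : ι ≫ p₂ = p₂') :
    IsSchemeTheoreticallyDominant ι := by
  have hST : ∀ V : T.affineOpens, V.1 ≤ t ⁻¹ᵁ (⊤ : S.Opens) := fun V => le_top
  have hSY : (⊤ : Y.Opens) ≤ f ⁻¹ᵁ (⊤ : S.Opens) := le_top
  have hSY' : (⊤ : Y'.Opens) ≤ f' ⁻¹ᵁ (⊤ : S.Opens) := le_top
  have hWaff : ∀ V : T.affineOpens, IsAffineOpen (p₁ ⁻¹ᵁ ⊤ ⊓ p₂ ⁻¹ᵁ V.1) := fun V =>
    affine_inter H (hST V) hSY rfl (isAffineOpen_top S) V.2 (isAffineOpen_top Y)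
  refine dominant_of_cover ι (fun V : T.affineOpens => ⟨p₁ ⁻¹ᵁ ⊤ ⊓ p₂ ⁻¹ᵁ V.1, hWaff V⟩) ?_ ?_
  · have h0 : ⨆ V : T.affineOpens, p₂ ⁻¹ᵁ V.1 = ⊤ := by
      rw [← Scheme.Hom.preimage_iSup, iSup_affineOpens_eq_top, Scheme.Hom.preimage_top]
    simpa using h0
  · intro V
    have hpo := (isIso_pushoutSection_iff H (hST V) hSY rfl).mp
      (isIso_pushoutSection_of_isAffineOpen H (hST V) hSY rfl (isAffineOpen_top S) V.2
        (isAffineOpen_top Y))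
    have hpo' := (isIso_pushoutSection_iff H' (hST V) hSY' rfl).mp
      (isIso_pushoutSection_of_isAffineOpen H' (hST V) hSY' rfl (isAffineOpen_top S) V.2
        (isAffineOpen_top Y'))
    have hW' : ι ⁻¹ᵁ (p₁ ⁻¹ᵁ ⊤ ⊓ p₂ ⁻¹ᵁ V.1) = p₁' ⁻¹ᵁ ⊤ ⊓ p₂' ⁻¹ᵁ V.1 := by
      rw [← h2, Scheme.Hom.comp_preimage]
      simp
    have hle : p₁' ⁻¹ᵁ ⊤ ⊓ p₂' ⁻¹ᵁ V.1 ≤ ι ⁻¹ᵁ (p₁ ⁻¹ᵁ ⊤ ⊓ p₂ ⁻¹ᵁ V.1) := hW'.ge
    have hr' : ∀ a b, r ((f'.appLE ⊤ ⊤ hSY').hom a * b) = (f.appLE ⊤ ⊤ hSY).hom a * r b := by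
      rw [appLE_top_top, appLE_top_top]; exact hrl
    have hinj := inj_of_pushouts _ _ _ _ _ _ _ hpo hpo' j.appTop r hr hr'
      (ι.appLE _ _ hle)
      ((Scheme.Hom.appLE_comp_appLE ..).trans ((appLE_congr' h1 ..).trans
        (Scheme.Hom.comp_appLE ..)))
      ((Scheme.Hom.appLE_comp_appLE ..).trans (appLE_congr' h2 ..))
    intro x y hxy
    apply hinj
    show (P'.presheaf.map (homOfLE hle).op).hom ((ι.app _).hom x) =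
      (P'.presheaf.map (homOfLE hle).op).hom ((ι.app _).hom y)
    rw [hxy]

end Sch

end Groth.Agent.H9.SDM
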