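import Mathlib
import Groth.Prelude.Def_GmAct
import Groth.Agent.Lib.Helper9.Misc.SDM1

set_option autoImplicit false

open CategoryTheory CategoryTheory.Limits MonoidalCategory CartesianMonoidalCategory MonObj
  AlgebraicGeometry Opposite
open scoped TensorProduct Polynomial

universe u

namespace Groth.Agent.H9.SDM

noncomputable section

variable {R : Type u} [CommRing R] {B B' : Type u} [CommRing B] [CommRing B'] [Algebra R B]
  [Algebra R B']

theorem sp_hom (R : Type u) [CommRing R] (B : Type u) [CommRing B] [Algebra R B] :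
    (CoactBr.sp R B).hom = Spec.map (CommRingCat.ofHom (algebraMap R B)) := rfl

theorem dominant_whiskerRight (φ : B →ₐ[R] B') (rl : B' →ₗ[R] B) (hrl : ∀ b, rl (φ b) = b)
    (T : Over (Spec (CommRingCat.of R))) :
    IsSchemeTheoreticallyDominant (CoactBr.pt φ ▷ T).left := by
  let r : Γ(Spec (CommRingCat.of B'), ⊤) →+ Γ(Spec (CommRingCat.of B), ⊤) :=
    ((Scheme.ΓSpecIso (CommRingCat.of B)).inv.hom.toAddMonoidHom).comp
      (rl.toAddMonoidHom.comp (Scheme.ΓSpecIso (CommRingCat.of B')).hom.hom.toAddMonoidHom)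
  have hrdef : ∀ y, r y = (Scheme.ΓSpecIso (CommRingCat.of B)).inv.hom
      (rl ((Scheme.ΓSpecIso (CommRingCat.of B')).hom.hom y)) := fun _ => rfl
  have natφ : ∀ b, (Scheme.ΓSpecIso (CommRingCat.of B')).hom.hom
      ((Spec.map (CommRingCat.ofHom φ.toRingHom)).appTop.hom b) =
        φ ((Scheme.ΓSpecIso (CommRingCat.of B)).hom.hom b) := fun b =>
    congr($(Scheme.ΓSpecIso_naturality (CommRingCat.ofHom φ.toRingHom)).hom b)
  have natB' : ∀ a, (Scheme.ΓSpecIso (CommRingCat.of B')).hom.hom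
      ((Spec.map (CommRingCat.ofHom (algebraMap R B'))).appTop.hom a) =
        algebraMap R B' ((Scheme.ΓSpecIso (CommRingCat.of R)).hom.hom a) := fun a =>
    congr($(Scheme.ΓSpecIso_naturality (CommRingCat.ofHom (algebraMap R B'))).hom a)
  have natB : ∀ a, (Scheme.ΓSpecIso (CommRingCat.of B)).hom.hom
      ((Spec.map (CommRingCat.ofHom (algebraMap R B))).appTop.hom a) =
        algebraMap R B ((Scheme.ΓSpecIso (CommRingCat.of R)).hom.hom a) := fun a =>
    congr($(Scheme.ΓSpecIso_naturality (CommRingCat.ofHom (algebraMap R B))).hom a)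
  have invhom : ∀ y, (Scheme.ΓSpecIso (CommRingCat.of B)).inv.hom
      ((Scheme.ΓSpecIso (CommRingCat.of B)).hom.hom y) = y := fun y =>
    congr($((Scheme.ΓSpecIso (CommRingCat.of B)).hom_inv_id).hom y)
  have hominv : ∀ y, (Scheme.ΓSpecIso (CommRingCat.of B)).hom.hom
      ((Scheme.ΓSpecIso (CommRingCat.of B)).inv.hom y) = y := fun y =>
    congr($((Scheme.ΓSpecIso (CommRingCat.of B)).inv_hom_id).hom y)
  refine dominant_of_split (S := Spec (CommRingCat.of R)) (Y := Spec (CommRingCat.of B))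
    (Y' := Spec (CommRingCat.of B')) (f := (CoactBr.sp R B).hom) (f' := (CoactBr.sp R B').hom)
    (t := T.hom) (IsPullback.of_hasPullback _ _) (IsPullback.of_hasPullback _ _)
    (CoactBr.pt φ).left r ?_ ?_ (CoactBr.pt φ ▷ T).left
    (Over.whiskerRight_left_fst _) (Over.whiskerRight_left_snd _)
  · intro b
    rw [hrdef, CoactBr.pt_left, natφ, hrl, invhom]
  · intro a b
    rw [hrdef, hrdef, map_mul, sp_hom, sp_hom, natB', ← Algebra.smul_def, map_smul,
      Algebra.smul_def, map_mul]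
    congr 1
    apply (Scheme.ΓSpecIso (CommRingCat.of B)).commRingCatIsoToRingEquiv.injective
    show (Scheme.ΓSpecIso (CommRingCat.of B)).hom.hom _ = (Scheme.ΓSpecIso (CommRingCat.of B)).hom.hom _
    rw [hominv, natB]

theorem whiskerLeft_whiskerRight_eq {C : Type*} [Category C] [MonoidalCategory C]
    [BraidedCategory C] (G : C) {A A' : C} (f : A ⟶ A') (T : C) :
    G ◁ (f ▷ T) = (β_ G (A ⊗ T)).hom ≫ (α_ A T G).hom ≫ (f ▷ (T ⊗ G)) ≫ (α_ A' T G).inv ≫
      (β_ G (A' ⊗ T)).inv := by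
  rw [MonoidalCategory.whiskerRight_tensor]
  simp only [Category.assoc, Iso.hom_inv_id_assoc, Iso.hom_inv_id, Category.comp_id]
  rw [← BraidedCategory.braiding_naturality_right_assoc, Iso.hom_inv_id, Category.comp_id]

theorem isIso_left {S : Scheme.{u}} {X Y : Over S} (e : X ⟶ Y) [IsIso e] : IsIso e.left :=
  inferInstanceAs (IsIso ((Over.forget S).map e))

theorem dominant_whiskerLeft_whiskerRight (φ : B →ₐ[R] B') (rl : B' →ₗ[R] B)
    (hrl : ∀ b, rl (φ b) = b) (W T : Over (Spec (CommRingCat.of R))) :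
    IsSchemeTheoreticallyDominant (W ◁ (CoactBr.pt φ ▷ T)).left := by
  rw [whiskerLeft_whiskerRight_eq]
  simp only [Over.comp_left]
  haveI := dominant_whiskerRight φ rl hrl (T ⊗ W)
  haveI := isIso_left (β_ W (CoactBr.sp R B' ⊗ T)).hom
  haveI := isIso_left (α_ (CoactBr.sp R B') T W).hom
  haveI := isIso_left (α_ (CoactBr.sp R B) T W).inv
  haveI := isIso_left (β_ W (CoactBr.sp R B ⊗ T)).inv
  infer_instance

end

end Groth.Agent.H9.SDM
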