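import Mathlib
import Groth.Prelude.Def_GmAct
import Groth.Agent.Lib.Helper9.Misc.SDM2
import Groth.Agent.Lib.Helper9.Misc.FFA1

set_option autoImplicit false

open CategoryTheory CategoryTheory.Limits MonoidalCategory CartesianMonoidalCategory MonObj GrpObj
  AlgebraicGeometry Opposite
open scoped TensorProduct Polynomial

universe u

namespace Groth.Agent.H9.SDM

noncomputable section

attribute [local instance] CoactBr.braidedAlgSpecOf

variable (R : Type u) [CommRing R]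

/-- the inclusion of the multiplicative group in the line -/
abbrev jj : ThetaS.Gm R ⟶ ThetaS.Line R := CoactBr.pt (ThetaS.linePt (ThetaS.zPow R 1))

/-- a linear retraction of `R[X] → R[z, z⁻¹]` -/
def lauRetr : ThetaS.Lau R →ₗ[R] R[X] :=
  (Polynomial.toFinsuppIsoLinear R).symm.toLinearMap ∘ₗ
    (AddMonoidAlgebra.coeffLinearEquiv R).symm.toLinearMap ∘ₗ
      Finsupp.lcomapDomain (fun n : ℕ => Multiplicative.ofAdd (n : ℤ))
        (fun a b h => by simpa using h) ∘ₗ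
        (MonoidAlgebra.coeffLinearEquiv R).toLinearMap

theorem linePt_monomial (n : ℕ) (a : R) :
    ThetaS.linePt (ThetaS.zPow R 1) (Polynomial.monomial n a) =
      MonoidAlgebra.single (Multiplicative.ofAdd (n : ℤ)) a := by
  rw [Polynomial.aeval_monomial, MonoidAlgebra.single_pow, one_pow, ← ofAdd_nsmul]
  simp [MonoidAlgebra.single_mul_single]

theorem lauRetr_single (n : ℕ) (a : R) :
    lauRetr R (MonoidAlgebra.single (Multiplicative.ofAdd (n : ℤ)) a) = Polynomial.monomial n a := by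
  have h : lauRetr R (MonoidAlgebra.single (Multiplicative.ofAdd (n : ℤ)) a) =
      (Polynomial.toFinsuppIsoLinear R).symm (AddMonoidAlgebra.single n a) := by
    simp [lauRetr]
  rw [h]
  exact Polynomial.ofFinsupp_single n a

theorem lauRetr_apply (p : R[X]) : lauRetr R (ThetaS.linePt (ThetaS.zPow R 1) p) = p := by
  induction p using Polynomial.induction_on' with
  | add p q hp hq => rw [map_add, map_add, hp, hq]
  | monomial n a => rw [linePt_monomial, lauRetr_single]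

abbrev KK : Type u := ThetaS.Lau R ⊗[R] ThetaS.Lau R
abbrev inl : ThetaS.Lau R →ₐ[R] KK R := Algebra.TensorProduct.includeLeft
abbrev inr : ThetaS.Lau R →ₐ[R] KK R := Algebra.TensorProduct.includeRight

theorem K0 : (ThetaS.Gm R ◁ jj R) ≫ (ThetaS.lineAction R).act = μ[ThetaS.Gm R] ≫ jj R := by
  have hP : lift (CoactBr.pt (inl R)) (CoactBr.pt (inr R)) ≫
      Functor.LaxMonoidal.μ (algSpec (CommRingCat.of R)) (op (.of R (ThetaS.Lau R)))
        (op (.of R (ThetaS.Lau R))) = 𝟙 _ := by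
    have h0 := CoactBr.lift_pt_pt (R := R) (inl R) (inr R)
    have h1 : (Algebra.TensorProduct.lift (inl R) (inr R) fun _ _ => .all _ _) =
        AlgHom.id R (KK R) := by
      apply Algebra.TensorProduct.ext'
      intro a b
      simp
    rw [h1, CoactBr.pt_id] at h0
    exact h0
  have hPe : (lift (CoactBr.pt (inl R)) (CoactBr.pt (inr R)) :
      CoactBr.sp R (KK R) ⟶ ThetaS.Gm R ⊗ ThetaS.Gm R) =
      (Functor.Monoidal.μIso (algSpec (CommRingCat.of R)) (op (.of R (ThetaS.Lau R)))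
        (op (.of R (ThetaS.Lau R)))).inv := by
    exact (Iso.comp_hom_eq_id (Functor.Monoidal.μIso (algSpec (CommRingCat.of R))
      (op (.of R (ThetaS.Lau R))) (op (.of R (ThetaS.Lau R))))).mp hP
  have hepi : Epi (lift (CoactBr.pt (inl R)) (CoactBr.pt (inr R)) :
      CoactBr.sp R (KK R) ⟶ ThetaS.Gm R ⊗ ThetaS.Gm R) := by
    rw [hPe]; infer_instance
  have hL : lift (CoactBr.pt (inl R)) (CoactBr.pt (inr R)) ≫ (ThetaS.Gm R ◁ jj R) ≫
      (ThetaS.lineAction R).act =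
        CoactBr.pt (ThetaS.linePt (inl R (ThetaS.zPow R 1) * inr R (ThetaS.zPow R 1))) := by
    rw [lift_whiskerLeft_assoc]
    have : CoactBr.pt (inr R) ≫ jj R =
        CoactBr.pt (ThetaS.linePt (inr R (ThetaS.zPow R 1))) := by
      rw [← CoactBr.pt_comp]
      congr 1
      apply Polynomial.algHom_ext
      simp
    rw [this]
    exact ThetaS.lineAction_pt (inl R) (inr R (ThetaS.zPow R 1))
  have hR : lift (CoactBr.pt (inl R)) (CoactBr.pt (inr R)) ≫ μ[ThetaS.Gm R] ≫ jj R =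
      CoactBr.pt (ThetaS.linePt (inl R (ThetaS.zPow R 1) * inr R (ThetaS.zPow R 1))) := by
    rw [← Category.assoc]
    have : lift (CoactBr.pt (inl R)) (CoactBr.pt (inr R)) ≫ μ[ThetaS.Gm R] =
        CoactBr.pt (inl R) * CoactBr.pt (inr R) := (Hom.mul_def _ _).symm
    rw [this, CoactBr.pt_mul_pt, ← CoactBr.pt_comp]
    congr 1
    apply Polynomial.algHom_ext
    simp [Bialgebra.comulAlgHom_apply]
  exact (cancel_epi _).mp (hL.trans hR.symm)

variable {R}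

theorem K0' {Z : Over (Spec (CommRingCat.of R))} (g h : Z ⟶ ThetaS.Gm R) :
    lift g (h ≫ jj R) ≫ (ThetaS.lineAction R).act = (g * h) ≫ jj R := by
  rw [← lift_whiskerLeft, Category.assoc, K0, Hom.mul_def, Category.assoc]

theorem lemA (T : Over (Spec (CommRingCat.of R))) :
    (ThetaS.Gm R ◁ lift ((1 : T ⟶ ThetaS.Gm R) ≫ jj R) (𝟙 T)) ≫
      (α_ (ThetaS.Gm R) (ThetaS.Line R) T).inv ≫ ((ThetaS.lineAction R).act ▷ T) = jj R ▷ T := by
  have key : ∀ {Z : Over (Spec (CommRingCat.of R))} (g : Z ⟶ ThetaS.Gm R) (t : Z ⟶ T),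
      lift g t ≫ (ThetaS.Gm R ◁ lift ((1 : T ⟶ ThetaS.Gm R) ≫ jj R) (𝟙 T)) ≫
        (α_ (ThetaS.Gm R) (ThetaS.Line R) T).inv ≫ ((ThetaS.lineAction R).act ▷ T) =
      lift g t ≫ (jj R ▷ T) := by
    intro Z g t
    rw [lift_whiskerLeft_assoc, comp_lift, lift_lift_associator_inv_assoc, lift_whiskerRight,
      lift_whiskerRight, Category.comp_id, ← Category.assoc t, K0']
    have h1 : t ≫ (1 : T ⟶ ThetaS.Gm R) = 1 := by simp [Hom.one_def]
    rw [h1, _root_.mul_one]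
  have := key (fst (ThetaS.Gm R) T) (snd (ThetaS.Gm R) T)
  rwa [lift_fst_snd, Category.id_comp, Category.id_comp] at this

theorem partA (X : Over (Spec (CommRingCat.of R))) [IsSeparated X.hom]
    (a : AlgGrp.Action (ThetaS.Gm R) X) (T : Over (Spec (CommRingCat.of R)))
    (u v : ThetaS.Line R ⊗ T ⟶ X)
    (hu : (α_ (ThetaS.Gm R) (ThetaS.Line R) T).inv ≫ ((ThetaS.lineAction R).act ▷ T) ≫ u =
      (ThetaS.Gm R ◁ u) ≫ a.act)
    (hv : (α_ (ThetaS.Gm R) (ThetaS.Line R) T).inv ≫ ((ThetaS.lineAction R).act ▷ T) ≫ v =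
      (ThetaS.Gm R ◁ v) ≫ a.act)
    (he : lift ((1 : T ⟶ ThetaS.Gm R) ≫ jj R) (𝟙 T) ≫ u =
      lift ((1 : T ⟶ ThetaS.Gm R) ≫ jj R) (𝟙 T) ≫ v) : u = v := by
  have key : ∀ w : ThetaS.Line R ⊗ T ⟶ X,
      (α_ (ThetaS.Gm R) (ThetaS.Line R) T).inv ≫ ((ThetaS.lineAction R).act ▷ T) ≫ w =
        (ThetaS.Gm R ◁ w) ≫ a.act →
      (jj R ▷ T) ≫ w =
        (ThetaS.Gm R ◁ (lift ((1 : T ⟶ ThetaS.Gm R) ≫ jj R) (𝟙 T) ≫ w)) ≫ a.act := by
    intro w hw
    rw [← lemA T, Category.assoc, Category.assoc, hw, MonoidalCategory.whiskerLeft_comp,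
      Category.assoc]
  have h1 : (jj R ▷ T) ≫ u = (jj R ▷ T) ≫ v := by rw [key u hu, key v hv, he]
  haveI := dominant_whiskerRight (ThetaS.linePt (ThetaS.zPow R 1)) (lauRetr R) (lauRetr_apply R) T
  apply Over.OverMorphism.ext
  refine Groth.Agent.H9.FFA.ext_of_schDominant_of_isSeparated X.hom ?_ (jj R ▷ T).left ?_
  · rw [Over.w, Over.w]
  · rw [← Over.comp_left, ← Over.comp_left, h1]

theorem partB (X : Over (Spec (CommRingCat.of R))) [IsSeparated X.hom]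
    (a : AlgGrp.Action (ThetaS.Gm R) X) (T : Over (Spec (CommRingCat.of R)))
    (x : T ⟶ X) (u : ThetaS.Line R ⊗ T ⟶ X)
    (hu : (jj R ▷ T) ≫ u = (ThetaS.Gm R ◁ x) ≫ a.act) :
    (α_ (ThetaS.Gm R) (ThetaS.Line R) T).inv ≫ ((ThetaS.lineAction R).act ▷ T) ≫ u =
      (ThetaS.Gm R ◁ u) ≫ a.act := by
  have hact : (ThetaS.Gm R ◁ a.act) ≫ a.act =
      (α_ (ThetaS.Gm R) (ThetaS.Gm R) X).inv ≫ (μ[ThetaS.Gm R] ▷ X) ≫ a.act := by
    rw [a.mul_act, Iso.inv_hom_id_assoc]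
  have claim : (ThetaS.Gm R ◁ (jj R ▷ T)) ≫
      ((α_ (ThetaS.Gm R) (ThetaS.Line R) T).inv ≫ ((ThetaS.lineAction R).act ▷ T) ≫ u) =
      (ThetaS.Gm R ◁ (jj R ▷ T)) ≫ ((ThetaS.Gm R ◁ u) ≫ a.act) := by
    calc (ThetaS.Gm R ◁ (jj R ▷ T)) ≫
          ((α_ (ThetaS.Gm R) (ThetaS.Line R) T).inv ≫ ((ThetaS.lineAction R).act ▷ T) ≫ u)
        = (α_ (ThetaS.Gm R) (ThetaS.Gm R) T).inv ≫ ((ThetaS.Gm R ◁ jj R) ▷ T) ≫
            ((ThetaS.lineAction R).act ▷ T) ≫ u := by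
          rw [associator_inv_naturality_middle_assoc]
      _ = (α_ (ThetaS.Gm R) (ThetaS.Gm R) T).inv ≫ (μ[ThetaS.Gm R] ▷ T) ≫ (jj R ▷ T) ≫ u := by
          rw [← MonoidalCategory.comp_whiskerRight_assoc, K0, MonoidalCategory.comp_whiskerRight,
            Category.assoc]
      _ = (α_ (ThetaS.Gm R) (ThetaS.Gm R) T).inv ≫ ((ThetaS.Gm R ⊗ ThetaS.Gm R) ◁ x) ≫
            (μ[ThetaS.Gm R] ▷ X) ≫ a.act := by
          rw [hu, ← whisker_exchange_assoc]
      _ = (ThetaS.Gm R ◁ ThetaS.Gm R ◁ x) ≫ (α_ (ThetaS.Gm R) (ThetaS.Gm R) X).inv ≫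
            (μ[ThetaS.Gm R] ▷ X) ≫ a.act := by
          rw [← associator_inv_naturality_right_assoc]
      _ = (ThetaS.Gm R ◁ ThetaS.Gm R ◁ x) ≫ (ThetaS.Gm R ◁ a.act) ≫ a.act := by rw [hact]
      _ = (ThetaS.Gm R ◁ ((ThetaS.Gm R ◁ x) ≫ a.act)) ≫ a.act := by
          rw [MonoidalCategory.whiskerLeft_comp, Category.assoc]
      _ = (ThetaS.Gm R ◁ (jj R ▷ T)) ≫ ((ThetaS.Gm R ◁ u) ≫ a.act) := by
          rw [← hu, MonoidalCategory.whiskerLeft_comp, Category.assoc]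
  haveI := dominant_whiskerLeft_whiskerRight (ThetaS.linePt (ThetaS.zPow R 1)) (lauRetr R)
    (lauRetr_apply R) (ThetaS.Gm R) T
  apply Over.OverMorphism.ext
  refine Groth.Agent.H9.FFA.ext_of_schDominant_of_isSeparated X.hom ?_
    (ThetaS.Gm R ◁ (jj R ▷ T)).left ?_
  · rw [Over.w, Over.w]
  · rw [← Over.comp_left, ← Over.comp_left, claim]

end

end Groth.Agent.H9.SDM
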