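import Mathlib
import Groth.Agent.Lib.Helper9.Misc.CLO3

/-!
# Strongly étale equivariant maps (helper9; S19412)
-/

set_option autoImplicit false
set_option linter.style.haveILetI false
set_option linter.unusedSectionVars false
set_option linter.unusedVariables false

universe u

open TensorProduct WithConv Topology

namespace Groth.Agent.H9.SET

open Groth.Agent.H9 Groth.Agent.H9.Comod Groth.Agent.H9.GIT Groth.Agent.H9.CLO

section Top

variable {S R : Type*} [CommRing S] [CommRing R] (φ : S →+* R) (K : Ideal R)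
  (h : ∀ r : R, ∃ s : S, r - φ s ∈ K)

include h in
theorem isClosed_image_zeroLocus :
    IsClosed (PrimeSpectrum.comap φ '' PrimeSpectrum.zeroLocus (K : Set R)) := by
  have hsurj : Function.Surjective ((Ideal.Quotient.mk K).comp φ) := by
    intro y
    obtain ⟨r, rfl⟩ := Ideal.Quotient.mk_surjective y
    obtain ⟨s, hs⟩ := h r
    refine ⟨s, ?_⟩
    rw [RingHom.comp_apply]
    exact (Ideal.Quotient.eq.mpr (by rw [← neg_sub]; exact neg_mem hs))
  have h1 : PrimeSpectrum.zeroLocus (K : Set R) =
      Set.range (PrimeSpectrum.comap (Ideal.Quotient.mk K)) := by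
    rw [_root_.range_comap_of_surjective _ _ Ideal.Quotient.mk_surjective, Ideal.mk_ker]
  rw [h1, ← Set.range_comp]
  exact PrimeSpectrum.isClosed_range_comap_of_surjective _ ((Ideal.Quotient.mk K).comp φ) hsurj

include h in
theorem injOn_zeroLocus :
    Set.InjOn (PrimeSpectrum.comap φ) (PrimeSpectrum.zeroLocus (K : Set R)) := by
  have key : ∀ (P P' : PrimeSpectrum R), P ∈ PrimeSpectrum.zeroLocus (K : Set R) →
      P' ∈ PrimeSpectrum.zeroLocus (K : Set R) →
      PrimeSpectrum.comap φ P = PrimeSpectrum.comap φ P' → P.asIdeal ≤ P'.asIdeal := by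
    intro P P' hP hP' hPP' r hr
    obtain ⟨s, hs⟩ := h r
    have hsP : r - φ s ∈ P.asIdeal := (PrimeSpectrum.mem_zeroLocus _ _).mp hP hs
    have hsP' : r - φ s ∈ P'.asIdeal := (PrimeSpectrum.mem_zeroLocus _ _).mp hP' hs
    have h1 : φ s ∈ P.asIdeal := by
      have := P.asIdeal.sub_mem hr hsP
      rwa [sub_sub_cancel] at this
    have h2 : s ∈ (PrimeSpectrum.comap φ P).asIdeal := h1
    rw [hPP'] at h2
    have h3 : φ s ∈ P'.asIdeal := h2
    have := P'.asIdeal.add_mem hsP' h3
    rwa [sub_add_cancel] at this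
  intro P hP P' hP' hPP'
  exact PrimeSpectrum.ext (le_antisymm (key P P' hP hP' hPP') (key P' P hP' hP hPP'.symm))

end Top

section Main

variable {k : Type u} [Field k] [IsAlgClosed k] {A : Type u} [CommRing A] [HopfAlgebra k A]
  [Algebra.FiniteType k A]
  {S : Type u} [CommRing S] [Algebra k S] [Algebra.FiniteType k S] [HopfRep.Comod k A S]
  [GLin.IsCoactAlg k A S]
  {R : Type u} [CommRing R] [Algebra k R] [Algebra.FiniteType k R] [HopfRep.Comod k A R]
  [GLin.IsCoactAlg k A R]
  [Algebra S R] [IsScalarTower k S R]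
  (hequiv : ∀ s : S, HopfRep.Comod.coact (k := k) (A := A) (algebraMap S R s) =
    Algebra.TensorProduct.map (IsScalarTower.toAlgHom k S R) (AlgHom.id k A)
      (HopfRep.Comod.coact (k := k) (A := A) s))
  {R₀ : Type u} [CommRing R₀] [Algebra R₀ R]
  (hinv : ∀ r₀ : R₀, algebraMap R₀ R r₀ ∈ HopfRep.fixedPts k A R)
  (hspan : ∀ r : R, r ∈ Submodule.span S (Set.range (algebraMap R₀ R)))

/-- the ideal of the fibre of the quotient map through `x` -/
def mR (x : R →ₐ[k] k) : Ideal R :=
  Ideal.span (Set.range fun r₀ : R₀ =>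
    algebraMap R₀ R r₀ - algebraMap k R (x (algebraMap R₀ R r₀)))

include hspan in
lemma exists_sub_mem_mR (x : R →ₐ[k] k) (r : R) :
    ∃ s : S, r - algebraMap S R s ∈ mR (R₀ := R₀) x := by
  have hr := hspan r
  induction hr using Submodule.span_induction with
  | mem r hr =>
    obtain ⟨r₀, rfl⟩ := hr
    refine ⟨algebraMap k S (x (algebraMap R₀ R r₀)), ?_⟩
    rw [← IsScalarTower.algebraMap_apply k S R]
    exact Ideal.subset_span ⟨r₀, rfl⟩
  | zero => exact ⟨0, by rw [map_zero, sub_zero]; exact zero_mem _⟩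
  | add u v hu hv ihu ihv =>
    obtain ⟨s₁, h₁⟩ := ihu
    obtain ⟨s₂, h₂⟩ := ihv
    refine ⟨s₁ + s₂, ?_⟩
    have : u + v - algebraMap S R (s₁ + s₂) =
        (u - algebraMap S R s₁) + (v - algebraMap S R s₂) := by rw [map_add]; ring
    rw [this]; exact add_mem h₁ h₂
  | smul s u hu ih =>
    obtain ⟨s₁, h₁⟩ := ih
    refine ⟨s * s₁, ?_⟩
    have : s • u - algebraMap S R (s * s₁) = algebraMap S R s * (u - algebraMap S R s₁) := by
      rw [map_mul, Algebra.smul_def]; ring
    rw [this]; exact Ideal.mul_mem_left _ _ h₁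

include hinv in
lemma mR_le_ker (x : R →ₐ[k] k) :
    mR (R₀ := R₀) x ≤ RingHom.ker (GLin.orbitHom k A x).toRingHom := by
  rw [mR, Ideal.span_le]
  rintro _ ⟨r₀, rfl⟩
  show GLin.orbitHom k A x (algebraMap R₀ R r₀ - algebraMap k R (x (algebraMap R₀ R r₀))) = 0
  rw [map_sub, orbitHom_of_mem_fixedPts x (hinv r₀), AlgHom.commutes, sub_self]

include hequiv hinv hspan in
theorem closed_iff (x : R →ₐ[k] k) :
    GLin.IsClosedOrbit k A x ↔
      GLin.IsClosedOrbit k A (x.comp (IsScalarTower.toAlgHom k S R)) := by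
  have hK : ∀ r : R, ∃ s : S,
      r - algebraMap S R s ∈ RingHom.ker (GLin.orbitHom k A x).toRingHom := by
    intro r
    obtain ⟨s, hs⟩ := exists_sub_mem_mR (R₀ := R₀) hspan x r
    exact ⟨s, mR_le_ker hinv x hs⟩
  have hrange : Set.range (cO (A := A) (x.comp (IsScalarTower.toAlgHom k S R))) =
      cφ (S := S) '' Set.range (cO (A := A) x) := range_cO_comp hequiv x
  constructor
  · intro hx
    change IsClosed (Set.range (cO (A := A) (x.comp (IsScalarTower.toAlgHom k S R))))
    rw [hrange]
    have hcl : Set.range (cO (A := A) x) =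
        PrimeSpectrum.zeroLocus (RingHom.ker (GLin.orbitHom k A x).toRingHom : Set R) := by
      have h1 : IsClosed (Set.range (cO (A := A) x)) := hx
      rw [← h1.closure_eq]
      exact PrimeSpectrum.closure_range_comap _
    rw [hcl]
    exact isClosed_image_zeroLocus (algebraMap S R) _ hK
  · intro hy'
    have hy'' : IsClosed (Set.range (cO (A := A) (x.comp (IsScalarTower.toAlgHom k S R)))) := hy'
    change IsClosed (Set.range (cO (A := A) x))
    have hsub : Set.range (cO (A := A) x) ⊆
        PrimeSpectrum.zeroLocus (mR (R₀ := R₀) x : Set R) := by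
      rintro _ ⟨p, rfl⟩
      rw [PrimeSpectrum.mem_zeroLocus]
      intro f hf
      have h0 : GLin.orbitHom k A x f = 0 := mR_le_ker hinv x hf
      show f ∈ (cO x p).asIdeal
      rw [mem_cO, h0]
      exact zero_mem _
    have heq : Set.range (cO (A := A) x) =
        (cφ (S := S)) ⁻¹' (Set.range (cO (A := A) (x.comp (IsScalarTower.toAlgHom k S R)))) ∩
          PrimeSpectrum.zeroLocus (mR (R₀ := R₀) x : Set R) := by
      apply Set.Subset.antisymm
      · intro P hP
        refine ⟨?_, hsub hP⟩
        rw [hrange]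
        exact ⟨P, hP, rfl⟩
      · rintro P ⟨hP1, hP2⟩
        rw [Set.mem_preimage, hrange] at hP1
        obtain ⟨Q, hQ, hQP⟩ := hP1
        have : Q = P := injOn_zeroLocus (algebraMap S R) _ (exists_sub_mem_mR hspan x)
          (hsub hQ) hP2 hQP
        rw [← this]; exact hQ
    rw [heq]
    exact (hy''.preimage (PrimeSpectrum.continuous_comap _)).inter
      (PrimeSpectrum.isClosed_zeroLocus _)

include hequiv hinv hspan in
theorem fix_of_fix (x : R →ₐ[k] k) (g : A →ₐ[k] k)
    (hg : GLin.actPt k g (x.comp (IsScalarTower.toAlgHom k S R)) =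
      x.comp (IsScalarTower.toAlgHom k S R)) :
    GLin.actPt k g x = x := by
  apply AlgHom.ext
  intro r
  have hr := hspan r
  induction hr using Submodule.span_induction with
  | mem r hr =>
    obtain ⟨r₀, rfl⟩ := hr
    show g (GLin.orbitHom k A x (algebraMap R₀ R r₀)) = x (algebraMap R₀ R r₀)
    rw [orbitHom_of_mem_fixedPts x (hinv r₀), AlgHom.commutes, Algebra.algebraMap_self_apply]
  | zero => rw [map_zero, map_zero]
  | add u v hu hv ihu ihv => rw [map_add, map_add, ihu, ihv]
  | smul s u hu ih =>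
    rw [Algebra.smul_def, map_mul, map_mul, ih]
    congr 1
    have h1 : GLin.orbitHom k A x (algebraMap S R s) =
        GLin.orbitHom k A (x.comp (IsScalarTower.toAlgHom k S R)) s :=
      orbitHom_map (IsScalarTower.toAlgHom k S R) hequiv x s
    show g (GLin.orbitHom k A x (algebraMap S R s)) = x (algebraMap S R s)
    rw [h1]
    exact AlgHom.congr_fun hg s

end Main

section Cart

variable {S₀ S R₀ R : Type u} [CommRing S₀] [CommRing S] [CommRing R₀] [CommRing R]
  [Algebra S₀ S] [Algebra S R] [Algebra R₀ R] [Algebra S₀ R₀] [Algebra S₀ R]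
  [IsScalarTower S₀ S R] [IsScalarTower S₀ R₀ R]

theorem etale_of_cart (het₀ : Algebra.Etale S₀ R₀)
    (hcart : Function.Bijective (Algebra.TensorProduct.productMap
      (IsScalarTower.toAlgHom S₀ S R) (IsScalarTower.toAlgHom S₀ R₀ R))) :
    Algebra.Etale S R := by
  let F : S ⊗[S₀] R₀ →ₐ[S] R :=
    Algebra.TensorProduct.productLeftAlgHom (Algebra.ofId S R) (IsScalarTower.toAlgHom S₀ R₀ R)
  have hF : ∀ z, F z = Algebra.TensorProduct.productMap
      (IsScalarTower.toAlgHom S₀ S R) (IsScalarTower.toAlgHom S₀ R₀ R) z := by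
    intro z
    induction z using TensorProduct.induction_on with
    | zero => simp
    | tmul s r => simp [F]
    | add x y hx hy => simp only [map_add, hx, hy]
  have hFbij : Function.Bijective F := by
    have : (F : S ⊗[S₀] R₀ → R) = Algebra.TensorProduct.productMap
        (IsScalarTower.toAlgHom S₀ S R) (IsScalarTower.toAlgHom S₀ R₀ R) := funext hF
    rw [this]; exact hcart
  exact Algebra.Etale.of_equiv (AlgEquiv.ofBijective F hFbij)

theorem span_of_cart
    (hcart : Function.Surjective (Algebra.TensorProduct.productMap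
      (IsScalarTower.toAlgHom S₀ S R) (IsScalarTower.toAlgHom S₀ R₀ R))) (r : R) :
    r ∈ Submodule.span S (Set.range (algebraMap R₀ R)) := by
  obtain ⟨z, rfl⟩ := hcart r
  induction z using TensorProduct.induction_on with
  | zero => rw [map_zero]; exact zero_mem _
  | tmul s r₀ =>
    rw [Algebra.TensorProduct.productMap_apply_tmul]
    have : (IsScalarTower.toAlgHom S₀ S R) s * (IsScalarTower.toAlgHom S₀ R₀ R) r₀ =
        s • algebraMap R₀ R r₀ := by
      rw [Algebra.smul_def]; rfl
    rw [this]
    exact Submodule.smul_mem _ s (Submodule.subset_span ⟨r₀, rfl⟩)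
  | add x y hx hy => rw [map_add]; exact add_mem hx hy

end Cart

end Groth.Agent.H9.SET
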