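import Mathlib
import Groth.Agent.Lib.Helper9.Misc.SET1
import Groth.Agent.Lib.Helper9.ComodColon
import Groth.Agent.Lib.Helper9.ComodInvRing

/-!
# Strongly étale maps restrict to closed invariant subschemes (helper9; S19408)
-/

set_option autoImplicit false
set_option linter.style.haveILetI false
set_option linter.unusedSectionVars false
set_option linter.unusedVariables false

universe u

open TensorProduct

namespace Groth.Agent.H9.SET

open Groth.Agent.H9 Groth.Agent.H9.Comod Groth.Agent.H9.CLO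

section PureAlg

/-- lifting a ring map through an injective ring map whose range contains its image -/
theorem exists_ringHom_lift {S₀ S₁ T : Type*} [CommRing S₀] [CommRing S₁] [CommRing T]
    (i : S₁ →+* T) (hi : Function.Injective i) (g : S₀ →+* T)
    (h : ∀ s₀, ∃ s₁, i s₁ = g s₀) : ∃ σ : S₀ →+* S₁, ∀ s₀, i (σ s₀) = g s₀ := by
  have hbij : Function.Bijective i.rangeRestrict :=
    ⟨fun a b hab => hi (congrArg Subtype.val hab), i.rangeRestrict_surjective⟩
  let e : S₁ ≃+* i.range := RingEquiv.ofBijective i.rangeRestrict hbij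
  have hmem : ∀ s₀, g s₀ ∈ i.range := fun s₀ => by
    obtain ⟨s₁, hs₁⟩ := h s₀
    exact ⟨s₁, hs₁⟩
  refine ⟨e.symm.toRingHom.comp (g.codRestrict i.range hmem), fun s₀ => ?_⟩
  have h1 : e (e.symm (g.codRestrict i.range hmem s₀)) = g.codRestrict i.range hmem s₀ :=
    e.apply_symm_apply _
  have h2 := congrArg Subtype.val h1
  exact h2

/-- étaleness descends along a square of surjections which is a pushout. -/
theorem etale_of_surjective_square {S₀ R₀ S₁ R₁ : Type u} [CommRing S₀] [CommRing R₀]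
    [CommRing S₁] [CommRing R₁]
    (f₀ : S₀ →+* R₀) (f₁ : S₁ →+* R₁) (σ : S₀ →+* S₁) (ρ : R₀ →+* R₁)
    (hσ : Function.Surjective σ) (hρ : Function.Surjective ρ)
    (hcomm : ∀ s₀, f₁ (σ s₀) = ρ (f₀ s₀))
    (hker : RingHom.ker ρ ≤ Ideal.map f₀ (RingHom.ker σ))
    (hf₀ : f₀.Etale) : f₁.Etale := by
  letI : Algebra S₀ R₀ := f₀.toAlgebra
  have hfa : algebraMap S₀ R₀ = f₀ := RingHom.algebraMap_toAlgebra f₀
  haveI : Algebra.Etale S₀ R₀ := hf₀
  have hkerEq : Ideal.map (algebraMap S₀ R₀) (RingHom.ker σ) = RingHom.ker ρ := by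
    rw [hfa]
    apply le_antisymm _ hker
    rw [Ideal.map_le_iff_le_comap]
    intro s hs
    rw [Ideal.mem_comap, RingHom.mem_ker, ← hcomm, RingHom.mem_ker.mp hs, map_zero]
  let eS : S₀ ⧸ RingHom.ker σ ≃+* S₁ := RingHom.quotientKerEquivOfSurjective hσ
  let eR : R₀ ⧸ Ideal.map (algebraMap S₀ R₀) (RingHom.ker σ) ≃+* R₁ :=
    (Ideal.quotEquivOfEq hkerEq).trans (RingHom.quotientKerEquivOfSurjective hρ)
  have het' : (algebraMap (S₀ ⧸ RingHom.ker σ)
      (R₀ ⧸ Ideal.map (algebraMap S₀ R₀) (RingHom.ker σ))).Etale := by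
    rw [RingHom.etale_algebraMap]
    exact Algebra.Etale.of_equiv
      (Algebra.TensorProduct.quotIdealMapEquivQuotTensor R₀ (RingHom.ker σ)).symm
  have h1 := RingHom.Etale.respectsIso.1 _ eR het'
  have h2 := RingHom.Etale.respectsIso.2 _ eS.symm h1
  have heq : f₁ = (eR.toRingHom.comp (algebraMap (S₀ ⧸ RingHom.ker σ)
      (R₀ ⧸ Ideal.map (algebraMap S₀ R₀) (RingHom.ker σ)))).comp eS.symm.toRingHom := by
    apply RingHom.ext
    intro s₁
    obtain ⟨s₀, rfl⟩ := hσ s₁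
    show f₁ (σ s₀) = eR (algebraMap _ _ (eS.symm (σ s₀)))
    have h3 : eS.symm (σ s₀) = Ideal.Quotient.mk _ s₀ :=
      RingHom.quotientKerEquivOfSurjective_symm_apply hσ s₀
    rw [h3, hcomm]
    show ρ (f₀ s₀) = RingHom.quotientKerEquivOfSurjective hρ
      (Ideal.quotEquivOfEq hkerEq (Ideal.Quotient.mk _ (algebraMap S₀ R₀ s₀)))
    rw [Ideal.quotEquivOfEq_mk, RingHom.quotientKerEquivOfSurjective_apply_mk, hfa]
  rw [heq]
  exact h2

section UP

variable {S₀ S R₀ R : Type u} [CommRing S₀] [CommRing S] [CommRing R₀] [CommRing R]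
  [Algebra S₀ S] [Algebra S R] [Algebra R₀ R] [Algebra S₀ R₀] [Algebra S₀ R]
  [IsScalarTower S₀ S R] [IsScalarTower S₀ R₀ R]

/-- the universal property of a cocartesian square. -/
theorem exists_desc (hcart : Function.Bijective (Algebra.TensorProduct.productMap
      (IsScalarTower.toAlgHom S₀ S R) (IsScalarTower.toAlgHom S₀ R₀ R)))
    {T : Type u} [CommRing T] (α : S →+* T) (β : R₀ →+* T)
    (h : ∀ s₀ : S₀, α (algebraMap S₀ S s₀) = β (algebraMap S₀ R₀ s₀)) :
    ∃ γ : R →+* T, (∀ s, γ (algebraMap S R s) = α s) ∧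
      (∀ r₀, γ (algebraMap R₀ R r₀) = β r₀) := by
  letI : Algebra S₀ T := (α.comp (algebraMap S₀ S)).toAlgebra
  let α' : S →ₐ[S₀] T := { α with commutes' := fun s₀ => rfl }
  let β' : R₀ →ₐ[S₀] T := { β with commutes' := fun s₀ => (h s₀).symm }
  let e : S ⊗[S₀] R₀ ≃+* R := RingEquiv.ofBijective (Algebra.TensorProduct.productMap
      (IsScalarTower.toAlgHom S₀ S R) (IsScalarTower.toAlgHom S₀ R₀ R)) hcart
  refine ⟨(Algebra.TensorProduct.productMap α' β').toRingHom.comp e.symm.toRingHom, ?_, ?_⟩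
  · intro s
    have h1 : e.symm (algebraMap S R s) = s ⊗ₜ[S₀] (1 : R₀) := by
      rw [RingEquiv.symm_apply_eq]
      show algebraMap S R s = Algebra.TensorProduct.productMap
        (IsScalarTower.toAlgHom S₀ S R) (IsScalarTower.toAlgHom S₀ R₀ R) (s ⊗ₜ[S₀] (1 : R₀))
      rw [Algebra.TensorProduct.productMap_apply_tmul, map_one, _root_.mul_one]
      rfl
    show Algebra.TensorProduct.productMap α' β' (e.symm (algebraMap S R s)) = α s
    rw [h1, Algebra.TensorProduct.productMap_apply_tmul, map_one, _root_.mul_one]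
    rfl
  · intro r₀
    have h1 : e.symm (algebraMap R₀ R r₀) = (1 : S) ⊗ₜ[S₀] r₀ := by
      rw [RingEquiv.symm_apply_eq]
      show algebraMap R₀ R r₀ = Algebra.TensorProduct.productMap
        (IsScalarTower.toAlgHom S₀ S R) (IsScalarTower.toAlgHom S₀ R₀ R) ((1 : S) ⊗ₜ[S₀] r₀)
      rw [Algebra.TensorProduct.productMap_apply_tmul, map_one, _root_.one_mul]
      rfl
    show Algebra.TensorProduct.productMap α' β' (e.symm (algebraMap R₀ R r₀)) = β r₀
    rw [h1, Algebra.TensorProduct.productMap_apply_tmul, map_one, _root_.one_mul]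
    rfl

/-- a cocartesian square restricts to a cocartesian square on compatible quotients. -/
theorem cart_descent {S₁ R₁ : Type u} [CommRing S₁] [CommRing R₁]
    (hcart : Function.Bijective (Algebra.TensorProduct.productMap
      (IsScalarTower.toAlgHom S₀ S R) (IsScalarTower.toAlgHom S₀ R₀ R)))
    (J : Ideal S)
    [Algebra S₁ (S ⧸ J)] [Algebra R₁ (R ⧸ J.map (algebraMap S R))] [Algebra S₁ R₁]
    [Algebra S₁ (R ⧸ J.map (algebraMap S R))]
    [IsScalarTower S₁ (S ⧸ J) (R ⧸ J.map (algebraMap S R))]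
    [IsScalarTower S₁ R₁ (R ⧸ J.map (algebraMap S R))]
    (σ : S₀ →+* S₁) (ρ : R₀ →+* R₁)
    (hσ : ∀ s₀, algebraMap S₁ (S ⧸ J) (σ s₀) = Ideal.Quotient.mk J (algebraMap S₀ S s₀))
    (hρ : ∀ r₀, algebraMap R₁ (R ⧸ J.map (algebraMap S R)) (ρ r₀) =
      Ideal.Quotient.mk _ (algebraMap R₀ R r₀))
    (hρsurj : Function.Surjective ρ)
    (hcomm : ∀ s₀, algebraMap S₁ R₁ (σ s₀) = ρ (algebraMap S₀ R₀ s₀)) :
    Function.Bijective (Algebra.TensorProduct.productMap
      (IsScalarTower.toAlgHom S₁ (S ⧸ J) (R ⧸ J.map (algebraMap S R)))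
      (IsScalarTower.toAlgHom S₁ R₁ (R ⧸ J.map (algebraMap S R)))) := by
  set P := Algebra.TensorProduct.productMap
      (IsScalarTower.toAlgHom S₁ (S ⧸ J) (R ⧸ J.map (algebraMap S R)))
      (IsScalarTower.toAlgHom S₁ R₁ (R ⧸ J.map (algebraMap S R))) with hP
  have hPtmul : ∀ (s : S) (r₀ : R₀), P (Ideal.Quotient.mk J s ⊗ₜ[S₁] ρ r₀) =
      Ideal.Quotient.mk _ (algebraMap S R s * algebraMap R₀ R r₀) := by
    intro s r₀
    rw [hP, Algebra.TensorProduct.productMap_apply_tmul, IsScalarTower.coe_toAlgHom',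
      IsScalarTower.coe_toAlgHom', hρ, map_mul]
    rfl
  let α : S →+* (S ⧸ J) ⊗[S₁] R₁ :=
    (Algebra.TensorProduct.includeLeft : (S ⧸ J) →ₐ[S₁] (S ⧸ J) ⊗[S₁] R₁).toRingHom.comp
      (Ideal.Quotient.mk J)
  let β : R₀ →+* (S ⧸ J) ⊗[S₁] R₁ :=
    (Algebra.TensorProduct.includeRight : R₁ →ₐ[S₁] (S ⧸ J) ⊗[S₁] R₁).toRingHom.comp ρ
  have hα : ∀ s, α s = Ideal.Quotient.mk J s ⊗ₜ[S₁] (1 : R₁) := fun s => rfl
  have hβ : ∀ r₀, β r₀ = (1 : S ⧸ J) ⊗ₜ[S₁] ρ r₀ := fun r₀ => rfl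
  have hαβ : ∀ s₀ : S₀, α (algebraMap S₀ S s₀) = β (algebraMap S₀ R₀ s₀) := by
    intro s₀
    rw [hα, hβ, ← hσ, Algebra.TensorProduct.tmul_one_eq_one_tmul, hcomm]
  obtain ⟨γ', hγ1, hγ2⟩ := exists_desc hcart α β hαβ
  have hkill : ∀ a ∈ J.map (algebraMap S R), γ' a = 0 := by
    have : J.map (algebraMap S R) ≤ RingHom.ker γ' := by
      rw [Ideal.map_le_iff_le_comap]
      intro j hj
      rw [Ideal.mem_comap, RingHom.mem_ker, hγ1, hα, Ideal.Quotient.eq_zero_iff_mem.mpr hj,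
        zero_tmul]
    intro a ha
    exact RingHom.mem_ker.mp (this ha)
  let γ := Ideal.Quotient.lift (J.map (algebraMap S R)) γ' hkill
  have hleft : ∀ z, γ (P z) = z := by
    intro z
    induction z using TensorProduct.induction_on with
    | zero => rw [map_zero, map_zero]
    | tmul sb r₁ =>
      obtain ⟨s, rfl⟩ := Ideal.Quotient.mk_surjective sb
      obtain ⟨r₀, rfl⟩ := hρsurj r₁
      rw [hPtmul]
      show γ' (algebraMap S R s * algebraMap R₀ R r₀) = _
      rw [map_mul, hγ1, hγ2, hα, hβ, Algebra.TensorProduct.tmul_mul_tmul, _root_.mul_one,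
        _root_.one_mul]
    | add x y hx hy => rw [map_add, map_add, hx, hy]
  refine ⟨Function.LeftInverse.injective hleft, ?_⟩
  intro rb
  obtain ⟨r, rfl⟩ := Ideal.Quotient.mk_surjective rb
  have hr := span_of_cart (S₀ := S₀) hcart.2 r
  induction hr using Submodule.span_induction with
  | mem x hx =>
    obtain ⟨r₀, rfl⟩ := hx
    refine ⟨(1 : S ⧸ J) ⊗ₜ[S₁] ρ r₀, ?_⟩
    have := hPtmul 1 r₀
    rw [map_one, map_one, _root_.one_mul] at this
    exact this
  | zero => exact ⟨0, by rw [map_zero, map_zero]⟩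
  | add x y hx hy ihx ihy =>
    obtain ⟨zx, hzx⟩ := ihx
    obtain ⟨zy, hzy⟩ := ihy
    exact ⟨zx + zy, by rw [map_add, hzx, hzy, map_add]⟩
  | smul s x hx ih =>
    obtain ⟨zx, hzx⟩ := ih
    refine ⟨(Ideal.Quotient.mk J s ⊗ₜ[S₁] (1 : R₁)) * zx, ?_⟩
    rw [map_mul, hzx, Algebra.smul_def, map_mul]
    congr 1
    have := hPtmul s 1
    rw [map_one, map_one, _root_.mul_one] at this
    exact this

end UP

end PureAlg

section Group

variable {k : Type u} [Field k] {A : Type u} [CommRing A] [HopfAlgebra k A]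
  {S : Type u} [CommRing S] [Algebra k S] [HopfRep.Comod k A S] [GLin.IsCoactAlg k A S]
  {S₀ R₀ R : Type u} [CommRing S₀] [CommRing R₀] [CommRing R]
  [Algebra S₀ S] [Algebra S R] [Algebra R₀ R] [Algebra S₀ R₀] [Algebra S₀ R]
  [IsScalarTower S₀ S R] [IsScalarTower S₀ R₀ R]

/-- `J R ∩ R₀ ⊆ (J ∩ S₀) R₀` for a stable ideal `J`, via the Reynolds operator. -/
theorem mem_map_comap_of_mem_map (hss : HopfRep.IsSemisimpleComod k A S)
    (hS₀a : ∀ s₀ : S₀, algebraMap S₀ S s₀ ∈ HopfRep.fixedPts k A S)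
    (hS₀b : ∀ s ∈ HopfRep.fixedPts k A S, ∃ s₀ : S₀, algebraMap S₀ S s₀ = s)
    (hcart : Function.Bijective (Algebra.TensorProduct.productMap
      (IsScalarTower.toAlgHom S₀ S R) (IsScalarTower.toAlgHom S₀ R₀ R)))
    (hR₀i : Function.Injective (algebraMap R₀ R))
    (J : Ideal S) (hJ : HopfRep.IsSubcomod (k := k) (A := A) (J.restrictScalars k))
    (r₀ : R₀) (h : algebraMap R₀ R r₀ ∈ J.map (algebraMap S R)) :
    r₀ ∈ Ideal.map (algebraMap S₀ R₀) (Ideal.comap (algebraMap S₀ S) J) := by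
  obtain ⟨E, hE₁, hE₂, hE₃⟩ := exists_reynolds hss
  let E' : S →ₗ[S₀] S :=
    { toFun := E
      map_add' := E.map_add
      map_smul' := fun s₀ s => by
        rw [Algebra.smul_def, Algebra.smul_def, RingHom.id_apply]
        exact InvRing.reynolds_mul_of_mem_invariants hss E hE₁ hE₂ hE₃ s (hS₀a s₀) }
  have hE' : ∀ s, E' s = E s := fun s => rfl
  set P₀ := Algebra.TensorProduct.productMap (IsScalarTower.toAlgHom S₀ S R)
    (IsScalarTower.toAlgHom S₀ R₀ R) with hP₀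
  -- Step 1
  have step1 : ∀ x ∈ J.map (algebraMap S R),
      ∃ w ∈ LinearMap.range ((J.restrictScalars S₀).subtype.rTensor R₀), P₀ w = x := by
    intro x hx
    refine Submodule.span_induction
      (p := fun x _ => ∃ w ∈ LinearMap.range ((J.restrictScalars S₀).subtype.rTensor R₀),
        P₀ w = x) ?_ ?_ ?_ ?_ hx
    · rintro _ ⟨j, hj, rfl⟩
      refine ⟨j ⊗ₜ[S₀] (1 : R₀),
        ⟨(⟨j, hj⟩ : J.restrictScalars S₀) ⊗ₜ[S₀] (1 : R₀), by rw [LinearMap.rTensor_tmul]; rfl⟩,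
        ?_⟩
      rw [hP₀, Algebra.TensorProduct.productMap_apply_tmul, map_one, _root_.mul_one]
      rfl
    · exact ⟨0, zero_mem _, map_zero _⟩
    · rintro x y _ _ ⟨wx, hwx, rfl⟩ ⟨wy, hwy, rfl⟩
      exact ⟨wx + wy, add_mem hwx hwy, map_add _ _ _⟩
    · rintro r x _ ⟨w, hw, rfl⟩
      obtain ⟨z, rfl⟩ := hcart.2 r
      refine ⟨w * z, mul_mem_range_rTensor J hw z, ?_⟩
      rw [map_mul, smul_eq_mul, mul_comm]
  -- Step 3
  have step3 : ∀ w' : (J.restrictScalars S₀) ⊗[S₀] R₀,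
      ∃ r' ∈ Ideal.map (algebraMap S₀ R₀) (Ideal.comap (algebraMap S₀ S) J),
        (E'.rTensor R₀) ((J.restrictScalars S₀).subtype.rTensor R₀ w') =
          (1 : S) ⊗ₜ[S₀] r' := by
    intro w'
    induction w' using TensorProduct.induction_on with
    | zero => exact ⟨0, zero_mem _, by rw [map_zero, map_zero, tmul_zero]⟩
    | tmul j r =>
      have hEj : E (j : S) ∈ J :=
        reynolds_mem_of_isSubcomod hss E hE₁ hE₂ hE₃ (J.restrictScalars k) hJ (x := (j : S)) j.2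
      obtain ⟨j₀, hj₀⟩ := hS₀b _ (reynolds_mem_fixedPts E hE₂ hE₃ (j : S))
      have hj₀J : j₀ ∈ Ideal.comap (algebraMap S₀ S) J := by
        rw [Ideal.mem_comap, hj₀]; exact hEj
      refine ⟨algebraMap S₀ R₀ j₀ * r,
        Ideal.mul_mem_right _ _ (Ideal.mem_map_of_mem _ hj₀J), ?_⟩
      rw [LinearMap.rTensor_tmul, LinearMap.rTensor_tmul, Submodule.subtype_apply, hE', ← hj₀,
        Algebra.algebraMap_eq_smul_one, TensorProduct.smul_tmul, Algebra.smul_def]
    | add x y hx hy =>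
      obtain ⟨rx, hrx, hx'⟩ := hx
      obtain ⟨ry, hry, hy'⟩ := hy
      exact ⟨rx + ry, add_mem hrx hry, by rw [map_add, map_add, hx', hy', tmul_add]⟩
  -- Step 2
  have hP1 : P₀ ((1 : S) ⊗ₜ[S₀] r₀) = algebraMap R₀ R r₀ := by
    rw [hP₀, Algebra.TensorProduct.productMap_apply_tmul, map_one, _root_.one_mul]
    rfl
  obtain ⟨w, hw, hwP⟩ := step1 _ h
  have hw1 : w = (1 : S) ⊗ₜ[S₀] r₀ := hcart.1 (by rw [hwP, hP1])
  obtain ⟨w', rfl⟩ := hw
  obtain ⟨r', hr', hEw⟩ := step3 w'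
  rw [hw1, LinearMap.rTensor_tmul, hE'] at hEw
  have hE1 : E (1 : S) = 1 := (hE₃ 1).mpr (GLin.invariants k A S).one_mem
  rw [hE1] at hEw
  have h2 := congrArg P₀ hEw
  have hP1' : P₀ ((1 : S) ⊗ₜ[S₀] r') = algebraMap R₀ R r' := by
    rw [hP₀, Algebra.TensorProduct.productMap_apply_tmul, map_one, _root_.one_mul]
    rfl
  rw [hP1, hP1'] at h2
  rw [hR₀i h2]
  exact hr'

end Group

end Groth.Agent.H9.SET
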