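import Mathlib
import Groth.Agent.Lib.Helper9.Misc.SET2

/-!
# Strongly étale maps restrict to closed invariant subschemes: main theorem (helper9; S19408)
-/

set_option autoImplicit false
set_option linter.style.haveILetI false
set_option linter.unusedSectionVars false
set_option linter.unusedVariables false

universe u

open TensorProduct

namespace Groth.Agent.H9.SET

open Groth.Agent.H9 Groth.Agent.H9.Comod Groth.Agent.H9.CLO

theorem S19408_main (k : Type u) [Field k] [IsAlgClosed k] [CharZero k]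
    (A : Type u) [CommRing A] [HopfAlgebra k A] [Algebra.FiniteType k A] (hG : HopfRep.IsLinearlyReductive k A)
    (S : Type u) [CommRing S] [Algebra k S] [Algebra.FiniteType k S] [HopfRep.Comod k A S] [GLin.IsCoactAlg k A S]
    (R : Type u) [CommRing R] [Algebra k R] [Algebra.FiniteType k R] [HopfRep.Comod k A R] [GLin.IsCoactAlg k A R]
    [Algebra S R] [IsScalarTower k S R]
    (hequiv : (∀ s : S, HopfRep.Comod.coact (k := k) (A := A) (algebraMap S R s) =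
      Algebra.TensorProduct.map (IsScalarTower.toAlgHom k S R) (AlgHom.id k A) (HopfRep.Comod.coact (k := k) (A := A) s)))
    (S₀ : Type u) [CommRing S₀] [Algebra k S₀] [Algebra S₀ S] [IsScalarTower k S₀ S]
    (hS₀i : Function.Injective (algebraMap S₀ S)) (hS₀ : (IsScalarTower.toAlgHom k S₀ S).range = GLin.invariants k A S)
    (R₀ : Type u) [CommRing R₀] [Algebra k R₀] [Algebra R₀ R] [IsScalarTower k R₀ R]
    (hR₀i : Function.Injective (algebraMap R₀ R)) (hR₀ : (IsScalarTower.toAlgHom k R₀ R).range = GLin.invariants k A R)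
    [Algebra S₀ R₀] [Algebra S₀ R] [IsScalarTower S₀ S R] [IsScalarTower S₀ R₀ R]
    (het : Algebra.Etale S R) (het₀ : Algebra.Etale S₀ R₀)
    (hcart : Function.Bijective (Algebra.TensorProduct.productMap (IsScalarTower.toAlgHom S₀ S R) (IsScalarTower.toAlgHom S₀ R₀ R)))
    (J : Ideal S) (hJ : HopfRep.IsSubcomod (k := k) (A := A) (J.restrictScalars k))
    [HopfRep.Comod k A (S ⧸ J)] [GLin.IsCoactAlg k A (S ⧸ J)]
    (hqS : (∀ s : S, HopfRep.Comod.coact (k := k) (A := A) ((Ideal.Quotient.mkₐ k J) s) =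
        Algebra.TensorProduct.map (Ideal.Quotient.mkₐ k J) (AlgHom.id k A) (HopfRep.Comod.coact (k := k) (A := A) s)))
    [HopfRep.Comod k A (R ⧸ J.map (algebraMap S R))] [GLin.IsCoactAlg k A (R ⧸ J.map (algebraMap S R))]
    (hqR : (∀ s : R, HopfRep.Comod.coact (k := k) (A := A) ((Ideal.Quotient.mkₐ k (J.map (algebraMap S R))) s) =
        Algebra.TensorProduct.map (Ideal.Quotient.mkₐ k (J.map (algebraMap S R))) (AlgHom.id k A) (HopfRep.Comod.coact (k := k) (A := A) s)))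
    (S₁ : Type u) [CommRing S₁] [Algebra k S₁] [Algebra S₁ (S ⧸ J)] [IsScalarTower k S₁ (S ⧸ J)]
    (hS₁i : Function.Injective (algebraMap S₁ (S ⧸ J)))
    (hS₁ : (IsScalarTower.toAlgHom k S₁ (S ⧸ J)).range = GLin.invariants k A (S ⧸ J))
    (R₁ : Type u) [CommRing R₁] [Algebra k R₁] [Algebra R₁ (R ⧸ J.map (algebraMap S R))] [IsScalarTower k R₁ (R ⧸ J.map (algebraMap S R))]
    (hR₁i : Function.Injective (algebraMap R₁ (R ⧸ J.map (algebraMap S R))))
    (hR₁ : (IsScalarTower.toAlgHom k R₁ (R ⧸ J.map (algebraMap S R))).range = GLin.invariants k A (R ⧸ J.map (algebraMap S R)))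
    [Algebra S₁ R₁] [Algebra S₁ (R ⧸ J.map (algebraMap S R))]
    [IsScalarTower S₁ (S ⧸ J) (R ⧸ J.map (algebraMap S R))] [IsScalarTower S₁ R₁ (R ⧸ J.map (algebraMap S R))] :
    Algebra.Etale (S ⧸ J) (R ⧸ J.map (algebraMap S R)) ∧ Algebra.Etale S₁ R₁ ∧
      Function.Bijective (Algebra.TensorProduct.productMap
        (IsScalarTower.toAlgHom S₁ (S ⧸ J) (R ⧸ J.map (algebraMap S R)))
        (IsScalarTower.toAlgHom S₁ R₁ (R ⧸ J.map (algebraMap S R)))) := by
  have hssS : HopfRep.IsSemisimpleComod k A S := isSemisimpleComod_of_fd_semisimple (A := A) hG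
  have hssR : HopfRep.IsSemisimpleComod k A R := isSemisimpleComod_of_fd_semisimple (A := A) hG
  have hcS : Hoch.IsComodHom A (Ideal.Quotient.mkₐ k J).toLinearMap :=
    isComodHom_of_equivariant _ hqS
  have hcR : Hoch.IsComodHom A (Ideal.Quotient.mkₐ k (J.map (algebraMap S R))).toLinearMap :=
    isComodHom_of_equivariant _ hqR
  -- invariants
  have hS₀a : ∀ s₀ : S₀, algebraMap S₀ S s₀ ∈ HopfRep.fixedPts k A S := fun s₀ => by
    have h1 : (IsScalarTower.toAlgHom k S₀ S) s₀ ∈ (IsScalarTower.toAlgHom k S₀ S).range :=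
      AlgHom.mem_range_self _ s₀
    rw [hS₀] at h1; exact h1
  have hS₀b : ∀ s ∈ HopfRep.fixedPts k A S, ∃ s₀ : S₀, algebraMap S₀ S s₀ = s := fun s hs => by
    have h1 : s ∈ (IsScalarTower.toAlgHom k S₀ S).range := by rw [hS₀]; exact hs
    obtain ⟨s₀, hs₀⟩ := h1
    exact ⟨s₀, hs₀⟩
  have hR₀a : ∀ r₀ : R₀, algebraMap R₀ R r₀ ∈ HopfRep.fixedPts k A R := fun r₀ => by
    have h1 : (IsScalarTower.toAlgHom k R₀ R) r₀ ∈ (IsScalarTower.toAlgHom k R₀ R).range :=
      AlgHom.mem_range_self _ r₀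
    rw [hR₀] at h1; exact h1
  have hR₀b : ∀ r ∈ HopfRep.fixedPts k A R, ∃ r₀ : R₀, algebraMap R₀ R r₀ = r := fun r hr => by
    have h1 : r ∈ (IsScalarTower.toAlgHom k R₀ R).range := by rw [hR₀]; exact hr
    obtain ⟨r₀, hr₀⟩ := h1
    exact ⟨r₀, hr₀⟩
  have hS₁a : ∀ s₁ : S₁, algebraMap S₁ (S ⧸ J) s₁ ∈ HopfRep.fixedPts k A (S ⧸ J) := fun s₁ => by
    have h1 : (IsScalarTower.toAlgHom k S₁ (S ⧸ J)) s₁ ∈
        (IsScalarTower.toAlgHom k S₁ (S ⧸ J)).range := AlgHom.mem_range_self _ s₁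
    rw [hS₁] at h1; exact h1
  have hS₁b : ∀ s ∈ HopfRep.fixedPts k A (S ⧸ J), ∃ s₁ : S₁, algebraMap S₁ (S ⧸ J) s₁ = s :=
    fun s hs => by
      have h1 : s ∈ (IsScalarTower.toAlgHom k S₁ (S ⧸ J)).range := by rw [hS₁]; exact hs
      obtain ⟨s₁, hs₁⟩ := h1
      exact ⟨s₁, hs₁⟩
  have hR₁a : ∀ r₁ : R₁, algebraMap R₁ (R ⧸ J.map (algebraMap S R)) r₁ ∈
      HopfRep.fixedPts k A (R ⧸ J.map (algebraMap S R)) := fun r₁ => by
    have h1 : (IsScalarTower.toAlgHom k R₁ (R ⧸ J.map (algebraMap S R))) r₁ ∈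
        (IsScalarTower.toAlgHom k R₁ (R ⧸ J.map (algebraMap S R))).range :=
      AlgHom.mem_range_self _ r₁
    rw [hR₁] at h1; exact h1
  have hR₁b : ∀ r ∈ HopfRep.fixedPts k A (R ⧸ J.map (algebraMap S R)),
      ∃ r₁ : R₁, algebraMap R₁ (R ⧸ J.map (algebraMap S R)) r₁ = r := fun r hr => by
    have h1 : r ∈ (IsScalarTower.toAlgHom k R₁ (R ⧸ J.map (algebraMap S R))).range := by
      rw [hR₁]; exact hr
    obtain ⟨r₁, hr₁⟩ := h1
    exact ⟨r₁, hr₁⟩
  -- the maps between the rings of invariants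
  obtain ⟨σ, hσ⟩ := exists_ringHom_lift (algebraMap S₁ (S ⧸ J)) hS₁i
    ((Ideal.Quotient.mk J).comp (algebraMap S₀ S))
    (fun s₀ => hS₁b _ (map_mem_fixedPts hcS (hS₀a s₀)))
  obtain ⟨ρ, hρ⟩ := exists_ringHom_lift (algebraMap R₁ (R ⧸ J.map (algebraMap S R))) hR₁i
    ((Ideal.Quotient.mk (J.map (algebraMap S R))).comp (algebraMap R₀ R))
    (fun r₀ => hR₁b _ (map_mem_fixedPts hcR (hR₀a r₀)))
  have hσ' : ∀ s₀, algebraMap S₁ (S ⧸ J) (σ s₀) = Ideal.Quotient.mk J (algebraMap S₀ S s₀) :=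
    fun s₀ => hσ s₀
  have hρ' : ∀ r₀, algebraMap R₁ (R ⧸ J.map (algebraMap S R)) (ρ r₀) =
      Ideal.Quotient.mk _ (algebraMap R₀ R r₀) := fun r₀ => hρ r₀
  have hσsurj : Function.Surjective σ := by
    intro s₁
    obtain ⟨v, hv, hv'⟩ := exists_fixedPts_map_eq hssS hcS
      (Ideal.Quotient.mkₐ_surjective k J) (hS₁a s₁)
    obtain ⟨s₀, rfl⟩ := hS₀b v hv
    refine ⟨s₀, hS₁i ?_⟩
    rw [hσ']
    exact hv'
  have hρsurj : Function.Surjective ρ := by
    intro r₁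
    obtain ⟨v, hv, hv'⟩ := exists_fixedPts_map_eq hssR hcR
      (Ideal.Quotient.mkₐ_surjective k (J.map (algebraMap S R))) (hR₁a r₁)
    obtain ⟨r₀, rfl⟩ := hR₀b v hv
    refine ⟨r₀, hR₁i ?_⟩
    rw [hρ']
    exact hv'
  have hcomm : ∀ s₀, algebraMap S₁ R₁ (σ s₀) = ρ (algebraMap S₀ R₀ s₀) := by
    intro s₀
    apply hR₁i
    rw [← IsScalarTower.algebraMap_apply S₁ R₁ (R ⧸ J.map (algebraMap S R)),
      IsScalarTower.algebraMap_apply S₁ (S ⧸ J) (R ⧸ J.map (algebraMap S R)), hσ', hρ',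
      ← IsScalarTower.algebraMap_apply S₀ R₀ R, IsScalarTower.algebraMap_apply S₀ S R]
    rfl
  have hker : RingHom.ker ρ ≤ Ideal.map (algebraMap S₀ R₀) (RingHom.ker σ) := by
    intro r₀ hr₀
    have h0 : ρ r₀ = 0 := hr₀
    have h1 : Ideal.Quotient.mk (J.map (algebraMap S R)) (algebraMap R₀ R r₀) = 0 := by
      rw [← hρ', h0, map_zero]
    have h2 : algebraMap R₀ R r₀ ∈ J.map (algebraMap S R) := Ideal.Quotient.eq_zero_iff_mem.mp h1
    have h3 := mem_map_comap_of_mem_map hssS hS₀a hS₀b hcart hR₀i J hJ r₀ h2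
    have hle : Ideal.comap (algebraMap S₀ S) J ≤ RingHom.ker σ := by
      intro s₀ hs₀
      rw [RingHom.mem_ker]
      apply hS₁i
      rw [hσ', map_zero]
      exact Ideal.Quotient.eq_zero_iff_mem.mpr hs₀
    exact Ideal.map_mono hle h3
  refine ⟨?_, ?_, ?_⟩
  · haveI := het
    exact Algebra.Etale.of_equiv (Algebra.TensorProduct.quotIdealMapEquivQuotTensor R J).symm
  · exact RingHom.etale_algebraMap.mp
      (etale_of_surjective_square (algebraMap S₀ R₀) (algebraMap S₁ R₁) σ ρ hσsurj hρsurj hcomm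
        hker (RingHom.etale_algebraMap.mpr het₀))
  · exact cart_descent hcart J σ ρ hσ' hρ' hρsurj hcomm

end Groth.Agent.H9.SET
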