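import Mathlib
import Groth.Prelude.Def_QuadGrp2
import Groth.Agent.Lib.Helper9.Misc.SO5

/-! The scheme of isometries between two quadratic forms on `R^n`, in matrices; infinitesimal
lifting of isometries between semiregular forms of odd rank (helper9). -/

set_option autoImplicit false

open Matrix TensorProduct MvPolynomial Groth.Agent.H9.SG Groth.Agent.H9.SO

namespace Groth.Agent.H9.SF

universe u

section Mat

variable {n : ℕ}

/-- the defect of `U` from being an isometry from the form with Gram matrix `c` to the form with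
Gram matrix `c'` -/
def defect₂ {A : Type*} [CommRing A] (c c' U : Matrix (Fin n) (Fin n) A) :
    Matrix (Fin n) (Fin n) A :=
  Uᵀ * c' * U - c

theorem ringHom_defect₂ {A B : Type*} [CommRing A] [CommRing B] (φ : A →+* B)
    (c c' U : Matrix (Fin n) (Fin n) A) :
    φ.mapMatrix (defect₂ c c' U) =
      defect₂ (φ.mapMatrix c) (φ.mapMatrix c') (φ.mapMatrix U) := by
  simp only [defect₂, map_sub, map_mul, ringHom_transpose]

theorem isAlt₂_of_algHom {R : Type*} [CommRing R] {A B : Type*} [CommRing A] [Algebra R A]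
    [CommRing B] [Algebra R B] (ψ : A →ₐ[R] B) (c c' : Matrix (Fin n) (Fin n) R)
    {U : Matrix (Fin n) (Fin n) A} (h : IsAltMat (defect₂ (gr A c) (gr A c') U)) :
    IsAltMat (defect₂ (gr B c) (gr B c') ((ψ : A →+* B).mapMatrix U)) := by
  have := h.ringHom (ψ : A →+* B)
  rwa [ringHom_defect₂, ringHom_gr, ringHom_gr] at this

variable {R : Type u} [CommRing R]

/-- the relations: the two-form defect of the generic matrix is alternating -/
noncomputable def extraI (c c' : Matrix (Fin n) (Fin n) R) : Set (MvPolynomial (Var n) R) :=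
  (Set.range fun j : Fin n =>
    defect₂ (gr (MvPolynomial (Var n) R) c) (gr (MvPolynomial (Var n) R) c') (Xm R n) j j) ∪
  (Set.range fun jk : Fin n × Fin n =>
    defect₂ (gr (MvPolynomial (Var n) R) c) (gr (MvPolynomial (Var n) R) c') (Xm R n) jk.1 jk.2 +
      defect₂ (gr (MvPolynomial (Var n) R) c) (gr (MvPolynomial (Var n) R) c') (Xm R n) jk.2 jk.1)

theorem extraI_finite (c c' : Matrix (Fin n) (Fin n) R) : (extraI c c').Finite :=
  (Set.finite_range _).union (Set.finite_range _)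

variable (c c' : Matrix (Fin n) (Fin n) R)

/-- the coordinate ring of the scheme of isometries -/
abbrev AI : Type u := A0 (0 : Matrix (Fin n) (Fin n) R) (extraI c c')

/-- the projection -/
noncomputable abbrev projI : MvPolynomial (Var n) R →ₐ[R] AI c c' :=
  proj (0 : Matrix (Fin n) (Fin n) R) (extraI c c')

/-- the universal isometry -/
noncomputable abbrev XI : Matrix (Fin n) (Fin n) (AI c c') :=
  Xb (0 : Matrix (Fin n) (Fin n) R) (extraI c c')

/-- its inverse -/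
noncomputable abbrev YI : Matrix (Fin n) (Fin n) (AI c c') :=
  Yb (0 : Matrix (Fin n) (Fin n) R) (extraI c c')

theorem finitePresentation_AI : Algebra.FinitePresentation R (AI c c') :=
  finitePresentation_A0 _ _ (extraI_finite c c')

theorem isAlt_XI : IsAltMat (defect₂ (gr (AI c c') c) (gr (AI c c') c') (XI c c')) := by
  have h : defect₂ (gr (AI c c') c) (gr (AI c c') c') (XI c c') =
      (projI c c' : MvPolynomial (Var n) R →+* AI c c').mapMatrix
        (defect₂ (gr (MvPolynomial (Var n) R) c) (gr (MvPolynomial (Var n) R) c') (Xm R n)) := by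
    rw [ringHom_defect₂, ringHom_gr, ringHom_gr]
    rfl
  rw [h]
  constructor
  · intro j
    show projI c c' (defect₂ (gr (MvPolynomial (Var n) R) c) (gr (MvPolynomial (Var n) R) c')
      (Xm R n) j j) = 0
    exact proj_extra _ _ (Or.inl ⟨j, rfl⟩)
  · intro j k
    show projI c c' (defect₂ (gr (MvPolynomial (Var n) R) c) (gr (MvPolynomial (Var n) R) c')
        (Xm R n) j k) +
      projI c c' (defect₂ (gr (MvPolynomial (Var n) R) c) (gr (MvPolynomial (Var n) R) c')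
        (Xm R n) k j) = 0
    rw [← map_add]
    exact proj_extra _ _ (Or.inr ⟨(j, k), rfl⟩)

theorem hextraI {C : Type*} [CommRing C] [Algebra R C] (U V : Matrix (Fin n) (Fin n) C)
    (halt : IsAltMat (defect₂ (gr C c) (gr C c') U)) :
    ∀ p ∈ extraI c c', aeval (pt U V) p = 0 := by
  have hdef : ((aeval (pt U V) : MvPolynomial (Var n) R →ₐ[R] C) :
      MvPolynomial (Var n) R →+* C).mapMatrix
      (defect₂ (gr (MvPolynomial (Var n) R) c) (gr (MvPolynomial (Var n) R) c') (Xm R n)) =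
      defect₂ (gr C c) (gr C c') U := by
    rw [ringHom_defect₂, ringHom_gr, ringHom_gr, aeval_Xm]
  intro p hp
  rcases hp with ⟨j, rfl⟩ | ⟨jk, rfl⟩
  · exact (congrFun (congrFun hdef j) j).trans (halt.1 j)
  · rw [map_add]
    exact (congrArg₂ (· + ·) (congrFun (congrFun hdef jk.1) jk.2)
      (congrFun (congrFun hdef jk.2) jk.1)).trans (halt.2 jk.1 jk.2)

theorem defect_zero {C : Type*} [CommRing C] [Algebra R C] (U : Matrix (Fin n) (Fin n) C) :
    defect (gr C (0 : Matrix (Fin n) (Fin n) R)) U = 0 := by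
  rw [gr, map_zero, defect, Matrix.mul_zero, Matrix.zero_mul, sub_zero]

/-- the universal property of the coordinate ring of the scheme of isometries -/
theorem exists_homI {C : Type*} [CommRing C] [Algebra R C] (U V : Matrix (Fin n) (Fin n) C)
    (hUV : U * V = 1) (hVU : V * U = 1) (halt : IsAltMat (defect₂ (gr C c) (gr C c') U)) :
    ∃ ψ : AI c c' →ₐ[R] C, (ψ : AI c c' →+* C).mapMatrix (XI c c') = U ∧
      (ψ : AI c c' →+* C).mapMatrix (YI c c') = V :=
  exists_hom _ _ U V hUV hVU (by rw [defect_zero]; exact IsAltMat.zero') (hextraI c c' U V halt)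

end Mat

section Bridge

variable {R : Type u} [CommRing R] {n : ℕ} (Q Q' : QuadraticForm R (Fin n → R))

theorem gammaMat₂ (A : Type u) [CommRing A] [Algebra R A]
    (g : (A ⊗[R] (Fin n → R)) →ₗ[A] (A ⊗[R] (Fin n → R))) :
    LinearMap.toMatrix₂ (bas R n A) (bas R n A) ((betaA Q' A).compl₁₂ g g - betaA Q A) =
      defect₂ (gr A (cQ Q)) (gr A (cQ Q'))
        (LinearMap.toMatrix (bas R n A) (bas R n A) g) := by
  rw [defect₂, ← toMatrix₂_betaA Q A, ← toMatrix₂_betaA Q' A,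
    ← LinearMap.toMatrix₂_compl₁₂ (bas R n A) (bas R n A)]
  ext i j
  simp only [LinearMap.toMatrix₂_apply, LinearMap.sub_apply, Matrix.sub_apply]

theorem gamma_apply₂ (A : Type u) [CommRing A] [Algebra R A]
    (g : (A ⊗[R] (Fin n → R)) →ₗ[A] (A ⊗[R] (Fin n → R))) (v : A ⊗[R] (Fin n → R)) :
    ((betaA Q' A).compl₁₂ g g - betaA Q A) v v =
      QuadGrp.baseChangeForm A Q' (g v) - QuadGrp.baseChangeForm A Q v := by
  rw [LinearMap.sub_apply, LinearMap.sub_apply, LinearMap.compl₁₂_apply, betaA_apply, betaA_apply]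
  rfl

theorem isometry₂_iff_isAlt (A : Type u) [CommRing A] [Algebra R A]
    (g : (A ⊗[R] (Fin n → R)) →ₗ[A] (A ⊗[R] (Fin n → R))) :
    (∀ v, QuadGrp.baseChangeForm A Q' (g v) = QuadGrp.baseChangeForm A Q v) ↔
      IsAltMat (defect₂ (gr A (cQ Q)) (gr A (cQ Q'))
        (LinearMap.toMatrix (bas R n A) (bas R n A) g)) := by
  rw [← gammaMat₂, ← alt_iff (bas R n A)]
  refine forall_congr' fun v => ?_
  rw [gamma_apply₂, sub_eq_zero]

theorem halfDisc_bcf (A : Type u) [CommRing A] [Algebra R A] :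
    QuadGrp.halfDisc (bas R n A) (LinearEquiv.refl A A) (QuadGrp.baseChangeForm A Q) =
      algebraMap R A (QuadGrp.halfDisc (Pi.basisFun R (Fin n)) (LinearEquiv.refl R R) Q) := by
  rw [Groth.Agent.H9.QO.halfDisc_eq_hd, Groth.Agent.H9.QO.halfDisc_eq_hd,
    Groth.Agent.H9.QO.coeffs_baseChange, Groth.Agent.H7.QG.map_hd]

/-- the determinant of an isometry between two forms of odd rank -/
theorem det_sq₂ (hn : Odd n) (B : Type u) [CommRing B] [Algebra R B]
    (U V : Matrix (Fin n) (Fin n) B) (hUV : U * V = 1) (hVU : V * U = 1)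
    (halt : IsAltMat (defect₂ (gr B (cQ Q)) (gr B (cQ Q')) U)) :
    U.det ^ 2 * algebraMap R B
        (QuadGrp.halfDisc (Pi.basisFun R (Fin n)) (LinearEquiv.refl R R) Q') =
      algebraMap R B (QuadGrp.halfDisc (Pi.basisFun R (Fin n)) (LinearEquiv.refl R R) Q) := by
  have hiso : ∀ v, QuadGrp.baseChangeForm B Q' ((equivOfMat (R := R) B U V hUV hVU).toLinearMap v) =
      QuadGrp.baseChangeForm B Q v := by
    rw [isometry₂_iff_isAlt, toMatrix_equivOfMat]
    exact halt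
  have hcomp : (QuadGrp.baseChangeForm B Q').comp (equivOfMat (R := R) B U V hUV hVU).toLinearMap =
      QuadGrp.baseChangeForm B Q := QuadraticMap.ext fun v => hiso v
  have h1 := Groth.Agent.H7.QG.halfDisc_comp hn (bas R n B) (QuadGrp.baseChangeForm B Q')
    (equivOfMat (R := R) B U V hUV hVU).toLinearMap
  rw [hcomp, ← LinearMap.det_toMatrix (bas R n B), toMatrix_equivOfMat, halfDisc_bcf,
    halfDisc_bcf] at h1
  exact h1.symm

end Bridge

section Local

variable {R : Type u} [CommRing R] {m : ℕ} (Q Q' : QuadraticForm R (Fin (2 * m + 1) → R))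

/-- the local case -/
theorem exists_eta_local₂
    (hQ : QuadGrp.IsSemiregular (Pi.basisFun R (Fin (2 * m + 1))) (LinearEquiv.refl R R) Q)
    (B' : Type u) [CommRing B'] [IsLocalRing B'] [Algebra R B'] (I' : Ideal B')
    (hI' : ∀ x ∈ I', ∀ y ∈ I', x * y = 0)
    (U₁ V₁ : Matrix (Fin (2 * m + 1)) (Fin (2 * m + 1)) B') (hUV : U₁ * V₁ = 1)
    (hVU : V₁ * U₁ = 1)
    (hd : ∀ j, defect₂ (gr B' (cQ Q)) (gr B' (cQ Q')) U₁ j j ∈ I')
    (hod : ∀ j k, defect₂ (gr B' (cQ Q)) (gr B' (cQ Q')) U₁ j k +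
      defect₂ (gr B' (cQ Q)) (gr B' (cQ Q')) U₁ k j ∈ I')
    (σ : B')
    (hσ : σ ^ 2 * algebraMap R B'
        (QuadGrp.halfDisc (Pi.basisFun R (Fin (2 * m + 1))) (LinearEquiv.refl R R) Q') =
      algebraMap R B'
        (QuadGrp.halfDisc (Pi.basisFun R (Fin (2 * m + 1))) (LinearEquiv.refl R R) Q))
    (hdet : U₁.det - σ ∈ I') :
    ∃ η, MatIn I' η ∧ IsAltMat (defect₂ (gr B' (cQ Q)) (gr B' (cQ Q')) (U₁ * (1 + η))) := by
  have hn : Odd (2 * m + 1) := ⟨m, rfl⟩
  let b := bas R (2 * m + 1) B'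
  let q := QuadGrp.baseChangeForm B' Q
  let q' := QuadGrp.baseChangeForm B' Q'
  let g₁ := (equivOfMat (R := R) B' U₁ V₁ hUV hVU).toLinearMap
  have hg₁ : LinearMap.toMatrix b b g₁ = U₁ := toMatrix_equivOfMat B' U₁ V₁ hUV hVU
  have hsr : QuadGrp.IsSemiregular b (LinearEquiv.refl B' B') q :=
    Groth.Agent.H9.QO.isSemiregular_baseChange B' (Pi.basisFun R (Fin (2 * m + 1))) Q hQ
  have hcong : ∀ v, (q'.comp g₁) v - q v ∈ I' := by
    intro v
    rw [QuadraticMap.comp_apply, ← gamma_apply₂ Q Q' B' g₁ v]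
    apply alt_mod I' b
    · intro j
      rw [gammaMat₂, hg₁]
      exact hd j
    · intro j k
      rw [gammaMat₂, hg₁]
      exact hod j k
  obtain ⟨u, hu⟩ := hQ
  have hinv : algebraMap R B'
      (QuadGrp.halfDisc (Pi.basisFun R (Fin (2 * m + 1))) (LinearEquiv.refl R R) Q) *
      algebraMap R B' ((↑u⁻¹ : R)) = 1 := by
    rw [← hu, ← map_mul, Units.mul_inv, map_one]
  have hhd : ∃ t ∈ I', QuadGrp.halfDisc b (LinearEquiv.refl B' B') (q'.comp g₁) =
      (1 + 2 * t) * QuadGrp.halfDisc b (LinearEquiv.refl B' B') q := by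
    refine ⟨σ * (U₁.det - σ) * algebraMap R B'
        (QuadGrp.halfDisc (Pi.basisFun R (Fin (2 * m + 1))) (LinearEquiv.refl R R) Q') *
        algebraMap R B' ((↑u⁻¹ : R)), ?_, ?_⟩
    · exact I'.mul_mem_right _ (I'.mul_mem_right _ (I'.mul_mem_left _ hdet))
    · rw [Groth.Agent.H7.QG.halfDisc_comp hn b q' g₁, ← LinearMap.det_toMatrix b, hg₁,
        halfDisc_bcf, halfDisc_bcf]
      have htt := hI' _ hdet _ hdet
      linear_combination hσ + algebraMap R B'
        (QuadGrp.halfDisc (Pi.basisFun R (Fin (2 * m + 1))) (LinearEquiv.refl R R) Q') * htt -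
        2 * σ * (U₁.det - σ) * algebraMap R B'
        (QuadGrp.halfDisc (Pi.basisFun R (Fin (2 * m + 1))) (LinearEquiv.refl R R) Q') * hinv
  obtain ⟨h, hiso, hsmall⟩ := exists_isometry_odd I' hI' m b q (q'.comp g₁) hsr hcong hhd
  refine ⟨LinearMap.toMatrix b b h - 1, hsmall, ?_⟩
  have e : U₁ * (1 + (LinearMap.toMatrix b b h - 1)) = LinearMap.toMatrix b b (g₁ ∘ₗ h) := by
    rw [add_sub_cancel, LinearMap.toMatrix_comp b b b, hg₁]
  rw [e]
  exact (isometry₂_iff_isAlt Q Q' B' (g₁ ∘ₗ h)).mp fun v => hiso v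

end Local

section Global

variable {R : Type u} [CommRing R] {m : ℕ} (Q Q' : QuadraticForm R (Fin (2 * m + 1) → R))

/-- the local-to-global principle for the linearised lifting problem -/
theorem exists_eta_global₂
    (hQ : QuadGrp.IsSemiregular (Pi.basisFun R (Fin (2 * m + 1))) (LinearEquiv.refl R R) Q)
    (B : Type u) [CommRing B] [Algebra R B] (I : Ideal B)
    (hI : ∀ x ∈ I, ∀ y ∈ I, x * y = 0)
    (U₁ V₁ : Matrix (Fin (2 * m + 1)) (Fin (2 * m + 1)) B) (hUV : U₁ * V₁ = 1)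
    (hVU : V₁ * U₁ = 1)
    (hd : ∀ j, defect₂ (gr B (cQ Q)) (gr B (cQ Q')) U₁ j j ∈ I)
    (hod : ∀ j k, defect₂ (gr B (cQ Q)) (gr B (cQ Q')) U₁ j k +
      defect₂ (gr B (cQ Q)) (gr B (cQ Q')) U₁ k j ∈ I)
    (σ : B)
    (hσ : σ ^ 2 * algebraMap R B
        (QuadGrp.halfDisc (Pi.basisFun R (Fin (2 * m + 1))) (LinearEquiv.refl R R) Q') =
      algebraMap R B
        (QuadGrp.halfDisc (Pi.basisFun R (Fin (2 * m + 1))) (LinearEquiv.refl R R) Q))
    (hdet : U₁.det - σ ∈ I) :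
    ∃ η, MatIn I η ∧ IsAltMat (defect₂ (gr B (cQ Q)) (gr B (cQ Q')) (U₁ * (1 + η))) := by
  classical
  obtain ⟨W, hW⟩ : ∃ W, W = U₁ᵀ * gr B (cQ Q') * U₁ := ⟨_, rfl⟩
  obtain ⟨E, hE⟩ : ∃ E, E = defect₂ (gr B (cQ Q)) (gr B (cQ Q')) U₁ := ⟨_, rfl⟩
  have hEW : E = W - gr B (cQ Q) := by rw [hE, hW, defect₂]
  -- reduction to the linearised problem
  have hexp : ∀ η, MatIn I η →
      defect₂ (gr B (cQ Q)) (gr B (cQ Q')) (U₁ * (1 + η)) = E + (ηᵀ * W + W * η) := by
    intro η hη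
    have h1 := expand_defect hI (gr B (cQ Q)) W η hη
    rw [← hEW] at h1
    rw [← h1, defect₂, hW, Matrix.transpose_mul]
    simp only [Matrix.mul_assoc]
  suffices h : ∃ η, MatIn I η ∧ IsAltMat ((1 : B) • E + (ηᵀ * W + W * η)) by
    obtain ⟨η, hη, halt⟩ := h
    refine ⟨η, hη, ?_⟩
    rw [hexp η hη]
    rwa [one_smul] at halt
  -- the ideal of solvable multiples
  let J : Ideal B :=
    { carrier := {b | ∃ η, MatIn I η ∧ IsAltMat (b • E + (ηᵀ * W + W * η))}
      zero_mem' := ⟨0, MatIn.zero, by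
        simp only [zero_smul, Matrix.transpose_zero, Matrix.zero_mul, Matrix.mul_zero, add_zero]
        exact IsAltMat.zero'⟩
      add_mem' := by
        rintro a b ⟨η, hη, h1⟩ ⟨η', hη', h2⟩
        refine ⟨η + η', hη.add hη', ?_⟩
        have e : (a + b) • E + ((η + η')ᵀ * W + W * (η + η')) =
            (a • E + (ηᵀ * W + W * η)) + (b • E + (η'ᵀ * W + W * η')) := by
          rw [Matrix.transpose_add, add_smul, Matrix.add_mul, Matrix.mul_add]
          abel
        rw [e]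
        exact IsAltMat.add' h1 h2
      smul_mem' := by
        rintro c b ⟨η, hη, h1⟩
        refine ⟨c • η, hη.smul c, ?_⟩
        have e : (c • b) • E + ((c • η)ᵀ * W + W * (c • η)) =
            c • (b • E + (ηᵀ * W + W * η)) := by
          rw [Matrix.transpose_smul, Matrix.smul_mul, Matrix.mul_smul, smul_add, smul_add,
            smul_smul, smul_eq_mul]
        rw [e]
        exact IsAltMat.smul' h1 c }
  have hJmem : ∀ b, b ∈ J ↔ ∃ η, MatIn I η ∧ IsAltMat (b • E + (ηᵀ * W + W * η)) :=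
    fun b => Iff.rfl
  by_contra hcon
  have hJne : J ≠ ⊤ := by
    intro h
    apply hcon
    have : (1 : B) ∈ J := by rw [h]; exact Submodule.mem_top
    exact (hJmem 1).mp this
  obtain ⟨P, hPmax, hJP⟩ := Ideal.exists_le_maximal J hJne
  haveI : P.IsPrime := hPmax.isPrime
  let B' := Localization.AtPrime P
  let φ : B →+* B' := algebraMap B B'
  have hII : ∀ x ∈ I.map φ, ∀ y ∈ I.map φ, x * y = 0 := by
    intro x hx y hy
    have h1 : x * y ∈ I.map φ * I.map φ := Ideal.mul_mem_mul hx hy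
    have h2 : I * I = ⊥ := by
      rw [eq_bot_iff, Ideal.mul_le]
      intro a ha b hb
      rw [hI a ha b hb]
      exact Ideal.zero_mem _
    rw [← Ideal.map_mul, h2, Ideal.map_bot] at h1
    exact h1
  have hgr : φ.mapMatrix (gr B (cQ Q)) = gr B' (cQ Q) := gr_tower B B' (cQ Q)
  have hgr' : φ.mapMatrix (gr B (cQ Q')) = gr B' (cQ Q') := gr_tower B B' (cQ Q')
  have hdef : defect₂ (gr B' (cQ Q)) (gr B' (cQ Q')) (φ.mapMatrix U₁) = φ.mapMatrix E := by
    rw [hE, ringHom_defect₂, hgr, hgr']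
  have hd' : ∀ j, defect₂ (gr B' (cQ Q)) (gr B' (cQ Q')) (φ.mapMatrix U₁) j j ∈ I.map φ :=
    fun j => by
      rw [hdef]
      exact Ideal.mem_map_of_mem φ (hE ▸ hd j)
  have hod' : ∀ j k, defect₂ (gr B' (cQ Q)) (gr B' (cQ Q')) (φ.mapMatrix U₁) j k +
      defect₂ (gr B' (cQ Q)) (gr B' (cQ Q')) (φ.mapMatrix U₁) k j ∈ I.map φ := fun j k => by
    rw [hdef]
    show φ (E j k) + φ (E k j) ∈ I.map φ
    rw [← map_add]
    exact Ideal.mem_map_of_mem φ (hE ▸ hod j k)
  have hdet' : (φ.mapMatrix U₁).det - φ σ ∈ I.map φ := by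
    rw [← RingHom.map_det, ← map_sub]
    exact Ideal.mem_map_of_mem φ hdet
  have hσ' : φ σ ^ 2 * algebraMap R B'
        (QuadGrp.halfDisc (Pi.basisFun R (Fin (2 * m + 1))) (LinearEquiv.refl R R) Q') =
      algebraMap R B'
        (QuadGrp.halfDisc (Pi.basisFun R (Fin (2 * m + 1))) (LinearEquiv.refl R R) Q) := by
    have := congrArg φ hσ
    rw [map_mul, map_pow] at this
    rw [IsScalarTower.algebraMap_apply R B B', IsScalarTower.algebraMap_apply R B B']
    exact this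
  obtain ⟨η', hη', halt'⟩ := exists_eta_local₂ Q Q' hQ B' (I.map φ) hII (φ.mapMatrix U₁)
    (φ.mapMatrix V₁) (by rw [← map_mul, hUV, map_one]) (by rw [← map_mul, hVU, map_one])
    hd' hod' (φ σ) hσ' hdet'
  -- expand over the localization
  have hexp' : defect₂ (gr B' (cQ Q)) (gr B' (cQ Q')) (φ.mapMatrix U₁ * (1 + η')) =
      φ.mapMatrix E + (η'ᵀ * φ.mapMatrix W + φ.mapMatrix W * η') := by
    have h1 := expand_defect hII (gr B' (cQ Q)) (φ.mapMatrix W) η' hη'
    have hEW' : φ.mapMatrix E = φ.mapMatrix W - gr B' (cQ Q) := by rw [hEW, map_sub, hgr]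
    rw [← hEW'] at h1
    rw [← h1, defect₂, hW, map_mul, map_mul, ringHom_transpose, hgr', Matrix.transpose_mul]
    simp only [Matrix.mul_assoc]
  rw [hexp'] at halt'
  -- clear denominators
  obtain ⟨s, hsP, y, hyI, hy⟩ := exists_den P.primeCompl B' I
    (fun p : Fin (2 * m + 1) × Fin (2 * m + 1) => η' p.1 p.2) (fun p => hη' p.1 p.2)
  let Y : Matrix (Fin (2 * m + 1)) (Fin (2 * m + 1)) B := Matrix.of fun i j => y (i, j)
  have hYI : MatIn I Y := fun i j => hyI (i, j)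
  have hYη : φ.mapMatrix Y = φ s • η' := by
    ext i j
    show φ (y (i, j)) = φ s * η' i j
    exact (hy (i, j)).symm
  obtain ⟨F, hF⟩ : ∃ F, F = s • E + (Yᵀ * W + W * Y) := ⟨_, rfl⟩
  have hFalt : IsAltMat (φ.mapMatrix F) := by
    have e : φ.mapMatrix F = φ s • (φ.mapMatrix E + (η'ᵀ * φ.mapMatrix W + φ.mapMatrix W * η')) := by
      rw [hF, map_add, map_add, map_mul, map_mul, ringHom_transpose, hYη, Matrix.transpose_smul,
        Matrix.smul_mul, Matrix.mul_smul, smul_add, smul_add]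
      congr 1
      ext i j
      show φ (s * E i j) = φ s * φ (E i j)
      exact map_mul φ _ _
    rw [e]
    exact IsAltMat.smul' halt' _
  obtain ⟨s', hs'P, hkill⟩ := exists_kill P.primeCompl B'
    (Sum.elim (fun j : Fin (2 * m + 1) => F j j)
      (fun p : Fin (2 * m + 1) × Fin (2 * m + 1) => F p.1 p.2 + F p.2 p.1))
    (by
      rintro (j | p)
      · exact hFalt.1 j
      · show φ (F p.1 p.2 + F p.2 p.1) = 0
        rw [map_add]
        exact hFalt.2 p.1 p.2)
  have hmem : s' * s ∈ J := by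
    rw [hJmem]
    refine ⟨s' • Y, hYI.smul s', ?_⟩
    have e : (s' * s) • E + ((s' • Y)ᵀ * W + W * (s' • Y)) = s' • F := by
      rw [hF, Matrix.transpose_smul, Matrix.smul_mul, Matrix.mul_smul, smul_add, smul_add,
        smul_smul]
    rw [e]
    refine ⟨fun j => ?_, fun j k => ?_⟩
    · show s' * F j j = 0
      exact hkill (Sum.inl j)
    · show s' * F j k + s' * F k j = 0
      rw [← mul_add]
      exact hkill (Sum.inr (j, k))
  exact (P.primeCompl.mul_mem hs'P hsP) (hJP hmem)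

end Global

section Lift

variable {R : Type u} [CommRing R] {m : ℕ} (Q Q' : QuadraticForm R (Fin (2 * m + 1) → R))

theorem det_sub_mem {B : Type*} [CommRing B] {n : ℕ} (I : Ideal B)
    (U : Matrix (Fin n) (Fin n) B) (σ : B)
    (h : (red I U).det = Ideal.Quotient.mk I σ) : U.det - σ ∈ I := by
  rw [← Ideal.Quotient.eq_zero_iff_mem, map_sub, RingHom.map_det, sub_eq_zero]
  exact h

/-- lifting isometries between two semiregular forms of odd rank, with prescribed determinant -/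
theorem lift₂
    (hQ : QuadGrp.IsSemiregular (Pi.basisFun R (Fin (2 * m + 1))) (LinearEquiv.refl R R) Q)
    (hQ' : QuadGrp.IsSemiregular (Pi.basisFun R (Fin (2 * m + 1))) (LinearEquiv.refl R R) Q')
    (B : Type u) [CommRing B] [Algebra R B] (I : Ideal B) (hI : I ^ 2 = ⊥) (σ : B)
    (hσ : σ ^ 2 * algebraMap R B
        (QuadGrp.halfDisc (Pi.basisFun R (Fin (2 * m + 1))) (LinearEquiv.refl R R) Q') =
      algebraMap R B
        (QuadGrp.halfDisc (Pi.basisFun R (Fin (2 * m + 1))) (LinearEquiv.refl R R) Q))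
    (Ub Vb : Matrix (Fin (2 * m + 1)) (Fin (2 * m + 1)) (B ⧸ I)) (hUV : Ub * Vb = 1)
    (halt : IsAltMat (defect₂ (gr (B ⧸ I) (cQ Q)) (gr (B ⧸ I) (cQ Q')) Ub))
    (hdet : Ub.det = Ideal.Quotient.mk I σ) :
    ∃ U V : Matrix (Fin (2 * m + 1)) (Fin (2 * m + 1)) B, U * V = 1 ∧ V * U = 1 ∧
      red I U = Ub ∧ IsAltMat (defect₂ (gr B (cQ Q)) (gr B (cQ Q')) U) ∧ U.det = σ := by
  have hI' := sq_zero_of_pow I hI
  have hodd : Odd (2 * m + 1) := ⟨m, rfl⟩
  obtain ⟨U₁, hU₁⟩ := red_surjective I Ub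
  obtain ⟨V₁, hV₁⟩ := red_surjective I Vb
  have hNr : red I (U₁ * V₁ - 1) = 0 := by
    rw [map_sub, map_mul, map_one, hU₁, hV₁, hUV, sub_self]
  have hNN : (U₁ * V₁ - 1) * (U₁ * V₁ - 1) = 0 := mul_eq_zero_of_red I hI hNr hNr
  obtain ⟨V₂, hUV₂⟩ : ∃ V₂, U₁ * V₂ = 1 := by
    refine ⟨V₁ * (1 - (U₁ * V₁ - 1)), ?_⟩
    have e : U₁ * (V₁ * (1 - (U₁ * V₁ - 1))) = 1 - (U₁ * V₁ - 1) * (U₁ * V₁ - 1) := by
      noncomm_ring
    rw [e, hNN, sub_zero]
  have hV₂U : V₂ * U₁ = 1 := mul_eq_one_comm.mp hUV₂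
  have hgr : red I (gr B (cQ Q)) = gr (B ⧸ I) (cQ Q) := by
    ext i j
    rfl
  have hgr' : red I (gr B (cQ Q')) = gr (B ⧸ I) (cQ Q') := by
    ext i j
    rfl
  have hE₁r : IsAltMat (red I (defect₂ (gr B (cQ Q)) (gr B (cQ Q')) U₁)) := by
    rw [ringHom_defect₂ (Ideal.Quotient.mk I), hU₁, hgr, hgr']
    exact halt
  have hd : ∀ j, defect₂ (gr B (cQ Q)) (gr B (cQ Q')) U₁ j j ∈ I := fun j =>
    Ideal.Quotient.eq_zero_iff_mem.mp (hE₁r.1 j)
  have hod : ∀ j k, defect₂ (gr B (cQ Q)) (gr B (cQ Q')) U₁ j k +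
      defect₂ (gr B (cQ Q)) (gr B (cQ Q')) U₁ k j ∈ I := fun j k =>
    Ideal.Quotient.eq_zero_iff_mem.mp (by
      rw [map_add]
      exact hE₁r.2 j k)
  have hdet₁ : U₁.det - σ ∈ I := det_sub_mem I U₁ σ (by rw [hU₁]; exact hdet)
  obtain ⟨η, hη, haltη⟩ := exists_eta_global₂ Q Q' hQ B I hI' U₁ V₂ hUV₂ hV₂U hd hod σ hσ hdet₁
  obtain ⟨hinv1, hinv2⟩ := one_add_mul_one_sub hI' hη
  have hU'V' : U₁ * (1 + η) * ((1 - η) * V₂) = 1 := by
    have e : U₁ * (1 + η) * ((1 - η) * V₂) = U₁ * ((1 + η) * (1 - η)) * V₂ := by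
      simp only [Matrix.mul_assoc]
    rw [e, hinv1, Matrix.mul_one, hUV₂]
  have hV'U' : (1 - η) * V₂ * (U₁ * (1 + η)) = 1 := mul_eq_one_comm.mp hU'V'
  have hηr : red I η = 0 := by
    ext i j
    exact Ideal.Quotient.eq_zero_iff_mem.mpr (hη i j)
  have hU'r : red I (U₁ * (1 + η)) = Ub := by
    rw [map_mul, map_add, map_one, hηr, add_zero, mul_one, hU₁]
  have hsq := det_sq₂ Q Q' hodd B _ _ hU'V' hV'U' haltη
  have hmem : (U₁ * (1 + η)).det - σ ∈ I := det_sub_mem I _ σ (by rw [hU'r]; exact hdet)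
  obtain ⟨t, ht⟩ : ∃ t, t = (U₁ * (1 + η)).det - σ := ⟨_, rfl⟩
  rw [← ht] at hmem
  have hdet' : (U₁ * (1 + η)).det = σ + t := by rw [ht]; ring
  have htt : t * t = 0 := hI' _ hmem _ hmem
  obtain ⟨u, hu⟩ := hQ
  obtain ⟨u', hu'⟩ := hQ'
  have hinv : algebraMap R B
      (QuadGrp.halfDisc (Pi.basisFun R (Fin (2 * m + 1))) (LinearEquiv.refl R R) Q) *
      algebraMap R B ((↑u⁻¹ : R)) = 1 := by
    rw [← hu, ← map_mul, Units.mul_inv, map_one]
  have hinv' : algebraMap R B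
      (QuadGrp.halfDisc (Pi.basisFun R (Fin (2 * m + 1))) (LinearEquiv.refl R R) Q') *
      algebraMap R B ((↑u'⁻¹ : R)) = 1 := by
    rw [← hu', ← map_mul, Units.mul_inv, map_one]
  obtain ⟨s, hs_def⟩ : ∃ s, s = σ * algebraMap R B
      (QuadGrp.halfDisc (Pi.basisFun R (Fin (2 * m + 1))) (LinearEquiv.refl R R) Q') *
      algebraMap R B ((↑u⁻¹ : R)) := ⟨_, rfl⟩
  have hs : σ * s = 1 := by
    rw [hs_def]
    linear_combination algebraMap R B ((↑u⁻¹ : R)) * hσ + hinv
  have hsq' : (σ + t) ^ 2 = σ ^ 2 := by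
    rw [hdet'] at hsq
    linear_combination algebraMap R B ((↑u'⁻¹ : R)) * (hsq - hσ) - ((σ + t) ^ 2 - σ ^ 2) * hinv'
  have h2t : 2 * t = 0 := by
    linear_combination s * hsq' - s * htt - 2 * t * hs
  have hll : (1 - t * s) * (1 - t * s) = 1 := by
    linear_combination (-s) * h2t + s ^ 2 * htt
  refine ⟨(1 - t * s) • (U₁ * (1 + η)), (1 - t * s) • ((1 - η) * V₂), ?_, ?_, ?_, ?_, ?_⟩
  · rw [Matrix.smul_mul, Matrix.mul_smul, hU'V', smul_smul, hll, one_smul]
  · rw [Matrix.smul_mul, Matrix.mul_smul, hV'U', smul_smul, hll, one_smul]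
  · have e : red I ((1 - t * s) • (U₁ * (1 + η))) =
        Ideal.Quotient.mk I (1 - t * s) • red I (U₁ * (1 + η)) := by
      ext i j
      show Ideal.Quotient.mk I ((1 - t * s) * (U₁ * (1 + η)) i j) = _
      rw [map_mul]
      rfl
    have e2 : Ideal.Quotient.mk I (1 - t * s) = 1 := by
      rw [map_sub, map_one, map_mul, Ideal.Quotient.eq_zero_iff_mem.mpr hmem, zero_mul, sub_zero]
    rw [e, e2, one_smul, hU'r]
  · have e : defect₂ (gr B (cQ Q)) (gr B (cQ Q')) ((1 - t * s) • (U₁ * (1 + η))) =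
        defect₂ (gr B (cQ Q)) (gr B (cQ Q')) (U₁ * (1 + η)) := by
      rw [defect₂, defect₂, Matrix.transpose_smul, Matrix.smul_mul, Matrix.smul_mul,
        Matrix.mul_smul, smul_smul, hll, one_smul]
    rw [e]
    exact haltη
  · rw [Matrix.det_smul, Fintype.card_fin, hdet']
    have e1 : (1 - t * s) ^ (2 * m + 1) = 1 + ((2 * m + 1 : ℕ) : B) * (-(t * s)) := by
      have := one_add_pow_of_sq_zero (-(t * s))
        (by linear_combination s ^ 2 * htt) (2 * m + 1)
      rw [← this]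
      ring
    rw [e1]
    push_cast
    linear_combination (-(m : B)) * h2t - (2 * (m : B) + 1) * t * hs -
      (2 * (m : B) + 1) * s * htt

end Lift

end Groth.Agent.H9.SF
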