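import Mathlib
import Groth.Prelude.Def_QuadGrp2
import Groth.Agent.Lib.Helper9.Misc.SF1

/-! The scheme of isometries between two semiregular quadratic forms of odd rank is flat: it is
smooth over the double cover `σ² = disc'(Q)/disc'(Q')` (helper9). -/

set_option autoImplicit false

open Matrix TensorProduct MvPolynomial Groth.Agent.H9.SG Groth.Agent.H9.SO

namespace Groth.Agent.H9.SF

universe u

section Flat

theorem root_sq {R : Type u} [CommRing R] (r : R) :
    (AdjoinRoot.root (Polynomial.X ^ 2 - Polynomial.C r : Polynomial R)) ^ 2 =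
      algebraMap R (AdjoinRoot (Polynomial.X ^ 2 - Polynomial.C r : Polynomial R)) r := by
  have h := AdjoinRoot.eval₂_root (Polynomial.X ^ 2 - Polynomial.C r : Polynomial R)
  rw [Polynomial.eval₂_sub, Polynomial.eval₂_X_pow, Polynomial.eval₂_C, sub_eq_zero] at h
  exact h

variable {R : Type u} [CommRing R] {m : ℕ} (Q Q' : QuadraticForm R (Fin (2 * m + 1) → R))

theorem flat_AI
    (hQ : QuadGrp.IsSemiregular (Pi.basisFun R (Fin (2 * m + 1))) (LinearEquiv.refl R R) Q)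
    (hQ' : QuadGrp.IsSemiregular (Pi.basisFun R (Fin (2 * m + 1))) (LinearEquiv.refl R R) Q') :
    Module.Flat R (AI (cQ Q) (cQ Q')) := by
  classical
  have hodd : Odd (2 * m + 1) := ⟨m, rfl⟩
  obtain ⟨δ, hδ⟩ : ∃ δ, δ =
    QuadGrp.halfDisc (Pi.basisFun R (Fin (2 * m + 1))) (LinearEquiv.refl R R) Q := ⟨_, rfl⟩
  obtain ⟨δ', hδ'⟩ : ∃ δ', δ' =
    QuadGrp.halfDisc (Pi.basisFun R (Fin (2 * m + 1))) (LinearEquiv.refl R R) Q' := ⟨_, rfl⟩
  obtain ⟨u', hu'⟩ := id hQ'
  obtain ⟨r, hr_def⟩ : ∃ r : R, r = δ * ↑u'⁻¹ := ⟨_, rfl⟩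
  have hr : r * δ' = δ := by
    rw [hr_def, hδ', ← hu', mul_assoc, Units.inv_mul, mul_one]
  obtain ⟨f, hf_def⟩ : ∃ f : Polynomial R, f = Polynomial.X ^ 2 - Polynomial.C r := ⟨_, rfl⟩
  have hf : f.Monic := by
    rw [hf_def]
    exact Polynomial.monic_X_pow_sub_C r (by norm_num)
  -- the determinant of the universal isometry
  have hdet := det_sq₂ Q Q' hodd (AI (cQ Q) (cQ Q')) (XI _ _) (YI _ _) (Xb_mul_Yb _ _)
    (Yb_mul_Xb _ _) (isAlt_XI _ _)
  rw [← hδ, ← hδ'] at hdet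
  have hdet2 : (XI (cQ Q) (cQ Q')).det ^ 2 = algebraMap R (AI (cQ Q) (cQ Q')) r := by
    have hinv' : algebraMap R (AI (cQ Q) (cQ Q')) δ' *
        algebraMap R (AI (cQ Q) (cQ Q')) ((↑u'⁻¹ : R)) = 1 := by
      rw [hδ', ← hu', ← map_mul, Units.mul_inv, map_one]
    rw [hr_def, map_mul]
    linear_combination algebraMap R (AI (cQ Q) (cQ Q')) ((↑u'⁻¹ : R)) * hdet -
      (XI (cQ Q) (cQ Q')).det ^ 2 * hinv'
  have hroot : Polynomial.eval₂ (algebraMap R (AI (cQ Q) (cQ Q'))) (XI (cQ Q) (cQ Q')).det f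
      = 0 := by
    rw [hf_def, Polynomial.eval₂_sub, Polynomial.eval₂_X_pow, Polynomial.eval₂_C, hdet2, sub_self]
  let S := AdjoinRoot f
  let φ : S →+* AI (cQ Q) (cQ Q') :=
    AdjoinRoot.lift (algebraMap R (AI (cQ Q) (cQ Q'))) (XI (cQ Q) (cQ Q')).det hroot
  letI : Algebra S (AI (cQ Q) (cQ Q')) := φ.toAlgebra
  haveI : IsScalarTower R S (AI (cQ Q) (cQ Q')) :=
    IsScalarTower.of_algebraMap_eq (fun x => (AdjoinRoot.lift_of hroot).symm)
  have hrootS : (AdjoinRoot.root f) ^ 2 = algebraMap R S r := by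
    subst hf_def
    exact root_sq r
  have halg_root : algebraMap S (AI (cQ Q) (cQ Q')) (AdjoinRoot.root f) =
      (XI (cQ Q) (cQ Q')).det := AdjoinRoot.lift_root hroot
  haveI : Algebra.FinitePresentation R (AI (cQ Q) (cQ Q')) := finitePresentation_AI _ _
  haveI : Algebra.FinitePresentation S (AI (cQ Q) (cQ Q')) :=
    Algebra.FinitePresentation.of_restrict_scalars_finitePresentation R S (AI (cQ Q) (cQ Q'))
  haveI : Algebra.FormallySmooth S (AI (cQ Q) (cQ Q')) := by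
    refine Algebra.FormallySmooth.of_comp_surjective fun B _ _ I hI fb => ?_
    letI : Algebra R B := ((algebraMap S B).comp (algebraMap R S)).toAlgebra
    haveI : IsScalarTower R S B := IsScalarTower.of_algebraMap_eq' rfl
    obtain ⟨fbR, hfbR⟩ : ∃ g : AI (cQ Q) (cQ Q') →ₐ[R] B ⧸ I, g = fb.restrictScalars R :=
      ⟨_, rfl⟩
    have hUV : (fbR : AI (cQ Q) (cQ Q') →+* B ⧸ I).mapMatrix (XI (cQ Q) (cQ Q')) *
        (fbR : AI (cQ Q) (cQ Q') →+* B ⧸ I).mapMatrix (YI (cQ Q) (cQ Q')) = 1 := by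
      rw [← map_mul, Xb_mul_Yb, map_one]
    have halt := isAlt₂_of_algHom fbR (cQ Q) (cQ Q') (isAlt_XI (cQ Q) (cQ Q'))
    have hdetb : ((fbR : AI (cQ Q) (cQ Q') →+* B ⧸ I).mapMatrix (XI (cQ Q) (cQ Q'))).det =
        Ideal.Quotient.mk I (algebraMap S B (AdjoinRoot.root f)) := by
      rw [← RingHom.map_det, ← halg_root, hfbR]
      exact fb.commutes (AdjoinRoot.root f)
    have hσ : (algebraMap S B (AdjoinRoot.root f)) ^ 2 * algebraMap R B
        (QuadGrp.halfDisc (Pi.basisFun R (Fin (2 * m + 1))) (LinearEquiv.refl R R) Q') =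
        algebraMap R B
        (QuadGrp.halfDisc (Pi.basisFun R (Fin (2 * m + 1))) (LinearEquiv.refl R R) Q) := by
      rw [← hδ, ← hδ', ← map_pow, hrootS, ← IsScalarTower.algebraMap_apply R S B, ← map_mul, hr]
    obtain ⟨U, V, hUV', hVU', hU, haltU, hdetU⟩ :=
      lift₂ Q Q' hQ hQ' B I hI _ hσ _ _ hUV halt hdetb
    obtain ⟨ψ, hψX, -⟩ := exists_homI (cQ Q) (cQ Q') U V hUV' hVU' haltU
    have hcomm : ψ.comp (IsScalarTower.toAlgHom R S (AI (cQ Q) (cQ Q'))) =
        IsScalarTower.toAlgHom R S B := by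
      apply AdjoinRoot.algHom_ext
      show ψ (algebraMap S (AI (cQ Q) (cQ Q')) (AdjoinRoot.root f)) =
        algebraMap S B (AdjoinRoot.root f)
      rw [halg_root, ← hdetU, ← hψX]
      exact RingHom.map_det (ψ : AI (cQ Q) (cQ Q') →+* B) _
    let ψS : AI (cQ Q) (cQ Q') →ₐ[S] B :=
      { ψ with commutes' := fun s => AlgHom.congr_fun hcomm s }
    have key : ((Ideal.Quotient.mkₐ S I).comp ψS).restrictScalars R = fbR := by
      apply hom_ext_Xb
      rw [← hU, ← hψX]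
      rfl
    refine ⟨ψS, ?_⟩
    apply AlgHom.restrictScalars_injective R
    rw [key, hfbR]
  haveI : Algebra.Smooth S (AI (cQ Q) (cQ Q')) := ⟨inferInstance, inferInstance⟩
  haveI : Module.Flat S (AI (cQ Q) (cQ Q')) := inferInstance
  haveI : Module.Free R S := hf.free_adjoinRoot
  haveI : Module.Flat R S := inferInstance
  exact Module.Flat.trans R S (AI (cQ Q) (cQ Q'))

end Flat

end Groth.Agent.H9.SF
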