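import Mathlib
import Groth.Agent.Lib.Helper9.Misc.QO2

/-! Over an algebraically closed field any two semiregular quadratic forms of the same odd rank
are isometric (helper9). -/

set_option autoImplicit false

open QuadraticMap Groth.Agent.H7.QG Groth.Agent.H9.QG Groth.Agent.H9.QO

namespace Groth.Agent.H9.SF

universe u v

section Gen

variable {R : Type u} [CommRing R] {M : Type v} [AddCommGroup M] [Module R M]

theorem hyp_of_isotropic (Q : QuadraticForm R M) (e' w : M) (h0 : Q e' = 0)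
    (h1 : polar Q e' w = 1) :
    polar Q e' (w + (-(Q w)) • e') = 1 ∧ Q (w + (-(Q w)) • e') = 0 := by
  constructor
  · rw [polar_add_right, polar_smul_right, polar_self, h0, h1]
    simp
  · rw [QuadraticMap.map_add Q, QuadraticMap.map_smul, polar_smul_right, polar_comm Q w e', h0, h1]
    simp

theorem Q_split (Q : QuadraticForm R M) (e f : M) (hef : polar Q e f = 1) (h0e : Q e = 0)
    (h0f : Q f = 0) (x y : R) (n : M) (hn : n ∈ Nsub Q e f) :
    Q (x • e + y • f + n) = x * y + Q n := by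
  obtain ⟨hne, hnf⟩ := (mem_Nsub Q e f n).mp hn
  rw [QuadraticMap.map_add Q (x • e + y • f) n, QuadraticMap.map_add Q (x • e) (y • f),
    QuadraticMap.map_smul, QuadraticMap.map_smul, h0e, h0f, polar_smul_left, polar_smul_right,
    hef, polar_add_left, polar_smul_left, polar_smul_left, hne, hnf]
  simp only [smul_eq_mul]
  ring

end Gen

section Field

variable {K : Type u} [Field K] [IsAlgClosed K]

theorem exists_hyperbolic {M : Type v} [AddCommGroup M] [Module K M] (Q : QuadraticForm K M)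
    (e f : M) (hef : polar Q e f = 1) (hu : IsUnit (1 - 4 * Q e * Q f)) :
    ∃ e' f' : M, polar Q e' f' = 1 ∧ Q e' = 0 ∧ Q f' = 0 := by
  obtain ⟨t, ht⟩ : ∃ t : K, Q e * t ^ 2 + t + Q f = 0 := by
    let p : Polynomial K :=
      Polynomial.C (Q e) * Polynomial.X ^ 2 + Polynomial.X + Polynomial.C (Q f)
    have h1 : p.coeff 1 = 1 := by
      simp [p, Polynomial.coeff_X]
    have hdeg : p.degree ≠ 0 := by
      intro h
      have h2 := Polynomial.eq_C_of_degree_eq_zero h
      have h3 : p.coeff 1 = 0 := by rw [h2, Polynomial.coeff_C_ne_zero one_ne_zero]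
      rw [h1] at h3
      exact one_ne_zero h3
    obtain ⟨t, ht⟩ := IsAlgClosed.exists_root p hdeg
    refine ⟨t, ?_⟩
    have h3 : Polynomial.eval t p = 0 := ht
    simpa [p] using h3
  have hQe' : Q (t • e + f) = 0 := by
    rw [QuadraticMap.map_add Q, QuadraticMap.map_smul, polar_smul_left, hef]
    simp only [smul_eq_mul]
    linear_combination ht
  have hpe : polar Q (t • e + f) e = 2 * Q e * t + 1 := by
    rw [polar_add_left, polar_smul_left, polar_self, polar_comm Q f e, hef]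
    simp only [smul_eq_mul, nsmul_eq_mul]
    push_cast
    ring
  have hu2 : (2 * Q e * t + 1) ^ 2 = 1 - 4 * Q e * Q f := by linear_combination 4 * Q e * ht
  have hune : 2 * Q e * t + 1 ≠ 0 := by
    intro h
    rw [h] at hu2
    apply hu.ne_zero
    rw [← hu2]
    ring
  have hw : polar Q (t • e + f) ((2 * Q e * t + 1)⁻¹ • e) = 1 := by
    rw [polar_smul_right, hpe, smul_eq_mul, inv_mul_cancel₀ hune]
  obtain ⟨h1, h2⟩ := hyp_of_isotropic Q _ _ hQe' hw
  exact ⟨_, _, h1, hQe', h2⟩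

theorem iso_rank_one {M M₂ : Type v} [AddCommGroup M] [Module K M] [AddCommGroup M₂]
    [Module K M₂] (Q : QuadraticForm K M) (Q₂ : QuadraticForm K M₂)
    (b : Module.Basis (Fin 1) K M) (b₂ : Module.Basis (Fin 1) K M₂)
    (h : IsUnit (QuadGrp.halfDisc b (LinearEquiv.refl K K) Q))
    (h₂ : IsUnit (QuadGrp.halfDisc b₂ (LinearEquiv.refl K K) Q₂)) :
    ∃ g : M ≃ₗ[K] M₂, ∀ v, Q₂ (g v) = Q v := by
  rw [halfDisc_eq_hd, hd_one, QuadGrp.coeffs_mk, if_pos rfl, LinearEquiv.refl_apply] at h h₂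
  have hc : Q (b 0) ≠ 0 := h.ne_zero
  have hc₂ : Q₂ (b₂ 0) ≠ 0 := h₂.ne_zero
  obtain ⟨l, hl⟩ := IsAlgClosed.exists_pow_nat_eq (Q (b 0) / Q₂ (b₂ 0)) (n := 2) (by norm_num)
  have hl2 : l ^ 2 * Q₂ (b₂ 0) = Q (b 0) := by
    rw [hl]
    field_simp
  have hl0 : l ≠ 0 := by
    intro h0
    rw [h0] at hl2
    apply hc
    rw [← hl2]
    ring
  refine ⟨b.equiv (b₂.unitsSMul (fun _ => Units.mk0 l hl0)) (Equiv.refl _), fun v => ?_⟩
  obtain ⟨x, rfl⟩ : ∃ x : K, v = x • b 0 := by
    refine ⟨b.repr v 0, ?_⟩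
    conv_lhs => rw [← b.sum_repr v]
    rw [Fin.sum_univ_one]
  rw [map_smul, Module.Basis.equiv_apply, Equiv.refl_apply, Module.Basis.unitsSMul_apply,
    Units.smul_def, Units.val_mk0]
  simp only [QuadraticMap.map_smul, smul_eq_mul]
  linear_combination x * x * hl2

/-- over an algebraically closed field, semiregular forms of the same odd rank are isometric -/
theorem iso_of_semiregular : ∀ (m : ℕ) (M M₂ : Type v) [AddCommGroup M] [Module K M]
    [AddCommGroup M₂] [Module K M₂] (Q : QuadraticForm K M) (Q₂ : QuadraticForm K M₂)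
    (n n₂ : ℕ) (_ : n = 2 * m + 1) (_ : n₂ = 2 * m + 1) (b : Module.Basis (Fin n) K M)
    (b₂ : Module.Basis (Fin n₂) K M₂),
    IsUnit (QuadGrp.halfDisc b (LinearEquiv.refl K K) Q) →
    IsUnit (QuadGrp.halfDisc b₂ (LinearEquiv.refl K K) Q₂) →
    ∃ g : M ≃ₗ[K] M₂, ∀ v, Q₂ (g v) = Q v := by
  intro m
  induction m with
  | zero =>
    intro M M₂ _ _ _ _ Q Q₂ n n₂ hn hn₂ b b₂ hb hb₂
    subst hn
    subst hn₂
    exact iso_rank_one Q Q₂ b b₂ hb hb₂
  | succ m ih =>
    intro M M₂ _ _ _ _ Q Q₂ n n₂ hn hn₂ b b₂ hb hb₂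
    haveI : Module.Free K M := Module.Free.of_basis b
    haveI : Module.Finite K M := Module.Finite.of_basis b
    haveI : Module.Free K M₂ := Module.Free.of_basis b₂
    haveI : Module.Finite K M₂ := Module.Finite.of_basis b₂
    have hodd : Odd n := ⟨m + 1, by omega⟩
    have hodd₂ : Odd n₂ := ⟨m + 1, by omega⟩
    obtain ⟨e0, f0, hef0, hu0⟩ := exists_plane_of_isSemiregular hodd (by omega) b Q hb
    obtain ⟨e, f, hef, h0e, h0f⟩ := exists_hyperbolic Q e0 f0 hef0 hu0
    obtain ⟨e0₂, f0₂, hef0₂, hu0₂⟩ := exists_plane_of_isSemiregular hodd₂ (by omega) b₂ Q₂ hb₂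
    obtain ⟨e₂, f₂, hef₂, h0e₂, h0f₂⟩ := exists_hyperbolic Q₂ e0₂ f0₂ hef0₂ hu0₂
    have hd : (1 - 4 * Q e * Q f) * 1 = 1 := by rw [h0e, h0f]; ring
    have hd₂ : (1 - 4 * Q₂ e₂ * Q₂ f₂) * 1 = 1 := by rw [h0e₂, h0f₂]; ring
    haveI := finite_N hef hd
    haveI := free_N hef hd
    haveI := finite_N hef₂ hd₂
    haveI := free_N hef₂ hd₂
    have hrank := finrank_N hef hd
    have hrank₂ := finrank_N hef₂ hd₂
    have hM : Module.finrank K M = n := by
      rw [Module.finrank_eq_card_basis b, Fintype.card_fin]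
    have hM₂ : Module.finrank K M₂ = n₂ := by
      rw [Module.finrank_eq_card_basis b₂, Fintype.card_fin]
    have hq : Module.finrank K (Nsub Q e f) = 2 * m + 1 := by omega
    have hq₂ : Module.finrank K (Nsub Q₂ e₂ f₂) = 2 * m + 1 := by omega
    have hb' := isUnit_halfDisc_QN hef hd hodd
      (by omega : n = 2 + Module.finrank K (Nsub Q e f)) b hb (Module.finBasis K (Nsub Q e f))
    have hb₂' := isUnit_halfDisc_QN hef₂ hd₂ hodd₂
      (by omega : n₂ = 2 + Module.finrank K (Nsub Q₂ e₂ f₂)) b₂ hb₂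
      (Module.finBasis K (Nsub Q₂ e₂ f₂))
    obtain ⟨gN, hgN⟩ := ih (Nsub Q e f) (Nsub Q₂ e₂ f₂) QN QN _ _ hq hq₂
      (Module.finBasis K _) (Module.finBasis K _) hb' hb₂'
    let g : M ≃ₗ[K] M₂ := ((splitEquiv hef hd).trans
      ((LinearEquiv.refl K (K × K)).prodCongr gN)).trans (splitEquiv hef₂ hd₂).symm
    refine ⟨g, fun v => ?_⟩
    obtain ⟨p, rfl⟩ := (splitEquiv hef hd).symm.surjective v
    have hg : g ((splitEquiv hef hd).symm p) = (splitEquiv hef₂ hd₂).symm (p.1, gN p.2) := by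
      simp [g]
    rw [hg, splitEquiv_symm_apply, splitEquiv_symm_apply,
      Q_split Q₂ e₂ f₂ hef₂ h0e₂ h0f₂ _ _ _ (gN p.2).2, Q_split Q e f hef h0e h0f _ _ _ p.2.2]
    have h := hgN p.2
    rw [QN_apply, QN_apply] at h
    rw [h]

end Field

end Groth.Agent.H9.SF
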