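import Mathlib
import Groth.Prelude.Def_QuadGrp2
import Groth.Agent.Lib.Helper9.Misc.SF2
import Groth.Agent.Lib.Helper9.Misc.SF3

/-! The split form of odd rank is semiregular; a semiregular form of odd rank is fppf-locally
isometric to the split form (helper9). -/

set_option autoImplicit false

open Matrix TensorProduct MvPolynomial Groth.Agent.H9.SG Groth.Agent.H9.SO
open Groth.Agent.H7.QG Groth.Agent.H9.QG Groth.Agent.H9.QO

namespace Groth.Agent.H9.SF

universe u

section Split

variable (R : Type u) [CommRing R] (m : ℕ)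

/-- the odd index `2k+1` -/
def od' (k : Fin m) : Fin (2 * m + 1) := ⟨2 * k.val + 1, by have := k.isLt; omega⟩

/-- the even index `2k+2` -/
def ev' (k : Fin m) : Fin (2 * m + 1) := ⟨2 * k.val + 2, by have := k.isLt; omega⟩

/-- the index `0` -/
def z0 : Fin (2 * m + 1) := ⟨0, by omega⟩

/-- the involution fixing `0` and exchanging `2k+1 ↔ 2k+2` -/
def tw' (i : Fin (2 * m + 1)) : Fin (2 * m + 1) :=
  ⟨if i.val = 0 then 0 else if i.val % 2 = 1 then i.val + 1 else i.val - 1, by
    have := i.isLt; split_ifs <;> omega⟩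

theorem tw'_tw' (i : Fin (2 * m + 1)) : tw' m (tw' m i) = i := by
  apply Fin.ext
  simp only [tw']
  split_ifs <;> first | omega | contradiction

theorem tw'_val_eq_zero (i : Fin (2 * m + 1)) : (tw' m i).val = 0 ↔ i.val = 0 := by
  have h : (tw' m i).val =
      if i.val = 0 then 0 else if i.val % 2 = 1 then i.val + 1 else i.val - 1 := rfl
  constructor
  · intro h0
    rw [h] at h0
    by_contra hne
    rw [if_neg hne] at h0
    split_ifs at h0 <;> omega
  · intro h0
    rw [h, if_pos h0]

theorem splitForm_apply_odd (v : Fin (2 * m + 1) → R) :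
    QuadGrp.splitForm R (2 * m + 1) v =
      (∑ k : Fin m, v (od' m k) * v (ev' m k)) + v (z0 m) * v (z0 m) := by
  unfold QuadGrp.splitForm
  have h1 : (2 * m + 1) % 2 = 1 := by omega
  rw [dif_pos h1, _root_.add_apply, _root_.sum_apply]
  have hdiv : (2 * m + 1) / 2 = m := by omega
  congr 1
  refine Fintype.sum_equiv (finCongr hdiv) _ _ (fun i => ?_)
  simp only [QuadraticMap.linMulLin_apply, LinearMap.proj_apply]
  congr 2 <;> (apply Fin.ext; simp [od', ev', h1])

theorem splitForm_map {S : Type*} [CommRing S] (φ : S →+* R) (v : Fin (2 * m + 1) → S) :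
    QuadGrp.splitForm R (2 * m + 1) (φ ∘ v) = φ (QuadGrp.splitForm S (2 * m + 1) v) := by
  rw [splitForm_apply_odd, splitForm_apply_odd, map_add, map_sum, map_mul]
  simp only [Function.comp_apply, map_mul]

theorem polar_split_odd (x y : Fin (2 * m + 1) → R) :
    QuadraticMap.polar (QuadGrp.splitForm R (2 * m + 1)) x y =
      (∑ k : Fin m, (x (od' m k) * y (ev' m k) + y (od' m k) * x (ev' m k))) +
        2 * (x (z0 m) * y (z0 m)) := by
  rw [QuadraticMap.polar, splitForm_apply_odd, splitForm_apply_odd, splitForm_apply_odd]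
  have h : ∑ k : Fin m, (x + y) (od' m k) * (x + y) (ev' m k) =
      (∑ k : Fin m, x (od' m k) * x (ev' m k)) + (∑ k : Fin m, y (od' m k) * y (ev' m k)) +
      ∑ k : Fin m, (x (od' m k) * y (ev' m k) + y (od' m k) * x (ev' m k)) := by
    rw [← Finset.sum_add_distrib, ← Finset.sum_add_distrib]
    refine Finset.sum_congr rfl (fun k _ => ?_)
    simp only [Pi.add_apply]
    ring
  rw [h]
  simp only [Pi.add_apply]
  ring

theorem polar_single_odd (i j : Fin (2 * m + 1)) :
    QuadraticMap.polar (QuadGrp.splitForm R (2 * m + 1)) (Pi.single i 1) (Pi.single j 1) =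
      if j = tw' m i then (if i.val = 0 then 2 else 1) else 0 := by
  rw [polar_split_odd]
  simp only [Pi.single_apply]
  have hlt := i.isLt
  rcases Nat.eq_zero_or_pos i.val with hi0 | hipos
  · have hz : z0 m = i := Fin.ext (by simp only [z0]; omega)
    have htw : tw' m i = i := Fin.ext (by simp only [tw']; split_ifs <;> omega)
    rw [Finset.sum_eq_zero, zero_add, if_pos hz, one_mul, htw, if_pos hi0, hz]
    · by_cases hij : i = j
      · rw [if_pos hij, if_pos hij.symm, mul_one]
      · rw [if_neg hij, if_neg (fun h => hij h.symm), mul_zero]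
    · intro k _
      have h1 : od' m k ≠ i := fun h => by
        have := congrArg Fin.val h
        simp only [od'] at this
        omega
      have h2 : ev' m k ≠ i := fun h => by
        have := congrArg Fin.val h
        simp only [ev'] at this
        omega
      rw [if_neg h1, if_neg h2, zero_mul, mul_zero, add_zero]
  · have hz : z0 m ≠ i := fun h => by
      have := congrArg Fin.val h
      simp only [z0] at this
      omega
    have hi0 : ¬ (i.val = 0) := by omega
    rw [if_neg hz, zero_mul, mul_zero, add_zero, if_neg hi0]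
    rcases Nat.mod_two_eq_zero_or_one i.val with hpar | hpar
    · have hk : (i.val - 2) / 2 < m := by omega
      rw [Finset.sum_eq_single (⟨(i.val - 2) / 2, hk⟩ : Fin m)]
      · have h1 : ev' m ⟨(i.val - 2) / 2, hk⟩ = i := Fin.ext (by simp only [ev']; omega)
        have h2 : od' m ⟨(i.val - 2) / 2, hk⟩ ≠ i := fun h => by
          have := congrArg Fin.val h
          simp only [od'] at this
          omega
        have h3 : tw' m i = od' m ⟨(i.val - 2) / 2, hk⟩ := Fin.ext (by
          simp only [tw', od']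
          split_ifs <;> omega)
        rw [h3, if_neg h2, if_pos h1, zero_mul, zero_add, mul_one]
        exact if_congr eq_comm rfl rfl
      · intro k _ hk'
        have h1 : ev' m k ≠ i := fun h => hk' (Fin.ext (by
          have := congrArg Fin.val h
          simp only [ev'] at this
          show k.val = (i.val - 2) / 2
          omega))
        have h2 : od' m k ≠ i := fun h => by
          have := congrArg Fin.val h
          simp only [od'] at this
          omega
        rw [if_neg h1, if_neg h2, zero_mul, mul_zero, add_zero]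
      · intro h; exact absurd (Finset.mem_univ _) h
    · have hk : (i.val - 1) / 2 < m := by omega
      rw [Finset.sum_eq_single (⟨(i.val - 1) / 2, hk⟩ : Fin m)]
      · have h1 : od' m ⟨(i.val - 1) / 2, hk⟩ = i := Fin.ext (by simp only [od']; omega)
        have h2 : ev' m ⟨(i.val - 1) / 2, hk⟩ ≠ i := fun h => by
          have := congrArg Fin.val h
          simp only [ev'] at this
          omega
        have h3 : tw' m i = ev' m ⟨(i.val - 1) / 2, hk⟩ := Fin.ext (by
          simp only [tw', ev']
          split_ifs <;> omega)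
        rw [h3, if_pos h1, if_neg h2, mul_zero, add_zero, one_mul]
        exact if_congr eq_comm rfl rfl
      · intro k _ hk'
        have h1 : od' m k ≠ i := fun h => hk' (Fin.ext (by
          have := congrArg Fin.val h
          simp only [od'] at this
          show k.val = (i.val - 1) / 2
          omega))
        have h2 : ev' m k ≠ i := fun h => by
          have := congrArg Fin.val h
          simp only [ev'] at this
          omega
        rw [if_neg h1, if_neg h2, zero_mul, mul_zero, add_zero]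
      · intro h; exact absurd (Finset.mem_univ _) h

theorem gram_mul_gram_odd :
    Groth.Agent.H9.QG.gram (Pi.basisFun R (Fin (2 * m + 1))) (QuadGrp.splitForm R (2 * m + 1)) *
      Groth.Agent.H9.QG.gram (Pi.basisFun R (Fin (2 * m + 1)))
        (QuadGrp.splitForm R (2 * m + 1)) =
      Matrix.diagonal (fun i : Fin (2 * m + 1) => if i.val = 0 then (4 : R) else 1) := by
  ext i k
  rw [Matrix.mul_apply]
  simp only [Groth.Agent.H9.QG.gram, Matrix.of_apply, Pi.basisFun_apply, polar_single_odd]
  rw [Finset.sum_eq_single (tw' m i)]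
  · rw [if_pos rfl, tw'_tw', Matrix.diagonal_apply]
    by_cases hik : i = k
    · subst hik
      rw [if_pos rfl, if_pos rfl]
      by_cases h0 : i.val = 0
      · rw [if_pos h0, if_pos ((tw'_val_eq_zero m i).mpr h0), if_pos h0]
        norm_num
      · rw [if_neg h0, if_neg (fun h => h0 ((tw'_val_eq_zero m i).mp h)), if_neg h0]
        norm_num
    · rw [if_neg (show ¬ k = i from fun h => hik h.symm), if_neg hik, mul_zero]
  · intro j _ hj
    rw [if_neg hj, zero_mul]
  · intro h; exact absurd (Finset.mem_univ _) h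

theorem hd_sq_int :
    hd (QuadGrp.coeffs (Pi.basisFun ℤ (Fin (2 * m + 1))) (LinearEquiv.refl ℤ ℤ)
      (QuadGrp.splitForm ℤ (2 * m + 1))) ^ 2 = 1 := by
  have hn : Odd (2 * m + 1) := ⟨m, rfl⟩
  have h1 := two_mul_hd hn (QuadGrp.coeffs (Pi.basisFun ℤ (Fin (2 * m + 1)))
    (LinearEquiv.refl ℤ ℤ) (QuadGrp.splitForm ℤ (2 * m + 1)))
  have h2 := dd_eq_det (QuadGrp.coeffs (Pi.basisFun ℤ (Fin (2 * m + 1)))
    (LinearEquiv.refl ℤ ℤ) (QuadGrp.splitForm ℤ (2 * m + 1)))
  have h3 := gram_eq_polMat (Pi.basisFun ℤ (Fin (2 * m + 1))) (QuadGrp.splitForm ℤ (2 * m + 1))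
  have h4 := congrArg Matrix.det (gram_mul_gram_odd ℤ m)
  rw [Matrix.det_mul, Matrix.det_diagonal, h3, ← h2, ← h1] at h4
  have h5 : (∏ i : Fin (2 * m + 1), if i.val = 0 then (4 : ℤ) else 1) = 4 := by
    rw [Finset.prod_eq_single (z0 m)]
    · exact if_pos rfl
    · intro b _ hb
      rw [if_neg]
      intro h
      exact hb (Fin.ext h)
    · intro h; exact absurd (Finset.mem_univ _) h
  rw [h5] at h4
  have h6 : (4 : ℤ) * (hd (QuadGrp.coeffs (Pi.basisFun ℤ (Fin (2 * m + 1)))
      (LinearEquiv.refl ℤ ℤ) (QuadGrp.splitForm ℤ (2 * m + 1))) ^ 2 - 1) = 0 := by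
    linear_combination h4
  have h7 := (mul_eq_zero.mp h6).resolve_left (by norm_num)
  exact sub_eq_zero.mp h7

theorem coeffs_split_map {S : Type*} [CommRing S] (φ : S →+* R) :
    QuadGrp.coeffs (Pi.basisFun R (Fin (2 * m + 1))) (LinearEquiv.refl R R)
        (QuadGrp.splitForm R (2 * m + 1)) =
      φ ∘ QuadGrp.coeffs (Pi.basisFun S (Fin (2 * m + 1))) (LinearEquiv.refl S S)
        (QuadGrp.splitForm S (2 * m + 1)) := by
  funext s
  induction s using Sym2.ind with
  | _ i j =>
    rw [Function.comp_apply, QuadGrp.coeffs_mk, QuadGrp.coeffs_mk]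
    have hs : ∀ i : Fin (2 * m + 1),
        (Pi.single i (1 : R) : Fin (2 * m + 1) → R) = φ ∘ (Pi.single i (1 : S)) := by
      intro i
      funext k
      simp only [Function.comp_apply, Pi.single_apply]
      rw [apply_ite φ, map_one, map_zero]
    simp only [Pi.basisFun_apply, LinearEquiv.refl_apply]
    split_ifs
    · rw [hs, splitForm_map]
    · rw [polar_single_odd, polar_single_odd, apply_ite φ, apply_ite φ, map_zero, map_one,
        map_ofNat]

/-- the split form of odd rank is semiregular -/
theorem isSemiregular_splitForm_odd :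
    QuadGrp.IsSemiregular (Pi.basisFun R (Fin (2 * m + 1))) (LinearEquiv.refl R R)
      (QuadGrp.splitForm R (2 * m + 1)) := by
  rw [QuadGrp.IsSemiregular, halfDisc_eq_hd, coeffs_split_map R m (Int.castRingHom R), ← map_hd]
  apply IsUnit.map
  exact IsUnit.of_pow_eq_one (hd_sq_int m) (by norm_num)

end Split

section Main

variable {R : Type u} [CommRing R] {m : ℕ} (Q Q' : QuadraticForm R (Fin (2 * m + 1) → R))

theorem comap_surjective_AI
    (hQ : QuadGrp.IsSemiregular (Pi.basisFun R (Fin (2 * m + 1))) (LinearEquiv.refl R R) Q)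
    (hQ' : QuadGrp.IsSemiregular (Pi.basisFun R (Fin (2 * m + 1))) (LinearEquiv.refl R R) Q') :
    Function.Surjective (PrimeSpectrum.comap (algebraMap R (AI (cQ Q) (cQ Q')))) := by
  intro p
  let K := AlgebraicClosure p.asIdeal.ResidueField
  have hsrK := isSemiregular_baseChange K (Pi.basisFun R (Fin (2 * m + 1))) Q hQ
  have hsrK' := isSemiregular_baseChange K (Pi.basisFun R (Fin (2 * m + 1))) Q' hQ'
  obtain ⟨g, hg⟩ := iso_of_semiregular m (K ⊗[R] (Fin (2 * m + 1) → R))
    (K ⊗[R] (Fin (2 * m + 1) → R)) (QuadGrp.baseChangeForm K Q) (QuadGrp.baseChangeForm K Q')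
    (2 * m + 1) (2 * m + 1) rfl rfl (bas R (2 * m + 1) K) (bas R (2 * m + 1) K) hsrK hsrK'
  have halt : IsAltMat (defect₂ (gr K (cQ Q)) (gr K (cQ Q'))
      (LinearMap.toMatrix (bas R (2 * m + 1) K) (bas R (2 * m + 1) K) g.toLinearMap)) :=
    (isometry₂_iff_isAlt Q Q' K g.toLinearMap).mp hg
  obtain ⟨ψ, -, -⟩ := exists_homI (cQ Q) (cQ Q') _ _ (toMatrix_mul_symm K g)
    (toMatrix_symm_mul K g) halt
  refine ⟨⟨RingHom.ker (ψ : AI (cQ Q) (cQ Q') →+* K), RingHom.ker_isPrime _⟩, ?_⟩
  apply PrimeSpectrum.ext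
  ext x
  rw [PrimeSpectrum.comap_asIdeal, Ideal.mem_comap, RingHom.mem_ker]
  have h1 : (ψ : AI (cQ Q) (cQ Q') →+* K) (algebraMap R (AI (cQ Q) (cQ Q')) x) =
      algebraMap R K x := ψ.commutes x
  rw [h1, IsScalarTower.algebraMap_apply R p.asIdeal.ResidueField K,
    map_eq_zero_iff (algebraMap p.asIdeal.ResidueField K)
      (algebraMap p.asIdeal.ResidueField K).injective]
  exact Ideal.algebraMap_residueField_eq_zero

/-- a semiregular quadratic form of odd rank is fppf-locally isometric to any other one -/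
theorem fppf_isometric
    (hQ : QuadGrp.IsSemiregular (Pi.basisFun R (Fin (2 * m + 1))) (LinearEquiv.refl R R) Q)
    (hQ' : QuadGrp.IsSemiregular (Pi.basisFun R (Fin (2 * m + 1))) (LinearEquiv.refl R R) Q') :
    ∃ (A : Type u) (_ : CommRing A) (_ : Algebra R A), Module.FaithfullyFlat R A ∧
      Algebra.FinitePresentation R A ∧
      Nonempty ((QuadGrp.baseChangeForm A Q).IsometryEquiv (QuadGrp.baseChangeForm A Q')) := by
  haveI := flat_AI Q Q' hQ hQ'
  refine ⟨AI (cQ Q) (cQ Q'), inferInstance, inferInstance,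
    Module.FaithfullyFlat.of_comap_surjective (comap_surjective_AI Q Q' hQ hQ'),
    finitePresentation_AI _ _, ?_⟩
  have hiso : ∀ v, QuadGrp.baseChangeForm (AI (cQ Q) (cQ Q')) Q'
      ((equivOfMat (R := R) (AI (cQ Q) (cQ Q')) (XI (cQ Q) (cQ Q')) (YI (cQ Q) (cQ Q'))
        (Xb_mul_Yb _ _) (Yb_mul_Xb _ _)).toLinearMap v) =
      QuadGrp.baseChangeForm (AI (cQ Q) (cQ Q')) Q v := by
    rw [isometry₂_iff_isAlt, toMatrix_equivOfMat]
    exact isAlt_XI _ _
  exact ⟨{ equivOfMat (R := R) (AI (cQ Q) (cQ Q')) (XI (cQ Q) (cQ Q')) (YI (cQ Q) (cQ Q'))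
      (Xb_mul_Yb _ _) (Yb_mul_Xb _ _) with map_app' := hiso }⟩

end Main

end Groth.Agent.H9.SF
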