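import Mathlib

set_option autoImplicit false
set_option linter.style.haveILetI false
set_option linter.unusedSectionVars false
set_option linter.unusedVariables false

namespace Groth.Agent.H9.VLC

open Polynomial

universe u v w

section Horner

variable {R : Type u} {K : Type v} [CommRing R] [Field K] [Algebra R K]

/-- partial Horner sums. -/
noncomputable def B (a : ℕ → K) (z : K) (m l : ℕ) : K := ∑ i ∈ Finset.range l, a (m + i) * z ^ i

lemma B_zero (a : ℕ → K) (z : K) (m : ℕ) : B a z m 0 = 0 := by simp [B]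

lemma B_succ (a : ℕ → K) (z : K) (m l : ℕ) :
    B a z m (l + 1) = a m + z * B a z (m + 1) l := by
  unfold B
  rw [Finset.sum_range_succ', Finset.mul_sum, add_comm]
  congr 1
  · simp
  · refine Finset.sum_congr rfl fun i _ => ?_
    rw [show m + (i + 1) = m + 1 + i by omega, pow_succ]
    ring

lemma B_split (a : ℕ → K) (z : K) (m l : ℕ) :
    B a z 0 (m + l) = B a z 0 m + z ^ m * B a z m l := by
  unfold B
  rw [Finset.sum_range_add, Finset.mul_sum]
  congr 1
  refine Finset.sum_congr rfl fun i _ => ?_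
  rw [zero_add, pow_add]
  ring

/-- Lemma L. -/
lemma isIntegral_mul_of_eq (a : ℕ → K) (ha : ∀ i, IsIntegral R (a i)) (z b : K)
    (hb : IsIntegral R b) (d : ℕ) (h : b * z ^ (d + 1) + B a z 0 (d + 1) = 0) :
    IsIntegral R (b * z) := by
  classical
  let p : K[X] := X ^ (d + 1) + ∑ i : Fin (d + 1), C (a i * b ^ (d - i)) * X ^ (i : ℕ)
  have hdeg : (∑ i : Fin (d + 1), C (a i * b ^ (d - i)) * X ^ (i : ℕ) : K[X]).degree <
      ((d + 1 : ℕ) : WithBot ℕ) := Polynomial.degree_sum_fin_lt _
  have hmonic : p.Monic := Polynomial.monic_X_pow_add hdeg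
  have hnat : p.natDegree ≠ 0 := by
    have : p.natDegree = d + 1 := by
      have h1 : p.degree = ((d + 1 : ℕ) : WithBot ℕ) := by
        show (X ^ (d + 1) + _ : K[X]).degree = _
        rw [Polynomial.degree_add_eq_left_of_degree_lt (by rwa [degree_X_pow]), degree_X_pow]
      exact natDegree_eq_of_degree_eq_some h1
    omega
  refine IsIntegral.of_aeval_monic_of_isIntegral_coeff hmonic hnat ?_ ?_
  · have : eval (b * z) p = 0 := by
      show eval (b * z) (X ^ (d + 1) + _) = 0
      rw [eval_add, eval_pow, eval_X, eval_finsetSum]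
      simp only [eval_mul, eval_C, eval_pow, eval_X]
      have h2 : ∑ i : Fin (d + 1), a i * b ^ (d - i) * (b * z) ^ (i : ℕ) =
          b ^ d * B a z 0 (d + 1) := by
        unfold B
        rw [Finset.mul_sum, Fin.sum_univ_eq_sum_range (fun i => a i * b ^ (d - i) * (b * z) ^ i)]
        refine Finset.sum_congr rfl fun i hi => ?_
        have hi' := Finset.mem_range.mp hi
        rw [zero_add, mul_pow]
        have : b ^ d = b ^ (d - i) * b ^ i := by rw [← pow_add]; congr 1; omega
        rw [this]
        ring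
      rw [h2, mul_pow, pow_succ b d]
      have : b ^ d * b * z ^ (d + 1) + b ^ d * B a z 0 (d + 1) =
          b ^ d * (b * z ^ (d + 1) + B a z 0 (d + 1)) := by ring
      rw [this, h, mul_zero]
    rw [this]
    exact isIntegral_zero
  · intro j
    show IsIntegral R ((X ^ (d + 1) + ∑ i : Fin (d + 1), C (a i * b ^ (d - i)) * X ^ (i : ℕ) :
      K[X]).coeff j)
    rw [coeff_add, finsetSum_coeff]
    refine IsIntegral.add ?_ (IsIntegral.sum _ fun i _ => ?_)
    · rw [coeff_X_pow]
      split_ifs
      · exact isIntegral_one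
      · exact isIntegral_zero
    · rw [coeff_C_mul_X_pow]
      split_ifs
      · exact (ha i).mul (hb.pow _)
      · exact isIntegral_zero

lemma isIntegral_B (a : ℕ → K) (ha : ∀ i, IsIntegral R (a i)) (z : K) (N : ℕ)
    (h0 : B a z 0 (N + 1) = 0) :
    ∀ l m, m + l = N + 1 → IsIntegral R (B a z m l) := by
  intro l
  induction l with
  | zero => intro m _; rw [B_zero]; exact isIntegral_zero
  | succ l ih =>
    intro m hm
    rw [B_succ]
    have hb := ih (m + 1) (by omega)
    refine (ha m).add ?_
    rw [mul_comm]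
    -- B (m+1) l * z integral
    cases m with
    | zero =>
      -- B 0 (l+1) = 0, so a 0 + z * B 1 l = 0
      have h1 : B a z 0 (l + 1) = 0 := by
        have : l + 1 = N + 1 := by omega
        rw [this]; exact h0
      rw [B_succ] at h1
      have : B a z (0 + 1) l * z = - a 0 := by
        rw [mul_comm]; exact eq_neg_of_add_eq_zero_right h1
      rw [this]
      exact (ha 0).neg
    | succ m =>
      refine isIntegral_mul_of_eq a ha z _ hb (m + 1) ?_
      have h2 := B_split a z (m + 1 + 1) l
      rw [show m + 1 + 1 + l = N + 1 by omega, h0] at h2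
      rw [h2]
      ring

end Horner

end Groth.Agent.H9.VLC

namespace Groth.Agent.H9.VLC

open Polynomial

universe u v w

section Val

variable {R : Type u} {K : Type v} {Γ : Type w} [CommRing R] [IsDomain R]
  [IsPrincipalIdealRing R] [Field K] [Algebra R K] [LinearOrderedCommGroupWithZero Γ]
  (v : Valuation K Γ)

theorem exists_primitive_eq (hinj : Function.Injective (algebraMap R K))
    (hv : ∀ r : R, v (algebraMap R K r) ≤ 1) (z : K) (hz : IsAlgebraic R z) :
    ∃ p : R[X], aeval z p = 0 ∧ ∃ i, v (algebraMap R K (p.coeff i)) = 1 := by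
  classical
  let 𝔭 : Ideal R :=
    { carrier := {r | v (algebraMap R K r) < 1}
      add_mem' := fun {a b} ha hb => by
        show v (algebraMap R K (a + b)) < 1
        rw [map_add]
        exact lt_of_le_of_lt (v.map_add _ _) (max_lt ha hb)
      zero_mem' := by
        show v (algebraMap R K 0) < 1
        rw [map_zero, map_zero]
        exact zero_lt_one
      smul_mem' := fun c a ha => by
        show v (algebraMap R K (c • a)) < 1
        rw [smul_eq_mul, map_mul, map_mul]
        exact lt_of_le_of_lt (mul_le_of_le_one_left' (hv c)) ha }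
  have hmem : ∀ r, r ∈ 𝔭 ↔ v (algebraMap R K r) < 1 := fun r => Iff.rfl
  obtain ⟨π, hπ⟩ := (IsPrincipalIdealRing.principal 𝔭).principal
  obtain ⟨p, hp0, hpz⟩ := hz
  have hπu : ¬ IsUnit (C π : R[X]) := by
    rw [Polynomial.isUnit_C]
    intro hu
    have h1 : (1 : R) ∈ 𝔭 := by
      rw [hπ, ← Ideal.span, Ideal.mem_span_singleton]
      exact hu.dvd
    rw [hmem, map_one, map_one] at h1
    exact lt_irrefl _ h1
  obtain ⟨n, p₁, hnd, hp⟩ := WfDvdMonoid.max_power_factor' hp0 hπu
  have hπn : algebraMap R K (π ^ n) ≠ 0 := by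
    intro h0
    have h1 : π ^ n = 0 := (map_eq_zero_iff _ hinj).mp h0
    apply hp0
    rw [hp, ← C_pow, h1, C_0, zero_mul]
  refine ⟨p₁, ?_, ?_⟩
  · have h1 : aeval z p = algebraMap R K (π ^ n) * aeval z p₁ := by
      rw [hp, map_mul, ← C_pow, aeval_C]
    rw [hpz] at h1
    exact (mul_eq_zero.mp h1.symm).resolve_left hπn
  · rw [Polynomial.C_dvd_iff_dvd_coeff] at hnd
    push Not at hnd
    obtain ⟨i, hi⟩ := hnd
    refine ⟨i, le_antisymm (hv _) (not_lt.mp fun hlt => hi ?_)⟩
    have h1 : p₁.coeff i ∈ 𝔭 := (hmem _).mpr hlt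
    rw [hπ, ← Ideal.span, Ideal.mem_span_singleton] at h1
    exact h1

theorem exists_loc (hinj : Function.Injective (algebraMap R K))
    (hv : ∀ r : R, v (algebraMap R K r) ≤ 1) (z : K) (hz : IsAlgebraic R z) (hvz : v z ≤ 1) :
    ∃ s : K, IsIntegral R s ∧ v s = 1 ∧ IsIntegral R (s * z) := by
  classical
  obtain ⟨p, hpz, i₁, hi₁⟩ := exists_primitive_eq v hinj hv z hz
  set N := p.natDegree with hN
  set a : ℕ → K := fun i => algebraMap R K (p.coeff i) with ha_def
  have ha : ∀ i, IsIntegral R (a i) := fun i => isIntegral_algebraMap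
  have h0 : B a z 0 (N + 1) = 0 := by
    rw [← hpz, aeval_eq_sum_range]
    unfold B
    refine Finset.sum_congr rfl fun i _ => ?_
    rw [zero_add, Algebra.smul_def]
  have hi₁N : i₁ ≤ N := by
    apply le_natDegree_of_ne_zero
    intro h
    rw [h, map_zero, map_zero] at hi₁
    exact zero_ne_one hi₁
  set i₀ := Nat.findGreatest (fun i => v (a i) = 1) N with hi₀
  have hspec : v (a i₀) = 1 := Nat.findGreatest_spec (P := fun i => v (a i) = 1) hi₁N hi₁
  have hgreat : ∀ i, i₀ < i → i ≤ N → v (a i) < 1 := by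
    intro i hi hiN
    have := Nat.findGreatest_is_greatest (P := fun i => v (a i) = 1) hi hiN
    exact lt_of_le_of_ne (hv _) this
  have hi₀N : i₀ ≤ N := Nat.findGreatest_le N
  obtain ⟨l', hl'⟩ : ∃ l', i₀ + (l' + 1) = N + 1 := ⟨N - i₀, by omega⟩
  refine ⟨B a z i₀ (l' + 1), isIntegral_B a ha z N h0 _ _ hl', ?_, ?_⟩
  · rw [B_succ]
    have h1 : v (z * B a z (i₀ + 1) l') < 1 := by
      rw [map_mul]
      refine lt_of_le_of_lt (mul_le_of_le_one_left' hvz) ?_
      unfold B
      refine Valuation.map_sum_lt v one_ne_zero fun i hi => ?_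
      have hi' := Finset.mem_range.mp hi
      rw [map_mul, map_pow]
      refine lt_of_le_of_lt (mul_le_of_le_one_right' (pow_le_one' hvz i)) ?_
      exact hgreat _ (by omega) (by omega)
    rw [← hspec] at h1
    rw [Valuation.map_add_eq_of_lt_left v h1, hspec]
  · rcases Nat.eq_zero_or_pos i₀ with h | h
    · have : B a z i₀ (l' + 1) = 0 := by
        rw [h] at hl' ⊢
        rw [show l' + 1 = N + 1 by omega]
        exact h0
      rw [this, zero_mul]
      exact isIntegral_zero
    · obtain ⟨m, hm⟩ : ∃ m, i₀ = m + 1 := ⟨i₀ - 1, by omega⟩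
      have h1 := B_succ a z m (l' + 1)
      have h2 : IsIntegral R (B a z m (l' + 1 + 1)) :=
        isIntegral_B a ha z N h0 _ _ (by omega)
      have h3 : B a z i₀ (l' + 1) * z = B a z m (l' + 1 + 1) - a m := by
        rw [h1, hm]; ring
      rw [h3]
      exact h2.sub (ha m)

end Val

end Groth.Agent.H9.VLC
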