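import Mathlib
import Groth.Agent.Lib.Helper9.Misc.DIF3
import Groth.Agent.Lib.Helper9.Misc.VLC1

set_option autoImplicit false
set_option linter.style.haveILetI false
set_option linter.unusedSectionVars false
set_option linter.unusedVariables false

namespace Groth.Agent.H9.SGP

open scoped TensorProduct
open Polynomial
open Groth.Agent.H9.DIF Groth.Agent.H9.VLC

universe u u' v w w' x

section ValInt

variable {R : Type w'} {K : Type w} {Γ : Type x} [CommRing R] [Field K] [Algebra R K]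
  [LinearOrderedCommGroupWithZero Γ] (v : Valuation K Γ)

lemma v_le_one_of_isIntegral (hv : ∀ r : R, v (algebraMap R K r) ≤ 1) {b : K}
    (hb : IsIntegral R b) : v b ≤ 1 := by
  obtain ⟨g, hg, hgb⟩ := hb
  by_contra hlt
  rw [not_le] at hlt
  have h1 : eval₂ (algebraMap R K) b g = b ^ g.natDegree +
      ∑ i ∈ Finset.range g.natDegree, algebraMap R K (g.coeff i) * b ^ i := by
    conv_lhs => rw [hg.as_sum]
    simp only [eval₂_add, eval₂_pow, eval₂_X, eval₂_finsetSum, eval₂_mul, eval₂_C]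
  have hb0 : v b ≠ 0 := fun h => by rw [h] at hlt; exact not_lt_zero hlt
  have h2 : v (∑ i ∈ Finset.range g.natDegree, algebraMap R K (g.coeff i) * b ^ i) <
      v (b ^ g.natDegree) := by
    rw [map_pow]
    refine Valuation.map_sum_lt v (pow_ne_zero _ hb0) fun i hi => ?_
    have hi' := Finset.mem_range.mp hi
    rw [map_mul, map_pow]
    refine lt_of_le_of_lt (mul_le_of_le_one_left' (hv _)) ?_
    exact pow_lt_pow_right₀ hlt hi'
  have h3 := Valuation.map_add_eq_of_lt_left v h2
  rw [← h1, hgb, map_zero, map_pow] at h3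
  exact pow_ne_zero _ hb0 h3.symm

end ValInt

section Main

variable {k : Type u} {k' : Type u'} {R : Type w'} {F : Type v} {K : Type w}
  [Field k] [Field k'] [Algebra k k']
  [CommRing R] [IsDomain R] [Algebra k R] [IsIntegrallyClosed R]
  [Field F] [Algebra k F] [Algebra R F] [IsScalarTower k R F] [IsFractionRing R F]
  [Field K] [Algebra F K] [Algebra k K] [IsScalarTower k F K] [Algebra R K] [IsScalarTower R F K]
  [IsScalarTower k R K]

attribute [local instance] algTS

lemma isIntegral_one_tmul {b : K} (hb : IsIntegral R b) :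
    IsIntegral (k' ⊗[k] R) ((1 : k') ⊗ₜ[k] b : k' ⊗[k] K) := by
  obtain ⟨g, hg, hgb⟩ := hb
  let ρ : R →+* k' ⊗[k] R :=
    (Algebra.TensorProduct.includeRight : R →ₐ[k] k' ⊗[k] R).toRingHom
  refine ⟨g.map ρ, hg.map _, ?_⟩
  rw [eval₂_map]
  have h1 : (algebraMap (k' ⊗[k] R) (k' ⊗[k] K)).comp ρ =
      ((Algebra.TensorProduct.includeRight : K →ₐ[k] k' ⊗[k] K).toRingHom).comp
        (algebraMap R K) := by
    ext r
    simp [ρ, algTS_algebraMap]
  rw [h1]
  have h2 := Polynomial.hom_eval₂ g (algebraMap R K)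
    ((Algebra.TensorProduct.includeRight : K →ₐ[k] k' ⊗[k] K).toRingHom) b
  rw [hgb, map_zero] at h2
  exact h2.symm

variable {Γ : Type x} [LinearOrderedCommGroupWithZero Γ] (v : Valuation K Γ)

variable (k k') in
/-- the image of the valuation ring in `k' ⊗ K`. -/
abbrev Osub : Subring (k' ⊗[k] K) :=
  v.valuationSubring.toSubring.map
    (Algebra.TensorProduct.includeRight : K →ₐ[k] k' ⊗[k] K).toRingHom

lemma mem_Osub {o : K} (ho : v o ≤ 1) : ((1 : k') ⊗ₜ[k] o : k' ⊗[k] K) ∈ Osub k k' v :=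
  ⟨o, ho, rfl⟩

lemma mu_range_le (hv : ∀ r : R, v (algebraMap R K r) ≤ 1) (z : k' ⊗[k] K)
    (hz : z ∈ (mu (k := k) (k' := k') (R := R) (K := K)).range) :
    z ∈ Algebra.adjoin (Osub k k' v)
      (Set.range (Algebra.TensorProduct.includeLeftRingHom : k' →+* k' ⊗[k] K)) := by
  obtain ⟨x, rfl⟩ := hz
  show mu (k := k) (k' := k') (R := R) (K := K) x ∈ _
  induction x using TensorProduct.induction_on with
  | zero => rw [map_zero]; exact zero_mem _
  | add x₁ x₂ h₁ h₂ => rw [map_add]; exact add_mem h₁ h₂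
  | tmul c b =>
    have h1 : mu (k := k) (k' := k') (R := R) (K := K) (c ⊗ₜ b) =
        (c ⊗ₜ[k] (1 : K)) * ((1 : k') ⊗ₜ[k] (b : K)) := by
      rw [Algebra.TensorProduct.tmul_mul_tmul, mul_one, one_mul]
      rfl
    rw [h1]
    refine mul_mem (Algebra.subset_adjoin ⟨c, rfl⟩) ?_
    have hb : v (b : K) ≤ 1 := v_le_one_of_isIntegral v hv b.2
    exact Subalgebra.algebraMap_mem _ (⟨_, mem_Osub v hb⟩ : Osub k k' v)

theorem adjoin_le_integralClosure [Algebra.IsIntegral k k']
    (hv : ∀ r : R, v (algebraMap R K r) ≤ 1) :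
    Algebra.adjoin (Osub k k' v)
      (Set.range (Algebra.TensorProduct.includeLeftRingHom : k' →+* k' ⊗[k] K)) ≤
    integralClosure (Osub k k' v) (k' ⊗[k] K) := by
  apply Algebra.adjoin_le
  rintro _ ⟨c, rfl⟩
  show IsIntegral (Osub k k' v) (c ⊗ₜ[k] (1 : K) : k' ⊗[k] K)
  have hvk : ∀ c₀ : k, v (algebraMap k K c₀) ≤ 1 := fun c₀ => by
    rw [IsScalarTower.algebraMap_apply k R K]; exact hv _
  let j : k →+* Osub k k' v :=
    ((Algebra.TensorProduct.includeRight : K →ₐ[k] k' ⊗[k] K).toRingHom.comp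
      (algebraMap k K)).codRestrict (Osub k k' v) (fun c₀ => mem_Osub v (hvk c₀))
  have hcomp : (algebraMap (Osub k k' v) (k' ⊗[k] K)).comp j = algebraMap k (k' ⊗[k] K) := by
    ext c₀
    show ((1 : k') ⊗ₜ[k] algebraMap k K c₀ : k' ⊗[k] K) = _
    rw [Algebra.TensorProduct.algebraMap_apply, Algebra.algebraMap_eq_smul_one,
      Algebra.algebraMap_eq_smul_one, TensorProduct.smul_tmul]
  have hc : IsIntegral k (c ⊗ₜ[k] (1 : K) : k' ⊗[k] K) :=
    (Algebra.IsIntegral.isIntegral c).map (Algebra.TensorProduct.includeLeft : k' →ₐ[k] k' ⊗[k] K)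
  unfold IsIntegral at hc ⊢
  rw [← hcomp] at hc
  exact RingHom.IsIntegralElem.of_comp hc

theorem integralClosure_le_adjoin [IsPrincipalIdealRing R] [FiniteDimensional F K]
    (hdom : IsDomain (k' ⊗[k] R)) (hic : IsIntegrallyClosed (k' ⊗[k] R))
    (hv : ∀ r : R, v (algebraMap R K r) ≤ 1)
    {y : K} (hy : IsIntegral R y) (hy' : Algebra.adjoin F {y} = ⊤)
    (hδ : v (aeval y (minpoly R y).derivative) = 1) :
    integralClosure (Osub k k' v) (k' ⊗[k] K) ≤
    Algebra.adjoin (Osub k k' v)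
      (Set.range (Algebra.TensorProduct.includeLeftRingHom : k' →+* k' ⊗[k] K)) := by
  classical
  intro w hw
  have hw' : IsIntegral (Osub k k' v) w := hw
  obtain ⟨p, hp, hpw⟩ := hw'
  set d := p.natDegree with hd
  by_cases hd0 : d = 0
  · have hp1 : p = 1 := (hp.natDegree_eq_zero).mp hd0
    rw [hp1, eval₂_one] at hpw
    have : w = 0 := by rw [← mul_one w, hpw, mul_zero]
    rw [this]; exact zero_mem _
  have hco : ∀ i, ∃ o : K, v o ≤ 1 ∧ ((1 : k') ⊗ₜ[k] o : k' ⊗[k] K) = (p.coeff i : k' ⊗[k] K) := by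
    intro i
    obtain ⟨o, ho, hoe⟩ := (p.coeff i).2
    exact ⟨o, ho, hoe⟩
  choose o ho hoe using hco
  have hinjRK : Function.Injective (algebraMap R K) := by
    rw [IsScalarTower.algebraMap_eq R F K]
    exact (algebraMap F K).injective.comp (IsFractionRing.injective R F)
  have halg : Algebra.IsAlgebraic R K := by
    have := IsLocalization.isAlgebraic F (nonZeroDivisors R)
    exact Algebra.IsAlgebraic.trans R F K
  have hloc : ∀ i, ∃ s : K, IsIntegral R s ∧ v s = 1 ∧ IsIntegral R (s * o i) :=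
    fun i => exists_loc v hinjRK hv (o i) (halg.isAlgebraic _) (ho i)
  choose s hs1 hs2 hs3 using hloc
  set σ : K := ∏ i ∈ Finset.range d, s i with hσ
  have hσi : IsIntegral R σ := IsIntegral.prod _ fun i _ => hs1 i
  have hσv : v σ = 1 := by rw [hσ, map_prod]; exact Finset.prod_eq_one fun i _ => hs2 i
  have hσo : ∀ i ∈ Finset.range d, IsIntegral R (σ * o i) := by
    intro i hi
    rw [hσ, ← Finset.mul_prod_erase _ _ hi, mul_right_comm]
    exact (hs3 i).mul (IsIntegral.prod _ fun j _ => hs1 j)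
  let σ' : Osub k k' v := ⟨(1 : k') ⊗ₜ σ, mem_Osub v hσv.le⟩
  set w₁ : k' ⊗[k] K := ((1 : k') ⊗ₜ σ) * w with hw₁
  have hq0 : eval₂ (algebraMap (Osub k k' v) (k' ⊗[k] K)) w₁ (scaleRoots p σ') = 0 := by
    have := scaleRoots_eval₂_mul (p := p) (algebraMap (Osub k k' v) (k' ⊗[k] K)) w σ'
    rw [hpw, mul_zero] at this
    exact this
  have hw₁i : IsIntegral (k' ⊗[k] R) w₁ := by
    let q' : (k' ⊗[k] K)[X] := (scaleRoots p σ').map (algebraMap (Osub k k' v) (k' ⊗[k] K))
    have hq'm : q'.Monic := ((monic_scaleRoots_iff σ').mpr hp).map _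
    have hq'd : q'.natDegree ≠ 0 := by
      rw [((monic_scaleRoots_iff σ').mpr hp).natDegree_map, natDegree_scaleRoots]
      exact hd0
    refine IsIntegral.of_aeval_monic_of_isIntegral_coeff hq'm hq'd ?_ ?_
    · have : eval w₁ q' = 0 := by rw [eval_map]; exact hq0
      rw [this]; exact isIntegral_zero
    · intro i
      rw [coeff_map, coeff_scaleRoots]
      show IsIntegral (k' ⊗[k] R) (((p.coeff i : k' ⊗[k] K)) * ((1 : k') ⊗ₜ σ) ^ (d - i))
      rcases lt_trichotomy i d with h | h | h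
      · rw [← hoe i, Algebra.TensorProduct.tmul_pow, one_pow, Algebra.TensorProduct.tmul_mul_tmul,
          one_mul]
        apply isIntegral_one_tmul
        have : o i * σ ^ (d - i) = (σ * o i) * σ ^ (d - i - 1) := by
          rw [show d - i = (d - i - 1) + 1 by omega, pow_succ]
          have : d - i - 1 + 1 - 1 = d - i - 1 := by omega
          rw [this]
          ring
        rw [this]
        exact (hσo i (Finset.mem_range.mpr h)).mul (hσi.pow _)
      · rw [h, Nat.sub_self, pow_zero, mul_one]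
        have : p.coeff d = 1 := hp.coeff_natDegree
        rw [this]
        exact isIntegral_one
      · rw [coeff_eq_zero_of_natDegree_lt h]
        simp only [ZeroMemClass.coe_zero, zero_mul]
        exact isIntegral_zero
  have hmem := different_mul_mem hdom hic hy hy' w₁ hw₁i
  have hmem' := mu_range_le v hv _ hmem
  set δ := aeval y (minpoly R y).derivative with hδdef
  have hδσ : v (δ * σ) = 1 := by rw [map_mul, hδ, hσv, one_mul]
  have hne : δ * σ ≠ 0 := fun h => by rw [h, map_zero] at hδσ; exact zero_ne_one hδσ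
  have hinv : v (δ * σ)⁻¹ ≤ 1 := by rw [map_inv₀, hδσ, inv_one]
  have hfin : w = ((1 : k') ⊗ₜ (δ * σ)⁻¹) * (((1 : k') ⊗ₜ δ) * w₁) := by
    rw [hw₁, ← mul_assoc, ← mul_assoc, Algebra.TensorProduct.tmul_mul_tmul,
      Algebra.TensorProduct.tmul_mul_tmul, one_mul, one_mul, mul_assoc (δ * σ)⁻¹,
      inv_mul_cancel₀ hne, ← Algebra.TensorProduct.one_def, one_mul]
  rw [hfin]
  exact mul_mem (Subalgebra.algebraMap_mem _ (⟨_, mem_Osub v hinv⟩ : Osub k k' v)) hmem'

theorem good_place [IsPrincipalIdealRing R] [FiniteDimensional F K] [Algebra.IsIntegral k k']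
    (hdom : IsDomain (k' ⊗[k] R)) (hic : IsIntegrallyClosed (k' ⊗[k] R))
    (hv : ∀ r : R, v (algebraMap R K r) ≤ 1)
    {y : K} (hy : IsIntegral R y) (hy' : Algebra.adjoin F {y} = ⊤)
    (hδ : v (aeval y (minpoly R y).derivative) = 1) :
    integralClosure (Osub k k' v) (k' ⊗[k] K) =
    Algebra.adjoin (Osub k k' v)
      (Set.range (Algebra.TensorProduct.includeLeftRingHom : k' →+* k' ⊗[k] K)) :=
  le_antisymm (integralClosure_le_adjoin v hdom hic hv hy hy' hδ)
    (adjoin_le_integralClosure v hv)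

end Main

end Groth.Agent.H9.SGP
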