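import Mathlib
import Groth.Agent.Lib.Helper9.Misc.FFP2
import Groth.Agent.Lib.Helper9.Misc.SGP1

set_option autoImplicit false
set_option linter.style.haveILetI false
set_option linter.unusedSectionVars false
set_option linter.unusedVariables false

namespace Groth.Agent.H9.SGP

open scoped TensorProduct
open Polynomial FunFld IntermediateField
open Groth.Agent.H9.DIF Groth.Agent.H9.VLC

universe u v

variable {k : Type u} {K : Type v} [Field k] [Field K] [Algebra k K]

theorem exists_sep_t (hK : IsFunctionField k K)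
    (hgeo : ∀ (k' : Type u) [Field k'] [Algebra k k'], FiniteDimensional k k' →
      IsField (k' ⊗[k] K)) :
    ∃ t : K, Transcendental k t ∧ Algebra.IsSeparable k⟮t⟯ K ∧ Module.Finite k⟮t⟯ K := by
  classical
  obtain ⟨x₀, hx₀, hfin₀⟩ := hK.1
  haveI : Algebra.EssFiniteType k k⟮x₀⟯ :=
    IntermediateField.essFiniteType_iff.mpr ⟨{x₀}, by simp⟩
  haveI : Algebra.EssFiniteType k⟮x₀⟯ K := inferInstance
  haveI : Algebra.EssFiniteType k K := Algebra.EssFiniteType.comp k k⟮x₀⟯ K
  obtain ⟨s, hs, hsep⟩ : ∃ s : Finset K, IsTranscendenceBasis k ((↑) : s → K) ∧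
      Algebra.IsSeparable (IntermediateField.adjoin k (s : Set K)) K := by
    rcases CharP.exists' k with h0 | ⟨p, hp, hpk⟩
    · haveI := h0
      exact exists_isTranscendenceBasis_and_isSeparable_of_perfectField k K
    · haveI : ExpChar k p := .prime hp.out
      exact exists_isTranscendenceBasis_and_isSeparable_of_linearIndepOn_pow_of_essFiniteType
        p hp.out (fun s hs => Groth.Agent.H9.FFG3.linearIndepOn_pow p hgeo s hs)
  have hb₀ : IsTranscendenceBasis k (fun _ : Unit => x₀) := by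
    have hai : AlgebraicIndependent k (fun _ : Unit => x₀) :=
      algebraicIndependent_unique_type_iff.mpr hx₀
    rw [hai.isTranscendenceBasis_iff_isAlgebraic, Set.range_const]
    haveI : Algebra.IsAlgebraic k⟮x₀⟯ K := Algebra.IsAlgebraic.of_finite _ _
    exact IntermediateField.isAlgebraic_adjoin_iff_top.mp inferInstance
  have hcard : s.card = 1 := by
    have h := hs.lift_cardinalMk_eq hb₀
    simpa using h
  obtain ⟨t, rfl⟩ := Finset.card_eq_one.mp hcard
  have ht : Transcendental k t := hs.1.transcendental ⟨t, Finset.mem_singleton_self t⟩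
  rw [Finset.coe_singleton] at hsep
  haveI : Algebra.EssFiniteType k⟮t⟯ K := Algebra.EssFiniteType.of_comp k k⟮t⟯ K
  haveI : Algebra.IsAlgebraic k⟮t⟯ K := Algebra.IsSeparable.isAlgebraic _ _
  exact ⟨t, ht, hsep, Algebra.finite_of_essFiniteType_of_isAlgebraic⟩

theorem finite_singular (hK : IsFunctionField k K) (hg : IsGeometric k K) :
    {P : FunFld.Place k K | ∃ (k' : Type u) (_ : Field k') (_ : Algebra k k'), FiniteDimensional k k' ∧
      integralClosure (P.O.toSubring.map (Algebra.TensorProduct.includeRight : K →ₐ[k] k' ⊗[k] K).toRingHom) (k' ⊗[k] K) ≠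
        Algebra.adjoin (P.O.toSubring.map (Algebra.TensorProduct.includeRight : K →ₐ[k] k' ⊗[k] K).toRingHom)
          (Set.range (Algebra.TensorProduct.includeLeftRingHom : k' →+* k' ⊗[k] K))}.Finite := by
  classical
  obtain ⟨t, ht, hsep, hfin⟩ := exists_sep_t hK hg
  have ht0 : t ≠ 0 := fun h => ht (by rw [h]; exact isAlgebraic_zero)
  -- instances
  letI algRK : Algebra k[X] K := (aeval t : k[X] →ₐ[k] K).toRingHom.toAlgebra
  letI algRF : Algebra k[X] k⟮t⟯ :=
    (aeval (AdjoinSimple.gen k t) : k[X] →ₐ[k] k⟮t⟯).toRingHom.toAlgebra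
  have hRK : ∀ p : k[X], algebraMap k[X] K p = aeval t p := fun p => rfl
  have hRF : ∀ p : k[X], algebraMap k[X] k⟮t⟯ p = aeval (AdjoinSimple.gen k t) p := fun p => rfl
  haveI : IsScalarTower k k[X] k⟮t⟯ := IsScalarTower.of_algebraMap_eq fun c => by
    rw [hRF, Polynomial.algebraMap_apply, aeval_C]
    rfl
  haveI : IsScalarTower k k[X] K := IsScalarTower.of_algebraMap_eq fun c => by
    rw [hRK, Polynomial.algebraMap_apply, aeval_C]
    rfl
  haveI : IsScalarTower k[X] k⟮t⟯ K := IsScalarTower.of_algebraMap_eq fun p => by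
    rw [hRK, hRF, ← Polynomial.aeval_algebraMap_apply]
    rfl
  haveI : IsFractionRing k[X] k⟮t⟯ := by
    let e : RatFunc k ≃ₐ[k[X]] k⟮t⟯ :=
      AlgEquiv.ofRingEquiv (f := (RatFunc.algEquivOfTranscendental t ht).toRingEquiv)
        (fun p => by
          show RatFunc.algEquivOfTranscendental t ht (algebraMap k[X] (RatFunc k) p) = _
          rw [RatFunc.algEquivOfTranscendental_algebraMap, hRF])
    exact IsLocalization.isLocalization_of_algEquiv (nonZeroDivisors k[X]) e
  have halgF : Algebra.IsAlgebraic k[X] k⟮t⟯ := IsLocalization.isAlgebraic _ (nonZeroDivisors k[X])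
  have halg : Algebra.IsAlgebraic k[X] K := Algebra.IsAlgebraic.trans k[X] k⟮t⟯ K
  -- the primitive element
  obtain ⟨y₀, hy₀⟩ := Field.exists_primitive_element k⟮t⟯ K
  obtain ⟨r, hr, hry⟩ := (halg.isAlgebraic y₀).exists_integral_multiple
  set y : K := r • y₀ with hy_def
  have hc : algebraMap k[X] K r ≠ 0 := by
    rw [IsScalarTower.algebraMap_apply k[X] k⟮t⟯ K]
    exact (map_ne_zero_iff _ (algebraMap k⟮t⟯ K).injective).mpr
      ((map_ne_zero_iff _ (IsFractionRing.injective k[X] k⟮t⟯)).mpr hr)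
  have hy' : Algebra.adjoin k⟮t⟯ {y} = ⊤ := by
    have hyalg : IsAlgebraic k⟮t⟯ y := Algebra.IsAlgebraic.isAlgebraic y
    rw [← IntermediateField.adjoin_simple_eq_top_iff_of_isAlgebraic hyalg, eq_top_iff, ← hy₀,
      IntermediateField.adjoin_simple_le_iff]
    have h1 : y₀ = (algebraMap k⟮t⟯ K (algebraMap k[X] k⟮t⟯ r))⁻¹ * y := by
      rw [hy_def, Algebra.smul_def, ← IsScalarTower.algebraMap_apply k[X] k⟮t⟯ K, ← mul_assoc,
        inv_mul_cancel₀ hc, one_mul]
    rw [h1]
    exact mul_mem (inv_mem (IntermediateField.algebraMap_mem _ _))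
      (IntermediateField.mem_adjoin_simple_self _ y)
  set δ : K := aeval y (minpoly k[X] y).derivative with hδ_def
  have hδ0 : δ ≠ 0 := deriv_ne_zero (F := k⟮t⟯) hry
  have hδi : IsIntegral k[X] δ := deriv_isIntegral hry
  -- the bad set
  refine ((FunFld.finite_zeros' hK (inv_ne_zero ht0)).union (FunFld.finite_zeros' hK hδ0)).subset ?_
  rintro P ⟨k', _, _, hfd, hne⟩
  by_contra hP
  rw [Set.mem_union, not_or] at hP
  obtain ⟨hP1, hP2⟩ := hP
  rw [Set.mem_ofPred_eq, not_lt] at hP1 hP2
  have hPt : P.1 t ≤ 1 := by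
    rw [map_inv₀] at hP1
    by_contra hlt
    rw [not_le] at hlt
    have := inv_lt_one_of_one_lt₀ hlt
    exact absurd hP1 (not_le.mpr this)
  have hv : ∀ r : k[X], P.1 (algebraMap k[X] K r) ≤ 1 := fun r => by
    rw [hRK]; exact Groth.Agent.H9.FFP1.v_aeval_le P hPt r
  have hPδ : P.1 δ = 1 := le_antisymm (v_le_one_of_isIntegral P.1 hv hδi) hP2
  -- normality of k' ⊗ k[X]
  have hdom : IsDomain (k' ⊗[k] k[X]) :=
    MulEquiv.isDomain k'[X] (polyEquivTensor k k').symm.toRingEquiv.toMulEquiv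
  have hic : IsIntegrallyClosed (k' ⊗[k] k[X]) :=
    IsIntegrallyClosed.of_equiv (polyEquivTensor k k').toRingEquiv
  haveI : Algebra.IsIntegral k k' := Algebra.IsIntegral.of_finite k k'
  exact hne (good_place (F := k⟮t⟯) P.1 hdom hic hv hry hy' hPδ)

end Groth.Agent.H9.SGP
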