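import Mathlib
import Groth.Agent.Lib.Helper2.DimFG

/-! Helper9: S18653 part A — homogeneous components of a 1-dimensional graded domain over an algebraically closed field are at most 1-dimensional. -/

set_option linter.style.haveILetI false
set_option linter.unusedSectionVars false

namespace Groth.Agent.H9.SGR

open MvPolynomial

universe u
variable {k : Type u} [Field k] {R : Type u} [CommRing R] [IsDomain R] [Algebra k R]
  (𝒜 : ℤ → Submodule k R) [GradedAlgebra 𝒜]

/-- A finite sum of elements in pairwise distinct degrees vanishes only if each term does. -/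
theorem eq_zero_of_sum_eq_zero {ι : Type*} (s : Finset ι) (deg : ι → ℤ)
    (hdeg : Set.InjOn deg s) (a : ι → R) (ha : ∀ i ∈ s, a i ∈ 𝒜 (deg i))
    (hsum : ∑ i ∈ s, a i = 0) : ∀ i ∈ s, a i = 0 := by
  classical
  intro i hi
  have := congrArg (GradedRing.proj 𝒜 (deg i)) hsum
  rw [map_sum, map_zero, Finset.sum_eq_single i] at this
  · rwa [GradedRing.proj_apply, DirectSum.decompose_of_mem_same _ (ha i hi)] at this
  · intro j hj hji
    rw [GradedRing.proj_apply, DirectSum.decompose_of_mem_ne _ (ha j hj)]
    intro h; exact hji (hdeg hj hi h)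
  · intro h; exact absurd hi h

theorem aeval_mem_of_isHomogeneous {n : ℤ} {f g : R} (hf : f ∈ 𝒜 n) (hg : g ∈ 𝒜 n)
    {Q : MvPolynomial (Fin 2) k} {m : ℕ} (hQ : Q.IsHomogeneous m) :
    aeval ![f, g] Q ∈ 𝒜 ((m : ℤ) * n) := by
  rw [MvPolynomial.aeval_def, MvPolynomial.eval₂_eq']
  refine Submodule.sum_mem _ fun d hd => ?_
  rw [← Algebra.smul_def]
  refine Submodule.smul_mem _ _ ?_
  rw [Fin.prod_univ_two]
  have hd' : m = d 0 + d 1 := by
    have := hQ.degree_eq_sum_deg_support hd
    rw [this]
    have := Finsupp.sum_fintype d (fun _ e => e) (fun _ => rfl)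
    rw [Finsupp.sum] at this
    rw [this, Fin.sum_univ_two]
  have : ((m : ℤ) * n) = (d 0) • n + (d 1) • n := by
    rw [hd']; push_cast; simp; ring
  rw [this]
  exact SetLike.mul_mem_graded (SetLike.pow_mem_graded _ hf) (SetLike.pow_mem_graded _ hg)

theorem aeval_mul_of_isHomogeneous {σ : Type*} {A : Type*} [CommRing A] [Algebra k A]
    {Q : MvPolynomial σ k} {m : ℕ} (hQ : Q.IsHomogeneous m) (γ : A) (y : σ → A) :
    aeval (fun i => γ * y i) Q = γ ^ m * aeval y Q := by
  rw [aeval_def, aeval_def, eval₂_eq, eval₂_eq, Finset.mul_sum]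
  refine Finset.sum_congr rfl fun d hd => ?_
  simp only [mul_pow, Finset.prod_mul_distrib, Finset.prod_pow_eq_pow_sum]
  rw [← hQ.degree_eq_sum_deg_support hd]
  ring

theorem exists_homogeneous_rel [Algebra.FiniteType k R] (h1 : ringKrullDim R = 1) {n : ℤ}
    (hn : 0 < n) {f g : R} (hf : f ∈ 𝒜 n) (hg : g ∈ 𝒜 n) :
    ∃ (m : ℕ) (Q : MvPolynomial (Fin 2) k), Q.IsHomogeneous m ∧ Q ≠ 0 ∧ aeval ![f, g] Q = 0 := by
  obtain ⟨s, hs1, hs2⟩ := Groth.Agent.H2.DimFG.exists_dim_eq_trdeg k R
  have hs : s = 1 := by
    rw [h1] at hs1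
    exact_mod_cast hs1.symm
  have hnot : ¬ AlgebraicIndependent k ![f, g] := by
    intro hai
    have := hai.lift_cardinalMk_le_trdeg
    rw [hs2, hs] at this
    simp at this
  rw [algebraicIndependent_iff] at hnot
  push Not at hnot
  obtain ⟨P, hP0, hP⟩ := hnot
  have hsum : ∑ m ∈ Finset.range (P.totalDegree + 1),
      aeval ![f, g] (homogeneousComponent m P) = 0 := by
    rw [← map_sum, MvPolynomial.sum_homogeneousComponent, hP0]
  have hz := eq_zero_of_sum_eq_zero 𝒜 (Finset.range (P.totalDegree + 1))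
    (fun m => (m : ℤ) * n) (by
      intro a _ b _ hab
      have := mul_right_cancel₀ hn.ne' hab
      exact_mod_cast this) _
    (fun m _ => aeval_mem_of_isHomogeneous 𝒜 hf hg (homogeneousComponent_isHomogeneous m P)) hsum
  by_contra hcon
  push Not at hcon
  apply hP
  rw [← MvPolynomial.sum_homogeneousComponent P]
  refine Finset.sum_eq_zero fun m hm => ?_
  by_contra hne
  exact hcon m _ (homogeneousComponent_isHomogeneous m P) hne (hz m hm)

theorem exists_smul_eq [IsAlgClosed k] [Algebra.FiniteType k R] (h1 : ringKrullDim R = 1)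
    {n : ℤ} (hn : 0 < n) {f g : R} (hf : f ∈ 𝒜 n) (hg : g ∈ 𝒜 n) (hg0 : g ≠ 0) :
    ∃ c : k, f = c • g := by
  obtain ⟨m, Q, hQ, hQ0, hQfg⟩ := exists_homogeneous_rel 𝒜 h1 hn hf hg
  let K := FractionRing R
  let t : K := algebraMap R K f / algebraMap R K g
  have hgK : algebraMap R K g ≠ 0 := by
    intro h
    exact hg0 ((IsFractionRing.to_map_eq_zero_iff (K := K)).mp h)
  let p : Polynomial k := aeval ![Polynomial.X, 1] Q
  have hp0 : p ≠ 0 := by
    intro hp
    have := Polynomial.homogenize_eq_of_isHomogeneous hQ (p := p) rfl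
    rw [hp, Polynomial.homogenize_zero] at this
    exact hQ0 this.symm
  have hpt : Polynomial.aeval t p = 0 := by
    have e1 : Polynomial.aeval t p = aeval ![t, 1] Q := by
      have := MvPolynomial.comp_aeval_apply (f := ![Polynomial.X, (1 : Polynomial k)])
        (Polynomial.aeval t) Q
      rw [this]
      have hfun : (fun i => Polynomial.aeval t (![Polynomial.X, (1 : Polynomial k)] i)) = ![t, 1] := by
        funext i
        fin_cases i <;> simp
      rw [hfun]
    have e2 : algebraMap R K (aeval ![f, g] Q) = aeval ![algebraMap R K f, algebraMap R K g] Q := by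
      have := MvPolynomial.comp_aeval_apply (f := ![f, g])
        (IsScalarTower.toAlgHom k R K) Q
      rw [IsScalarTower.coe_toAlgHom'] at this
      rw [this]
      have hfun : (fun i => algebraMap R K (![f, g] i)) = ![algebraMap R K f, algebraMap R K g] := by
        funext i
        fin_cases i <;> simp
      rw [hfun]
    have e3 : ![algebraMap R K f, algebraMap R K g] = fun i => algebraMap R K g * ![t, 1] i := by
      funext i
      fin_cases i
      · simp only [t]; simp; rw [mul_div_cancel₀ _ hgK]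
      · simp
    rw [hQfg, map_zero, e3, aeval_mul_of_isHomogeneous hQ] at e2
    rw [e1]
    rcases mul_eq_zero.mp e2.symm with h | h
    · exact absurd (pow_eq_zero_iff (M₀ := K) (by
        intro hm; subst hm
        -- m = 0: Q homogeneous of degree 0
        exact (pow_ne_zero 0 hgK) h) |>.mp h) hgK
    · exact h
  have halg : IsAlgebraic k t := ⟨p, hp0, hpt⟩
  obtain ⟨c, hc⟩ : ∃ c : k, algebraMap k K c = t := by
    have hint : IsIntegral k t := halg.isIntegral
    have hdeg := IsAlgClosed.degree_eq_one_of_irreducible k (minpoly.irreducible hint)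
    exact minpoly.mem_range_of_degree_eq_one k t hdeg
  refine ⟨c, ?_⟩
  apply IsFractionRing.injective R K
  rw [Algebra.smul_def, map_mul, ← IsScalarTower.algebraMap_apply, hc]
  simp only [t]
  rw [div_mul_cancel₀ _ hgK]

end Groth.Agent.H9.SGR
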