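import Mathlib
import Groth.Agent.Lib.Helper9.Misc.SGR1

/-! Helper9: S18653 part B — a k-point of a 1-dimensional graded domain not vanishing on any nonzero homogeneous element. -/

set_option linter.style.haveILetI false
set_option linter.unusedSectionVars false

namespace Groth.Agent.H9.SGR

universe u
variable {k : Type u} [Field k] {R : Type u} [CommRing R] [IsDomain R] [Algebra k R]
  (𝒜 : ℤ → Submodule k R) [GradedAlgebra 𝒜]

theorem mem_zero_of_forall_eq_bot (h : ∀ n : ℤ, n ≠ 0 → 𝒜 n = ⊥) (r : R) : r ∈ 𝒜 0 := by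
  classical
  rw [← DirectSum.sum_support_decompose 𝒜 r]
  refine Submodule.sum_mem _ fun i _ => ?_
  by_cases hi : i = 0
  · subst hi; exact SetLike.coe_mem _
  · have : ((DirectSum.decompose 𝒜 r i : 𝒜 i) : R) ∈ (⊥ : Submodule k R) :=
      (h i hi) ▸ SetLike.coe_mem _
    rw [(Submodule.mem_bot k).mp this]
    exact zero_mem _

theorem exists_pos_ne_zero (hpos : ∀ n : ℤ, n < 0 → 𝒜 n = ⊥)
    (h0 : 𝒜 0 = Submodule.span k {(1 : R)}) (h1 : ringKrullDim R = 1) :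
    ∃ n : ℤ, 0 < n ∧ ∃ w ∈ 𝒜 n, w ≠ 0 := by
  by_contra hcon
  push Not at hcon
  have hall : ∀ n : ℤ, n ≠ 0 → 𝒜 n = ⊥ := by
    intro n hn
    rcases lt_or_gt_of_ne hn with h | h
    · exact hpos n h
    · rw [eq_bot_iff]; intro w hw; rw [Submodule.mem_bot]; exact hcon n h w hw
  have hfield : IsField R := by
    refine ⟨⟨0, 1, zero_ne_one⟩, mul_comm, ?_⟩
    intro a ha
    have := mem_zero_of_forall_eq_bot 𝒜 hall a
    rw [h0, Submodule.mem_span_singleton] at this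
    obtain ⟨c, rfl⟩ := this
    have hc : c ≠ 0 := by rintro rfl; simp at ha
    refine ⟨c⁻¹ • 1, ?_⟩
    rw [smul_mul_smul_comm, mul_one, mul_inv_cancel₀ hc, one_smul]
  have := ringKrullDim_eq_zero_of_isField hfield
  rw [h1] at this
  exact one_ne_zero this

omit [IsDomain R] in
theorem exists_algHom_ne_zero [IsDomain R] [IsAlgClosed k] [Algebra.FiniteType k R] (w : R)
    (hw : w ≠ 0) : ∃ χ : R →ₐ[k] k, χ w ≠ 0 := by
  haveI : IsJacobsonRing R := isJacobsonRing_of_finiteType (A := k) (B := R)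
  have hrad : (⊥ : Ideal R).IsRadical := (Ideal.isPrime_bot).isRadical
  have hj := IsJacobsonRing.out' _ hrad
  have : w ∉ (⊥ : Ideal R).jacobson := by rw [hj]; simpa using hw
  rw [Ideal.jacobson, Ideal.mem_sInf] at this
  push Not at this
  obtain ⟨m, ⟨_, hm⟩, hwm⟩ := this
  haveI := hm
  letI : Field (R ⧸ m) := Ideal.Quotient.field m
  haveI : Module.Finite k (R ⧸ m) := finite_of_finite_type_of_isJacobsonRing k (R ⧸ m)
  haveI : Algebra.IsIntegral k (R ⧸ m) := inferInstance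
  have hbij := IsAlgClosed.algebraMap_bijective_of_isIntegral (k := k) (K := R ⧸ m)
  let e : k ≃ₐ[k] (R ⧸ m) := AlgEquiv.ofBijective (Algebra.ofId k (R ⧸ m)) hbij
  refine ⟨(e.symm : (R ⧸ m) →ₐ[k] k).comp (Ideal.Quotient.mkₐ k m), ?_⟩
  intro h
  have h' : e.symm (Ideal.Quotient.mk m w) = 0 := h
  rw [EmbeddingLike.map_eq_zero_iff, Ideal.Quotient.eq_zero_iff_mem] at h'
  exact hwm h'

theorem exists_char [IsAlgClosed k] [Algebra.FiniteType k R] (hpos : ∀ n : ℤ, n < 0 → 𝒜 n = ⊥)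
    (h0 : 𝒜 0 = Submodule.span k {(1 : R)}) (h1 : ringKrullDim R = 1) :
    ∃ χ : R →ₐ[k] k, ∀ n : ℤ, ∀ f ∈ 𝒜 n, χ f = 0 → f = 0 := by
  obtain ⟨n0, hn0, w0, hw0, hw0ne⟩ := exists_pos_ne_zero 𝒜 hpos h0 h1
  obtain ⟨χ, hχ⟩ := exists_algHom_ne_zero (k := k) w0 hw0ne
  refine ⟨χ, fun n f hf hχf => ?_⟩
  rcases lt_trichotomy n 0 with hn | hn | hn
  · rw [hpos n hn] at hf; exact (Submodule.mem_bot k).mp hf
  · subst hn
    rw [h0, Submodule.mem_span_singleton] at hf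
    obtain ⟨c, rfl⟩ := hf
    rw [map_smul, map_one, smul_eq_mul, mul_one] at hχf
    rw [hχf, zero_smul]
  · by_contra hf0
    obtain ⟨a, ha⟩ : ∃ a : ℕ, (a : ℤ) = n0 := ⟨n0.toNat, Int.toNat_of_nonneg hn0.le⟩
    obtain ⟨b, hb⟩ : ∃ b : ℕ, (b : ℤ) = n := ⟨n.toNat, Int.toNat_of_nonneg hn.le⟩
    have h1' : f ^ a ∈ 𝒜 (n0 * n) := by
      have := SetLike.pow_mem_graded a hf
      rwa [nsmul_eq_mul, ha] at this
    have h2' : w0 ^ b ∈ 𝒜 (n0 * n) := by
      have := SetLike.pow_mem_graded b hw0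
      rwa [nsmul_eq_mul, hb, mul_comm] at this
    obtain ⟨c, hc⟩ := exists_smul_eq 𝒜 h1 (mul_pos hn0 hn) h2' h1' (pow_ne_zero _ hf0)
    have := congrArg χ hc
    rw [map_smul, map_pow, map_pow, hχf, zero_pow (by omega : a ≠ 0), smul_zero] at this
    exact hχ ((pow_eq_zero_iff (by omega)).mp this)

end Groth.Agent.H9.SGR
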