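import Mathlib
import Groth.Agent.Lib.Helper9.Misc.SGR2

/-! Helper9: S18653 parts C, D — a 1-dimensional graded domain over an algebraically closed field is a semigroup ring; polynomial ring if generated in degree one. -/

set_option linter.style.haveILetI false
set_option linter.unusedSectionVars false

namespace Groth.Agent.H9.SGR

universe u
variable {k : Type u} [Field k] {R : Type u} [CommRing R] [IsDomain R] [Algebra k R]
  (𝒜 : ℤ → Submodule k R) [GradedAlgebra 𝒜]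

/-- The degree monoid. -/
def degMonoid : AddSubmonoid ℕ where
  carrier := {n | 𝒜 (n : ℤ) ≠ ⊥}
  zero_mem' := by
    show 𝒜 ((0 : ℕ) : ℤ) ≠ ⊥
    intro h
    have : (1 : R) ∈ 𝒜 0 := SetLike.GradedOne.one_mem
    rw [Nat.cast_zero] at h; rw [h] at this
    exact one_ne_zero ((Submodule.mem_bot k).mp this)
  add_mem' := by
    intro a b ha hb
    obtain ⟨x, hx, hx0⟩ := Submodule.exists_mem_ne_zero_of_ne_bot ha
    obtain ⟨y, hy, hy0⟩ := Submodule.exists_mem_ne_zero_of_ne_bot hb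
    intro h
    have : x * y ∈ 𝒜 ((a : ℤ) + b) := SetLike.mul_mem_graded hx hy
    rw [Nat.cast_add] at h; rw [h] at this
    exact mul_ne_zero hx0 hy0 ((Submodule.mem_bot k).mp this)

theorem mem_degMonoid {n : ℕ} : n ∈ degMonoid 𝒜 ↔ 𝒜 (n : ℤ) ≠ ⊥ := Iff.rfl

variable (χ : R →ₐ[k] k) (hχ : ∀ n : ℤ, ∀ f ∈ 𝒜 n, χ f = 0 → f = 0)

include hχ in
theorem eq_of_char_eq {n : ℤ} {f g : R} (hf : f ∈ 𝒜 n) (hg : g ∈ 𝒜 n) (h : χ f = χ g) :
    f = g :=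
  sub_eq_zero.mp (hχ n (f - g) (sub_mem hf hg) (by rw [map_sub, h, sub_self]))

include hχ in
theorem exists_unit_elt {n : ℤ} (hn : 𝒜 n ≠ ⊥) : ∃ u ∈ 𝒜 n, χ u = 1 := by
  obtain ⟨x, hx, hx0⟩ := Submodule.exists_mem_ne_zero_of_ne_bot hn
  have : χ x ≠ 0 := fun h => hx0 (hχ n x hx h)
  exact ⟨(χ x)⁻¹ • x, Submodule.smul_mem _ _ hx, by
    rw [map_smul, smul_eq_mul, inv_mul_cancel₀ this]⟩

noncomputable def uElt (h : degMonoid 𝒜) : R := (exists_unit_elt 𝒜 χ hχ h.2).choose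

theorem uElt_mem (h : degMonoid 𝒜) : uElt 𝒜 χ hχ h ∈ 𝒜 ((h : ℕ) : ℤ) :=
  (exists_unit_elt 𝒜 χ hχ h.2).choose_spec.1

theorem char_uElt (h : degMonoid 𝒜) : χ (uElt 𝒜 χ hχ h) = 1 :=
  (exists_unit_elt 𝒜 χ hχ h.2).choose_spec.2

theorem uElt_ne_zero (h : degMonoid 𝒜) : uElt 𝒜 χ hχ h ≠ 0 := by
  intro h0
  have := char_uElt 𝒜 χ hχ h
  rw [h0, map_zero] at this
  exact zero_ne_one this

theorem uElt_zero : uElt 𝒜 χ hχ 0 = 1 := by
  refine eq_of_char_eq 𝒜 χ hχ (n := 0) ?_ SetLike.GradedOne.one_mem ?_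
  · have := uElt_mem 𝒜 χ hχ 0
    simpa using this
  · rw [char_uElt, map_one]

theorem uElt_add (a b : degMonoid 𝒜) :
    uElt 𝒜 χ hχ (a + b) = uElt 𝒜 χ hχ a * uElt 𝒜 χ hχ b := by
  refine eq_of_char_eq 𝒜 χ hχ (n := ((a : ℕ) : ℤ) + ((b : ℕ) : ℤ)) ?_
    (SetLike.mul_mem_graded (uElt_mem 𝒜 χ hχ a) (uElt_mem 𝒜 χ hχ b)) ?_
  · have := uElt_mem 𝒜 χ hχ (a + b)
    simpa using this
  · rw [map_mul, char_uElt, char_uElt, char_uElt, mul_one]

noncomputable def uHom : Multiplicative (degMonoid 𝒜) →* R where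
  toFun h := uElt 𝒜 χ hχ h.toAdd
  map_one' := uElt_zero 𝒜 χ hχ
  map_mul' a b := uElt_add 𝒜 χ hχ a.toAdd b.toAdd

noncomputable def phi : AddMonoidAlgebra k (degMonoid 𝒜) →ₐ[k] R :=
  AddMonoidAlgebra.lift k R (degMonoid 𝒜) (uHom 𝒜 χ hχ)

theorem phi_single (a : degMonoid 𝒜) (c : k) :
    phi 𝒜 χ hχ (AddMonoidAlgebra.single a c) = c • uElt 𝒜 χ hχ a := by
  rw [phi, AddMonoidAlgebra.lift_single]
  rfl

theorem phi_surjective (hpos : ∀ n : ℤ, n < 0 → 𝒜 n = ⊥) :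
    Function.Surjective (phi 𝒜 χ hχ) := by
  classical
  intro r
  rw [← AlgHom.mem_range, ← DirectSum.sum_support_decompose 𝒜 r]
  refine Subalgebra.sum_mem _ fun i _ => ?_
  set ri : R := ((DirectSum.decompose 𝒜 r i : 𝒜 i) : R) with hri
  have hmem : ri ∈ 𝒜 i := SetLike.coe_mem _
  by_cases h0 : ri = 0
  · rw [h0]; exact zero_mem _
  have hne : 𝒜 i ≠ ⊥ := by
    intro h
    rw [h] at hmem
    exact h0 ((Submodule.mem_bot k).mp hmem)
  have hi : 0 ≤ i := by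
    by_contra hneg
    exact hne (hpos i (not_le.mp hneg))
  obtain ⟨j, rfl⟩ : ∃ j : ℕ, (j : ℤ) = i := ⟨i.toNat, Int.toNat_of_nonneg hi⟩
  let a : degMonoid 𝒜 := ⟨j, hne⟩
  refine ⟨AddMonoidAlgebra.single a (χ ri), ?_⟩
  show phi 𝒜 χ hχ (AddMonoidAlgebra.single a (χ ri)) = ri
  rw [phi_single]
  refine eq_of_char_eq 𝒜 χ hχ (n := (j : ℤ)) (Submodule.smul_mem _ _ (uElt_mem 𝒜 χ hχ a)) hmem ?_
  rw [map_smul, char_uElt, smul_eq_mul, mul_one]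

theorem phi_injective : Function.Injective (phi 𝒜 χ hχ) := by
  classical
  rw [injective_iff_map_eq_zero]
  intro x hx
  rw [phi, AddMonoidAlgebra.lift_apply, Finsupp.sum] at hx
  have hz := eq_zero_of_sum_eq_zero 𝒜 x.coeff.support (fun a => ((a : ℕ) : ℤ))
    (by
      intro a _ b _ hab
      have hab' : ((a : ℕ) : ℤ) = ((b : ℕ) : ℤ) := hab
      exact Subtype.ext (by exact_mod_cast hab')) _
    (fun a _ => Submodule.smul_mem _ _ (uElt_mem 𝒜 χ hχ a)) hx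
  have hsupp : x.coeff.support = ∅ := by
    rw [Finset.eq_empty_iff_forall_notMem]
    intro a ha
    have h1 := hz a ha
    rcases smul_eq_zero.mp h1 with h | h
    · exact (Finsupp.mem_support_iff.mp ha) h
    · exact uElt_ne_zero 𝒜 χ hχ a h
  rw [Finsupp.support_eq_empty] at hsupp
  ext a
  rw [hsupp]
  rfl

noncomputable def phiEquiv (hpos : ∀ n : ℤ, n < 0 → 𝒜 n = ⊥) :
    R ≃+* AddMonoidAlgebra k (degMonoid 𝒜) :=
  (RingEquiv.ofBijective (phi 𝒜 χ hχ)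
    ⟨phi_injective 𝒜 χ hχ, phi_surjective 𝒜 χ hχ hpos⟩).symm

theorem one_mem_degMonoid (hpos : ∀ n : ℤ, n < 0 → 𝒜 n = ⊥)
    (h0 : 𝒜 0 = Submodule.span k {(1 : R)}) (h1 : ringKrullDim R = 1)
    (hgen : Ideal.span (⋃ n ∈ Set.Ioi (0 : ℤ), (𝒜 n : Set R)) =
      Ideal.span ((𝒜 1 : Submodule k R) : Set R)) : 1 ∈ degMonoid 𝒜 := by
  show 𝒜 ((1 : ℕ) : ℤ) ≠ ⊥
  intro h
  rw [Nat.cast_one] at h
  obtain ⟨n, hn, w, hw, hw0⟩ := exists_pos_ne_zero 𝒜 hpos h0 h1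
  have : w ∈ Ideal.span (⋃ n ∈ Set.Ioi (0 : ℤ), (𝒜 n : Set R)) :=
    Ideal.subset_span (Set.mem_biUnion (Set.mem_Ioi.mpr hn) hw)
  rw [hgen, h] at this
  simp at this
  exact hw0 this

theorem S18653_main [IsAlgClosed k] [Algebra.FiniteType k R]
    (hpos : ∀ n : ℤ, n < 0 → 𝒜 n = ⊥)
    (h0 : 𝒜 0 = Submodule.span k {(1 : R)}) (h1 : ringKrullDim R = 1) :
    (∃ H : AddSubmonoid ℕ, Nonempty (R ≃+* AddMonoidAlgebra k H)) ∧
      (Ideal.span (⋃ n ∈ Set.Ioi (0 : ℤ), (𝒜 n : Set R)) =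
        Ideal.span ((𝒜 1 : Submodule k R) : Set R) → Nonempty (R ≃+* Polynomial k)) := by
  obtain ⟨χ, hχ⟩ := exists_char 𝒜 hpos h0 h1
  refine ⟨⟨degMonoid 𝒜, ⟨phiEquiv 𝒜 χ hχ hpos⟩⟩, fun hgen => ?_⟩
  have h1mem := one_mem_degMonoid 𝒜 hpos h0 h1 hgen
  have hall : ∀ n : ℕ, n ∈ degMonoid 𝒜 := by
    intro n
    have := nsmul_mem h1mem n
    simpa using this
  let e : degMonoid 𝒜 ≃+ ℕ :=
    { toFun := fun a => a.1
      invFun := fun n => ⟨n, hall n⟩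
      left_inv := fun a => rfl
      right_inv := fun n => rfl
      map_add' := fun a b => rfl }
  exact ⟨(phiEquiv 𝒜 χ hχ hpos).trans
    ((AddMonoidAlgebra.domCongr k k e).toRingEquiv.trans (Polynomial.toFinsuppIso k).symm)⟩

end Groth.Agent.H9.SGR
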