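import Mathlib

set_option autoImplicit false
set_option linter.style.haveILetI false
set_option linter.unusedSectionVars false
set_option linter.unusedVariables false

namespace Groth.Agent.H9.SMK

universe u

/-- the `S`-torsion of a Noetherian module is killed by a single element of `S` -/
theorem exists_kill_torsion {A : Type u} [CommRing A] (M : Type u) [AddCommGroup M] [Module A M]
    [IsNoetherian A M] (S : Submonoid A) :
    ∃ s ∈ S, ∀ m : M, (∃ t ∈ S, t • m = 0) → s • m = 0 := by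
  classical
  let T : Submodule A M :=
    { carrier := {m | ∃ t ∈ S, t • m = 0}
      add_mem' := by
        rintro a b ⟨t, ht, hta⟩ ⟨t', ht', htb⟩
        refine ⟨t * t', S.mul_mem ht ht', ?_⟩
        rw [smul_add, mul_smul, mul_smul, htb, smul_zero, add_zero, smul_comm, hta, smul_zero]
      zero_mem' := ⟨1, S.one_mem, smul_zero _⟩
      smul_mem' := by
        rintro c a ⟨t, ht, hta⟩
        exact ⟨t, ht, by rw [smul_comm, hta, smul_zero]⟩ }
  obtain ⟨G, hG⟩ := (IsNoetherian.noetherian T : T.FG)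
  have hG' : ∀ g ∈ G, ∃ t ∈ S, t • g = 0 := by
    intro g hg
    have : g ∈ T := hG ▸ Submodule.subset_span hg
    exact this
  choose! t ht htg using hG'
  refine ⟨∏ g ∈ G, t g, S.prod_mem (fun g hg => ht g hg), ?_⟩
  intro m hm
  have hmT : m ∈ Submodule.span A (G : Set M) := by rw [hG]; exact hm
  refine Submodule.span_induction ?_ ?_ ?_ ?_ hmT
  · intro g hg
    rw [← Finset.mul_prod_erase G t hg, mul_comm, mul_smul, htg g hg, smul_zero]
  · exact smul_zero _
  · intro x y _ _ hx hy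
    rw [smul_add, hx, hy, add_zero]
  · intro a x _ hx
    rw [smul_comm, hx, smul_zero]

theorem main {A : Type u} [CommRing A] [IsNoetherianRing A]
    (M : Type u) [AddCommGroup M] [Module A M] [Module.Finite A M] (S : Submonoid A) (π : A)
    (h : ∀ m : LocalizedModule S M, π ^ 2 • m = 0 → π • m = 0) :
    ∃ s ∈ S, ∀ n : ℕ, 0 < n → ∀ m : M, (s ^ n * π) ^ 2 • m = 0 → (s ^ n * π) • m = 0 := by
  haveI : IsNoetherian A M := isNoetherian_of_isNoetherianRing_of_finite A M
  obtain ⟨s, hs, hkill⟩ := exists_kill_torsion M S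
  refine ⟨s, hs, ?_⟩
  intro n hn m hm
  have h1 : π ^ 2 • (LocalizedModule.mkLinearMap S M m) = 0 := by
    rw [← map_smul]
    rw [IsLocalizedModule.eq_zero_iff S]
    refine ⟨⟨(s ^ n) ^ 2, S.pow_mem (S.pow_mem hs n) 2⟩, ?_⟩
    show (s ^ n) ^ 2 • π ^ 2 • m = 0
    rw [← mul_smul, ← mul_pow]
    exact hm
  have h2 := h _ h1
  rw [← map_smul, IsLocalizedModule.eq_zero_iff S] at h2
  obtain ⟨t, ht⟩ := h2
  have h3 : s • (π • m) = 0 := hkill (π • m) ⟨t.1, t.2, ht⟩
  obtain ⟨k, rfl⟩ : ∃ k, n = k + 1 := ⟨n - 1, by omega⟩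
  rw [pow_succ, mul_assoc, mul_smul, mul_smul, h3, smul_zero]

end Groth.Agent.H9.SMK
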