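import Mathlib

set_option autoImplicit false
set_option linter.style.haveILetI false
set_option linter.unusedSectionVars false
set_option linter.unusedVariables false

namespace Groth.Agent.H9.SMU

open TensorProduct KaehlerDifferential

section L1

variable {R A : Type*} [CommRing R] [CommRing A] [Algebra R A] (ε : A →ₐ[R] R)

/-- The augmentation ideal. -/
abbrev II : Ideal A := RingHom.ker ε

lemma sub_mem_II (a : A) : a - algebraMap R A (ε a) ∈ II ε := by
  rw [RingHom.mem_ker, map_sub, AlgHom.commutes]; simp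

/-- The derivation `a ↦ [a - ε a] : A → I/I²`. -/
noncomputable def dI : Derivation R A (II ε).Cotangent :=
  Derivation.mk'
    { toFun := fun a => (II ε).toCotangent ⟨a - algebraMap R A (ε a), sub_mem_II ε a⟩
      map_add' := fun a b => by
        rw [← map_add]; congr 1; ext; simp; ring
      map_smul' := fun r a => by
        rw [RingHom.id_apply, ← LinearMap.map_smul_of_tower]; congr 1; ext
        simp [Algebra.smul_def]; ring }
    (fun a b => by
      change (II ε).toCotangent ⟨a * b - algebraMap R A (ε (a * b)), sub_mem_II ε (a * b)⟩ =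
        a • (II ε).toCotangent ⟨b - algebraMap R A (ε b), sub_mem_II ε b⟩ +
        b • (II ε).toCotangent ⟨a - algebraMap R A (ε a), sub_mem_II ε a⟩
      rw [← map_smul, ← map_smul, ← map_add, Ideal.toCotangent_eq]
      have h : (a - algebraMap R A (ε a)) * (b - algebraMap R A (ε b)) ∈ II ε ^ 2 := by
        rw [pow_two]; exact Ideal.mul_mem_mul (sub_mem_II ε a) (sub_mem_II ε b)
      have : ((⟨a * b - algebraMap R A (ε (a * b)), sub_mem_II ε (a * b)⟩ : II ε) : A) -
          ((a • (⟨b - algebraMap R A (ε b), sub_mem_II ε b⟩ : II ε) +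
            b • (⟨a - algebraMap R A (ε a), sub_mem_II ε a⟩ : II ε) : II ε) : A) =
          - ((a - algebraMap R A (ε a)) * (b - algebraMap R A (ε b))) := by
        simp only [map_mul, Submodule.coe_add, Submodule.coe_smul, smul_eq_mul]
        ring
      rw [this]
      exact neg_mem h)

lemma dI_apply (a : A) :
    dI ε a = (II ε).toCotangent ⟨a - algebraMap R A (ε a), sub_mem_II ε a⟩ := rfl

lemma dI_of_mem (a : A) (ha : a ∈ II ε) : dI ε a = (II ε).toCotangent ⟨a, ha⟩ := by
  rw [dI_apply]; congr 1; ext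
  have : ε a = 0 := ha
  simp [this]

/-- scalar action on a module killed by `I` factors through `ε`. -/
lemma smul_eq_of_killed {N : Type*} [AddCommGroup N] [Module A N] [Module R N]
    [IsScalarTower R A N] (hN : ∀ i ∈ II ε, ∀ x : N, i • x = 0) (a : A) (x : N) :
    a • x = (ε a) • x := by
  have := hN _ (sub_mem_II ε a) x
  rw [sub_smul, sub_eq_zero] at this
  rw [this, algebraMap_smul]

/-- An `R`-linear map between `A`-modules killed by `I` is `A`-linear. -/
def toALin {N N' : Type*} [AddCommGroup N] [Module A N] [Module R N]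
    [IsScalarTower R A N] [AddCommGroup N'] [Module A N'] [Module R N']
    [IsScalarTower R A N'] (hN : ∀ i ∈ II ε, ∀ x : N, i • x = 0)
    (hN' : ∀ i ∈ II ε, ∀ x : N', i • x = 0) (s : N →ₗ[R] N') : N →ₗ[A] N' where
  toFun := s
  map_add' := s.map_add
  map_smul' := fun a x => by
    rw [RingHom.id_apply, smul_eq_of_killed ε hN, smul_eq_of_killed ε hN', map_smul]

variable (J : Ideal A) (hJI : J ≤ II ε)

/-- `J/IJ`. -/
abbrev NJ : Type _ := ↥J ⧸ (II ε • ⊤ : Submodule A ↥J)

/-- `I/(J+I²)`. -/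
abbrev QQ : Type _ := ↥(II ε) ⧸ Submodule.comap (II ε).subtype (J ⊔ II ε ^ 2)

/-- `J → I/I²`. -/
noncomputable def iota : ↥J →ₗ[A] (II ε).Cotangent :=
  (II ε).toCotangent ∘ₗ Submodule.inclusion hJI

lemma iota_apply (j : ↥J) : iota ε J hJI j = (II ε).toCotangent ⟨j.1, hJI j.2⟩ := rfl

/-- `J/IJ → I/I²`. -/
noncomputable def phi : NJ ε J →ₗ[A] (II ε).Cotangent :=
  Submodule.liftQ _ (iota ε J hJI) (by
    rw [Submodule.smul_le]
    intro i hi j _
    rw [LinearMap.mem_ker, map_smul]
    exact Ideal.Cotangent.smul_eq_zero_of_mem hi _)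

lemma phi_mk (j : ↥J) : phi ε J hJI (Submodule.Quotient.mk j) = iota ε J hJI j := rfl

/-- `I/I² → I/(J+I²)`. -/
noncomputable def pp : (II ε).Cotangent →ₗ[A] QQ ε J :=
  Submodule.liftQ _ (Submodule.mkQ _) (by
    rw [Submodule.smul_le]
    intro i hi x _
    rw [Submodule.ker_mkQ, Submodule.mem_comap]
    refine Ideal.mem_sup_right ?_
    rw [pow_two]
    exact Ideal.mul_mem_mul hi x.2)

lemma pp_toCotangent (x : ↥(II ε)) :
    pp ε J ((II ε).toCotangent x) = Submodule.Quotient.mk x := rfl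

lemma pp_surjective : Function.Surjective (pp ε J) := by
  intro y
  obtain ⟨x, rfl⟩ := Submodule.Quotient.mk_surjective _ y
  exact ⟨(II ε).toCotangent x, rfl⟩

include hJI in
lemma phi_injective (h2 : J ⊓ II ε ^ 2 = II ε * J) : Function.Injective (phi ε J hJI) := by
  rw [injective_iff_map_eq_zero]
  intro x hx
  obtain ⟨j, rfl⟩ := Submodule.Quotient.mk_surjective _ x
  rw [phi_mk, iota_apply, Ideal.toCotangent_eq_zero] at hx
  have : (j : A) ∈ II ε * J := by
    rw [← h2]; exact ⟨j.2, hx⟩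
  rw [Submodule.Quotient.mk_eq_zero, Submodule.mem_smul_top_iff]
  exact this

lemma exact_phi_pp : Function.Exact (phi ε J hJI) (pp ε J) := by
  intro y
  obtain ⟨x, rfl⟩ := (II ε).toCotangent_surjective y
  rw [pp_toCotangent, Submodule.Quotient.mk_eq_zero, Submodule.mem_comap]
  constructor
  · intro hx
    obtain ⟨j, hj, q, hq, hjq⟩ := Submodule.mem_sup.mp hx
    refine ⟨Submodule.Quotient.mk ⟨j, hj⟩, ?_⟩
    rw [phi_mk, iota_apply, Ideal.toCotangent_eq]
    have : (j : A) - x = - q := by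
      have : (x : A) = j + q := hjq.symm
      rw [this]; ring
    simp only
    rw [this]
    exact neg_mem hq
  · rintro ⟨z, hz⟩
    obtain ⟨j, rfl⟩ := Submodule.Quotient.mk_surjective _ z
    rw [phi_mk, iota_apply, Ideal.toCotangent_eq] at hz
    have : (x : A) = j - ((j : A) - x) := by ring
    change (x : A) ∈ J ⊔ II ε ^ 2
    rw [this]
    exact sub_mem (Ideal.mem_sup_left j.2) (Ideal.mem_sup_right hz)

lemma killed_cot : ∀ i ∈ II ε, ∀ x : (II ε).Cotangent, i • x = 0 :=
  fun i hi x => Ideal.Cotangent.smul_eq_zero_of_mem hi x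

lemma killed_QQ : ∀ i ∈ II ε, ∀ x : QQ ε J, i • x = 0 := by
  intro i hi x
  obtain ⟨x, rfl⟩ := Submodule.Quotient.mk_surjective _ x
  rw [← Submodule.Quotient.mk_smul, Submodule.Quotient.mk_eq_zero, Submodule.mem_comap]
  refine Ideal.mem_sup_right ?_
  rw [pow_two]
  exact Ideal.mul_mem_mul hi x.2

/-- The retraction `I/I² → J/IJ`. -/
lemma exists_retraction (h2 : J ⊓ II ε ^ 2 = II ε * J) [Module.Projective R (QQ ε J)] :
    ∃ l : (II ε).Cotangent →ₗ[A] NJ ε J, l ∘ₗ phi ε J hJI = LinearMap.id := by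
  obtain ⟨s, hs⟩ := Module.projective_lifting_property ((pp ε J).restrictScalars R)
    (LinearMap.id : QQ ε J →ₗ[R] QQ ε J) (pp_surjective ε J)
  have h1 : ∃ l : QQ ε J →ₗ[A] (II ε).Cotangent, pp ε J ∘ₗ l = LinearMap.id := by
    refine ⟨toALin ε (killed_QQ ε J) (killed_cot ε) s, ?_⟩
    exact LinearMap.ext fun x => LinearMap.congr_fun hs x
  exact ((exact_phi_pp ε J hJI).split_tfae (phi_injective ε J hJI h2)
    (pp_surjective ε J)).out 0 1 |>.mp h1

variable (K : Type*) [CommRing K] [Algebra A K] [Algebra R K] [IsScalarTower R A K]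
  (hK : II ε ≤ RingHom.ker (algebraMap A K))

include hK in
lemma smul_one_eq_zero (i : A) (hi : i ∈ II ε) : i • (1 : K) = 0 := by
  rw [Algebra.smul_def, mul_one]; exact hK hi

/-- inverse of `K ⊗ J → K ⊗ J/IJ`. -/
noncomputable def invQ : K ⊗[A] NJ ε J →ₗ[K] K ⊗[A] ↥J :=
  LinearMap.liftBaseChange K (Submodule.liftQ _ (TensorProduct.mk A K ↥J 1) (by
    rw [Submodule.smul_le]
    intro i hi j _
    rw [LinearMap.mem_ker, TensorProduct.mk_apply, ← TensorProduct.smul_tmul,
      smul_one_eq_zero ε K hK i hi, zero_tmul]))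

lemma invQ_tmul (k : K) (j : ↥J) :
    invQ ε J K hK (k ⊗ₜ Submodule.Quotient.mk j) = k ⊗ₜ j := by
  rw [invQ, LinearMap.liftBaseChange_tmul]
  change k • ((1 : K) ⊗ₜ[A] j) = _
  rw [TensorProduct.smul_tmul', smul_eq_mul, mul_one]

/-- `K ⊗ J → K ⊗ Ω`. -/
noncomputable def theta : K ⊗[A] ↥J →ₗ[K] K ⊗[A] Ω[A⁄R] :=
  LinearMap.liftBaseChange K
    (kerToTensor R A K ∘ₗ Submodule.inclusion (hJI.trans hK))

lemma theta_tmul (k : K) (j : ↥J) :
    theta ε J hJI K hK (k ⊗ₜ j) = k ⊗ₜ D R A (j : A) := by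
  rw [theta, LinearMap.liftBaseChange_tmul]
  change k • ((1 : K) ⊗ₜ[A] D R A (j : A)) = _
  rw [TensorProduct.smul_tmul', smul_eq_mul, mul_one]

theorem theta_injective (h2 : J ⊓ II ε ^ 2 = II ε * J) [Module.Projective R (QQ ε J)] :
    Function.Injective (theta ε J hJI K hK) := by
  obtain ⟨l, hl⟩ := exists_retraction ε J hJI h2
  let Ψ : K ⊗[A] Ω[A⁄R] →ₗ[K] K ⊗[A] ↥J :=
    invQ ε J K hK ∘ₗ (l.baseChange K) ∘ₗ ((dI ε).liftKaehlerDifferential.baseChange K)
  have hΨ : Ψ ∘ₗ theta ε J hJI K hK = LinearMap.id := by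
    apply TensorProduct.AlgebraTensorModule.ext
    intro k j
    simp only [LinearMap.comp_apply, LinearMap.id_apply, Ψ]
    rw [theta_tmul, LinearMap.baseChange_tmul, Derivation.liftKaehlerDifferential_comp_D,
      dI_of_mem ε _ (hJI j.2), LinearMap.baseChange_tmul]
    have : l ((II ε).toCotangent ⟨(j : A), hJI j.2⟩) = Submodule.Quotient.mk j := by
      have := LinearMap.congr_fun hl (Submodule.Quotient.mk j)
      simpa [phi_mk, iota_apply] using this
    rw [this, invQ_tmul]
  exact Function.LeftInverse.injective (g := Ψ) (fun x => LinearMap.congr_fun hΨ x)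

end L1

end Groth.Agent.H9.SMU
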