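import Mathlib

set_option autoImplicit false
set_option linter.style.haveILetI false
set_option linter.unusedSectionVars false
set_option linter.unusedVariables false

namespace Groth.Agent.H9.SMU

open TensorProduct KaehlerDifferential IsLocalRing

universe u

/-- Jacobian criterion at a point, for a quotient of a smooth algebra. -/
theorem formallySmooth_of_theta
    {R A Ap Bp K : Type u} [CommRing R] [CommRing A] [CommRing Ap] [CommRing Bp] [Field K]
    [Algebra R A] [Algebra R Ap] [Algebra A Ap] [IsScalarTower R A Ap]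
    [Algebra R Bp] [Algebra A Bp] [IsScalarTower R A Bp] [Algebra Ap Bp]
    [IsScalarTower A Ap Bp] [IsScalarTower R Ap Bp]
    [Algebra R K] [Algebra A K] [Algebra Ap K] [Algebra Bp K] [IsScalarTower R A K]
    [IsScalarTower A Ap K] [IsScalarTower Ap Bp K] [IsScalarTower R Ap K]
    [IsLocalRing Bp] [IsLocalRing Ap]
    (M : Submonoid A) [IsLocalization M Ap]
    [Algebra.Smooth R A]
    (J : Ideal A) (hJ : J.FG)
    (hsurj : Function.Surjective (algebraMap Ap Bp))
    (hker : RingHom.ker (algebraMap Ap Bp) = J.map (algebraMap A Ap))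
    (hmax : maximalIdeal Bp ≤ RingHom.ker (algebraMap Bp K))
    (hJK : J ≤ RingHom.ker (algebraMap A K))
    (hθ : Function.Injective (LinearMap.liftBaseChange K
      (kerToTensor R A K ∘ₗ Submodule.inclusion hJK))) :
    Algebra.FormallySmooth R Bp := by
  have : Algebra.FormallyEtale A Ap := .of_isLocalization M
  have : Algebra.FormallySmooth R Ap := .comp R A Ap
  let e₀ : Ap ⊗[A] Ω[A⁄R] ≃ₗ[Ap] Ω[Ap⁄R] := tensorKaehlerEquivOfFormallyEtale R A Ap
  have : Module.Finite Ap Ω[Ap⁄R] := Module.Finite.equiv e₀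
  have : Module.Projective Ap Ω[Ap⁄R] := Module.Projective.of_equiv e₀
  have : Module.Free Ap Ω[Ap⁄R] := Module.free_of_flat_of_isLocalRing
  have h₂ : (RingHom.ker (algebraMap Ap Bp)).FG := hker ▸ hJ.map _
  rw [Algebra.FormallySmooth.iff_injective_cotangentComplexBaseChange Ap K hsurj h₂ hmax]
  -- the comparison map on kernels
  let g₀ : ↥J →ₗ[A] ↥(RingHom.ker (algebraMap Ap Bp)) :=
    { toFun := fun j => ⟨algebraMap A Ap j, by rw [hker]; exact Ideal.mem_map_of_mem _ j.2⟩
      map_add' := fun x y => by ext; simp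
      map_smul' := fun a x => by ext; simp [Algebra.smul_def] }
  let f : K ⊗[A] ↥J →ₗ[K] K ⊗[Ap] ↥(RingHom.ker (algebraMap Ap Bp)) :=
    LinearMap.liftBaseChange K (((TensorProduct.mk Ap K _ 1).restrictScalars A) ∘ₗ g₀)
  have f_tmul : ∀ (k : K) (j : ↥J), f (k ⊗ₜ j) = k ⊗ₜ g₀ j := by
    intro k j
    simp only [f, LinearMap.liftBaseChange_tmul]
    change k • ((1 : K) ⊗ₜ[Ap] g₀ j) = _
    rw [TensorProduct.smul_tmul', smul_eq_mul, mul_one]
  have hf : Function.Surjective f := by
    intro t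
    induction t using TensorProduct.induction_on with
    | zero => exact ⟨0, map_zero _⟩
    | add x y hx hy =>
      obtain ⟨x', rfl⟩ := hx
      obtain ⟨y', rfl⟩ := hy
      exact ⟨x' + y', map_add _ _ _⟩
    | tmul k x =>
      obtain ⟨x, hx⟩ := x
      have hx' : x ∈ Ideal.map (algebraMap A Ap) J := hker ▸ hx
      obtain ⟨⟨j, s⟩, hjs⟩ := (IsLocalization.mem_map_algebraMap_iff M Ap).mp hx'
      let u := (IsLocalization.map_units Ap s).unit
      have hxu : (⟨x, hx⟩ : ↥(RingHom.ker (algebraMap Ap Bp))) = ((↑u⁻¹ : Ap)) • g₀ j := by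
        ext
        change x = ↑u⁻¹ * algebraMap A Ap j
        rw [← hjs]
        have : algebraMap A Ap s = u := rfl
        rw [this, mul_comm x, ← mul_assoc, Units.inv_mul, one_mul]
      refine ⟨((↑u⁻¹ : Ap) • k) ⊗ₜ j, ?_⟩
      rw [f_tmul, hxu, TensorProduct.smul_tmul]
  let h : K ⊗[A] Ω[A⁄R] ≃ₗ[K] K ⊗[Ap] Ω[Ap⁄R] :=
    (AlgebraTensorModule.cancelBaseChange A Ap K K Ω[A⁄R]).symm ≪≫ₗ
      AlgebraTensorModule.congr (LinearEquiv.refl K K) e₀
  have hcomm : (cotangentComplexBaseChange R Bp Ap K) ∘ₗ f =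
      h.toLinearMap ∘ₗ (LinearMap.liftBaseChange K
        (kerToTensor R A K ∘ₗ Submodule.inclusion hJK)) := by
    apply TensorProduct.AlgebraTensorModule.ext
    intro k j
    simp only [LinearMap.comp_apply, LinearEquiv.coe_coe]
    rw [f_tmul, cotangentComplexBaseChange_tmul, LinearMap.liftBaseChange_tmul]
    simp only [LinearMap.comp_apply, map_smul]
    congr 1
    simp [h, g₀, e₀]
  have hinj : Function.Injective ((cotangentComplexBaseChange R Bp Ap K) ∘ₗ f) := by
    rw [hcomm]
    exact h.injective.comp hθ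
  intro y y' hyy
  obtain ⟨x, rfl⟩ := hf y
  obtain ⟨x', rfl⟩ := hf y'
  rw [hinj hyy]

end Groth.Agent.H9.SMU
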