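import Mathlib
import Groth.Agent.Lib.Helper9.Misc.SMU1
import Groth.Agent.Lib.Helper9.Misc.SMU2

set_option autoImplicit false
set_option linter.style.haveILetI false
set_option linter.unusedSectionVars false
set_option linter.unusedVariables false

namespace Groth.Agent.H9.SMU

open TensorProduct KaehlerDifferential IsLocalRing

universe u

theorem S19149_main (R A : Type u) [CommRing R] [CommRing A] [Algebra R A]
    [Algebra.Smooth R A] (ε : A →ₐ[R] R) (J : Ideal A) (hJI : J ≤ RingHom.ker ε)
    (h1 : J.FG)
    (h2 : J ⊓ RingHom.ker ε ^ 2 = RingHom.ker ε * J)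
    (h3 : Module.Finite R (↥(RingHom.ker ε) ⧸ Submodule.comap (RingHom.ker ε).subtype (J ⊔ RingHom.ker ε ^ 2)) ∧
      Module.Projective R (↥(RingHom.ker ε) ⧸ Submodule.comap (RingHom.ker ε).subtype (J ⊔ RingHom.ker ε ^ 2)))
    (P : Ideal (A ⧸ J)) [P.IsPrime] (hP : (RingHom.ker ε).map (Ideal.Quotient.mk J) ≤ P) :
    Algebra.IsSmoothAt R P := by
  have : Module.Projective R (QQ ε J) := h3.2
  let P' : Ideal A := P.comap (Ideal.Quotient.mk J)
  have hP' : P'.IsPrime := inferInstance
  have hT : Submonoid.map (Ideal.Quotient.mk J) P'.primeCompl = P.primeCompl := by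
    ext y
    constructor
    · rintro ⟨x, hx, rfl⟩
      exact hx
    · intro hy
      obtain ⟨x, rfl⟩ := Ideal.Quotient.mk_surjective y
      exact ⟨x, hy, rfl⟩
  let φ : Localization.AtPrime P' →+* Localization.AtPrime P :=
    IsLocalization.map (Localization.AtPrime P) (Ideal.Quotient.mk J)
      (hT.symm ▸ Submonoid.le_comap_map P'.primeCompl)
  letI : Algebra (Localization.AtPrime P') (Localization.AtPrime P) := φ.toAlgebra
  have hφ : ∀ a : A, φ (algebraMap A (Localization.AtPrime P') a) =
      algebraMap (A ⧸ J) (Localization.AtPrime P) (Ideal.Quotient.mk J a) :=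
    fun a => IsLocalization.map_eq _ a
  have : IsScalarTower A (Localization.AtPrime P') (Localization.AtPrime P) :=
    .of_algebraMap_eq fun a => by
      rw [IsScalarTower.algebraMap_apply A (A ⧸ J) (Localization.AtPrime P)]
      exact (hφ a).symm
  have : IsScalarTower R (Localization.AtPrime P') (Localization.AtPrime P) :=
    .of_algebraMap_eq fun r => by
      rw [IsScalarTower.algebraMap_apply R A (Localization.AtPrime P'),
        IsScalarTower.algebraMap_apply R A (Localization.AtPrime P),
        IsScalarTower.algebraMap_apply A (Localization.AtPrime P') (Localization.AtPrime P)]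
  have hsurj : Function.Surjective
      (algebraMap (Localization.AtPrime P') (Localization.AtPrime P)) := by
    haveI : IsLocalization (Submonoid.map (Ideal.Quotient.mk J) P'.primeCompl)
        (Localization.AtPrime P) := by
      rw [hT]; infer_instance
    exact IsLocalization.map_surjective_of_surjective (M := P'.primeCompl)
      (S := Localization.AtPrime P') (g := Ideal.Quotient.mk J)
      (Q := Localization.AtPrime P) Ideal.Quotient.mk_surjective
  have hker : RingHom.ker (algebraMap (Localization.AtPrime P') (Localization.AtPrime P)) =
      J.map (algebraMap A (Localization.AtPrime P')) := by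
    have := IsLocalization.ker_map (S := Localization.AtPrime P') (Localization.AtPrime P)
      (Ideal.Quotient.mk J) hT
    rw [Ideal.mk_ker] at this
    exact this
  have hmax : maximalIdeal (Localization.AtPrime P) ≤
      RingHom.ker (algebraMap (Localization.AtPrime P) (ResidueField (Localization.AtPrime P))) := by
    intro x hx
    rw [RingHom.mem_ker, ResidueField.algebraMap_eq, residue_eq_zero_iff]
    exact hx
  have hK : II ε ≤ RingHom.ker (algebraMap A (ResidueField (Localization.AtPrime P))) := by
    intro i hi
    rw [RingHom.mem_ker, IsScalarTower.algebraMap_apply A (Localization.AtPrime P),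
      ResidueField.algebraMap_eq, residue_eq_zero_iff,
      IsScalarTower.algebraMap_apply A (A ⧸ J) (Localization.AtPrime P),
      IsLocalization.AtPrime.to_map_mem_maximal_iff _ P]
    exact hP (Ideal.mem_map_of_mem _ hi)
  have hθ := theta_injective ε J hJI (ResidueField (Localization.AtPrime P)) hK h2
  exact formallySmooth_of_theta (R := R) (A := A) (Ap := Localization.AtPrime P')
    (Bp := Localization.AtPrime P) (K := ResidueField (Localization.AtPrime P))
    P'.primeCompl J h1 hsurj hker hmax (hJI.trans hK) hθ

end Groth.Agent.H9.SMU
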