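import Mathlib
import Groth.Agent.Lib.Helper1.GradedFG

/-! Helper9: the graded ring S♮ = ⊕ S_{≥n} is f.t./Noetherian iff S is (S8275, S8276). -/

open Polynomial DirectSum

namespace Groth.Agent.H9.SNat

universe u

section key
variable {R A : Type u} [CommRing R] [CommRing A] [Algebra R A]
  (𝒜 : ℕ → Submodule R A) [GradedAlgebra 𝒜]

theorem le_ge {n m : ℕ} (h : n ≤ m) : 𝒜 m ≤ ⨆ (m : ℕ) (_ : n ≤ m), 𝒜 m :=
  le_iSup₂_of_le m h le_rfl

theorem ge_induction {n : ℕ} {p : A → Prop} (h0 : p 0) (hadd : ∀ x y, p x → p y → p (x + y))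
    (hmem : ∀ m, n ≤ m → ∀ x ∈ 𝒜 m, p x) (s : A) (hs : s ∈ ⨆ (m : ℕ) (_ : n ≤ m), 𝒜 m) : p s := by
  refine Submodule.iSup_induction (p := fun m => ⨆ (_ : n ≤ m), 𝒜 m) (motive := p) hs ?_ h0 hadd
  intro m x hx
  by_cases h : n ≤ m
  · simp only [h, iSup_pos] at hx
    exact hmem m h x hx
  · simp [h] at hx
    rw [hx]; exact h0

theorem mem_ge_zero (a : A) : a ∈ ⨆ (m : ℕ) (_ : 0 ≤ m), 𝒜 m := by
  classical
  rw [← sum_support_decompose 𝒜 a]
  exact Submodule.sum_mem _ fun i _ => le_ge 𝒜 (Nat.zero_le i) (SetLike.coe_mem _)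

theorem proj_eq_zero_of_lt {n : ℕ} {s : A} (hs : s ∈ ⨆ (m : ℕ) (_ : n ≤ m), 𝒜 m) {i : ℕ} (hi : i < n) :
    (decompose 𝒜 s i : A) = 0 := by
  refine ge_induction 𝒜 (p := fun s => (decompose 𝒜 s i : A) = 0) ?_ ?_ ?_ s hs
  · simp
  · intro x y hx hy
    simp only [decompose_add, DirectSum.add_apply, Submodule.coe_add, hx, hy, add_zero]
  · intro m hm x hx
    rw [decompose_of_mem_ne 𝒜 hx (by omega)]

theorem proj_mul {n m : ℕ} {s t : A} (hs : s ∈ ⨆ (k : ℕ) (_ : n ≤ k), 𝒜 k)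
    (ht : t ∈ ⨆ (k : ℕ) (_ : m ≤ k), 𝒜 k) :
    (decompose 𝒜 (s * t) (n + m) : A) = decompose 𝒜 s n * decompose 𝒜 t m := by
  refine ge_induction 𝒜 (p := fun s => (decompose 𝒜 (s * t) (n + m) : A) = decompose 𝒜 s n * decompose 𝒜 t m)
    ?_ ?_ ?_ s hs
  · simp
  · intro x y hx hy
    simp only [add_mul, decompose_add, DirectSum.add_apply, Submodule.coe_add, hx, hy]
  · intro i hi x hx
    by_cases h : i ≤ n + m
    · rw [coe_decompose_mul_of_left_mem_of_le 𝒜 hx h]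
      rcases hi.eq_or_lt with rfl | hlt
      · rw [decompose_of_mem_same 𝒜 hx, Nat.add_sub_cancel_left]
      · rw [decompose_of_mem_ne 𝒜 hx (by omega), proj_eq_zero_of_lt 𝒜 ht (by omega)]
        simp
    · rw [coe_decompose_mul_of_left_mem_of_not_le 𝒜 hx h, decompose_of_mem_ne 𝒜 hx (by omega)]
      simp

theorem key (C : Subring A[X]) (hC : ∀ a, Polynomial.C a ∈ C) (F : Set A)
    (hF : ∀ f ∈ F, ∃ d, f ∈ 𝒜 d ∧ ∀ k ≤ d, monomial k f ∈ C)
    (hgen : Algebra.adjoin (𝒜 0) F = ⊤) (n : ℕ) (s : A) (hs : s ∈ ⨆ (m : ℕ) (_ : n ≤ m), 𝒜 m) :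
    monomial n s ∈ C := by
  classical
  let P : Subalgebra (𝒜 0) A :=
    { carrier := {a | ∀ m, ∀ n ≤ m, monomial n ((decompose 𝒜 a m : A)) ∈ C}
      mul_mem' := by
        intro a b ha hb m n hn
        rw [decompose_mul, DirectSum.coe_mul_apply, map_sum]
        refine sum_mem fun ij hij => ?_
        simp only [Finset.mem_filter] at hij
        have h1 : n = min n ij.1 + (n - min n ij.1) := by omega
        have h2 : monomial n ((decompose 𝒜 a ij.1 : A) * (decompose 𝒜 b ij.2 : A))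
            = monomial (min n ij.1) (decompose 𝒜 a ij.1 : A) * monomial (n - min n ij.1) (decompose 𝒜 b ij.2 : A) := by
          rw [monomial_mul_monomial, ← h1]
        rw [h2]
        exact mul_mem (ha _ _ (min_le_right _ _)) (hb _ _ (by omega))
      add_mem' := by
        intro a b ha hb m n hn
        simp only [decompose_add, DirectSum.add_apply, Submodule.coe_add, map_add]
        exact add_mem (ha m n hn) (hb m n hn)
      algebraMap_mem' := by
        intro r m n hn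
        have hr : (algebraMap (𝒜 0) A r) ∈ 𝒜 0 := r.2
        by_cases hm : m = 0
        · subst hm
          rw [decompose_of_mem_same 𝒜 hr]
          have : n = 0 := by omega
          subst this
          exact hC _
        · rw [decompose_of_mem_ne 𝒜 hr (Ne.symm hm)]
          simp }
  have hP : P = ⊤ := by
    rw [eq_top_iff, ← hgen]
    refine Algebra.adjoin_le ?_
    intro f hf m n hn
    obtain ⟨d, hd, hk⟩ := hF f hf
    by_cases hm : m = d
    · subst hm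
      rw [decompose_of_mem_same 𝒜 hd]
      exact hk n hn
    · rw [decompose_of_mem_ne 𝒜 hd (Ne.symm hm)]
      simp
  refine ge_induction 𝒜 (p := fun s => monomial n s ∈ C) (by simp) ?_ ?_ s hs
  · intro x y hx hy
    rw [map_add]; exact add_mem hx hy
  · intro m hm x hx
    have : x ∈ P := hP ▸ Algebra.mem_top
    have h2 := this m n hm
    rwa [decompose_of_mem_same 𝒜 hx] at h2

end key

section main
variable {R A B : Type u} [CommRing R] [CommRing A] [Algebra R A]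
    (𝒜 : ℕ → Submodule R A) [GradedAlgebra 𝒜] [CommRing B] [Algebra R B] (ℬ : ℕ → Submodule R B) [GradedAlgebra ℬ]
    (φ : B →ₐ[R] Polynomial A)

/-- the hypothesis -/
def Hdeg : Prop := ∀ n : ℕ, Submodule.map φ.toLinearMap (ℬ n) =
      Submodule.map ((Polynomial.monomial n : A →ₗ[A] Polynomial A).restrictScalars R) (⨆ (m : ℕ) (_ : n ≤ m), 𝒜 m)

variable {𝒜 ℬ φ}

theorem L1 (hdeg : Hdeg 𝒜 ℬ φ) {n : ℕ} {b : B} (hb : b ∈ ℬ n) :
    ∃ s ∈ ⨆ (m : ℕ) (_ : n ≤ m), 𝒜 m, φ b = monomial n s := by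
  have : φ b ∈ Submodule.map φ.toLinearMap (ℬ n) := ⟨b, hb, rfl⟩
  rw [hdeg n] at this
  obtain ⟨s, hs, h⟩ := this
  exact ⟨s, hs, h.symm⟩

theorem L2 (hdeg : Hdeg 𝒜 ℬ φ) {n : ℕ} {s : A} (hs : s ∈ ⨆ (m : ℕ) (_ : n ≤ m), 𝒜 m) :
    ∃ b ∈ ℬ n, φ b = monomial n s := by
  have : monomial n s ∈ Submodule.map ((Polynomial.monomial n : A →ₗ[A] Polynomial A).restrictScalars R)
      (⨆ (m : ℕ) (_ : n ≤ m), 𝒜 m) := ⟨s, hs, rfl⟩
  rw [← hdeg n] at this
  obtain ⟨b, hb, h⟩ := this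
  exact ⟨b, hb, h⟩

theorem ft_B (hφ : Function.Injective φ) (hdeg : Hdeg 𝒜 ℬ φ) (h : Algebra.FiniteType (𝒜 0) A) :
    Algebra.FiniteType (ℬ 0) B := by
  classical
  obtain ⟨s, hs, hhom⟩ := GradedAlgebra.exists_finset_adjoin_eq_top_and_homogeneous 𝒜
  choose! d hd using hhom
  let T : Finset A[X] := (s.sigma (fun f => Finset.range (d f + 1))).image (fun p => monomial p.2 p.1)
  let G : Set B := φ ⁻¹' (T : Set A[X])
  have hG : G.Finite := Set.Finite.preimage hφ.injOn T.finite_toSet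
  have hGmem : ∀ f ∈ s, ∀ k ≤ d f, ∀ b, φ b = monomial k f → b ∈ G := by
    intro f hf k hk b hb
    change φ b ∈ (T : Set A[X])
    rw [hb]
    simp only [T, Finset.coe_image, Set.mem_image, Finset.mem_coe, Finset.mem_sigma, Finset.mem_range]
    exact ⟨⟨f, k⟩, ⟨hf, Nat.lt_succ_of_le hk⟩, rfl⟩
  let B' := Algebra.adjoin (ℬ 0) G
  let C : Subring A[X] := B'.toSubring.map (φ : B →+* A[X])
  have hC : ∀ a, Polynomial.C a ∈ C := by
    intro a
    obtain ⟨b, hb, hb'⟩ := L2 hdeg (mem_ge_zero 𝒜 a)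
    refine ⟨b, ?_, by rw [← monomial_zero_left, ← hb']; rfl⟩
    exact Subalgebra.algebraMap_mem B' (⟨b, hb⟩ : ℬ 0)
  have hF : ∀ f ∈ (s : Set A), ∃ d, f ∈ 𝒜 d ∧ ∀ k ≤ d, monomial k f ∈ C := by
    intro f hf
    refine ⟨d f, hd f hf, fun k hk => ?_⟩
    obtain ⟨b, hb, hb'⟩ := L2 hdeg (le_ge 𝒜 hk (hd f hf))
    exact ⟨b, Algebra.subset_adjoin (hGmem f hf k hk b hb'), hb'⟩
  have hkey := key 𝒜 C hC (s : Set A) hF hs
  have htop : B' = ⊤ := by
    rw [eq_top_iff]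
    intro b _
    rw [← sum_support_decompose ℬ b]
    refine Subalgebra.sum_mem _ fun n _ => ?_
    obtain ⟨t, ht, ht'⟩ := L1 hdeg (SetLike.coe_mem (decompose ℬ b n))
    obtain ⟨b', hb', hb''⟩ := hkey n t ht
    have : b' = (decompose ℬ b n : B) := hφ (by rw [ht']; exact hb'')
    rw [← this]; exact hb'
  exact ⟨⟨hG.toFinset, by simpa using htop⟩⟩

/-- diagonal map -/
noncomputable def δ (𝒜 : ℕ → Submodule R A) [GradedAlgebra 𝒜] : A[X] →ₗ[R] A :=
  Polynomial.lsum (fun n => GradedAlgebra.proj 𝒜 n)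

theorem δ_monomial (n : ℕ) (a : A) : δ 𝒜 (monomial n a) = (decompose 𝒜 a n : A) := by
  rw [δ, Polynomial.lsum_apply, Polynomial.sum_monomial_index _ _ (by simp)]
  rfl

theorem pi_mul (hdeg : Hdeg 𝒜 ℬ φ) (b b' : B) : δ 𝒜 (φ (b * b')) = δ 𝒜 (φ b) * δ 𝒜 (φ b') := by
  classical
  induction b using DirectSum.Decomposition.inductionOn ℬ with
  | zero => simp
  | add x y hx hy => rw [add_mul, map_add, map_add, map_add, map_add, hx, hy, add_mul]
  | homogeneous x =>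
    rename_i n
    induction b' using DirectSum.Decomposition.inductionOn ℬ with
    | zero => simp
    | add x' y' hx hy => rw [mul_add, map_add, map_add, map_add, map_add, hx, hy, mul_add]
    | homogeneous y =>
      rename_i m
      obtain ⟨s, hs, hs'⟩ := L1 hdeg x.2
      obtain ⟨t, ht, ht'⟩ := L1 hdeg y.2
      rw [map_mul, hs', ht', monomial_mul_monomial, δ_monomial, δ_monomial, δ_monomial]
      exact proj_mul 𝒜 hs ht

/-- the projection `S♮ → S` -/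
noncomputable def pi (hdeg : Hdeg 𝒜 ℬ φ) : B →+* A where
  toFun b := δ 𝒜 (φ b)
  map_one' := by
    rw [map_one, ← Polynomial.C_1, ← monomial_zero_left, δ_monomial,
      decompose_of_mem_same 𝒜 (SetLike.GradedOne.one_mem)]
  map_mul' := pi_mul hdeg
  map_zero' := by simp
  map_add' := by simp

theorem pi_apply (hdeg : Hdeg 𝒜 ℬ φ) (b : B) : pi hdeg b = δ 𝒜 (φ b) := rfl

theorem pi_surj (hdeg : Hdeg 𝒜 ℬ φ) : Function.Surjective (pi hdeg) := by
  classical
  intro a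
  rw [← sum_support_decompose 𝒜 a]
  have : ∀ n, ∃ b : B, pi hdeg b = (decompose 𝒜 a n : A) := by
    intro n
    obtain ⟨b, hb, hb'⟩ := L2 hdeg (le_ge 𝒜 le_rfl (SetLike.coe_mem (decompose 𝒜 a n)))
    refine ⟨b, ?_⟩
    rw [pi_apply, hb', δ_monomial, decompose_of_mem_same 𝒜 (SetLike.coe_mem _)]
  choose b hb using this
  exact ⟨∑ n ∈ (decompose 𝒜 a).support, b n, by rw [map_sum]; exact Finset.sum_congr rfl fun n _ => hb n⟩

theorem pi_zero_mem (hdeg : Hdeg 𝒜 ℬ φ) {b : B} (hb : b ∈ ℬ 0) : pi hdeg b ∈ 𝒜 0 := by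
  obtain ⟨s, hs, hs'⟩ := L1 hdeg hb
  rw [pi_apply, hs', δ_monomial]
  exact SetLike.coe_mem _

theorem ft_A (hdeg : Hdeg 𝒜 ℬ φ) (h : Algebra.FiniteType (ℬ 0) B) :
    Algebra.FiniteType (𝒜 0) A := by
  classical
  obtain ⟨T, hT⟩ := h.out
  refine ⟨⟨T.image (pi hdeg), ?_⟩⟩
  rw [eq_top_iff]
  intro a ha
  clear ha
  obtain ⟨b, rfl⟩ := pi_surj hdeg a
  have hb : b ∈ Algebra.adjoin (ℬ 0) (T : Set B) := hT ▸ Algebra.mem_top
  induction hb using Algebra.adjoin_induction with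
  | mem x hx =>
    refine Algebra.subset_adjoin ?_
    simp only [Finset.coe_image, Set.mem_image, Finset.mem_coe]
    exact ⟨x, hx, rfl⟩
  | algebraMap r =>
    exact Subalgebra.algebraMap_mem _ (⟨pi hdeg (algebraMap (ℬ 0) B r), pi_zero_mem hdeg r.2⟩ : 𝒜 0)
  | add x y _ _ hx hy => rw [map_add]; exact add_mem hx hy
  | mul x y _ _ hx hy => rw [map_mul]; exact mul_mem hx hy

theorem s8275 (hφ : Function.Injective φ) (hdeg : Hdeg 𝒜 ℬ φ) :
    Algebra.FiniteType (ℬ 0) B ↔ Algebra.FiniteType (𝒜 0) A :=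
  ⟨ft_A hdeg, ft_B hφ hdeg⟩

/-- `S♮_0 ≅ S` -/
noncomputable def e0 (φ : B →ₐ[R] Polynomial A) (ℬ : ℕ → Submodule R B) [GradedAlgebra ℬ] : ℬ 0 →+* A :=
  (Polynomial.constantCoeff).comp ((φ : B →+* A[X]).comp (algebraMap (ℬ 0) B))

theorem e0_bij (hφ : Function.Injective φ) (hdeg : Hdeg 𝒜 ℬ φ) : Function.Bijective (e0 φ ℬ) := by
  have hC : ∀ x : ℬ 0, φ (x : B) = Polynomial.C (e0 φ ℬ x) := by
    intro x
    obtain ⟨s, hs, hs'⟩ := L1 hdeg x.2
    have : e0 φ ℬ x = (φ (x : B)).coeff 0 := rfl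
    rw [this, hs', monomial_zero_left, coeff_C_zero]
  constructor
  · intro x y hxy
    apply Subtype.ext
    apply hφ
    rw [hC x, hC y, hxy]
  · intro a
    obtain ⟨b, hb, hb'⟩ := L2 hdeg (mem_ge_zero 𝒜 a)
    refine ⟨⟨b, hb⟩, ?_⟩
    have : e0 φ ℬ ⟨b, hb⟩ = (φ b).coeff 0 := rfl
    rw [this, hb', monomial_zero_left, coeff_C_zero]

theorem s8276 (hφ : Function.Injective φ) (hdeg : Hdeg 𝒜 ℬ φ) :
    IsNoetherianRing B ↔ IsNoetherianRing A := by
  constructor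
  · intro h
    exact isNoetherianRing_of_surjective B A (pi hdeg) (pi_surj hdeg)
  · intro h
    obtain ⟨h0, hft⟩ := (Groth.Agent.H1.GFG.isNoetherianRing_iff 𝒜).mp h
    have hftB := ft_B hφ hdeg hft
    have : IsNoetherianRing (ℬ 0) :=
      isNoetherianRing_of_ringEquiv A (RingEquiv.ofBijective (e0 φ ℬ) (e0_bij hφ hdeg)).symm
    exact Algebra.FiniteType.isNoetherianRing (ℬ 0) B

end main

end Groth.Agent.H9.SNat
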