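import Mathlib
import Groth.Agent.Lib.Helper9.Misc.SO5

/-! Matrix lemmas for the Lie algebra of the special orthogonal group (helper9). -/

set_option autoImplicit false

open Matrix Groth.Agent.H9.SG Groth.Agent.H9.SO

namespace Groth.Agent.H9.SOD

universe u

section Alt

variable {A : Type*} [CommRing A] {n : ℕ}

theorem isAltMat_iff_dot (M : Matrix (Fin n) (Fin n) A) :
    IsAltMat M ↔ ∀ v : Fin n → A, v ⬝ᵥ (M *ᵥ v) = 0 := by
  have h := alt_iff (Pi.basisFun A (Fin n)) (Matrix.toLinearMap₂' A M)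
  rw [LinearMap.toMatrix₂_basisFun, LinearMap.toMatrix'_toLinearMap₂'] at h
  rw [← h]
  refine forall_congr' fun v => ?_
  rw [Matrix.toLinearMap₂'_apply']

theorem dot_polar_of_alt {M : Matrix (Fin n) (Fin n) A} (h : IsAltMat M) (x y : Fin n → A) :
    x ⬝ᵥ (M *ᵥ y) + y ⬝ᵥ (M *ᵥ x) = 0 := by
  have h0 := (isAltMat_iff_dot M).mp h
  have h1 := h0 (x + y)
  rw [Matrix.mulVec_add, add_dotProduct, dotProduct_add, dotProduct_add, h0 x, h0 y] at h1
  linear_combination h1

theorem IsAltMat.conj {M : Matrix (Fin n) (Fin n) A} (h : IsAltMat M)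
    (B : Matrix (Fin n) (Fin n) A) : IsAltMat (Bᵀ * M * B) := by
  rw [isAltMat_iff_dot] at h ⊢
  intro v
  have := h (B *ᵥ v)
  rw [← Matrix.mulVec_mulVec, ← Matrix.mulVec_mulVec, Matrix.dotProduct_mulVec,
    Matrix.vecMul_transpose]
  exact this

theorem IsAltMat.sandwich {M : Matrix (Fin n) (Fin n) A} (h : IsAltMat M)
    (Y : Matrix (Fin n) (Fin n) A) : IsAltMat (Yᵀ * M + M * Y) := by
  rw [isAltMat_iff_dot]
  intro v
  rw [Matrix.add_mulVec, dotProduct_add, ← Matrix.mulVec_mulVec, ← Matrix.mulVec_mulVec,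
    Matrix.dotProduct_mulVec v Yᵀ, Matrix.vecMul_transpose]
  exact dot_polar_of_alt h (Y *ᵥ v) v

theorem isAlt_add_iff {M N : Matrix (Fin n) (Fin n) A} (hN : IsAltMat N) :
    IsAltMat (M + N) ↔ IsAltMat M := by
  constructor
  · intro h
    have := IsAltMat.add' h (IsAltMat.smul' hN (-1))
    simpa using this
  · intro h
    exact IsAltMat.add' h hN

theorem trace_alt_mul_symm {M S : Matrix (Fin n) (Fin n) A} (h : IsAltMat M) (hS : Sᵀ = S) :
    (M * S).trace = 0 := by
  have hS' : ∀ i j, S i j = S j i := fun i j => by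
    conv_lhs => rw [← hS]
    rfl
  have h1 : (M * S).trace = ∑ p ∈ (Finset.univ : Finset (Fin n × Fin n)), M p.1 p.2 * S p.2 p.1 := by
    rw [Matrix.trace, Finset.univ_product_univ.symm, Finset.sum_product]
    refine Finset.sum_congr rfl fun i _ => ?_
    rw [Matrix.diag_apply, Matrix.mul_apply]
  rw [h1]
  refine Finset.sum_ninvolution (fun p => (p.2, p.1)) ?_ ?_ (fun _ => Finset.mem_univ _)
    (fun _ => rfl)
  · intro p
    have := h.2 p.1 p.2
    show M p.1 p.2 * S p.2 p.1 + M p.2 p.1 * S p.1 p.2 = 0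
    rw [hS' p.1 p.2]
    linear_combination S p.2 p.1 * this
  · intro p hp hpp
    apply hp
    have h2 : p.2 = p.1 := congrArg Prod.fst hpp
    rw [h2, h.1, zero_mul]

end Alt

section AltDim

variable (κ : Type*) [Field κ] (k : ℕ)

/-- the alternating matrices -/
def altM : Submodule κ (Matrix (Fin k) (Fin k) κ) where
  carrier := {M | IsAltMat M}
  add_mem' := fun h1 h2 => IsAltMat.add' h1 h2
  zero_mem' := IsAltMat.zero'
  smul_mem' := fun r _ h => IsAltMat.smul' h r

theorem mem_altM (M : Matrix (Fin k) (Fin k) κ) : M ∈ altM κ k ↔ IsAltMat M := Iff.rfl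

/-- index set for the strictly upper triangular entries -/
abbrev UT (k : ℕ) : Type := Σ j : Fin k, Fin (j : ℕ)

/-- the alternating matrix with prescribed strictly upper triangular part -/
def ofUT (f : UT k → κ) : Matrix (Fin k) (Fin k) κ := fun a b =>
  if h : (a : ℕ) < b then f ⟨b, ⟨a, h⟩⟩ else if h' : (b : ℕ) < a then -f ⟨a, ⟨b, h'⟩⟩ else 0

theorem ofUT_isAlt (f : UT k → κ) : IsAltMat (ofUT κ k f) := by
  constructor
  · intro j
    simp [ofUT]
  · intro a b
    unfold ofUT
    by_cases h : (a : ℕ) < b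
    · have h' : ¬ (b : ℕ) < a := by omega
      rw [dif_pos h, dif_neg h', dif_pos h]
      ring
    · by_cases h' : (b : ℕ) < a
      · rw [dif_neg h, dif_pos h', dif_pos h']
        ring
      · rw [dif_neg h, dif_neg h', dif_neg h', dif_neg h]
        ring

/-- alternating matrices are determined by their strictly upper triangular part -/
noncomputable def altEquiv : altM κ k ≃ₗ[κ] (UT k → κ) where
  toFun M := fun p => M.1 ⟨p.2, p.2.2.trans p.1.2⟩ p.1
  map_add' M N := by ext p; rfl
  map_smul' r M := by ext p; rfl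
  invFun f := ⟨ofUT κ k f, ofUT_isAlt κ k f⟩
  left_inv M := by
    apply Subtype.ext
    ext a b
    dsimp only
    unfold ofUT
    by_cases h : (a : ℕ) < b
    · rw [dif_pos h]
    · by_cases h' : (b : ℕ) < a
      · rw [dif_neg h, dif_pos h']
        have := M.2.2 a b
        show -(M.1 ⟨b, _⟩ a) = M.1 a b
        linear_combination -this
      · rw [dif_neg h, dif_neg h']
        have hab : a = b := Fin.ext (by omega)
        rw [hab, M.2.1]
  right_inv f := by
    ext p
    obtain ⟨j, i⟩ := p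
    show ofUT κ k f ⟨i, _⟩ j = f ⟨j, i⟩
    unfold ofUT
    rw [dif_pos (show ((⟨i, i.2.trans j.2⟩ : Fin k) : ℕ) < j from i.2)]

theorem card_UT : Fintype.card (UT k) = k * (k - 1) / 2 := by
  rw [Fintype.card_sigma]
  simp only [Fintype.card_fin]
  rw [Fin.sum_univ_eq_sum_range (fun j => j) k, Finset.sum_range_id]

theorem finrank_altM : Module.finrank κ (altM κ k) = k * (k - 1) / 2 := by
  rw [LinearEquiv.finrank_eq (altEquiv κ k), Module.finrank_fintype_fun_eq_card, card_UT]

end AltDim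

section Dual

open TrivSqZeroExt

variable {κ : Type*} [CommRing κ] {n : ℕ}

/-- constant matrices over the dual numbers -/
def mI (M : Matrix (Fin n) (Fin n) κ) : Matrix (Fin n) (Fin n) (TrivSqZeroExt κ κ) :=
  (inlHom κ κ).mapMatrix M

/-- infinitesimal matrices over the dual numbers -/
def mR (M : Matrix (Fin n) (Fin n) κ) : Matrix (Fin n) (Fin n) (TrivSqZeroExt κ κ) :=
  M.map inr

theorem mI_apply (M : Matrix (Fin n) (Fin n) κ) (i j : Fin n) : mI M i j = inl (M i j) := rfl

theorem mR_apply (M : Matrix (Fin n) (Fin n) κ) (i j : Fin n) : mR M i j = inr (M i j) := rfl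

theorem mI_mul (M N : Matrix (Fin n) (Fin n) κ) : mI (M * N) = mI M * mI N := map_mul _ _ _

theorem mI_sub (M N : Matrix (Fin n) (Fin n) κ) : mI (M - N) = mI M - mI N := map_sub _ _ _

theorem mI_one : mI (1 : Matrix (Fin n) (Fin n) κ) = 1 := map_one _

theorem mI_transpose (M : Matrix (Fin n) (Fin n) κ) : mI Mᵀ = (mI M)ᵀ := rfl

theorem mR_transpose (M : Matrix (Fin n) (Fin n) κ) : mR Mᵀ = (mR M)ᵀ := rfl

theorem mR_add (M N : Matrix (Fin n) (Fin n) κ) : mR (M + N) = mR M + mR N := by
  ext i j <;> simp [mR_apply]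

theorem mI_mul_mR (M N : Matrix (Fin n) (Fin n) κ) : mI M * mR N = mR (M * N) := by
  ext i j
  · simp [Matrix.mul_apply, mI_apply, mR_apply, fst_sum]
  · simp [Matrix.mul_apply, mI_apply, mR_apply, snd_sum, mul_comm]

theorem mR_mul_mI (M N : Matrix (Fin n) (Fin n) κ) : mR M * mI N = mR (M * N) := by
  ext i j
  · simp [Matrix.mul_apply, mI_apply, mR_apply, fst_sum]
  · simp [Matrix.mul_apply, mI_apply, mR_apply, snd_sum, mul_comm]

theorem mR_eq_smul (M : Matrix (Fin n) (Fin n) κ) :
    mR M = (inr 1 : TrivSqZeroExt κ κ) • mI M := by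
  ext i j
  · simp [mI_apply, mR_apply]
  · simp [mI_apply, mR_apply]

/-- the augmentation ideal of the dual numbers -/
def epsI (κ : Type*) [CommRing κ] : Ideal (TrivSqZeroExt κ κ) :=
  RingHom.ker ((fstHom κ κ κ : TrivSqZeroExt κ κ →ₐ[κ] κ) : TrivSqZeroExt κ κ →+* κ)

theorem mem_epsI (x : TrivSqZeroExt κ κ) : x ∈ epsI κ ↔ x.fst = 0 := by
  rw [epsI, RingHom.mem_ker]
  rfl

theorem epsI_sq : ∀ x ∈ epsI κ, ∀ y ∈ epsI κ, x * y = 0 := by
  intro x hx y hy
  rw [mem_epsI] at hx hy
  ext
  · simp [hx]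
  · simp [hx, hy]

theorem matIn_mR (M : Matrix (Fin n) (Fin n) κ) : MatIn (epsI κ) (mR M) := by
  intro i j
  rw [mem_epsI, mR_apply, fst_inr]

theorem isAlt_mI_add_mR {a X : Matrix (Fin n) (Fin n) κ} (ha : IsAltMat a) :
    IsAltMat (mI a + mR X) ↔ IsAltMat X := by
  constructor
  · intro h
    constructor
    · intro j
      have := congrArg TrivSqZeroExt.snd (h.1 j)
      simpa [mI_apply, mR_apply] using this
    · intro j k
      have := congrArg TrivSqZeroExt.snd (h.2 j k)
      simpa [mI_apply, mR_apply] using this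
  · intro h
    constructor
    · intro j
      rw [Matrix.add_apply, mI_apply, mR_apply, ha.1, h.1]
      simp
    · intro j k
      rw [Matrix.add_apply, Matrix.add_apply, mI_apply, mR_apply, mI_apply, mR_apply]
      have e1 : (inl (a j k) + inr (X j k) + (inl (a k j) + inr (X k j)) : TrivSqZeroExt κ κ) =
          inl (a j k + a k j) + inr (X j k + X k j) := by
        rw [inl_add, inr_add]
        abel
      rw [e1, ha.2, h.2]
      simp

theorem defect_dual (c g Y : Matrix (Fin n) (Fin n) κ) :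
    defect (mI c) (mI g * (1 + mR Y)) =
      mI (defect c g) + mR (Yᵀ * (gᵀ * c * g) + gᵀ * c * g * Y) := by
  have h := expand_defect epsI_sq (mI c) ((mI g)ᵀ * mI c * mI g) (mR Y) (matIn_mR Y)
  have h1 : defect (mI c) (mI g * (1 + mR Y)) =
      (1 + mR Y)ᵀ * ((mI g)ᵀ * mI c * mI g) * (1 + mR Y) - mI c := by
    rw [defect, Matrix.transpose_mul]
    simp only [Matrix.mul_assoc]
  rw [h1, h]
  have h2 : (mI g)ᵀ * mI c * mI g = mI (gᵀ * c * g) := by
    rw [mI_mul, mI_mul, mI_transpose]
  rw [h2, ← mR_transpose, mR_mul_mI, mI_mul_mR, ← mR_add, ← mI_sub]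
  rfl

theorem det_dual (g Y : Matrix (Fin n) (Fin n) κ) :
    (mI g * (1 + mR Y)).det = inl g.det * (1 + inr Y.trace) := by
  rw [Matrix.det_mul]
  congr 1
  · show ((inlHom κ κ).mapMatrix g).det = _
    rw [← RingHom.map_det]
    rfl
  · rw [mR_eq_smul, Matrix.det_one_add_smul]
    have h1 : (inr 1 : TrivSqZeroExt κ κ) ^ 2 = 0 := by
      rw [pow_two, inr_mul_inr]
    have h2 : (mI Y).trace = inl Y.trace := by
      simp only [Matrix.trace, Matrix.diag_apply, mI_apply]
      rw [← inlHom_apply, map_sum]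
      rfl
    rw [h1, mul_zero, add_zero, h2]
    congr 1
    ext
    · simp
    · simp

/-- tangent vectors at a point of the special orthogonal group -/
theorem dual_point_iff (c g Y : Matrix (Fin n) (Fin n) κ) (halt : IsAltMat (defect c g))
    (hdet : g.det = 1) :
    (IsAltMat (defect (mI c) (mI g * (1 + mR Y))) ∧ (mI g * (1 + mR Y)).det = 1) ↔
      (IsAltMat (Yᵀ * c + c * Y) ∧ Y.trace = 0) := by
  rw [defect_dual, isAlt_mI_add_mR halt, det_dual, hdet]
  have e : Yᵀ * (gᵀ * c * g) + gᵀ * c * g * Y =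
      (Yᵀ * c + c * Y) + (Yᵀ * defect c g + defect c g * Y) := by
    rw [defect]
    noncomm_ring
  rw [e, isAlt_add_iff (IsAltMat.sandwich halt Y)]
  refine and_congr Iff.rfl ?_
  rw [inl_one, one_mul]
  constructor
  · intro h
    have := congrArg TrivSqZeroExt.snd h
    simpa using this
  · intro h
    rw [h, inr_zero, add_zero]

end Dual

end Groth.Agent.H9.SOD
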