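import Mathlib
import Groth.Agent.Lib.Helper9.Misc.QO3
import Groth.Agent.Lib.Helper9.Misc.SOD2

/-! The dimension of the Lie algebra of the special orthogonal group of a semiregular
quadratic form of odd rank over a field (helper9). -/

set_option autoImplicit false

open QuadraticMap Groth.Agent.H9.QG Groth.Agent.H9.QO Groth.Agent.H9.SG

namespace Groth.Agent.H9.SOD

universe u v

section Gen

variable {κ : Type u} [Field κ]

/-- alternating bilinear forms -/
def altB (W : Type v) [AddCommGroup W] [Module κ W] : Submodule κ (W →ₗ[κ] W →ₗ[κ] κ) where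
  carrier := {A | ∀ w, A w w = 0}
  add_mem' := by
    intro A B hA hB w
    simp [hA w, hB w]
  zero_mem' := by
    intro w
    simp
  smul_mem' := by
    intro r A hA w
    simp [hA w]

theorem altB_map {W : Type v} [AddCommGroup W] [Module κ W] {k : ℕ}
    (b : Module.Basis (Fin k) κ W) : (altB (κ := κ) W).map
      ((LinearMap.toMatrix₂ b b : (W →ₗ[κ] W →ₗ[κ] κ) ≃ₗ[κ] _) :
        (W →ₗ[κ] W →ₗ[κ] κ) →ₗ[κ] Matrix (Fin k) (Fin k) κ) = altM κ k := by
  ext M
  constructor
  · rintro ⟨A, hA, rfl⟩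
    exact (alt_iff b A).mp hA
  · intro hM
    refine ⟨(LinearMap.toMatrix₂ b b).symm M, ?_, LinearEquiv.apply_symm_apply _ _⟩
    show ∀ w, _ = 0
    rw [alt_iff b, LinearEquiv.apply_symm_apply]
    exact hM

/-- alternating forms are determined by the strictly upper triangular part of their matrix -/
noncomputable def altBEquiv {W : Type v} [AddCommGroup W] [Module κ W] {k : ℕ}
    (b : Module.Basis (Fin k) κ W) : altB (κ := κ) W ≃ₗ[κ] (UT k → κ) :=
  (LinearEquiv.ofSubmodules (LinearMap.toMatrix₂ b b) (altB (κ := κ) W) (altM κ k)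
    (altB_map b)).trans (altEquiv κ k)

theorem finrank_altB {W : Type v} [AddCommGroup W] [Module κ W] {k : ℕ}
    (b : Module.Basis (Fin k) κ W) :
    Module.finrank κ (altB (κ := κ) W) = k * (k - 1) / 2 := by
  have h : (altB (κ := κ) W).map
      ((LinearMap.toMatrix₂ b b : (W →ₗ[κ] W →ₗ[κ] κ) ≃ₗ[κ] _) :
        (W →ₗ[κ] W →ₗ[κ] κ) →ₗ[κ] Matrix (Fin k) (Fin k) κ) = altM κ k := by
    ext M
    constructor
    · rintro ⟨A, hA, rfl⟩
      exact (alt_iff b A).mp hA
    · intro hM
      refine ⟨(LinearMap.toMatrix₂ b b).symm M, ?_, LinearEquiv.apply_symm_apply _ _⟩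
      show ∀ w, _ = 0
      rw [alt_iff b, LinearEquiv.apply_symm_apply]
      exact hM
  rw [← finrank_altM κ k, ← h]
  exact (LinearEquiv.finrank_map_eq _ _).symm

variable {V : Type v} [AddCommGroup V] [Module κ V] [Module.Finite κ V]

/-- the Lie algebra of the special orthogonal group -/
def lieAbs (Q : QuadraticForm κ V) : Submodule κ (V →ₗ[κ] V) where
  carrier := {X | (∀ v, polar Q (X v) v = 0) ∧ LinearMap.trace κ V X = 0}
  add_mem' := by
    rintro X Y ⟨h1, h2⟩ ⟨h3, h4⟩
    exact ⟨fun v => by rw [LinearMap.add_apply, polar_add_left, h1, h3, add_zero],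
      by rw [map_add, h2, h4, add_zero]⟩
  zero_mem' := ⟨fun v => by simp, by simp⟩
  smul_mem' := by
    rintro r X ⟨h1, h2⟩
    exact ⟨fun v => by rw [LinearMap.smul_apply, polar_smul_left, h1, smul_zero],
      by rw [map_smul, h2, smul_zero]⟩

theorem mem_lieAbs (Q : QuadraticForm κ V) (X : V →ₗ[κ] V) :
    X ∈ lieAbs Q ↔ (∀ v, polar Q (X v) v = 0) ∧ LinearMap.trace κ V X = 0 := Iff.rfl

theorem polar_sum_right (Q : QuadraticForm κ V) (a : V) {ι : Type*} (s : Finset ι) (c : ι → κ)
    (w : ι → V) : polar Q a (∑ j ∈ s, c j • w j) = ∑ j ∈ s, c j * polar Q a (w j) := by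
  have := map_sum (polarBilin Q a) (fun j => c j • w j) s
  simp only [polarBilin_apply_apply, polar_smul_right, smul_eq_mul] at this
  exact this

end Gen

section Split

variable {κ : Type u} [Field κ] {V : Type v} [AddCommGroup V] [Module κ V] [Module.Finite κ V]
variable {Q : QuadraticForm κ V} {x₀ : V} {φ₀ : V →ₗ[κ] κ}

/-- the polar pairing on the complement -/
noncomputable def flat (Q : QuadraticForm κ V) (φ₀ : V →ₗ[κ] κ) :
    ↥(LinearMap.ker φ₀) →ₗ[κ] (↥(LinearMap.ker φ₀) →ₗ[κ] κ) :=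
  (polarBilin Q).domRestrict₁₂ (LinearMap.ker φ₀) (LinearMap.ker φ₀)

theorem flat_apply (w w' : LinearMap.ker φ₀) :
    flat Q φ₀ w w' = polar Q (w : V) (w' : V) := rfl

variable (hs : OddSplit Q x₀ φ₀)

include hs in
theorem flat_bijective : Function.Bijective (flat Q φ₀) := by
  constructor
  · rw [injective_iff_map_eq_zero]
    intro w hw
    apply Subtype.ext
    refine hs.inj w (LinearMap.mem_ker.mp w.2) fun n hn => ?_
    have := LinearMap.congr_fun hw ⟨n, LinearMap.mem_ker.mpr hn⟩
    rwa [flat_apply] at this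
  · intro φ
    obtain ⟨x, hx0, hx⟩ := hs.reg (φ ∘ₗ projK hs.one)
    refine ⟨⟨x, LinearMap.mem_ker.mpr hx0⟩, ?_⟩
    ext n
    rw [flat_apply, hx n (LinearMap.mem_ker.mp n.2), LinearMap.comp_apply, projK_ker]

/-- the polar pairing as an equivalence -/
noncomputable def flatE : ↥(LinearMap.ker φ₀) ≃ₗ[κ] (↥(LinearMap.ker φ₀) →ₗ[κ] κ) :=
  LinearEquiv.ofBijective (flat Q φ₀) (flat_bijective hs)

theorem polar_flatE_symm (ψ : ↥(LinearMap.ker φ₀) →ₗ[κ] κ) (n : LinearMap.ker φ₀) :
    polar Q (((flatE hs).symm ψ : LinearMap.ker φ₀) : V) (n : V) = ψ n := by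
  rw [← flat_apply]
  have : flat Q φ₀ ((flatE hs).symm ψ) = ψ := (flatE hs).apply_symm_apply ψ
  rw [this]

include hs in
/-- a skew endomorphism of the complement has trace zero -/
theorem trace_eq_zero_of_skew (Z : ↥(LinearMap.ker φ₀) →ₗ[κ] ↥(LinearMap.ker φ₀))
    (hZ : ∀ w : LinearMap.ker φ₀, polar Q ((Z w : LinearMap.ker φ₀) : V) (w : V) = 0) :
    LinearMap.trace κ _ Z = 0 := by
  classical
  set bW := Module.finBasis κ ↥(LinearMap.ker φ₀) with hbW
  set bs : Fin (Module.finrank κ ↥(LinearMap.ker φ₀)) → LinearMap.ker φ₀ :=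
    fun i => (flatE hs).symm (bW.coord i) with hbs
  have hrepr : ∀ (x : LinearMap.ker φ₀) i, bW.repr x i = polar Q ((bs i : LinearMap.ker φ₀) : V) (x : V) := by
    intro x i
    rw [hbs, polar_flatE_symm]
    rfl
  set S : Matrix _ _ κ := fun i j => bW.repr (bs i) j with hS
  set Am : Matrix _ _ κ := fun i j => polar Q ((Z (bW i) : LinearMap.ker φ₀) : V) ((bW j : LinearMap.ker φ₀) : V) with hAm
  have hAlt : IsAltMat Am := by
    constructor
    · intro j
      exact hZ (bW j)
    · intro j k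
      have := hZ (bW j + bW k)
      rw [map_add, Submodule.coe_add, Submodule.coe_add, polar_add_left, polar_add_right,
        polar_add_right, hZ, hZ] at this
      show polar Q _ _ + polar Q _ _ = 0
      linear_combination this
  have hSsymm : S.transpose.transpose = S.transpose := by
    ext i j
    show S i j = S j i
    rw [hS]
    show bW.repr (bs i) j = bW.repr (bs j) i
    rw [hrepr, hrepr, polar_comm]
  have htr : LinearMap.trace κ _ Z = (Am * S.transpose).trace := by
    rw [LinearMap.trace_eq_matrix_trace κ bW Z, Matrix.trace, Matrix.trace]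
    refine Finset.sum_congr rfl fun i _ => ?_
    rw [Matrix.diag_apply, Matrix.diag_apply, LinearMap.toMatrix_apply, Matrix.mul_apply, hrepr,
      polar_comm]
    have hsum : ((bs i : LinearMap.ker φ₀) : V) = ∑ j, S i j • ((bW j : LinearMap.ker φ₀) : V) := by
      have := congrArg (fun x : LinearMap.ker φ₀ => (x : V)) (bW.sum_repr (bs i)).symm
      simp only [Submodule.coe_sum, Submodule.coe_smul] at this
      exact this
    rw [hsum, polar_sum_right]
    refine Finset.sum_congr rfl fun j _ => ?_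
    rw [Matrix.transpose_apply, mul_comm]
  rw [htr]
  exact trace_alt_mul_symm hAlt hSsymm

/-- the comparison map of the Lie algebra with pairs (linear form, alternating form) on the
complement -/
noncomputable def theta (Q : QuadraticForm κ V) (φ₀ : V →ₗ[κ] κ) :
    lieAbs Q →ₗ[κ] (↥(LinearMap.ker φ₀) →ₗ[κ] κ) × altB (κ := κ) ↥(LinearMap.ker φ₀) where
  toFun X := (φ₀ ∘ₗ X.1 ∘ₗ (LinearMap.ker φ₀).subtype,
    ⟨((polarBilin Q).comp X.1).domRestrict₁₂ (LinearMap.ker φ₀) (LinearMap.ker φ₀),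
      fun w => X.2.1 w⟩)
  map_add' X Y := by
    apply Prod.ext
    · ext w
      simp
    · apply Subtype.ext
      ext w w'
      show polar Q ((X.1 + Y.1) w) w' = polar Q (X.1 w) w' + polar Q (Y.1 w) w'
      rw [LinearMap.add_apply, polar_add_left]
  map_smul' r X := by
    apply Prod.ext
    · ext w
      simp
    · apply Subtype.ext
      ext w w'
      show polar Q ((r • X.1) w) w' = r * polar Q (X.1 w) w'
      rw [LinearMap.smul_apply, polar_smul_left, smul_eq_mul]

theorem theta_fst (X : lieAbs Q) (w : LinearMap.ker φ₀) :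
    (theta Q φ₀ X).1 w = φ₀ (X.1 w) := rfl

theorem theta_snd (X : lieAbs Q) (w w' : LinearMap.ker φ₀) :
    ((theta Q φ₀ X).2 : _ →ₗ[κ] _ →ₗ[κ] κ) w w' = polar Q (X.1 w) (w' : V) := rfl

include hs in
theorem theta_injective : Function.Injective (theta Q φ₀) := by
  rw [injective_iff_map_eq_zero]
  intro X hX
  have h1 : ∀ w : LinearMap.ker φ₀, φ₀ (X.1 w) = 0 := fun w => by
    rw [← theta_fst, hX]
    rfl
  have h2 : ∀ w w' : LinearMap.ker φ₀, polar Q (X.1 w) (w' : V) = 0 := fun w w' => by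
    rw [← theta_snd, hX]
    rfl
  have hXW : ∀ w : LinearMap.ker φ₀, X.1 w = 0 := fun w =>
    hs.inj _ (h1 w) fun n hn => h2 w ⟨n, LinearMap.mem_ker.mpr hn⟩
  set y := X.1 x₀ with hy
  have hyn : ∀ n, φ₀ n = 0 → polar Q y n = 0 := by
    intro n hn
    have e1 := X.2.1 (x₀ + n)
    have e2 := X.2.1 x₀
    have e3 := hXW ⟨n, LinearMap.mem_ker.mpr hn⟩
    simp only at e3
    rw [map_add, e3, add_zero, polar_add_right, e2, zero_add] at e1
    exact e1
  have hy0 : ((projK hs.one y : LinearMap.ker φ₀) : V) = 0 := by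
    refine hs.inj _ (LinearMap.mem_ker.mp (projK hs.one y).2) fun n hn => ?_
    rw [projK_coe, polar_sub_left, polar_smul_left, hs.orth n hn, hyn n hn]
    simp
  have hya : y = φ₀ y • x₀ := by
    have := decompK hs.one y
    rw [hy0, zero_add] at this
    exact this
  have hXeq : X.1 = (φ₀ y) • φ₀.smulRight x₀ := by
    ext v
    have hv := decompK hs.one v
    have e3 := hXW (projK hs.one v)
    calc X.1 v = X.1 ((projK hs.one v : V) + φ₀ v • x₀) := by rw [← hv]
      _ = φ₀ v • y := by rw [map_add, e3, zero_add, map_smul]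
      _ = φ₀ v • (φ₀ y • x₀) := by rw [← hya]
      _ = ((φ₀ y) • φ₀.smulRight x₀) v := by
        rw [LinearMap.smul_apply, LinearMap.smulRight_apply, smul_comm]
  have htr : φ₀ y = 0 := by
    have := X.2.2
    rw [hXeq, map_smul, LinearMap.trace_smulRight, hs.one, smul_eq_mul, mul_one] at this
    exact this
  apply Subtype.ext
  rw [hXeq, htr, zero_smul]
  rfl

include hs in
theorem theta_surjective : Function.Surjective (theta Q φ₀) := by
  rintro ⟨lam, ⟨A, hA⟩⟩
  have hA' : ∀ w, A w w = 0 := hA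
  set Z : ↥(LinearMap.ker φ₀) →ₗ[κ] ↥(LinearMap.ker φ₀) :=
    ((flatE hs).symm : (↥(LinearMap.ker φ₀) →ₗ[κ] κ) →ₗ[κ] ↥(LinearMap.ker φ₀)) ∘ₗ A with hZdef
  have hZ : ∀ w w' : LinearMap.ker φ₀, polar Q ((Z w : LinearMap.ker φ₀) : V) (w' : V) = A w w' :=
    fun w w' => polar_flatE_symm hs (A w) w'
  set w₀ : LinearMap.ker φ₀ := (flatE hs).symm ((-(2 * Q x₀)) • lam) with hw₀def
  have hw₀ : ∀ w' : LinearMap.ker φ₀, polar Q (w₀ : V) (w' : V) = -(2 * Q x₀) * lam w' :=
    fun w' => by
      rw [hw₀def, polar_flatE_symm]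
      rfl
  have hw₀0 : φ₀ (w₀ : V) = 0 := LinearMap.mem_ker.mp w₀.2
  set X : V →ₗ[κ] V := (lam ∘ₗ projK hs.one).smulRight x₀ + φ₀.smulRight (w₀ : V) +
    (LinearMap.ker φ₀).subtype ∘ₗ Z ∘ₗ projK hs.one with hXdef
  have hXv : ∀ v, X v = lam (projK hs.one v) • x₀ + φ₀ v • (w₀ : V) +
      ((Z (projK hs.one v) : LinearMap.ker φ₀) : V) := fun v => by
    simp [hXdef]
  have hpx : projK hs.one x₀ = 0 := by
    apply Subtype.ext
    rw [projK_coe, hs.one, one_smul, sub_self]
    rfl
  have hX1 : ∀ v, polar Q (X v) v = 0 := by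
    intro v
    have hv := decompK hs.one v
    rw [hXv]
    generalize hn : projK hs.one v = n at hv ⊢
    generalize hsd : φ₀ v = s at hv ⊢
    have hn0 : φ₀ (n : V) = 0 := LinearMap.mem_ker.mp n.2
    have f1 : polar Q x₀ (n : V) = 0 := hs.orth _ hn0
    have f2 : polar Q x₀ x₀ = 2 * Q x₀ := by
      rw [polar_self]
      simp
    have f3 : polar Q (w₀ : V) (n : V) = -(2 * Q x₀) * lam n := hw₀ n
    have f4 : polar Q (w₀ : V) x₀ = 0 := by
      rw [polar_comm]
      exact hs.orth _ hw₀0
    have f5 : polar Q ((Z n : LinearMap.ker φ₀) : V) (n : V) = 0 := by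
      rw [hZ]
      exact hA' n
    have f6 : polar Q ((Z n : LinearMap.ker φ₀) : V) x₀ = 0 := by
      rw [polar_comm]
      exact hs.orth _ (LinearMap.mem_ker.mp (Z n).2)
    rw [hv]
    simp only [polar_add_left, polar_add_right, polar_smul_left, polar_smul_right, smul_eq_mul,
      f1, f2, f3, f4, f5, f6]
    ring
  have hX2 : LinearMap.trace κ V X = 0 := by
    rw [hXdef, map_add, map_add, LinearMap.trace_smulRight, LinearMap.trace_smulRight,
      LinearMap.comp_apply, hpx, map_zero, hw₀0, zero_add, zero_add,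
      LinearMap.trace_comp_comm']
    have e : (Z ∘ₗ projK hs.one) ∘ₗ (LinearMap.ker φ₀).subtype = Z := by
      ext w
      simp only [LinearMap.comp_apply, Submodule.subtype_apply]
      rw [projK_ker]
    rw [e]
    exact trace_eq_zero_of_skew hs Z fun w => by rw [hZ]; exact hA' w
  refine ⟨⟨X, hX1, hX2⟩, ?_⟩
  apply Prod.ext
  · ext w
    rw [theta_fst]
    show φ₀ (X (w : V)) = lam w
    rw [hXv, map_add, map_add, map_smul, map_smul, hs.one, hw₀0, projK_ker,
      LinearMap.mem_ker.mp (Z w).2]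
    simp
  · apply Subtype.ext
    ext w w'
    rw [theta_snd]
    show polar Q (X (w : V)) (w' : V) = A w w'
    rw [hXv, projK_ker, polar_add_left, polar_add_left, polar_smul_left, polar_smul_left,
      hs.orth _ (LinearMap.mem_ker.mp w'.2), LinearMap.mem_ker.mp w.2, hZ]
    simp

include hs in
/-- the dimension of the Lie algebra -/
theorem finrank_lieAbs (m : ℕ) (hV : Module.finrank κ V = 2 * m + 1) :
    Module.finrank κ (lieAbs Q) = m * (2 * m + 1) := by
  have hW : Module.finrank κ ↥(LinearMap.ker φ₀) = 2 * m := by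
    have := finrank_K hs.one (M := V)
    omega
  haveI : Module.Free κ ↥(altB (κ := κ) ↥(LinearMap.ker φ₀)) :=
    Module.Free.of_equiv (altBEquiv (Module.finBasis κ ↥(LinearMap.ker φ₀))).symm
  rw [(LinearEquiv.ofBijective (theta Q φ₀) ⟨theta_injective hs, theta_surjective hs⟩).finrank_eq,
    Module.finrank_prod, Module.finrank_linearMap, Module.finrank_self, mul_one,
    finrank_altB (Module.finBasis κ ↥(LinearMap.ker φ₀)), hW]
  cases m with
  | zero => simp
  | succ m =>
    have : 2 * (m + 1) * (2 * (m + 1) - 1) / 2 = (m + 1) * (2 * (m + 1) - 1) := by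
      rw [mul_assoc]
      exact Nat.mul_div_cancel_left _ (by norm_num)
    rw [this]
    have h2 : 2 * (m + 1) - 1 = 2 * m + 1 := by omega
    rw [h2]
    ring

end Split

end Groth.Agent.H9.SOD
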