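import Mathlib
import Groth.Agent.Lib.Helper9.Misc.SOD3

/-! The rank of the module of differentials of the special orthogonal group scheme
(helper9). -/

set_option autoImplicit false

open Matrix TensorProduct MvPolynomial KaehlerDifferential TrivSqZeroExt
open Groth.Agent.H9.SG Groth.Agent.H9.SO

namespace Groth.Agent.H9.SOD

universe u

section General

/-- the rank of a finite free module is the dimension of its maps to a residue field -/
theorem rank_eq_finrank_hom {S : Type u} [CommRing S] (Ωm : Type*) [AddCommGroup Ωm] [Module S Ωm]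
    [Module.Free S Ωm] [Module.Finite S Ωm] (κ : Type*) [Field κ] [Algebra S κ] :
    Module.rank S Ωm = (Module.finrank κ (Ωm →ₗ[S] κ) : Cardinal) := by
  haveI : Nontrivial S := (algebraMap S κ).domain_nontrivial
  let b := Module.Free.chooseBasis S Ωm
  rw [rank_eq_card_basis b, ← LinearEquiv.finrank_eq (b.constr κ),
    Module.finrank_fintype_fun_eq_card]

variable {R : Type*} [CommRing R] {S : Type*} [CommRing S] [Algebra R S]
variable {κ : Type*} [Field κ] [Algebra R κ] [Algebra S κ] [IsScalarTower R S κ]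

/-- the point with values in the dual numbers defined by a derivation -/
noncomputable def tsHom (d : Derivation R S κ) : S →ₐ[R] TrivSqZeroExt κ κ where
  toFun s := inl (algebraMap S κ s) + inr (d s)
  map_one' := by simp
  map_mul' a b := by
    apply TrivSqZeroExt.ext
    · simp only [fst_add, fst_inl, fst_inr, add_zero, fst_mul, map_mul]
    · simp only [snd_add, snd_inl, snd_inr, zero_add, snd_mul, fst_add, fst_inl, fst_inr,
        add_zero, Derivation.leibniz, smul_eq_mul, op_smul_eq_mul]
      rw [Algebra.smul_def a, Algebra.smul_def b]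
      ring
  map_zero' := by simp
  map_add' a b := by
    rw [map_add, map_add, inl_add, inr_add]
    abel
  commutes' r := by
    rw [← IsScalarTower.algebraMap_apply, Derivation.map_algebraMap, inr_zero, add_zero,
      algebraMap_eq_inl']

theorem tsHom_apply (d : Derivation R S κ) (s : S) :
    tsHom d s = inl (algebraMap S κ s) + inr (d s) := rfl

/-- the derivation defined by a point with values in the dual numbers -/
noncomputable def derOfHom (ψ : S →ₐ[R] TrivSqZeroExt κ κ)
    (hψ : ∀ s, (ψ s).fst = algebraMap S κ s) : Derivation R S κ :=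
  Derivation.mk'
    { toFun := fun s => (ψ s).snd
      map_add' := fun a b => by rw [map_add, snd_add]
      map_smul' := fun r a => by
        rw [map_smul, snd_smul, RingHom.id_apply] }
    (fun a b => by
      show (ψ (a * b)).snd = a • (ψ b).snd + b • (ψ a).snd
      rw [map_mul, snd_mul, hψ, hψ, Algebra.smul_def a, Algebra.smul_def b]
      simp only [smul_eq_mul, op_smul_eq_mul]
      ring)

theorem derOfHom_apply (ψ : S →ₐ[R] TrivSqZeroExt κ κ)
    (hψ : ∀ s, (ψ s).fst = algebraMap S κ s) (s : S) : derOfHom ψ hψ s = (ψ s).snd := rfl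

end General

section Lie

variable {κ : Type*} [Field κ] {n : ℕ}

/-- the Lie algebra of the special orthogonal group, in matrices -/
def lieM (c : Matrix (Fin n) (Fin n) κ) : Submodule κ (Matrix (Fin n) (Fin n) κ) where
  carrier := {Y | IsAltMat (Yᵀ * c + c * Y) ∧ Y.trace = 0}
  add_mem' := by
    rintro Y Y' ⟨h1, h2⟩ ⟨h3, h4⟩
    refine ⟨?_, by rw [Matrix.trace_add, h2, h4, add_zero]⟩
    have e : (Y + Y')ᵀ * c + c * (Y + Y') = (Yᵀ * c + c * Y) + (Y'ᵀ * c + c * Y') := by
      rw [Matrix.transpose_add, Matrix.add_mul, Matrix.mul_add]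
      abel
    rw [e]
    exact IsAltMat.add' h1 h3
  zero_mem' := by
    refine ⟨?_, Matrix.trace_zero _ _⟩
    rw [Matrix.transpose_zero, Matrix.zero_mul, Matrix.mul_zero, add_zero]
    exact IsAltMat.zero'
  smul_mem' := by
    rintro r Y ⟨h1, h2⟩
    refine ⟨?_, by rw [Matrix.trace_smul, h2, smul_zero]⟩
    have e : (r • Y)ᵀ * c + c * (r • Y) = r • (Yᵀ * c + c * Y) := by
      rw [Matrix.transpose_smul, Matrix.smul_mul, Matrix.mul_smul, smul_add]
    rw [e]
    exact IsAltMat.smul' h1 r

theorem mem_lieM (c Y : Matrix (Fin n) (Fin n) κ) :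
    Y ∈ lieM c ↔ IsAltMat (Yᵀ * c + c * Y) ∧ Y.trace = 0 := Iff.rfl

end Lie

section Tangent

variable {R : Type u} [CommRing R] {n : ℕ} (c : Matrix (Fin n) (Fin n) R)
variable (S : Type u) [CommRing S] [Algebra R S] [Algebra (A0 c (detRel R n)) S]
  [IsScalarTower R (A0 c (detRel R n)) S] (t : A0 c (detRel R n)) [IsLocalization.Away t S]
variable (κ : Type u) [Field κ] [Algebra S κ] [Algebra R κ] [IsScalarTower R S κ]

/-- the `κ`-point of the special orthogonal group given by `S → κ` -/
noncomputable def rho : A0 c (detRel R n) →ₐ[R] κ :=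
  (IsScalarTower.toAlgHom R S κ).comp (IsScalarTower.toAlgHom R (A0 c (detRel R n)) S)

theorem rho_apply (a : A0 c (detRel R n)) :
    rho c S κ a = algebraMap S κ (algebraMap (A0 c (detRel R n)) S a) := rfl

/-- the matrix of the point -/
noncomputable def gM : Matrix (Fin n) (Fin n) κ :=
  (rho c S κ : A0 c (detRel R n) →+* κ).mapMatrix (Xb c (detRel R n))

/-- the inverse matrix of the point -/
noncomputable def giM : Matrix (Fin n) (Fin n) κ :=
  (rho c S κ : A0 c (detRel R n) →+* κ).mapMatrix (Yb c (detRel R n))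

theorem gM_mul_giM : gM c S κ * giM c S κ = 1 := by
  rw [gM, giM, ← map_mul, Xb_mul_Yb, map_one]

theorem giM_mul_gM : giM c S κ * gM c S κ = 1 := by
  rw [gM, giM, ← map_mul, Yb_mul_Xb, map_one]

theorem isAlt_gM : IsAltMat (defect (gr κ c) (gM c S κ)) :=
  isAlt_of_algHom (rho c S κ) c (isAlt_Xb c (detRel R n))

theorem det_gM : (gM c S κ).det = 1 := by
  rw [gM, ← RingHom.map_det, det_Xb, map_one]

theorem gr_dual : gr (TrivSqZeroExt κ κ) c = mI (gr κ c) := by
  ext i j
  · rw [gr_apply, mI_apply, gr_apply, algebraMap_eq_inl']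
  · rw [gr_apply, mI_apply, gr_apply, algebraMap_eq_inl']

/-- the matrix of values of a tangent vector on the coordinate functions -/
noncomputable def rawM (f : Ω[S⁄R] →ₗ[S] κ) : Matrix (Fin n) (Fin n) κ :=
  Matrix.of fun i j => f (D R S (algebraMap (A0 c (detRel R n)) S (Xb c (detRel R n) i j)))

theorem rawM_apply (f : Ω[S⁄R] →ₗ[S] κ) (i j : Fin n) :
    rawM c S κ f i j = f (D R S (algebraMap (A0 c (detRel R n)) S (Xb c (detRel R n) i j))) := rfl

/-- the comparison map from the tangent space to matrices, translated to the identity -/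
noncomputable def Psi : (Ω[S⁄R] →ₗ[S] κ) →ₗ[κ] Matrix (Fin n) (Fin n) κ where
  toFun f := giM c S κ * rawM c S κ f
  map_add' f f' := by
    rw [← Matrix.mul_add]
    congr 1
  map_smul' r f := by
    rw [RingHom.id_apply, ← Matrix.mul_smul]
    congr 1

theorem Psi_apply (f : Ω[S⁄R] →ₗ[S] κ) : Psi c S κ f = giM c S κ * rawM c S κ f := rfl

/-- the point with values in the dual numbers of a tangent vector -/
noncomputable def pointOf (f : Ω[S⁄R] →ₗ[S] κ) : A0 c (detRel R n) →ₐ[R] TrivSqZeroExt κ κ :=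
  (tsHom (f.compDer (D R S))).comp (IsScalarTower.toAlgHom R (A0 c (detRel R n)) S)

theorem pointOf_apply (f : Ω[S⁄R] →ₗ[S] κ) (a : A0 c (detRel R n)) :
    pointOf c S κ f a = inl (rho c S κ a) +
      inr (f (D R S (algebraMap (A0 c (detRel R n)) S a))) := rfl

theorem pointOf_Xb (f : Ω[S⁄R] →ₗ[S] κ) :
    (pointOf c S κ f : A0 c (detRel R n) →+* TrivSqZeroExt κ κ).mapMatrix (Xb c (detRel R n)) =
      mI (gM c S κ) * (1 + mR (Psi c S κ f)) := by
  rw [Matrix.mul_add, Matrix.mul_one, mI_mul_mR, Psi_apply, ← Matrix.mul_assoc, gM_mul_giM,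
    Matrix.one_mul]
  ext i j
  · rfl
  · rfl

theorem Psi_mem (f : Ω[S⁄R] →ₗ[S] κ) : Psi c S κ f ∈ lieM (gr κ c) := by
  have h1 := isAlt_of_algHom (pointOf c S κ f) c (isAlt_Xb c (detRel R n))
  have h2 : ((pointOf c S κ f : A0 c (detRel R n) →+* TrivSqZeroExt κ κ).mapMatrix
      (Xb c (detRel R n))).det = 1 := by
    rw [← RingHom.map_det, det_Xb, map_one]
  rw [pointOf_Xb, gr_dual] at h1
  rw [pointOf_Xb] at h2
  exact (dual_point_iff (gr κ c) (gM c S κ) (Psi c S κ f) (isAlt_gM c S κ) (det_gM c S κ)).mp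
    ⟨h1, h2⟩

include t in
theorem Psi_injective : Function.Injective (Psi c S κ) := by
  rw [injective_iff_map_eq_zero]
  intro f hf
  -- the point of `f` is the constant point
  have h1 : pointOf c S κ f = (inlAlgHom R κ κ).comp (rho c S κ) := by
    apply hom_ext_Xb
    rw [pointOf_Xb, hf]
    have h0 : mR (0 : Matrix (Fin n) (Fin n) κ) = 0 := by
      ext i j <;> simp [mR_apply]
    rw [h0, add_zero, Matrix.mul_one]
    rfl
  have h2 : ∀ a : A0 c (detRel R n), f (D R S (algebraMap (A0 c (detRel R n)) S a)) = 0 := by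
    intro a
    have := congrArg TrivSqZeroExt.snd (AlgHom.congr_fun h1 a)
    rw [pointOf_apply] at this
    simpa using this
  apply LinearMap.ext_on
    (KaehlerDifferential.span_range_map_derivation_of_isLocalization R
      (S := A0 c (detRel R n)) S (Submonoid.powers t))
  rintro _ ⟨a, rfl⟩
  rw [Function.comp_apply, KaehlerDifferential.map_D, h2, LinearMap.zero_apply]

theorem fstMap_dual (g Y : Matrix (Fin n) (Fin n) κ) :
    ((fstHom R κ κ : TrivSqZeroExt κ κ →ₐ[R] κ) : TrivSqZeroExt κ κ →+* κ).mapMatrix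
      (mI g * (1 + mR Y)) = g := by
  rw [Matrix.mul_add, Matrix.mul_one, mI_mul_mR]
  ext i j
  simp [mI_apply, mR_apply]

theorem sndMap_dual (g Y : Matrix (Fin n) (Fin n) κ) (i j : Fin n) :
    ((mI g * (1 + mR Y)) i j).snd = (g * Y) i j := by
  rw [Matrix.mul_add, Matrix.mul_one, mI_mul_mR]
  simp [mI_apply, mR_apply]

include t in
theorem Psi_surjective_onto {Y : Matrix (Fin n) (Fin n) κ} (hY : Y ∈ lieM (gr κ c)) :
    ∃ f, Psi c S κ f = Y := by
  obtain ⟨hU1, hU2⟩ := (dual_point_iff (gr κ c) (gM c S κ) Y (isAlt_gM c S κ)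
    (det_gM c S κ)).mpr hY
  rw [← gr_dual] at hU1
  set U : Matrix (Fin n) (Fin n) (TrivSqZeroExt κ κ) := mI (gM c S κ) * (1 + mR Y) with hU
  set V : Matrix (Fin n) (Fin n) (TrivSqZeroExt κ κ) := (1 - mR Y) * mI (giM c S κ) with hV
  obtain ⟨e1, e2⟩ := one_add_mul_one_sub (epsI_sq (κ := κ)) (matIn_mR Y)
  have hUV : U * V = 1 := by
    rw [hU, hV]
    calc mI (gM c S κ) * (1 + mR Y) * ((1 - mR Y) * mI (giM c S κ))
        = mI (gM c S κ) * ((1 + mR Y) * (1 - mR Y)) * mI (giM c S κ) := by
          simp only [Matrix.mul_assoc]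
      _ = 1 := by rw [e1, Matrix.mul_one, ← mI_mul, gM_mul_giM, mI_one]
  have hVU : V * U = 1 := by
    rw [hU, hV]
    calc (1 - mR Y) * mI (giM c S κ) * (mI (gM c S κ) * (1 + mR Y))
        = (1 - mR Y) * (mI (giM c S κ) * mI (gM c S κ)) * (1 + mR Y) := by
          simp only [Matrix.mul_assoc]
      _ = 1 := by rw [← mI_mul, giM_mul_gM, mI_one, Matrix.mul_one, e2]
  obtain ⟨ψ₀, hψX, -⟩ := exists_hom c (detRel R n) U V hUV hVU hU1 (hextra_of_det U V hU2)
  -- the constant part of the point is the given point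
  have hfst : (fstHom R κ κ).comp ψ₀ = rho c S κ := by
    apply hom_ext_Xb
    have : (((fstHom R κ κ).comp ψ₀ : A0 c (detRel R n) →ₐ[R] κ) : A0 c (detRel R n) →+* κ).mapMatrix
        (Xb c (detRel R n)) =
        ((fstHom R κ κ : TrivSqZeroExt κ κ →ₐ[R] κ) : TrivSqZeroExt κ κ →+* κ).mapMatrix
          ((ψ₀ : A0 c (detRel R n) →+* TrivSqZeroExt κ κ).mapMatrix (Xb c (detRel R n))) := by
      ext i j
      rfl
    rw [this, hψX, hU, fstMap_dual]
    rfl
  have hfst' : ∀ a, (ψ₀ a).fst = rho c S κ a := fun a => AlgHom.congr_fun hfst a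
  -- extension to the localization
  have hunit : IsUnit ((ψ₀ : A0 c (detRel R n) →+* TrivSqZeroExt κ κ) t) := by
    rw [isUnit_iff_isUnit_fst]
    show IsUnit (ψ₀ t).fst
    rw [hfst', rho_apply]
    exact (IsLocalization.Away.algebraMap_isUnit (S := S) t).map (algebraMap S κ)
  set ψr : S →+* TrivSqZeroExt κ κ := IsLocalization.Away.lift t hunit with hψr
  have hψr_eq : ∀ a, ψr (algebraMap (A0 c (detRel R n)) S a) = ψ₀ a := fun a =>
    IsLocalization.Away.lift_eq t hunit a
  let ψ : S →ₐ[R] TrivSqZeroExt κ κ :=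
    { ψr with
      commutes' := fun r => by
        show ψr (algebraMap R S r) = _
        rw [IsScalarTower.algebraMap_apply R (A0 c (detRel R n)) S, hψr_eq]
        exact ψ₀.commutes r }
  have hψ : ∀ s, (ψ s).fst = algebraMap S κ s := by
    have : ((fstHom R κ κ : TrivSqZeroExt κ κ →ₐ[R] κ) : TrivSqZeroExt κ κ →+* κ).comp ψr =
        algebraMap S κ := by
      apply IsLocalization.ringHom_ext (Submonoid.powers t)
      ext a
      show (ψr (algebraMap (A0 c (detRel R n)) S a)).fst = _
      rw [hψr_eq, hfst']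
      rfl
    intro s
    exact RingHom.congr_fun this s
  refine ⟨(derOfHom ψ hψ).liftKaehlerDifferential, ?_⟩
  have hraw : rawM c S κ (derOfHom ψ hψ).liftKaehlerDifferential = gM c S κ * Y := by
    ext i j
    rw [rawM_apply, Derivation.liftKaehlerDifferential_comp_D, derOfHom_apply]
    show (ψr (algebraMap (A0 c (detRel R n)) S (Xb c (detRel R n) i j))).snd = _
    rw [hψr_eq]
    have : ψ₀ (Xb c (detRel R n) i j) = U i j := by
      rw [← hψX]
      rfl
    rw [this, hU, sndMap_dual]
  rw [Psi_apply, hraw, ← Matrix.mul_assoc, giM_mul_gM, Matrix.one_mul]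

include t in
/-- the tangent space at a point of the special orthogonal group is a translate of the Lie
algebra -/
theorem finrank_hom_eq :
    Module.finrank κ (Ω[S⁄R] →ₗ[S] κ) = Module.finrank κ (lieM (gr κ c)) := by
  have hr : LinearMap.range (Psi c S κ) = lieM (gr κ c) := by
    ext Y
    constructor
    · rintro ⟨f, rfl⟩
      exact Psi_mem c S κ f
    · intro hY
      exact Psi_surjective_onto c S t κ hY
  rw [← hr, LinearMap.finrank_range_of_inj (Psi_injective c S t κ)]

end Tangent

end Groth.Agent.H9.SOD
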