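import Mathlib
import Groth.Agent.Lib.Helper9.Misc.SOD4
import Groth.Agent.Lib.Helper9.Misc.QO4

/-! The special orthogonal group scheme of a semiregular form of rank `2m+1` is smooth of relative
dimension `m(2m+1)` (helper9). -/

set_option autoImplicit false

open Matrix TensorProduct MvPolynomial KaehlerDifferential CategoryTheory AlgebraicGeometry MonObj
open Groth.Agent.H9.SG Groth.Agent.H9.SO Groth.Agent.H9.QO

namespace Groth.Agent.H9.SOD

universe u

section LieDim

variable {R : Type u} [CommRing R] {m : ℕ} (Q : QuadraticForm R (Fin (2 * m + 1) → R))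

theorem betaA_add_swap (κ : Type u) [CommRing κ] [Algebra R κ]
    (a b : κ ⊗[R] (Fin (2 * m + 1) → R)) :
    betaA Q κ a b + betaA Q κ b a =
      QuadraticMap.polar (QuadGrp.baseChangeForm κ Q) a b := by
  have hq : ∀ x, QuadGrp.baseChangeForm κ Q x = betaA Q κ x x := fun x => rfl
  unfold QuadraticMap.polar
  rw [hq, hq, hq]
  simp only [map_add, LinearMap.add_apply]
  ring

theorem mem_lieAbs_iff (κ : Type u) [Field κ] [Algebra R κ]
    (X : (κ ⊗[R] (Fin (2 * m + 1) → R)) →ₗ[κ] (κ ⊗[R] (Fin (2 * m + 1) → R))) :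
    haveI : Module.Finite κ (κ ⊗[R] (Fin (2 * m + 1) → R)) :=
      Module.Finite.of_basis (bas R (2 * m + 1) κ)
    X ∈ lieAbs (QuadGrp.baseChangeForm κ Q) ↔
      LinearMap.toMatrix (bas R (2 * m + 1) κ) (bas R (2 * m + 1) κ) X ∈
        lieM (gr κ (cQ Q)) := by
  haveI : Module.Finite κ (κ ⊗[R] (Fin (2 * m + 1) → R)) :=
    Module.Finite.of_basis (bas R (2 * m + 1) κ)
  rw [mem_lieAbs, mem_lieM, LinearMap.trace_eq_matrix_trace κ (bas R (2 * m + 1) κ) X]
  refine and_congr ?_ Iff.rfl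
  have hmat : LinearMap.toMatrix₂ (bas R (2 * m + 1) κ) (bas R (2 * m + 1) κ)
      ((betaA Q κ).comp X + (betaA Q κ).compl₂ X) =
      (LinearMap.toMatrix (bas R (2 * m + 1) κ) (bas R (2 * m + 1) κ) X)ᵀ * gr κ (cQ Q) +
        gr κ (cQ Q) * LinearMap.toMatrix (bas R (2 * m + 1) κ) (bas R (2 * m + 1) κ) X := by
    rw [map_add, LinearMap.toMatrix₂_comp (bas R (2 * m + 1) κ),
      LinearMap.toMatrix₂_compl₂ (bas R (2 * m + 1) κ) (bas R (2 * m + 1) κ), toMatrix₂_betaA]
  rw [← hmat, ← alt_iff (bas R (2 * m + 1) κ)]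
  refine forall_congr' fun v => ?_
  rw [LinearMap.add_apply, LinearMap.add_apply, LinearMap.comp_apply, LinearMap.compl₂_apply,
    betaA_add_swap]

theorem finrank_lieM
    (hQ : QuadGrp.IsSemiregular (Pi.basisFun R (Fin (2 * m + 1))) (LinearEquiv.refl R R) Q)
    (κ : Type u) [Field κ] [Algebra R κ] :
    Module.finrank κ (lieM (gr κ (cQ Q))) = m * (2 * m + 1) := by
  haveI : Module.Finite κ (κ ⊗[R] (Fin (2 * m + 1) → R)) :=
    Module.Finite.of_basis (bas R (2 * m + 1) κ)
  have hsr := isSemiregular_baseChange κ (Pi.basisFun R (Fin (2 * m + 1))) Q hQ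
  obtain ⟨x₀, φ₀, hs⟩ := exists_oddSplit m (κ ⊗[R] (Fin (2 * m + 1) → R))
    (QuadGrp.baseChangeForm κ Q) (2 * m + 1) rfl (bas R (2 * m + 1) κ) hsr
  have hV : Module.finrank κ (κ ⊗[R] (Fin (2 * m + 1) → R)) = 2 * m + 1 := by
    rw [Module.finrank_eq_card_basis (bas R (2 * m + 1) κ), Fintype.card_fin]
  have hmap : (lieAbs (QuadGrp.baseChangeForm κ Q)).map
      ((LinearMap.toMatrix (bas R (2 * m + 1) κ) (bas R (2 * m + 1) κ) :
        (_ →ₗ[κ] _) ≃ₗ[κ] Matrix (Fin (2 * m + 1)) (Fin (2 * m + 1)) κ) :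
        (_ →ₗ[κ] _) →ₗ[κ] Matrix (Fin (2 * m + 1)) (Fin (2 * m + 1)) κ) =
      lieM (gr κ (cQ Q)) := by
    ext Y
    constructor
    · rintro ⟨X, hX, rfl⟩
      exact (mem_lieAbs_iff Q κ X).mp hX
    · intro hY
      refine ⟨(LinearMap.toMatrix (bas R (2 * m + 1) κ) (bas R (2 * m + 1) κ)).symm Y, ?_,
        LinearEquiv.apply_symm_apply _ _⟩
      apply (mem_lieAbs_iff Q κ _).mpr
      rw [LinearEquiv.apply_symm_apply]
      exact hY
  rw [← hmap, LinearEquiv.finrank_map_eq]
  exact finrank_lieAbs hs m hV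

end LieDim

section RelDim

variable {R : Type u} [CommRing R] {m : ℕ} (Q : QuadraticForm R (Fin (2 * m + 1) → R))

theorem isStandardSmoothOfRelativeDimension_away
    (hQ : QuadGrp.IsSemiregular (Pi.basisFun R (Fin (2 * m + 1))) (LinearEquiv.refl R R) Q)
    (S : Type u) [CommRing S] [Algebra R S] [Algebra (A0 (cQ Q) (detRel R (2 * m + 1))) S]
    [IsScalarTower R (A0 (cQ Q) (detRel R (2 * m + 1))) S]
    (t : A0 (cQ Q) (detRel R (2 * m + 1))) [IsLocalization.Away t S]
    [Algebra.IsStandardSmooth R S] [Nontrivial S] :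
    Algebra.IsStandardSmoothOfRelativeDimension (m * (2 * m + 1)) R S := by
  rw [Algebra.IsStandardSmoothOfRelativeDimension.iff_of_isStandardSmooth]
  obtain ⟨𝔪, h𝔪⟩ := Ideal.exists_maximal S
  letI : Field (S ⧸ 𝔪) := Ideal.Quotient.field 𝔪
  haveI : Algebra.FinitePresentation R S := inferInstance
  rw [rank_eq_finrank_hom (Ω[S⁄R]) (S ⧸ 𝔪), finrank_hom_eq (cQ Q) S t (S ⧸ 𝔪),
    finrank_lieM Q hQ (S ⧸ 𝔪)]

theorem locally_relDim
    (hQ : QuadGrp.IsSemiregular (Pi.basisFun R (Fin (2 * m + 1))) (LinearEquiv.refl R R) Q) :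
    RingHom.Locally (RingHom.IsStandardSmoothOfRelativeDimension (m * (2 * m + 1)))
      (algebraMap R (A0 (cQ Q) (detRel R (2 * m + 1)))) := by
  haveI : Algebra.Smooth R (A0 (cQ Q) (detRel R (2 * m + 1))) :=
    smooth_A0'_of_odd Q ⟨m, rfl⟩ hQ
  obtain ⟨s, hs, h⟩ := Algebra.Smooth.exists_span_eq_top_isStandardSmooth R
    (A0 (cQ Q) (detRel R (2 * m + 1)))
  set s' : Set (A0 (cQ Q) (detRel R (2 * m + 1))) :=
    {t | t ∈ s ∧ Nontrivial (Localization.Away t)} with hs'
  have hspan : Ideal.span s' = ⊤ := by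
    by_contra hne
    obtain ⟨𝔫, h𝔫, hle⟩ := Ideal.exists_le_maximal _ hne
    have hex : ∃ t ∈ s, t ∉ 𝔫 := by
      by_contra hall
      push_neg at hall
      have : Ideal.span s ≤ 𝔫 := Ideal.span_le.mpr hall
      rw [hs] at this
      exact h𝔫.ne_top (top_le_iff.mp this)
    obtain ⟨t, hts, htn⟩ := hex
    have hnt : Nontrivial (Localization.Away t) := by
      by_contra hsub
      rw [not_nontrivial_iff_subsingleton] at hsub
      obtain ⟨k, hk⟩ := (IsLocalization.subsingleton_iff (M := Submonoid.powers t)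
        (S := Localization.Away t)).mp hsub
      have hk' : t ^ k = 0 := hk
      have : t ^ k ∈ 𝔫 := by rw [hk']; exact 𝔫.zero_mem
      exact htn (h𝔫.isPrime.mem_of_pow_mem k this)
    exact htn (hle (Ideal.subset_span ⟨hts, hnt⟩))
  refine ⟨s', hspan, fun t ht => ?_⟩
  haveI := h t ht.1
  haveI := ht.2
  rw [← IsScalarTower.algebraMap_eq R (A0 (cQ Q) (detRel R (2 * m + 1))) (Localization.Away t)]
  exact (RingHom.isStandardSmoothOfRelativeDimension_algebraMap (m * (2 * m + 1))).mpr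
    (isStandardSmoothOfRelativeDimension_away Q hQ (Localization.Away t) t)

end RelDim

section Scheme

variable {R : Type u} [CommRing R] {M : Type u} [AddCommGroup M] [Module R M]
  {S : ∀ (A : Type u) [CommRing A] [Algebra R A], Subgroup ((A ⊗[R] M) ≃ₗ[A] (A ⊗[R] M))}
  {G : Over (Spec (CommRingCat.of R))} [GrpObj G]

theorem relDim_iff_of_universal (D : QuadGrp.LinRep R M S G)
    (A₀ : Type u) [CommRing A₀] [Algebra R A₀] (g₀ : ↥(S A₀)) (hrep : IsUniversal S A₀ g₀)
    (N : ℕ) :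
    AlgebraicGeometry.SmoothOfRelativeDimension N G.hom ↔
      RingHom.Locally (RingHom.IsStandardSmoothOfRelativeDimension N) (algebraMap R A₀) := by
  haveI := isIso_universal_point D A₀ g₀ hrep
  have h1 : AlgebraicGeometry.SmoothOfRelativeDimension N G.hom ↔
      AlgebraicGeometry.SmoothOfRelativeDimension N
        (Spec.map (CommRingCat.ofHom (algebraMap R A₀))) := by
    rw [← universal_point_w D A₀ g₀]
    exact (MorphismProperty.cancel_left_of_respectsIso
      (@AlgebraicGeometry.SmoothOfRelativeDimension N)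
      ((D.pts A₀).symm g₀).left G.hom).symm
  rw [h1, HasRingHomProperty.Spec_iff (P := @AlgebraicGeometry.SmoothOfRelativeDimension N)]
  rfl

end Scheme

section SO

variable {R : Type u} [CommRing R] {m : ℕ} (Q : QuadraticForm R (Fin (2 * m + 1) → R))

theorem sorth_eq_sorth' (A : Type u) [CommRing A] [Algebra R A] :
    QuadGrp.sorth Q A = QuadGrp.sorth' Q A := by
  rcases subsingleton_or_nontrivial A with hA | hA
  · haveI : Subsingleton (A ⊗[R] (Fin (2 * m + 1) → R)) := Module.subsingleton A _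
    ext g
    have hg : g = 1 := by
      ext v
      exact Subsingleton.elim _ _
    rw [hg]
    exact ⟨fun _ => Subgroup.one_mem _, fun _ => Subgroup.one_mem _⟩
  · have hfr : Module.finrank A (A ⊗[R] (Fin (2 * m + 1) → R)) = 2 * m + 1 := by
      rw [Module.finrank_eq_card_basis (bas R (2 * m + 1) A), Fintype.card_fin]
    have hne : ¬ Even (Module.finrank A (A ⊗[R] (Fin (2 * m + 1) → R))) := by
      rw [hfr]
      exact Nat.not_even_two_mul_add_one m
    unfold QuadGrp.sorth QuadGrp.SO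
    rw [if_neg hne]
    ext g
    rw [mem_sorth'_iff, mem_orth_iff]
    show g ∈ QuadGrp.O (QuadGrp.baseChangeForm A Q) ⊓ (LinearEquiv.det).ker ↔ _
    rw [Subgroup.mem_inf, MonoidHom.mem_ker, ← Units.val_eq_one, LinearEquiv.coe_det,
      ← LinearMap.det_toMatrix (bas R (2 * m + 1) A), QuadGrp.mem_O]
    refine and_congr ?_ Iff.rfl
    exact isometry_iff_isAlt Q A g.toLinearMap

/-- an `SO`-binder of odd rank is an `SO′`-binder -/
theorem nonempty_sorth'Rep (G : Over (Spec (CommRingCat.of R))) [GrpObj G]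
    (D : QuadGrp.SOrthRep Q G) : Nonempty (QuadGrp.SOrth'Rep Q G) := by
  have h : (fun (A : Type u) [CommRing A] [Algebra R A] => QuadGrp.sorth Q A) =
      (fun (A : Type u) [CommRing A] [Algebra R A] => QuadGrp.sorth' Q A) := by
    funext A _ _
    exact sorth_eq_sorth' Q A
  exact ⟨cast (congrArg (fun S => QuadGrp.LinRep R (Fin (2 * m + 1) → R) S G) h) D⟩

theorem smoothOfRelativeDimension_SO
    (hQ : QuadGrp.IsSemiregular (Pi.basisFun R (Fin (2 * m + 1))) (LinearEquiv.refl R R) Q)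
    (G : Over (Spec (CommRingCat.of R))) [GrpObj G] (D : QuadGrp.SOrthRep Q G) :
    AlgebraicGeometry.SmoothOfRelativeDimension (m * (2 * m + 1)) G.hom := by
  obtain ⟨D'⟩ := nonempty_sorth'Rep Q G D
  rw [relDim_iff_of_universal D' _ (g0' Q) (isUniversal_sorth' Q)]
  exact locally_relDim Q hQ

end SO

end Groth.Agent.H9.SOD
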