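import Mathlib
import Groth.Agent.Lib.Helper9.Misc.SF3

/-! Weak Cartan–Dieudonné: over an algebraically closed field every isometry of a semiregular
quadratic form of odd rank is a product of reflections (helper9). -/

set_option autoImplicit false

open QuadraticMap Groth.Agent.H7.QG Groth.Agent.H9.QG Groth.Agent.H9.QO Groth.Agent.H9.SF

namespace Groth.Agent.H9.SOD

universe u v

section Refl

variable {K : Type u} [Field K] {M : Type v} [AddCommGroup M] [Module K M]

/-- the reflection in `u` -/
noncomputable def tau (Q : QuadraticForm K M) (u : M) : Module.End K M :=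
  LinearMap.id - (Q u)⁻¹ • (polarBilin Q u).smulRight u

theorem tau_apply (Q : QuadraticForm K M) (u v : M) :
    tau Q u v = v - ((Q u)⁻¹ * polar Q u v) • u := by
  simp [tau, LinearMap.smulRight_apply, smul_smul]

theorem tau_fix (Q : QuadraticForm K M) {u v : M} (h : polar Q u v = 0) : tau Q u v = v := by
  rw [tau_apply, h, mul_zero, zero_smul, sub_zero]

theorem tau_self (Q : QuadraticForm K M) {u : M} (hu : Q u ≠ 0) : tau Q u u = -u := by
  rw [tau_apply, polar_self]
  have h : (Q u)⁻¹ * (2 • Q u) = 2 := by
    rw [nsmul_eq_mul]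
    push_cast
    field_simp
  rw [h, two_smul]
  abel

theorem tau_Q (Q : QuadraticForm K M) {u : M} (hu : Q u ≠ 0) (v : M) :
    Q (tau Q u v) = Q v := by
  rw [tau_apply, sub_eq_add_neg, ← neg_smul, QuadraticMap.map_add Q, QuadraticMap.map_smul,
    polar_smul_right, polar_comm Q v u]
  simp only [smul_eq_mul]
  field_simp
  ring

theorem tau_tau (Q : QuadraticForm K M) {u : M} (hu : Q u ≠ 0) (v : M) :
    tau Q u (tau Q u v) = v := by
  rw [tau_apply Q u v, map_sub, map_smul, tau_self Q hu, tau_apply]
  simp

theorem tau_mul_self (Q : QuadraticForm K M) {u : M} (hu : Q u ≠ 0) :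
    tau Q u * tau Q u = 1 := by
  ext v
  exact tau_tau Q hu v

theorem Q_sub (Q : QuadraticForm K M) (a b : M) : Q (a - b) = Q a + Q b - polar Q a b := by
  rw [sub_eq_add_neg, QuadraticMap.map_add Q, QuadraticMap.map_neg, polar_neg_right]
  ring

/-- the reflection in `a - b` moves `a` to `b` when `Q a = Q b` -/
theorem tau_sub (Q : QuadraticForm K M) {a b : M} (hQ : Q a = Q b) (hne : Q (a - b) ≠ 0) :
    tau Q (a - b) a = b := by
  have hp : polar Q (a - b) a = Q (a - b) := by
    rw [polar_sub_left, polar_self, Q_sub, polar_comm Q b a, ← hQ]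
    simp only [nsmul_eq_mul]
    push_cast
    ring
  rw [tau_apply, hp, inv_mul_cancel₀ hne, one_smul]
  abel

theorem polar_isometry (Q : QuadraticForm K M) (g : Module.End K M)
    (hg : ∀ v, Q (g v) = Q v) (a b : M) : polar Q (g a) (g b) = polar Q a b := by
  unfold QuadraticMap.polar
  rw [← map_add, hg, hg, hg]

/-- the reflections -/
def reflSet (Q : QuadraticForm K M) : Set (Module.End K M) :=
  {h | ∃ u, Q u ≠ 0 ∧ h = tau Q u}

/-- the monoid generated by the reflections -/
def HR (Q : QuadraticForm K M) : Submonoid (Module.End K M) := Submonoid.closure (reflSet Q)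

theorem tau_mem (Q : QuadraticForm K M) {u : M} (hu : Q u ≠ 0) : tau Q u ∈ HR Q :=
  Submonoid.subset_closure ⟨u, hu, rfl⟩

theorem HR_isometry (Q : QuadraticForm K M) {h : Module.End K M} (hh : h ∈ HR Q) :
    ∀ v, Q (h v) = Q v := by
  induction hh using Submonoid.closure_induction with
  | mem x hx =>
    obtain ⟨u, hu, rfl⟩ := hx
    exact tau_Q Q hu
  | one => intro v; rfl
  | mul x y _ _ hx hy =>
    intro v
    rw [Module.End.mul_apply, hx, hy]

theorem HR_left_inv (Q : QuadraticForm K M) {h : Module.End K M} (hh : h ∈ HR Q) :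
    ∃ h' ∈ HR Q, h' * h = 1 := by
  induction hh using Submonoid.closure_induction with
  | mem x hx =>
    obtain ⟨u, hu, rfl⟩ := hx
    exact ⟨tau Q u, tau_mem Q hu, tau_mul_self Q hu⟩
  | one => exact ⟨1, Submonoid.one_mem _, one_mul 1⟩
  | mul x y _ _ hx hy =>
    obtain ⟨x', hx', hxx⟩ := hx
    obtain ⟨y', hy', hyy⟩ := hy
    refine ⟨y' * x', Submonoid.mul_mem _ hy' hx', ?_⟩
    calc y' * x' * (x * y) = y' * (x' * x) * y := by simp only [mul_assoc]
      _ = 1 := by rw [hxx, mul_one, hyy]

theorem HR_of_mul (Q : QuadraticForm K M) {h g : Module.End K M} (hh : h ∈ HR Q)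
    (hg : h * g ∈ HR Q) : g ∈ HR Q := by
  obtain ⟨h', hh', e⟩ := HR_left_inv Q hh
  have : g = h' * (h * g) := by rw [← mul_assoc, e, one_mul]
  rw [this]
  exact Submonoid.mul_mem _ hh' hg

/-- moving an isotropic vector to another by reflections -/
theorem exists_move_isotropic [Infinite K] (Q : QuadraticForm K M) (x x' y y' : M)
    (hx : Q x = 0) (hx' : Q x' = 0) (hy : polar Q x y ≠ 0) (hy' : polar Q x' y' ≠ 0) :
    ∃ h ∈ HR Q, h x' = x := by
  classical
  by_cases h0 : polar Q x' x = 0
  · -- find `z'` pairing nontrivially with both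
    obtain ⟨t, ht⟩ := Infinite.exists_notMem_finset
      ({-(polar Q x y) / polar Q x y', -(polar Q x' y) / polar Q x' y'} : Finset K)
    rw [Finset.mem_insert, Finset.mem_singleton, not_or] at ht
    obtain ⟨ht1, ht2⟩ := ht
    set z' : M := y + t • y' with hz'
    have hxz' : polar Q x z' ≠ 0 := by
      rw [hz', polar_add_right, polar_smul_right, smul_eq_mul]
      intro h
      by_cases h1 : polar Q x y' = 0
      · rw [h1, mul_zero, add_zero] at h
        exact hy h
      · apply ht1
        field_simp
        linear_combination h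
    have hx'z' : polar Q x' z' ≠ 0 := by
      rw [hz', polar_add_right, polar_smul_right, smul_eq_mul]
      intro h
      apply ht2
      field_simp
      linear_combination h
    set s : K := -(Q z') / polar Q x z' with hs
    set z : M := z' + s • x with hz
    have hQz : Q z = 0 := by
      rw [hz, QuadraticMap.map_add Q, QuadraticMap.map_smul, polar_smul_right, hx,
        polar_comm Q z' x, smul_eq_mul, smul_eq_mul, hs]
      field_simp
      ring
    have hxz : polar Q x z ≠ 0 := by
      rw [hz, polar_add_right, polar_smul_right, polar_self, hx]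
      simpa using hxz'
    have hx'z : polar Q x' z ≠ 0 := by
      rw [hz, polar_add_right, polar_smul_right, h0]
      simpa using hx'z'
    have hn1 : Q (x' - z) ≠ 0 := by
      rw [Q_sub, hx', hQz]
      simpa using hx'z
    have hn2 : Q (z - x) ≠ 0 := by
      rw [Q_sub, hx, hQz, polar_comm Q z x]
      simpa using hxz
    refine ⟨tau Q (z - x) * tau Q (x' - z),
      Submonoid.mul_mem _ (tau_mem Q hn2) (tau_mem Q hn1), ?_⟩
    rw [Module.End.mul_apply, tau_sub Q (hx'.trans hQz.symm) hn1, tau_sub Q (hQz.trans hx.symm) hn2]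
  · have hn : Q (x' - x) ≠ 0 := by
      rw [Q_sub, hx, hx']
      simpa using h0
    exact ⟨tau Q (x' - x), tau_mem Q hn, tau_sub Q (hx'.trans hx.symm) hn⟩

/-- fixing `e` and moving `y'` to `f` -/
theorem exists_fix_pair [Infinite K] (Q : QuadraticForm K M) (e f : M) (hef : polar Q e f = 1)
    (h0e : Q e = 0) (h0f : Q f = 0) (w₀ : M) (hw₀ : w₀ ∈ Nsub Q e f) (hqw : Q w₀ ≠ 0)
    (y' : M) (hy' : Q y' = 0) (hey : polar Q e y' = 1) :
    ∃ h ∈ HR Q, h e = e ∧ h y' = f := by
  classical
  obtain ⟨hw1, hw2⟩ := (mem_Nsub Q e f w₀).mp hw₀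
  by_cases hc : polar Q y' f = 0
  · obtain ⟨t, ht⟩ := Infinite.exists_notMem_finset
      ({0, polar Q y' w₀ / Q w₀} : Finset K)
    rw [Finset.mem_insert, Finset.mem_singleton, not_or] at ht
    obtain ⟨ht0, ht1⟩ := ht
    set c : K := -(t * t * Q w₀) with hcdef
    have hc0 : c ≠ 0 := by
      rw [hcdef]
      exact neg_ne_zero.mpr (mul_ne_zero (mul_ne_zero ht0 ht0) hqw)
    have hcp : c + t * polar Q y' w₀ ≠ 0 := by
      intro h
      apply ht1
      rw [eq_div_iff hqw]
      have h2 : t * (polar Q y' w₀ - t * Q w₀) = 0 := by rw [hcdef] at h; linear_combination h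
      rcases mul_eq_zero.mp h2 with h3 | h3
      · exact absurd h3 ht0
      · linear_combination -h3
    set y'' : M := c • e + (1 : K) • f + t • w₀ with hy''
    have hQy'' : Q y'' = 0 := by
      rw [hy'', Q_split Q e f hef h0e h0f c 1 (t • w₀) (Submodule.smul_mem _ _ hw₀),
        QuadraticMap.map_smul, smul_eq_mul, hcdef]
      ring
    have hey'' : polar Q e y'' = 1 := by
      rw [hy'', polar_add_right, polar_add_right, polar_smul_right, polar_smul_right,
        polar_smul_right, polar_self, h0e, hef, hw1]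
      simp
    have hfy'' : polar Q y'' f = c := by
      rw [hy'', polar_add_left, polar_add_left, polar_smul_left, polar_smul_left,
        polar_smul_left, polar_self, h0f, hef, polar_comm Q w₀ f, hw2]
      simp
    have hyy'' : polar Q y' y'' = c + t * polar Q y' w₀ := by
      rw [hy'', polar_add_right, polar_add_right, polar_smul_right, polar_smul_right,
        polar_smul_right, hc, polar_comm Q y' e, hey]
      simp
    have hn1 : Q (y' - y'') ≠ 0 := by
      rw [Q_sub, hy', hQy'', hyy'']
      intro h
      apply hcp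
      linear_combination -h
    have hn2 : Q (y'' - f) ≠ 0 := by
      rw [Q_sub, hQy'', h0f, hfy'']
      simpa using hc0
    have hf1 : polar Q (y' - y'') e = 0 := by
      rw [polar_sub_left, polar_comm Q y' e, polar_comm Q y'' e, hey, hey'', sub_self]
    have hf2 : polar Q (y'' - f) e = 0 := by
      rw [polar_sub_left, polar_comm Q y'' e, polar_comm Q f e, hey'', hef, sub_self]
    refine ⟨tau Q (y'' - f) * tau Q (y' - y''),
      Submonoid.mul_mem _ (tau_mem Q hn2) (tau_mem Q hn1), ?_, ?_⟩
    · rw [Module.End.mul_apply, tau_fix Q hf1, tau_fix Q hf2]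
    · rw [Module.End.mul_apply, tau_sub Q (hy'.trans hQy''.symm) hn1,
        tau_sub Q (hQy''.trans h0f.symm) hn2]
  · have hn : Q (y' - f) ≠ 0 := by
      rw [Q_sub, hy', h0f]
      simpa using hc
    have hf1 : polar Q (y' - f) e = 0 := by
      rw [polar_sub_left, polar_comm Q y' e, polar_comm Q f e, hey, hef, sub_self]
    exact ⟨tau Q (y' - f), tau_mem Q hn, tau_fix Q hf1, tau_sub Q (hy'.trans h0f.symm) hn⟩

end Refl

section Ext

variable {K : Type u} [Field K] {M : Type v} [AddCommGroup M] [Module K M]
variable {Q : QuadraticForm K M} {e f : M} {d' : K}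
variable (hef : polar Q e f = 1) (hd : (1 - 4 * Q e * Q f) * d' = 1)

include hef hd in
theorem projN_e : projN hef hd e = 0 := by
  apply Subtype.ext
  rw [projN_coe, Groth.Agent.H9.QG.proj_apply, alpha_e hef hd, beta_e hef hd]
  simp

include hef hd in
theorem projN_f : projN hef hd f = 0 := by
  apply Subtype.ext
  rw [projN_coe, Groth.Agent.H9.QG.proj_apply, alpha_f hef hd, beta_f hef hd]
  simp

/-- extension of an endomorphism of the complement by the identity on the plane -/
noncomputable def extE (h : Module.End K (Nsub Q e f)) : Module.End K M :=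
  (alpha Q e f d').smulRight e + (beta Q e f d').smulRight f +
    (Nsub Q e f).subtype ∘ₗ h ∘ₗ projN hef hd

theorem extE_apply (h : Module.End K (Nsub Q e f)) (v : M) :
    extE hef hd h v =
      alpha Q e f d' v • e + beta Q e f d' v • f + (h (projN hef hd v) : M) := by
  simp [extE]

theorem alpha_extE (h : Module.End K (Nsub Q e f)) (v : M) :
    alpha Q e f d' (extE hef hd h v) = alpha Q e f d' v := by
  rw [extE_apply, map_add, map_add, map_smul, map_smul, alpha_e hef hd, alpha_f hef hd,
    alpha_N (h (projN hef hd v)).2]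
  simp

theorem beta_extE (h : Module.End K (Nsub Q e f)) (v : M) :
    beta Q e f d' (extE hef hd h v) = beta Q e f d' v := by
  rw [extE_apply, map_add, map_add, map_smul, map_smul, beta_e hef hd, beta_f hef hd,
    beta_N (h (projN hef hd v)).2]
  simp

theorem projN_extE (h : Module.End K (Nsub Q e f)) (v : M) :
    projN hef hd (extE hef hd h v) = h (projN hef hd v) := by
  rw [extE_apply, map_add, map_add, map_smul, map_smul, projN_e hef hd, projN_f hef hd,
    projN_N]
  simp

/-- the extension as a monoid homomorphism -/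
noncomputable def extHom : Module.End K (Nsub Q e f) →* Module.End K M where
  toFun := extE hef hd
  map_one' := by
    ext v
    rw [extE_apply, Module.End.one_apply, Module.End.one_apply, projN_coe]
    exact (decomp v).symm
  map_mul' h₁ h₂ := by
    ext v
    rw [Module.End.mul_apply, extE_apply, extE_apply hef hd h₁, alpha_extE, beta_extE,
      projN_extE, Module.End.mul_apply]

theorem extHom_apply (h : Module.End K (Nsub Q e f)) : extHom hef hd h = extE hef hd h := rfl

theorem extE_tau (u : Nsub Q e f) :
    extE hef hd (tau (QN (Q := Q) (e := e) (f := f)) u) = tau Q (u : M) := by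
  ext v
  obtain ⟨hu1, hu2⟩ := (mem_Nsub Q e f (u : M)).mp u.2
  have hp : polar Q (u : M) (proj Q e f d' v) = polar Q (u : M) v := by
    rw [Groth.Agent.H9.QG.proj_apply, polar_sub_right, polar_sub_right, polar_smul_right,
      polar_smul_right, polar_comm Q (u : M) e, polar_comm Q (u : M) f, hu1, hu2]
    simp
  rw [extE_apply, tau_apply, tau_apply, QN_apply, polar_QN, projN_coe, hp]
  generalize (Q (u : M))⁻¹ * polar Q (u : M) v = s
  have hdec := decomp (Q := Q) (e := e) (f := f) (d' := d') v
  simp only [Submodule.coe_sub, Submodule.coe_smul, projN_coe]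
  rw [← add_sub_assoc, ← hdec]

theorem extHom_HR {h : Module.End K (Nsub Q e f)}
    (hh : h ∈ HR (QN (Q := Q) (e := e) (f := f))) : extE hef hd h ∈ HR Q := by
  have hle : HR (QN (Q := Q) (e := e) (f := f)) ≤ (HR Q).comap (extHom hef hd) := by
    refine Submonoid.closure_le.mpr ?_
    rintro _ ⟨u, hu, rfl⟩
    show extHom hef hd _ ∈ HR Q
    rw [extHom_apply, extE_tau]
    exact tau_mem Q (by rwa [QN_apply] at hu)
  exact hle hh

/-- an isometry fixing `e` and `f` is the extension of its restriction -/
theorem eq_extE (g : Module.End K M) (hg : ∀ v, Q (g v) = Q v) (he : g e = e) (hf : g f = f) :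
    ∃ gN : Module.End K (Nsub Q e f),
      (∀ x, QN (Q := Q) (e := e) (f := f) (gN x) = QN (Q := Q) (e := e) (f := f) x) ∧
        g = extE hef hd gN := by
  have hN : ∀ x ∈ Nsub Q e f, g x ∈ Nsub Q e f := by
    intro x hx
    rw [mem_Nsub] at hx ⊢
    constructor
    · have := polar_isometry Q g hg e x
      rw [he] at this
      rw [this, hx.1]
    · have := polar_isometry Q g hg f x
      rw [hf] at this
      rw [this, hx.2]
  refine ⟨g.restrict hN, fun x => ?_, ?_⟩
  · rw [QN_apply, QN_apply, LinearMap.restrict_coe_apply, hg]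
  · ext v
    rw [extE_apply, LinearMap.restrict_coe_apply, projN_coe]
    conv_lhs => rw [decomp (Q := Q) (e := e) (f := f) (d' := d') v]
    rw [map_add, map_add, map_smul, map_smul, he, hf]

end Ext

section Main

variable {K : Type u} [Field K] [IsAlgClosed K]

/-- weak Cartan–Dieudonné for semiregular forms of odd rank over an algebraically closed field -/
theorem cartan_dieudonne : ∀ (m : ℕ) (M : Type v) [AddCommGroup M] [Module K M]
    (Q : QuadraticForm K M) (n : ℕ) (_ : n = 2 * m + 1) (b : Module.Basis (Fin n) K M),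
    IsUnit (QuadGrp.halfDisc b (LinearEquiv.refl K K) Q) →
    ∀ g : Module.End K M, (∀ v, Q (g v) = Q v) → g ∈ HR Q := by
  intro m
  induction m with
  | zero =>
    intro M _ _ Q n hn b hb g hg
    subst hn
    rw [halfDisc_eq_hd, hd_one, QuadGrp.coeffs_mk, if_pos rfl, LinearEquiv.refl_apply] at hb
    have hc : Q (b 0) ≠ 0 := hb.ne_zero
    have hrep : g (b 0) = (b.repr (g (b 0)) 0) • b 0 := by
      conv_lhs => rw [← b.sum_repr (g (b 0))]
      rw [Fin.sum_univ_one]
    set x : K := b.repr (g (b 0)) 0 with hx
    have hxx : x * x = 1 := by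
      have h1 := hg (b 0)
      rw [hrep, QuadraticMap.map_smul, smul_eq_mul] at h1
      exact mul_right_cancel₀ hc (by rw [h1, one_mul])
    rcases mul_self_eq_one_iff.mp hxx with h1 | h1
    · have : g = 1 := by
        apply b.ext
        intro i
        rw [Fin.eq_zero i, hrep, h1, one_smul, Module.End.one_apply]
      rw [this]
      exact Submonoid.one_mem _
    · have : g = tau Q (b 0) := by
        apply b.ext
        intro i
        rw [Fin.eq_zero i, hrep, h1, tau_self Q hc, neg_smul, one_smul]
      rw [this]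
      exact tau_mem Q hc
  | succ m ih =>
    intro M _ _ Q n hn b hb g hg
    haveI : Module.Free K M := Module.Free.of_basis b
    haveI : Module.Finite K M := Module.Finite.of_basis b
    haveI : Infinite K := IsAlgClosed.instInfinite
    have hodd : Odd n := ⟨m + 1, by omega⟩
    obtain ⟨e0, f0, hef0, hu0⟩ := exists_plane_of_isSemiregular hodd (by omega) b Q hb
    obtain ⟨e, f, hef, h0e, h0f⟩ := exists_hyperbolic Q e0 f0 hef0 hu0
    have hd : (1 - 4 * Q e * Q f) * 1 = 1 := by rw [h0e, h0f]; ring
    haveI := finite_N hef hd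
    haveI := free_N hef hd
    have hrank := finrank_N hef hd
    have hM : Module.finrank K M = n := by
      rw [Module.finrank_eq_card_basis b, Fintype.card_fin]
    have hq : Module.finrank K (Nsub Q e f) = 2 * m + 1 := by omega
    have hb' := isUnit_halfDisc_QN hef hd hodd
      (by omega : n = 2 + Module.finrank K (Nsub Q e f)) b hb (Module.finBasis K (Nsub Q e f))
    -- an anisotropic vector in the complement
    obtain ⟨x₀, φ₀, hs⟩ := exists_oddSplit m (Nsub Q e f) QN _ hq (Module.finBasis K _) hb'
    have hw₀ : Q (x₀ : M) ≠ 0 := by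
      have := hs.unit.ne_zero
      rwa [QN_apply] at this
    -- step 1: move `g e` to `e`
    have hge : Q (g e) = 0 := by rw [hg, h0e]
    have hp1 : polar Q (g e) (g f) ≠ 0 := by
      rw [polar_isometry Q g hg, hef]
      exact one_ne_zero
    have hp0 : polar Q e f ≠ 0 := by rw [hef]; exact one_ne_zero
    obtain ⟨h₁, hh₁, h₁e⟩ := exists_move_isotropic Q e (g e) f (g f) h0e hge hp0 hp1
    have hg₁ : ∀ v, Q ((h₁ * g) v) = Q v := fun v => by
      rw [Module.End.mul_apply, HR_isometry Q hh₁, hg]
    have hg₁e : (h₁ * g) e = e := by rw [Module.End.mul_apply, h₁e]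
    -- step 2: move `g₁ f` to `f`, fixing `e`
    have hy' : Q ((h₁ * g) f) = 0 := by rw [hg₁, h0f]
    have hey : polar Q e ((h₁ * g) f) = 1 := by
      have := polar_isometry Q (h₁ * g) hg₁ e f
      rw [hg₁e] at this
      rw [this, hef]
    obtain ⟨h₂, hh₂, h₂e, h₂f⟩ := exists_fix_pair Q e f hef h0e h0f (x₀ : M) x₀.2 hw₀
      ((h₁ * g) f) hy' hey
    have hg₂ : ∀ v, Q ((h₂ * (h₁ * g)) v) = Q v := fun v => by
      rw [Module.End.mul_apply, HR_isometry Q hh₂, hg₁]
    have hg₂e : (h₂ * (h₁ * g)) e = e := by rw [Module.End.mul_apply, hg₁e, h₂e]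
    have hg₂f : (h₂ * (h₁ * g)) f = f := by rw [Module.End.mul_apply, h₂f]
    -- step 3: restrict to the complement
    obtain ⟨gN, hgN, hgeq⟩ := eq_extE hef hd (h₂ * (h₁ * g)) hg₂ hg₂e hg₂f
    have hgN' := ih (Nsub Q e f) QN _ hq (Module.finBasis K _) hb' gN hgN
    have h3 : h₂ * (h₁ * g) ∈ HR Q := by
      rw [hgeq]
      exact extHom_HR hef hd hgN'
    exact HR_of_mul Q hh₁ (HR_of_mul Q hh₂ h3)

end Main

end Groth.Agent.H9.SOD
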