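import Mathlib
import Groth.Agent.Lib.Helper9.Misc.SOD2

/-! Matrix reflections and a one-parameter family connecting a product of reflections to a
power of a fixed reflection (helper9). -/

set_option autoImplicit false

open Matrix Polynomial Groth.Agent.H9.SG Groth.Agent.H9.SO

namespace Groth.Agent.H9.SOD

universe u

section Tm

variable {A : Type*} [CommRing A] {n : ℕ}

/-- the quadratic form of a matrix -/
def qv (c : Matrix (Fin n) (Fin n) A) (u : Fin n → A) : A := u ⬝ᵥ (c *ᵥ u)

/-- its polar form -/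
def pv (c : Matrix (Fin n) (Fin n) A) (u v : Fin n → A) : A := u ⬝ᵥ (c *ᵥ v) + v ⬝ᵥ (c *ᵥ u)

/-- the matrix of the reflection in `u` (with `qi` the inverse of `qv c u`) -/
def Tm (c : Matrix (Fin n) (Fin n) A) (u : Fin n → A) (qi : A) : Matrix (Fin n) (Fin n) A :=
  1 - qi • vecMulVec u ((c + cᵀ) *ᵥ u)

theorem dot_symm_mulVec (c : Matrix (Fin n) (Fin n) A) (u v : Fin n → A) :
    ((c + cᵀ) *ᵥ u) ⬝ᵥ v = pv c u v := by
  rw [pv, add_mulVec, add_dotProduct, dotProduct_comm (c *ᵥ u) v, mulVec_transpose,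
    ← dotProduct_mulVec, add_comm]

theorem Tm_mulVec (c : Matrix (Fin n) (Fin n) A) (u : Fin n → A) (qi : A) (v : Fin n → A) :
    Tm c u qi *ᵥ v = v - (qi * pv c u v) • u := by
  rw [Tm, sub_mulVec, one_mulVec, smul_mulVec, vecMulVec_mulVec, dot_symm_mulVec, op_smul_eq_smul,
    smul_smul]

theorem qv_sub_smul (c : Matrix (Fin n) (Fin n) A) (u v : Fin n → A) (t : A) :
    qv c (v - t • u) = qv c v + t * t * qv c u - t * pv c u v := by
  simp only [qv, pv, mulVec_sub, mulVec_smul, sub_dotProduct, dotProduct_sub, smul_dotProduct,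
    dotProduct_smul, smul_eq_mul]
  ring

theorem pv_sub_smul (c : Matrix (Fin n) (Fin n) A) (u v : Fin n → A) (t : A) :
    pv c u (v - t • u) = pv c u v - t * (2 * qv c u) := by
  simp only [qv, pv, mulVec_sub, mulVec_smul, sub_dotProduct, dotProduct_sub, smul_dotProduct,
    dotProduct_smul, smul_eq_mul]
  ring

theorem pv_self (c : Matrix (Fin n) (Fin n) A) (u : Fin n → A) : pv c u u = 2 * qv c u := by
  rw [pv, qv]; ring

theorem Tm_isometry (c : Matrix (Fin n) (Fin n) A) (u : Fin n → A) (qi : A)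
    (hq : qv c u * qi = 1) (v : Fin n → A) : qv c (Tm c u qi *ᵥ v) = qv c v := by
  rw [Tm_mulVec, qv_sub_smul]
  linear_combination (qi * pv c u v * pv c u v) * hq

theorem Tm_mulVec_Tm (c : Matrix (Fin n) (Fin n) A) (u : Fin n → A) (qi : A)
    (hq : qv c u * qi = 1) (v : Fin n → A) : Tm c u qi *ᵥ (Tm c u qi *ᵥ v) = v := by
  rw [Tm_mulVec c u qi (Tm c u qi *ᵥ v), Tm_mulVec c u qi v, pv_sub_smul]
  ext i
  simp only [Pi.sub_apply, Pi.smul_apply, smul_eq_mul]
  linear_combination (2 * qi * pv c u v * u i) * hq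

theorem Tm_mul_self (c : Matrix (Fin n) (Fin n) A) (u : Fin n → A) (qi : A)
    (hq : qv c u * qi = 1) : Tm c u qi * Tm c u qi = 1 := by
  rw [Matrix.ext_iff_mulVec]
  intro v
  rw [← mulVec_mulVec, Tm_mulVec_Tm c u qi hq, one_mulVec]

theorem det_Tm (c : Matrix (Fin n) (Fin n) A) (u : Fin n → A) (qi : A)
    (hq : qv c u * qi = 1) : (Tm c u qi).det = -1 := by
  rw [Tm, sub_eq_add_neg, ← neg_smul, ← smul_vecMulVec, vecMulVec_eq (Fin 1),
    det_one_add_replicateCol_mul_replicateRow, dotProduct_smul, dot_symm_mulVec, pv_self]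
  simp only [smul_eq_mul]
  linear_combination (-2 : A) * hq

theorem map_qv {B : Type*} [CommRing B] (φ : A →+* B) (c : Matrix (Fin n) (Fin n) A)
    (u : Fin n → A) : φ (qv c u) = qv (φ.mapMatrix c) (φ ∘ u) := by
  simp [qv, dotProduct, mulVec, map_sum, map_mul]

theorem map_Tm {B : Type*} [CommRing B] (φ : A →+* B) (c : Matrix (Fin n) (Fin n) A)
    (u : Fin n → A) (qi : A) :
    φ.mapMatrix (Tm c u qi) = Tm (φ.mapMatrix c) (φ ∘ u) (φ qi) := by
  ext i j
  by_cases hij : i = j
  · subst hij
    simp [Tm, vecMulVec_apply, mulVec, dotProduct, map_sum, map_mul, map_add]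
  · simp [Tm, vecMulVec_apply, mulVec, dotProduct, map_sum, map_mul, map_add, hij]

theorem isAlt_defect_iff (c U : Matrix (Fin n) (Fin n) A) :
    IsAltMat (defect c U) ↔ ∀ v, qv c (U *ᵥ v) = qv c v := by
  rw [isAltMat_iff_dot]
  refine forall_congr' fun v => ?_
  rw [defect, sub_mulVec, dotProduct_sub, sub_eq_zero, ← mulVec_mulVec, ← mulVec_mulVec,
    dotProduct_mulVec, vecMul_transpose]
  rfl

theorem det_prod_Tm {L : Type*} [Field L] (c : Matrix (Fin n) (Fin n) L) :
    ∀ us : List (Fin n → L), (∀ u ∈ us, qv c u ≠ 0) →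
      ((us.map fun u => Tm c u (qv c u)⁻¹).prod).det = (-1) ^ us.length := by
  intro us
  induction us with
  | nil => intro _; simp
  | cons u us ih =>
    intro h
    rw [List.map_cons, List.prod_cons, det_mul, ih (fun x hx => h x (List.mem_cons_of_mem _ hx)),
      det_Tm c u _ (mul_inv_cancel₀ (h u List.mem_cons_self)), List.length_cons, pow_succ]
    ring

end Tm

section Family

variable {L : Type u} [Field L] {n : ℕ}

/-- the line from `w` to `u` -/
noncomputable def line (w u : Fin n → L) : Fin n → L[X] :=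
  fun a => C (w a) + X * C (u a - w a)

theorem eval_line (w u : Fin n → L) (a : L) (j : Fin n) :
    (line w u j).eval a = (w + a • (u - w)) j := by
  simp [line]

theorem exists_family {D' : Type u} [CommRing D'] (φ : L[X] →+* D')
    (c : Matrix (Fin n) (Fin n) L) (w : Fin n → L) :
    ∀ us : List (Fin n → L),
      (∀ u ∈ us, IsUnit (φ (qv ((C : L →+* L[X]).mapMatrix c) (line w u)))) →
    ∃ U V : Matrix (Fin n) (Fin n) D', U * V = 1 ∧ V * U = 1 ∧
      (∀ v, qv ((φ.comp C).mapMatrix c) (U *ᵥ v) = qv ((φ.comp C).mapMatrix c) v) ∧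
      U.det = (-1) ^ us.length ∧
      ∀ (ev : D' →+* L) (a : L), (∀ f, ev (φ f) = f.eval a) →
        ev.mapMatrix U =
          (us.map fun u => Tm c (w + a • (u - w)) (qv c (w + a • (u - w)))⁻¹).prod := by
  intro us
  induction us with
  | nil =>
    intro _
    refine ⟨1, 1, one_mul _, one_mul _, fun v => by rw [one_mulVec], by simp, ?_⟩
    intro ev a _
    simp
  | cons u us ih =>
    intro h
    obtain ⟨U, V, hUV, hVU, hiso, hdet, hev⟩ :=
      ih (fun x hx => h x (List.mem_cons_of_mem _ hx))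
    have hu := h u List.mem_cons_self
    set cD := (φ.comp C).mapMatrix c with hcD
    set qi : D' := ↑(hu.unit⁻¹) with hqi
    have hcc : φ.mapMatrix ((C : L →+* L[X]).mapMatrix c) = cD := by
      ext i j; rfl
    have hq : qv cD (φ ∘ line w u) * qi = 1 := by
      rw [← hcc, ← map_qv]
      exact hu.mul_val_inv
    set T := Tm cD (φ ∘ line w u) qi with hT
    have hTT : T * T = 1 := Tm_mul_self cD _ qi hq
    refine ⟨T * U, V * T, ?_, ?_, ?_, ?_, ?_⟩
    · calc T * U * (V * T) = T * (U * V) * T := by simp only [Matrix.mul_assoc]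
        _ = 1 := by rw [hUV, Matrix.mul_one, hTT]
    · calc V * T * (T * U) = V * (T * T) * U := by simp only [Matrix.mul_assoc]
        _ = 1 := by rw [hTT, Matrix.mul_one, hVU]
    · intro v
      rw [← mulVec_mulVec, hT, Tm_isometry cD _ qi hq, hiso]
    · rw [det_mul, hdet, hT, det_Tm cD _ qi hq, List.length_cons, pow_succ]
      ring
    · intro ev a hea
      have hc1 : ev.mapMatrix cD = c := by
        ext i j
        show ev (φ (C (c i j))) = c i j
        rw [hea, eval_C]
      have hl : ev ∘ (φ ∘ line w u) = w + a • (u - w) := by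
        funext j
        show ev (φ (line w u j)) = _
        rw [hea, eval_line]
      have hqe : qv c (w + a • (u - w)) * ev qi = 1 := by
        have := congrArg ev hq
        rwa [map_mul, map_one, map_qv, hc1, hl] at this
      rw [map_mul, hev ev a hea, hT, map_Tm, hc1, hl, List.map_cons, List.prod_cons,
        eq_inv_of_mul_eq_one_right hqe]

/-- the path: a domain `D` with two `L`-points and an isometry over `D` specialising to the
given product of reflections and to a power of the fixed reflection -/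
theorem exists_path (c : Matrix (Fin n) (Fin n) L) (w : Fin n → L) (hw : qv c w ≠ 0)
    (us : List (Fin n → L)) (hus : ∀ u ∈ us, qv c u ≠ 0) :
    ∃ (D : Type u) (_ : CommRing D) (_ : IsDomain D) (_ : Algebra L D) (ev₀ ev₁ : D →ₐ[L] L)
      (U V : Matrix (Fin n) (Fin n) D), U * V = 1 ∧ V * U = 1 ∧
      IsAltMat (defect ((algebraMap L D).mapMatrix c) U) ∧ U.det = (-1) ^ us.length ∧
      (ev₁ : D →+* L).mapMatrix U = (us.map fun u => Tm c u (qv c u)⁻¹).prod ∧
      (ev₀ : D →+* L).mapMatrix U = (Tm c w (qv c w)⁻¹) ^ us.length := by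
  classical
  set cP := (C : L →+* L[X]).mapMatrix c with hcP
  set p : L[X] := (us.map fun u => qv cP (line w u)).prod with hp
  have hevc : ∀ a : L, (evalRingHom a).mapMatrix cP = c := by
    intro a
    ext i j
    show (C (c i j)).eval a = c i j
    rw [eval_C]
  have hevq : ∀ (a : L) (u : Fin n → L),
      (qv cP (line w u)).eval a = qv c (w + a • (u - w)) := by
    intro a u
    have := map_qv (evalRingHom a) cP (line w u)
    rw [hevc] at this
    rw [← coe_evalRingHom, this]
    congr 1
    funext j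
    exact eval_line w u a j
  have hpe : ∀ a : L, (∀ u ∈ us, qv c (w + a • (u - w)) ≠ 0) → p.eval a ≠ 0 := by
    intro a ha
    rw [hp, ← coe_evalRingHom, map_list_prod, List.map_map]
    apply List.prod_ne_zero
    intro h0
    rw [List.mem_map] at h0
    obtain ⟨u, hu, h0⟩ := h0
    apply ha u hu
    rw [← hevq]
    exact h0
  have hp1 : p.eval 1 ≠ 0 := hpe 1 (fun u hu => by
    simpa using hus u hu)
  have hp0 : p.eval 0 ≠ 0 := hpe 0 (fun u _ => by
    simpa using hw)
  have hpne : p ≠ 0 := by
    intro h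
    rw [h, eval_zero] at hp1
    exact hp1 rfl
  let D := Localization.Away p
  haveI : IsDomain D := IsLocalization.isDomain_localization (M := Submonoid.powers p)
    (powers_le_nonZeroDivisors_of_noZeroDivisors hpne)
  set φ : L[X] →+* D := algebraMap L[X] D with hφ
  have hunits : ∀ u ∈ us, IsUnit (φ (qv cP (line w u))) := by
    intro u hu
    have hdvd : qv cP (line w u) ∣ p := by
      rw [hp]
      exact List.dvd_prod (List.mem_map.mpr ⟨u, hu, rfl⟩)
    exact isUnit_of_dvd_unit (map_dvd φ hdvd) (IsLocalization.Away.algebraMap_isUnit p)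
  obtain ⟨U, V, hUV, hVU, hiso, hdet, hev⟩ := exists_family φ c w us hunits
  have halg : algebraMap L D = φ.comp C := by
    ext l
    rw [IsScalarTower.algebraMap_apply L L[X] D, Polynomial.algebraMap_apply,
      Algebra.algebraMap_self_apply]
    rfl
  have mkEv : ∀ a : L, p.eval a ≠ 0 → ∃ ev : D →ₐ[L] L, ∀ f, ev (φ f) = f.eval a := by
    intro a ha
    have hg : IsUnit ((evalRingHom a) p) := by
      rw [coe_evalRingHom]
      exact isUnit_iff_ne_zero.mpr ha
    refine ⟨{ (IsLocalization.Away.lift p hg : D →+* L) with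
      commutes' := fun l => ?_ }, fun f => ?_⟩
    · show (IsLocalization.Away.lift p hg : D →+* L) (algebraMap L D l) = algebraMap L L l
      rw [halg, RingHom.comp_apply, hφ, IsLocalization.Away.lift_eq, coe_evalRingHom, eval_C]
      rfl
    · show (IsLocalization.Away.lift p hg : D →+* L) (algebraMap L[X] D f) = _
      rw [IsLocalization.Away.lift_eq, coe_evalRingHom]
  obtain ⟨ev₁, hev₁⟩ := mkEv 1 hp1
  obtain ⟨ev₀, hev₀⟩ := mkEv 0 hp0
  refine ⟨D, inferInstance, inferInstance, inferInstance, ev₀, ev₁, U, V, hUV, hVU, ?_, hdet,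
    ?_, ?_⟩
  · rw [halg, isAlt_defect_iff]
    exact hiso
  · have := hev (ev₁ : D →+* L) 1 hev₁
    simpa using this
  · have := hev (ev₀ : D →+* L) 0 hev₀
    simpa using this

end Family

end Groth.Agent.H9.SOD
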