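import Mathlib
import Groth.Agent.Lib.Helper9.Misc.SOD5
import Groth.Agent.Lib.Helper9.Misc.SOD6
import Groth.Agent.Lib.Helper9.Misc.SOD7

/-! Connectedness of the geometric fibres of `SO(q)` in odd rank: idempotents of
`K ⊗ A'` are trivial (helper9). -/

set_option autoImplicit false

open Matrix TensorProduct QuadraticMap
open Groth.Agent.H9.SG Groth.Agent.H9.SO Groth.Agent.H9.QO

namespace Groth.Agent.H9.SOD

universe u

section Bridge

variable {R : Type u} [CommRing R] {m : ℕ} (Q : QuadraticForm R (Fin (2 * m + 1) → R))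
variable (L : Type u) [Field L] [Algebra R L]

theorem betaA_eq_dot (v w : L ⊗[R] (Fin (2 * m + 1) → R)) :
    betaA Q L v w = ⇑((bas R (2 * m + 1) L).repr v) ⬝ᵥ
      (gr L (cQ Q) *ᵥ ⇑((bas R (2 * m + 1) L).repr w)) := by
  rw [← toMatrix₂_betaA]
  exact LinearMap.BilinForm.apply_eq_dotProduct_toMatrix_mulVec (bas R (2 * m + 1) L)
    (betaA Q L) v w

theorem QL_eq_qv (v : L ⊗[R] (Fin (2 * m + 1) → R)) :
    QuadGrp.baseChangeForm L Q v = qv (gr L (cQ Q)) ⇑((bas R (2 * m + 1) L).repr v) := by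
  have hq : QuadGrp.baseChangeForm L Q v = betaA Q L v v := rfl
  rw [hq, betaA_eq_dot, qv]

theorem polar_eq_pv (u v : L ⊗[R] (Fin (2 * m + 1) → R)) :
    polar (QuadGrp.baseChangeForm L Q) u v =
      pv (gr L (cQ Q)) ⇑((bas R (2 * m + 1) L).repr u) ⇑((bas R (2 * m + 1) L).repr v) := by
  rw [← betaA_add_swap, betaA_eq_dot, betaA_eq_dot, pv]

theorem toMatrix_tau (u : L ⊗[R] (Fin (2 * m + 1) → R)) :
    LinearMap.toMatrix (bas R (2 * m + 1) L) (bas R (2 * m + 1) L)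
        (tau (QuadGrp.baseChangeForm L Q) u) =
      Tm (gr L (cQ Q)) ⇑((bas R (2 * m + 1) L).repr u)
        (qv (gr L (cQ Q)) ⇑((bas R (2 * m + 1) L).repr u))⁻¹ := by
  rw [Matrix.ext_iff_mulVec]
  intro x
  obtain ⟨v, rfl⟩ := (bas R (2 * m + 1) L).equivFun.surjective x
  show _ *ᵥ ⇑((bas R (2 * m + 1) L).repr v) = _ *ᵥ ⇑((bas R (2 * m + 1) L).repr v)
  rw [LinearMap.toMatrix_mulVec_repr, Tm_mulVec, tau_apply, map_sub, map_smul, ← polar_eq_pv,
    ← QL_eq_qv]
  rfl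

theorem exists_refl_list [IsAlgClosed L]
    (hQ : QuadGrp.IsSemiregular (Pi.basisFun R (Fin (2 * m + 1))) (LinearEquiv.refl R R) Q)
    (U : Matrix (Fin (2 * m + 1)) (Fin (2 * m + 1)) L)
    (halt : IsAltMat (defect (gr L (cQ Q)) U)) :
    ∃ us : List (Fin (2 * m + 1) → L), (∀ u ∈ us, qv (gr L (cQ Q)) u ≠ 0) ∧
      U = (us.map fun u => Tm (gr L (cQ Q)) u (qv (gr L (cQ Q)) u)⁻¹).prod := by
  set b := bas R (2 * m + 1) L with hb
  set g : Module.End L (L ⊗[R] (Fin (2 * m + 1) → R)) := Matrix.toLin b b U with hg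
  have hgU : LinearMap.toMatrix b b g = U := LinearMap.toMatrix_toLin b b U
  have hiso : ∀ v, QuadGrp.baseChangeForm L Q (g v) = QuadGrp.baseChangeForm L Q v :=
    (isometry_iff_isAlt Q L g).mpr (by rw [hgU]; exact halt)
  have hQL : IsUnit (QuadGrp.halfDisc b (LinearEquiv.refl L L) (QuadGrp.baseChangeForm L Q)) :=
    isSemiregular_baseChange L (Pi.basisFun R (Fin (2 * m + 1))) Q hQ
  have hmem : g ∈ HR (QuadGrp.baseChangeForm L Q) :=
    cartan_dieudonne m (L ⊗[R] (Fin (2 * m + 1) → R)) (QuadGrp.baseChangeForm L Q)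
      (2 * m + 1) rfl b hQL g hiso
  have key : ∀ h ∈ HR (QuadGrp.baseChangeForm L Q),
      ∃ us : List (Fin (2 * m + 1) → L), (∀ u ∈ us, qv (gr L (cQ Q)) u ≠ 0) ∧
        LinearMap.toMatrix b b h =
          (us.map fun u => Tm (gr L (cQ Q)) u (qv (gr L (cQ Q)) u)⁻¹).prod := by
    intro h hh
    change h ∈ Submonoid.closure (reflSet (QuadGrp.baseChangeForm L Q)) at hh
    induction hh using Submonoid.closure_induction with
    | mem x hx =>
      obtain ⟨u, hu, rfl⟩ := hx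
      refine ⟨[⇑(b.repr u)], ?_, ?_⟩
      · intro u' hu'
        rw [List.mem_singleton] at hu'
        subst hu'
        rw [← QL_eq_qv]
        exact hu
      · rw [toMatrix_tau, List.map_singleton, List.prod_singleton]
    | one =>
      exact ⟨[], by simp, by simp [LinearMap.toMatrix_one]⟩
    | mul x y _ _ hx hy =>
      obtain ⟨us₁, h1, e1⟩ := hx
      obtain ⟨us₂, h2, e2⟩ := hy
      refine ⟨us₁ ++ us₂, ?_, ?_⟩
      · intro u hu
        rcases List.mem_append.mp hu with h | h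
        exacts [h1 u h, h2 u h]
      · rw [LinearMap.toMatrix_mul, e1, e2, List.map_append, List.prod_append]
  obtain ⟨us, h1, h2⟩ := key g hmem
  exact ⟨us, h1, hgU ▸ h2⟩

theorem exists_base
    (hQ : QuadGrp.IsSemiregular (Pi.basisFun R (Fin (2 * m + 1))) (LinearEquiv.refl R R) Q) :
    ∃ w : Fin (2 * m + 1) → L, qv (gr L (cQ Q)) w ≠ 0 ∧
      ((2 : L) = 0 → Tm (gr L (cQ Q)) w (qv (gr L (cQ Q)) w)⁻¹ = 1) := by
  set b := bas R (2 * m + 1) L with hb
  have hQL : IsUnit (QuadGrp.halfDisc b (LinearEquiv.refl L L) (QuadGrp.baseChangeForm L Q)) :=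
    isSemiregular_baseChange L (Pi.basisFun R (Fin (2 * m + 1))) Q hQ
  obtain ⟨x₀, φ₀, hs⟩ := exists_oddSplit m (L ⊗[R] (Fin (2 * m + 1) → R))
    (QuadGrp.baseChangeForm L Q) (2 * m + 1) rfl b hQL
  refine ⟨⇑(b.repr x₀), ?_, ?_⟩
  · rw [← QL_eq_qv]
    exact hs.unit.ne_zero
  · intro h2
    rw [← toMatrix_tau]
    have h1 : tau (QuadGrp.baseChangeForm L Q) x₀ = 1 := by
      refine LinearMap.ext fun v => ?_
      rw [Module.End.one_apply]
      apply tau_fix
      have hv := decompK hs.one v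
      rw [hv, polar_add_right, hs.orth _ (LinearMap.mem_ker.mp (projK hs.one v).2),
        polar_smul_right, polar_self, two_nsmul, ← two_mul, h2]
      simp
    rw [h1, LinearMap.toMatrix_one]

end Bridge

section Idem

variable {R : Type u} [CommRing R] {m : ℕ} (Q : QuadraticForm R (Fin (2 * m + 1) → R))
variable (K : Type u) [Field K] [Algebra R K]

theorem tensor_ringHom_ext {A C : Type*} [CommRing A] [Algebra R A] [CommRing C]
    (F G : K ⊗[R] A →+* C) (h1 : ∀ k : K, F (k ⊗ₜ[R] (1 : A)) = G (k ⊗ₜ[R] (1 : A)))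
    (h2 : ∀ a : A, F ((1 : K) ⊗ₜ[R] a) = G ((1 : K) ⊗ₜ[R] a)) : F = G := by
  refine RingHom.ext fun x => ?_
  induction x using TensorProduct.induction_on with
  | zero => rw [map_zero, map_zero]
  | tmul k a =>
    have : k ⊗ₜ[R] a = (k ⊗ₜ[R] (1 : A)) * ((1 : K) ⊗ₜ[R] a) := by
      rw [Algebra.TensorProduct.tmul_mul_tmul, mul_one, one_mul]
    rw [this, map_mul, map_mul, h1, h2]
  | add x y hx hy => rw [map_add, map_add, hx, hy]

theorem exists_point_idem
    (L : Type u) [Field L] [IsAlgClosed L] [Algebra K L] [Algebra R L] [IsScalarTower R K L]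
    (hQ : QuadGrp.IsSemiregular (Pi.basisFun R (Fin (2 * m + 1))) (LinearEquiv.refl R R) Q) :
    ∃ y₁ : K ⊗[R] A0 (cQ Q) (detRel R (2 * m + 1)) →ₐ[K] L,
      ∀ e, IsIdempotentElem e →
        ∀ y : K ⊗[R] A0 (cQ Q) (detRel R (2 * m + 1)) →ₐ[K] L, y e = y₁ e := by
  classical
  -- the identity point
  obtain ⟨ψ₁, hψ₁, -⟩ := exists_hom (cQ Q) (detRel R (2 * m + 1))
    (1 : Matrix (Fin (2 * m + 1)) (Fin (2 * m + 1)) L) 1 (one_mul 1) (one_mul 1)
    (by
      have : defect (gr L (cQ Q)) (1 : Matrix (Fin (2 * m + 1)) (Fin (2 * m + 1)) L) = 0 := by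
        rw [defect, transpose_one, Matrix.one_mul, Matrix.mul_one, sub_self]
      rw [this]
      exact IsAltMat.zero')
    (hextra_of_det 1 1 det_one)
  let y₁ : K ⊗[R] A0 (cQ Q) (detRel R (2 * m + 1)) →ₐ[K] L :=
    Algebra.TensorProduct.lift (Algebra.ofId K L) ψ₁ (fun _ _ => Commute.all _ _)
  have hyk : ∀ (y' : K ⊗[R] A0 (cQ Q) (detRel R (2 * m + 1)) →ₐ[K] L) (k : K),
      y' (k ⊗ₜ[R] 1) = algebraMap K L k := by
    intro y' k
    have : (k ⊗ₜ[R] (1 : A0 (cQ Q) (detRel R (2 * m + 1)))) =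
        algebraMap K (K ⊗[R] A0 (cQ Q) (detRel R (2 * m + 1))) k := by
      rw [Algebra.TensorProduct.algebraMap_apply]
      rfl
    rw [this, AlgHom.commutes]
  refine ⟨y₁, fun e he y => ?_⟩
  -- the point `y` as a matrix
  let ψ : A0 (cQ Q) (detRel R (2 * m + 1)) →ₐ[R] L :=
    (y.restrictScalars R).comp Algebra.TensorProduct.includeRight
  set Uy := (ψ : A0 (cQ Q) (detRel R (2 * m + 1)) →+* L).mapMatrix
    (Xb (cQ Q) (detRel R (2 * m + 1))) with hUy
  have halt : IsAltMat (defect (gr L (cQ Q)) Uy) := isAlt_of_algHom ψ (cQ Q) (isAlt_Xb (cQ Q) _)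
  have hdet : Uy.det = 1 := by
    rw [hUy, ← RingHom.map_det, det_Xb, map_one]
  obtain ⟨us, hus, hU⟩ := exists_refl_list Q L hQ Uy halt
  have hk : ((-1 : L)) ^ us.length = 1 := by
    rw [← det_prod_Tm (gr L (cQ Q)) us hus, ← hU, hdet]
  obtain ⟨w, hw, hw2⟩ := exists_base Q L hQ
  obtain ⟨D, iC, iD, iA, ev₀, ev₁, U, V, hUV, hVU, haltD, hdetD, hev1, hev0⟩ :=
    exists_path (gr L (cQ Q)) w hw us hus
  letI : Algebra R D := ((algebraMap L D).comp (algebraMap R L)).toAlgebra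
  haveI : IsScalarTower R L D := IsScalarTower.of_algebraMap_eq fun _ => rfl
  have haltD' : IsAltMat (defect (gr D (cQ Q)) U) := by
    rw [← gr_tower L D (cQ Q)]
    exact haltD
  have hdetD' : U.det = 1 := by
    have h3 : ((-1 : D)) ^ us.length = algebraMap L D ((-1) ^ us.length) := by
      rw [map_pow, map_neg, map_one]
    rw [hdetD, h3, hk, map_one]
  obtain ⟨γ, hγ, -⟩ := exists_hom (cQ Q) (detRel R (2 * m + 1)) U V hUV hVU haltD'
    (hextra_of_det U V hdetD')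
  let fK : K →ₐ[R] D := (IsScalarTower.toAlgHom R L D).comp (IsScalarTower.toAlgHom R K L)
  let z : K ⊗[R] A0 (cQ Q) (detRel R (2 * m + 1)) →ₐ[R] D :=
    Algebra.TensorProduct.productMap fK γ
  have hz : z e = 0 ∨ z e = 1 := IsIdempotentElem.iff_eq_zero_or_one.mp (he.map z)
  have hzk : ∀ k : K, z (k ⊗ₜ[R] 1) = algebraMap L D (algebraMap K L k) := by
    intro k
    simp [z, fK]
  have hza : ∀ a, z (1 ⊗ₜ[R] a) = γ a := by
    intro a
    simp [z]
  -- the power of the base reflection is trivial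
  have hT : (Tm (gr L (cQ Q)) w (qv (gr L (cQ Q)) w)⁻¹) ^ us.length = 1 := by
    rcases Nat.even_or_odd us.length with hev | hodd
    · obtain ⟨j, hj⟩ := hev
      rw [hj, ← two_mul, pow_mul, pow_two,
        Tm_mul_self _ _ _ (mul_inv_cancel₀ hw), one_pow]
    · rw [hodd.neg_one_pow] at hk
      have h2 : (2 : L) = 0 := by linear_combination (-1 : L) * hk
      rw [hw2 h2, one_pow]
  -- comparison of the two specialisations
  have hcmp : ∀ (ev : D →ₐ[L] L) (y' : K ⊗[R] A0 (cQ Q) (detRel R (2 * m + 1)) →ₐ[K] L)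
      (ψ' : A0 (cQ Q) (detRel R (2 * m + 1)) →ₐ[R] L),
      (∀ a, y' (1 ⊗ₜ[R] a) = ψ' a) →
      (ev : D →+* L).mapMatrix U =
        (ψ' : A0 (cQ Q) (detRel R (2 * m + 1)) →+* L).mapMatrix
          (Xb (cQ Q) (detRel R (2 * m + 1))) →
      y' e = ev (z e) := by
    intro ev y' ψ' hy' hmat
    have hγψ : (ev.restrictScalars R).comp γ = ψ' := by
      apply hom_ext_Xb (cQ Q) (detRel R (2 * m + 1))
      have e1 : (((ev.restrictScalars R).comp γ :
          A0 (cQ Q) (detRel R (2 * m + 1)) →ₐ[R] L) :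
          A0 (cQ Q) (detRel R (2 * m + 1)) →+* L).mapMatrix (Xb (cQ Q) (detRel R (2 * m + 1))) =
          (ev : D →+* L).mapMatrix ((γ : A0 (cQ Q) (detRel R (2 * m + 1)) →+* D).mapMatrix
            (Xb (cQ Q) (detRel R (2 * m + 1)))) := by
        ext i j
        rfl
      rw [e1, hγ, hmat]
    have hFG : ((ev : D →+* L).comp (z : K ⊗[R] A0 (cQ Q) (detRel R (2 * m + 1)) →+* D)) =
        (y' : K ⊗[R] A0 (cQ Q) (detRel R (2 * m + 1)) →+* L) := by
      apply tensor_ringHom_ext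
      · intro k
        show ev (z (k ⊗ₜ[R] 1)) = y' (k ⊗ₜ[R] 1)
        rw [hzk, hyk, AlgHom.commutes]
        rfl
      · intro a
        show ev (z (1 ⊗ₜ[R] a)) = y' (1 ⊗ₜ[R] a)
        rw [hza, hy']
        exact AlgHom.congr_fun hγψ a
    exact (RingHom.congr_fun hFG e).symm
  have e1 : y e = ev₁ (z e) := by
    refine hcmp ev₁ y ψ (fun a => rfl) ?_
    rw [hev1, ← hU]
  have e0 : y₁ e = ev₀ (z e) := by
    refine hcmp ev₀ y₁ ψ₁ (fun a => ?_) ?_
    · simp [y₁]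
    · rw [hev0, hT, hψ₁]
  rw [e1, e0]
  rcases hz with h | h
  · rw [h, map_zero, map_zero]
  · rw [h, map_one, map_one]

theorem idem_trivial
    (L : Type u) [Field L] [IsAlgClosed L] [Algebra K L] [Algebra R L] [IsScalarTower R K L]
    (hQ : QuadGrp.IsSemiregular (Pi.basisFun R (Fin (2 * m + 1))) (LinearEquiv.refl R R) Q) :
    Nontrivial (K ⊗[R] A0 (cQ Q) (detRel R (2 * m + 1))) ∧
      ∀ e : K ⊗[R] A0 (cQ Q) (detRel R (2 * m + 1)), IsIdempotentElem e → e = 0 ∨ e = 1 := by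
  obtain ⟨y₁, hy⟩ := exists_point_idem Q K L hQ
  haveI : Nontrivial (K ⊗[R] A0 (cQ Q) (detRel R (2 * m + 1))) :=
    (y₁ : K ⊗[R] A0 (cQ Q) (detRel R (2 * m + 1)) →+* L).domain_nontrivial
  refine ⟨inferInstance, ?_⟩
  have key : ∀ e' : K ⊗[R] A0 (cQ Q) (detRel R (2 * m + 1)), IsIdempotentElem e' →
      y₁ e' = 0 → e' = 0 := by
    intro e' he' h0
    have hu : IsUnit (1 - e') := by
      by_contra hnu
      obtain ⟨𝔪, hmax, hmem⟩ := exists_max_ideal_of_mem_nonunits (mem_nonunits_iff.mpr hnu)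
      haveI := hmax
      letI : Field ((K ⊗[R] A0 (cQ Q) (detRel R (2 * m + 1))) ⧸ 𝔪) := Ideal.Quotient.field 𝔪
      haveI : Algebra.FinitePresentation R (A0 (cQ Q) (detRel R (2 * m + 1))) :=
        finitePresentation_A0 (cQ Q) _ detRel_finite
      haveI : Algebra.FiniteType R (A0 (cQ Q) (detRel R (2 * m + 1))) :=
        Algebra.FiniteType.of_finitePresentation
      haveI : Algebra.FiniteType K ((K ⊗[R] A0 (cQ Q) (detRel R (2 * m + 1))) ⧸ 𝔪) :=
        Algebra.FiniteType.of_surjective (Ideal.Quotient.mkₐ K 𝔪)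
          (Ideal.Quotient.mkₐ_surjective K 𝔪)
      haveI : Module.Finite K ((K ⊗[R] A0 (cQ Q) (detRel R (2 * m + 1))) ⧸ 𝔪) :=
        finite_of_finite_type_of_isJacobsonRing K _
      haveI : Algebra.IsAlgebraic K ((K ⊗[R] A0 (cQ Q) (detRel R (2 * m + 1))) ⧸ 𝔪) :=
        Algebra.IsAlgebraic.of_finite K _
      let lft : ((K ⊗[R] A0 (cQ Q) (detRel R (2 * m + 1))) ⧸ 𝔪) →ₐ[K] L := IsAlgClosed.lift
      let y : K ⊗[R] A0 (cQ Q) (detRel R (2 * m + 1)) →ₐ[K] L :=
        lft.comp (Ideal.Quotient.mkₐ K 𝔪)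
      have hye : y e' = 0 := by rw [hy e' he' y, h0]
      have hmk : Ideal.Quotient.mk 𝔪 e' = 0 := by
        have h3 : lft (Ideal.Quotient.mk 𝔪 e') = 0 := hye
        exact (map_eq_zero_iff _ (RingHom.injective (lft : _ →+* L))).mp h3
      have he'm : e' ∈ 𝔪 := Ideal.Quotient.eq_zero_iff_mem.mp hmk
      have h1m : (1 : K ⊗[R] A0 (cQ Q) (detRel R (2 * m + 1))) ∈ 𝔪 := by
        have := 𝔪.add_mem hmem he'm
        rwa [sub_add_cancel] at this
      exact hmax.ne_top ((Ideal.eq_top_iff_one 𝔪).mpr h1m)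
    have h1 : (1 - e') * (1 - e') = (1 - e') * 1 := by
      rw [mul_one]
      exact he'.one_sub
    have h2 := hu.mul_left_cancel h1
    exact sub_eq_self.mp h2
  intro e he
  have hL : y₁ e = 0 ∨ y₁ e = 1 := IsIdempotentElem.iff_eq_zero_or_one.mp (he.map y₁)
  rcases hL with h | h
  · exact Or.inl (key e he h)
  · right
    have := key (1 - e) he.one_sub (by rw [map_sub, map_one, h, sub_self])
    exact (sub_eq_zero.mp this).symm

end Idem

section Conn

variable {R : Type u} [CommRing R] {m : ℕ} (Q : QuadraticForm R (Fin (2 * m + 1) → R))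

theorem connectedSpace_fiber_alg
    (hQ : QuadGrp.IsSemiregular (Pi.basisFun R (Fin (2 * m + 1))) (LinearEquiv.refl R R) Q)
    (K : Type u) [Field K] [Algebra R K] :
    ConnectedSpace (PrimeSpectrum (K ⊗[R] A0 (cQ Q) (detRel R (2 * m + 1)))) := by
  obtain ⟨hnt, hid⟩ := idem_trivial Q K (AlgebraicClosure K) hQ
  haveI := hnt
  haveI : PreconnectedSpace (PrimeSpectrum (K ⊗[R] A0 (cQ Q) (detRel R (2 * m + 1)))) := by
    rw [preconnectedSpace_iff_clopen]
    intro s hs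
    obtain ⟨e, he, rfl⟩ := PrimeSpectrum.isClopen_iff.mp hs
    rcases hid e he with rfl | rfl
    · left; simp
    · right; simp
  exact { toNonempty := inferInstance }

end Conn

end Groth.Agent.H9.SOD
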