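import Mathlib
import Groth.Agent.Lib.Helper9.Misc.SOD8

/-! Connected fibres of `SO(q)` in odd rank: the scheme-level statement (helper9). -/

set_option autoImplicit false

open Matrix TensorProduct CategoryTheory AlgebraicGeometry MonObj
open Groth.Agent.H9.SG Groth.Agent.H9.SO Groth.Agent.H9.QO

namespace Groth.Agent.H9.SOD

universe u

section Scheme

variable {R : Type u} [CommRing R] {m : ℕ} (Q : QuadraticForm R (Fin (2 * m + 1) → R))

theorem connectedSpace_fiber_SO
    (hQ : QuadGrp.IsSemiregular (Pi.basisFun R (Fin (2 * m + 1))) (LinearEquiv.refl R R) Q)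
    (G : Over (Spec (CommRingCat.of R))) [GrpObj G] (D : QuadGrp.SOrthRep Q G)
    (s : ↥(Spec (CommRingCat.of R))) : ConnectedSpace ↥(G.hom.fiber s) := by
  obtain ⟨D'⟩ := nonempty_sorth'Rep Q G D
  let i : Spec (CommRingCat.of (A0 (cQ Q) (detRel R (2 * m + 1)))) ⟶ G.left :=
    ((D'.pts (A0 (cQ Q) (detRel R (2 * m + 1)))).symm (g0' Q)).left
  haveI : IsIso i := isIso_universal_point D' (A0 (cQ Q) (detRel R (2 * m + 1))) (g0' Q)
    (isUniversal_sorth' Q)
  have hw : i ≫ G.hom = Spec.map (CommRingCat.ofHom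
      (algebraMap R (A0 (cQ Q) (detRel R (2 * m + 1))))) :=
    universal_point_w D' (A0 (cQ Q) (detRel R (2 * m + 1))) (g0' Q)
  let p : PrimeSpectrum R := s
  haveI : ConnectedSpace (PrimeSpectrum (p.asIdeal.Fiber (A0 (cQ Q) (detRel R (2 * m + 1))))) :=
    connectedSpace_fiber_alg Q hQ p.asIdeal.ResidueField
  let h := PrimeSpectrum.preimageHomeomorphFiber R (A0 (cQ Q) (detRel R (2 * m + 1))) p
  have hcomap : ∀ x' : PrimeSpectrum (A0 (cQ Q) (detRel R (2 * m + 1))),
      G.hom (i (x' : ↥(Spec (CommRingCat.of (A0 (cQ Q) (detRel R (2 * m + 1))))))) =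
        PrimeSpectrum.comap (algebraMap R (A0 (cQ Q) (detRel R (2 * m + 1)))) x' := by
    intro x'
    rw [← Scheme.Hom.comp_apply, hw]
    rfl
  have hmem : ∀ x : PrimeSpectrum (p.asIdeal.Fiber (A0 (cQ Q) (detRel R (2 * m + 1)))),
      i ((h.symm x).1 : ↥(Spec (CommRingCat.of (A0 (cQ Q) (detRel R (2 * m + 1)))))) ∈
        G.hom ⁻¹' {s} := by
    intro x
    rw [Set.mem_preimage, Set.mem_singleton_iff, hcomap]
    exact (h.symm x).2
  let Φ : PrimeSpectrum (p.asIdeal.Fiber (A0 (cQ Q) (detRel R (2 * m + 1)))) →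
      ↥(G.hom ⁻¹' {s}) := fun x => ⟨_, hmem x⟩
  have hΦc : Continuous Φ :=
    Continuous.subtype_mk
      (i.continuous.comp (continuous_subtype_val.comp h.symm.continuous)) _
  have hΦs : Function.Surjective Φ := by
    rintro ⟨g, hg⟩
    obtain ⟨x', rfl⟩ := i.homeomorph.surjective g
    have hx' : PrimeSpectrum.comap (algebraMap R (A0 (cQ Q) (detRel R (2 * m + 1))))
        (x' : PrimeSpectrum (A0 (cQ Q) (detRel R (2 * m + 1)))) = p := by
      rw [← hcomap]
      exact hg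
    refine ⟨h ⟨x', hx'⟩, ?_⟩
    apply Subtype.ext
    show i ((h.symm (h ⟨x', hx'⟩)).1 : ↥(Spec (CommRingCat.of (A0 (cQ Q) (detRel R (2 * m + 1))))))
      = _
    rw [Homeomorph.symm_apply_apply]
    rfl
  haveI : ConnectedSpace ↥(G.hom ⁻¹' {s}) := hΦs.connectedSpace hΦc
  exact (G.hom.fiberHomeo s).symm.surjective.connectedSpace (G.hom.fiberHomeo s).symm.continuous

/-- `SO(q)` in odd rank: smooth of relative dimension `m(2m+1)` with connected fibres -/
theorem SO_odd_main
    (hQ : QuadGrp.IsSemiregular (Pi.basisFun R (Fin (2 * m + 1))) (LinearEquiv.refl R R) Q)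
    (G : Over (Spec (CommRingCat.of R))) [GrpObj G] (D : QuadGrp.SOrthRep Q G) :
    AlgebraicGeometry.SmoothOfRelativeDimension (m * (2 * m + 1)) G.hom ∧
      ∀ s : ↥(Spec (CommRingCat.of R)), ConnectedSpace ↥(G.hom.fiber s) :=
  ⟨smoothOfRelativeDimension_SO Q hQ G D, fun s => connectedSpace_fiber_SO Q hQ G D s⟩

end Scheme

end Groth.Agent.H9.SOD
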