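import Mathlib
import Groth.Agent.Lib.Helper9.Misc.SOD8
import Groth.Agent.Lib.Helper9.Misc.QG10

/-! The orthogonal group scheme of a regular form: matrices of reflections, Lie algebra,
tangent spaces and relative dimension (helper9). -/

set_option autoImplicit false

open Matrix TensorProduct MvPolynomial KaehlerDifferential TrivSqZeroExt QuadraticMap
open CategoryTheory AlgebraicGeometry
open Groth.Agent.H9.SG Groth.Agent.H9.SO Groth.Agent.H9.SOD Groth.Agent.H9.QG

namespace Groth.Agent.H9.SOE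

universe u

section RingBridge

variable {R : Type u} [CommRing R] {n : ℕ} (Q : QuadraticForm R (Fin n → R))
variable (A : Type u) [CommRing A] [Algebra R A]

theorem betaA_add_swap' (a b : A ⊗[R] (Fin n → R)) :
    betaA Q A a b + betaA Q A b a = polar (QuadGrp.baseChangeForm A Q) a b := by
  have hq : ∀ x, QuadGrp.baseChangeForm A Q x = betaA Q A x x := fun x => rfl
  unfold QuadraticMap.polar
  rw [hq, hq, hq]
  simp only [map_add, LinearMap.add_apply]
  ring

theorem betaA_eq_dot' (v w : A ⊗[R] (Fin n → R)) :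
    betaA Q A v w = ⇑((bas R n A).repr v) ⬝ᵥ (gr A (cQ Q) *ᵥ ⇑((bas R n A).repr w)) := by
  rw [← toMatrix₂_betaA]
  exact LinearMap.BilinForm.apply_eq_dotProduct_toMatrix_mulVec (bas R n A) (betaA Q A) v w

theorem Qbc_eq_qv (v : A ⊗[R] (Fin n → R)) :
    QuadGrp.baseChangeForm A Q v = qv (gr A (cQ Q)) ⇑((bas R n A).repr v) := by
  have hq : QuadGrp.baseChangeForm A Q v = betaA Q A v v := rfl
  rw [hq, betaA_eq_dot', qv]

theorem polar_eq_pv' (u v : A ⊗[R] (Fin n → R)) :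
    polar (QuadGrp.baseChangeForm A Q) u v =
      pv (gr A (cQ Q)) ⇑((bas R n A).repr u) ⇑((bas R n A).repr v) := by
  rw [← betaA_add_swap', betaA_eq_dot', betaA_eq_dot', pv]

theorem toMatrix_reflQ (x₀ : A ⊗[R] (Fin n → R)) (u : Aˣ)
    (hu : QuadGrp.baseChangeForm A Q x₀ = u) :
    LinearMap.toMatrix (bas R n A) (bas R n A)
        (reflQ (QuadGrp.baseChangeForm A Q) x₀ u hu).toLinearMap =
      Tm (gr A (cQ Q)) ⇑((bas R n A).repr x₀) (↑u⁻¹ : A) := by
  rw [Matrix.ext_iff_mulVec]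
  intro x
  obtain ⟨v, rfl⟩ := (bas R n A).equivFun.surjective x
  show _ *ᵥ ⇑((bas R n A).repr v) = _ *ᵥ ⇑((bas R n A).repr v)
  rw [LinearMap.toMatrix_mulVec_repr, Tm_mulVec, LinearEquiv.coe_coe, reflQ_apply, map_sub,
    map_smul, ← polar_eq_pv']
  rfl

end RingBridge

section LieO

variable {κ : Type*} [Field κ] {n : ℕ}

/-- the Lie algebra of the orthogonal group, in matrices -/
def lieO (c : Matrix (Fin n) (Fin n) κ) : Submodule κ (Matrix (Fin n) (Fin n) κ) where
  carrier := {Y | IsAltMat (Yᵀ * c + c * Y)}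
  add_mem' := by
    rintro Y Y' h1 h3
    have e : (Y + Y')ᵀ * c + c * (Y + Y') = (Yᵀ * c + c * Y) + (Y'ᵀ * c + c * Y') := by
      rw [Matrix.transpose_add, Matrix.add_mul, Matrix.mul_add]
      abel
    show IsAltMat _
    rw [e]
    exact IsAltMat.add' h1 h3
  zero_mem' := by
    show IsAltMat _
    rw [Matrix.transpose_zero, Matrix.zero_mul, Matrix.mul_zero, add_zero]
    exact IsAltMat.zero'
  smul_mem' := by
    rintro r Y h1
    have e : (r • Y)ᵀ * c + c * (r • Y) = r • (Yᵀ * c + c * Y) := by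
      rw [Matrix.transpose_smul, Matrix.smul_mul, Matrix.mul_smul, smul_add]
    show IsAltMat _
    rw [e]
    exact IsAltMat.smul' h1 r

theorem mem_lieO (c Y : Matrix (Fin n) (Fin n) κ) :
    Y ∈ lieO c ↔ IsAltMat (Yᵀ * c + c * Y) := Iff.rfl

theorem mem_lieO_iff (c Y : Matrix (Fin n) (Fin n) κ) :
    Y ∈ lieO c ↔ IsAltMat ((c + cᵀ) * Y) := by
  rw [mem_lieO, isAltMat_iff_dot, isAltMat_iff_dot]
  refine forall_congr' fun v => ?_
  have h1 : v ⬝ᵥ ((Yᵀ * c + c * Y) *ᵥ v) =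
      (Y *ᵥ v) ⬝ᵥ (c *ᵥ v) + v ⬝ᵥ (c *ᵥ (Y *ᵥ v)) := by
    rw [add_mulVec, dotProduct_add, ← mulVec_mulVec, ← mulVec_mulVec, dotProduct_mulVec v Yᵀ,
      vecMul_transpose]
  have h2 : v ⬝ᵥ (((c + cᵀ) * Y) *ᵥ v) =
      v ⬝ᵥ (c *ᵥ (Y *ᵥ v)) + (Y *ᵥ v) ⬝ᵥ (c *ᵥ v) := by
    rw [Matrix.add_mul, add_mulVec, dotProduct_add, ← mulVec_mulVec, ← mulVec_mulVec,
      dotProduct_mulVec v cᵀ, vecMul_transpose, dotProduct_comm (c *ᵥ v)]
  rw [h1, h2, add_comm]

theorem finrank_lieO (c Binv : Matrix (Fin n) (Fin n) κ) (h1 : (c + cᵀ) * Binv = 1)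
    (h2 : Binv * (c + cᵀ) = 1) : Module.finrank κ (lieO c) = n * (n - 1) / 2 := by
  let e : Matrix (Fin n) (Fin n) κ ≃ₗ[κ] Matrix (Fin n) (Fin n) κ :=
    LinearEquiv.ofLinear (LinearMap.mulLeft κ (c + cᵀ)) (LinearMap.mulLeft κ Binv)
      (LinearMap.ext fun Y => by
        show (c + cᵀ) * (Binv * Y) = Y
        rw [← Matrix.mul_assoc, h1, Matrix.one_mul])
      (LinearMap.ext fun Y => by
        show Binv * ((c + cᵀ) * Y) = Y
        rw [← Matrix.mul_assoc, h2, Matrix.one_mul])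
  have hmap : (lieO c).map (e : Matrix (Fin n) (Fin n) κ →ₗ[κ] Matrix (Fin n) (Fin n) κ) =
      altM κ n := by
    ext X
    constructor
    · rintro ⟨Y, hY, rfl⟩
      exact (mem_lieO_iff c Y).mp hY
    · intro hX
      refine ⟨Binv * X, ?_, ?_⟩
      · apply (mem_lieO_iff c _).mpr
        rw [← Matrix.mul_assoc, h1, Matrix.one_mul]
        exact hX
      · show (c + cᵀ) * (Binv * X) = X
        rw [← Matrix.mul_assoc, h1, Matrix.one_mul]
  rw [← finrank_altM κ n, ← hmap, LinearEquiv.finrank_map_eq]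

/-- tangent vectors at a point of the orthogonal group -/
theorem dual_point_iff_O (c g Y : Matrix (Fin n) (Fin n) κ) (halt : IsAltMat (defect c g)) :
    IsAltMat (defect (mI c) (mI g * (1 + mR Y))) ↔ IsAltMat (Yᵀ * c + c * Y) := by
  rw [defect_dual, isAlt_mI_add_mR halt]
  have e : Yᵀ * (gᵀ * c * g) + gᵀ * c * g * Y =
      (Yᵀ * c + c * Y) + (Yᵀ * defect c g + defect c g * Y) := by
    rw [defect]
    noncomm_ring
  rw [e, isAlt_add_iff (IsAltMat.sandwich halt Y)]

end LieO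

section Tangent

variable {R : Type u} [CommRing R] {n : ℕ} (c : Matrix (Fin n) (Fin n) R)
variable (S : Type u) [CommRing S] [Algebra R S] [Algebra (A0 c ∅) S]
  [IsScalarTower R (A0 c ∅) S] (t : A0 c ∅) [IsLocalization.Away t S]
variable (κ : Type u) [Field κ] [Algebra S κ] [Algebra R κ] [IsScalarTower R S κ]

/-- the `κ`-point of the orthogonal group given by `S → κ` -/
noncomputable def rho : A0 c ∅ →ₐ[R] κ :=
  (IsScalarTower.toAlgHom R S κ).comp (IsScalarTower.toAlgHom R (A0 c ∅) S)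

theorem rho_apply (a : A0 c ∅) :
    rho c S κ a = algebraMap S κ (algebraMap (A0 c ∅) S a) := rfl

/-- the matrix of the point -/
noncomputable def gM : Matrix (Fin n) (Fin n) κ :=
  (rho c S κ : A0 c ∅ →+* κ).mapMatrix (Xb c ∅)

/-- the inverse matrix of the point -/
noncomputable def giM : Matrix (Fin n) (Fin n) κ :=
  (rho c S κ : A0 c ∅ →+* κ).mapMatrix (Yb c ∅)

theorem gM_mul_giM : gM c S κ * giM c S κ = 1 := by
  rw [gM, giM, ← map_mul, Xb_mul_Yb, map_one]

theorem giM_mul_gM : giM c S κ * gM c S κ = 1 := by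
  rw [gM, giM, ← map_mul, Yb_mul_Xb, map_one]

theorem isAlt_gM : IsAltMat (defect (gr κ c) (gM c S κ)) :=
  isAlt_of_algHom (rho c S κ) c (isAlt_Xb c ∅)

/-- the matrix of values of a tangent vector on the coordinate functions -/
noncomputable def rawM (f : Ω[S⁄R] →ₗ[S] κ) : Matrix (Fin n) (Fin n) κ :=
  Matrix.of fun i j => f (D R S (algebraMap (A0 c ∅) S (Xb c ∅ i j)))

theorem rawM_apply (f : Ω[S⁄R] →ₗ[S] κ) (i j : Fin n) :
    rawM c S κ f i j = f (D R S (algebraMap (A0 c ∅) S (Xb c ∅ i j))) := rfl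

/-- the comparison map from the tangent space to matrices, translated to the identity -/
noncomputable def Psi : (Ω[S⁄R] →ₗ[S] κ) →ₗ[κ] Matrix (Fin n) (Fin n) κ where
  toFun f := giM c S κ * rawM c S κ f
  map_add' f f' := by
    rw [← Matrix.mul_add]
    congr 1
  map_smul' r f := by
    rw [RingHom.id_apply, ← Matrix.mul_smul]
    congr 1

theorem Psi_apply (f : Ω[S⁄R] →ₗ[S] κ) : Psi c S κ f = giM c S κ * rawM c S κ f := rfl

/-- the point with values in the dual numbers of a tangent vector -/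
noncomputable def pointOf (f : Ω[S⁄R] →ₗ[S] κ) : A0 c ∅ →ₐ[R] TrivSqZeroExt κ κ :=
  (tsHom (f.compDer (D R S))).comp (IsScalarTower.toAlgHom R (A0 c ∅) S)

theorem pointOf_apply (f : Ω[S⁄R] →ₗ[S] κ) (a : A0 c ∅) :
    pointOf c S κ f a = inl (rho c S κ a) +
      inr (f (D R S (algebraMap (A0 c ∅) S a))) := rfl

theorem pointOf_Xb (f : Ω[S⁄R] →ₗ[S] κ) :
    (pointOf c S κ f : A0 c ∅ →+* TrivSqZeroExt κ κ).mapMatrix (Xb c ∅) =
      mI (gM c S κ) * (1 + mR (Psi c S κ f)) := by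
  rw [Matrix.mul_add, Matrix.mul_one, mI_mul_mR, Psi_apply, ← Matrix.mul_assoc, gM_mul_giM,
    Matrix.one_mul]
  ext i j
  · rfl
  · rfl

theorem Psi_mem (f : Ω[S⁄R] →ₗ[S] κ) : Psi c S κ f ∈ lieO (gr κ c) := by
  have h1 := isAlt_of_algHom (pointOf c S κ f) c (isAlt_Xb c ∅)
  rw [pointOf_Xb, gr_dual] at h1
  exact (dual_point_iff_O (gr κ c) (gM c S κ) (Psi c S κ f) (isAlt_gM c S κ)).mp h1

include t in
theorem Psi_injective : Function.Injective (Psi c S κ) := by
  rw [injective_iff_map_eq_zero]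
  intro f hf
  have h1 : pointOf c S κ f = (inlAlgHom R κ κ).comp (rho c S κ) := by
    apply hom_ext_Xb
    rw [pointOf_Xb, hf]
    have h0 : mR (0 : Matrix (Fin n) (Fin n) κ) = 0 := by
      ext i j <;> simp [mR_apply]
    rw [h0, add_zero, Matrix.mul_one]
    rfl
  have h2 : ∀ a : A0 c ∅, f (D R S (algebraMap (A0 c ∅) S a)) = 0 := by
    intro a
    have := congrArg TrivSqZeroExt.snd (AlgHom.congr_fun h1 a)
    rw [pointOf_apply] at this
    simpa using this
  apply LinearMap.ext_on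
    (KaehlerDifferential.span_range_map_derivation_of_isLocalization R
      (S := A0 c ∅) S (Submonoid.powers t))
  rintro _ ⟨a, rfl⟩
  rw [Function.comp_apply, KaehlerDifferential.map_D, h2, LinearMap.zero_apply]

include t in
theorem Psi_surjective_onto {Y : Matrix (Fin n) (Fin n) κ} (hY : Y ∈ lieO (gr κ c)) :
    ∃ f, Psi c S κ f = Y := by
  have hU1 := (dual_point_iff_O (gr κ c) (gM c S κ) Y (isAlt_gM c S κ)).mpr hY
  rw [← gr_dual] at hU1
  set U : Matrix (Fin n) (Fin n) (TrivSqZeroExt κ κ) := mI (gM c S κ) * (1 + mR Y) with hU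
  set V : Matrix (Fin n) (Fin n) (TrivSqZeroExt κ κ) := (1 - mR Y) * mI (giM c S κ) with hV
  obtain ⟨e1, e2⟩ := one_add_mul_one_sub (epsI_sq (κ := κ)) (matIn_mR Y)
  have hUV : U * V = 1 := by
    rw [hU, hV]
    calc mI (gM c S κ) * (1 + mR Y) * ((1 - mR Y) * mI (giM c S κ))
        = mI (gM c S κ) * ((1 + mR Y) * (1 - mR Y)) * mI (giM c S κ) := by
          simp only [Matrix.mul_assoc]
      _ = 1 := by rw [e1, Matrix.mul_one, ← mI_mul, gM_mul_giM, mI_one]
  have hVU : V * U = 1 := by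
    rw [hU, hV]
    calc (1 - mR Y) * mI (giM c S κ) * (mI (gM c S κ) * (1 + mR Y))
        = (1 - mR Y) * (mI (giM c S κ) * mI (gM c S κ)) * (1 + mR Y) := by
          simp only [Matrix.mul_assoc]
      _ = 1 := by rw [← mI_mul, giM_mul_gM, mI_one, Matrix.mul_one, e2]
  obtain ⟨ψ₀, hψX, -⟩ := exists_hom c ∅ U V hUV hVU hU1 (by simp)
  have hfst : (fstHom R κ κ).comp ψ₀ = rho c S κ := by
    apply hom_ext_Xb
    have : (((fstHom R κ κ).comp ψ₀ : A0 c ∅ →ₐ[R] κ) : A0 c ∅ →+* κ).mapMatrix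
        (Xb c ∅) =
        ((fstHom R κ κ : TrivSqZeroExt κ κ →ₐ[R] κ) : TrivSqZeroExt κ κ →+* κ).mapMatrix
          ((ψ₀ : A0 c ∅ →+* TrivSqZeroExt κ κ).mapMatrix (Xb c ∅)) := by
      ext i j
      rfl
    rw [this, hψX, hU, fstMap_dual]
    rfl
  have hfst' : ∀ a, (ψ₀ a).fst = rho c S κ a := fun a => AlgHom.congr_fun hfst a
  have hunit : IsUnit ((ψ₀ : A0 c ∅ →+* TrivSqZeroExt κ κ) t) := by
    rw [isUnit_iff_isUnit_fst]
    show IsUnit (ψ₀ t).fst
    rw [hfst', rho_apply]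
    exact (IsLocalization.Away.algebraMap_isUnit (S := S) t).map (algebraMap S κ)
  set ψr : S →+* TrivSqZeroExt κ κ := IsLocalization.Away.lift t hunit with hψr
  have hψr_eq : ∀ a, ψr (algebraMap (A0 c ∅) S a) = ψ₀ a := fun a =>
    IsLocalization.Away.lift_eq t hunit a
  let ψ : S →ₐ[R] TrivSqZeroExt κ κ :=
    { ψr with
      commutes' := fun r => by
        show ψr (algebraMap R S r) = _
        rw [IsScalarTower.algebraMap_apply R (A0 c ∅) S, hψr_eq]
        exact ψ₀.commutes r }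
  have hψ : ∀ s, (ψ s).fst = algebraMap S κ s := by
    have : ((fstHom R κ κ : TrivSqZeroExt κ κ →ₐ[R] κ) : TrivSqZeroExt κ κ →+* κ).comp ψr =
        algebraMap S κ := by
      apply IsLocalization.ringHom_ext (Submonoid.powers t)
      ext a
      show (ψr (algebraMap (A0 c ∅) S a)).fst = _
      rw [hψr_eq, hfst']
      rfl
    intro s
    exact RingHom.congr_fun this s
  refine ⟨(derOfHom ψ hψ).liftKaehlerDifferential, ?_⟩
  have hraw : rawM c S κ (derOfHom ψ hψ).liftKaehlerDifferential = gM c S κ * Y := by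
    ext i j
    rw [rawM_apply, Derivation.liftKaehlerDifferential_comp_D, derOfHom_apply]
    show (ψr (algebraMap (A0 c ∅) S (Xb c ∅ i j))).snd = _
    rw [hψr_eq]
    have : ψ₀ (Xb c ∅ i j) = U i j := by
      rw [← hψX]
      rfl
    rw [this, hU, sndMap_dual]
  rw [Psi_apply, hraw, ← Matrix.mul_assoc, giM_mul_gM, Matrix.one_mul]

include t in
/-- the tangent space at a point of the orthogonal group is a translate of the Lie algebra -/
theorem finrank_hom_eq :
    Module.finrank κ (Ω[S⁄R] →ₗ[S] κ) = Module.finrank κ (lieO (gr κ c)) := by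
  have hr : LinearMap.range (Psi c S κ) = lieO (gr κ c) := by
    ext Y
    constructor
    · rintro ⟨f, rfl⟩
      exact Psi_mem c S κ f
    · intro hY
      exact Psi_surjective_onto c S t κ hY
  rw [← hr, LinearMap.finrank_range_of_inj (Psi_injective c S t κ)]

end Tangent

section RelDim

variable {R : Type u} [CommRing R] {m : ℕ} (Q : QuadraticForm R (Fin (2 * m) → R))

theorem finrank_lieO_gr (hQ : QuadGrp.IsRegular Q) (κ : Type u) [Field κ] [Algebra R κ] :
    Module.finrank κ (lieO (gr κ (cQ Q))) = m * (2 * m - 1) := by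
  obtain ⟨Binv, h1, h2⟩ : ∃ Binv : Matrix (Fin (2 * m)) (Fin (2 * m)) R,
      (cQ Q + (cQ Q)ᵀ) * Binv = 1 ∧ Binv * (cQ Q + (cQ Q)ᵀ) = 1 := by
    have hu := isUnit_det_of_isRegular Q hQ
    have hu' := (Matrix.isUnit_iff_isUnit_det _).mpr hu
    obtain ⟨⟨B, Bi, e1, e2⟩, rfl⟩ := hu'
    exact ⟨Bi, e1, e2⟩
  have hgr : gr κ (cQ Q) + (gr κ (cQ Q))ᵀ = (algebraMap R κ).mapMatrix (cQ Q + (cQ Q)ᵀ) := by
    ext i j
    simp [gr_apply]
  have e1 : (gr κ (cQ Q) + (gr κ (cQ Q))ᵀ) * (algebraMap R κ).mapMatrix Binv = 1 := by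
    rw [hgr, ← map_mul, h1, map_one]
  have e2 : (algebraMap R κ).mapMatrix Binv * (gr κ (cQ Q) + (gr κ (cQ Q))ᵀ) = 1 := by
    rw [hgr, ← map_mul, h2, map_one]
  rw [finrank_lieO (gr κ (cQ Q)) _ e1 e2]
  have : 2 * m * (2 * m - 1) = 2 * (m * (2 * m - 1)) := by ring
  rw [this, Nat.mul_div_cancel_left _ (by norm_num : 0 < 2)]

theorem isStandardSmoothOfRelativeDimension_away (hQ : QuadGrp.IsRegular Q)
    (S : Type u) [CommRing S] [Algebra R S] [Algebra (A0 (cQ Q) ∅) S]
    [IsScalarTower R (A0 (cQ Q) ∅) S]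
    (t : A0 (cQ Q) ∅) [IsLocalization.Away t S]
    [Algebra.IsStandardSmooth R S] [Nontrivial S] :
    Algebra.IsStandardSmoothOfRelativeDimension (m * (2 * m - 1)) R S := by
  rw [Algebra.IsStandardSmoothOfRelativeDimension.iff_of_isStandardSmooth]
  obtain ⟨𝔪, h𝔪⟩ := Ideal.exists_maximal S
  letI : Field (S ⧸ 𝔪) := Ideal.Quotient.field 𝔪
  haveI : Algebra.FinitePresentation R S := inferInstance
  rw [rank_eq_finrank_hom (Ω[S⁄R]) (S ⧸ 𝔪), finrank_hom_eq (cQ Q) S t (S ⧸ 𝔪),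
    finrank_lieO_gr Q hQ (S ⧸ 𝔪)]

theorem locally_relDim_O (hQ : QuadGrp.IsRegular Q) :
    RingHom.Locally (RingHom.IsStandardSmoothOfRelativeDimension (m * (2 * m - 1)))
      (algebraMap R (A0 (cQ Q) ∅)) := by
  haveI : Algebra.Smooth R (A0 (cQ Q) ∅) := smooth_A0 _ (isUnit_det_of_isRegular Q hQ)
  obtain ⟨s, hs, h⟩ := Algebra.Smooth.exists_span_eq_top_isStandardSmooth R (A0 (cQ Q) ∅)
  set s' : Set (A0 (cQ Q) ∅) := {t | t ∈ s ∧ Nontrivial (Localization.Away t)} with hs'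
  have hspan : Ideal.span s' = ⊤ := by
    by_contra hne
    obtain ⟨𝔫, h𝔫, hle⟩ := Ideal.exists_le_maximal _ hne
    have hex : ∃ t ∈ s, t ∉ 𝔫 := by
      by_contra hall
      push_neg at hall
      have : Ideal.span s ≤ 𝔫 := Ideal.span_le.mpr hall
      rw [hs] at this
      exact h𝔫.ne_top (top_le_iff.mp this)
    obtain ⟨t, hts, htn⟩ := hex
    have hnt : Nontrivial (Localization.Away t) := by
      by_contra hsub
      rw [not_nontrivial_iff_subsingleton] at hsub
      obtain ⟨k, hk⟩ := (IsLocalization.subsingleton_iff (M := Submonoid.powers t)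
        (S := Localization.Away t)).mp hsub
      have hk' : t ^ k = 0 := hk
      have : t ^ k ∈ 𝔫 := by rw [hk']; exact 𝔫.zero_mem
      exact htn (h𝔫.isPrime.mem_of_pow_mem k this)
    exact htn (hle (Ideal.subset_span ⟨hts, hnt⟩))
  refine ⟨s', hspan, fun t ht => ?_⟩
  haveI := h t ht.1
  haveI := ht.2
  rw [← IsScalarTower.algebraMap_eq R (A0 (cQ Q) ∅) (Localization.Away t)]
  exact (RingHom.isStandardSmoothOfRelativeDimension_algebraMap (m * (2 * m - 1))).mpr
    (isStandardSmoothOfRelativeDimension_away Q hQ (Localization.Away t) t)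

/-- the orthogonal group of a regular form of rank `2m` is smooth of relative dimension
`m(2m-1)` -/
theorem smoothOfRelativeDimension_O (hQ : QuadGrp.IsRegular Q) :
    AlgebraicGeometry.SmoothOfRelativeDimension (m * (2 * m - 1))
      (Spec.map (CommRingCat.ofHom (algebraMap R (A0 (cQ Q) ∅)))) := by
  rw [HasRingHomProperty.Spec_iff (P := @AlgebraicGeometry.SmoothOfRelativeDimension
    (m * (2 * m - 1)))]
  exact locally_relDim_O Q hQ

end RelDim

end Groth.Agent.H9.SOE
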