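import Mathlib
import Groth.Agent.Lib.Helper9.Misc.SOE1
import Groth.Agent.Lib.Helper9.Misc.QG12
import Groth.Agent.Lib.Helper9.Misc.CR1

/-! Functoriality of the Dickson condition (helper9). -/

set_option autoImplicit false

open Matrix TensorProduct QuadraticMap CliffordAlgebra
open Groth.Agent.H9.SG Groth.Agent.H9.SO Groth.Agent.H9.SOD Groth.Agent.H9.QG Groth.Agent.H9.CR

namespace Groth.Agent.H9.SOE

universe u

section GT

variable {A : Type*} [CommRing A] {N₁ N₂ : Type*} [AddCommGroup N₁] [Module A N₁]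
  [AddCommGroup N₂] [Module A N₂]

/-- the Dickson condition is transported by an isometric isomorphism -/
theorem dt_of_equiv (q₁ : QuadraticForm A N₁) (q₂ : QuadraticForm A N₂) (θ : N₁ ≃ₗ[A] N₂)
    (hθ : ∀ x, q₂ (θ x) = q₁ x) (g₁ : N₁ ≃ₗ[A] N₁) (hg₁ : g₁ ∈ QuadGrp.O q₁)
    (g₂ : N₂ ≃ₗ[A] N₂) (hg₂ : g₂ ∈ QuadGrp.O q₂) (hc : ∀ x, θ (g₁ x) = g₂ (θ x))
    (h : QuadGrp.IsDicksonTrivial q₂ g₂ hg₂) : QuadGrp.IsDicksonTrivial q₁ g₁ hg₁ := by
  let Θ : q₁ →qᵢ q₂ := { θ.toLinearMap with map_app' := hθ }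
  let Θ' : q₂ →qᵢ q₁ := { θ.symm.toLinearMap with
    map_app' := fun y => by
      have := hθ (θ.symm y)
      rw [LinearEquiv.apply_symm_apply] at this
      exact this.symm }
  have hΘ : ∀ x, Θ x = θ x := fun _ => rfl
  have hΘ' : ∀ y, Θ' y = θ.symm y := fun _ => rfl
  have hcomp : ∀ z, CliffordAlgebra.map Θ' (CliffordAlgebra.map Θ z) = z := by
    have : (CliffordAlgebra.map Θ').comp (CliffordAlgebra.map Θ) = AlgHom.id A _ := by
      apply CliffordAlgebra.hom_ext
      ext x
      simp [hΘ, hΘ']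
    intro z
    exact AlgHom.congr_fun this z
  have hcomp' : ∀ w, CliffordAlgebra.map Θ (CliffordAlgebra.map Θ' w) = w := by
    have : (CliffordAlgebra.map Θ).comp (CliffordAlgebra.map Θ') = AlgHom.id A _ := by
      apply CliffordAlgebra.hom_ext
      ext x
      simp [hΘ, hΘ']
    intro z
    exact AlgHom.congr_fun this z
  have hint : ∀ z, CliffordAlgebra.map Θ
      (CliffordAlgebra.map (QuadGrp.isometryOfMem q₁ g₁ hg₁) z) =
      CliffordAlgebra.map (QuadGrp.isometryOfMem q₂ g₂ hg₂) (CliffordAlgebra.map Θ z) := by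
    have : (CliffordAlgebra.map Θ).comp (CliffordAlgebra.map (QuadGrp.isometryOfMem q₁ g₁ hg₁)) =
        (CliffordAlgebra.map (QuadGrp.isometryOfMem q₂ g₂ hg₂)).comp (CliffordAlgebra.map Θ) := by
      apply CliffordAlgebra.hom_ext
      ext x
      simp [hΘ, QuadGrp.isometryOfMem_apply, hc]
    intro z
    exact AlgHom.congr_fun this z
  intro z hz
  have hw0 : CliffordAlgebra.map Θ (z : CliffordAlgebra q₁) ∈ evenOdd q₂ 0 := map_mem_even Θ z.2
  have hwc : (⟨CliffordAlgebra.map Θ (z : CliffordAlgebra q₁), hw0⟩ : CliffordAlgebra.even q₂) ∈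
      Subalgebra.center A (CliffordAlgebra.even q₂) := by
    rw [Subalgebra.mem_center_iff]
    intro c
    apply Subtype.ext
    show (c : CliffordAlgebra q₂) * CliffordAlgebra.map Θ (z : CliffordAlgebra q₁) =
      CliffordAlgebra.map Θ (z : CliffordAlgebra q₁) * c
    have hc0 : CliffordAlgebra.map Θ' (c : CliffordAlgebra q₂) ∈ evenOdd q₁ 0 :=
      map_mem_even Θ' c.2
    have h1 := (Subalgebra.mem_center_iff.mp hz) ⟨_, hc0⟩
    have h2 : CliffordAlgebra.map Θ' (c : CliffordAlgebra q₂) * (z : CliffordAlgebra q₁) =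
        (z : CliffordAlgebra q₁) * CliffordAlgebra.map Θ' (c : CliffordAlgebra q₂) :=
      congrArg Subtype.val h1
    have h3 := congrArg (CliffordAlgebra.map Θ) h2
    rwa [map_mul, map_mul, hcomp'] at h3
  have h4 := h ⟨_, hw0⟩ hwc
  have h5 : CliffordAlgebra.map Θ
      (CliffordAlgebra.map (QuadGrp.isometryOfMem q₁ g₁ hg₁) (z : CliffordAlgebra q₁)) =
      CliffordAlgebra.map Θ (z : CliffordAlgebra q₁) := by
    rw [hint]
    exact h4
  have h6 := congrArg (CliffordAlgebra.map Θ') h5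
  rwa [hcomp, hcomp] at h6

end GT

section BR

variable {R : Type u} [CommRing R] {n : ℕ} (Q : QuadraticForm R (Fin n → R))
variable (A A' : Type u) [CommRing A] [Algebra R A] [CommRing A'] [Algebra R A'] [Algebra A A']
  [IsScalarTower R A A']

theorem cancel_one_tmul (x : A ⊗[R] (Fin n → R)) :
    AlgebraTensorModule.cancelBaseChange R A A' A' (Fin n → R) ((1 : A') ⊗ₜ[A] x) =
      LinearMap.rTensor (Fin n → R) (IsScalarTower.toAlgHom R A A').toLinearMap x := by
  induction x using TensorProduct.induction_on with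
  | zero => simp
  | tmul a m =>
    rw [AlgebraTensorModule.cancelBaseChange_tmul, LinearMap.rTensor_tmul,
      AlgHom.toLinearMap_apply, IsScalarTower.coe_toAlgHom', Algebra.algebraMap_eq_smul_one]
  | add x y hx hy => rw [tmul_add, map_add, hx, hy, map_add]

theorem cancel_isometry (x : A' ⊗[A] (A ⊗[R] (Fin n → R))) :
    QuadGrp.baseChangeForm A' Q
        (AlgebraTensorModule.cancelBaseChange R A A' A' (Fin n → R) x) =
      QuadGrp.baseChangeForm A' (QuadGrp.baseChangeForm A Q) x := by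
  have key : (QuadGrp.baseChangeForm A' Q).comp
      (AlgebraTensorModule.cancelBaseChange R A A' A' (Fin n → R)).toLinearMap =
      QuadGrp.baseChangeForm A' (QuadGrp.baseChangeForm A Q) := by
    apply quad_ext ((bas R n A).baseChange A')
    · intro i
      rw [QuadraticMap.comp_apply, Module.Basis.baseChange_apply, Module.Basis.baseChange_apply,
        LinearEquiv.coe_coe, AlgebraTensorModule.cancelBaseChange_tmul, one_smul, bcf_one_tmul,
        bcf_one_tmul, bcf_one_tmul, ← IsScalarTower.algebraMap_apply]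
    · intro i j
      have hp : ∀ x y, polar ((QuadGrp.baseChangeForm A' Q).comp
          (AlgebraTensorModule.cancelBaseChange R A A' A' (Fin n → R)).toLinearMap) x y =
          polar (QuadGrp.baseChangeForm A' Q)
            (AlgebraTensorModule.cancelBaseChange R A A' A' (Fin n → R) x)
            (AlgebraTensorModule.cancelBaseChange R A A' A' (Fin n → R) y) := by
        intro x y
        simp only [polar, QuadraticMap.comp_apply, LinearEquiv.coe_coe, map_add]
      rw [hp, Module.Basis.baseChange_apply, Module.Basis.baseChange_apply,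
        Module.Basis.baseChange_apply, Module.Basis.baseChange_apply,
        AlgebraTensorModule.cancelBaseChange_tmul, AlgebraTensorModule.cancelBaseChange_tmul,
        one_smul, polar_bcf_one_tmul, polar_bcf_one_tmul, polar_bcf_one_tmul,
        ← IsScalarTower.algebraMap_apply]
  have := congrArg (fun q => q x) key
  simpa using this

theorem dt_bridge
    (g : (A ⊗[R] (Fin n → R)) ≃ₗ[A] (A ⊗[R] (Fin n → R)))
    (hg : g ∈ QuadGrp.O (QuadGrp.baseChangeForm A Q))
    (g' : (A' ⊗[R] (Fin n → R)) ≃ₗ[A'] (A' ⊗[R] (Fin n → R)))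
    (hg' : g' ∈ QuadGrp.O (QuadGrp.baseChangeForm A' Q))
    (hlink : ∀ m : Fin n → R, g' (1 ⊗ₜ[R] m) =
      LinearMap.rTensor (Fin n → R) (IsScalarTower.toAlgHom R A A').toLinearMap
        (g (1 ⊗ₜ[R] m))) :
    QuadGrp.IsDicksonTrivial (QuadGrp.baseChangeForm A' (QuadGrp.baseChangeForm A Q))
        (g.baseChange A A' (A ⊗[R] (Fin n → R)) (A ⊗[R] (Fin n → R)))
        (baseChange_mem_O A' (QuadGrp.baseChangeForm A Q) g hg) ↔
      QuadGrp.IsDicksonTrivial (QuadGrp.baseChangeForm A' Q) g' hg' := by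
  set θ := AlgebraTensorModule.cancelBaseChange R A A' A' (Fin n → R) with hθ
  have hc : ∀ x, θ ((g.baseChange A A' (A ⊗[R] (Fin n → R)) (A ⊗[R] (Fin n → R))) x) =
      g' (θ x) := by
    have : θ.toLinearMap ∘ₗ
        (g.baseChange A A' (A ⊗[R] (Fin n → R)) (A ⊗[R] (Fin n → R))).toLinearMap =
        g'.toLinearMap ∘ₗ θ.toLinearMap := by
      apply ((bas R n A).baseChange A').ext
      intro i
      rw [LinearMap.comp_apply, LinearMap.comp_apply, Module.Basis.baseChange_apply,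
        LinearEquiv.coe_coe, LinearEquiv.coe_coe, LinearEquiv.coe_coe,
        LinearEquiv.baseChange_tmul, hθ, cancel_one_tmul, cancel_one_tmul,
        Module.Basis.baseChange_apply, LinearMap.rTensor_tmul, AlgHom.toLinearMap_apply,
        map_one, hlink]
    intro x
    exact LinearMap.congr_fun this x
  constructor
  · intro h
    refine dt_of_equiv _ _ θ.symm (fun y => ?_) g' hg' _ _ (fun y => ?_) h
    · rw [← cancel_isometry, ← hθ, LinearEquiv.apply_symm_apply]
    · apply θ.injective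
      rw [LinearEquiv.apply_symm_apply, hc, LinearEquiv.apply_symm_apply]
  · intro h
    exact dt_of_equiv _ _ θ (fun x => cancel_isometry Q A A' x) _ _ g' hg' hc h

end BR

section CM

theorem cliff_ringHom_ext {A : Type*} [CommRing A] {N : Type*} [AddCommGroup N] [Module A N]
    (q : QuadraticForm A N) {C : Type*} [Semiring C] (F G : CliffordAlgebra q →+* C)
    (h1 : ∀ a, F (algebraMap A _ a) = G (algebraMap A _ a))
    (h2 : ∀ v, F (ι q v) = G (ι q v)) : F = G := by
  refine RingHom.ext fun z => ?_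
  induction z using CliffordAlgebra.induction with
  | algebraMap r => exact h1 r
  | ι x => exact h2 x
  | mul a b ha hb => rw [map_mul, map_mul, ha, hb]
  | add a b ha hb => rw [map_add, map_add, ha, hb]

variable {R : Type u} [CommRing R] {n : ℕ} (Q : QuadraticForm R (Fin n → R))
variable {A B : Type u} [CommRing A] [Algebra R A] [CommRing B] [Algebra R B] (ψ : A →ₐ[R] B)

theorem rTensor_smul' (a : A) (w : A ⊗[R] (Fin n → R)) :
    LinearMap.rTensor (Fin n → R) ψ.toLinearMap (a • w) =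
      ψ a • LinearMap.rTensor (Fin n → R) ψ.toLinearMap w := by
  induction w using TensorProduct.induction_on with
  | zero => simp
  | tmul a' m =>
    rw [TensorProduct.smul_tmul', LinearMap.rTensor_tmul, LinearMap.rTensor_tmul,
      TensorProduct.smul_tmul', AlgHom.toLinearMap_apply, AlgHom.toLinearMap_apply, smul_eq_mul,
      smul_eq_mul, map_mul]
  | add x y hx hy => rw [smul_add, map_add, hx, hy, map_add, smul_add]

theorem link_all (g₁ : (A ⊗[R] (Fin n → R)) ≃ₗ[A] (A ⊗[R] (Fin n → R)))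
    (g₂ : (B ⊗[R] (Fin n → R)) ≃ₗ[B] (B ⊗[R] (Fin n → R)))
    (hlink : ∀ m : Fin n → R, g₂ (1 ⊗ₜ[R] m) =
      LinearMap.rTensor (Fin n → R) ψ.toLinearMap (g₁ (1 ⊗ₜ[R] m)))
    (v : A ⊗[R] (Fin n → R)) :
    g₂ (LinearMap.rTensor (Fin n → R) ψ.toLinearMap v) =
      LinearMap.rTensor (Fin n → R) ψ.toLinearMap (g₁ v) := by
  induction v using TensorProduct.induction_on with
  | zero => simp
  | tmul a m =>
    have e1 : a ⊗ₜ[R] m = a • ((1 : A) ⊗ₜ[R] m) := by
      rw [TensorProduct.smul_tmul', smul_eq_mul, mul_one]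
    have e2 : ψ a ⊗ₜ[R] m = ψ a • ((1 : B) ⊗ₜ[R] m) := by
      rw [TensorProduct.smul_tmul', smul_eq_mul, mul_one]
    rw [LinearMap.rTensor_tmul, AlgHom.toLinearMap_apply, e2, map_smul, hlink, e1, map_smul,
      rTensor_smul']
  | add x y hx hy => rw [map_add, map_add, hx, hy, map_add, map_add]

theorem cmap_mem_even {z : CliffordAlgebra (QuadGrp.baseChangeForm A Q)}
    (hz : z ∈ evenOdd (QuadGrp.baseChangeForm A Q) 0) :
    cmap Q ψ z ∈ evenOdd (QuadGrp.baseChangeForm B Q) 0 := by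
  induction z, hz using even_induction with
  | algebraMap r => rw [cmap_algebraMap]; exact SetLike.algebraMap_mem_graded _ _
  | add x y _ _ ihx ihy => rw [map_add]; exact Submodule.add_mem _ ihx ihy
  | ι_mul_ι_mul m₁ m₂ x hx ih =>
    rw [map_mul, map_mul, cmap_ι, cmap_ι]
    have := SetLike.mul_mem_graded (ι_mul_ι_mem_evenOdd_zero (QuadGrp.baseChangeForm B Q)
      (LinearMap.rTensor (Fin n → R) ψ.toLinearMap m₁)
      (LinearMap.rTensor (Fin n → R) ψ.toLinearMap m₂)) ih
    rwa [add_zero] at this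

theorem good_cmap {y : CliffordAlgebra (QuadGrp.baseChangeForm A Q)}
    (hy : Good (QuadGrp.baseChangeForm A Q) y) :
    Good (QuadGrp.baseChangeForm B Q) (cmap Q ψ y) := by
  refine ⟨cmap_mem_even Q ψ hy.even, ?_, ?_⟩
  · intro x
    induction x using TensorProduct.induction_on with
    | zero => simp
    | tmul b m =>
      have e2 : b ⊗ₜ[R] m = b • LinearMap.rTensor (Fin n → R) ψ.toLinearMap
          ((1 : A) ⊗ₜ[R] m) := by
        rw [LinearMap.rTensor_tmul, AlgHom.toLinearMap_apply, map_one,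
          TensorProduct.smul_tmul', smul_eq_mul, mul_one]
      have e3 : cmap Q ψ y * ι (QuadGrp.baseChangeForm B Q)
          (LinearMap.rTensor (Fin n → R) ψ.toLinearMap ((1 : A) ⊗ₜ[R] m)) =
          ι (QuadGrp.baseChangeForm B Q)
            (LinearMap.rTensor (Fin n → R) ψ.toLinearMap ((1 : A) ⊗ₜ[R] m)) *
            (1 - cmap Q ψ y) := by
        rw [← cmap_ι, ← map_mul, hy.comm, map_mul, map_sub, map_one]
      rw [e2, map_smul, mul_smul_comm, e3, smul_mul_assoc]
    | add x x' hx hx' => rw [map_add, mul_add, hx, hx', add_mul]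
  · have := hy.unit.map (cmap Q ψ)
    rwa [map_sub, map_one, map_mul, map_ofNat] at this

theorem map_cmap (g₁ : (A ⊗[R] (Fin n → R)) ≃ₗ[A] (A ⊗[R] (Fin n → R)))
    (hg₁ : g₁ ∈ QuadGrp.O (QuadGrp.baseChangeForm A Q))
    (g₂ : (B ⊗[R] (Fin n → R)) ≃ₗ[B] (B ⊗[R] (Fin n → R)))
    (hg₂ : g₂ ∈ QuadGrp.O (QuadGrp.baseChangeForm B Q))
    (hlink : ∀ m : Fin n → R, g₂ (1 ⊗ₜ[R] m) =
      LinearMap.rTensor (Fin n → R) ψ.toLinearMap (g₁ (1 ⊗ₜ[R] m)))
    (z : CliffordAlgebra (QuadGrp.baseChangeForm A Q)) :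
    CliffordAlgebra.map (QuadGrp.isometryOfMem (QuadGrp.baseChangeForm B Q) g₂ hg₂)
        (cmap Q ψ z) =
      cmap Q ψ (CliffordAlgebra.map
        (QuadGrp.isometryOfMem (QuadGrp.baseChangeForm A Q) g₁ hg₁) z) := by
  have := cliff_ringHom_ext (QuadGrp.baseChangeForm A Q)
    (((CliffordAlgebra.map (QuadGrp.isometryOfMem (QuadGrp.baseChangeForm B Q) g₂ hg₂) :
      CliffordAlgebra (QuadGrp.baseChangeForm B Q) →ₐ[B]
        CliffordAlgebra (QuadGrp.baseChangeForm B Q)) :
      CliffordAlgebra (QuadGrp.baseChangeForm B Q) →+*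
        CliffordAlgebra (QuadGrp.baseChangeForm B Q)).comp (cmap Q ψ))
    ((cmap Q ψ).comp
      ((CliffordAlgebra.map (QuadGrp.isometryOfMem (QuadGrp.baseChangeForm A Q) g₁ hg₁) :
        CliffordAlgebra (QuadGrp.baseChangeForm A Q) →ₐ[A]
          CliffordAlgebra (QuadGrp.baseChangeForm A Q)) :
        CliffordAlgebra (QuadGrp.baseChangeForm A Q) →+*
          CliffordAlgebra (QuadGrp.baseChangeForm A Q)))
    (fun a => by
      simp only [RingHom.comp_apply, RingHom.coe_coe, AlgHom.commutes, cmap_algebraMap])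
    (fun v => by
      simp only [RingHom.comp_apply, RingHom.coe_coe, cmap_ι, CliffordAlgebra.map_apply_ι,
        QuadGrp.isometryOfMem_apply]
      rw [link_all ψ g₁ g₂ hlink])
  exact RingHom.congr_fun this z

theorem bcf_rTensor (v : A ⊗[R] (Fin n → R)) :
    QuadGrp.baseChangeForm B Q (LinearMap.rTensor (Fin n → R) ψ.toLinearMap v) =
      ψ (QuadGrp.baseChangeForm A Q v) := by
  rw [Qbc_eq_qv, Qbc_eq_qv]
  show _ = (ψ : A →+* B) (qv _ _)
  rw [map_qv (ψ : A →+* B), ringHom_gr]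
  congr 1
  funext i
  exact repr_rTensor ψ v i

end CM

section FL

variable {R : Type u} [CommRing R] {m : ℕ} (Q : QuadraticForm R (Fin (2 * m) → R))
variable {A B : Type u} [CommRing A] [Algebra R A] [CommRing B] [Algebra R B] (ψ : A →ₐ[R] B)

/-- the Dickson condition over a local ring is detected after any base change -/
theorem dt_local_iff (hQ : QuadGrp.IsRegular Q) (hm : 1 ≤ m) [IsLocalRing A] [Nontrivial B]
    (g₁ : (A ⊗[R] (Fin (2 * m) → R)) ≃ₗ[A] (A ⊗[R] (Fin (2 * m) → R)))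
    (hg₁ : g₁ ∈ QuadGrp.O (QuadGrp.baseChangeForm A Q))
    (g₂ : (B ⊗[R] (Fin (2 * m) → R)) ≃ₗ[B] (B ⊗[R] (Fin (2 * m) → R)))
    (hg₂ : g₂ ∈ QuadGrp.O (QuadGrp.baseChangeForm B Q))
    (hlink : ∀ x : Fin (2 * m) → R, g₂ (1 ⊗ₜ[R] x) =
      LinearMap.rTensor (Fin (2 * m) → R) ψ.toLinearMap (g₁ (1 ⊗ₜ[R] x))) :
    QuadGrp.IsDicksonTrivial (QuadGrp.baseChangeForm A Q) g₁ hg₁ ↔
      QuadGrp.IsDicksonTrivial (QuadGrp.baseChangeForm B Q) g₂ hg₂ := by
  haveI : Nontrivial R := (algebraMap R B).domain_nontrivial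
  have hQA := isRegular_baseChangeForm A Q hQ
  have hQB := isRegular_baseChangeForm B Q hQ
  have hMA : Module.finrank A (A ⊗[R] (Fin (2 * m) → R)) = 2 * m := by
    rw [Module.finrank_eq_card_basis (bas R (2 * m) A), Fintype.card_fin]
  obtain ⟨y, hy⟩ := exists_good m _ (QuadGrp.baseChangeForm A Q) hQA hMA
  obtain ⟨x₀, hx₀⟩ := exists_isUnit_value (QuadGrp.baseChangeForm A Q) hQA (by omega)
  have hy' := good_cmap Q ψ hy
  have hx₀' : IsUnit (QuadGrp.baseChangeForm B Q
      (LinearMap.rTensor (Fin (2 * m) → R) ψ.toLinearMap x₀)) := by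
    rw [bcf_rTensor]
    exact hx₀.map ψ
  rw [hy.isDicksonTrivial_iff (bas R (2 * m) A) hQA x₀ hx₀ g₁ hg₁,
    hy'.isDicksonTrivial_iff (bas R (2 * m) B) hQB _ hx₀' g₂ hg₂,
    map_cmap Q ψ g₁ hg₁ g₂ hg₂ hlink]
  rcases hy.map_eq_or (bas R (2 * m) A) hQA x₀ hx₀ g₁ hg₁ with h | h
  · rw [h]
    exact ⟨fun _ => rfl, fun _ => rfl⟩
  · rw [h, map_sub, map_one]
    constructor
    · intro h1
      exact absurd h1.symm hy.ne_one_sub
    · intro h1
      exact absurd h1.symm hy'.ne_one_sub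

end FL

end Groth.Agent.H9.SOE
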