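import Mathlib
import Groth.Agent.Lib.Helper9.Misc.SOE2

/-! The universal object of `SO(q)` in even rank (helper9). -/

set_option autoImplicit false

open Matrix TensorProduct QuadraticMap CliffordAlgebra
open Groth.Agent.H9.SG Groth.Agent.H9.SO Groth.Agent.H9.SOD Groth.Agent.H9.QG

namespace Groth.Agent.H9.SOE

universe u

section Push

variable {R : Type u} [CommRing R] {n : ℕ} (Q : QuadraticForm R (Fin n → R))

theorem mem_O_iff_orth (A : Type u) [CommRing A] [Algebra R A]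
    (g : (A ⊗[R] (Fin n → R)) ≃ₗ[A] (A ⊗[R] (Fin n → R))) :
    g ∈ QuadGrp.O (QuadGrp.baseChangeForm A Q) ↔ g ∈ QuadGrp.orth Q A := by
  rw [mem_orth_iff, QuadGrp.mem_O]
  exact isometry_iff_isAlt Q A g.toLinearMap

variable {A B C : Type u} [CommRing A] [Algebra R A] [CommRing B] [Algebra R B]
  [CommRing C] [Algebra R C] (ψ : A →ₐ[R] B)

theorem rTensor_rTensor (φ : B →ₐ[R] C) (w : A ⊗[R] (Fin n → R)) :
    LinearMap.rTensor (Fin n → R) φ.toLinearMap
        (LinearMap.rTensor (Fin n → R) ψ.toLinearMap w) =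
      LinearMap.rTensor (Fin n → R) (φ.comp ψ).toLinearMap w := by
  induction w using TensorProduct.induction_on with
  | zero => simp
  | tmul a x => simp only [LinearMap.rTensor_tmul, AlgHom.toLinearMap_apply, AlgHom.comp_apply]
  | add x y hx hy => rw [map_add, map_add, map_add, hx, hy]

/-- push an automorphism forward along an algebra map -/
noncomputable def push (g : (A ⊗[R] (Fin n → R)) ≃ₗ[A] (A ⊗[R] (Fin n → R))) :
    (B ⊗[R] (Fin n → R)) ≃ₗ[B] (B ⊗[R] (Fin n → R)) :=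
  equivOfMat (R := R) B
    ((ψ : A →+* B).mapMatrix (LinearMap.toMatrix (bas R n A) (bas R n A) g.toLinearMap))
    ((ψ : A →+* B).mapMatrix (LinearMap.toMatrix (bas R n A) (bas R n A) g.symm.toLinearMap))
    (by rw [← map_mul, toMatrix_mul_symm, map_one])
    (by rw [← map_mul, toMatrix_symm_mul, map_one])

theorem toMatrix_push (g : (A ⊗[R] (Fin n → R)) ≃ₗ[A] (A ⊗[R] (Fin n → R))) :
    LinearMap.toMatrix (bas R n B) (bas R n B) (push ψ g).toLinearMap =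
      (ψ : A →+* B).mapMatrix (LinearMap.toMatrix (bas R n A) (bas R n A) g.toLinearMap) :=
  toMatrix_equivOfMat B _ _ _ _

theorem push_link (g : (A ⊗[R] (Fin n → R)) ≃ₗ[A] (A ⊗[R] (Fin n → R))) (x : Fin n → R) :
    push ψ g (1 ⊗ₜ[R] x) = LinearMap.rTensor (Fin n → R) ψ.toLinearMap (g (1 ⊗ₜ[R] x)) :=
  (link ψ g (push ψ g)).mpr (toMatrix_push ψ g).symm x

theorem push_mem (g : (A ⊗[R] (Fin n → R)) ≃ₗ[A] (A ⊗[R] (Fin n → R)))
    (hg : g ∈ QuadGrp.O (QuadGrp.baseChangeForm A Q)) :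
    push ψ g ∈ QuadGrp.O (QuadGrp.baseChangeForm B Q) := by
  rw [mem_O_iff_orth, mem_orth_iff, toMatrix_push]
  rw [mem_O_iff_orth, mem_orth_iff] at hg
  exact isAlt_of_algHom ψ (cQ Q) hg

end Push

section Chain

variable {R : Type u} [CommRing R] {m : ℕ} (Q : QuadraticForm R (Fin (2 * m) → R))

theorem finrank_bc (A : Type u) [CommRing A] [Algebra R A] [Nontrivial A] :
    Module.finrank A (A ⊗[R] (Fin (2 * m) → R)) = 2 * m := by
  rw [Module.finrank_eq_card_basis (bas R (2 * m) A), Fintype.card_fin]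

theorem sorth_eq_SOeven (A : Type u) [CommRing A] [Algebra R A] :
    QuadGrp.sorth Q A = QuadGrp.SOeven (QuadGrp.baseChangeForm A Q) := by
  rcases subsingleton_or_nontrivial A with hA | hA
  · haveI : Subsingleton (A ⊗[R] (Fin (2 * m) → R)) := Module.subsingleton A _
    ext g
    have hg : g = 1 := by
      ext v
      exact Subsingleton.elim _ _
    rw [hg]
    exact ⟨fun _ => Subgroup.one_mem _, fun _ => Subgroup.one_mem _⟩
  · unfold QuadGrp.sorth QuadGrp.SO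
    rw [if_pos]
    rw [finrank_bc]
    exact even_two_mul m

variable {A B : Type u} [CommRing A] [Algebra R A] [CommRing B] [Algebra R B] (ψ : A →ₐ[R] B)

/-- the local homomorphism as an algebra map -/
noncomputable def locAlgHom (q : Ideal B) [q.IsPrime] :
    Localization.AtPrime (q.comap (ψ : A →+* B)) →ₐ[R] Localization.AtPrime q :=
  { Localization.localRingHom (q.comap (ψ : A →+* B)) q (ψ : A →+* B) rfl with
    commutes' := fun r => by
      show Localization.localRingHom (q.comap (ψ : A →+* B)) q (ψ : A →+* B) rfl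
        (algebraMap R _ r) = _
      rw [IsScalarTower.algebraMap_apply R A (Localization.AtPrime (q.comap (ψ : A →+* B))),
        Localization.localRingHom_to_map,
        IsScalarTower.algebraMap_apply R B (Localization.AtPrime q)]
      congr 1
      exact ψ.commutes r }

theorem locAlgHom_comp (q : Ideal B) [q.IsPrime] :
    (locAlgHom ψ q).comp
        (IsScalarTower.toAlgHom R A (Localization.AtPrime (q.comap (ψ : A →+* B)))) =
      (IsScalarTower.toAlgHom R B (Localization.AtPrime q)).comp ψ :=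
  AlgHom.ext fun a => Localization.localRingHom_to_map _ _ _ rfl a

theorem dtAt_iff_comap (hQ : QuadGrp.IsRegular Q) (hm : 1 ≤ m)
    (g₁ : (A ⊗[R] (Fin (2 * m) → R)) ≃ₗ[A] (A ⊗[R] (Fin (2 * m) → R)))
    (hg₁ : g₁ ∈ QuadGrp.O (QuadGrp.baseChangeForm A Q))
    (g₂ : (B ⊗[R] (Fin (2 * m) → R)) ≃ₗ[B] (B ⊗[R] (Fin (2 * m) → R)))
    (hg₂ : g₂ ∈ QuadGrp.O (QuadGrp.baseChangeForm B Q))
    (hlink : ∀ x : Fin (2 * m) → R, g₂ (1 ⊗ₜ[R] x) =
      LinearMap.rTensor (Fin (2 * m) → R) ψ.toLinearMap (g₁ (1 ⊗ₜ[R] x)))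
    (q : Ideal B) [q.IsPrime] :
    DTAt (QuadGrp.baseChangeForm B Q) g₂ hg₂ q ↔
      DTAt (QuadGrp.baseChangeForm A Q) g₁ hg₁ (q.comap (ψ : A →+* B)) := by
  have h1 : DTAt (QuadGrp.baseChangeForm B Q) g₂ hg₂ q ↔
      QuadGrp.IsDicksonTrivial (QuadGrp.baseChangeForm (Localization.AtPrime q) Q)
        (push (IsScalarTower.toAlgHom R B (Localization.AtPrime q)) g₂)
        (push_mem Q _ g₂ hg₂) :=
    dt_bridge Q B (Localization.AtPrime q) g₂ hg₂ _ (push_mem Q _ g₂ hg₂) (push_link _ g₂)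
  have h2 : DTAt (QuadGrp.baseChangeForm A Q) g₁ hg₁ (q.comap (ψ : A →+* B)) ↔
      QuadGrp.IsDicksonTrivial
        (QuadGrp.baseChangeForm (Localization.AtPrime (q.comap (ψ : A →+* B))) Q)
        (push (IsScalarTower.toAlgHom R A (Localization.AtPrime (q.comap (ψ : A →+* B)))) g₁)
        (push_mem Q _ g₁ hg₁) :=
    dt_bridge Q A (Localization.AtPrime (q.comap (ψ : A →+* B))) g₁ hg₁ _
      (push_mem Q _ g₁ hg₁) (push_link _ g₁)
  rw [h1, h2]
  refine (dt_local_iff Q (locAlgHom ψ q) hQ hm _ _ _ _ ?_).symm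
  intro x
  rw [push_link, push_link, hlink, rTensor_rTensor, rTensor_rTensor, locAlgHom_comp]

theorem g0_mem : (g0 Q).1 ∈ QuadGrp.O (QuadGrp.baseChangeForm (A0 (cQ Q) ∅) Q) :=
  (mem_O_iff_orth Q _ _).mpr (g0 Q).2

theorem exists_idem (hQ : QuadGrp.IsRegular Q) (hm : 1 ≤ m) :
    ∃ e : A0 (cQ Q) ∅, IsIdempotentElem e ∧ ∀ (p : Ideal (A0 (cQ Q) ∅)) [p.IsPrime],
      DTAt (QuadGrp.baseChangeForm (A0 (cQ Q) ∅) Q) (g0 Q).1 (g0_mem Q) p ↔ e ∉ p := by
  rcases subsingleton_or_nontrivial (A0 (cQ Q) ∅) with hA | hA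
  · refine ⟨0, IsIdempotentElem.zero, fun p hp => ?_⟩
    exact absurd (Subsingleton.elim p ⊤) hp.ne_top
  · haveI : Nontrivial R := (algebraMap R (A0 (cQ Q) ∅)).domain_nontrivial
    have hQ₀ := isRegular_baseChangeForm (A0 (cQ Q) ∅) Q hQ
    have hM₀ := finrank_bc (R := R) (m := m) (A0 (cQ Q) ∅)
    let W : Set (PrimeSpectrum (A0 (cQ Q) ∅)) :=
      {p | DTAt (QuadGrp.baseChangeForm (A0 (cQ Q) ∅) Q) (g0 Q).1 (g0_mem Q) p.asIdeal}
    have hopen : IsOpen W := by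
      rw [isOpen_iff_forall_mem_open]
      intro p hp
      obtain ⟨f, hfp, hf⟩ := exists_nhds_dtAt m hm hM₀ _ hQ₀ (g0 Q).1 (g0_mem Q) p.asIdeal hp
      refine ⟨(PrimeSpectrum.basicOpen f : Set _), ?_, (PrimeSpectrum.basicOpen f).isOpen,
        (PrimeSpectrum.mem_basicOpen f p).mpr hfp⟩
      intro q hq
      exact hf q.asIdeal ((PrimeSpectrum.mem_basicOpen f q).mp hq)
    have hclosed : IsClosed W := by
      rw [← isOpen_compl_iff, isOpen_iff_forall_mem_open]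
      intro p hp
      obtain ⟨f, hfp, hf⟩ :=
        exists_nhds_not_dtAt m hm hM₀ _ hQ₀ (g0 Q).1 (g0_mem Q) p.asIdeal hp
      refine ⟨(PrimeSpectrum.basicOpen f : Set _), ?_, (PrimeSpectrum.basicOpen f).isOpen,
        (PrimeSpectrum.mem_basicOpen f p).mpr hfp⟩
      intro q hq
      exact hf q.asIdeal ((PrimeSpectrum.mem_basicOpen f q).mp hq)
    obtain ⟨e, he, hWe⟩ := PrimeSpectrum.isClopen_iff.mp ⟨hclosed, hopen⟩
    refine ⟨e, he, fun p hp => ?_⟩
    have h1 : (⟨p, hp⟩ : PrimeSpectrum (A0 (cQ Q) ∅)) ∈ W ↔ e ∉ p := by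
      rw [hWe]
      exact PrimeSpectrum.mem_basicOpen e ⟨p, hp⟩
    exact h1

theorem dt_iff_isUnit (hQ : QuadGrp.IsRegular Q) (hm : 1 ≤ m) (e : A0 (cQ Q) ∅)
    (he : ∀ (p : Ideal (A0 (cQ Q) ∅)) [p.IsPrime],
      DTAt (QuadGrp.baseChangeForm (A0 (cQ Q) ∅) Q) (g0 Q).1 (g0_mem Q) p ↔ e ∉ p)
    {B : Type u} [CommRing B] [Algebra R B] (ψ : A0 (cQ Q) ∅ →ₐ[R] B)
    (g : (B ⊗[R] (Fin (2 * m) → R)) ≃ₗ[B] (B ⊗[R] (Fin (2 * m) → R)))
    (hg : g ∈ QuadGrp.O (QuadGrp.baseChangeForm B Q))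
    (hlink : ∀ x : Fin (2 * m) → R, g (1 ⊗ₜ[R] x) =
      LinearMap.rTensor (Fin (2 * m) → R) ψ.toLinearMap ((g0 Q).1 (1 ⊗ₜ[R] x))) :
    QuadGrp.IsDicksonTrivial (QuadGrp.baseChangeForm B Q) g hg ↔ IsUnit (ψ e) := by
  rcases subsingleton_or_nontrivial B with hB | hB
  · haveI : Subsingleton (CliffordAlgebra (QuadGrp.baseChangeForm B Q)) :=
      Module.subsingleton B _
    exact ⟨fun _ => isUnit_of_subsingleton _, fun _ z _ => Subsingleton.elim _ _⟩
  · haveI : Nontrivial R := (algebraMap R B).domain_nontrivial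
    have hQB := isRegular_baseChangeForm B Q hQ
    have hMB := finrank_bc (R := R) (m := m) B
    have key : ∀ (q : Ideal B) [q.IsPrime],
        DTAt (QuadGrp.baseChangeForm B Q) g hg q ↔ ψ e ∉ q := by
      intro q _
      rw [dtAt_iff_comap Q ψ hQ hm (g0 Q).1 (g0_mem Q) g hg hlink q, he]
      exact Iff.rfl
    constructor
    · intro hD
      by_contra hu
      obtain ⟨q, hqmax, hq⟩ := exists_max_ideal_of_mem_nonunits (mem_nonunits_iff.mpr hu)
      haveI := hqmax.isPrime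
      exact (key q).mp (dtAt_of_isDicksonTrivial m hm hMB _ hQB g hg hD q) hq
    · intro hu
      apply isDicksonTrivial_of_dtAt
      intro q hq
      rw [key q]
      intro hmem
      exact hq.ne_top (Ideal.eq_top_of_isUnit_mem _ hmem hu)

/-- the idempotent cutting out `SO` inside `O` -/
noncomputable def eI (hQ : QuadGrp.IsRegular Q) (hm : 1 ≤ m) : A0 (cQ Q) ∅ :=
  Classical.choose (exists_idem Q hQ hm)

theorem eI_idem (hQ : QuadGrp.IsRegular Q) (hm : 1 ≤ m) : IsIdempotentElem (eI Q hQ hm) :=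
  (Classical.choose_spec (exists_idem Q hQ hm)).1

theorem dt_iff_isUnit_eI (hQ : QuadGrp.IsRegular Q) (hm : 1 ≤ m)
    {B : Type u} [CommRing B] [Algebra R B] (ψ : A0 (cQ Q) ∅ →ₐ[R] B)
    (g : (B ⊗[R] (Fin (2 * m) → R)) ≃ₗ[B] (B ⊗[R] (Fin (2 * m) → R)))
    (hg : g ∈ QuadGrp.O (QuadGrp.baseChangeForm B Q))
    (hlink : ∀ x : Fin (2 * m) → R, g (1 ⊗ₜ[R] x) =
      LinearMap.rTensor (Fin (2 * m) → R) ψ.toLinearMap ((g0 Q).1 (1 ⊗ₜ[R] x))) :
    QuadGrp.IsDicksonTrivial (QuadGrp.baseChangeForm B Q) g hg ↔ IsUnit (ψ (eI Q hQ hm)) :=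
  dt_iff_isUnit Q hQ hm _ (fun p _ => (Classical.choose_spec (exists_idem Q hQ hm)).2 p)
    ψ g hg hlink

/-- the coordinate ring of `SO(q)` in even rank -/
abbrev ASO (hQ : QuadGrp.IsRegular Q) (hm : 1 ≤ m) : Type u := Localization.Away (eI Q hQ hm)

/-- the universal element of `SO(q)` -/
noncomputable def gSO (hQ : QuadGrp.IsRegular Q) (hm : 1 ≤ m) :
    ↥(QuadGrp.sorth Q (ASO Q hQ hm)) :=
  ⟨push (IsScalarTower.toAlgHom R (A0 (cQ Q) ∅) (ASO Q hQ hm)) (g0 Q).1, by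
    rw [sorth_eq_SOeven]
    refine ⟨push_mem Q _ _ (g0_mem Q), ?_⟩
    rw [dt_iff_isUnit_eI Q hQ hm (IsScalarTower.toAlgHom R (A0 (cQ Q) ∅) (ASO Q hQ hm)) _ _
      (push_link _ _)]
    exact IsLocalization.Away.algebraMap_isUnit (eI Q hQ hm)⟩

theorem isUniversal_SO (hQ : QuadGrp.IsRegular Q) (hm : 1 ≤ m) :
    IsUniversal (M := Fin (2 * m) → R) (fun A _ _ => QuadGrp.sorth Q A) (ASO Q hQ hm)
      (gSO Q hQ hm) := by
  intro C _ _ g
  have hgS : (g : (C ⊗[R] (Fin (2 * m) → R)) ≃ₗ[C] (C ⊗[R] (Fin (2 * m) → R))) ∈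
      QuadGrp.SOeven (QuadGrp.baseChangeForm C Q) := by
    rw [← sorth_eq_SOeven]
    exact g.2
  obtain ⟨hgO, hgD⟩ := hgS
  have hgorth : g.1 ∈ QuadGrp.orth Q C := (mem_O_iff_orth Q C g.1).mp hgO
  obtain ⟨ψ₀, hψ₀, huniq⟩ := isUniversal_orth Q C ⟨g.1, hgorth⟩
  have hu : IsUnit ((ψ₀ : A0 (cQ Q) ∅ →+* C) (eI Q hQ hm)) :=
    (dt_iff_isUnit_eI Q hQ hm ψ₀ g.1 hgO hψ₀).mp hgD
  let ι := IsScalarTower.toAlgHom R (A0 (cQ Q) ∅) (ASO Q hQ hm)
  let ψr : ASO Q hQ hm →+* C := IsLocalization.Away.lift (eI Q hQ hm) hu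
  have hψr : ∀ a, ψr (algebraMap _ _ a) = ψ₀ a := fun a =>
    IsLocalization.Away.lift_eq _ hu a
  let ψ : ASO Q hQ hm →ₐ[R] C :=
    { ψr with
      commutes' := fun r => by
        show ψr (algebraMap R (ASO Q hQ hm) r) = _
        rw [IsScalarTower.algebraMap_apply R (A0 (cQ Q) ∅) (ASO Q hQ hm), hψr, ψ₀.commutes] }
  have hψ : ∀ a, ψ (algebraMap _ _ a) = ψ₀ a := hψr
  have hcomp : ψ.comp ι = ψ₀ := AlgHom.ext fun a => hψr a
  refine ⟨ψ, ?_, ?_⟩
  · intro x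
    show g.1 (1 ⊗ₜ[R] x) = LinearMap.rTensor _ ψ.toLinearMap (push ι (g0 Q).1 (1 ⊗ₜ[R] x))
    rw [push_link, rTensor_rTensor, hcomp]
    exact hψ₀ x
  · intro ψ' h'
    have h1 : ψ'.comp ι = ψ₀ := by
      apply huniq
      intro x
      have := h' x
      show g.1 (1 ⊗ₜ[R] x) = _
      rw [← rTensor_rTensor, ← push_link]
      exact this
    apply AlgHom.coe_ringHom_injective
    apply IsLocalization.ringHom_ext (Submonoid.powers (eI Q hQ hm))
    ext a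
    show ψ' (algebraMap _ _ a) = ψ (algebraMap _ _ a)
    rw [hψ]
    exact AlgHom.congr_fun h1 a

end Chain

end Groth.Agent.H9.SOE
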