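import Mathlib
import Groth.Agent.Lib.Helper9.Misc.SOE3

/-! Weak Cartan–Dieudonné in even rank over an algebraically closed field (helper9). -/

set_option autoImplicit false

open Matrix TensorProduct QuadraticMap
open Groth.Agent.H9.SG Groth.Agent.H9.SO Groth.Agent.H9.SOD Groth.Agent.H9.QG Groth.Agent.H9.SF

namespace Groth.Agent.H9.SOE

universe u v

section CD

variable {K : Type u} [Field K] [IsAlgClosed K]

/-- weak Cartan–Dieudonné for regular forms of even rank over an algebraically closed field -/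
theorem cartan_dieudonne_even : ∀ (m : ℕ) (M : Type v) [AddCommGroup M] [Module K M]
    [Module.Free K M] [Module.Finite K M] (Q : QuadraticForm K M),
    Module.finrank K M = 2 * m → QuadGrp.IsRegular Q →
    ∀ g : Module.End K M, (∀ v, Q (g v) = Q v) → g ∈ HR Q := by
  intro m
  induction m with
  | zero =>
    intro M _ _ _ _ Q hM _ g _
    haveI : Subsingleton M := (Module.finrank_eq_zero_iff_of_free (R := K) (M := M)).mp hM
    have : g = 1 := LinearMap.ext fun v => Subsingleton.elim _ _
    rw [this]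
    exact Submonoid.one_mem _
  | succ m ih =>
    intro M _ _ _ _ Q hM hQ g hg
    haveI : Infinite K := IsAlgClosed.instInfinite
    obtain ⟨e0, f0, hef0, hu0⟩ := exists_plane Q hQ (by omega)
    obtain ⟨e, f, hef, h0e, h0f⟩ := exists_hyperbolic Q e0 f0 hef0 hu0
    have hd : (1 - 4 * Q e * Q f) * 1 = 1 := by rw [h0e, h0f]; ring
    haveI := finite_N hef hd
    haveI := free_N hef hd
    have hrank := finrank_N hef hd
    have hq : Module.finrank K (Nsub Q e f) = 2 * m := by omega
    have hQN := isRegular_QN hef hd hQ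
    -- step 1: move `g e` to `e`
    have hge : Q (g e) = 0 := by rw [hg, h0e]
    have hp1 : polar Q (g e) (g f) ≠ 0 := by
      rw [polar_isometry Q g hg, hef]
      exact one_ne_zero
    have hp0 : polar Q e f ≠ 0 := by rw [hef]; exact one_ne_zero
    obtain ⟨h₁, hh₁, h₁e⟩ := exists_move_isotropic Q e (g e) f (g f) h0e hge hp0 hp1
    have hg₁ : ∀ v, Q ((h₁ * g) v) = Q v := fun v => by
      rw [Module.End.mul_apply, HR_isometry Q hh₁, hg]
    have hg₁e : (h₁ * g) e = e := by rw [Module.End.mul_apply, h₁e]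
    -- step 2: move `g₁ f` to `f`, fixing `e`
    have hy' : Q ((h₁ * g) f) = 0 := by rw [hg₁, h0f]
    have hey : polar Q e ((h₁ * g) f) = 1 := by
      have := polar_isometry Q (h₁ * g) hg₁ e f
      rw [hg₁e] at this
      rw [this, hef]
    have hstep2 : ∃ h₂ ∈ HR Q, h₂ e = e ∧ h₂ ((h₁ * g) f) = f := by
      rcases Nat.eq_zero_or_pos m with hm0 | hmpos
      · haveI : Subsingleton (Nsub Q e f) :=
          (Module.finrank_eq_zero_iff_of_free (R := K) (M := Nsub Q e f)).mp (by rw [hq, hm0])
        refine ⟨1, Submonoid.one_mem _, rfl, ?_⟩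
        rw [Module.End.one_apply]
        obtain ⟨a, b, hab⟩ : ∃ a b : K, (h₁ * g) f = a • e + b • f := by
          have hproj : proj Q e f 1 ((h₁ * g) f) = 0 := by
            have h0 : (projN hef hd ((h₁ * g) f) : M) = ((0 : Nsub Q e f) : M) :=
              congrArg Subtype.val (Subsingleton.elim _ _)
            rw [projN_coe, Submodule.coe_zero] at h0
            exact h0
          have hdec := decomp (Q := Q) (e := e) (f := f) (d' := 1) ((h₁ * g) f)
          rw [hproj, add_zero] at hdec
          exact ⟨_, _, hdec⟩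
        have hb : b = 1 := by
          have h1 := hey
          rw [hab, polar_add_right, polar_smul_right, polar_smul_right, polar_self, hef,
            h0e] at h1
          simpa using h1
        have ha : a = 0 := by
          have h1 := hy'
          rw [hab, hb, one_smul, QuadraticMap.map_add Q, QuadraticMap.map_smul,
            polar_smul_left, hef, h0e, h0f] at h1
          simpa using h1
        rw [hab, ha, hb, zero_smul, one_smul, zero_add]
      · obtain ⟨x₀, hx₀⟩ := exists_isUnit_value (QN (Q := Q) (e := e) (f := f)) hQN (by omega)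
        have hw₀ : Q (x₀ : M) ≠ 0 := by
          have := hx₀.ne_zero
          rwa [QN_apply] at this
        exact exists_fix_pair Q e f hef h0e h0f (x₀ : M) x₀.2 hw₀ _ hy' hey
    obtain ⟨h₂, hh₂, h₂e, h₂f⟩ := hstep2
    have hg₂ : ∀ v, Q ((h₂ * (h₁ * g)) v) = Q v := fun v => by
      rw [Module.End.mul_apply, HR_isometry Q hh₂, hg₁]
    have hg₂e : (h₂ * (h₁ * g)) e = e := by rw [Module.End.mul_apply, hg₁e, h₂e]
    have hg₂f : (h₂ * (h₁ * g)) f = f := by rw [Module.End.mul_apply, h₂f]
    -- step 3: restrict to the complement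
    obtain ⟨gN, hgN, hgeq⟩ := eq_extE hef hd (h₂ * (h₁ * g)) hg₂ hg₂e hg₂f
    have hgN' := ih (Nsub Q e f) QN hq hQN gN hgN
    have h3 : h₂ * (h₁ * g) ∈ HR Q := by
      rw [hgeq]
      exact extHom_HR hef hd hgN'
    exact HR_of_mul Q hh₁ (HR_of_mul Q hh₂ h3)

end CD

section Bridge

variable {R : Type u} [CommRing R] {n : ℕ} (Q : QuadraticForm R (Fin n → R))
variable (L : Type u) [Field L] [Algebra R L]

theorem toMatrix_tau' (u : L ⊗[R] (Fin n → R)) :
    LinearMap.toMatrix (bas R n L) (bas R n L) (tau (QuadGrp.baseChangeForm L Q) u) =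
      Tm (gr L (cQ Q)) ⇑((bas R n L).repr u)
        (qv (gr L (cQ Q)) ⇑((bas R n L).repr u))⁻¹ := by
  rw [Matrix.ext_iff_mulVec]
  intro x
  obtain ⟨v, rfl⟩ := (bas R n L).equivFun.surjective x
  show _ *ᵥ ⇑((bas R n L).repr v) = _ *ᵥ ⇑((bas R n L).repr v)
  rw [LinearMap.toMatrix_mulVec_repr, Tm_mulVec, tau_apply, map_sub, map_smul, ← polar_eq_pv',
    ← Qbc_eq_qv]
  rfl

end Bridge

section Even

variable {R : Type u} [CommRing R] {m : ℕ} (Q : QuadraticForm R (Fin (2 * m) → R))

theorem exists_refl_list_even (L : Type u) [Field L] [Algebra R L] [IsAlgClosed L]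
    (hQ : QuadGrp.IsRegular Q)
    (U : Matrix (Fin (2 * m)) (Fin (2 * m)) L)
    (halt : IsAltMat (defect (gr L (cQ Q)) U)) :
    ∃ us : List (Fin (2 * m) → L), (∀ u ∈ us, qv (gr L (cQ Q)) u ≠ 0) ∧
      U = (us.map fun u => Tm (gr L (cQ Q)) u (qv (gr L (cQ Q)) u)⁻¹).prod := by
  haveI : Nontrivial R := (algebraMap R L).domain_nontrivial
  set b := bas R (2 * m) L with hb
  set g : Module.End L (L ⊗[R] (Fin (2 * m) → R)) := Matrix.toLin b b U with hg
  have hgU : LinearMap.toMatrix b b g = U := LinearMap.toMatrix_toLin b b U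
  have hiso : ∀ v, QuadGrp.baseChangeForm L Q (g v) = QuadGrp.baseChangeForm L Q v :=
    (isometry_iff_isAlt Q L g).mpr (by rw [hgU]; exact halt)
  have hQL := isRegular_baseChangeForm L Q hQ
  have hmem : g ∈ HR (QuadGrp.baseChangeForm L Q) :=
    cartan_dieudonne_even m (L ⊗[R] (Fin (2 * m) → R)) (QuadGrp.baseChangeForm L Q)
      (finrank_bc L) hQL g hiso
  have key : ∀ h ∈ HR (QuadGrp.baseChangeForm L Q),
      ∃ us : List (Fin (2 * m) → L), (∀ u ∈ us, qv (gr L (cQ Q)) u ≠ 0) ∧
        LinearMap.toMatrix b b h =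
          (us.map fun u => Tm (gr L (cQ Q)) u (qv (gr L (cQ Q)) u)⁻¹).prod := by
    intro h hh
    change h ∈ Submonoid.closure (reflSet (QuadGrp.baseChangeForm L Q)) at hh
    induction hh using Submonoid.closure_induction with
    | mem x hx =>
      obtain ⟨u, hu, rfl⟩ := hx
      refine ⟨[⇑(b.repr u)], ?_, ?_⟩
      · intro u' hu'
        rw [List.mem_singleton] at hu'
        subst hu'
        rw [← Qbc_eq_qv]
        exact hu
      · rw [toMatrix_tau', List.map_singleton, List.prod_singleton]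
    | one =>
      exact ⟨[], by simp, by simp [LinearMap.toMatrix_one]⟩
    | mul x y _ _ hx hy =>
      obtain ⟨us₁, h1, e1⟩ := hx
      obtain ⟨us₂, h2, e2⟩ := hy
      refine ⟨us₁ ++ us₂, ?_, ?_⟩
      · intro u hu
        rcases List.mem_append.mp hu with h | h
        exacts [h1 u h, h2 u h]
      · rw [LinearMap.toMatrix_mul, e1, e2, List.map_append, List.prod_append]
  obtain ⟨us, h1, h2⟩ := key g hmem
  exact ⟨us, h1, hgU ▸ h2⟩

/-- a reflection does not satisfy the Dickson condition -/
theorem refl_not_dt (hQ : QuadGrp.IsRegular Q) (A : Type u) [CommRing A]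
    [IsLocalRing A] [Algebra R A] (x₀ : A ⊗[R] (Fin (2 * m) → R)) (u : Aˣ)
    (hu : QuadGrp.baseChangeForm A Q x₀ = u) :
    ¬ QuadGrp.IsDicksonTrivial (QuadGrp.baseChangeForm A Q)
      (reflQ (QuadGrp.baseChangeForm A Q) x₀ u hu)
      (reflQ_mem_O (QuadGrp.baseChangeForm A Q) x₀ u hu) := by
  haveI : Nontrivial R := (algebraMap R A).domain_nontrivial
  have hQA := isRegular_baseChangeForm A Q hQ
  have hMA := finrank_bc (R := R) (m := m) A
  obtain ⟨y, hy⟩ := exists_good m _ (QuadGrp.baseChangeForm A Q) hQA hMA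
  have hx₀ : IsUnit (QuadGrp.baseChangeForm A Q x₀) := by
    rw [hu]
    exact u.isUnit
  rw [hy.isDicksonTrivial_iff (bas R (2 * m) A) hQA x₀ hx₀, hy.map_reflQ x₀ u hu]
  exact fun h1 => hy.ne_one_sub h1.symm

end Even

end Groth.Agent.H9.SOE
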