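import Mathlib
import Groth.Agent.Lib.Helper9.Misc.SOE4

/-! Connectedness of the geometric fibres of `SO(q)` in even rank (helper9). -/

set_option autoImplicit false

open Matrix TensorProduct QuadraticMap
open Groth.Agent.H9.SG Groth.Agent.H9.SO Groth.Agent.H9.SOD Groth.Agent.H9.QG

namespace Groth.Agent.H9.SOE

universe u

section Idem

variable {R : Type u} [CommRing R] (K : Type u) [Field K] [Algebra R K]

/-- if every geometric point is joined to a fixed one by a domain, the fibre has only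
trivial idempotents -/
theorem idem_trivial_of_paths (A₀ : Type u) [CommRing A₀] [Algebra R A₀]
    [Algebra.FiniteType R A₀]
    (L : Type u) [Field L] [IsAlgClosed L] [Algebra K L] [Algebra R L] [IsScalarTower R K L]
    (ψ₁ : A₀ →ₐ[R] L)
    (hpath : ∀ ψ : A₀ →ₐ[R] L, ∃ (D : Type u) (_ : CommRing D) (_ : IsDomain D)
      (_ : Algebra L D) (ev₀ ev₁ : D →ₐ[L] L) (γ : A₀ →+* D),
      (∀ r : R, γ (algebraMap R A₀ r) = algebraMap L D (algebraMap R L r)) ∧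
      (∀ a, ev₁ (γ a) = ψ a) ∧ (∀ a, ev₀ (γ a) = ψ₁ a)) :
    Nontrivial (K ⊗[R] A₀) ∧ ∀ e : K ⊗[R] A₀, IsIdempotentElem e → e = 0 ∨ e = 1 := by
  classical
  let y₁ : K ⊗[R] A₀ →ₐ[K] L :=
    Algebra.TensorProduct.lift (Algebra.ofId K L) ψ₁ (fun _ _ => Commute.all _ _)
  have hyk : ∀ (y' : K ⊗[R] A₀ →ₐ[K] L) (k : K), y' (k ⊗ₜ[R] 1) = algebraMap K L k := by
    intro y' k
    have : (k ⊗ₜ[R] (1 : A₀)) = algebraMap K (K ⊗[R] A₀) k := by
      rw [Algebra.TensorProduct.algebraMap_apply]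
      rfl
    rw [this, AlgHom.commutes]
  have hy : ∀ e, IsIdempotentElem e → ∀ y : K ⊗[R] A₀ →ₐ[K] L, y e = y₁ e := by
    intro e he y
    let ψ : A₀ →ₐ[R] L := (y.restrictScalars R).comp Algebra.TensorProduct.includeRight
    obtain ⟨D, iC, iD, iA, ev₀, ev₁, γ, hγR, hev1, hev0⟩ := hpath ψ
    letI : Algebra R D := ((algebraMap L D).comp (algebraMap R L)).toAlgebra
    haveI : IsScalarTower R L D := IsScalarTower.of_algebraMap_eq fun _ => rfl
    let γ' : A₀ →ₐ[R] D := { γ with commutes' := fun r => hγR r }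
    let fK : K →ₐ[R] D := (IsScalarTower.toAlgHom R L D).comp (IsScalarTower.toAlgHom R K L)
    let z : K ⊗[R] A₀ →ₐ[R] D := Algebra.TensorProduct.productMap fK γ'
    have hz : z e = 0 ∨ z e = 1 := IsIdempotentElem.iff_eq_zero_or_one.mp (he.map z)
    have hzk : ∀ k : K, z (k ⊗ₜ[R] 1) = algebraMap L D (algebraMap K L k) := by
      intro k
      simp [z, fK]
    have hza : ∀ a, z (1 ⊗ₜ[R] a) = γ a := by
      intro a
      have : z (1 ⊗ₜ[R] a) = γ' a := by simp [z]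
      exact this
    have hcmp : ∀ (ev : D →ₐ[L] L) (y' : K ⊗[R] A₀ →ₐ[K] L) (ψ' : A₀ →ₐ[R] L),
        (∀ a, y' (1 ⊗ₜ[R] a) = ψ' a) → (∀ a, ev (γ a) = ψ' a) → y' e = ev (z e) := by
      intro ev y' ψ' hy' hev
      have hFG : ((ev : D →+* L).comp (z : K ⊗[R] A₀ →+* D)) = (y' : K ⊗[R] A₀ →+* L) := by
        apply tensor_ringHom_ext
        · intro k
          show ev (z (k ⊗ₜ[R] 1)) = y' (k ⊗ₜ[R] 1)
          rw [hzk, hyk, AlgHom.commutes]
          rfl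
        · intro a
          show ev (z (1 ⊗ₜ[R] a)) = y' (1 ⊗ₜ[R] a)
          rw [hza, hy', hev]
      exact (RingHom.congr_fun hFG e).symm
    have e1 : y e = ev₁ (z e) := hcmp ev₁ y ψ (fun a => rfl) hev1
    have e0 : y₁ e = ev₀ (z e) := hcmp ev₀ y₁ ψ₁ (fun a => by simp [y₁]) hev0
    rw [e1, e0]
    rcases hz with h | h
    · rw [h, map_zero, map_zero]
    · rw [h, map_one, map_one]
  haveI : Nontrivial (K ⊗[R] A₀) := (y₁ : K ⊗[R] A₀ →+* L).domain_nontrivial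
  refine ⟨inferInstance, ?_⟩
  have key : ∀ e' : K ⊗[R] A₀, IsIdempotentElem e' → y₁ e' = 0 → e' = 0 := by
    intro e' he' h0
    have hu : IsUnit (1 - e') := by
      by_contra hnu
      obtain ⟨𝔪, hmax, hmem⟩ := exists_max_ideal_of_mem_nonunits (mem_nonunits_iff.mpr hnu)
      haveI := hmax
      letI : Field ((K ⊗[R] A₀) ⧸ 𝔪) := Ideal.Quotient.field 𝔪
      haveI : Algebra.FiniteType K ((K ⊗[R] A₀) ⧸ 𝔪) :=
        Algebra.FiniteType.of_surjective (Ideal.Quotient.mkₐ K 𝔪)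
          (Ideal.Quotient.mkₐ_surjective K 𝔪)
      haveI : Module.Finite K ((K ⊗[R] A₀) ⧸ 𝔪) :=
        finite_of_finite_type_of_isJacobsonRing K _
      haveI : Algebra.IsAlgebraic K ((K ⊗[R] A₀) ⧸ 𝔪) :=
        Algebra.IsAlgebraic.of_finite K _
      let lft : ((K ⊗[R] A₀) ⧸ 𝔪) →ₐ[K] L := IsAlgClosed.lift
      let y : K ⊗[R] A₀ →ₐ[K] L := lft.comp (Ideal.Quotient.mkₐ K 𝔪)
      have hye : y e' = 0 := by rw [hy e' he' y, h0]
      have hmk : Ideal.Quotient.mk 𝔪 e' = 0 := by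
        have h3 : lft (Ideal.Quotient.mk 𝔪 e') = 0 := hye
        exact (map_eq_zero_iff _ (RingHom.injective (lft : _ →+* L))).mp h3
      have he'm : e' ∈ 𝔪 := Ideal.Quotient.eq_zero_iff_mem.mp hmk
      have h1m : (1 : K ⊗[R] A₀) ∈ 𝔪 := by
        have := 𝔪.add_mem hmem he'm
        rwa [sub_add_cancel] at this
      exact hmax.ne_top ((Ideal.eq_top_iff_one 𝔪).mpr h1m)
    have h1 : (1 - e') * (1 - e') = (1 - e') * 1 := by
      rw [mul_one]
      exact he'.one_sub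
    have h2 := hu.mul_left_cancel h1
    exact sub_eq_self.mp h2
  intro e he
  have hL : y₁ e = 0 ∨ y₁ e = 1 := IsIdempotentElem.iff_eq_zero_or_one.mp (he.map y₁)
  rcases hL with h | h
  · exact Or.inl (key e he h)
  · right
    have := key (1 - e) he.one_sub (by rw [map_sub, map_one, h, sub_self])
    exact (sub_eq_zero.mp this).symm

theorem connectedSpace_of_idem_trivial (B : Type*) [CommRing B] [Nontrivial B]
    (hid : ∀ e : B, IsIdempotentElem e → e = 0 ∨ e = 1) :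
    ConnectedSpace (PrimeSpectrum B) := by
  haveI : PreconnectedSpace (PrimeSpectrum B) := by
    rw [preconnectedSpace_iff_clopen]
    intro s hs
    obtain ⟨e, he, rfl⟩ := PrimeSpectrum.isClopen_iff.mp hs
    rcases hid e he with rfl | rfl
    · left; simp
    · right; simp
  exact { toNonempty := inferInstance }

end Idem

section Even

variable {R : Type u} [CommRing R] {m : ℕ} (Q : QuadraticForm R (Fin (2 * m) → R))

/-- maps out of the coordinate ring of `SO(q)` -/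
noncomputable def liftASO (hQ : QuadGrp.IsRegular Q) (hm : 1 ≤ m) {C : Type u} [CommRing C]
    [Algebra R C] (ψ₀ : A0 (cQ Q) ∅ →ₐ[R] C)
    (hu : IsUnit ((ψ₀ : A0 (cQ Q) ∅ →+* C) (eI Q hQ hm))) : ASO Q hQ hm →ₐ[R] C :=
  { (IsLocalization.Away.lift (eI Q hQ hm) hu : ASO Q hQ hm →+* C) with
    commutes' := fun r => by
      show (IsLocalization.Away.lift (eI Q hQ hm) hu : ASO Q hQ hm →+* C)
        (algebraMap R (ASO Q hQ hm) r) = _
      rw [IsScalarTower.algebraMap_apply R (A0 (cQ Q) ∅) (ASO Q hQ hm),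
        IsLocalization.Away.lift_eq]
      exact ψ₀.commutes r }

theorem liftASO_algebraMap (hQ : QuadGrp.IsRegular Q) (hm : 1 ≤ m) {C : Type u} [CommRing C]
    [Algebra R C] (ψ₀ : A0 (cQ Q) ∅ →ₐ[R] C)
    (hu : IsUnit ((ψ₀ : A0 (cQ Q) ∅ →+* C) (eI Q hQ hm))) (a : A0 (cQ Q) ∅) :
    liftASO Q hQ hm ψ₀ hu (algebraMap (A0 (cQ Q) ∅) (ASO Q hQ hm) a) = ψ₀ a :=
  IsLocalization.Away.lift_eq _ hu a

theorem ASO_hom_ext (hQ : QuadGrp.IsRegular Q) (hm : 1 ≤ m) {C : Type*} [CommRing C]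
    (F G : ASO Q hQ hm →+* C)
    (h : ∀ a : A0 (cQ Q) ∅, F (algebraMap _ _ a) = G (algebraMap _ _ a)) : F = G := by
  apply IsLocalization.ringHom_ext (Submonoid.powers (eI Q hQ hm))
  ext a
  exact h a

theorem exists_path_SO (hQ : QuadGrp.IsRegular Q) (hm : 1 ≤ m)
    (L : Type u) [Field L] [IsAlgClosed L] [Algebra R L] :
    ∃ ψ₁ : ASO Q hQ hm →ₐ[R] L, ∀ ψ : ASO Q hQ hm →ₐ[R] L,
      ∃ (D : Type u) (_ : CommRing D) (_ : IsDomain D) (_ : Algebra L D)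
      (ev₀ ev₁ : D →ₐ[L] L) (γ : ASO Q hQ hm →+* D),
      (∀ r : R, γ (algebraMap R (ASO Q hQ hm) r) = algebraMap L D (algebraMap R L r)) ∧
      (∀ a, ev₁ (γ a) = ψ a) ∧ (∀ a, ev₀ (γ a) = ψ₁ a) := by
  classical
  haveI : Nontrivial R := (algebraMap R L).domain_nontrivial
  have hQL := isRegular_baseChangeForm L Q hQ
  -- the identity point
  obtain ⟨ψ₁₀, hψ₁₀, -⟩ := exists_hom (cQ Q) ∅
    (1 : Matrix (Fin (2 * m)) (Fin (2 * m)) L) 1 (one_mul 1) (one_mul 1)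
    (by
      have : defect (gr L (cQ Q)) (1 : Matrix (Fin (2 * m)) (Fin (2 * m)) L) = 0 := by
        rw [defect, transpose_one, Matrix.one_mul, Matrix.mul_one, sub_self]
      rw [this]
      exact IsAltMat.zero')
    (by simp)
  have hu₁ : IsUnit ((ψ₁₀ : A0 (cQ Q) ∅ →+* L) (eI Q hQ hm)) := by
    obtain ⟨h1O, h1D⟩ := (QuadGrp.SOeven (QuadGrp.baseChangeForm L Q)).one_mem
    refine (dt_iff_isUnit_eI Q hQ hm ψ₁₀ 1 h1O ?_).mp h1D
    refine (link ψ₁₀ (g0 Q).1 1).mpr ?_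
    rw [g0, toMatrix_equivOfMat, hψ₁₀]
    show _ = LinearMap.toMatrix _ _ LinearMap.id
    rw [LinearMap.toMatrix_id]
  refine ⟨liftASO Q hQ hm ψ₁₀ hu₁, fun ψ => ?_⟩
  -- the given point as a matrix
  let ι := IsScalarTower.toAlgHom R (A0 (cQ Q) ∅) (ASO Q hQ hm)
  let ψ₀ : A0 (cQ Q) ∅ →ₐ[R] L := ψ.comp ι
  set Uy := (ψ₀ : A0 (cQ Q) ∅ →+* L).mapMatrix (Xb (cQ Q) ∅) with hUy
  have halt : IsAltMat (defect (gr L (cQ Q)) Uy) :=
    isAlt_of_algHom ψ₀ (cQ Q) (isAlt_Xb (cQ Q) _)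
  obtain ⟨us, hus, hU⟩ := exists_refl_list_even Q L hQ Uy halt
  -- the base reflection
  obtain ⟨x₀, hx₀⟩ := exists_isUnit_value (QuadGrp.baseChangeForm L Q) hQL
    (by rw [finrank_bc]; omega)
  set w : Fin (2 * m) → L := ⇑((bas R (2 * m) L).repr x₀) with hw_def
  have hqw : qv (gr L (cQ Q)) w = QuadGrp.baseChangeForm L Q x₀ := (Qbc_eq_qv Q L x₀).symm
  have hw : qv (gr L (cQ Q)) w ≠ 0 := by
    rw [hqw]
    exact hx₀.ne_zero
  have hTT : Tm (gr L (cQ Q)) w (qv (gr L (cQ Q)) w)⁻¹ *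
      Tm (gr L (cQ Q)) w (qv (gr L (cQ Q)) w)⁻¹ = 1 :=
    Tm_mul_self _ _ _ (mul_inv_cancel₀ hw)
  obtain ⟨D, iC, iD, iA, ev₀, ev₁, U, V, hUV, hVU, haltD, hdetD, hev1, hev0⟩ :=
    exists_path (gr L (cQ Q)) w hw us hus
  letI : Algebra R D := ((algebraMap L D).comp (algebraMap R L)).toAlgebra
  haveI : IsScalarTower R L D := IsScalarTower.of_algebraMap_eq fun _ => rfl
  have haltD' : IsAltMat (defect (gr D (cQ Q)) U) := by
    rw [← gr_tower L D (cQ Q)]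
    exact haltD
  obtain ⟨γ₀, hγ₀, -⟩ := exists_hom (cQ Q) ∅ U V hUV hVU haltD' (by simp)
  have hmapcomp : ∀ ev : D →ₐ[L] L,
      (((ev.restrictScalars R).comp γ₀ : A0 (cQ Q) ∅ →ₐ[R] L) :
        A0 (cQ Q) ∅ →+* L).mapMatrix (Xb (cQ Q) ∅) = (ev : D →+* L).mapMatrix U := by
    intro ev
    rw [← hγ₀]
    ext i j
    rfl
  have h_ev1 : (ev₁.restrictScalars R).comp γ₀ = ψ₀ := by
    apply hom_ext_Xb (cQ Q) ∅
    rw [hmapcomp, hev1, ← hU]
  -- the idempotent is `1` on the path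
  have hψe : IsUnit (ψ₀ (eI Q hQ hm)) :=
    (IsLocalization.Away.algebraMap_isUnit (S := ASO Q hQ hm) (eI Q hQ hm)).map ψ
  have hγe : γ₀ (eI Q hQ hm) = 1 := by
    rcases IsIdempotentElem.iff_eq_zero_or_one.mp ((eI_idem Q hQ hm).map γ₀) with h | h
    · exfalso
      have h2 : ψ₀ (eI Q hQ hm) = ev₁ (γ₀ (eI Q hQ hm)) :=
        (AlgHom.congr_fun h_ev1 (eI Q hQ hm)).symm
      rw [h, map_zero] at h2
      exact hψe.ne_zero h2
    · exact h
  have huγ : IsUnit ((γ₀ : A0 (cQ Q) ∅ →+* D) (eI Q hQ hm)) := by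
    show IsUnit (γ₀ (eI Q hQ hm))
    rw [hγe]
    exact isUnit_one
  -- the parity of the number of reflections
  have hT : (Tm (gr L (cQ Q)) w (qv (gr L (cQ Q)) w)⁻¹) ^ us.length = 1 := by
    rcases Nat.even_or_odd us.length with hev | hodd
    · obtain ⟨j, hj⟩ := hev
      rw [hj, ← two_mul, pow_mul, pow_two, hTT, one_pow]
    · exfalso
      obtain ⟨j, hj⟩ := hodd
      have hTk : (Tm (gr L (cQ Q)) w (qv (gr L (cQ Q)) w)⁻¹) ^ us.length =
          Tm (gr L (cQ Q)) w (qv (gr L (cQ Q)) w)⁻¹ := by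
        rw [hj, pow_succ, pow_mul, pow_two, hTT, one_pow, one_mul]
      have hu0 : QuadGrp.baseChangeForm L Q x₀ = (hx₀.unit : Lˣ) := hx₀.unit_spec.symm
      have hlink0 : ∀ x : Fin (2 * m) → R,
          reflQ (QuadGrp.baseChangeForm L Q) x₀ hx₀.unit hu0 (1 ⊗ₜ[R] x) =
            LinearMap.rTensor (Fin (2 * m) → R)
              ((ev₀.restrictScalars R).comp γ₀).toLinearMap ((g0 Q).1 (1 ⊗ₜ[R] x)) := by
        refine (link ((ev₀.restrictScalars R).comp γ₀) (g0 Q).1 _).mpr ?_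
        rw [g0, toMatrix_equivOfMat, hmapcomp, hev0, hTk, toMatrix_reflQ, ← hw_def, hqw,
          Units.val_inv_eq_inv_val, hx₀.unit_spec]
      have hdt := (dt_iff_isUnit_eI Q hQ hm ((ev₀.restrictScalars R).comp γ₀) _
        (reflQ_mem_O (QuadGrp.baseChangeForm L Q) x₀ hx₀.unit hu0) hlink0).mpr (by
          show IsUnit (ev₀ (γ₀ (eI Q hQ hm)))
          rw [hγe, map_one]
          exact isUnit_one)
      exact refl_not_dt Q hQ L x₀ hx₀.unit hu0 hdt
  have h_ev0 : (ev₀.restrictScalars R).comp γ₀ = ψ₁₀ := by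
    apply hom_ext_Xb (cQ Q) ∅
    rw [hmapcomp, hev0, hT, hψ₁₀]
  refine ⟨D, iC, iD, iA, ev₀, ev₁, (liftASO Q hQ hm γ₀ huγ : ASO Q hQ hm →+* D), ?_, ?_, ?_⟩
  · intro r
    exact (liftASO Q hQ hm γ₀ huγ).commutes r
  · intro a
    have := ASO_hom_ext Q hQ hm
      ((ev₁ : D →+* L).comp (liftASO Q hQ hm γ₀ huγ : ASO Q hQ hm →+* D))
      (ψ : ASO Q hQ hm →+* L) (fun a => by
        show ev₁ (liftASO Q hQ hm γ₀ huγ (algebraMap _ _ a)) = ψ (algebraMap _ _ a)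
        rw [liftASO_algebraMap]
        exact AlgHom.congr_fun h_ev1 a)
    exact RingHom.congr_fun this a
  · intro a
    have := ASO_hom_ext Q hQ hm
      ((ev₀ : D →+* L).comp (liftASO Q hQ hm γ₀ huγ : ASO Q hQ hm →+* D))
      (liftASO Q hQ hm ψ₁₀ hu₁ : ASO Q hQ hm →+* L) (fun a => by
        show ev₀ (liftASO Q hQ hm γ₀ huγ (algebraMap _ _ a)) =
          liftASO Q hQ hm ψ₁₀ hu₁ (algebraMap _ _ a)
        rw [liftASO_algebraMap, liftASO_algebraMap]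
        exact AlgHom.congr_fun h_ev0 a)
    exact RingHom.congr_fun this a

theorem connectedSpace_fiber_alg_even (hQ : QuadGrp.IsRegular Q) (hm : 1 ≤ m)
    (K : Type u) [Field K] [Algebra R K] :
    ConnectedSpace (PrimeSpectrum (K ⊗[R] ASO Q hQ hm)) := by
  haveI : Algebra.FinitePresentation R (A0 (cQ Q) ∅) :=
    finitePresentation_A0 (cQ Q) ∅ Set.finite_empty
  haveI : Algebra.FiniteType R (ASO Q hQ hm) := inferInstance
  obtain ⟨ψ₁, hpath⟩ := exists_path_SO Q hQ hm (AlgebraicClosure K)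
  obtain ⟨hnt, hid⟩ := idem_trivial_of_paths K (ASO Q hQ hm) (AlgebraicClosure K) ψ₁ hpath
  haveI := hnt
  exact connectedSpace_of_idem_trivial _ hid

end Even

end Groth.Agent.H9.SOE
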