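import Mathlib
import Groth.Agent.Lib.Helper9.Misc.SOE5
import Groth.Agent.Lib.Helper9.Misc.SOD9

/-! `SO(q)` in even rank: smooth of relative dimension `m(2m-1)` with connected fibres
(helper9). -/

set_option autoImplicit false

open Matrix TensorProduct CategoryTheory AlgebraicGeometry MonObj
open Groth.Agent.H9.SG Groth.Agent.H9.SO Groth.Agent.H9.SOD

namespace Groth.Agent.H9.SOE

universe u

section Scheme

variable {R : Type u} [CommRing R] {M : Type u} [AddCommGroup M] [Module R M]
  {S : ∀ (A : Type u) [CommRing A] [Algebra R A], Subgroup ((A ⊗[R] M) ≃ₗ[A] (A ⊗[R] M))}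
  {G : Over (Spec (CommRingCat.of R))} [GrpObj G]

/-- connected fibres from the universal object -/
theorem connectedSpace_fiber_of_universal (D : QuadGrp.LinRep R M S G)
    (A₀ : Type u) [CommRing A₀] [Algebra R A₀] (g₀ : ↥(S A₀)) (hrep : IsUniversal S A₀ g₀)
    (hconn : ∀ (K : Type u) [Field K] [Algebra R K], ConnectedSpace (PrimeSpectrum (K ⊗[R] A₀)))
    (s : ↥(Spec (CommRingCat.of R))) : ConnectedSpace ↥(G.hom.fiber s) := by
  let i : Spec (CommRingCat.of A₀) ⟶ G.left := ((D.pts A₀).symm g₀).left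
  haveI : IsIso i := isIso_universal_point D A₀ g₀ hrep
  have hw : i ≫ G.hom = Spec.map (CommRingCat.ofHom (algebraMap R A₀)) :=
    universal_point_w D A₀ g₀
  let p : PrimeSpectrum R := s
  haveI : ConnectedSpace (PrimeSpectrum (p.asIdeal.Fiber A₀)) := hconn p.asIdeal.ResidueField
  let h := PrimeSpectrum.preimageHomeomorphFiber R A₀ p
  have hcomap : ∀ x' : PrimeSpectrum A₀,
      G.hom (i (x' : ↥(Spec (CommRingCat.of A₀)))) =
        PrimeSpectrum.comap (algebraMap R A₀) x' := by
    intro x'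
    rw [← Scheme.Hom.comp_apply, hw]
    rfl
  have hmem : ∀ x : PrimeSpectrum (p.asIdeal.Fiber A₀),
      i ((h.symm x).1 : ↥(Spec (CommRingCat.of A₀))) ∈ G.hom ⁻¹' {s} := by
    intro x
    rw [Set.mem_preimage, Set.mem_singleton_iff, hcomap]
    exact (h.symm x).2
  let Φ : PrimeSpectrum (p.asIdeal.Fiber A₀) → ↥(G.hom ⁻¹' {s}) := fun x => ⟨_, hmem x⟩
  have hΦc : Continuous Φ :=
    Continuous.subtype_mk
      (i.continuous.comp (continuous_subtype_val.comp h.symm.continuous)) _
  have hΦs : Function.Surjective Φ := by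
    rintro ⟨g, hg⟩
    obtain ⟨x', rfl⟩ := i.homeomorph.surjective g
    have hx' : PrimeSpectrum.comap (algebraMap R A₀) (x' : PrimeSpectrum A₀) = p := by
      rw [← hcomap]
      exact hg
    refine ⟨h ⟨x', hx'⟩, ?_⟩
    apply Subtype.ext
    show i ((h.symm (h ⟨x', hx'⟩)).1 : ↥(Spec (CommRingCat.of A₀))) = _
    rw [Homeomorph.symm_apply_apply]
    rfl
  haveI : ConnectedSpace ↥(G.hom ⁻¹' {s}) := hΦs.connectedSpace hΦc
  exact (G.hom.fiberHomeo s).symm.surjective.connectedSpace (G.hom.fiberHomeo s).symm.continuous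

end Scheme

section Even

variable {R : Type u} [CommRing R] {m : ℕ} (Q : QuadraticForm R (Fin (2 * m) → R))

theorem locally_relDim_ASO (hQ : QuadGrp.IsRegular Q) (hm : 1 ≤ m) :
    RingHom.Locally (RingHom.IsStandardSmoothOfRelativeDimension (m * (2 * m - 1)))
      (algebraMap R (ASO Q hQ hm)) := by
  have h : AlgebraicGeometry.SmoothOfRelativeDimension (0 + m * (2 * m - 1))
      (Spec.map (CommRingCat.ofHom (algebraMap R (ASO Q hQ hm)))) := by
    have e : Spec.map (CommRingCat.ofHom (algebraMap R (ASO Q hQ hm))) =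
        Spec.map (CommRingCat.ofHom (algebraMap (A0 (cQ Q) ∅) (ASO Q hQ hm))) ≫
          Spec.map (CommRingCat.ofHom (algebraMap R (A0 (cQ Q) ∅))) := by
      rw [← Spec.map_comp, ← CommRingCat.ofHom_comp,
        ← IsScalarTower.algebraMap_eq R (A0 (cQ Q) ∅) (ASO Q hQ hm)]
    rw [e]
    haveI := smoothOfRelativeDimension_O Q hQ
    exact smoothOfRelativeDimension_comp 0 (m * (2 * m - 1)) _ _
  rw [zero_add,
    HasRingHomProperty.Spec_iff (P := @AlgebraicGeometry.SmoothOfRelativeDimension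
      (m * (2 * m - 1)))] at h
  exact h

/-- `SO(q)` in even rank: smooth of relative dimension `m(2m-1)` with connected fibres -/
theorem SO_even_main (hQ : QuadGrp.IsRegular Q) (hm : 1 ≤ m)
    (G : Over (Spec (CommRingCat.of R))) [GrpObj G] (D : QuadGrp.SOrthRep Q G) :
    AlgebraicGeometry.SmoothOfRelativeDimension (m * (2 * m - 1)) G.hom ∧
      ∀ s : ↥(Spec (CommRingCat.of R)), ConnectedSpace ↥(G.hom.fiber s) := by
  refine ⟨?_, fun s => ?_⟩
  · rw [relDim_iff_of_universal D (ASO Q hQ hm) (gSO Q hQ hm) (isUniversal_SO Q hQ hm)]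
    exact locally_relDim_ASO Q hQ hm
  · exact connectedSpace_fiber_of_universal D (ASO Q hQ hm) (gSO Q hQ hm)
      (isUniversal_SO Q hQ hm) (fun K _ _ => connectedSpace_fiber_alg_even Q hQ hm K) s

end Even

end Groth.Agent.H9.SOE
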