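import Mathlib

/-! Helper9: S18961 part 1 — graded lifts of a basis of the conormal module of the irrelevant ideal generate the graded algebra. -/

set_option linter.style.haveILetI false
set_option linter.unusedSectionVars false

namespace Groth.Agent.H9.SPB

open DirectSum

variable {A B : Type*} [CommRing A] [CommRing B] [Algebra A B]
  (𝒜 : ℕ → Submodule A B) [GradedAlgebra 𝒜]

/-- The irrelevant ideal. -/
abbrev irr : Ideal B := (HomogeneousIdeal.irrelevant 𝒜).toIdeal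

theorem sq_isHomogeneous : (irr 𝒜 ^ 2).IsHomogeneous 𝒜 := by
  rw [pow_two]
  exact (HomogeneousIdeal.irrelevant 𝒜).isHomogeneous.mul
    (HomogeneousIdeal.irrelevant 𝒜).isHomogeneous

theorem proj_mem_sq {b : B} (hb : b ∈ irr 𝒜 ^ 2) (n : ℕ) :
    GradedAlgebra.proj 𝒜 n b ∈ irr 𝒜 ^ 2 := sq_isHomogeneous 𝒜 n hb

theorem proj_mem_irr {b : B} (hb : b ∈ irr 𝒜) (n : ℕ) :
    GradedAlgebra.proj 𝒜 n b ∈ irr 𝒜 := (HomogeneousIdeal.irrelevant 𝒜).isHomogeneous n hb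

theorem proj_zero_of_mem_irr {b : B} (hb : b ∈ irr 𝒜) : GradedAlgebra.proj 𝒜 0 b = 0 := hb

theorem proj_proj (n m : ℕ) (b : B) :
    GradedAlgebra.proj 𝒜 n (GradedAlgebra.proj 𝒜 m b) =
      if n = m then GradedAlgebra.proj 𝒜 m b else 0 := by
  classical
  rw [GradedAlgebra.proj_apply, GradedAlgebra.proj_apply]
  split_ifs with h
  · subst h
    rw [decompose_of_mem_same]
    exact SetLike.coe_mem _
  · rw [decompose_of_mem_ne 𝒜 (SetLike.coe_mem _) (Ne.symm h)]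

theorem proj_mem (n : ℕ) (b : B) : GradedAlgebra.proj 𝒜 n b ∈ 𝒜 n := by
  rw [GradedAlgebra.proj_apply]; exact SetLike.coe_mem _

theorem proj_of_mem {n : ℕ} {b : B} (hb : b ∈ 𝒜 n) : GradedAlgebra.proj 𝒜 n b = b := by
  rw [GradedAlgebra.proj_apply, decompose_of_mem_same 𝒜 hb]

/-- Degree-`n` parts of elements of `I²` lie in any subalgebra containing all lower degrees. -/
theorem proj_mem_of_mem_sq (B' : Subalgebra A B) (n : ℕ)
    (hlt : ∀ m < n, ∀ b ∈ 𝒜 m, b ∈ B') :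
    ∀ c ∈ irr 𝒜 ^ 2, GradedAlgebra.proj 𝒜 n c ∈ B' := by
  intro c hc
  rw [pow_two] at hc
  refine Submodule.mul_induction_on hc ?_ ?_
  · intro u hu v hv
    rw [GradedAlgebra.proj_apply, decompose_mul, coe_mul_apply_eq_sum_antidiagonal]
    refine Subalgebra.sum_mem _ fun ij hij => ?_
    have hij := Finset.HasAntidiagonal.mem_antidiagonal.mp hij
    by_cases h1 : ij.1 = 0
    · have : ((decompose 𝒜 u ij.1 : 𝒜 ij.1) : B) = 0 := by
        rw [h1]; exact hu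
      rw [this, zero_mul]; exact zero_mem _
    by_cases h2 : ij.2 = 0
    · have : ((decompose 𝒜 v ij.2 : 𝒜 ij.2) : B) = 0 := by
        rw [h2]; exact hv
      rw [this, mul_zero]; exact zero_mem _
    exact mul_mem (hlt _ (by omega) _ (SetLike.coe_mem _)) (hlt _ (by omega) _ (SetLike.coe_mem _))
  · intro x y hx hy
    rw [map_add]
    exact add_mem hx hy


section Section

variable {r : ℕ}

theorem toCotangent_sum {I : Ideal B} (e : I.Cotangent ≃ₗ[A] (Fin r → A)) (c : Fin r → B)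
    (hc : ∀ j, c j ∈ I) (hce : ∀ j, I.toCotangent ⟨c j, hc j⟩ = e.symm (Pi.single j 1))
    (a : Fin r → A) : I.toCotangent (∑ j, a j • (⟨c j, hc j⟩ : I)) = e.symm a := by
  rw [map_sum]
  have h1 : ∀ j, I.toCotangent (a j • (⟨c j, hc j⟩ : I)) = a j • e.symm (Pi.single j 1) := by
    intro j
    rw [LinearMap.map_smul_of_tower, hce]
  rw [Finset.sum_congr rfl (fun j _ => h1 j)]
  have h2 : a = ∑ j, a j • (Pi.single j 1 : Fin r → A) := by
    ext i
    simp [Finset.sum_apply, Pi.single_apply]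
  conv_rhs => rw [h2]
  rw [map_sum]
  simp_rw [map_smul]

theorem coe_sum_smul {I : Ideal B} (c : Fin r → B) (hc : ∀ j, c j ∈ I) (a : Fin r → A) :
    ((∑ j, a j • (⟨c j, hc j⟩ : I) : I) : B) = ∑ j, a j • c j := by
  rw [Submodule.coe_sum]
  rfl

variable (e : (irr 𝒜).Cotangent ≃ₗ[A] (Fin r → A))

/-- `b ↦ b - b₀` as a linear map into the irrelevant ideal. -/
noncomputable def rho : B →ₗ[A] (irr 𝒜) where
  toFun b := ⟨b - GradedAlgebra.proj 𝒜 0 b, by
    show GradedAlgebra.proj 𝒜 0 (b - GradedAlgebra.proj 𝒜 0 b) = 0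
    rw [map_sub, proj_proj, if_pos rfl, sub_self]⟩
  map_add' x y := by
    ext
    simp only [map_add, Submodule.coe_add]
    ring
  map_smul' a x := by
    ext
    simp only [map_smul, RingHom.id_apply, Submodule.coe_smul_of_tower, smul_sub]

theorem rho_of_mem {b : B} (hb : b ∈ irr 𝒜) : rho 𝒜 b = ⟨b, hb⟩ := by
  ext
  show b - GradedAlgebra.proj 𝒜 0 b = b
  rw [proj_zero_of_mem_irr 𝒜 hb, sub_zero]

/-- coordinates with respect to `e` -/
noncomputable def coords : B →ₗ[A] (Fin r → A) :=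
  e.toLinearMap ∘ₗ ((irr 𝒜).toCotangent.restrictScalars A) ∘ₗ rho 𝒜

theorem coords_of_mem {b : B} (hb : b ∈ irr 𝒜) :
    coords 𝒜 e b = e ((irr 𝒜).toCotangent ⟨b, hb⟩) := by
  simp only [coords, LinearMap.comp_apply, rho_of_mem 𝒜 hb]
  rfl

theorem coords_of_mem_sq {b : B} (hb : b ∈ irr 𝒜 ^ 2) : coords 𝒜 e b = 0 := by
  have hb' : b ∈ irr 𝒜 := Ideal.pow_le_self two_ne_zero hb
  rw [coords_of_mem 𝒜 e hb']
  have : (irr 𝒜).toCotangent ⟨b, hb'⟩ = 0 := by rw [Ideal.toCotangent_eq_zero]; exact hb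
  rw [this, map_zero]

variable (c : Fin r → B)

/-- the (non-graded) section composed with the projection -/
noncomputable def lam : B →ₗ[A] B :=
  ∑ j, ((LinearMap.proj j).comp (coords 𝒜 e)).smulRight (c j)

theorem lam_apply (b : B) : lam 𝒜 e c b = ∑ j, coords 𝒜 e b j • c j := by
  simp [lam, LinearMap.sum_apply]

theorem lam_of_mem_sq {b : B} (hb : b ∈ irr 𝒜 ^ 2) : lam 𝒜 e c b = 0 := by
  rw [lam_apply]
  simp [coords_of_mem_sq 𝒜 e hb]

/-- the graded section composed with the projection -/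
noncomputable def sig : B →ₗ[A] B :=
  (DirectSum.toModule A ℕ B
    (fun n => (GradedAlgebra.proj 𝒜 n) ∘ₗ (lam 𝒜 e c) ∘ₗ (𝒜 n).subtype)) ∘ₗ
    (decomposeLinearEquiv 𝒜).toLinearMap

theorem sig_of_mem {n : ℕ} {b : B} (hb : b ∈ 𝒜 n) :
    sig 𝒜 e c b = GradedAlgebra.proj 𝒜 n (lam 𝒜 e c b) := by
  simp only [sig, LinearMap.comp_apply, LinearEquiv.coe_coe, decomposeLinearEquiv_apply]
  rw [decompose_of_mem 𝒜 hb]
  erw [toModule_lof]
  rfl

open Classical in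
theorem sig_eq_sum (b : B) : sig 𝒜 e c b = ∑ n ∈ (decompose 𝒜 b).support,
    GradedAlgebra.proj 𝒜 n (lam 𝒜 e c (GradedAlgebra.proj 𝒜 n b)) := by
  classical
  have hb := sum_support_decompose 𝒜 b
  calc sig 𝒜 e c b = sig 𝒜 e c (∑ i ∈ (decompose 𝒜 b).support, ((decompose 𝒜 b i : 𝒜 i) : B)) := by
        rw [hb]
    _ = _ := by
      rw [map_sum]
      refine Finset.sum_congr rfl fun n _ => ?_
      rw [sig_of_mem 𝒜 e c (SetLike.coe_mem _)]
      rfl

theorem sig_of_mem_sq {b : B} (hb : b ∈ irr 𝒜 ^ 2) : sig 𝒜 e c b = 0 := by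
  classical
  rw [sig_eq_sum]
  refine Finset.sum_eq_zero fun n _ => ?_
  rw [lam_of_mem_sq 𝒜 e c (proj_mem_sq 𝒜 hb n), map_zero]

variable (hc : ∀ j, c j ∈ irr 𝒜)
  (hce : ∀ j, (irr 𝒜).toCotangent ⟨c j, hc j⟩ = e.symm (Pi.single j 1))

include hce in
theorem sub_lam_mem_sq {b : B} (hb : b ∈ irr 𝒜) : b - lam 𝒜 e c b ∈ irr 𝒜 ^ 2 := by
  rw [lam_apply]
  have h1 := toCotangent_sum e c hc hce (coords 𝒜 e b)
  rw [coords_of_mem 𝒜 e hb, LinearEquiv.symm_apply_apply] at h1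
  have h2 := (Ideal.toCotangent_eq (I := irr 𝒜)).mp h1.symm
  rw [coe_sum_smul] at h2
  rw [coords_of_mem 𝒜 e hb]
  exact h2

include hce in
theorem sub_sig_mem_sq {b : B} (hb : b ∈ irr 𝒜) : b - sig 𝒜 e c b ∈ irr 𝒜 ^ 2 := by
  classical
  have hsum := sum_support_decompose 𝒜 b
  have : b - sig 𝒜 e c b = ∑ n ∈ (decompose 𝒜 b).support,
      GradedAlgebra.proj 𝒜 n (GradedAlgebra.proj 𝒜 n b -
        lam 𝒜 e c (GradedAlgebra.proj 𝒜 n b)) := by
    rw [sig_eq_sum]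
    nth_rewrite 1 [← hsum]
    rw [← Finset.sum_sub_distrib (fun n => ((decompose 𝒜 b n : 𝒜 n) : B))
      (fun n => GradedAlgebra.proj 𝒜 n (lam 𝒜 e c (GradedAlgebra.proj 𝒜 n b)))]
    refine Finset.sum_congr rfl fun n _ => ?_
    rw [map_sub, proj_proj, if_pos rfl]
    rfl
  rw [this]
  refine Ideal.sum_mem _ fun n _ => ?_
  exact proj_mem_sq 𝒜 (sub_lam_mem_sq 𝒜 e c hc hce (proj_mem_irr 𝒜 hb n)) n

include hce in
theorem sig_mem {b : B} (hb : b ∈ irr 𝒜) : sig 𝒜 e c b ∈ irr 𝒜 := by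
  have h1 := Ideal.pow_le_self two_ne_zero (sub_sig_mem_sq 𝒜 e c hc hce hb)
  have h2 := Ideal.sub_mem _ hb h1
  simpa using h2

include hce in
theorem toCotangent_sig {b : B} (hb : b ∈ irr 𝒜) :
    (irr 𝒜).toCotangent ⟨sig 𝒜 e c b, sig_mem 𝒜 e c hc hce hb⟩ =
      (irr 𝒜).toCotangent ⟨b, hb⟩ := by
  rw [Ideal.toCotangent_eq]
  have := sub_sig_mem_sq 𝒜 e c hc hce hb
  rw [← neg_sub]
  exact neg_mem this

include hce in
theorem sig_eq {b : B} (hb : b ∈ irr 𝒜) :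
    sig 𝒜 e c b = ∑ j, coords 𝒜 e b j • sig 𝒜 e c (c j) := by
  have h1 := sig_of_mem_sq 𝒜 e c (sub_lam_mem_sq 𝒜 e c hc hce hb)
  rw [map_sub, sub_eq_zero] at h1
  rw [h1, lam_apply, map_sum]
  simp_rw [map_smul]

include hce in
theorem adjoin_eq_top (h0 : ∀ b : B, b ∈ 𝒜 0 ↔ b ∈ Set.range (algebraMap A B)) :
    Algebra.adjoin A (Set.range fun j => sig 𝒜 e c (c j)) = ⊤ := by
  classical
  set B' := Algebra.adjoin A (Set.range fun j => sig 𝒜 e c (c j)) with hB'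
  have hx : ∀ j, sig 𝒜 e c (c j) ∈ B' := fun j => Algebra.subset_adjoin ⟨j, rfl⟩
  have key : ∀ n, ∀ b ∈ 𝒜 n, b ∈ B' := by
    intro n
    induction n using Nat.strong_induction_on with
    | _ n ih =>
      intro b hb
      rcases Nat.eq_zero_or_pos n with rfl | hn
      · obtain ⟨a, rfl⟩ := (h0 b).mp hb
        exact Subalgebra.algebraMap_mem _ a
      · have hbI : b ∈ irr 𝒜 := HomogeneousIdeal.mem_irrelevant_of_mem _ hn hb
        have h1 : sig 𝒜 e c b ∈ B' := by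
          rw [sig_eq 𝒜 e c hc hce hbI]
          exact sum_mem fun j _ => Subalgebra.smul_mem _ (hx j) _
        have h2 : b - sig 𝒜 e c b ∈ irr 𝒜 ^ 2 := sub_sig_mem_sq 𝒜 e c hc hce hbI
        have h3 : b - sig 𝒜 e c b ∈ 𝒜 n :=
          sub_mem hb (by rw [sig_of_mem 𝒜 e c hb]; exact proj_mem 𝒜 n _)
        have h4 := proj_mem_of_mem_sq 𝒜 B' n ih _ h2
        rw [proj_of_mem 𝒜 h3] at h4
        have := add_mem h4 h1
        simpa using this
  rw [eq_top_iff]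
  intro b _
  rw [← sum_support_decompose 𝒜 b]
  exact sum_mem fun n _ => key n _ (SetLike.coe_mem _)

/-- Summary: graded lifts of a basis of the conormal module generating `B`. -/
theorem exists_lifts (h0 : ∀ b : B, b ∈ 𝒜 0 ↔ b ∈ Set.range (algebraMap A B))
    (e : (irr 𝒜).Cotangent ≃ₗ[A] (Fin r → A)) :
    ∃ (x : Fin r → B) (hx : ∀ j, x j ∈ irr 𝒜),
      (∀ j, (irr 𝒜).toCotangent ⟨x j, hx j⟩ = e.symm (Pi.single j 1)) ∧
      Algebra.adjoin A (Set.range x) = ⊤ := by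
  have hch : ∀ j : Fin r, ∃ y : irr 𝒜, (irr 𝒜).toCotangent y = e.symm (Pi.single j 1) :=
    fun j => Ideal.toCotangent_surjective _ _
  choose y hy using hch
  let c : Fin r → B := fun j => (y j : B)
  have hc : ∀ j, c j ∈ irr 𝒜 := fun j => (y j).2
  have hce : ∀ j, (irr 𝒜).toCotangent ⟨c j, hc j⟩ = e.symm (Pi.single j 1) := fun j => hy j
  refine ⟨fun j => sig 𝒜 e c (c j), fun j => sig_mem 𝒜 e c hc hce (hc j), fun j => ?_,
    adjoin_eq_top 𝒜 e c hc hce h0⟩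
  rw [toCotangent_sig 𝒜 e c hc hce (hc j)]
  exact hce j

end Section

end Groth.Agent.H9.SPB
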