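import Mathlib
import Groth.Agent.Lib.Helper8.SmCompl.Main
import Groth.Agent.Lib.Helper9.Misc.SPB1

/-! Helper9: S18961 part 2 — injectivity of the polynomial presentation from formal smoothness of a principal localization around the zero section (variant of helper8 SmCompl). -/

set_option linter.style.haveILetI false
set_option linter.unusedSectionVars false

namespace Groth.Agent.H9.SPB

open MvPolynomial Groth.Agent.H8.SmCompl

section Abstract

variable {R P S : Type*} [CommRing R] [CommRing P] [CommRing S] [Algebra R P] [Algebra R S]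

/-- Variant of helper8's `mem_pow_of_map_mem` with formal smoothness replaced by the existence
of liftings. -/
theorem mem_pow_of_map_mem' (J : Ideal P) (I : Ideal S)
    (φ : P →ₐ[R] S) (hJI : ∀ n, J ^ n ≤ (I ^ n).comap φ) (n : ℕ) (hn2 : 2 ≤ n)
    (hlift : ∀ (g : (P ⧸ J ^ n) →ₐ[R] (S ⧸ I ^ n)), Function.Surjective g →
      IsNilpotent (RingHom.ker (g : (P ⧸ J ^ n) →+* (S ⧸ I ^ n))) →
      ∃ ψ : S →ₐ[R] (P ⧸ J ^ n), ∀ s, g (ψ s) = Ideal.Quotient.mk (I ^ n) s)
    (h1 : ∀ q, φ q ∈ I → q ∈ J) (h2 : ∀ q, φ q ∈ I ^ 2 → q ∈ J ^ 2)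
    (hsurj : ∀ s, ∃ q, s - φ q ∈ I ^ n) (p : P) (h : φ p ∈ I ^ n) : p ∈ J ^ n := by
  let mkJ : P →ₐ[R] (P ⧸ J ^ n) := Ideal.Quotient.mkₐ R (J ^ n)
  have hmkJ : Function.Surjective mkJ := Ideal.Quotient.mkₐ_surjective R _
  let g := truncMap J I φ hJI n
  have hgmk : ∀ q, g (mkJ q) = Ideal.Quotient.mk (I ^ n) (φ q) := fun q => rfl
  have hg : Function.Surjective g := by
    intro y
    obtain ⟨s, rfl⟩ := Ideal.Quotient.mk_surjective y
    obtain ⟨q, hq⟩ := hsurj s
    refine ⟨mkJ q, ?_⟩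
    rw [hgmk, eq_comm, Ideal.Quotient.eq]
    exact hq
  have hker : ∀ b, g b = 0 → ∃ q ∈ J ^ 2, mkJ q = b := by
    intro b hb
    obtain ⟨q, rfl⟩ := hmkJ b
    rw [hgmk, Ideal.Quotient.eq_zero_iff_mem] at hb
    exact ⟨q, h2 q (Ideal.pow_le_pow_right hn2 hb), rfl⟩
  have hmapJ : (J.map mkJ) ^ n = ⊥ := by
    rw [← Ideal.map_pow]
    exact Ideal.map_quotient_self _
  have hnil : IsNilpotent (RingHom.ker (g : (P ⧸ J ^ n) →+* (S ⧸ I ^ n))) := by
    refine ⟨n, ?_⟩
    rw [Ideal.zero_eq_bot, ← le_bot_iff, ← hmapJ]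
    refine Ideal.pow_right_mono ?_ n
    intro b hb
    obtain ⟨q, hq, rfl⟩ := hker b hb
    exact Ideal.mem_map_of_mem _ (Ideal.pow_le_self two_ne_zero hq)
  obtain ⟨ψ, hψ⟩ := hlift g hg hnil
  have ha : ∀ q, ∃ r ∈ J ^ 2, ψ (φ q) - mkJ q = mkJ r := by
    intro q
    obtain ⟨r, hr, hr'⟩ := hker (ψ (φ q) - mkJ q) (by rw [map_sub, hψ, hgmk, sub_self])
    exact ⟨r, hr, hr'.symm⟩
  have hc : ∀ k, ∀ q ∈ J ^ k, ψ (φ q) - mkJ q ∈ (J ^ (k + 1)).map mkJ := by
    intro k
    induction k with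
    | zero =>
      intro q _
      obtain ⟨r, hr, hr'⟩ := ha q
      rw [hr']
      exact Ideal.mem_map_of_mem _ (Ideal.pow_le_pow_right (by norm_num) hr)
    | succ k ih =>
      intro q hq
      rw [pow_succ] at hq
      refine Submodule.mul_induction_on hq ?_ ?_
      · intro a ha' b hb
        have h1 : ψ (φ (a * b)) - mkJ (a * b) =
            (ψ (φ a) - mkJ a) * ψ (φ b) + mkJ a * (ψ (φ b) - mkJ b) := by
          simp only [map_mul]; ring
        rw [h1]
        refine Ideal.add_mem _ ?_ ?_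
        · have h2 : ψ (φ b) ∈ J.map mkJ := by
            obtain ⟨r, hr, hr'⟩ := ha b
            have : ψ (φ b) = mkJ b + mkJ r := by rw [← hr']; ring
            rw [this]
            exact Ideal.add_mem _ (Ideal.mem_map_of_mem _ hb)
              (Ideal.mem_map_of_mem _ (Ideal.pow_le_self two_ne_zero hr))
          rw [pow_succ (J) (k + 1), Ideal.map_mul]
          exact Ideal.mul_mem_mul (ih a ha') h2
        · obtain ⟨r, hr, hr'⟩ := ha b
          rw [hr']
          have h3 : J ^ (k + 1 + 1) = J ^ k * J ^ 2 := by rw [← pow_add]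
          rw [h3, Ideal.map_mul]
          exact Ideal.mul_mem_mul (Ideal.mem_map_of_mem _ ha') (Ideal.mem_map_of_mem _ hr)
      · intro x y hx hy
        have : ψ (φ (x + y)) - mkJ (x + y) = (ψ (φ x) - mkJ x) + (ψ (φ y) - mkJ y) := by
          simp only [map_add]; ring
        rw [this]
        exact Ideal.add_mem _ hx hy
  have hψI : I ≤ (J.map mkJ).comap ψ := by
    intro s hs
    rw [Ideal.mem_comap]
    obtain ⟨q, hq⟩ := hmkJ (ψ s)
    have h1' : Ideal.Quotient.mk (I ^ n) (φ q) = Ideal.Quotient.mk (I ^ n) s := by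
      rw [← hgmk, hq, hψ]
    rw [Ideal.Quotient.eq] at h1'
    have h2' : φ q ∈ I := by
      have := Ideal.add_mem _ (Ideal.pow_le_self (by omega) h1') hs
      simpa using this
    rw [← hq]
    exact Ideal.mem_map_of_mem _ (h1 q h2')
  have hψ0 : ψ (φ p) = 0 := by
    have h1' : I ^ n ≤ ((J.map mkJ) ^ n).comap ψ :=
      le_trans (Ideal.pow_right_mono hψI n) (Ideal.le_comap_pow _ n)
    have h2' := h1' h
    rw [hmapJ] at h2'
    exact h2'
  have hfin : ∀ k, k ≤ n → p ∈ J ^ k := by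
    intro k
    induction k with
    | zero => intro _; simp
    | succ k ih =>
      intro hk
      have h1' := hc k p (ih (by omega))
      rw [hψ0, zero_sub, neg_mem_iff] at h1'
      obtain ⟨q, hq, hq'⟩ := (Ideal.mem_map_iff_of_surjective mkJ hmkJ).mp h1'
      have h2' : p - q ∈ J ^ n := by
        rw [← Ideal.Quotient.eq]
        exact hq'.symm
      have h3 := Ideal.add_mem _ (Ideal.pow_le_pow_right hk h2') hq
      simpa using h3
  exact hfin n le_rfl

/-- Liftings exist as soon as a principal localization at an element `g ≡ 1 mod I` is formally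
smooth. -/
theorem lift_of_away (I : Ideal S) (g : S) (hg1 : g - 1 ∈ I)
    [Algebra.FormallySmooth R (Localization.Away g)] {C : Type*} [CommRing C] [Algebra R C]
    (n : ℕ) (γ : C →ₐ[R] S ⧸ I ^ n) (hγ : Function.Surjective γ)
    (hnil : IsNilpotent (RingHom.ker (γ : C →+* S ⧸ I ^ n))) :
    ∃ ψ : S →ₐ[R] C, ∀ s, γ (ψ s) = Ideal.Quotient.mk (I ^ n) s := by
  have hunit : IsUnit (Ideal.Quotient.mk (I ^ n) g) := by
    have h1 : Ideal.Quotient.mk (I ^ n) g = 1 + Ideal.Quotient.mk (I ^ n) (g - 1) := by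
      rw [map_sub, map_one]; ring
    rw [h1]
    have hnilp : IsNilpotent (Ideal.Quotient.mk (I ^ n) (g - 1)) :=
      ⟨n, by rw [← map_pow, Ideal.Quotient.eq_zero_iff_mem]; exact Ideal.pow_mem_pow hg1 n⟩
    exact hnilp.isUnit_one_add
  let f₁ : Localization.Away g →ₐ[R] S ⧸ I ^ n :=
    IsLocalization.liftAlgHom (M := Submonoid.powers g) (f := Ideal.Quotient.mkₐ R (I ^ n))
      (by
        rintro ⟨_, k, rfl⟩
        simpa using hunit.pow k)
  let ψ₁ := Algebra.FormallySmooth.liftOfSurjective f₁ γ hγ hnil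
  refine ⟨ψ₁.comp (IsScalarTower.toAlgHom R S (Localization.Away g)), fun s => ?_⟩
  rw [AlgHom.comp_apply]
  have h2 := Algebra.FormallySmooth.liftOfSurjective_apply f₁ γ hγ hnil
    (IsScalarTower.toAlgHom R S (Localization.Away g) s)
  rw [show ψ₁ = Algebra.FormallySmooth.liftOfSurjective f₁ γ hγ hnil from rfl, h2]
  simp [f₁]

end Abstract

section

universe u
variable {R S : Type u} [CommRing R] [CommRing S] [Algebra R S] (σ : S →ₐ[R] R) {d : ℕ}
  (e : (kerI σ).Cotangent ≃ₗ[R] (Fin d → R))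
  (f : Fin d → S) (hf : ∀ i, f i ∈ kerI σ)
  (hfe : ∀ i, (kerI σ).toCotangent ⟨f i, hf i⟩ = e.symm (Pi.single i 1))

include hfe in
theorem mem_Jpow_of_aeval_mem' (g : S) (hg1 : g - 1 ∈ kerI σ)
    [Algebra.FormallySmooth R (Localization.Away g)] (n : ℕ)
    (p : MvPolynomial (Fin d) R) (h : aeval f p ∈ (kerI σ) ^ n) :
    p ∈ idealOfVars (Fin d) R ^ n := by
  obtain _ | _ | m := n
  · simp
  · rw [zero_add, pow_one] at h ⊢
    exact mem_J_of_aeval_mem σ f hf p h
  exact mem_pow_of_map_mem' (idealOfVars (Fin d) R) (kerI σ) (aeval f) (Jpow_le_comap σ f hf)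
    (m + 1 + 1) (by omega)
    (fun γ hγ hnil => lift_of_away (kerI σ) g hg1 (m + 1 + 1) γ hγ hnil)
    (mem_J_of_aeval_mem σ f hf) (mem_Jsq_of_aeval_mem σ e f hf hfe)
    (exists_approx σ e f hf hfe (m + 1 + 1)) p h

include hfe in
theorem aeval_injective (g : S) (hg1 : g - 1 ∈ kerI σ)
    [Algebra.FormallySmooth R (Localization.Away g)] :
    Function.Injective (aeval f : MvPolynomial (Fin d) R →ₐ[R] S) := by
  rw [injective_iff_map_eq_zero]
  intro p hp
  by_contra hne
  obtain ⟨x, hx⟩ := MvPolynomial.ne_zero_iff.mp hne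
  have hmem := mem_Jpow_of_aeval_mem' σ e f hf hfe g hg1 (x.degree + 1) p (by rw [hp]; exact zero_mem _)
  rw [mem_pow_idealOfVars_iff] at hmem
  have := hmem x (MvPolynomial.mem_support_iff.mpr hx)
  omega

end

end Groth.Agent.H9.SPB
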