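import Mathlib
import Groth.Agent.Lib.Helper9.Misc.SPB2

/-! Helper9: S18961 assembly — a graded algebra smooth along the zero section with free conormal module is a polynomial algebra. -/

set_option linter.style.haveILetI false
set_option linter.unusedSectionVars false

namespace Groth.Agent.H9.SPB

open MvPolynomial Groth.Agent.H8.SmCompl

universe u
variable {A B : Type u} [CommRing A] [CommRing B] [Algebra A B]
  (𝒜 : ℕ → Submodule A B) [GradedAlgebra 𝒜]

theorem exists_retraction (h0 : ∀ b : B, b ∈ 𝒜 0 ↔ b ∈ Set.range (algebraMap A B))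
    (hinj : Function.Injective (algebraMap A B)) :
    ∃ σ : B →ₐ[A] A, RingHom.ker σ.toRingHom = irr 𝒜 := by
  let q : A →ₐ[A] B ⧸ irr 𝒜 := (Ideal.Quotient.mkₐ A (irr 𝒜)).comp (Algebra.ofId A B)
  have hq : ∀ a, q a = Ideal.Quotient.mk (irr 𝒜) (algebraMap A B a) := fun a => rfl
  have hbij : Function.Bijective q := by
    constructor
    · rw [injective_iff_map_eq_zero]
      intro a ha
      rw [hq, Ideal.Quotient.eq_zero_iff_mem] at ha
      have h1 : GradedAlgebra.proj 𝒜 0 (algebraMap A B a) = 0 := ha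
      rw [proj_of_mem 𝒜 ((h0 _).mpr ⟨a, rfl⟩)] at h1
      exact hinj (by rw [h1, map_zero])
    · intro y
      obtain ⟨b, rfl⟩ := Ideal.Quotient.mk_surjective y
      obtain ⟨a, ha⟩ := (h0 _).mp (proj_mem 𝒜 0 b)
      refine ⟨a, ?_⟩
      rw [hq, ha, eq_comm, Ideal.Quotient.eq]
      exact (rho 𝒜 b).2
  let E : A ≃ₐ[A] B ⧸ irr 𝒜 := AlgEquiv.ofBijective q hbij
  refine ⟨(E.symm : (B ⧸ irr 𝒜) →ₐ[A] A).comp (Ideal.Quotient.mkₐ A (irr 𝒜)), ?_⟩
  ext b
  rw [RingHom.mem_ker]
  show E.symm (Ideal.Quotient.mk (irr 𝒜) b) = 0 ↔ _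
  rw [EmbeddingLike.map_eq_zero_iff, Ideal.Quotient.eq_zero_iff_mem]

theorem exists_formallySmooth_away [Algebra.FinitePresentation A B]
    (hsm : ∀ (P : Ideal B) [P.IsPrime], irr 𝒜 ≤ P → Algebra.IsSmoothAt A P) :
    ∃ g : B, g - 1 ∈ irr 𝒜 ∧ Algebra.FormallySmooth A (Localization.Away g) := by
  have hopen := Algebra.isOpen_smoothLocus (R := A) (A := B)
  have hclosed : IsClosed (Algebra.smoothLocus A B)ᶜ := hopen.isClosed_compl
  obtain ⟨K, hK⟩ := (PrimeSpectrum.isClosed_iff_zeroLocus_ideal _).mp hclosed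
  have hdisj : PrimeSpectrum.zeroLocus ((K ⊔ irr 𝒜 : Ideal B) : Set B) = ∅ := by
    rw [PrimeSpectrum.zeroLocus_sup, ← hK]
    ext P
    simp only [Set.mem_inter_iff, Set.mem_compl_iff, PrimeSpectrum.mem_zeroLocus,
      SetLike.coe_subset_coe, Set.mem_empty_iff_false, iff_false, not_and]
    intro hP hle
    exact hP (hsm P.asIdeal hle)
  have htop : K ⊔ irr 𝒜 = ⊤ := (PrimeSpectrum.zeroLocus_empty_iff_eq_top).mp hdisj
  have h1 : (1 : B) ∈ K ⊔ irr 𝒜 := by rw [htop]; exact Submodule.mem_top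
  obtain ⟨κ, hκ, ι, hι, hsum⟩ := Submodule.mem_sup.mp h1
  refine ⟨κ, ?_, ?_⟩
  · have : κ - 1 = -ι := by rw [← hsum]; ring
    rw [this]
    exact neg_mem hι
  · rw [← Algebra.basicOpen_subset_smoothLocus_iff]
    intro P hP
    by_contra hns
    have h2 : P ∈ PrimeSpectrum.zeroLocus (K : Set B) := by
      rw [← hK]; exact hns
    exact hP (h2 hκ)

theorem transport {r : ℕ} {I' I : Ideal B} (h : I' = I) (e : I.Cotangent ≃ₗ[A] (Fin r → A)) :
    ∃ e' : I'.Cotangent ≃ₗ[A] (Fin r → A), ∀ (x : B) (hx : x ∈ I) (hx' : x ∈ I'),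
      e' (I'.toCotangent ⟨x, hx'⟩) = e (I.toCotangent ⟨x, hx⟩) := by
  subst h
  exact ⟨e, fun _ _ _ => rfl⟩

theorem S18961_main (k : Type u) [Field k] [Algebra k A] [Algebra k B] [IsScalarTower k A B]
    [Algebra.FiniteType k A] [Algebra.FiniteType A B]
    (h0 : ∀ b : B, b ∈ 𝒜 0 ↔ b ∈ Set.range (algebraMap A B))
    (hinj : Function.Injective (algebraMap A B))
    (hsm : ∀ (P : Ideal B) [P.IsPrime],
      (HomogeneousIdeal.irrelevant 𝒜).toIdeal ≤ P → Algebra.IsSmoothAt A P)
    [Module.Free A (HomogeneousIdeal.irrelevant 𝒜).toIdeal.Cotangent]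
    [Module.Finite A (HomogeneousIdeal.irrelevant 𝒜).toIdeal.Cotangent] :
    Nonempty (B ≃ₐ[A]
      MvPolynomial (Fin (Module.finrank A (HomogeneousIdeal.irrelevant 𝒜).toIdeal.Cotangent)) A) := by
  rcases subsingleton_or_nontrivial A with hA | hA
  · haveI : Subsingleton B := by
      refine ⟨fun a b => ?_⟩
      have h1 : (1 : B) = 0 := by
        rw [← map_one (algebraMap A B), Subsingleton.elim (1 : A) 0, map_zero]
      rw [← mul_one a, ← mul_one b, h1, mul_zero, mul_zero]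
    exact ⟨{ toFun := fun _ => 0
             invFun := fun _ => 0
             left_inv := fun _ => Subsingleton.elim _ _
             right_inv := fun _ => Subsingleton.elim _ _
             map_mul' := fun _ _ => Subsingleton.elim _ _
             map_add' := fun _ _ => Subsingleton.elim _ _
             commutes' := fun _ => Subsingleton.elim _ _ }⟩
  haveI : IsNoetherianRing A := Algebra.FiniteType.isNoetherianRing k A
  haveI : Algebra.FinitePresentation A B := Algebra.FinitePresentation.of_finiteType.mp inferInstance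
  set r := Module.finrank A (irr 𝒜).Cotangent with hr
  let e : (irr 𝒜).Cotangent ≃ₗ[A] (Fin r → A) := (Module.finBasis A (irr 𝒜).Cotangent).equivFun
  obtain ⟨x, hx, hxe, hadj⟩ := exists_lifts 𝒜 h0 e
  obtain ⟨σ, hσ⟩ := exists_retraction 𝒜 h0 hinj
  obtain ⟨g, hg1, hgsm⟩ := exists_formallySmooth_away 𝒜 hsm
  have hI : kerI σ = irr 𝒜 := hσ
  obtain ⟨e', he'⟩ := transport hI e
  have hx' : ∀ i, x i ∈ kerI σ := fun i => hI ▸ hx i
  have hxe' : ∀ i, (kerI σ).toCotangent ⟨x i, hx' i⟩ = e'.symm (Pi.single i 1) := by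
    intro i
    apply e'.injective
    rw [he' (x i) (hx i) (hx' i), hxe i, LinearEquiv.apply_symm_apply,
      LinearEquiv.apply_symm_apply]
  have hinjective := aeval_injective σ e' x hx' hxe' g (hI ▸ hg1)
  have hsurjective : Function.Surjective (aeval x : MvPolynomial (Fin r) A →ₐ[A] B) := by
    rw [← AlgHom.range_eq_top, ← Algebra.adjoin_range_eq_range_aeval]
    exact hadj
  exact ⟨(AlgEquiv.ofBijective (aeval x) ⟨hinjective, hsurjective⟩).symm⟩

end Groth.Agent.H9.SPB
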