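import Mathlib
import Groth.Prelude.Def_SymTen

/-! Helper9: Sym^d of Proj: the rings C, D = C ∩ TS, integrality of C over D, lying over -/

set_option linter.style.haveILetI false
set_option linter.unusedSectionVars false

namespace Groth.Agent.H9.SPC
open scoped TensorProduct

universe u
variable {A B : Type u} [CommRing A] [CommRing B] [Algebra A B]

/-- multilinear span induction for pure tensors -/
theorem tprod_mem_of_span {d : ℕ} (S : Fin d → Set B) (W : Submodule A (⨂[A] _ : Fin d, B))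
    (h : ∀ b : Fin d → B, (∀ i, b i ∈ S i) → PiTensorProduct.tprod A b ∈ W)
    (b : Fin d → B) (hb : ∀ i, b i ∈ Submodule.span A (S i)) :
    PiTensorProduct.tprod A b ∈ W := by
  classical
  have key : ∀ s : Finset (Fin d), ∀ b : Fin d → B,
      (∀ i ∈ s, b i ∈ Submodule.span A (S i)) →
      (∀ i, i ∉ s → b i ∈ S i) → PiTensorProduct.tprod A b ∈ W := by
    intro s
    induction s using Finset.induction_on with
    | empty => intro b _ hb; exact h b (fun i => hb i (Finset.notMem_empty i))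
    | insert a s ha ih =>
      intro b hb1 hb2
      have hx : ∀ x ∈ Submodule.span A (S a),
          PiTensorProduct.tprod A (Function.update b a x) ∈ W := by
        intro x hx
        induction hx using Submodule.span_induction with
        | mem x hx =>
          apply ih
          · intro i hi
            have hia : i ≠ a := fun h => ha (h ▸ hi)
            rw [Function.update_of_ne hia]
            exact hb1 i (Finset.mem_insert_of_mem hi)
          · intro i hi
            by_cases hia : i = a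
            · subst hia; simpa using hx
            · rw [Function.update_of_ne hia]; exact hb2 i (by simp [hia, hi])
        | zero => rw [MultilinearMap.map_update_zero]; exact W.zero_mem
        | add x y _ _ hx hy => rw [MultilinearMap.map_update_add]; exact W.add_mem hx hy
        | smul r x _ hx => rw [MultilinearMap.map_update_smul]; exact W.smul_mem r hx
      have := hx (b a) (hb1 a (Finset.mem_insert_self a s))
      rwa [Function.update_eq_self] at this
  exact key Finset.univ b (fun i _ => hb i) (fun i hi => absurd (Finset.mem_univ i) hi)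

variable (𝒜 : ℕ → Submodule A B) (d : ℕ)

/-- the generating set of `C`: pure tensors with all entries in a common graded piece -/
def genSet : Set (⨂[A] _ : Fin d, B) :=
  {t | ∃ (k : ℕ) (b : Fin d → B), (∀ i, b i ∈ 𝒜 k) ∧ t = PiTensorProduct.tprod A b}

/-- pure tensors with all entries in `𝒜 k` -/
def pureSet (k : ℕ) : Set (⨂[A] _ : Fin d, B) :=
  {s | ∃ b : Fin d → B, (∀ i, b i ∈ 𝒜 k) ∧ s = PiTensorProduct.tprod A b}

/-- the subalgebra `C = Σ_k C_k` -/
noncomputable def Cal : Subalgebra A (⨂[A] _ : Fin d, B) := Algebra.adjoin A (genSet 𝒜 d)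

/-- the subalgebra `D = C ∩ TS` -/
noncomputable def Dal : Subalgebra A (⨂[A] _ : Fin d, B) := Cal 𝒜 d ⊓ SymTen.TS A B d

variable {𝒜 d}

theorem tprod_mem_Cal {k : ℕ} {b : Fin d → B} (hb : ∀ i, b i ∈ 𝒜 k) :
    PiTensorProduct.tprod A b ∈ Cal 𝒜 d :=
  Algebra.subset_adjoin ⟨k, b, hb, rfl⟩

theorem pureSet_subset_Cal (k : ℕ) : pureSet 𝒜 d k ⊆ Cal 𝒜 d := by
  rintro _ ⟨b, hb, rfl⟩
  exact tprod_mem_Cal hb

theorem span_pureSet_le_Cal (k : ℕ) :
    Submodule.span A (pureSet 𝒜 d k) ≤ Subalgebra.toSubmodule (Cal 𝒜 d) :=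
  Submodule.span_le.2 (pureSet_subset_Cal k)

lemma perm_mul_apply (ρ σ : Equiv.Perm (Fin d)) (t : ⨂[A] _ : Fin d, B) :
    SymTen.perm A B d (ρ * σ) t = SymTen.perm A B d ρ (SymTen.perm A B d σ t) := by
  induction t using PiTensorProduct.induction_on with
  | smul_tprod r f =>
    simp only [map_smul, SymTen.perm_tprod]
    rfl
  | add x y hx hy => simp only [map_add, hx, hy]

lemma perm_one_apply (t : ⨂[A] _ : Fin d, B) : SymTen.perm A B d 1 t = t := by
  induction t using PiTensorProduct.induction_on with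
  | smul_tprod r f =>
    simp only [map_smul, SymTen.perm_tprod]
    rfl
  | add x y hx hy => simp only [map_add, hx, hy]

theorem perm_mem_Cal (σ : Equiv.Perm (Fin d)) {x : ⨂[A] _ : Fin d, B} (hx : x ∈ Cal 𝒜 d) :
    SymTen.perm A B d σ x ∈ Cal 𝒜 d := by
  have h : (Cal 𝒜 d).map (SymTen.perm A B d σ) ≤ Cal 𝒜 d := by
    unfold Cal
    rw [AlgHom.map_adjoin]
    apply Algebra.adjoin_mono
    rintro _ ⟨_, ⟨k, b, hb, rfl⟩, rfl⟩
    exact ⟨k, fun i => b (σ.symm i), fun i => hb _, SymTen.perm_tprod A B d σ b⟩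
  exact h ⟨x, hx, rfl⟩

theorem mem_TS_of_perm {x : ⨂[A] _ : Fin d, B}
    (h : ∀ σ : Equiv.Perm (Fin d), SymTen.perm A B d σ x = x) : x ∈ SymTen.TS A B d := by
  intro σ
  rw [← SymTen.perm_apply]
  exact h σ

theorem perm_of_mem_TS {x : ⨂[A] _ : Fin d, B} (h : x ∈ SymTen.TS A B d)
    (σ : Equiv.Perm (Fin d)) : SymTen.perm A B d σ x = x := by
  rw [SymTen.perm_apply]
  exact h σ

variable (𝒜 d) in
/-- the inclusion `D → C` -/
noncomputable def incl : Dal 𝒜 d →ₐ[A] Cal 𝒜 d := Subalgebra.inclusion inf_le_left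

@[simp] theorem incl_coe (x : Dal 𝒜 d) : ((incl 𝒜 d x : Cal 𝒜 d) : ⨂[A] _ : Fin d, B) = x := rfl

theorem incl_injective : Function.Injective (incl 𝒜 d) :=
  Subalgebra.inclusion_injective _

open Polynomial in
/-- the characteristic polynomial `∏_σ (X - σ c)` -/
noncomputable def charP (c : ⨂[A] _ : Fin d, B) : (⨂[A] _ : Fin d, B)[X] :=
  ∏ σ : Equiv.Perm (Fin d), (X - C (SymTen.perm A B d σ c))

open Polynomial in
theorem charP_monic (c : ⨂[A] _ : Fin d, B) : (charP c).Monic :=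
  monic_prod_of_monic _ _ (fun _ _ => monic_X_sub_C _)

open Polynomial in
theorem charP_eval (c : ⨂[A] _ : Fin d, B) : (charP c).eval c = 0 := by
  rw [charP, eval_prod]
  apply Finset.prod_eq_zero (Finset.mem_univ (1 : Equiv.Perm (Fin d)))
  rw [perm_one_apply]
  simp

open Polynomial in
theorem charP_map (τ : Equiv.Perm (Fin d)) (c : ⨂[A] _ : Fin d, B) :
    (charP c).map (SymTen.perm A B d τ).toRingHom = charP c := by
  rw [charP, Polynomial.map_prod]
  refine Fintype.prod_equiv (Equiv.mulLeft τ) _ _ fun σ => ?_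
  rw [Polynomial.map_sub, map_X, map_C]
  congr 2
  exact (perm_mul_apply τ σ c).symm

open Polynomial in
theorem charP_coeff_mem {c : ⨂[A] _ : Fin d, B} (hc : c ∈ Cal 𝒜 d) (n : ℕ) :
    (charP c).coeff n ∈ Dal 𝒜 d := by
  refine ⟨?_, ?_⟩
  · have h : charP c ∈ Polynomial.lifts (Cal 𝒜 d).val.toRingHom := by
      rw [charP]
      refine Subsemiring.prod_mem _ fun σ _ => ?_
      rw [sub_eq_add_neg, ← C_neg]
      refine Subsemiring.add_mem _ (X_mem_lifts _) ?_
      exact C'_mem_lifts ⟨⟨-(SymTen.perm A B d σ c), (Cal 𝒜 d).neg_mem (perm_mem_Cal σ hc)⟩, rfl⟩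
    rw [lifts_iff_coeff_lifts] at h
    obtain ⟨y, hy⟩ := h n
    rw [← hy]
    exact y.2
  · apply mem_TS_of_perm
    intro τ
    have := congrArg (fun p => p.coeff n) (charP_map τ c)
    simpa [coeff_map] using this

open Polynomial in
theorem isIntegralElem_incl (c : Cal 𝒜 d) : (incl 𝒜 d).toRingHom.IsIntegralElem c := by
  have h : charP c.1 ∈ Polynomial.lifts (Dal 𝒜 d).val.toRingHom := by
    rw [lifts_iff_coeff_lifts]
    intro n
    exact ⟨⟨_, charP_coeff_mem c.2 n⟩, rfl⟩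
  rcases subsingleton_or_nontrivial (⨂[A] _ : Fin d, B) with hs | hn
  · refine ⟨1, monic_one, ?_⟩
    apply Subtype.ext
    exact Subsingleton.elim _ _
  obtain ⟨q, hq, -, hqm⟩ := lifts_and_degree_eq_and_monic h (charP_monic c.1)
  refine ⟨q, hqm, ?_⟩
  apply Subtype.ext
  have h1 : ((Cal 𝒜 d).val.toRingHom) (eval₂ (incl 𝒜 d).toRingHom c q) =
      eval₂ ((Cal 𝒜 d).val.toRingHom.comp (incl 𝒜 d).toRingHom) ((Cal 𝒜 d).val.toRingHom c) q :=
    Polynomial.hom_eval₂ q _ _ c
  have h2 : (Cal 𝒜 d).val.toRingHom.comp (incl 𝒜 d).toRingHom = (Dal 𝒜 d).val.toRingHom := rfl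
  rw [h2] at h1
  change ((Cal 𝒜 d).val.toRingHom) (eval₂ (incl 𝒜 d).toRingHom c q) = 0
  rw [h1, ← Polynomial.eval_map, hq]
  exact charP_eval c.1

/-- lying over for `D ⊆ C` -/
theorem exists_prime_over (𝔮 : Ideal (Dal 𝒜 d)) [𝔮.IsPrime] :
    ∃ 𝔓 : Ideal (Cal 𝒜 d), 𝔓.IsPrime ∧ ∀ x : Dal 𝒜 d, incl 𝒜 d x ∈ 𝔓 ↔ x ∈ 𝔮 := by
  letI : Algebra (Dal 𝒜 d) (Cal 𝒜 d) := (incl 𝒜 d).toRingHom.toAlgebra
  haveI : Algebra.IsIntegral (Dal 𝒜 d) (Cal 𝒜 d) := ⟨fun c => isIntegralElem_incl c⟩
  have hker : (⊥ : Ideal (Cal 𝒜 d)).comap (algebraMap (Dal 𝒜 d) (Cal 𝒜 d)) ≤ 𝔮 := by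
    intro x hx
    rw [Ideal.mem_comap, Ideal.mem_bot] at hx
    have : x = 0 := incl_injective (by rw [map_zero]; exact hx)
    rw [this]
    exact 𝔮.zero_mem
  obtain ⟨Q, -, hQ, hQc⟩ := Ideal.exists_ideal_over_prime_of_isIntegral 𝔮 ⊥ hker
  refine ⟨Q, hQ, fun x => ?_⟩
  rw [← hQc]
  rfl

end Groth.Agent.H9.SPC
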