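import Mathlib
import Groth.Prelude.Def_SymTen
import Groth.Agent.Lib.Helper9.Misc.SPC1

/-! Helper9: Sym^d of Proj: generation in degree one and the reduction to primes of C -/

set_option linter.style.haveILetI false
set_option linter.unusedSectionVars false

namespace Groth.Agent.H9.SPC
open scoped TensorProduct Pointwise

universe u
variable {A B : Type u} [CommRing A] [CommRing B] [Algebra A B]
variable (𝒜 : ℕ → Submodule A B) [GradedAlgebra 𝒜]

theorem pow_le_grade (n : ℕ) : (𝒜 1) ^ n ≤ 𝒜 n := by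
  induction n with
  | zero =>
    rw [pow_zero, Submodule.one_le]
    exact SetLike.GradedOne.one_mem
  | succ n ih =>
    rw [pow_succ, Submodule.mul_le]
    intro x hx y hy
    exact SetLike.mul_mem_graded (ih hx) hy

theorem top_le_iSup_pow (hgen : Algebra.adjoin A (𝒜 1 : Set B) = ⊤) :
    (⊤ : Submodule A B) ≤ ⨆ n, (𝒜 1) ^ n := by
  have h1 : Subalgebra.toSubmodule (Algebra.adjoin A (𝒜 1 : Set B)) = ⊤ := by
    rw [hgen]; rfl
  rw [← h1, Algebra.adjoin_eq_span, Submodule.span_le]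
  intro x hx
  have h2 : ∃ n, x ∈ (𝒜 1) ^ n := by
    induction hx using Submonoid.closure_induction with
    | mem x hx => exact ⟨1, by rw [pow_one]; exact hx⟩
    | one => exact ⟨0, by rw [pow_zero]; exact Submodule.one_le.1 le_rfl⟩
    | mul x y _ _ hx hy =>
      obtain ⟨n, hn⟩ := hx
      obtain ⟨m, hm⟩ := hy
      exact ⟨n + m, by rw [pow_add]; exact Submodule.mul_mem_mul hn hm⟩
  obtain ⟨n, hn⟩ := h2
  exact Submodule.mem_iSup_of_mem n hn

theorem grade_le_pow (hgen : Algebra.adjoin A (𝒜 1 : Set B) = ⊤) (k : ℕ) :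
    𝒜 k ≤ (𝒜 1) ^ k := by
  classical
  intro b hb
  have h1 : b ∈ ⨆ n, (𝒜 1) ^ n := top_le_iSup_pow 𝒜 hgen trivial
  have h2 : ∀ x ∈ ⨆ n, (𝒜 1) ^ n, ∀ k, ((DirectSum.decompose 𝒜 x k : 𝒜 k) : B) ∈ (𝒜 1) ^ k := by
    intro x hx
    refine Submodule.iSup_induction _ (motive := fun x => ∀ k,
      ((DirectSum.decompose 𝒜 x k : 𝒜 k) : B) ∈ (𝒜 1) ^ k) hx ?_ ?_ ?_
    · intro n x hx k
      by_cases hkn : n = k
      · subst hkn
        rw [DirectSum.decompose_of_mem_same 𝒜 (pow_le_grade 𝒜 n hx)]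
        exact hx
      · rw [DirectSum.decompose_of_mem_ne 𝒜 (pow_le_grade 𝒜 n hx) hkn]
        exact Submodule.zero_mem _
    · intro k
      rw [DirectSum.decompose_zero]
      exact Submodule.zero_mem _
    · intro x y hx hy k
      rw [DirectSum.decompose_add, DirectSum.add_apply, Submodule.coe_add]
      exact Submodule.add_mem _ (hx k) (hy k)
  have := h2 b h1 k
  rwa [DirectSum.decompose_of_mem_same 𝒜 hb] at this

theorem grade_le_mul (hgen : Algebra.adjoin A (𝒜 1 : Set B) = ⊤) {k : ℕ} (hk : 0 < k) :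
    𝒜 k ≤ 𝒜 (k - 1) * 𝒜 1 := by
  refine (grade_le_pow 𝒜 hgen k).trans ?_
  obtain ⟨j, rfl⟩ : ∃ j, k = j + 1 := ⟨k - 1, by omega⟩
  rw [pow_succ, Nat.add_sub_cancel]
  exact mul_le_mul' (pow_le_grade 𝒜 j) le_rfl

variable {𝒜} {d : ℕ}

/-- a pure tensor of degree `k ≥ 1` is a combination of products (pure of degree `k-1`)·(pure of
degree one) -/
theorem pure_mem_span_mul (hgen : Algebra.adjoin A (𝒜 1 : Set B) = ⊤) {k : ℕ} (hk : 0 < k)
    (b : Fin d → B) (hb : ∀ i, b i ∈ 𝒜 k) :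
    PiTensorProduct.tprod A b ∈ Submodule.span A
      {x : ⨂[A] _ : Fin d, B | ∃ u v : Fin d → B, (∀ i, u i ∈ 𝒜 (k - 1)) ∧ (∀ i, v i ∈ 𝒜 1) ∧
        x = PiTensorProduct.tprod A u * PiTensorProduct.tprod A v} := by
  apply tprod_mem_of_span (fun _ => ((𝒜 (k - 1) : Set B) * (𝒜 1 : Set B)))
  · intro c hc
    choose u hu v hv huv using fun i => Set.mem_mul.1 (hc i)
    apply Submodule.subset_span
    refine ⟨u, v, hu, hv, ?_⟩
    rw [PiTensorProduct.tprod_mul_tprod]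
    congr 1
    funext i
    exact (huv i).symm
  · intro i
    rw [← Submodule.mul_eq_span_mul_set]
    exact grade_le_mul 𝒜 hgen hk (hb i)

/-- the main reduction: if every prime of `C` containing the generators `G` contains all pure
tensors of degree one, then the elements of `D_k`, `k ≥ 1`, are in the radical of `(G)` -/
theorem main_reduction (hgen : Algebra.adjoin A (𝒜 1 : Set B) = ⊤) (G : Set (Dal 𝒜 d))
    (hG : ∀ 𝔓 : Ideal (Cal 𝒜 d), 𝔓.IsPrime → (∀ g ∈ G, incl 𝒜 d g ∈ 𝔓) →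
      ∀ (b : Fin d → B) (hb : ∀ i, b i ∈ 𝒜 1),
        (⟨PiTensorProduct.tprod A b, tprod_mem_Cal hb⟩ : Cal 𝒜 d) ∈ 𝔓)
    {k : ℕ} (hk : 0 < k) (t : ⨂[A] _ : Fin d, B) (htD : t ∈ Dal 𝒜 d)
    (htk : t ∈ Submodule.span A (pureSet 𝒜 d k)) :
    ∃ m : ℕ, 0 < m ∧ (⟨t, htD⟩ : Dal 𝒜 d) ^ m ∈ Ideal.span G := by
  have hrad : (⟨t, htD⟩ : Dal 𝒜 d) ∈ (Ideal.span G).radical := by
    rw [Ideal.radical_eq_sInf, Ideal.mem_sInf]
    rintro 𝔮 ⟨hI, hq⟩
    haveI := hq
    obtain ⟨𝔓, hP, hPq⟩ := exists_prime_over 𝔮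
    rw [← hPq]
    have h1 := hG 𝔓 hP (fun g hg => (hPq g).2 (hI (Ideal.subset_span hg)))
    let up : Submodule A (⨂[A] _ : Fin d, B) :=
      (𝔓.restrictScalars A).map (Cal 𝒜 d).val.toLinearMap
    have hup : ∀ (x : ⨂[A] _ : Fin d, B) (hx : x ∈ Cal 𝒜 d), x ∈ up ↔ (⟨x, hx⟩ : Cal 𝒜 d) ∈ 𝔓 := by
      intro x hx
      constructor
      · rintro ⟨y, hy, rfl⟩
        exact hy
      · intro h
        exact ⟨⟨x, hx⟩, h, rfl⟩
    have h2 : Submodule.span A (pureSet 𝒜 d k) ≤ up := by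
      rw [Submodule.span_le]
      rintro _ ⟨b, hb, rfl⟩
      refine (Submodule.span_le.2 ?_) (pure_mem_span_mul hgen hk b hb)
      rintro _ ⟨u, v, hu, hv, rfl⟩
      exact ⟨⟨_, tprod_mem_Cal hu⟩ * ⟨_, tprod_mem_Cal hv⟩, 𝔓.mul_mem_left _ (h1 v hv), rfl⟩
    exact (hup t htD.1).1 (h2 htk)
  obtain ⟨n, hn⟩ := hrad
  rcases Nat.eq_zero_or_pos n with h0 | hpos
  · subst h0
    rw [pow_zero] at hn
    refine ⟨1, Nat.one_pos, ?_⟩
    rw [(Ideal.eq_top_iff_one _).2 hn]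
    trivial
  · exact ⟨n, hpos, hn⟩

end Groth.Agent.H9.SPC
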