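import Mathlib
import Groth.Prelude.Def_SymTen
import Groth.Agent.Lib.Helper9.Misc.SPC1
import Groth.Agent.Lib.Helper9.Misc.SPC2

/-! Helper9: Sym^d of Proj: covering by D_+(f⊗…⊗f), f of degree one, for large residue fields -/

set_option linter.style.haveILetI false
set_option linter.unusedSectionVars false

namespace Groth.Agent.H9.SPC
open scoped TensorProduct

universe u
variable {A B : Type u} [CommRing A] [CommRing B] [Algebra A B]

section tprod
variable {d : ℕ}

theorem prod_tprod {ι : Type*} (s : Finset ι) (g : ι → Fin d → B) :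
    ∏ i ∈ s, PiTensorProduct.tprod A (g i) = PiTensorProduct.tprod A (fun j => ∏ i ∈ s, g i j) := by
  classical
  induction s using Finset.induction_on with
  | empty =>
    simp only [Finset.prod_empty]
    exact PiTensorProduct.one_def
  | insert a s ha ih =>
    rw [Finset.prod_insert ha, ih, PiTensorProduct.tprod_mul_tprod]
    congr 1
    funext j
    simp only [Pi.mul_apply]
    rw [Finset.prod_insert ha]

theorem tprod_pow (b : Fin d → B) (n : ℕ) :
    (PiTensorProduct.tprod A b) ^ n = PiTensorProduct.tprod A (fun j => b j ^ n) := by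
  have := prod_tprod (A := A) (Finset.range n) (fun _ => b)
  simpa using this

theorem prod_update_tprod (b w : Fin d → B) :
    ∏ i, PiTensorProduct.tprod A (Function.update b i (w i)) =
      (PiTensorProduct.tprod A b) ^ (d - 1) * PiTensorProduct.tprod A w := by
  classical
  rw [prod_tprod, tprod_pow, PiTensorProduct.tprod_mul_tprod]
  congr 1
  funext j
  have h1 : ∀ i, Function.update b i (w i) j = Function.update (fun _ : Fin d => b j) j (w j) i := by
    intro i
    by_cases hij : j = i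
    · subst hij; simp
    · rw [Function.update_of_ne hij, Function.update_of_ne (Ne.symm hij)]
  simp only [h1, Pi.mul_apply]
  rw [Finset.prod_update_of_mem (Finset.mem_univ j), Finset.prod_const, mul_comm]
  congr 2
  rw [Finset.card_sdiff_of_subset (Finset.subset_univ _), Finset.card_univ, Fintype.card_fin,
    Finset.card_singleton]

theorem update_mem {N : Submodule A B} {b : Fin d → B} (hb : ∀ j, b j ∈ N) {x : B} (hx : x ∈ N)
    (i : Fin d) : ∀ j, Function.update b i x j ∈ N := by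
  intro j
  by_cases hji : j = i
  · subst hji; simpa using hx
  · rw [Function.update_of_ne hji]; exact hb j

end tprod

section prime
variable {𝒜 : ℕ → Submodule A B} {d : ℕ}

/-- if all the `λ_i(w_i)` avoid the prime `𝔓` then so does `w_1 ⊗ ⋯ ⊗ w_d` -/
theorem tprod_notMem_of_update (𝔓 : Ideal (Cal 𝒜 d)) [𝔓.IsPrime] {k : ℕ} {b w : Fin d → B}
    (hb : ∀ i, b i ∈ 𝒜 k) (hw : ∀ i, w i ∈ 𝒜 k)
    (h : ∀ i, (⟨PiTensorProduct.tprod A (Function.update b i (w i)),
      tprod_mem_Cal (update_mem hb (hw i) i)⟩ : Cal 𝒜 d) ∉ 𝔓) :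
    (⟨PiTensorProduct.tprod A w, tprod_mem_Cal hw⟩ : Cal 𝒜 d) ∉ 𝔓 := by
  intro hmem
  have h1 : ∏ i, (⟨PiTensorProduct.tprod A (Function.update b i (w i)),
      tprod_mem_Cal (update_mem hb (hw i) i)⟩ : Cal 𝒜 d) =
      (⟨PiTensorProduct.tprod A b, tprod_mem_Cal hb⟩ : Cal 𝒜 d) ^ (d - 1) *
        ⟨PiTensorProduct.tprod A w, tprod_mem_Cal hw⟩ := by
    apply Subtype.ext
    rw [SubmonoidClass.coe_finsetProd]
    exact prod_update_tprod b w
  have h2 : ∏ i, (⟨PiTensorProduct.tprod A (Function.update b i (w i)),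
      tprod_mem_Cal (update_mem hb (hw i) i)⟩ : Cal 𝒜 d) ∈ 𝔓 := by
    rw [h1]
    exact 𝔓.mul_mem_left _ hmem
  rw [Ideal.IsPrime.prod_mem_iff] at h2
  obtain ⟨i, -, hi⟩ := h2
  exact h i hi

end prime

section linear

/-- avoidance of finitely many proper "subspaces" given enough scalars -/
theorem exists_avoid_linear {A K M : Type*} [CommRing A] [CommRing K] [IsDomain K] [Algebra A K]
    [AddCommGroup M] [Module A M] {ι : Type*} (s : Finset ι) (lam : ι → M →ₗ[A] K)
    (hne : ∀ i ∈ s, ∃ g, lam i g ≠ 0) (F : Finset A) (hF : s.card ≤ F.card)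
    (hFinj : ∀ a ∈ F, ∀ a' ∈ F, algebraMap A K (a - a') = 0 → a = a') :
    ∃ f : M, ∀ i ∈ s, lam i f ≠ 0 := by
  classical
  induction s using Finset.induction_on with
  | empty => exact ⟨0, fun i hi => absurd hi (Finset.notMem_empty i)⟩
  | insert a s ha ih =>
    rw [Finset.card_insert_of_notMem ha] at hF
    obtain ⟨f, hf⟩ := ih (fun i hi => hne i (Finset.mem_insert_of_mem hi)) (by omega)
    by_cases h : lam a f = 0
    swap
    · refine ⟨f, fun i hi => ?_⟩
      rcases Finset.mem_insert.1 hi with rfl | hi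
      · exact h
      · exact hf i hi
    obtain ⟨g, hg⟩ := hne a (Finset.mem_insert_self a s)
    let bad : ι → Finset A := fun i => F.filter (fun c => lam i (g + c • f) = 0)
    have hbad : ∀ i ∈ s, (bad i).card ≤ 1 := by
      intro i hi
      rw [Finset.card_le_one]
      intro c hc c' hc'
      rw [Finset.mem_filter] at hc hc'
      apply hFinj c hc.1 c' hc'.1
      have h1 : (c - c') • lam i f = 0 := by
        have := hc.2
        have h' := hc'.2
        rw [map_add, map_smul] at this h'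
        rw [sub_smul]
        have e : c • lam i f - c' • lam i f = (lam i g + c • lam i f) - (lam i g + c' • lam i f) := by
          ring
        rw [e, this, h', sub_zero]
      rw [Algebra.smul_def] at h1
      rcases mul_eq_zero.1 h1 with h2 | h2
      · exact h2
      · exact absurd h2 (hf i hi)
    have hU : (s.biUnion bad).card < F.card := by
      calc (s.biUnion bad).card ≤ s.card * 1 := Finset.card_biUnion_le_card_mul s bad 1 hbad
        _ < F.card := by omega
    obtain ⟨c, hcF, hcU⟩ := Finset.exists_mem_notMem_of_card_lt_card hU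
    refine ⟨g + c • f, fun i hi => ?_⟩
    rcases Finset.mem_insert.1 hi with rfl | hi
    · rw [map_add, map_smul, h, smul_zero, add_zero]
      exact hg
    · intro h0
      apply hcU
      rw [Finset.mem_biUnion]
      exact ⟨i, hi, Finset.mem_filter.2 ⟨hcF, h0⟩⟩

/-- a large residue field gives many incongruent elements -/
theorem exists_finset_of_residue (𝔭 : Ideal A) [𝔭.IsPrime] (d : ℕ)
    (h : (d : Cardinal) ≤ Cardinal.mk 𝔭.ResidueField) :
    ∃ F : Finset A, F.card = d ∧ ∀ a ∈ F, ∀ a' ∈ F, a - a' ∈ 𝔭 → a = a' := by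
  classical
  have h1 : (d : Cardinal) ≤ Cardinal.mk (A ⧸ 𝔭) := by
    rcases finite_or_infinite (A ⧸ 𝔭) with hfin | hinf
    · have hfld : IsField (A ⧸ 𝔭) := Finite.isField_of_domain _
      haveI : 𝔭.IsMaximal := Ideal.Quotient.maximal_of_isField 𝔭 hfld
      rw [Cardinal.mk_congr (Equiv.ofBijective _ 𝔭.bijective_algebraMap_quotient_residueField)]
      exact h
    · exact (Cardinal.natCast_lt_aleph0 (n := d)).le.trans (Cardinal.aleph0_le_mk _)
  obtain ⟨s, hs⟩ := Cardinal.exists_finset_eq_card h1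
  have hsurj : Function.Surjective (Ideal.Quotient.mk 𝔭) := Ideal.Quotient.mk_surjective
  refine ⟨s.image (Function.surjInv hsurj), ?_, ?_⟩
  · rw [Finset.card_image_of_injective _ (Function.injective_surjInv hsurj), ← hs]
  · intro a ha a' ha' haa
    rw [Finset.mem_image] at ha ha'
    obtain ⟨c, -, rfl⟩ := ha
    obtain ⟨c', -, rfl⟩ := ha'
    have : Ideal.Quotient.mk 𝔭 (Function.surjInv hsurj c) =
        Ideal.Quotient.mk 𝔭 (Function.surjInv hsurj c') := Ideal.Quotient.eq.2 haa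
    rw [Function.surjInv_eq hsurj, Function.surjInv_eq hsurj] at this
    rw [this]

end linear

section S13392
variable {𝒜 : ℕ → Submodule A B} {d : ℕ}

theorem key92 (hres : ∀ p : PrimeSpectrum A, (d : Cardinal) ≤ Cardinal.mk p.asIdeal.ResidueField)
    (𝔓 : Ideal (Cal 𝒜 d)) [𝔓.IsPrime] {b : Fin d → B} (hb : ∀ i, b i ∈ 𝒜 1)
    (hx : (⟨PiTensorProduct.tprod A b, tprod_mem_Cal hb⟩ : Cal 𝒜 d) ∉ 𝔓) :
    ∃ (f : B) (hf : f ∈ 𝒜 1), (⟨PiTensorProduct.tprod A (fun _ : Fin d => f),
      tprod_mem_Cal (fun _ => hf)⟩ : Cal 𝒜 d) ∉ 𝔓 := by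
  classical
  let lamC : Fin d → (𝒜 1 →ₗ[A] Cal 𝒜 d) := fun i =>
    LinearMap.codRestrict (Subalgebra.toSubmodule (Cal 𝒜 d))
      (((PiTensorProduct.tprod A).toLinearMap b i).comp (𝒜 1).subtype)
      (fun f => tprod_mem_Cal (update_mem hb f.2 i))
  let π : Cal 𝒜 d →ₐ[A] (Cal 𝒜 d ⧸ 𝔓) := Ideal.Quotient.mkₐ A 𝔓
  let lam : Fin d → (𝒜 1 →ₗ[A] (Cal 𝒜 d ⧸ 𝔓)) := fun i => π.toLinearMap.comp (lamC i)
  have hlam : ∀ i (f : 𝒜 1), lam i f = 0 ↔
      (⟨PiTensorProduct.tprod A (Function.update b i (f : B)),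
        tprod_mem_Cal (update_mem hb f.2 i)⟩ : Cal 𝒜 d) ∈ 𝔓 := by
    intro i f
    exact Ideal.Quotient.eq_zero_iff_mem
  have hne : ∀ i ∈ (Finset.univ : Finset (Fin d)), ∃ g, lam i g ≠ 0 := by
    intro i _
    refine ⟨⟨b i, hb i⟩, ?_⟩
    rw [Ne, hlam]
    simp only [Function.update_eq_self]
    exact hx
  let 𝔭 : Ideal A := RingHom.ker (algebraMap A (Cal 𝒜 d ⧸ 𝔓))
  haveI : 𝔭.IsPrime := RingHom.ker_isPrime _
  obtain ⟨F, hFc, hF⟩ := exists_finset_of_residue 𝔭 d (hres ⟨𝔭, inferInstance⟩)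
  obtain ⟨f, hf⟩ := exists_avoid_linear (K := Cal 𝒜 d ⧸ 𝔓) Finset.univ lam hne F
    (by rw [Finset.card_univ, Fintype.card_fin, hFc])
    (fun a ha a' ha' h => hF a ha a' ha' (RingHom.mem_ker.2 h))
  refine ⟨f.1, f.2, ?_⟩
  apply tprod_notMem_of_update 𝔓 hb (fun _ => f.2)
  intro i
  rw [← hlam]
  exact hf i (Finset.mem_univ i)

theorem S13392_main (𝒜 : ℕ → Submodule A B) [GradedAlgebra 𝒜]
    (hgen : Algebra.adjoin A (𝒜 1 : Set B) = ⊤) (d : ℕ)
    (hres : ∀ p : PrimeSpectrum A, (d : Cardinal) ≤ Cardinal.mk p.asIdeal.ResidueField)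
    (D : Subalgebra A (⨂[A] _ : Fin d, B))
    (hD : D = Algebra.adjoin A {t | ∃ (k : ℕ) (b : Fin d → B), (∀ i, b i ∈ 𝒜 k) ∧
      t = PiTensorProduct.tprod A b} ⊓ SymTen.TS A B d)
    (k : ℕ) (hk : 0 < k) (t : ⨂[A] _ : Fin d, B) (htD : t ∈ D)
    (htk : t ∈ Submodule.span A {s | ∃ b : Fin d → B, (∀ i, b i ∈ 𝒜 k) ∧
      s = PiTensorProduct.tprod A b}) :
    ∃ m : ℕ, 0 < m ∧ (⟨t, htD⟩ : D) ^ m ∈
      Ideal.span {x : D | ∃ f : B, f ∈ 𝒜 1 ∧
        (x : ⨂[A] _ : Fin d, B) = PiTensorProduct.tprod A (fun _ : Fin d => f)} := by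
  subst hD
  refine main_reduction (𝒜 := 𝒜) hgen _ ?_ hk t htD htk
  intro 𝔓 hP hall b hb
  by_contra hx
  obtain ⟨f, hf, hfP⟩ := key92 hres 𝔓 hb hx
  apply hfP
  exact hall ⟨_, tprod_mem_Cal (fun _ => hf), (SymTen.tpow A B d f).2⟩ ⟨f, hf, rfl⟩

end S13392

end Groth.Agent.H9.SPC
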