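import Mathlib
import Groth.Prelude.Def_SymTen
import Groth.Agent.Lib.Helper9.Misc.SPC1
import Groth.Agent.Lib.Helper9.Misc.SPC2
import Groth.Agent.Lib.Helper9.Misc.SPC3

/-! Helper9: Sym^d of Proj: graded prime avoidance and covering by D_+(f⊗…⊗f), f homogeneous -/

set_option linter.style.haveILetI false
set_option linter.unusedSectionVars false

namespace Groth.Agent.H9.SPC
open scoped TensorProduct

universe u
variable {A B : Type u} [CommRing A] [CommRing B] [Algebra A B]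

section avoid

/-- graded prime avoidance, in ring-hom form -/
theorem exists_homog_avoid {K : Type*} [CommRing K] [IsDomain K]
    (𝒜 : ℕ → Submodule A B) [GradedAlgebra 𝒜] {ι : Type*} (s : Finset ι) (Λ : ι → B →+* K)
    (h : ∀ i ∈ s, ∃ n, 0 < n ∧ ∃ f ∈ 𝒜 n, Λ i f ≠ 0) :
    ∃ n, 0 < n ∧ ∃ f ∈ 𝒜 n, ∀ i ∈ s, Λ i f ≠ 0 := by
  classical
  induction s using Finset.strongInduction with
  | H s ih =>
    rcases s.eq_empty_or_nonempty with rfl | ⟨i₀, hi₀⟩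
    · exact ⟨1, Nat.one_pos, 0, Submodule.zero_mem _, fun i hi => absurd hi (Finset.notMem_empty i)⟩
    have hex : ∀ i ∈ s, ∃ n, 0 < n ∧ ∃ f ∈ 𝒜 n, ∀ j ∈ s.erase i, Λ j f ≠ 0 := fun i hi =>
      ih (s.erase i) (Finset.erase_ssubset hi) (fun j hj => h j (Finset.mem_of_mem_erase hj))
    choose! n hn f hf hfa using hex
    by_cases hgood : ∃ i ∈ s, Λ i (f i) ≠ 0
    · obtain ⟨i, hi, hne⟩ := hgood
      refine ⟨n i, hn i hi, f i, hf i hi, fun j hj => ?_⟩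
      by_cases hji : j = i
      · subst hji; exact hne
      · exact hfa i hi j (Finset.mem_erase.2 ⟨hji, hj⟩)
    push Not at hgood
    by_cases hs1 : s.erase i₀ = ∅
    · obtain ⟨m, hm, g, hg, hne⟩ := h i₀ hi₀
      refine ⟨m, hm, g, hg, fun j hj => ?_⟩
      by_cases hji : j = i₀
      · subst hji; exact hne
      · exact absurd (Finset.mem_erase.2 ⟨hji, hj⟩) (by rw [hs1]; exact Finset.notMem_empty j)
    have hs' : (s.erase i₀).Nonempty := Finset.nonempty_iff_ne_empty.2 hs1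
    set e' := ∑ j ∈ s.erase i₀, n j with he'
    have he'pos : 0 < e' := by
      apply Finset.sum_pos _ hs'
      intro j hj
      exact hn j (Finset.mem_of_mem_erase hj)
    set g := ∏ j ∈ s.erase i₀, f j with hg
    have hgmem : g ∈ 𝒜 e' :=
      SetLike.prod_mem_graded 𝒜 n f (fun j hj => hf j (Finset.mem_of_mem_erase hj))
    have h1 : f i₀ ^ e' ∈ 𝒜 (n i₀ * e') := by
      have := SetLike.pow_mem_graded e' (hf i₀ hi₀)
      rwa [smul_eq_mul, mul_comm] at this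
    have h2 : g ^ n i₀ ∈ 𝒜 (n i₀ * e') := by
      have := SetLike.pow_mem_graded (n i₀) hgmem
      rwa [smul_eq_mul] at this
    refine ⟨n i₀ * e', Nat.mul_pos (hn i₀ hi₀) he'pos, f i₀ ^ e' + g ^ n i₀,
      Submodule.add_mem _ h1 h2, fun i hi => ?_⟩
    rw [map_add, map_pow, map_pow, hg, map_prod]
    by_cases hii : i = i₀
    · subst hii
      rw [hgood i hi, zero_pow he'pos.ne', zero_add]
      apply pow_ne_zero
      rw [Finset.prod_ne_zero_iff]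
      intro j hj
      have hj' := Finset.mem_erase.1 hj
      exact hfa j hj'.2 i (Finset.mem_erase.2 ⟨Ne.symm hj'.1, hi⟩)
    · have hi' : i ∈ s.erase i₀ := Finset.mem_erase.2 ⟨hii, hi⟩
      rw [Finset.prod_eq_zero hi' (hgood i hi), zero_pow (hn i₀ hi₀).ne', add_zero]
      exact pow_ne_zero _ (hfa i₀ hi₀ i hi')

end avoid

section hom
variable {𝒜 : ℕ → Submodule A B} [GradedAlgebra 𝒜] {d : ℕ}

theorem pow_mem_grade {x : B} (hx : x ∈ 𝒜 1) (n : ℕ) : x ^ n ∈ 𝒜 n := by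
  have := SetLike.pow_mem_graded n hx
  rwa [smul_eq_mul, mul_one] at this

/-- the twisted slot map in degree `n`: `f ↦ b_1^n ⊗ ⋯ ⊗ f ⊗ ⋯ ⊗ b_d^n` -/
noncomputable def muC {b : Fin d → B} (hb : ∀ i, b i ∈ 𝒜 1) (i : Fin d) (n : ℕ) :
    𝒜 n →ₗ[A] Cal 𝒜 d :=
  LinearMap.codRestrict (Subalgebra.toSubmodule (Cal 𝒜 d))
    (((PiTensorProduct.tprod A).toLinearMap (fun j => b j ^ n) i).comp (𝒜 n).subtype)
    (fun f => tprod_mem_Cal (update_mem (fun j => pow_mem_grade (hb j) n) f.2 i))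

theorem muC_coe {b : Fin d → B} (hb : ∀ i, b i ∈ 𝒜 1) (i : Fin d) (n : ℕ) (f : 𝒜 n) :
    (muC hb i n f : ⨂[A] _ : Fin d, B) =
      PiTensorProduct.tprod A (Function.update (fun j => b j ^ n) i (f : B)) := rfl

theorem muC_one {b : Fin d → B} (hb : ∀ i, b i ∈ 𝒜 1) (i : Fin d) :
    muC hb i 0 (@GradedMonoid.GOne.one ℕ (fun n => 𝒜 n) _ _) = 1 := by
  apply Subtype.ext
  rw [muC_coe]
  have : Function.update (fun j => b j ^ 0) i
      ((@GradedMonoid.GOne.one ℕ (fun n => 𝒜 n) _ _ : 𝒜 0) : B) = 1 := by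
    funext j
    by_cases hji : j = i
    · subst hji; simp [SetLike.coe_gOne]
    · rw [Function.update_of_ne hji]; simp
  rw [this]
  exact PiTensorProduct.one_def.symm

theorem muC_mul {b : Fin d → B} (hb : ∀ i, b i ∈ 𝒜 1) (i : Fin d) {n m : ℕ} (x : 𝒜 n) (y : 𝒜 m) :
    muC hb i (n + m) (@GradedMonoid.GMul.mul ℕ (fun n => 𝒜 n) _ _ n m x y) =
      muC hb i n x * muC hb i m y := by
  apply Subtype.ext
  rw [Subalgebra.coe_mul, muC_coe, muC_coe, muC_coe, PiTensorProduct.tprod_mul_tprod]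
  congr 1
  funext j
  by_cases hji : j = i
  · subst hji; simp [SetLike.coe_gMul]
  · simp only [Pi.mul_apply, Function.update_of_ne hji, pow_add]

/-- the ring homomorphism `Λ_i : B → C/𝔓` -/
noncomputable def LamHom (𝔓 : Ideal (Cal 𝒜 d)) {b : Fin d → B} (hb : ∀ i, b i ∈ 𝒜 1) (i : Fin d) :
    B →+* (Cal 𝒜 d ⧸ 𝔓) :=
  (DirectSum.toSemiring
    (fun n => (Ideal.Quotient.mk 𝔓).toAddMonoidHom.comp (muC hb i n).toAddMonoidHom)
    (by
      show Ideal.Quotient.mk 𝔓 (muC hb i 0 (@GradedMonoid.GOne.one ℕ (fun n => 𝒜 n) _ _)) = 1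
      rw [muC_one, map_one])
    (by
      intro n m x y
      show Ideal.Quotient.mk 𝔓 (muC hb i (n + m)
          (@GradedMonoid.GMul.mul ℕ (fun n => 𝒜 n) _ _ n m x y)) =
        Ideal.Quotient.mk 𝔓 (muC hb i n x) * Ideal.Quotient.mk 𝔓 (muC hb i m y)
      rw [muC_mul, map_mul])).comp (DirectSum.decomposeRingEquiv 𝒜).toRingHom

theorem LamHom_apply (𝔓 : Ideal (Cal 𝒜 d)) {b : Fin d → B} (hb : ∀ i, b i ∈ 𝒜 1) (i : Fin d)
    {n : ℕ} {f : B} (hf : f ∈ 𝒜 n) :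
    LamHom 𝔓 hb i f = Ideal.Quotient.mk 𝔓 (muC hb i n ⟨f, hf⟩) := by
  unfold LamHom
  rw [RingHom.comp_apply]
  have : (DirectSum.decomposeRingEquiv 𝒜).toRingHom f =
      DirectSum.of (fun i => 𝒜 i) n ⟨f, hf⟩ := DirectSum.decompose_of_mem 𝒜 hf
  rw [this, DirectSum.toSemiring_of]
  rfl

end hom

section S13391
variable {𝒜 : ℕ → Submodule A B} [GradedAlgebra 𝒜] {d : ℕ}

theorem key91 (𝔓 : Ideal (Cal 𝒜 d)) [𝔓.IsPrime] {b : Fin d → B} (hb : ∀ i, b i ∈ 𝒜 1)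
    (hx : (⟨PiTensorProduct.tprod A b, tprod_mem_Cal hb⟩ : Cal 𝒜 d) ∉ 𝔓) :
    ∃ (n : ℕ) (_ : 0 < n) (f : B) (hf : f ∈ 𝒜 n), (⟨PiTensorProduct.tprod A (fun _ : Fin d => f),
      tprod_mem_Cal (fun _ => hf)⟩ : Cal 𝒜 d) ∉ 𝔓 := by
  classical
  have h0 : ∀ i ∈ (Finset.univ : Finset (Fin d)), ∃ n, 0 < n ∧ ∃ f ∈ 𝒜 n, LamHom 𝔓 hb i f ≠ 0 := by
    intro i _
    refine ⟨1, Nat.one_pos, b i, hb i, ?_⟩
    rw [LamHom_apply 𝔓 hb i (hb i), Ne, Ideal.Quotient.eq_zero_iff_mem]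
    have : muC hb i 1 ⟨b i, hb i⟩ = ⟨PiTensorProduct.tprod A b, tprod_mem_Cal hb⟩ := by
      apply Subtype.ext
      rw [muC_coe]
      congr 1
      funext j
      by_cases hji : j = i
      · subst hji; simp
      · rw [Function.update_of_ne hji]; simp
    rw [this]
    exact hx
  obtain ⟨n, hn, f, hf, hfa⟩ := exists_homog_avoid (K := Cal 𝒜 d ⧸ 𝔓) 𝒜 Finset.univ (LamHom 𝔓 hb) h0
  refine ⟨n, hn, f, hf, ?_⟩
  apply tprod_notMem_of_update 𝔓 (fun j => pow_mem_grade (hb j) n) (fun _ => hf)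
  intro i
  have := hfa i (Finset.mem_univ i)
  rw [LamHom_apply 𝔓 hb i hf, Ne, Ideal.Quotient.eq_zero_iff_mem] at this
  exact this

theorem S13391_main (𝒜 : ℕ → Submodule A B) [GradedAlgebra 𝒜]
    (hgen : Algebra.adjoin A (𝒜 1 : Set B) = ⊤) (d : ℕ)
    (D : Subalgebra A (⨂[A] _ : Fin d, B))
    (hD : D = Algebra.adjoin A {t | ∃ (k : ℕ) (b : Fin d → B), (∀ i, b i ∈ 𝒜 k) ∧
      t = PiTensorProduct.tprod A b} ⊓ SymTen.TS A B d)
    (k : ℕ) (hk : 0 < k) (t : ⨂[A] _ : Fin d, B) (htD : t ∈ D)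
    (htk : t ∈ Submodule.span A {s | ∃ b : Fin d → B, (∀ i, b i ∈ 𝒜 k) ∧
      s = PiTensorProduct.tprod A b}) :
    ∃ m : ℕ, 0 < m ∧ (⟨t, htD⟩ : D) ^ m ∈
      Ideal.span {x : D | ∃ (n : ℕ) (f : B), 0 < n ∧ f ∈ 𝒜 n ∧
        (x : ⨂[A] _ : Fin d, B) = PiTensorProduct.tprod A (fun _ : Fin d => f)} := by
  subst hD
  refine main_reduction (𝒜 := 𝒜) hgen _ ?_ hk t htD htk
  intro 𝔓 hP hall b hb
  by_contra hx
  obtain ⟨n, hn, f, hf, hfP⟩ := key91 𝔓 hb hx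
  apply hfP
  exact hall ⟨_, tprod_mem_Cal (fun _ => hf), (SymTen.tpow A B d f).2⟩ ⟨n, f, hn, hf, rfl⟩

end S13391

end Groth.Agent.H9.SPC
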