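import Mathlib
import Groth.Prelude.Def_SymTen
import Groth.Agent.Lib.Helper9.Misc.SPC1
import Groth.Agent.Lib.Helper9.Misc.SPC2
import Groth.Agent.Lib.Helper9.Misc.SPC3

/-! Helper9: Sym^d of Proj: covering in degree one via orbit sums -/

set_option linter.style.haveILetI false
set_option linter.unusedSectionVars false

namespace Groth.Agent.H9.SPC
open scoped TensorProduct

universe u
variable {A B : Type u} [CommRing A] [CommRing B] [Algebra A B]

section S13390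
variable {𝒜 : ℕ → Submodule A B} {d : ℕ}

/-- the type (multiset of values) of a map `Fin d → Fin d` -/
noncomputable def ty (φ : Fin d → Fin d) : Fin d →₀ ℕ := ∑ i, Finsupp.single (φ i) 1

theorem ty_comp (φ : Fin d → Fin d) (σ : Equiv.Perm (Fin d)) : ty (φ ∘ σ) = ty φ := by
  unfold ty
  exact Equiv.sum_comp σ (fun i => Finsupp.single (φ i) 1)

/-- the orbit sum of pure tensors `b ∘ φ`, `φ` of type `m` -/
noncomputable def orb (b : Fin d → B) (m : Fin d →₀ ℕ) : ⨂[A] _ : Fin d, B :=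
  ∑ φ ∈ Finset.univ.filter (fun φ : Fin d → Fin d => ty φ = m), PiTensorProduct.tprod A (b ∘ φ)

theorem orb_mem_span {b : Fin d → B} (hb : ∀ i, b i ∈ 𝒜 1) (m : Fin d →₀ ℕ) :
    orb (A := A) b m ∈ Submodule.span A (pureSet 𝒜 d 1) :=
  Submodule.sum_mem _ fun φ _ => Submodule.subset_span ⟨b ∘ φ, fun _ => hb _, rfl⟩

theorem orb_mem_TS (b : Fin d → B) (m : Fin d →₀ ℕ) : orb (A := A) b m ∈ SymTen.TS A B d := by
  apply mem_TS_of_perm
  intro σ
  unfold orb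
  rw [map_sum]
  simp only [SymTen.perm_tprod]
  refine Finset.sum_equiv (Equiv.arrowCongr σ (Equiv.refl _)) ?_ ?_
  · intro φ
    simp only [Finset.mem_filter, Finset.mem_univ, true_and]
    have : (Equiv.arrowCongr σ (Equiv.refl (Fin d))) φ = φ ∘ (σ.symm : Equiv.Perm (Fin d)) := rfl
    rw [this, ty_comp]
  · intro φ _
    rfl

open MvPolynomial in
theorem exists_type_sum_ne_zero {K : Type*} [CommRing K] [IsDomain K] (a : Fin d → Fin d → K)
    (ha : ∀ i, a i i ≠ 0) :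
    ∃ m : Fin d →₀ ℕ,
      ∑ φ ∈ Finset.univ.filter (fun φ : Fin d → Fin d => ty φ = m), ∏ i, a i (φ i) ≠ 0 := by
  classical
  by_contra hall
  push Not at hall
  have hQ : (∏ i : Fin d, ∑ j : Fin d, C (a i j) * X j : MvPolynomial (Fin d) K) ≠ 0 := by
    rw [Finset.prod_ne_zero_iff]
    intro i _ h0
    have := congrArg (coeff (Finsupp.single i 1)) h0
    rw [coeff_sum, coeff_zero] at this
    simp only [coeff_C_mul, coeff_X, Finsupp.single_left_inj (one_ne_zero : (1 : ℕ) ≠ 0)] at this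
    simp only [mul_ite, mul_one, mul_zero, Finset.sum_ite_eq', Finset.mem_univ, if_true] at this
    exact ha i this
  apply hQ
  rw [Finset.prod_univ_sum, Fintype.piFinset_univ]
  have h1 : ∀ φ : Fin d → Fin d, (∏ i, C (a i (φ i)) * X (φ i) : MvPolynomial (Fin d) K) =
      monomial (ty φ) (∏ i, a i (φ i)) := by
    intro φ
    have hX : (∏ i, X (φ i) : MvPolynomial (Fin d) K) =
        monomial (∑ i, Finsupp.single (φ i) 1) 1 := by
      rw [monomial_sum_one]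
      rfl
    rw [Finset.prod_mul_distrib, ← map_prod, ty, hX, C_mul_monomial, mul_one]
  simp only [h1]
  rw [← Finset.sum_fiberwise_of_maps_to (t := Finset.univ.image ty) (g := ty)
    (fun φ _ => Finset.mem_image_of_mem _ (Finset.mem_univ φ))]
  apply Finset.sum_eq_zero
  intro m _
  have h2 : ∀ φ ∈ Finset.univ.filter (fun φ : Fin d → Fin d => ty φ = m),
      (monomial (ty φ) (∏ i, a i (φ i)) : MvPolynomial (Fin d) K) =
        monomial m (∏ i, a i (φ i)) := by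
    intro φ hφ
    rw [(Finset.mem_filter.1 hφ).2]
  rw [Finset.sum_congr rfl h2, ← map_sum, hall m, map_zero]

theorem key90 (𝔓 : Ideal (Cal 𝒜 d)) [𝔓.IsPrime] {b : Fin d → B} (hb : ∀ i, b i ∈ 𝒜 1)
    (hx : (⟨PiTensorProduct.tprod A b, tprod_mem_Cal hb⟩ : Cal 𝒜 d) ∉ 𝔓) :
    ∃ m : Fin d →₀ ℕ, (⟨orb b m, span_pureSet_le_Cal 1 (orb_mem_span hb m)⟩ : Cal 𝒜 d) ∉ 𝔓 := by
  classical
  let π : Cal 𝒜 d →+* (Cal 𝒜 d ⧸ 𝔓) := Ideal.Quotient.mk 𝔓
  let uC : Fin d → Fin d → Cal 𝒜 d := fun i j =>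
    ⟨PiTensorProduct.tprod A (Function.update b i (b j)), tprod_mem_Cal (update_mem hb (hb j) i)⟩
  let yC : (Fin d → Fin d) → Cal 𝒜 d := fun φ =>
    ⟨PiTensorProduct.tprod A (b ∘ φ), tprod_mem_Cal (fun i => hb (φ i))⟩
  let x₁ : Cal 𝒜 d := ⟨PiTensorProduct.tprod A b, tprod_mem_Cal hb⟩
  have hprod : ∀ φ : Fin d → Fin d, ∏ i, uC i (φ i) = x₁ ^ (d - 1) * yC φ := by
    intro φ
    apply Subtype.ext
    rw [SubmonoidClass.coe_finsetProd]
    exact prod_update_tprod b (b ∘ φ)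
  have ha : ∀ i, π (uC i i) ≠ 0 := by
    intro i
    rw [Ne, Ideal.Quotient.eq_zero_iff_mem]
    have : uC i i = x₁ := by
      apply Subtype.ext
      show PiTensorProduct.tprod A (Function.update b i (b i)) = PiTensorProduct.tprod A b
      rw [Function.update_eq_self]
    rw [this]
    exact hx
  obtain ⟨m, hm⟩ := exists_type_sum_ne_zero (fun i j => π (uC i j)) ha
  refine ⟨m, fun hmem => hm ?_⟩
  have hsum : (⟨orb b m, span_pureSet_le_Cal 1 (orb_mem_span hb m)⟩ : Cal 𝒜 d) =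
      ∑ φ ∈ Finset.univ.filter (fun φ : Fin d → Fin d => ty φ = m), yC φ := by
    apply Subtype.ext
    rw [AddSubmonoidClass.coe_finsetSum]
    rfl
  have e : ∑ φ ∈ Finset.univ.filter (fun φ : Fin d → Fin d => ty φ = m), ∏ i, π (uC i (φ i)) =
      π (x₁ ^ (d - 1) * ⟨orb b m, span_pureSet_le_Cal 1 (orb_mem_span hb m)⟩) := by
    rw [hsum, Finset.mul_sum]
    have hs := map_sum (G := Cal 𝒜 d →+* Cal 𝒜 d ⧸ 𝔓) (M := Cal 𝒜 d) (N := Cal 𝒜 d ⧸ 𝔓) π
      (fun φ => x₁ ^ (d - 1) * yC φ)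
      (Finset.univ.filter (fun φ : Fin d → Fin d => ty φ = m))
    rw [hs]
    refine Finset.sum_congr rfl fun φ _ => ?_
    rw [← hprod φ]
    exact (map_prod (G := Cal 𝒜 d →+* Cal 𝒜 d ⧸ 𝔓) (M := Cal 𝒜 d) (N := Cal 𝒜 d ⧸ 𝔓) π
      (fun i => uC i (φ i)) Finset.univ).symm
  rw [e, Ideal.Quotient.eq_zero_iff_mem]
  exact 𝔓.mul_mem_left _ hmem

theorem S13390_main (𝒜 : ℕ → Submodule A B) [GradedAlgebra 𝒜]
    (hgen : Algebra.adjoin A (𝒜 1 : Set B) = ⊤) (d : ℕ)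
    (D : Subalgebra A (⨂[A] _ : Fin d, B))
    (hD : D = Algebra.adjoin A {t | ∃ (k : ℕ) (b : Fin d → B), (∀ i, b i ∈ 𝒜 k) ∧
      t = PiTensorProduct.tprod A b} ⊓ SymTen.TS A B d)
    (k : ℕ) (hk : 0 < k) (t : ⨂[A] _ : Fin d, B) (htD : t ∈ D)
    (htk : t ∈ Submodule.span A {s | ∃ b : Fin d → B, (∀ i, b i ∈ 𝒜 k) ∧
      s = PiTensorProduct.tprod A b}) :
    ∃ m : ℕ, 0 < m ∧ (⟨t, htD⟩ : D) ^ m ∈
      Ideal.span {x : D | (x : ⨂[A] _ : Fin d, B) ∈
        Submodule.span A {s | ∃ b : Fin d → B, (∀ i, b i ∈ 𝒜 1) ∧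
          s = PiTensorProduct.tprod A b}} := by
  subst hD
  refine main_reduction (𝒜 := 𝒜) hgen _ ?_ hk t htD htk
  intro 𝔓 hP hall b hb
  by_contra hx
  obtain ⟨m, hm⟩ := key90 𝔓 hb hx
  apply hm
  exact hall ⟨orb b m, span_pureSet_le_Cal 1 (orb_mem_span hb m), orb_mem_TS b m⟩
    (orb_mem_span hb m)

end S13390

end Groth.Agent.H9.SPC
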