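import Mathlib

/-! Helper9: counting positive compositions. -/

namespace Groth.Agent.H9.SR

universe v
variable {L : Type v} [DecidableEq L]

/-- indicator of `C` -/
noncomputable def eC (C : Finset L) : L →₀ ℕ := Finsupp.indicator C (fun _ _ => 1)

lemma eC_apply (C : Finset L) (x : L) : eC C x = if x ∈ C then 1 else 0 := by
  unfold eC
  rw [Finsupp.indicator_apply]
  split_ifs <;> rfl

lemma comp_count [Fintype L] (C : Finset L) (hC : C.Nonempty) (m : ℕ) (hm : 1 ≤ m) :
    (((Finset.univ : Finset L).finsuppAntidiag m).filter (fun s => s.support = C)).card
      = Nat.choose (m - 1) (C.card - 1) := by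
  have hC1 : 1 ≤ C.card := Finset.card_pos.mpr hC
  by_cases hlt : m < C.card
  · rw [Nat.choose_eq_zero_of_lt (by omega), Finset.card_eq_zero, Finset.filter_eq_empty_iff]
    intro s hs hsC
    rw [Finset.mem_finsuppAntidiag] at hs
    have h1 : ∑ x ∈ C, s x = m := by
      rw [← hs.1]
      apply Finset.sum_subset (Finset.subset_univ _)
      intro x _ hx
      rw [← hsC] at hx
      exact Finsupp.notMem_support_iff.mp hx
    have h2 : C.card ≤ ∑ x ∈ C, s x := by
      calc C.card = ∑ x ∈ C, 1 := by simp
        _ ≤ ∑ x ∈ C, s x := by
          apply Finset.sum_le_sum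
          intro x hx
          rw [← hsC] at hx
          exact Nat.one_le_iff_ne_zero.mpr (Finsupp.mem_support_iff.mp hx)
    omega
  · push Not at hlt
    have key : ((Finset.univ : Finset L).finsuppAntidiag m).filter (fun s => s.support = C)
        = (C.finsuppAntidiag (m - C.card)).map ⟨(· + eC C), add_left_injective _⟩ := by
      ext s
      rw [Finset.mem_filter, Finset.mem_finsuppAntidiag, Finset.mem_map]
      constructor
      · rintro ⟨⟨h1, -⟩, hsC⟩
        have hs1 : ∀ x ∈ C, 1 ≤ s x := by
          intro x hx
          rw [← hsC] at hx
          exact Nat.one_le_iff_ne_zero.mpr (Finsupp.mem_support_iff.mp hx)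
        have hle : eC C ≤ s := by
          intro x
          rw [eC_apply]
          split_ifs with hx
          · exact hs1 x hx
          · exact Nat.zero_le _
        have hsum : ∑ x ∈ C, s x = m := by
          rw [← h1]
          apply Finset.sum_subset (Finset.subset_univ _)
          intro x _ hx
          rw [← hsC] at hx
          exact Finsupp.notMem_support_iff.mp hx
        refine ⟨s - eC C, ?_, ?_⟩
        · rw [Finset.mem_finsuppAntidiag]
          constructor
          · have h3 : C.sum (⇑(s - eC C)) + C.card = m := by
              rw [← hsum, Finset.card_eq_sum_ones, ← Finset.sum_add_distrib]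
              apply Finset.sum_congr rfl
              intro x hx
              rw [Finsupp.tsub_apply, eC_apply, if_pos hx]
              have := hs1 x hx
              omega
            omega
          · rw [← hsC]
            exact Finsupp.support_mono tsub_le_self
        · show s - eC C + eC C = s
          exact tsub_add_cancel_of_le hle
      · rintro ⟨g, hg, rfl⟩
        rw [Finset.mem_finsuppAntidiag] at hg
        obtain ⟨hg1, hg2⟩ := hg
        have hg0 : ∀ x, x ∉ C → g x = 0 := by
          intro x hx
          exact Finsupp.notMem_support_iff.mp (fun h => hx (hg2 h))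
        show (∑ x, (g + eC C) x = m ∧ _) ∧ (g + eC C).support = C
        refine ⟨⟨?_, Finset.subset_univ _⟩, ?_⟩
        · have h4 : ∑ x, (g + eC C) x = ∑ x ∈ C, (g + eC C) x := by
            symm
            apply Finset.sum_subset (Finset.subset_univ _)
            intro x _ hx
            rw [Finsupp.add_apply, hg0 x hx, eC_apply, if_neg hx, add_zero]
          rw [h4]
          have h5 : ∑ x ∈ C, (g + eC C) x = (∑ x ∈ C, g x) + C.card := by
            rw [Finset.card_eq_sum_ones, ← Finset.sum_add_distrib]
            apply Finset.sum_congr rfl
            intro x hx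
            rw [Finsupp.add_apply, eC_apply, if_pos hx]
          rw [h5, hg1]
          omega
        · ext x
          rw [Finsupp.mem_support_iff, Finsupp.add_apply, eC_apply]
          by_cases hx : x ∈ C
          · rw [if_pos hx]
            simp [hx]
          · rw [if_neg hx, hg0 x hx]
            simp [hx]
    rw [key, Finset.card_map, Finset.card_finsuppAntidiag_nat_eq_choose]
    have h6 : C.card + (m - C.card) - 1 = m - 1 := by omega
    rw [h6]
    apply Nat.choose_symm_of_eq_add
    omega

end Groth.Agent.H9.SR
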