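import Mathlib
import Groth.Agent.Lib.Helper9.Misc.SRH1
import Groth.Agent.Lib.Helper9.Misc.SR2

/-! Helper9: Hilbert function of Stanley–Reisner ring. -/

namespace Groth.Agent.H9.SR

universe u v
variable {L : Type v} [Preorder L] [Fintype L]

omit [Fintype L] in
lemma good_iff_isChain (s : L →₀ ℕ) :
    good s ↔ IsChain (fun a b : L => a ≤ b) (↑s.support : Set L) := by
  constructor
  · intro h a ha b hb _
    exact h a ha b hb
  · intro h a ha b hb
    by_cases hab : a = b
    · subst hab
      exact Or.inl le_rfl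
    · exact h ha hb hab

theorem card_Gm (m : ℕ) (hm : 1 ≤ m) :
    (Gm (L := L) m).card =
      ∑ᶠ C : {C : Finset L // C.Nonempty ∧ IsChain (fun a b : L => a ≤ b) (↑C : Set L)},
        Nat.choose (m - 1) (C.1.card - 1) := by
  classical
  rw [finsum_eq_sum_of_fintype]
  rw [← Finset.sum_subtype (Finset.univ.filter
      (fun C : Finset L => C.Nonempty ∧ IsChain (fun a b : L => a ≤ b) (↑C : Set L)))
      (by intro x; simp) (fun C => Nat.choose (m - 1) (C.card - 1))]
  rw [Finset.card_eq_sum_card_fiberwise (f := fun s : L →₀ ℕ => s.support)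
      (t := Finset.univ.filter
      (fun C : Finset L => C.Nonempty ∧ IsChain (fun a b : L => a ≤ b) (↑C : Set L)))]
  · apply Finset.sum_congr rfl
    intro C hC
    rw [Finset.mem_filter] at hC
    rw [← comp_count C hC.2.1 m hm]
    congr 1
    ext s
    simp only [Finset.mem_filter]
    constructor
    · rintro ⟨h1, h2⟩
      refine ⟨?_, h2⟩
      unfold Gm at h1
      exact (Finset.mem_filter.mp h1).1
    · rintro ⟨h1, h2⟩
      refine ⟨?_, h2⟩
      unfold Gm
      rw [Finset.mem_filter]
      refine ⟨h1, ?_⟩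
      rw [good_iff_isChain, h2]
      exact hC.2.2
  · intro s hs
    rw [Finset.mem_coe] at hs
    have h1 := mem_Gm.mp hs
    simp only [Finset.coe_filter, Finset.mem_univ, true_and, Set.mem_ofPred_eq]
    refine ⟨?_, (good_iff_isChain s).mp h1.2⟩
    rw [Finset.nonempty_iff_ne_empty, Ne, Finsupp.support_eq_empty]
    rintro rfl
    have := h1.1
    simp at this
    omega

theorem main (K : Type u) [Field K] (m : ℕ) (hm : 1 ≤ m) :
    Module.finrank K ((MvPolynomial.homogeneousSubmodule L K m).map
        (Ideal.Quotient.mkₐ K (Ideal.span {f : MvPolynomial L K | ∃ a b : L, ¬ a ≤ b ∧ ¬ b ≤ a ∧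
          f = MvPolynomial.X a * MvPolynomial.X b})).toLinearMap) =
      ∑ᶠ C : {C : Finset L // C.Nonempty ∧ IsChain (fun a b : L => a ≤ b) (↑C : Set L)},
        Nat.choose (m - 1) (C.1.card - 1) := by
  rw [← card_Gm m hm]
  exact finrank_eq (K := K) m

end Groth.Agent.H9.SR
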