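import Mathlib

set_option autoImplicit false
set_option linter.style.haveILetI false
set_option linter.unusedSectionVars false
set_option linter.unusedVariables false

namespace Groth.Agent.H9.SRN

open Matrix

universe u

variable {O : Type u} [CommRing O] {n : ℕ}

/-- ℕ-indexed getter of a matrix, zero outside. -/
def g (Z : Matrix (Fin (n + 1)) (Fin (n + 1)) O) (i j : ℕ) : O :=
  if hi : i < n + 1 then if hj : j < n + 1 then Z ⟨i, hi⟩ ⟨j, hj⟩ else 0 else 0

lemma g_fin (Z : Matrix (Fin (n + 1)) (Fin (n + 1)) O) (i j : Fin (n + 1)) :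
    g Z i j = Z i j := by
  simp [g, i.2, j.2]

lemma g_eq (Z : Matrix (Fin (n + 1)) (Fin (n + 1)) O) {i j : ℕ} (hi : i < n + 1)
    (hj : j < n + 1) : g Z i j = Z ⟨i, hi⟩ ⟨j, hj⟩ := by
  simp [g, hi, hj]

lemma g_add (Z W : Matrix (Fin (n + 1)) (Fin (n + 1)) O) (i j : ℕ) :
    g (Z + W) i j = g Z i j + g W i j := by
  unfold g
  split_ifs <;> simp

lemma g_smul (c : O) (Z : Matrix (Fin (n + 1)) (Fin (n + 1)) O) (i j : ℕ) :
    g (c • Z) i j = c * g Z i j := by
  unfold g
  split_ifs <;> simp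

/-- the commutator with the subregular nilpotent. -/
lemma comm_apply (x M : Matrix (Fin (n + 1)) (Fin (n + 1)) O)
    (hx : ∀ i j : Fin (n + 1), x i j = if j.val = i.val + 1 ∧ j.val < n then 1 else 0)
    (i j : Fin (n + 1)) :
    (x * M - M * x) i j = (if i.val + 1 < n then g M (i.val + 1) j.val else 0) -
      (if 1 ≤ j.val ∧ j.val < n then g M i.val (j.val - 1) else 0) := by
  rw [Matrix.sub_apply, Matrix.mul_apply, Matrix.mul_apply]
  congr 1
  · split_ifs with h
    · rw [Finset.sum_eq_single (⟨i.val + 1, by omega⟩ : Fin (n + 1))]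
      · rw [hx, if_pos ⟨rfl, h⟩, one_mul, g_eq M (by omega) j.2]
      · intro l _ hl
        rw [hx, if_neg, zero_mul]
        rintro ⟨h1, h2⟩
        exact hl (Fin.ext h1)
      · intro h0; exact absurd (Finset.mem_univ _) h0
    · refine Finset.sum_eq_zero fun l _ => ?_
      rw [hx, if_neg, zero_mul]
      rintro ⟨h1, h2⟩
      omega
  · split_ifs with h
    · rw [Finset.sum_eq_single (⟨j.val - 1, by omega⟩ : Fin (n + 1))]
      · rw [hx, if_pos ⟨by simp; omega, h.2⟩, mul_one, g_eq M i.2 (by omega)]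
      · intro l _ hl
        rw [hx, if_neg, mul_zero]
        rintro ⟨h1, h2⟩
        apply hl
        apply Fin.ext
        simp only
        omega
      · intro h0; exact absurd (Finset.mem_univ _) h0
    · refine Finset.sum_eq_zero fun l _ => ?_
      rw [hx, if_neg, mul_zero]
      rintro ⟨h1, h2⟩
      omega

/-- block entries. -/
def zb (Z : Matrix (Fin (n + 1)) (Fin (n + 1)) O) (i j : ℕ) : O :=
  if i < n ∧ j < n then g Z i j else 0

lemma zb_add (Z W : Matrix (Fin (n + 1)) (Fin (n + 1)) O) (i j : ℕ) :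
    zb (Z + W) i j = zb Z i j + zb W i j := by
  unfold zb
  split_ifs <;> simp [g_add]

lemma zb_smul (c : O) (Z : Matrix (Fin (n + 1)) (Fin (n + 1)) O) (i j : ℕ) :
    zb (c • Z) i j = c * zb Z i j := by
  unfold zb
  split_ifs <;> simp [g_smul]

/-- partial diagonal sums. -/
def dS (Z : Matrix (Fin (n + 1)) (Fin (n + 1)) O) (s m : ℕ) : O :=
  ∑ j ∈ Finset.range m, zb Z (j + s) j

lemma dS_succ (Z : Matrix (Fin (n + 1)) (Fin (n + 1)) O) (s m : ℕ) :
    dS Z s (m + 1) = dS Z s m + zb Z (m + s) m := by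
  unfold dS
  rw [Finset.sum_range_succ]

/-- recursive solution on the block. -/
def blk (Z : Matrix (Fin (n + 1)) (Fin (n + 1)) O) : ℕ → ℕ → O
  | 0, _ => 0
  | (p + 1), 0 => zb Z p 0
  | (p + 1), (q + 1) => zb Z p (q + 1) + blk Z p q

lemma blk_lower (Z : Matrix (Fin (n + 1)) (Fin (n + 1)) O) (q s : ℕ) :
    blk Z (q + 1 + s) q = dS Z s (q + 1) := by
  induction q with
  | zero =>
    rw [show 0 + 1 + s = s + 1 by omega, blk, dS, Finset.sum_range_one, zero_add]
  | succ q ih =>
    rw [show q + 1 + 1 + s = (q + 1 + s) + 1 by omega, blk, ih, dS_succ (m := q + 1), add_comm]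

lemma telescope (u : ℕ → O) (m : ℕ) :
    ∑ j ∈ Finset.range m, ((if j + 1 < m then u j else 0) -
      (if 1 ≤ j then u (j - 1) else 0)) = 0 := by
  cases m with
  | zero => simp
  | succ m =>
    rw [Finset.sum_sub_distrib, Finset.sum_range_succ, Finset.sum_range_succ']
    simp only [lt_self_iff_false, if_false, add_zero, Nat.le_add_left, if_true,
      Nat.add_sub_cancel]
    rw [sub_eq_zero, if_neg (by omega), add_zero]
    refine Finset.sum_congr rfl fun j hj => ?_
    rw [if_pos]
    have := Finset.mem_range.mp hj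
    omega

end Groth.Agent.H9.SRN
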