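import Mathlib
import Groth.Agent.Lib.Helper9.Misc.SRN1

set_option autoImplicit false
set_option linter.style.haveILetI false
set_option linter.unusedSectionVars false
set_option linter.unusedVariables false

namespace Groth.Agent.H9.SRN

open Matrix

universe u

variable {O : Type u} [CommRing O] {n : ℕ}

lemma dS_add (Z W : Matrix (Fin (n + 1)) (Fin (n + 1)) O) (s m : ℕ) :
    dS (Z + W) s m = dS Z s m + dS W s m := by
  unfold dS
  rw [← Finset.sum_add_distrib]
  exact Finset.sum_congr rfl fun j _ => zb_add Z W _ _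

lemma dS_smul (c : O) (Z : Matrix (Fin (n + 1)) (Fin (n + 1)) O) (s m : ℕ) :
    dS (c • Z) s m = c * dS Z s m := by
  unfold dS
  rw [Finset.mul_sum]
  exact Finset.sum_congr rfl fun j _ => zb_smul c Z _ _

variable (O n) in
/-- the functionals. -/
def Phi : Matrix (Fin (n + 1)) (Fin (n + 1)) O →ₗ[O] (Fin n → O) × O × O where
  toFun Z := (fun s => dS Z s.val (n - s.val), g Z (n - 1) n, g Z n 0)
  map_add' Z W := by
    ext s
    · simp [dS_add]
    · simp [g_add]
    · simp [g_add]
  map_smul' c Z := by
    ext s
    · simp [dS_smul]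
    · simp [g_smul]
    · simp [g_smul]

lemma Phi_apply (Z : Matrix (Fin (n + 1)) (Fin (n + 1)) O) :
    Phi O n Z = (fun s => dS Z s.val (n - s.val), g Z (n - 1) n, g Z n 0) := rfl

lemma Phi_comm (x M : Matrix (Fin (n + 1)) (Fin (n + 1)) O)
    (hx : ∀ i j : Fin (n + 1), x i j = if j.val = i.val + 1 ∧ j.val < n then 1 else 0) :
    Phi O n (x * M - M * x) = 0 := by
  rw [Phi_apply]
  refine Prod.ext ?_ (Prod.ext ?_ ?_)
  · funext s
    show dS (x * M - M * x) s.val (n - s.val) = 0
    unfold dS
    rw [← telescope (fun j => g M (j + s.val + 1) j) (n - s.val)]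
    refine Finset.sum_congr rfl fun j hj => ?_
    have hj' := Finset.mem_range.mp hj
    have hs := s.2
    rw [zb, if_pos ⟨by omega, by omega⟩, g_eq _ (show j + s.val < n + 1 by omega)
      (show j < n + 1 by omega), comm_apply x M hx]
    simp only
    congr 1
    · by_cases h : j + s.val + 1 < n
      · rw [if_pos h, if_pos (by omega)]
      · rw [if_neg h, if_neg (by omega)]
    · by_cases h : 1 ≤ j
      · rw [if_pos ⟨h, by omega⟩, if_pos h]
        congr 1
        omega
      · rw [if_neg (fun h' => h h'.1), if_neg h]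
  · show g (x * M - M * x) (n - 1) n = 0
    rw [g_eq _ (show n - 1 < n + 1 by omega) (show n < n + 1 by omega), comm_apply x M hx]
    simp only
    rw [if_neg (by omega), if_neg (by omega), sub_zero]
  · show g (x * M - M * x) n 0 = 0
    rw [g_eq _ (show n < n + 1 by omega) (show 0 < n + 1 by omega), comm_apply x M hx]
    simp only
    rw [if_neg (by omega), if_neg (by omega), sub_zero]

/-- the solution matrix, as a function on ℕ × ℕ. -/
def Mfun (Z : Matrix (Fin (n + 1)) (Fin (n + 1)) O) (p q : ℕ) : O :=
  if p < n ∧ q < n then blk Z p q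
  else if q = n ∧ 1 ≤ p ∧ p < n then g Z (p - 1) n
  else if p = n ∧ q + 1 < n then - g Z n (q + 1)
  else if p = n ∧ q = n then - ∑ l ∈ Finset.range n, blk Z l l
  else 0

lemma trace_eq (Z : Matrix (Fin (n + 1)) (Fin (n + 1)) O) :
    Matrix.trace Z = (∑ l ∈ Finset.range n, g Z l l) + g Z n n := by
  unfold Matrix.trace
  rw [Fin.sum_univ_castSucc]
  congr 1
  · rw [← Fin.sum_univ_eq_sum_range (fun l => g Z l l) n]
    refine Finset.sum_congr rfl fun i _ => ?_
    rw [g_eq Z (show i.val < n + 1 by omega) (show i.val < n + 1 by omega)]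
    rfl
  · rw [g_eq Z (show n < n + 1 by omega) (show n < n + 1 by omega)]
    rfl

lemma dS_zero_eq (Z : Matrix (Fin (n + 1)) (Fin (n + 1)) O) :
    dS Z 0 n = ∑ l ∈ Finset.range n, g Z l l := by
  unfold dS
  refine Finset.sum_congr rfl fun j hj => ?_
  have := Finset.mem_range.mp hj
  rw [zb, if_pos ⟨by omega, by omega⟩, add_zero]

theorem exists_preimage (hn : 1 ≤ n) (x Z : Matrix (Fin (n + 1)) (Fin (n + 1)) O)
    (hx : ∀ i j : Fin (n + 1), x i j = if j.val = i.val + 1 ∧ j.val < n then 1 else 0)
    (htr : Matrix.trace Z = 0) (hZ : Phi O n Z = 0) :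
    ∃ M : Matrix (Fin (n + 1)) (Fin (n + 1)) O, Matrix.trace M = 0 ∧ x * M - M * x = Z := by
  rw [Phi_apply] at hZ
  have h1 : ∀ s, s < n → dS Z s (n - s) = 0 := by
    intro s hs
    exact congrFun (congrArg Prod.fst hZ) ⟨s, hs⟩
  have h2 : g Z (n - 1) n = 0 := congrArg (fun p => p.2.1) hZ
  have h3 : g Z n 0 = 0 := congrArg (fun p => p.2.2) hZ
  have h4 : g Z n n = 0 := by
    have := trace_eq Z
    have h0 := h1 0 (by omega)
    rw [Nat.sub_zero] at h0
    rw [htr, ← dS_zero_eq, h0] at this
    simpa using this.symm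
  let M : Matrix (Fin (n + 1)) (Fin (n + 1)) O := Matrix.of fun i j => Mfun Z i.val j.val
  have hgM : ∀ p q, p < n + 1 → q < n + 1 → g M p q = Mfun Z p q := by
    intro p q hp hq
    rw [g_eq M hp hq]
    rfl
  refine ⟨M, ?_, ?_⟩
  · rw [trace_eq M, hgM n n (by omega) (by omega)]
    have e1 : Mfun Z n n = - ∑ l ∈ Finset.range n, blk Z l l := by
      unfold Mfun
      rw [if_neg (by omega), if_neg (by omega), if_neg (by omega), if_pos ⟨rfl, rfl⟩]
    have e2 : ∑ l ∈ Finset.range n, g M l l = ∑ l ∈ Finset.range n, blk Z l l := by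
      refine Finset.sum_congr rfl fun l hl => ?_
      have := Finset.mem_range.mp hl
      rw [hgM l l (by omega) (by omega)]
      unfold Mfun
      rw [if_pos ⟨this, this⟩]
    rw [e1, e2, add_neg_cancel]
  · ext i j
    rw [comm_apply x M hx i j]
    have hi := i.2
    have hj := j.2
    by_cases hjn : j.val = n
    · -- column n
      rw [if_neg (by omega : ¬ (1 ≤ j.val ∧ j.val < n)), sub_zero]
      by_cases hi1 : i.val + 1 < n
      · rw [if_pos hi1, hgM _ _ (by omega) (by omega)]
        unfold Mfun
        rw [if_neg (by omega), if_pos ⟨hjn, by omega, hi1⟩, Nat.add_sub_cancel,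
          g_eq Z (show i.val < n + 1 by omega) (show n < n + 1 by omega)]
        congr 1
        exact Fin.ext hjn.symm
      · rw [if_neg hi1]
        have hin : i.val = n - 1 ∨ i.val = n := by omega
        rcases hin with hin | hin
        · rw [← g_fin Z i j, hin, hjn, h2]
        · rw [← g_fin Z i j, hin, hjn, h4]
    · have hjn' : j.val < n := by omega
      by_cases hin : i.val = n
      · -- row n
        rw [if_neg (by omega : ¬ (i.val + 1 < n)), zero_sub]
        by_cases hj1 : 1 ≤ j.val
        · rw [if_pos ⟨hj1, hjn'⟩, hgM _ _ (by omega) (by omega)]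
          unfold Mfun
          rw [if_neg (by omega), if_neg (by omega), if_pos ⟨hin, by omega⟩, neg_neg,
            Nat.sub_add_cancel hj1, ← g_fin Z i j, hin]
        · rw [if_neg (fun h => hj1 h.1), neg_zero, ← g_fin Z i j, hin,
            show j.val = 0 by omega, h3]
      · have hin' : i.val < n := by omega
        by_cases hi1 : i.val + 1 < n
        · rw [if_pos hi1, hgM _ _ (by omega) (by omega)]
          by_cases hj1 : 1 ≤ j.val
          · rw [if_pos ⟨hj1, hjn'⟩, hgM _ _ (by omega) (by omega)]
            unfold Mfun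
            rw [if_pos ⟨hi1, hjn'⟩, if_pos ⟨hin', by omega⟩]
            obtain ⟨q, hq⟩ : ∃ q, j.val = q + 1 := ⟨j.val - 1, by omega⟩
            rw [hq, Nat.add_sub_cancel, blk, add_sub_cancel_right, zb,
              if_pos ⟨hin', by omega⟩, ← hq, g_fin]
          · rw [if_neg (fun h => hj1 h.1), sub_zero]
            unfold Mfun
            rw [if_pos ⟨hi1, hjn'⟩, show j.val = 0 by omega, blk, zb, if_pos ⟨hin', by omega⟩,
              ← g_fin Z i j, show j.val = 0 by omega]
        · -- row n - 1
          have hin1 : i.val = n - 1 := by omega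
          rw [if_neg hi1, zero_sub]
          by_cases hj1 : 1 ≤ j.val
          · rw [if_pos ⟨hj1, hjn'⟩, hgM _ _ (by omega) (by omega)]
            unfold Mfun
            rw [if_pos ⟨hin', by omega⟩]
            -- blk (n-1) (j-1) = dS (n-1-j) j
            have e1 : blk Z i.val (j.val - 1) = dS Z (n - 1 - j.val) j.val := by
              have := blk_lower Z (j.val - 1) (n - 1 - j.val)
              rw [show j.val - 1 + 1 + (n - 1 - j.val) = i.val by omega,
                show j.val - 1 + 1 = j.val by omega] at this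
              exact this
            have e2 := h1 (n - 1 - j.val) (by omega)
            rw [show n - (n - 1 - j.val) = j.val + 1 by omega, dS_succ,
              show j.val + (n - 1 - j.val) = i.val by omega] at e2
            rw [e1, eq_neg_of_add_eq_zero_left e2, neg_neg, zb, if_pos ⟨hin', hjn'⟩, g_fin]
          · rw [if_neg (fun h => hj1 h.1), neg_zero]
            have e2 := h1 (n - 1) (by omega)
            rw [show n - (n - 1) = 1 by omega, dS, Finset.sum_range_one, zero_add, zb,
              if_pos ⟨by omega, by omega⟩] at e2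
            rw [← g_fin Z i j, hin1, show j.val = 0 by omega, e2]

end Groth.Agent.H9.SRN
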