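import Mathlib
import Groth.Agent.Lib.Helper9.Misc.SRN2

set_option autoImplicit false
set_option linter.style.haveILetI false
set_option linter.unusedSectionVars false
set_option linter.unusedVariables false

namespace Groth.Agent.H9.SRN

open Matrix

universe u

variable {O : Type u} [CommRing O] {n : ℕ}

attribute [local instance 100] LieRing.ofAssociativeRing

/-- auxiliary for surjectivity. -/
def Zfun (c : Fin n → O) (μ ν : O) (p q : ℕ) : O :=
  if q = 0 ∧ p < n then (if h : p < n then c ⟨p, h⟩ else 0)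
  else if p = n - 1 ∧ q = n then μ
  else if p = n ∧ q = 0 then ν
  else if p = n ∧ q = n then - (if h : 0 < n then c ⟨0, h⟩ else 0)
  else 0

theorem exists_section (hn : 1 ≤ n) (c : Fin n → O) (μ ν : O) :
    ∃ Z : Matrix (Fin (n + 1)) (Fin (n + 1)) O, Matrix.trace Z = 0 ∧ Phi O n Z = (c, μ, ν) := by
  let Z : Matrix (Fin (n + 1)) (Fin (n + 1)) O := Matrix.of fun i j => Zfun c μ ν i.val j.val
  have hgZ : ∀ p q, p < n + 1 → q < n + 1 → g Z p q = Zfun c μ ν p q := by
    intro p q hp hq
    rw [g_eq Z hp hq]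
    rfl
  refine ⟨Z, ?_, ?_⟩
  · rw [trace_eq, hgZ n n (by omega) (by omega)]
    have e1 : Zfun c μ ν n n = - c ⟨0, by omega⟩ := by
      unfold Zfun
      rw [if_neg (by omega), if_neg (by omega), if_neg (by omega), if_pos ⟨rfl, rfl⟩,
        dif_pos (by omega)]
    have e2 : ∑ l ∈ Finset.range n, g Z l l = c ⟨0, by omega⟩ := by
      rw [Finset.sum_eq_single 0]
      · rw [hgZ 0 0 (by omega) (by omega)]
        unfold Zfun
        rw [if_pos ⟨rfl, by omega⟩, dif_pos (by omega)]
      · intro l hl hl0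
        have := Finset.mem_range.mp hl
        rw [hgZ l l (by omega) (by omega)]
        unfold Zfun
        rw [if_neg (by omega), if_neg (by omega), if_neg (by omega), if_neg (by omega)]
      · intro h
        exact absurd (Finset.mem_range.mpr (by omega)) h
    rw [e1, e2, add_neg_cancel]
  · rw [Phi_apply]
    refine Prod.ext ?_ (Prod.ext ?_ ?_)
    · funext s
      show dS Z s.val (n - s.val) = c s
      have hs := s.2
      unfold dS
      rw [Finset.sum_eq_single 0]
      · rw [zb, if_pos ⟨by omega, by omega⟩, hgZ _ _ (by omega) (by omega)]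
        unfold Zfun
        rw [if_pos ⟨rfl, by omega⟩, dif_pos (by omega)]
        congr 1
        exact Fin.ext (by simp)
      · intro j hj hj0
        have := Finset.mem_range.mp hj
        rw [zb, if_pos ⟨by omega, by omega⟩, hgZ _ _ (by omega) (by omega)]
        unfold Zfun
        rw [if_neg (by omega), if_neg (by omega), if_neg (by omega), if_neg (by omega)]
      · intro h
        exact absurd (Finset.mem_range.mpr (by omega)) h
    · show g Z (n - 1) n = μ
      rw [hgZ _ _ (by omega) (by omega)]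
      unfold Zfun
      rw [if_neg (by omega), if_pos ⟨rfl, rfl⟩]
    · show g Z n 0 = ν
      rw [hgZ _ _ (by omega) (by omega)]
      unfold Zfun
      rw [if_neg (by omega), if_neg (by omega), if_pos ⟨rfl, rfl⟩]

open LieAlgebra.SpecialLinear in
theorem main [Nontrivial O] (hn : 1 ≤ n)
    (x : LieAlgebra.SpecialLinear.sl (Fin (n + 1)) O)
    (hx : ∀ i j : Fin (n + 1), (x : Matrix (Fin (n + 1)) (Fin (n + 1)) O) i j =
      if j.val = i.val + 1 ∧ j.val < n then 1 else 0) :
    Module.Free O (LieAlgebra.SpecialLinear.sl (Fin (n + 1)) O ⧸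
        LinearMap.range (LieAlgebra.ad O (LieAlgebra.SpecialLinear.sl (Fin (n + 1)) O) x)) ∧
      Module.finrank O (LieAlgebra.SpecialLinear.sl (Fin (n + 1)) O ⧸
        LinearMap.range (LieAlgebra.ad O (LieAlgebra.SpecialLinear.sl (Fin (n + 1)) O) x)) = n + 2 := by
  classical
  let incl : ↥(sl (Fin (n + 1)) O) →ₗ[O] Matrix (Fin (n + 1)) (Fin (n + 1)) O :=
    ((sl (Fin (n + 1)) O).incl : ↥(sl (Fin (n + 1)) O) →ₗ[O] _)
  have hincl : ∀ y : ↥(sl (Fin (n + 1)) O), incl y = y.val := fun y => rfl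
  have hmem : ∀ M : Matrix (Fin (n + 1)) (Fin (n + 1)) O,
      M ∈ sl (Fin (n + 1)) O ↔ Matrix.trace M = 0 := fun M => Iff.rfl
  let Φ : ↥(sl (Fin (n + 1)) O) →ₗ[O] (Fin n → O) × O × O := (Phi O n).comp incl
  have hker : LinearMap.ker Φ =
      LinearMap.range (LieAlgebra.ad O (LieAlgebra.SpecialLinear.sl (Fin (n + 1)) O) x) := by
    ext y
    rw [LinearMap.mem_ker, LinearMap.mem_range]
    constructor
    · intro hy
      obtain ⟨M, hM, hMZ⟩ := exists_preimage hn x.val y.val hx ((hmem _).mp y.2) hy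
      refine ⟨⟨M, (hmem M).mpr hM⟩, ?_⟩
      apply Subtype.ext
      rw [LieAlgebra.ad_apply, sl_bracket]
      exact hMZ
    · rintro ⟨M, rfl⟩
      show Phi O n (incl _) = 0
      rw [hincl, LieAlgebra.ad_apply, sl_bracket]
      exact Phi_comm x.val M.val hx
  have hsurj : Function.Surjective Φ := by
    rintro ⟨c, μ, ν⟩
    obtain ⟨Z, hZ, hΦ⟩ := exists_section hn c μ ν
    exact ⟨⟨Z, (hmem Z).mpr hZ⟩, hΦ⟩
  let e : (↥(sl (Fin (n + 1)) O) ⧸
      LinearMap.range (LieAlgebra.ad O (LieAlgebra.SpecialLinear.sl (Fin (n + 1)) O) x)) ≃ₗ[O]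
      (Fin n → O) × O × O :=
    (Submodule.quotEquivOfEq _ _ hker.symm).trans (Φ.quotKerEquivOfSurjective hsurj)
  refine ⟨Module.Free.of_equiv e.symm, ?_⟩
  rw [LinearEquiv.finrank_eq e, Module.finrank_prod, Module.finrank_prod, Module.finrank_fin_fun,
    Module.finrank_self]

end Groth.Agent.H9.SRN
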