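import Mathlib
import Groth.Prelude.Def_W4c2brnrinvarInvFld
import Groth.Agent.Lib.Helper9.Misc.NNM5

/-! Helper9: invariants of the permutation action of S_n on k(x_1..x_n) — generated by the elementary symmetric functions. -/

set_option linter.style.haveILetI false
set_option linter.unusedSectionVars false

namespace Groth.Agent.H9.SYM

open MvPolynomial

universe u
variable (k : Type u) [Field k] (n : ℕ)

/-- permutation action on the polynomial ring -/
noncomputable def permPoly :
    Equiv.Perm (Fin n) →* (MvPolynomial (Fin n) k ≃ₐ[k] MvPolynomial (Fin n) k) where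
  toFun π := MvPolynomial.renameEquiv k π
  map_one' := by
    apply AlgEquiv.ext
    intro p
    simp
  map_mul' π ρ := by
    apply AlgEquiv.ext
    intro p
    simp [MvPolynomial.rename_rename]

theorem permPoly_apply (π : Equiv.Perm (Fin n)) (p : MvPolynomial (Fin n) k) :
    permPoly k n π p = rename π p := rfl

/-- permutation action on the rational function field -/
noncomputable def permFld :
    Equiv.Perm (Fin n) →* (InvFld.Fld (Fin n) k ≃ₐ[k] InvFld.Fld (Fin n) k) :=
  (IsFractionRing.fieldEquivOfAlgEquivHom k (InvFld.Fld (Fin n) k)).comp (permPoly k n)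

theorem permFld_algebraMap (π : Equiv.Perm (Fin n)) (p : MvPolynomial (Fin n) k) :
    permFld k n π (algebraMap _ (InvFld.Fld (Fin n) k) p) =
      algebraMap _ (InvFld.Fld (Fin n) k) (rename π p) := by
  simp only [permFld, MonoidHom.comp_apply, IsFractionRing.fieldEquivOfAlgEquivHom_apply,
    IsFractionRing.fieldEquivOfAlgEquiv_algebraMap, permPoly_apply]

theorem permFld_X (π : Equiv.Perm (Fin n)) (i : Fin n) :
    permFld k n π (InvFld.X i) = InvFld.X (π i) := by
  rw [InvFld.X, permFld_algebraMap, rename_X]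

theorem permFld_injective : Function.Injective (permFld k n) := by
  intro π ρ h
  ext i
  have h1 : permFld k n π (InvFld.X i) = permFld k n ρ (InvFld.X i) := by rw [h]
  rw [permFld_X, permFld_X] at h1
  have h2 : (X (π i) : MvPolynomial (Fin n) k) = X (ρ i) :=
    IsFractionRing.injective (MvPolynomial (Fin n) k) (InvFld.Fld (Fin n) k) h1
  rw [MvPolynomial.X_injective h2]

/-- the elementary symmetric functions in the field -/
noncomputable def ebar (i : Fin n) : InvFld.Fld (Fin n) k :=
  algebraMap (MvPolynomial (Fin n) k) (InvFld.Fld (Fin n) k) (esymm (Fin n) k (i + 1))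

theorem aeval_ebar (P : MvPolynomial (Fin n) k) :
    aeval (ebar k n) P = algebraMap (MvPolynomial (Fin n) k) (InvFld.Fld (Fin n) k)
      ((esymmAlgHom (Fin n) k n P : symmetricSubalgebra (Fin n) k) : MvPolynomial (Fin n) k) := by
  have h : (aeval (ebar k n) : MvPolynomial (Fin n) k →ₐ[k] InvFld.Fld (Fin n) k) =
      ((IsScalarTower.toAlgHom k (MvPolynomial (Fin n) k) (InvFld.Fld (Fin n) k)).comp
        (symmetricSubalgebra (Fin n) k).val).comp (esymmAlgHom (Fin n) k n) := by
    apply MvPolynomial.algHom_ext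
    intro i
    simp [ebar, esymmAlgHom]
  rw [h]
  rfl

theorem ebar_algebraicIndependent : AlgebraicIndependent k (ebar k n) := by
  rw [algebraicIndependent_iff_injective_aeval]
  intro P Q h
  rw [aeval_ebar, aeval_ebar] at h
  have h1 := IsFractionRing.injective (MvPolynomial (Fin n) k) (InvFld.Fld (Fin n) k) h
  exact (esymmAlgHom_fin_bijective k n).1 (Subtype.ext h1)

theorem ebar_mem_fixedField (i : Fin n) :
    ebar k n i ∈ IntermediateField.fixedField (permFld k n).range := by
  rw [IntermediateField.mem_fixedField_iff]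
  rintro _ ⟨π, rfl⟩
  rw [ebar, permFld_algebraMap, esymm_isSymmetric]

local notation "Ak" => MvPolynomial (Fin n) k
local notation "Mk" => InvFld.Fld (Fin n) k

/-- fixed elements are quotients of polynomials in the elementary symmetric functions -/
theorem exists_of_mem_fixedField (w : InvFld.Fld (Fin n) k)
    (hu : w ∈ IntermediateField.fixedField (permFld k n).range) :
    ∃ P Q : MvPolynomial (Fin n) k, aeval (ebar k n) Q ≠ 0 ∧
      w = aeval (ebar k n) P / aeval (ebar k n) Q := by
  classical
  rw [IntermediateField.mem_fixedField_iff] at hu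
  obtain ⟨p, q, hq, hpq⟩ := IsFractionRing.div_surjective (A := MvPolynomial (Fin n) k) w
  have hq0 : q ≠ 0 := nonZeroDivisors.ne_zero hq
  -- the norm of q
  set Nq : Ak := ∏ π : Equiv.Perm (Fin n), rename π q with hNq
  have hNq0 : Nq ≠ 0 := by
    rw [hNq, Finset.prod_ne_zero_iff]
    intro π _ h0
    apply hq0
    apply rename_injective π π.injective
    rw [h0, map_zero]
  have hNqsym : Nq.IsSymmetric := by
    intro ρ
    rw [hNq, map_prod]
    simp only [rename_rename]
    exact Fintype.prod_equiv (Equiv.mulLeft ρ) _ _ (fun π => rfl)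
  -- Nq = q * rest
  set rest : Ak := ∏ π ∈ (Finset.univ.erase (1 : Equiv.Perm (Fin n))), rename π q with hrest
  have hNq' : Nq = q * rest := by
    rw [hNq, hrest, ← Finset.mul_prod_erase Finset.univ _ (Finset.mem_univ 1)]
    simp
  set P0 : Ak := p * rest with hP0
  have hu' : algebraMap Ak Mk p / algebraMap Ak Mk q = algebraMap Ak Mk P0 / algebraMap Ak Mk Nq := by
    have hq1 : algebraMap Ak Mk q ≠ 0 := by
      intro h0
      exact hq0 (IsFractionRing.injective Ak Mk (by rw [h0, map_zero]))
    have hN1 : algebraMap Ak Mk Nq ≠ 0 := by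
      intro h0
      exact hNq0 (IsFractionRing.injective Ak Mk (by rw [h0, map_zero]))
    rw [div_eq_div_iff hq1 hN1, hP0, hNq']
    simp only [map_mul]
    ring
  have hN1 : algebraMap Ak Mk Nq ≠ 0 := by
    intro h0
    exact hNq0 (IsFractionRing.injective Ak Mk (by rw [h0, map_zero]))
  have hP0sym : P0.IsSymmetric := by
    intro ρ
    apply IsFractionRing.injective Ak Mk
    have h1 : algebraMap Ak Mk P0 = (algebraMap Ak Mk p / algebraMap Ak Mk q) * algebraMap Ak Mk Nq := by
      rw [hu', div_mul_cancel₀ _ hN1]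
    have h2 := hu (permFld k n ρ) ⟨ρ, rfl⟩
    rw [← hpq] at h2
    have h3 : permFld k n ρ (algebraMap Ak Mk P0) = algebraMap Ak Mk P0 := by
      rw [h1, map_mul, h2, permFld_algebraMap, hNqsym ρ]
    rw [permFld_algebraMap] at h3
    exact h3
  obtain ⟨P, hP⟩ := (esymmAlgHom_fin_bijective k n).2
    ⟨P0, (mem_symmetricSubalgebra P0).2 hP0sym⟩
  obtain ⟨Q, hQ⟩ := (esymmAlgHom_fin_bijective k n).2
    ⟨Nq, (mem_symmetricSubalgebra Nq).2 hNqsym⟩
  refine ⟨P, Q, ?_, ?_⟩
  · rw [aeval_ebar, hQ]
    exact hN1
  · rw [aeval_ebar, aeval_ebar, hP, hQ, ← hpq]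
    exact hu'

end Groth.Agent.H9.SYM
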