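import Mathlib
import Groth.Prelude.Def_W4c2brnrinvarInvFld
import Groth.Agent.Lib.Helper9.Misc.SYM1

/-! Helper9: stable purity of k(V)^{S_n} (S15698). -/

set_option linter.style.haveILetI false
set_option linter.unusedSectionVars false

namespace Groth.Agent.H9.SYM

open MvPolynomial Groth.Agent.H9.NNM

universe u
variable (k : Type u) [Field k] (n : ℕ)

open scoped IntermediateField.algebraAdjoinAdjoin

/-- the elementary symmetric functions as elements of the fixed field -/
noncomputable def ebar' (i : Fin n) : IntermediateField.fixedField (permFld k n).range :=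
  ⟨ebar k n i, ebar_mem_fixedField k n i⟩

theorem ebar'_algebraicIndependent : AlgebraicIndependent k (ebar' k n) := by
  have h := ebar_algebraicIndependent k n
  have h2 : ebar k n = (IntermediateField.fixedField (permFld k n).range).val ∘ ebar' k n := by
    funext i
    rfl
  rw [h2] at h
  exact (AlgHom.algebraicIndependent_iff _ (RingHom.injective _)).1 h

theorem adjoin_ebar'_eq_top : IntermediateField.adjoin k (Set.range (ebar' k n)) = ⊤ := by
  rw [eq_top_iff]
  rintro ⟨w, hw⟩ _
  obtain ⟨P, Q, hQ, hPQ⟩ := exists_of_mem_fixedField k n w hw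
  have hval : ∀ P : MvPolynomial (Fin n) k,
      ((aeval (ebar' k n) P : IntermediateField.fixedField (permFld k n).range) :
        InvFld.Fld (Fin n) k) = aeval (ebar k n) P := by
    intro P
    have h := MvPolynomial.comp_aeval_apply (ebar' k n)
      (IntermediateField.fixedField (permFld k n).range).val P
    exact h
  have hmem : ∀ P : MvPolynomial (Fin n) k, aeval (ebar' k n) P ∈
      IntermediateField.adjoin k (Set.range (ebar' k n)) := by
    intro P
    have h1 : aeval (ebar' k n) P ∈ Algebra.adjoin k (Set.range (ebar' k n)) := by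
      rw [Algebra.adjoin_range_eq_range_aeval]
      exact ⟨P, rfl⟩
    exact IntermediateField.algebra_adjoin_le_adjoin k _ h1
  have heq : (⟨w, hw⟩ : IntermediateField.fixedField (permFld k n).range) =
      aeval (ebar' k n) P / aeval (ebar' k n) Q := by
    apply Subtype.ext
    change w = ((aeval (ebar' k n) P : IntermediateField.fixedField (permFld k n).range) :
        InvFld.Fld (Fin n) k) / ((aeval (ebar' k n) Q :
        IntermediateField.fixedField (permFld k n).range) : InvFld.Fld (Fin n) k)
    rw [hval, hval]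
    exact hPQ
  rw [heq]
  exact div_mem (hmem P) (hmem Q)

/-- purity of a rational function field over a pure field -/
theorem pure_of_pure {K : Type u} [Field K] [Algebra k K] (e' : Fin n → K)
    (hind : AlgebraicIndependent k e') (hgen : IntermediateField.adjoin k (Set.range e') = ⊤)
    (s : ℕ) :
    ∃ (N : ℕ) (t : Fin N → InvFld.Fld (Fin s) K),
      AlgebraicIndependent k t ∧ IntermediateField.adjoin k (Set.range t) = ⊤ := by
  set M' := InvFld.Fld (Fin s) K
  have hX : AlgebraicIndependent K (fun j : Fin s => (InvFld.X j : InvFld.Fld (Fin s) K)) := by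
    rw [algebraicIndependent_iff_injective_aeval]
    have h : (aeval (fun j : Fin s => (InvFld.X j : InvFld.Fld (Fin s) K)) :
        MvPolynomial (Fin s) K →ₐ[K] InvFld.Fld (Fin s) K) =
        IsScalarTower.toAlgHom K (MvPolynomial (Fin s) K) (InvFld.Fld (Fin s) K) := by
      apply MvPolynomial.algHom_ext
      intro i
      simp
    rw [h]
    exact IsFractionRing.injective (MvPolynomial (Fin s) K) (InvFld.Fld (Fin s) K)
  set t' : Fin s ⊕ Fin n → InvFld.Fld (Fin s) K :=
    Sum.elim (fun j : Fin s => (InvFld.X j : InvFld.Fld (Fin s) K))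
      (algebraMap K (InvFld.Fld (Fin s) K) ∘ e') with ht'
  have hind' : AlgebraicIndependent k t' := AlgebraicIndependent.sumElim_comp hind hX
  have hgen' : IntermediateField.adjoin k (Set.range t') = ⊤ := by
    rw [eq_top_iff]
    intro w _
    set F := IntermediateField.adjoin k (Set.range t') with hF
    have hK : ∀ c : K, algebraMap K (InvFld.Fld (Fin s) K) c ∈ F := by
      intro c
      have h1 : (⊤ : IntermediateField k K) ≤
          F.comap (IsScalarTower.toAlgHom k K (InvFld.Fld (Fin s) K)) := by
        rw [← hgen, IntermediateField.adjoin_le_iff]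
        rintro _ ⟨i, rfl⟩
        change algebraMap K (InvFld.Fld (Fin s) K) (e' i) ∈ F
        exact IntermediateField.subset_adjoin k _ ⟨Sum.inr i, rfl⟩
      exact h1 (IntermediateField.mem_top (x := c))
    have hpoly : ∀ p : MvPolynomial (Fin s) K,
        algebraMap (MvPolynomial (Fin s) K) (InvFld.Fld (Fin s) K) p ∈ F := by
      intro p
      induction p using MvPolynomial.induction_on with
      | C a =>
        have : algebraMap (MvPolynomial (Fin s) K) (InvFld.Fld (Fin s) K) (C a) =
            algebraMap K (InvFld.Fld (Fin s) K) a := by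
          rw [← MvPolynomial.algebraMap_eq, ← IsScalarTower.algebraMap_apply]
        rw [this]
        exact hK a
      | add p q hp hq => rw [map_add]; exact add_mem hp hq
      | mul_X p i hp =>
        rw [map_mul]
        exact mul_mem hp (IntermediateField.subset_adjoin k _ ⟨Sum.inl i, rfl⟩)
    obtain ⟨a, b, _, rfl⟩ := IsFractionRing.div_surjective (A := MvPolynomial (Fin s) K) w
    exact div_mem (hpoly a) (hpoly b)
  refine ⟨s + n, t' ∘ finSumFinEquiv.symm, ?_, ?_⟩
  · exact hind'.comp _ finSumFinEquiv.symm.injective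
  · rw [Set.range_comp, Equiv.range_eq_univ, Set.image_univ]
    exact hgen'

/-- transporting purity along an isomorphism -/
theorem pure_of_equiv {L L' : Type*} [Field L] [Field L'] [Algebra k L] [Algebra k L']
    (Φ : L ≃ₐ[k] L') {N : ℕ} (t : Fin N → L') (hind : AlgebraicIndependent k t)
    (hgen : IntermediateField.adjoin k (Set.range t) = ⊤) :
    AlgebraicIndependent k (Φ.symm ∘ t) ∧
      IntermediateField.adjoin k (Set.range (Φ.symm ∘ t)) = ⊤ := by
  refine ⟨?_, ?_⟩
  · exact hind.map' (f := (Φ.symm : L' →ₐ[k] L)) Φ.symm.injective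
  · rw [Set.range_comp]
    have h := IntermediateField.adjoin_map k (Set.range t) (Φ.symm : L' →ₐ[k] L)
    have h2 : (Φ.symm : L' →ₐ[k] L) '' Set.range t = Φ.symm '' Set.range t := rfl
    rw [← h2, ← h, hgen, ← AlgHom.fieldRange_eq_map, AlgHom.fieldRange_eq_top]
    exact Φ.symm.surjective

theorem S15698_main [CharZero k] (n m : ℕ)
    (G : Subgroup (InvFld.Fld (Fin m) k ≃ₐ[k] InvFld.Fld (Fin m) k)) [Finite G]
    (e : G ≃* Equiv.Perm (Fin n))
    (hG : ∀ σ ∈ G, ∀ i : Fin m, σ (InvFld.X i) ∈ Submodule.span k
      (Set.range fun j : Fin m => (InvFld.X j : InvFld.Fld (Fin m) k))) :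
    ∃ (r N : ℕ) (t : Fin N → InvFld.Fld (Fin r) (IntermediateField.fixedField G)),
      AlgebraicIndependent k t ∧ IntermediateField.adjoin k (Set.range t) = ⊤ := by
  set H : Subgroup (InvFld.Fld (Fin n) k ≃ₐ[k] InvFld.Fld (Fin n) k) := (permFld k n).range
    with hH
  haveI : Finite H := Finite.of_surjective (permFld k n).rangeRestrict
    (permFld k n).rangeRestrict_surjective
  have hHlin : ∀ τ ∈ H, ∀ i : Fin n, τ (InvFld.X i) ∈ Submodule.span k
      (Set.range fun j : Fin n => (InvFld.X j : InvFld.Fld (Fin n) k)) := by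
    rintro _ ⟨π, rfl⟩ i
    rw [permFld_X]
    exact Submodule.subset_span ⟨π i, rfl⟩
  set e' : G ≃* H := e.trans (MonoidHom.ofInjective (permFld_injective k n))
  obtain ⟨r, s, ⟨Φ⟩⟩ := S15696_main m n G H e' hG hHlin
  obtain ⟨N, t, hind, hgen⟩ := pure_of_pure k n (ebar' k n) (ebar'_algebraicIndependent k n)
    (adjoin_ebar'_eq_top k n) s
  obtain ⟨h1, h2⟩ := pure_of_equiv k Φ t hind hgen
  exact ⟨r, N, Φ.symm ∘ t, h1, h2⟩

end Groth.Agent.H9.SYM
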