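import Mathlib

set_option autoImplicit false
set_option linter.unusedSectionVars false
set_option linter.unusedVariables false

namespace Groth.Agent.H9.SchubPl

open Module

universe u

variable (K : Type u) [Field K] (n d : ℕ) (V : ℕ → Submodule K (Fin n → K))
  (hV : ∀ (j : ℕ) (v : Fin n → K), v ∈ V j ↔ ∀ l : Fin n, j ≤ (l : ℕ) → v l = 0)
  (D : Fin d → ℕ) (A : Matrix (Fin d) (Fin n) K)
  (hA : LinearIndependent K (fun i : Fin d => A i))

include hV hA in
theorem fwd (i : Fin d)
    (hi : (i : ℕ) + 1 ≤ Module.finrank K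
      ↥(Submodule.span K (Set.range fun i : Fin d => A i) ⊓ V (D i)))
    (J : Fin d → Fin n) (hJ : StrictMono J) (hJi : D i ≤ (J i : ℕ)) :
    (A.submatrix id J).det = 0 := by
  by_contra hdet
  have hunit : IsUnit (A.submatrix id J) :=
    (Matrix.isUnit_iff_isUnit_det _).2 (Ne.isUnit hdet)
  have hrows : LinearIndependent K (A.submatrix id J).row :=
    Matrix.linearIndependent_rows_iff_isUnit.2 hunit
  have hinjW : ∀ w ∈ Submodule.span K (Set.range fun i : Fin d => A i),
      (∀ t : Fin d, w (J t) = 0) → w = 0 := by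
    intro w hw h0
    obtain ⟨c, rfl⟩ := (Submodule.mem_span_range_iff_exists_fun K).1 hw
    have hc : ∑ r, c r • (A.submatrix id J).row r = 0 := by
      funext t
      have h1 := h0 t
      rw [Finset.sum_apply] at h1 ⊢
      simpa [Matrix.row_apply, Matrix.submatrix_apply] using h1
    have hc0 := Fintype.linearIndependent_iff.1 hrows c hc
    simp [hc0]
  have hle : (i : ℕ) ≤ d := i.2.le
  let ψ : ↥(Submodule.span K (Set.range fun i : Fin d => A i) ⊓ V (D i)) →ₗ[K]
      (Fin (i : ℕ) → K) :=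
    LinearMap.pi (fun t => (LinearMap.proj (J (Fin.castLE hle t))) ∘ₗ (Submodule.subtype _))
  have hψ : Function.Injective ψ := by
    refine (injective_iff_map_eq_zero ψ).2 (fun x hx => ?_)
    apply Subtype.ext
    apply hinjW x.1 x.2.1
    intro t
    by_cases ht : (t : ℕ) < i
    · have h2 := congrFun hx ⟨(t : ℕ), ht⟩
      have e : Fin.castLE hle ⟨(t : ℕ), ht⟩ = t := Fin.ext rfl
      have h3 : ψ x ⟨(t : ℕ), ht⟩ = x.1 (J (Fin.castLE hle ⟨(t : ℕ), ht⟩)) := rfl
      rw [h3, e] at h2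
      exact h2
    · have hti : i ≤ t := Fin.le_iff_val_le_val.2 (not_lt.1 ht)
      have h4 : D i ≤ (J t : ℕ) := le_trans hJi (Fin.le_iff_val_le_val.1 (hJ.monotone hti))
      exact (hV (D i) x.1).1 x.2.2 (J t) h4
  have h5 := LinearMap.finrank_le_finrank_of_injective hψ
  rw [Module.finrank_fin_fun] at h5
  omega

include hV hA in
theorem bwd (i : Fin d)
    (hi : Module.finrank K
      ↥(Submodule.span K (Set.range fun i : Fin d => A i) ⊓ V (D i)) ≤ (i : ℕ)) :
    ∃ J : Fin d → Fin n, StrictMono J ∧ D i ≤ (J i : ℕ) ∧ (A.submatrix id J).det ≠ 0 := by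
  classical
  obtain ⟨W, hW⟩ : ∃ W, W = Submodule.span K (Set.range fun i : Fin d => A i) := ⟨_, rfl⟩
  rw [← hW] at hi
  have hWd : Module.finrank K ↥W = d := by
    rw [hW, finrank_span_eq_card hA, Fintype.card_fin]
  have hcolspan : Submodule.span K (Set.range A.col) = ⊤ := by
    apply Submodule.eq_top_of_finrank_eq
    rw [← Matrix.rank_eq_finrank_span_cols, LinearIndependent.rank_matrix (M := A) hA,
      Fintype.card_fin, Module.finrank_fin_fun]
  -- Step B
  obtain ⟨AT, hAT⟩ : ∃ AT : Matrix (Fin d) {l : Fin n // D i ≤ (l : ℕ)} K,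
      AT = A.submatrix id Subtype.val := ⟨_, rfl⟩
  obtain ⟨ρ, hρ⟩ : ∃ ρ : (Fin n → K) →ₗ[K] ({l : Fin n // D i ≤ (l : ℕ)} → K),
      ρ = LinearMap.funLeft K K (Subtype.val : {l : Fin n // D i ≤ (l : ℕ)} → Fin n) := ⟨_, rfl⟩
  have hρapp : ∀ (w : Fin n → K) (t : {l : Fin n // D i ≤ (l : ℕ)}), ρ w t = w t.1 := by
    intro w t
    rw [hρ]
    rfl
  have hrowsAT : W ≤ (Submodule.span K (Set.range AT.row)).comap ρ := by
    rw [hW, Submodule.span_le]
    rintro _ ⟨r, rfl⟩
    refine Submodule.subset_span ⟨r, ?_⟩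
    funext t
    rw [hρapp, hAT]
    rfl
  have hrange : LinearMap.range (ρ ∘ₗ W.subtype) ≤ Submodule.span K (Set.range AT.row) := by
    rintro _ ⟨w, rfl⟩
    exact hrowsAT w.2
  have hker : Module.finrank K ↥(LinearMap.ker (ρ ∘ₗ W.subtype)) ≤ (i : ℕ) := by
    rw [← Submodule.finrank_map_subtype_eq W (LinearMap.ker (ρ ∘ₗ W.subtype))]
    refine le_trans (Submodule.finrank_mono ?_) hi
    intro z hz
    obtain ⟨x, hx, rfl⟩ := Submodule.mem_map.1 hz
    refine Submodule.mem_inf.2 ⟨x.2, ?_⟩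
    rw [hV]
    intro l hl
    have h1 := congrFun (LinearMap.mem_ker.1 hx) ⟨l, hl⟩
    rw [LinearMap.comp_apply, hρapp] at h1
    exact h1
  have hrn := LinearMap.finrank_range_add_finrank_ker (ρ ∘ₗ W.subtype)
  have hATrank : d - (i : ℕ) ≤ AT.rank := by
    rw [Matrix.rank_eq_finrank_span_row]
    have h2 := Submodule.finrank_mono hrange
    omega
  obtain ⟨b, hbT, -, hbspan, hbli⟩ := exists_linearIndepOn_extension (K := K) (v := A.col)
    (linearIndepOn_empty K A.col) (Set.empty_subset {l : Fin n | D i ≤ (l : ℕ)})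
  have hrangeAT : Set.range AT.col = A.col '' {l : Fin n | D i ≤ (l : ℕ)} := by
    ext z
    constructor
    · rintro ⟨t, rfl⟩
      refine ⟨t.1, t.2, ?_⟩
      rw [hAT]
      rfl
    · rintro ⟨l, hl, rfl⟩
      refine ⟨⟨l, hl⟩, ?_⟩
      rw [hAT]
      rfl
  have hbcard : d - (i : ℕ) ≤ Fintype.card ↥b := by
    have h3 : Module.finrank K ↥(Submodule.span K (A.col '' b)) = Fintype.card ↥b := by
      rw [Set.image_eq_range]
      exact finrank_span_eq_card hbli
    have h4 : Submodule.span K (Set.range AT.col) ≤ Submodule.span K (A.col '' b) := by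
      rw [hrangeAT]
      exact Submodule.span_le.2 hbspan
    have h5 := Submodule.finrank_mono h4
    rw [← Matrix.rank_eq_finrank_span_cols] at h5
    omega
  -- Step C
  obtain ⟨S, -, hbS, hSspan, hSli⟩ := exists_linearIndepOn_extension hbli (Set.subset_univ b)
  have hScard : Fintype.card ↥S = d := by
    have h6 : Submodule.span K (A.col '' S) = ⊤ := by
      rw [← top_le_iff, ← hcolspan, ← Set.image_univ]
      exact Submodule.span_le.2 hSspan
    have h7 : Module.finrank K ↥(Submodule.span K (A.col '' S)) = Fintype.card ↥S := by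
      rw [Set.image_eq_range]
      exact finrank_span_eq_card hSli
    rw [h6, finrank_top, Module.finrank_fin_fun] at h7
    exact h7.symm
  -- Step D
  obtain ⟨S', hS'⟩ : ∃ S' : Finset (Fin n), S' = Finset.univ.filter (fun l => l ∈ S) := ⟨_, rfl⟩
  have hS'mem : ∀ l, l ∈ S' ↔ l ∈ S := by
    intro l
    rw [hS', Finset.mem_filter]
    exact ⟨fun h => h.2, fun h => ⟨Finset.mem_univ _, h⟩⟩
  have hS'card : S'.card = d := by
    rw [← hScard]
    exact (Fintype.card_of_subtype S' hS'mem).symm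
  obtain ⟨J, hJdef⟩ : ∃ J : Fin d ↪o Fin n, J = S'.orderEmbOfFin hS'card := ⟨_, rfl⟩
  have hJS : ∀ t, (J t) ∈ S := by
    intro t
    rw [← hS'mem, hJdef]
    exact Finset.orderEmbOfFin_mem S' hS'card t
  have hcols : LinearIndependent K (A.submatrix id J).col := by
    have h8 := hSli.comp (fun t : Fin d => (⟨J t, hJS t⟩ : ↥S)) (by
      intro t t' htt
      exact J.injective (congrArg Subtype.val htt))
    exact h8
  have hdet : (A.submatrix id J).det ≠ 0 :=
    ((Matrix.isUnit_iff_isUnit_det _).1 (Matrix.linearIndependent_cols_iff_isUnit.1 hcols)).ne_zero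
  refine ⟨J, J.strictMono, ?_, hdet⟩
  -- Step E
  by_contra hlt
  rw [not_le] at hlt
  obtain ⟨b', hb'⟩ : ∃ b' : Finset (Fin n), b' = Finset.univ.filter (fun l => l ∈ b) := ⟨_, rfl⟩
  have hb'mem : ∀ l, l ∈ b' ↔ l ∈ b := by
    intro l
    rw [hb', Finset.mem_filter]
    exact ⟨fun h => h.2, fun h => ⟨Finset.mem_univ _, h⟩⟩
  have hb'card : b'.card = Fintype.card ↥b := (Fintype.card_of_subtype b' hb'mem).symm
  have hsub : b' ⊆ (Finset.Ioi i).image J := by
    intro l hl
    rw [hb'mem] at hl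
    have hlS : l ∈ (S' : Set (Fin n)) := by
      rw [Finset.mem_coe, hS'mem]
      exact hbS hl
    rw [← Finset.range_orderEmbOfFin S' hS'card, ← hJdef] at hlS
    obtain ⟨t, rfl⟩ := hlS
    refine Finset.mem_image.2 ⟨t, ?_, rfl⟩
    rw [Finset.mem_Ioi]
    by_contra hti
    rw [not_lt] at hti
    have h9 : (J t : ℕ) ≤ (J i : ℕ) := Fin.le_iff_val_le_val.1 (J.monotone hti)
    have h10 : D i ≤ (J t : ℕ) := hbT hl
    omega
  have h11 := Finset.card_le_card hsub
  have h12 := Finset.card_image_le (s := Finset.Ioi i) (f := J)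
  rw [Fin.card_Ioi] at h12
  have hid : (i : ℕ) < d := i.2
  omega

include hV hA in
theorem schubert_iff :
    (∀ i : Fin d, (i : ℕ) + 1 ≤ Module.finrank K
        ↥(Submodule.span K (Set.range fun i : Fin d => A i) ⊓ V (D i))) ↔
      ∀ J : Fin d → Fin n, StrictMono J →
        (∃ i : Fin d, D i < (J i : ℕ) + 1) → (A.submatrix id J).det = 0 := by
  constructor
  · rintro h J hJ ⟨i, hi⟩
    exact fwd K n d V hV D A hA i (h i) J hJ (Nat.lt_succ_iff.1 hi)
  · intro h i
    by_contra hlt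
    rw [not_le] at hlt
    obtain ⟨J, hJ, hJi, hdet⟩ := bwd K n d V hV D A hA i (Nat.lt_succ_iff.1 hlt)
    exact hdet (h J hJ ⟨i, Nat.lt_succ_iff.2 hJi⟩)

end Groth.Agent.H9.SchubPl
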