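import Mathlib
import Groth.Prelude.Def_Hoch
import Groth.Prelude.Def_ComodTens
import Groth.Agent.Lib.Helper9.Misc.SchurWAct
import Groth.Agent.Lib.Helper9.Misc.SchurWTP
import Groth.Agent.Lib.Helper9.Misc.SchurWCore
import Groth.Agent.Lib.Helper9.Misc.SchurGAct
import Groth.Agent.Lib.Helper9.Misc.SchurGCore
import Groth.Agent.Lib.Helper9.Misc.SchurGSemi

set_option autoImplicit false
set_option linter.unusedSectionVars false
set_option linter.unusedVariables false

open TensorProduct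

noncomputable section

namespace Groth.Agent.H9.SchurW

universe u v w

section G4
variable {k : Type u} [Field k] [CharZero k] {A : Type v} [CommRing A] [Bialgebra k A] {n : ℕ}
  (x : Fin n → Fin n → A)

theorem semisimple_of_poly
    (hx : ∀ i j, CoalgebraStruct.comul (R := k) (x i j) = ∑ l, x i l ⊗ₜ[k] x l j)
    (hε : ∀ i j, CoalgebraStruct.counit (R := k) (x i j) = if i = j then (1 : k) else 0)
    (cstd : HopfRep.Comod k A (Fin n → k))
    (hcs : ∀ i, cstd.coact (Pi.single i 1) =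
      ∑ j, (Pi.single j (1 : k) : Fin n → k) ⊗ₜ[k] x j i)
    (S : Finset ℕ) (hinj : Function.Injective (tauS k x S))
    {V : Type w} [AddCommGroup V] [Module k V] [Module.Finite k V] (ρ : HopfRep.Comod k A V)
    (hτ : ∀ v, ρ.coact v ∈ LinearMap.range ((tauS k x S).lTensor V))
    (W : Submodule k V) (hW : ActStable ρ W) :
    ∃ W' : Submodule k V, ActStable ρ W' ∧ IsCompl W W' := by
  classical
  obtain ⟨π', hπ'⟩ := LinearMap.exists_leftInverse_of_injective (tauS k x S)
    (LinearMap.ker_eq_bot.2 hinj)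
  let π : A →ₗ[k] PP k n := (PS k n S).subtype ∘ₗ π'
  have hπ : ∀ a ∈ S, ∀ g : Fin a → Fin n × Fin n, π (tauA k x (xm k g)) = xm k g := by
    intro a ha g
    have h := LinearMap.congr_fun hπ' ⟨xm k g, xm_mem_PS k ha g⟩
    rw [LinearMap.comp_apply, LinearMap.id_apply] at h
    have h' : tauS k x S ⟨xm k g, xm_mem_PS k ha g⟩ = tauA k x (xm k g) := rfl
    show ((π' (tauA k x (xm k g)) : PS k n S) : PP k n) = xm k g
    rw [← h', h]
  have key : ∀ a ∈ S, ∃ q : V →ₗ[k] V,
      (∀ φ : Module.Dual k A, q ∘ₗ act ρ φ = act ρ φ ∘ₗ q) ∧ (∀ v, q v ∈ W) ∧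
      (∀ w ∈ W, q w = act ρ ((∑ K : Fin a → Fin n, psi k (zp K K)) ∘ₗ π) w) := by
    intro a ha
    let θ : (Fin a → Fin n) → (Fin a → Fin n) → (V →ₗ[k] V) :=
      fun J K => act ρ (psi k (zp J K) ∘ₗ π)
    have hn : ∀ K, (ComodTens.Comod.tpow cstd a).coact (etBasis k n a K) =
        ∑ J, etBasis k n a J ⊗ₜ[k] xA x J K := by
      intro K
      simp only [etBasis_apply]
      exact tpow_coact cstd x hcs a K
    have h2 : ∀ (φ : Module.Dual k A) (J K : Fin a → Fin n),
        act ρ φ ∘ₗ θ J K = ∑ L, φ (xA x L J) • θ L K := by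
      intro φ J K
      show act ρ φ ∘ₗ act ρ (psi k (zp J K) ∘ₗ π) =
        ∑ L, φ (xA x L J) • act ρ (psi k (zp L K) ∘ₗ π)
      have e : ∑ L, φ (xA x L J) • act ρ (psi k (zp L K) ∘ₗ π) =
          act ρ (∑ L, φ (xA x L J) • (psi k (zp L K) ∘ₗ π)) := by
        rw [act_sum]
        refine Finset.sum_congr rfl fun L _ => ?_
        rw [act_smul]
      rw [e, ← act_conv]
      exact act_congr ρ (tauS k x S) hτ _ _ (I2' k x hx S π hπ φ J K)
    have h3 : ∀ (φ : Module.Dual k A) (J L : Fin a → Fin n),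
        θ J L ∘ₗ act ρ φ = ∑ K, φ (xA x L K) • θ J K := by
      intro φ J L
      show act ρ (psi k (zp J L) ∘ₗ π) ∘ₗ act ρ φ =
        ∑ K, φ (xA x L K) • act ρ (psi k (zp J K) ∘ₗ π)
      have e : ∑ K, φ (xA x L K) • act ρ (psi k (zp J K) ∘ₗ π) =
          act ρ (∑ K, φ (xA x L K) • (psi k (zp J K) ∘ₗ π)) := by
        rw [act_sum]
        refine Finset.sum_congr rfl fun K _ => ?_
        rw [act_smul]
      rw [e, ← act_conv]
      exact act_congr ρ (tauS k x S) hτ _ _ (I3' k x hx S π hπ φ J L)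
    obtain ⟨b, i, p, hpi, hi, hp⟩ := retract' ρ (ComodTens.Comod.tpow cstd a) (etBasis k n a)
      (fun J K => xA x J K) hn θ h2 h3
    have hsum : ∑ K, θ K K = act ρ ((∑ K : Fin a → Fin n, psi k (zp K K)) ∘ₗ π) := by
      show ∑ K, act ρ (psi k (zp K K) ∘ₗ π) = _
      rw [← act_sum]
      congr 1
      apply LinearMap.ext; intro y
      simp [LinearMap.sum_apply]
    have hUst : ActStable (ComodTens.Comod.pi fun _ : Fin b => ComodTens.Comod.tpow cstd a)
        (W.map i) := by
      intro φ u hu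
      obtain ⟨w, hw, rfl⟩ := Submodule.mem_map.1 hu
      have := LinearMap.congr_fun (act_comm_of_isHom _ _ i hi φ) w
      rw [LinearMap.comp_apply, LinearMap.comp_apply] at this
      rw [← this]
      exact Submodule.mem_map_of_mem (hW φ w hw)
    have hψ : ∀ J K J' K' : Fin a → Fin n, (psi k (zp J K) ∘ₗ π) (xA x J' K') =
        ((a.factorial : ℕ) : k)⁻¹ * ((cnt (zp J' K') (zp J K) : ℕ) : k) := by
      intro J K J' K'
      rw [LinearMap.comp_apply, ← tauA_xm k x, hπ a ha, psi_xm]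
    obtain ⟨U', hU', hc⟩ := exists_compl_pi (etBasis k n a) (ComodTens.Comod.tpow cstd a)
      (fun J K => xA x J K) hn (fun σ J K => xA_comp x J K σ)
      (fun J K => psi k (zp J K) ∘ₗ π) hψ b (W.map i) hUst
    obtain ⟨qM, hq1, hq2, hq3⟩ := exists_proj_of_compl _ (W.map i) U' hUst hU' hc
    have e1 : ∀ φ v, i (act ρ φ v) = act _ φ (i v) :=
      fun φ v => LinearMap.congr_fun (act_comm_of_isHom _ _ i hi φ) v
    have e2 : ∀ φ y, p (act _ φ y) = act ρ φ (p y) :=
      fun φ y => LinearMap.congr_fun (act_comm_of_isHom _ _ p hp φ) y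
    have e3 : ∀ φ y, qM (act _ φ y) = act _ φ (qM y) :=
      fun φ y => LinearMap.congr_fun (hq1 φ) y
    have hpiw : ∀ w, p (i w) = act ρ ((∑ K : Fin a → Fin n, psi k (zp K K)) ∘ₗ π) w := by
      intro w
      rw [← hsum]
      exact LinearMap.congr_fun hpi w
    refine ⟨p ∘ₗ qM ∘ₗ i, ?_, ?_, ?_⟩
    · intro φ
      apply LinearMap.ext; intro v
      simp only [LinearMap.comp_apply]
      rw [e1, e3, e2]
    · intro v
      obtain ⟨w, hw, hwe⟩ := Submodule.mem_map.1 (hq2 (i v))
      show p (qM (i v)) ∈ W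
      rw [← hwe, hpiw]
      exact hW _ w hw
    · intro w hw
      show p (qM (i w)) = _
      rw [hq3 (i w) (Submodule.mem_map_of_mem hw), hpiw]
  choose! q hq1 hq2 hq3 using key
  let Q : V →ₗ[k] V := ∑ a ∈ S, q a
  have hQW : ∀ v, Q v ∈ W := by
    intro v
    show (∑ a ∈ S, q a) v ∈ W
    rw [LinearMap.sum_apply]
    exact Submodule.sum_mem _ fun a ha => hq2 a ha v
  have hQid : ∀ w ∈ W, Q w = w := by
    intro w hw
    show (∑ a ∈ S, q a) w = w
    rw [LinearMap.sum_apply, Finset.sum_congr rfl (fun a ha => hq3 a ha w hw),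
      ← LinearMap.sum_apply, ← act_sum]
    have e : act ρ (∑ a ∈ S, (∑ K : Fin a → Fin n, psi k (zp K K)) ∘ₗ π) =
        act ρ (CoalgebraStruct.counit (R := k) (A := A)) := by
      apply act_congr ρ (tauS k x S) hτ
      rw [← I1' k x hε S π hπ]
      congr 1
      unfold PsiS
      apply LinearMap.ext; intro y
      simp [LinearMap.sum_apply]
    rw [e, act_counit, LinearMap.id_apply]
  have hQc : ∀ φ : Module.Dual k A, Q ∘ₗ act ρ φ = act ρ φ ∘ₗ Q := by
    intro φ
    apply LinearMap.ext; intro v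
    show (∑ a ∈ S, q a) (act ρ φ v) = act ρ φ ((∑ a ∈ S, q a) v)
    rw [LinearMap.sum_apply, LinearMap.sum_apply, map_sum]
    exact Finset.sum_congr rfl fun a ha => LinearMap.congr_fun (hq1 a ha φ) v
  refine ⟨LinearMap.ker Q, ?_, ?_⟩
  · intro φ u hu
    rw [LinearMap.mem_ker] at hu ⊢
    have := LinearMap.congr_fun (hQc φ) u
    rw [LinearMap.comp_apply, LinearMap.comp_apply, hu, map_zero] at this
    exact this
  · have h := LinearMap.isCompl_of_proj (f := Q.codRestrict W hQW)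
      (fun w => Subtype.ext (hQid w w.2))
    rwa [LinearMap.ker_codRestrict] at h

end G4

end Groth.Agent.H9.SchurW
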