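import Mathlib

set_option autoImplicit false
set_option linter.unusedSectionVars false
set_option linter.unusedVariables false

open scoped Classical
open Polynomial Module UniqueFactorizationMonoid

namespace Groth.Agent.H9.SemiHom

universe u v w

variable {K : Type u} [Field K]

section general

theorem finrank_ker_congr {X : Type*} {Y : Type*} [AddCommGroup X] [Module K X]
    [AddCommGroup Y] [Module K Y]
    (E : X ≃ₗ[K] Y) (D₁ : X →ₗ[K] X) (D₂ : Y →ₗ[K] Y) (h : ∀ x, E (D₁ x) = D₂ (E x)) :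
    Module.finrank K (LinearMap.ker D₁) = Module.finrank K (LinearMap.ker D₂) := by
  have hk : LinearMap.ker D₂ = (LinearMap.ker D₁).map (E : X →ₗ[K] Y) := by
    ext y
    rw [Submodule.mem_map, LinearMap.mem_ker]
    constructor
    · intro hy
      refine ⟨E.symm y, ?_, ?_⟩
      · rw [LinearMap.mem_ker]
        apply E.injective
        rw [h, map_zero, E.apply_symm_apply]
        exact hy
      · exact E.apply_symm_apply y
    · rintro ⟨x, hx, rfl⟩
      rw [LinearMap.mem_ker] at hx
      show D₂ (E x) = 0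
      rw [← h, hx, map_zero]
  rw [hk]
  exact (LinearEquiv.finrank_map_eq E _).symm

theorem finrank_ker_prodMap {X : Type*} {Y : Type*} [AddCommGroup X] [Module K X]
    [AddCommGroup Y] [Module K Y] [Module.Finite K X] [Module.Finite K Y]
    (D₁ : X →ₗ[K] X) (D₂ : Y →ₗ[K] Y) :
    Module.finrank K (LinearMap.ker (D₁.prodMap D₂))
      = Module.finrank K (LinearMap.ker D₁) + Module.finrank K (LinearMap.ker D₂) := by
  have hmem : ∀ z : X × Y, z ∈ LinearMap.ker (D₁.prodMap D₂) ↔ D₁ z.1 = 0 ∧ D₂ z.2 = 0 := by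
    intro z
    rw [LinearMap.mem_ker, LinearMap.prodMap_apply, Prod.mk_eq_zero]
  let e : ↥(LinearMap.ker (D₁.prodMap D₂)) ≃ₗ[K] ↥(LinearMap.ker D₁) × ↥(LinearMap.ker D₂) :=
    { toFun := fun z => (⟨z.1.1, LinearMap.mem_ker.2 ((hmem z.1).1 z.2).1⟩,
        ⟨z.1.2, LinearMap.mem_ker.2 ((hmem z.1).1 z.2).2⟩)
      map_add' := fun a b => Prod.ext (Subtype.ext rfl) (Subtype.ext rfl)
      map_smul' := fun c a => Prod.ext (Subtype.ext rfl) (Subtype.ext rfl)
      invFun := fun z => ⟨(z.1.1, z.2.1),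
        (hmem _).2 ⟨LinearMap.mem_ker.1 z.1.2, LinearMap.mem_ker.1 z.2.2⟩⟩
      left_inv := fun z => Subtype.ext rfl
      right_inv := fun z => Prod.ext (Subtype.ext rfl) (Subtype.ext rfl) }
  rw [e.finrank_eq, Module.finrank_prod]

end general

section basic

variable {V₁ : Type v} {V₂ : Type w} [AddCommGroup V₁] [Module K V₁]
  [AddCommGroup V₂] [Module K V₂]

/-- commutator operator -/
noncomputable def D (π₁ : Module.End K V₁) (π₂ : Module.End K V₂) :
    (V₁ →ₗ[K] V₂) →ₗ[K] (V₁ →ₗ[K] V₂) :=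
  LinearMap.lcomp K V₂ π₁ - LinearMap.llcomp K V₁ V₂ V₂ π₂

theorem D_apply (π₁ : Module.End K V₁) (π₂ : Module.End K V₂) (h : V₁ →ₗ[K] V₂) (x : V₁) :
    D π₁ π₂ h x = h (π₁ x) - π₂ (h x) := by
  simp [D]

theorem mem_ker_D {π₁ : Module.End K V₁} {π₂ : Module.End K V₂} {h : V₁ →ₗ[K] V₂} :
    h ∈ LinearMap.ker (D π₁ π₂) ↔ ∀ x, h (π₁ x) = π₂ (h x) := by
  rw [LinearMap.mem_ker]
  constructor
  · intro hh x
    have := LinearMap.congr_fun hh x
    rw [D_apply, LinearMap.zero_apply, sub_eq_zero] at this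
    exact this
  · intro hh
    refine LinearMap.ext (fun x => ?_)
    rw [D_apply, LinearMap.zero_apply, sub_eq_zero]
    exact hh x

noncomputable def r (π₁ : Module.End K V₁) (π₂ : Module.End K V₂) : ℕ :=
  Module.finrank K (LinearMap.ker (D π₁ π₂))

theorem comm_aeval (π₁ : Module.End K V₁) (π₂ : Module.End K V₂) (h : V₁ →ₗ[K] V₂)
    (hh : ∀ x, h (π₁ x) = π₂ (h x)) (p : K[X]) (x : V₁) :
    h (aeval π₁ p x) = aeval π₂ p (h x) := by
  have hpow : ∀ (n : ℕ) (x : V₁), h ((π₁ ^ n) x) = (π₂ ^ n) (h x) := by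
    intro n
    induction n with
    | zero =>
      intro x
      rw [pow_zero, pow_zero, Module.End.one_apply, Module.End.one_apply]
    | succ n ih =>
      intro x
      rw [pow_succ, pow_succ, Module.End.mul_apply, Module.End.mul_apply, ih, hh]
  induction p using Polynomial.induction_on' with
  | add p q hp hq =>
    rw [map_add, map_add, LinearMap.add_apply, LinearMap.add_apply, map_add, hp, hq]
  | monomial n a =>
    rw [aeval_monomial, aeval_monomial, Module.End.mul_apply, Module.End.mul_apply,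
      Module.algebraMap_end_apply, Module.algebraMap_end_apply, map_smul, hpow]

theorem r_of_subsingleton_left [Subsingleton V₁] (π₁ : Module.End K V₁) (π₂ : Module.End K V₂) :
    r π₁ π₂ = 0 := by
  have hbot : LinearMap.ker (D π₁ π₂) = ⊥ := by
    rw [eq_bot_iff]
    intro h _
    rw [Submodule.mem_bot]
    refine LinearMap.ext (fun x => ?_)
    rw [Subsingleton.elim x 0, map_zero, map_zero]
  unfold r
  rw [hbot]
  simp

theorem r_of_subsingleton_right [Subsingleton V₂] (π₁ : Module.End K V₁) (π₂ : Module.End K V₂) :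
    r π₁ π₂ = 0 := by
  have hbot : LinearMap.ker (D π₁ π₂) = ⊥ := by
    rw [eq_bot_iff]
    intro h _
    rw [Submodule.mem_bot]
    refine LinearMap.ext (fun x => ?_)
    exact Subsingleton.elim _ _
  unfold r
  rw [hbot]
  simp

end basic

section congr

theorem r_congr_left {V₁ : Type v} {V₁' : Type v} {V₂ : Type w} [AddCommGroup V₁] [Module K V₁]
    [AddCommGroup V₁'] [Module K V₁'] [AddCommGroup V₂] [Module K V₂]
    (e : V₁ ≃ₗ[K] V₁') (π₁ : Module.End K V₁) (π₁' : Module.End K V₁')
    (he : ∀ x, e (π₁ x) = π₁' (e x)) (π₂ : Module.End K V₂) : r π₁ π₂ = r π₁' π₂ := by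
  unfold r
  refine finrank_ker_congr (LinearEquiv.arrowCongr e (LinearEquiv.refl K V₂)) _ _ (fun h => ?_)
  refine LinearMap.ext (fun y => ?_)
  have hy : e.symm (π₁' y) = π₁ (e.symm y) := by
    apply e.injective
    rw [e.apply_symm_apply, he, e.apply_symm_apply]
  simp only [LinearEquiv.arrowCongr_apply, D_apply, LinearEquiv.refl_apply, hy]

theorem r_congr_right {V₁ : Type v} {V₂ : Type w} {V₂' : Type w} [AddCommGroup V₁] [Module K V₁]
    [AddCommGroup V₂'] [Module K V₂'] [AddCommGroup V₂] [Module K V₂]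
    (e : V₂ ≃ₗ[K] V₂') (π₂ : Module.End K V₂) (π₂' : Module.End K V₂')
    (he : ∀ x, e (π₂ x) = π₂' (e x)) (π₁ : Module.End K V₁) : r π₁ π₂ = r π₁ π₂' := by
  unfold r
  refine finrank_ker_congr (LinearEquiv.arrowCongr (LinearEquiv.refl K V₁) e) _ _ (fun h => ?_)
  refine LinearMap.ext (fun y => ?_)
  simp only [LinearEquiv.arrowCongr_apply, D_apply, LinearEquiv.refl_symm, LinearEquiv.refl_apply,
    map_sub, he]

theorem r_prod_left {V : Type v} {V' : Type v} {V₂ : Type w} [AddCommGroup V] [Module K V]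
    [AddCommGroup V'] [Module K V'] [AddCommGroup V₂] [Module K V₂]
    [FiniteDimensional K V] [FiniteDimensional K V'] [FiniteDimensional K V₂]
    (π : Module.End K V) (π' : Module.End K V') (π₂ : Module.End K V₂) :
    r (π.prodMap π') π₂ = r π π₂ + r π' π₂ := by
  unfold r
  rw [← finrank_ker_prodMap]
  refine finrank_ker_congr (LinearMap.coprodEquiv K).symm _ _ (fun h => ?_)
  refine Prod.ext (LinearMap.ext fun x => ?_) (LinearMap.ext fun x => ?_)
  · simp [D_apply]
  · simp [D_apply]

theorem r_prod_right {V : Type w} {V' : Type w} {V₁ : Type v} [AddCommGroup V] [Module K V]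
    [AddCommGroup V'] [Module K V'] [AddCommGroup V₁] [Module K V₁]
    [FiniteDimensional K V] [FiniteDimensional K V'] [FiniteDimensional K V₁]
    (π₁ : Module.End K V₁) (π : Module.End K V) (π' : Module.End K V') :
    r π₁ (π.prodMap π') = r π₁ π + r π₁ π' := by
  unfold r
  rw [← finrank_ker_prodMap]
  refine finrank_ker_congr (LinearMap.prodEquiv K).symm _ _ (fun h => ?_)
  refine Prod.ext (LinearMap.ext fun x => ?_) (LinearMap.ext fun x => ?_)
  · simp [D_apply]
  · simp [D_apply]

end congr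

section Rr

noncomputable def Rr (f₁ f₂ : K[X]) : ℕ :=
  ∑ P ∈ (normalizedFactors f₁).toFinset,
    (normalizedFactors f₁).count P * (normalizedFactors f₂).count P * P.natDegree

theorem Rr_eq (f₁ f₂ : K[X]) : Rr f₁ f₂
    = ((normalizedFactors f₁).map (fun P => (normalizedFactors f₂).count P * P.natDegree)).sum := by
  rw [Finset.sum_multiset_map_count]
  unfold Rr
  refine Finset.sum_congr rfl (fun P _ => ?_)
  rw [smul_eq_mul, mul_assoc]

theorem Rr_mul_left {f g : K[X]} (hf : f ≠ 0) (hg : g ≠ 0) (h : K[X]) :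
    Rr (f * g) h = Rr f h + Rr g h := by
  rw [Rr_eq, Rr_eq, Rr_eq, normalizedFactors_mul hf hg, Multiset.map_add, Multiset.sum_add]

theorem Rr_mul_right {f g : K[X]} (hf : f ≠ 0) (hg : g ≠ 0) (h : K[X]) :
    Rr h (f * g) = Rr h f + Rr h g := by
  unfold Rr
  rw [normalizedFactors_mul hf hg, ← Finset.sum_add_distrib]
  refine Finset.sum_congr rfl (fun P _ => ?_)
  rw [Multiset.count_add]
  ring

theorem Rr_one_left (g : K[X]) : Rr 1 g = 0 := by
  unfold Rr
  rw [normalizedFactors_one, Multiset.toFinset_zero, Finset.sum_empty]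

theorem Rr_one_right (f : K[X]) : Rr f 1 = 0 := by
  unfold Rr
  refine Finset.sum_eq_zero (fun P _ => ?_)
  rw [normalizedFactors_one, Multiset.count_zero, mul_zero, zero_mul]

theorem Rr_irred {P Q : K[X]} (hP : Irreducible P) (hQ : Irreducible Q) (hPm : P.Monic)
    (hQm : Q.Monic) : Rr P Q = if P = Q then P.natDegree else 0 := by
  unfold Rr
  rw [normalizedFactors_irreducible hP, normalizedFactors_irreducible hQ, hPm.normalize_eq_self,
    hQm.normalize_eq_self, Multiset.toFinset_singleton, Finset.sum_singleton,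
    Multiset.count_singleton_self, Multiset.count_singleton]
  split_ifs <;> simp

end Rr

section simple

variable {V : Type v} [AddCommGroup V] [Module K V] [FiniteDimensional K V]

def IsSimp (π : Module.End K V) : Prop :=
  Nontrivial V ∧ ∀ W ∈ π.invtSubmodule, W = ⊥ ∨ W = ⊤

noncomputable def phi (π : Module.End K V) (v : V) : K[X] →ₗ[K] V where
  toFun p := aeval π p v
  map_add' p q := by rw [map_add, LinearMap.add_apply]
  map_smul' c p := by rw [map_smul, LinearMap.smul_apply, RingHom.id_apply]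

theorem phi_apply (π : Module.End K V) (v : V) (p : K[X]) : phi π v p = aeval π p v := rfl

theorem phi_X_mul (π : Module.End K V) (v : V) (p : K[X]) :
    phi π v (X * p) = π (phi π v p) := by
  rw [phi_apply, phi_apply, map_mul, aeval_X, Module.End.mul_apply]

theorem phi_one (π : Module.End K V) (v : V) : phi π v 1 = v := by
  rw [phi_apply, map_one, Module.End.one_apply]

theorem cyc {π : Module.End K V} (hs : IsSimp π) {v : V} (hv : v ≠ 0) :
    LinearMap.range (phi π v) = ⊤ := by
  have hinv : LinearMap.range (phi π v) ∈ π.invtSubmodule := by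
    rw [Module.End.mem_invtSubmodule]
    rintro _ ⟨p, rfl⟩
    rw [Submodule.mem_comap]
    exact ⟨X * p, phi_X_mul π v p⟩
  rcases hs.2 _ hinv with h | h
  · exfalso
    have : v ∈ LinearMap.range (phi π v) := ⟨1, phi_one π v⟩
    rw [h, Submodule.mem_bot] at this
    exact hv this
  · exact h

theorem minpoly_dvd_of_apply_eq_zero {π : Module.End K V} (hs : IsSimp π) {v : V} (hv : v ≠ 0)
    {p : K[X]} (hp : aeval π p v = 0) : minpoly K π ∣ p := by
  refine minpoly.dvd K π ?_
  have hinv : LinearMap.ker (aeval π p) ∈ π.invtSubmodule := by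
    rw [Module.End.mem_invtSubmodule]
    intro x hx
    rw [Submodule.mem_comap, LinearMap.mem_ker]
    rw [LinearMap.mem_ker] at hx
    have hcomm : aeval π p (π x) = π (aeval π p x) := by
      have h1 : aeval π (p * X) = aeval π (X * p) := by rw [mul_comm]
      rw [map_mul, map_mul, aeval_X] at h1
      have := LinearMap.congr_fun h1 x
      rwa [Module.End.mul_apply, Module.End.mul_apply] at this
    rw [hcomm, hx, map_zero]
  rcases hs.2 _ hinv with h | h
  · exfalso
    have : v ∈ LinearMap.ker (aeval π p) := hp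
    rw [h, Submodule.mem_bot] at this
    exact hv this
  · exact LinearMap.ker_eq_top.1 h

theorem finrank_le_natDegree_minpoly {π : Module.End K V} (hs : IsSimp π) :
    finrank K V ≤ (minpoly K π).natDegree := by
  haveI := hs.1
  obtain ⟨v, hv⟩ := exists_ne (0 : V)
  obtain ⟨μ, hμdef⟩ : ∃ μ, μ = minpoly K π := ⟨_, rfl⟩
  rw [← hμdef]
  have hμ : μ.Monic := hμdef ▸ minpoly.monic (LinearMap.isIntegral π)
  have hμ0 : aeval π μ = 0 := hμdef ▸ minpoly.aeval K π
  have hμ1 : μ ≠ 1 := by
    intro h1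
    rw [h1, map_one] at hμ0
    have := LinearMap.congr_fun hμ0 v
    rw [Module.End.one_apply, LinearMap.zero_apply] at this
    exact hv this
  have hspan : Submodule.span K (Set.range (fun i : Fin μ.natDegree => (π ^ (i : ℕ)) v)) = ⊤ := by
    rw [eq_top_iff]
    intro w _
    have hw : w ∈ LinearMap.range (phi π v) := by rw [cyc hs hv]; trivial
    obtain ⟨p, rfl⟩ := hw
    rw [phi_apply, ← aeval_modByMonic_eq_self_of_root hμ0 (p := p)]
    have hdeg : (p %ₘ μ).natDegree < μ.natDegree := natDegree_modByMonic_lt p hμ hμ1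
    rw [aeval_eq_sum_range' hdeg, LinearMap.sum_apply]
    refine Submodule.sum_mem _ (fun i hi => ?_)
    rw [LinearMap.smul_apply]
    exact Submodule.smul_mem _ _ (Submodule.subset_span ⟨⟨i, Finset.mem_range.1 hi⟩, rfl⟩)
  calc finrank K V = finrank K (⊤ : Submodule K V) := (finrank_top K V).symm
    _ = (Set.range fun i : Fin μ.natDegree => (π ^ (i : ℕ)) v).finrank K := by
        rw [Set.finrank, hspan]
    _ ≤ Fintype.card (Fin μ.natDegree) := finrank_range_le_card _
    _ = μ.natDegree := Fintype.card_fin _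

theorem charpoly_eq_minpoly {π : Module.End K V} (hs : IsSimp π) : π.charpoly = minpoly K π := by
  have h1 : minpoly K π ∣ π.charpoly := LinearMap.minpoly_dvd_charpoly π
  have h2 : π.charpoly.natDegree ≤ (minpoly K π).natDegree := by
    rw [LinearMap.charpoly_natDegree]
    exact finrank_le_natDegree_minpoly hs
  exact Polynomial.eq_of_monic_of_dvd_of_natDegree_le (minpoly.monic (LinearMap.isIntegral π))
    (LinearMap.charpoly_monic π) h1 h2

theorem irreducible_minpoly {π : Module.End K V} (hs : IsSimp π) : Irreducible (minpoly K π) := by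
  haveI := hs.1
  obtain ⟨v, hv⟩ := exists_ne (0 : V)
  have hμ0 : aeval π (minpoly K π) = 0 := minpoly.aeval K π
  have hμne : minpoly K π ≠ 0 := (minpoly.monic (LinearMap.isIntegral π)).ne_zero
  rw [irreducible_iff]
  refine ⟨?_, ?_⟩
  · intro hu
    obtain ⟨c, hc⟩ := (hu.dvd : minpoly K π ∣ (1 : K[X]))
    have : aeval π (1 : K[X]) = 0 := by rw [hc, map_mul, hμ0, zero_mul]
    rw [map_one] at this
    have h2 := LinearMap.congr_fun this v
    rw [Module.End.one_apply, LinearMap.zero_apply] at h2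
    exact hv h2
  · intro a b hab
    by_cases hb : aeval π b v = 0
    · obtain ⟨c, hc⟩ := minpoly_dvd_of_apply_eq_zero hs hv hb
      left
      have h3 : minpoly K π * 1 = minpoly K π * (a * c) := by
        rw [mul_one]
        conv_lhs => rw [hab, hc]
        ring
      have h4 := mul_left_cancel₀ hμne h3
      exact IsUnit.of_mul_eq_one c h4.symm
    · right
      have hw : aeval π a (aeval π b v) = 0 := by
        rw [← Module.End.mul_apply, ← map_mul, ← hab, hμ0, LinearMap.zero_apply]
      obtain ⟨c, hc⟩ := minpoly_dvd_of_apply_eq_zero hs hb hw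
      have h3 : minpoly K π * 1 = minpoly K π * (b * c) := by
        rw [mul_one]
        conv_lhs => rw [hab, hc]
        ring
      have h4 := mul_left_cancel₀ hμne h3
      exact IsUnit.of_mul_eq_one c h4.symm

theorem irreducible_charpoly {π : Module.End K V} (hs : IsSimp π) : Irreducible π.charpoly := by
  rw [charpoly_eq_minpoly hs]
  exact irreducible_minpoly hs

end simple

section simple2

variable {V₁ : Type v} {V₂ : Type w} [AddCommGroup V₁] [Module K V₁] [FiniteDimensional K V₁]
  [AddCommGroup V₂] [Module K V₂] [FiniteDimensional K V₂]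

theorem r_simple_ne {π₁ : Module.End K V₁} {π₂ : Module.End K V₂} (hs₁ : IsSimp π₁)
    (hs₂ : IsSimp π₂) (hne : π₁.charpoly ≠ π₂.charpoly) : r π₁ π₂ = 0 := by
  have hbot : LinearMap.ker (D π₁ π₂) = ⊥ := by
    rw [eq_bot_iff]
    intro h hh
    rw [mem_ker_D] at hh
    rw [Submodule.mem_bot]
    by_contra hne0
    obtain ⟨x, hx⟩ : ∃ x, h x ≠ 0 := by
      by_contra hall
      push Not at hall
      exact hne0 (LinearMap.ext hall)
    have h0 : aeval π₂ π₁.charpoly (h x) = 0 := by
      rw [← comm_aeval π₁ π₂ h hh, LinearMap.aeval_self_charpoly, LinearMap.zero_apply, map_zero]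
    have hdvd := minpoly_dvd_of_apply_eq_zero hs₂ hx h0
    rw [← charpoly_eq_minpoly hs₂] at hdvd
    have hassoc : Associated π₂.charpoly π₁.charpoly :=
      (irreducible_charpoly hs₂).associated_of_dvd (irreducible_charpoly hs₁) hdvd
    exact hne (Polynomial.eq_of_monic_of_associated (LinearMap.charpoly_monic π₁)
      (LinearMap.charpoly_monic π₂) hassoc.symm)
  unfold r
  rw [hbot]
  simp

theorem r_simple_eq {π₁ : Module.End K V₁} {π₂ : Module.End K V₂} (hs₁ : IsSimp π₁)
    (hs₂ : IsSimp π₂) (heq : π₁.charpoly = π₂.charpoly) : r π₁ π₂ = finrank K V₂ := by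
  haveI := hs₁.1
  obtain ⟨v₁, hv₁⟩ := exists_ne (0 : V₁)
  have hcyc := cyc hs₁ hv₁
  let ev : ↥(LinearMap.ker (D π₁ π₂)) →ₗ[K] V₂ :=
    (LinearMap.applyₗ v₁) ∘ₗ (LinearMap.ker (D π₁ π₂)).subtype
  have hev : ∀ z, ev z = z.1 v₁ := fun z => rfl
  have hinj : Function.Injective ev := by
    refine (injective_iff_map_eq_zero ev).2 (fun z hz => ?_)
    rw [hev] at hz
    refine Subtype.ext (LinearMap.ext (fun x => ?_))
    have hx : x ∈ LinearMap.range (phi π₁ v₁) := by rw [hcyc]; trivial
    obtain ⟨p, rfl⟩ := hx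
    rw [phi_apply, comm_aeval π₁ π₂ z.1 (mem_ker_D.1 z.2), hz, map_zero]
    rfl
  have hsurj : Function.Surjective ev := by
    intro w
    obtain ⟨s, hs⟩ := LinearMap.exists_rightInverse_of_surjective (phi π₁ v₁) hcyc
    obtain ⟨h, hdef⟩ : ∃ h : V₁ →ₗ[K] V₂, h = (phi π₂ w) ∘ₗ s := ⟨_, rfl⟩
    have key : ∀ p, h (phi π₁ v₁ p) = phi π₂ w p := by
      intro p
      have h1 : phi π₁ v₁ (s (phi π₁ v₁ p) - p) = 0 := by
        rw [map_sub]
        have := LinearMap.congr_fun hs (phi π₁ v₁ p)
        rw [LinearMap.comp_apply, LinearMap.id_apply] at this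
        rw [this, sub_self]
      have hd := minpoly_dvd_of_apply_eq_zero hs₁ hv₁ h1
      rw [← charpoly_eq_minpoly hs₁, heq] at hd
      obtain ⟨c, hc⟩ := hd
      have h2 : phi π₂ w (s (phi π₁ v₁ p) - p) = 0 := by
        rw [hc, phi_apply, map_mul, LinearMap.aeval_self_charpoly, zero_mul, LinearMap.zero_apply]
      rw [map_sub, sub_eq_zero] at h2
      rw [hdef, LinearMap.comp_apply]
      exact h2
    have hequiv : ∀ x, h (π₁ x) = π₂ (h x) := by
      intro x
      have hx : x ∈ LinearMap.range (phi π₁ v₁) := by rw [hcyc]; trivial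
      obtain ⟨p, rfl⟩ := hx
      rw [← phi_X_mul, key, key, phi_X_mul]
    refine ⟨⟨h, mem_ker_D.2 hequiv⟩, ?_⟩
    rw [hev]
    have := key 1
    rw [phi_one, phi_one] at this
    exact this
  exact (LinearEquiv.ofBijective ev ⟨hinj, hsurj⟩).finrank_eq

end simple2

theorem charpoly_eq_one {V : Type*} [AddCommGroup V] [Module K V] [FiniteDimensional K V]
    (π : Module.End K V) (h : finrank K V = 0) : π.charpoly = 1 := by
  apply Polynomial.eq_one_of_monic_natDegree_zero (LinearMap.charpoly_monic π)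
  rw [LinearMap.charpoly_natDegree, h]

theorem main_aux (n : ℕ) : ∀ (V₁ : Type v) [AddCommGroup V₁] [Module K V₁]
    [FiniteDimensional K V₁] (V₂ : Type w) [AddCommGroup V₂] [Module K V₂]
    [FiniteDimensional K V₂] (π₁ : Module.End K V₁) (π₂ : Module.End K V₂),
    π₁.IsSemisimple → π₂.IsSemisimple → finrank K V₁ + finrank K V₂ = n →
    r π₁ π₂ = Rr π₁.charpoly π₂.charpoly := by
  induction n using Nat.strong_induction_on with
  | _ n ih =>
  intro V₁ _ _ _ V₂ _ _ _ π₁ π₂ h₁ h₂ hn
  by_cases hz₁ : finrank K V₁ = 0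
  · haveI : Subsingleton V₁ := Module.finrank_zero_iff.1 hz₁
    rw [r_of_subsingleton_left, charpoly_eq_one π₁ hz₁, Rr_one_left]
  by_cases hz₂ : finrank K V₂ = 0
  · haveI : Subsingleton V₂ := Module.finrank_zero_iff.1 hz₂
    rw [r_of_subsingleton_right, charpoly_eq_one π₂ hz₂, Rr_one_right]
  haveI : Nontrivial V₁ := Module.nontrivial_of_finrank_pos (R := K) (Nat.pos_of_ne_zero hz₁)
  haveI : Nontrivial V₂ := Module.nontrivial_of_finrank_pos (R := K) (Nat.pos_of_ne_zero hz₂)
  by_cases hs₁ : ∃ W ∈ π₁.invtSubmodule, W ≠ ⊥ ∧ W ≠ ⊤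
  · obtain ⟨W, hW, hWb, hWt⟩ := hs₁
    obtain ⟨W', hW', hc⟩ := (Module.End.isSemisimple_iff.1 h₁) W hW
    have hlt : finrank K W < finrank K V₁ := Submodule.finrank_lt hWt
    have hW't : W' ≠ ⊤ := by
      intro h
      apply hWb
      have := hc.inf_eq_bot
      rwa [h, inf_top_eq] at this
    have hlt' : finrank K W' < finrank K V₁ := Submodule.finrank_lt hW't
    have he : ∀ x, (Submodule.prodEquivOfIsCompl W W' hc)
        (((π₁.restrict hW).prodMap (π₁.restrict hW')) x)
        = π₁ (Submodule.prodEquivOfIsCompl W W' hc x) := by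
      intro x
      rw [Submodule.coe_prodEquivOfIsCompl', Submodule.coe_prodEquivOfIsCompl', map_add]
      rfl
    have hconj : (Submodule.prodEquivOfIsCompl W W' hc).conj
        ((π₁.restrict hW).prodMap (π₁.restrict hW')) = π₁ := by
      refine LinearMap.ext (fun x => ?_)
      rw [LinearEquiv.conj_apply_apply, he, LinearEquiv.apply_symm_apply]
    have hχ : π₁.charpoly = (π₁.restrict hW).charpoly * (π₁.restrict hW').charpoly := by
      conv_lhs => rw [← hconj]
      rw [LinearEquiv.charpoly_conj, LinearMap.charpoly_prodMap]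
    rw [← r_congr_left (Submodule.prodEquivOfIsCompl W W' hc) _ π₁ he π₂, r_prod_left,
      ih _ (by omega) ↥W V₂ (π₁.restrict hW) π₂ (h₁.restrict hW) h₂ rfl,
      ih _ (by omega) ↥W' V₂ (π₁.restrict hW') π₂ (h₁.restrict hW') h₂ rfl,
      hχ, Rr_mul_left (LinearMap.charpoly_monic _).ne_zero (LinearMap.charpoly_monic _).ne_zero]
  by_cases hs₂ : ∃ W ∈ π₂.invtSubmodule, W ≠ ⊥ ∧ W ≠ ⊤
  · obtain ⟨W, hW, hWb, hWt⟩ := hs₂
    obtain ⟨W', hW', hc⟩ := (Module.End.isSemisimple_iff.1 h₂) W hW
    have hlt : finrank K W < finrank K V₂ := Submodule.finrank_lt hWt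
    have hW't : W' ≠ ⊤ := by
      intro h
      apply hWb
      have := hc.inf_eq_bot
      rwa [h, inf_top_eq] at this
    have hlt' : finrank K W' < finrank K V₂ := Submodule.finrank_lt hW't
    have he : ∀ x, (Submodule.prodEquivOfIsCompl W W' hc)
        (((π₂.restrict hW).prodMap (π₂.restrict hW')) x)
        = π₂ (Submodule.prodEquivOfIsCompl W W' hc x) := by
      intro x
      rw [Submodule.coe_prodEquivOfIsCompl', Submodule.coe_prodEquivOfIsCompl', map_add]
      rfl
    have hconj : (Submodule.prodEquivOfIsCompl W W' hc).conj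
        ((π₂.restrict hW).prodMap (π₂.restrict hW')) = π₂ := by
      refine LinearMap.ext (fun x => ?_)
      rw [LinearEquiv.conj_apply_apply, he, LinearEquiv.apply_symm_apply]
    have hχ : π₂.charpoly = (π₂.restrict hW).charpoly * (π₂.restrict hW').charpoly := by
      conv_lhs => rw [← hconj]
      rw [LinearEquiv.charpoly_conj, LinearMap.charpoly_prodMap]
    rw [← r_congr_right (Submodule.prodEquivOfIsCompl W W' hc) _ π₂ he π₁, r_prod_right,
      ih _ (by omega) V₁ ↥W π₁ (π₂.restrict hW) h₁ (h₂.restrict hW) rfl,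
      ih _ (by omega) V₁ ↥W' π₁ (π₂.restrict hW') h₁ (h₂.restrict hW') rfl,
      hχ, Rr_mul_right (LinearMap.charpoly_monic _).ne_zero (LinearMap.charpoly_monic _).ne_zero]
  have hsimp₁ : IsSimp π₁ := ⟨inferInstance, fun W hW => by
    by_contra h
    push Not at h
    exact hs₁ ⟨W, hW, h.1, h.2⟩⟩
  have hsimp₂ : IsSimp π₂ := ⟨inferInstance, fun W hW => by
    by_contra h
    push Not at h
    exact hs₂ ⟨W, hW, h.1, h.2⟩⟩
  rw [Rr_irred (irreducible_charpoly hsimp₁) (irreducible_charpoly hsimp₂)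
    (LinearMap.charpoly_monic π₁) (LinearMap.charpoly_monic π₂)]
  by_cases heq : π₁.charpoly = π₂.charpoly
  · rw [if_pos heq, r_simple_eq hsimp₁ hsimp₂ heq, heq, LinearMap.charpoly_natDegree]
  · rw [if_neg heq, r_simple_ne hsimp₁ hsimp₂ heq]

theorem main (K : Type u) [Field K]
    (V₁ : Type v) (V₂ : Type w) [AddCommGroup V₁] [Module K V₁] [FiniteDimensional K V₁]
    [AddCommGroup V₂] [Module K V₂] [FiniteDimensional K V₂]
    (π₁ : Module.End K V₁) (π₂ : Module.End K V₂) (h₁ : π₁.IsSemisimple) (h₂ : π₂.IsSemisimple) :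
    Module.finrank K (LinearMap.ker (LinearMap.lcomp K V₂ π₁ - LinearMap.llcomp K V₁ V₂ V₂ π₂ :
        (V₁ →ₗ[K] V₂) →ₗ[K] (V₁ →ₗ[K] V₂))) =
      ∑ P ∈ (normalizedFactors π₁.charpoly).toFinset,
        (normalizedFactors π₁.charpoly).count P * (normalizedFactors π₂.charpoly).count P *
          P.natDegree :=
  main_aux _ V₁ V₂ π₁ π₂ h₁ h₂ rfl

end Groth.Agent.H9.SemiHom
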