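import Mathlib

/-! Helper9: semilinear endomorphism with finite-dimensional cokernel is injective (S13631). -/

namespace Groth.Agent.H9.SemiInj

universe u v w

theorem main {k : Type u} {R : Type v} {M : Type w} [Field k] [CommRing R] [IsDomain R]
    [Algebra k R] (hR : ¬ Module.Finite k R)
    [AddCommGroup M] [Module R M] [Module k M] [IsScalarTower k R M]
    [Module.Finite R M] [Module.Free R M]
    (σ : R ≃+* R)
    (φ : M →ₛₗ[(σ : R →+* R)] M)
    (hcoker : ∃ N : Submodule k M, N.FG ∧ ∀ m : M, ∃ n ∈ N, ∃ m' : M, m = n + φ m') :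
    Function.Injective φ := by
  classical
  rw [injective_iff_map_eq_zero]
  intro m hm
  by_contra hm0
  let ι := Module.Free.ChooseBasisIndex R M
  let b : Module.Basis ι R M := Module.Free.chooseBasis R M
  let V : Matrix ι ι R := fun i j => b.repr (φ (b j)) i
  -- φ in coordinates
  have hφ : ∀ m' : M, ∀ i, b.repr (φ m') i = ∑ j, V i j * σ (b.repr m' j) := by
    intro m' i
    conv_lhs => rw [← b.sum_repr m']
    rw [map_sum, map_sum, Finset.sum_apply']
    refine Finset.sum_congr rfl fun j _ => ?_
    rw [map_smulₛₗ, map_smul]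
    simp [V, mul_comm]
  have hdet : V.det = 0 := by
    rw [← Matrix.exists_mulVec_eq_zero_iff]
    refine ⟨fun j => σ (b.repr m j), ?_, ?_⟩
    · intro h0
      apply hm0
      apply b.repr.injective
      ext j
      have := congrFun h0 j
      simpa using this
    · ext i
      have := hφ m i
      rw [hm] at this
      simpa [Matrix.mulVec, dotProduct] using this.symm
  obtain ⟨w, hw0, hw⟩ := Matrix.exists_vecMul_eq_zero_iff.2 hdet
  -- the functional
  let lam : M →ₗ[R] R := ∑ i, w i • b.coord i
  have hlam : ∀ m' : M, lam m' = ∑ i, w i * b.repr m' i := by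
    intro m'
    simp [lam, LinearMap.sum_apply]
  have hlamφ : ∀ m' : M, lam (φ m') = 0 := by
    intro m'
    rw [hlam]
    simp only [hφ, Finset.mul_sum]
    rw [Finset.sum_comm]
    have : ∀ j, ∑ i, w i * (V i j * σ (b.repr m' j)) = (Matrix.vecMul w V j) * σ (b.repr m' j) := by
      intro j
      simp only [Matrix.vecMul, dotProduct, Finset.sum_mul, mul_assoc]
    simp only [this, hw, Pi.zero_apply, zero_mul, Finset.sum_const_zero]
  obtain ⟨i₀, hi₀⟩ : ∃ i, w i ≠ 0 := by
    by_contra h
    push Not at h
    exact hw0 (funext h)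
  have hlamb : lam (b i₀) = w i₀ := by
    rw [hlam]
    simp [Finsupp.single_apply]
  obtain ⟨N, hN, hcov⟩ := hcoker
  -- the image of N under lam, as a k-subspace of R
  let lamk : M →ₗ[k] R := lam.restrictScalars k
  let S : Submodule k R := N.map lamk
  have hS : S.FG := hN.map _
  have hall : ∀ m' : M, lam m' ∈ S := by
    intro m'
    obtain ⟨n, hn, m'', rfl⟩ := hcov m'
    rw [map_add, hlamφ, add_zero]
    exact ⟨n, hn, rfl⟩
  -- multiplication by w i₀ as a k-linear injection R → S
  have hfinS : Module.Finite k S := Module.Finite.iff_fg.2 hS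
  let g : R →ₗ[k] S :=
    { toFun := fun r => ⟨lam (r • b i₀), hall _⟩
      map_add' := fun r s => by
        ext; simp [add_smul]
      map_smul' := fun c r => by
        ext
        simp only [RingHom.id_apply, SetLike.val_smul]
        rw [smul_assoc, ← LinearMap.restrictScalars_apply k lam, map_smul]
        rfl }
  have hg : Function.Injective g := by
    rw [injective_iff_map_eq_zero]
    intro r hr
    have : lam (r • b i₀) = 0 := congrArg Subtype.val hr
    rw [map_smul, hlamb, smul_eq_mul, mul_eq_zero] at this
    exact this.resolve_right hi₀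
  exact hR (Module.Finite.of_injective g hg)

end Groth.Agent.H9.SemiInj
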