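import Mathlib
import Groth.Agent.Lib.Lead.QC.PullInv
import Groth.Agent.Lib.Lead.QC.FiniteFree
import Groth.Agent.Lib.Lead.QC.LocFree

/-!
# Invertible modules on schemes finite over a local ring are trivial
-/

set_option autoImplicit false
universe u

open CategoryTheory CategoryTheory.Limits AlgebraicGeometry

namespace Groth.Agent.H9.SemiPic

/-- An invertible module on a scheme finite over the spectrum of a local ring is trivial. -/
theorem trivial_of_finite_over_local (R : Type u) [CommRing R] [IsLocalRing R] {Z : Scheme.{u}}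
    (p : Z ⟶ Spec (CommRingCat.of R)) [IsFinite p] (M : Z.Modules) (hM : PicF.IsInvertible M) :
    Nonempty (M ≅ Coh.structureModule Z) := by
  have hM1 := (Groth.Agent.LD.QC.isInvertible_iff M).mp hM
  haveI : IsAffine Z := isAffine_of_isAffineHom p
  have hfin : (p ⁻¹' {IsLocalRing.closedPoint R}).Finite :=
    Scheme.Hom.finite_preimage_singleton p _
  obtain ⟨U, hZU, -, ⟨e⟩⟩ := Groth.Agent.LD.QC.exists_free_nhds_of_finite 1 M hM1 _ hfin ⊤
    (isAffineOpen_top Z) (Set.subset_univ _)
  have hU : U = ⊤ := by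
    by_contra hne
    have hex : ∃ z : Z, z ∉ U := by
      by_contra hcon
      push Not at hcon
      exact hne (top_unique fun z _ => hcon z)
    obtain ⟨z, hz⟩ := hex
    have hcl : IsClosed (p '' ((U : Set Z)ᶜ)) := p.isClosedMap _ U.isOpen.isClosed_compl
    have hmem : p z ∈ p '' ((U : Set Z)ᶜ) := ⟨z, hz, rfl⟩
    have hsp : p z ⤳ IsLocalRing.closedPoint R := IsLocalRing.specializes_closedPoint _
    obtain ⟨z', hz', hpz'⟩ := hsp.mem_closed hcl hmem
    exact hz' (hZU hpz')
  subst hU
  obtain ⟨e'⟩ := Groth.Agent.LD.QC.freeMod_of_range_subset M (⊤ : Z.Opens).ι (𝟙 Z) (by simp) 1 e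
  exact ⟨((Scheme.Modules.restrictFunctorId (X := Z)).app M).symm ≪≫ e' ≪≫
    Groth.Agent.LD.QC.freeModOneIso Z⟩

theorem main {k : Type u} [Field k] {X : Scheme.{u}} (sX : X ⟶ Spec (CommRingCat.of k))
    (R : Type u) [CommRing R] [IsDomain R] [IsDiscreteValuationRing R] [Algebra k R]
    {Z : Scheme.{u}}
    (i : Z ⟶ pullback sX (Spec.map (CommRingCat.ofHom (algebraMap k R))))
    [IsFinite (i ≫ pullback.snd sX (Spec.map (CommRingCat.ofHom (algebraMap k R))))]
    (L : X.Modules) (hL : PicF.IsInvertible L) :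
    Nonempty ((Scheme.Modules.pullback
        (i ≫ pullback.fst sX (Spec.map (CommRingCat.ofHom (algebraMap k R))))).obj L ≅
      Coh.structureModule Z) :=
  trivial_of_finite_over_local R
    (i ≫ pullback.snd sX (Spec.map (CommRingCat.ofHom (algebraMap k R)))) _
    (Groth.Agent.LD.QC.isInvertible_pullback
      (i ≫ pullback.fst sX (Spec.map (CommRingCat.ofHom (algebraMap k R)))) hL)

end Groth.Agent.H9.SemiPic
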