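import Mathlib

set_option autoImplicit false
set_option linter.style.haveILetI false
set_option linter.unusedSectionVars false
set_option linter.unusedVariables false

open CategoryTheory CategoryTheory.Limits AlgebraicGeometry

universe v u

namespace Groth.Agent.H9.SepCover

/-- in a pushout of commutative rings, the images of the two legs generate -/
theorem closure_of_isPushout {R A B T : CommRingCat.{u}} {f : R ⟶ A} {g : R ⟶ B}
    {a : A ⟶ T} {b : B ⟶ T} (h : IsPushout f g a b) :
    Subring.closure (Set.range a.hom ∪ Set.range b.hom) = ⊤ := by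
  let S : Subring T := Subring.closure (Set.range a.hom ∪ Set.range b.hom)
  let a' : A ⟶ CommRingCat.of S := CommRingCat.ofHom
    (a.hom.codRestrict S (fun x => Subring.subset_closure (Or.inl ⟨x, rfl⟩)))
  let b' : B ⟶ CommRingCat.of S := CommRingCat.ofHom
    (b.hom.codRestrict S (fun x => Subring.subset_closure (Or.inr ⟨x, rfl⟩)))
  let ιS : CommRingCat.of S ⟶ T := CommRingCat.ofHom S.subtype
  have ha : a' ≫ ιS = a := by ext x; rfl
  have hb : b' ≫ ιS = b := by ext x; rfl
  have w : f ≫ a' = g ≫ b' := by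
    ext x
    exact congrArg (fun φ => φ.hom x) h.w
  have hu : h.desc a' b' w ≫ ιS = 𝟙 T :=
    h.hom_ext (by rw [← Category.assoc, h.inl_desc, ha, Category.comp_id])
      (by rw [← Category.assoc, h.inr_desc, hb, Category.comp_id])
  rw [eq_top_iff]
  intro t _
  have ht : ιS (h.desc a' b' w t) = t := congrArg (fun φ => φ.hom t) hu
  rw [← ht]
  exact (h.desc a' b' w t).2

theorem surj_iff_closure {A B T D : Type u} [CommRing A] [CommRing B] [CommRing T] [CommRing D]
    (a : A →+* T) (b : B →+* T) (δ : T →+* D)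
    (hT : Subring.closure (Set.range a ∪ Set.range b) = ⊤) :
    Function.Surjective δ ↔
      Subring.closure (Set.range (δ.comp a) ∪ Set.range (δ.comp b)) = ⊤ := by
  have key : Subring.closure (Set.range (δ.comp a) ∪ Set.range (δ.comp b)) = δ.range := by
    rw [RingHom.range_eq_map, ← hT, RingHom.map_closure, Set.image_union, ← Set.range_comp,
      ← Set.range_comp, RingHom.coe_comp, RingHom.coe_comp]
  rw [key, RingHom.range_eq_top]

theorem closure_image_equiv {D D' : Type u} [CommRing D] [CommRing D'] (φ : D' →+* D)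
    (hφ : Function.Bijective φ) (s : Set D') :
    Subring.closure (φ '' s) = ⊤ ↔ Subring.closure s = ⊤ := by
  rw [← RingHom.map_closure]
  constructor
  · intro h
    rw [eq_top_iff]
    intro x _
    have hx : φ x ∈ (Subring.closure s).map φ := by rw [h]; trivial
    obtain ⟨y, hy, hyx⟩ := hx
    rw [← hφ.1 hyx]; exact hy
  · intro h
    rw [h, ← RingHom.range_eq_map, RingHom.range_eq_top]
    exact hφ.2

theorem presheaf_map_eq {C : Type*} [Category C] {P : Type*} [Preorder P] (F : Pᵒᵖ ⥤ C)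
    {A A' B B' : Pᵒᵖ} (p : A' ⟶ B') (q₁ : A' ⟶ A) (q₂ : A ⟶ B) (q₃ : B ⟶ B') :
    F.map p = F.map q₁ ≫ F.map q₂ ≫ F.map q₃ := by
  rw [← F.map_comp, ← F.map_comp]
  exact congrArg F.map (Quiver.Hom.unop_inj (Subsingleton.elim _ _))

theorem homOfLE_appTop_eq {X : Scheme.{u}} {U V : X.Opens} (e : U ≤ V) :
    (X.homOfLE e).appTop = V.topIso.hom ≫ X.presheaf.map (homOfLE e).op ≫ U.topIso.inv := by
  rw [Scheme.homOfLE_appTop]
  exact presheaf_map_eq X.presheaf _ _ _ _

theorem range_conj {A A' D D' : CommRingCat.{u}} (α : A' ≅ A) (r : A ⟶ D') (τ : D' ⟶ D) :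
    Set.range (α.hom ≫ r ≫ τ).hom = τ.hom '' Set.range r.hom := by
  rw [CommRingCat.hom_comp, CommRingCat.hom_comp, RingHom.coe_comp, RingHom.coe_comp,
    Function.Surjective.range_comp (ConcreteCategory.bijective_of_isIso α.hom).2, Set.range_comp]

theorem key {X Y : Scheme.{u}} [IsAffine Y] (f : X ⟶ Y) (U V : X.Opens)
    (hU : IsAffineOpen U) (hV : IsAffineOpen V) :
    IsClosedImmersion (pullback.snd (pullback.diagonal f)
      (pullback.map (U.ι ≫ f) (V.ι ≫ f) f f U.ι V.ι (𝟙 _)
        (Category.comp_id _) (Category.comp_id _))) ↔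
    (IsAffineOpen (U ⊓ V) ∧
      Subring.closure (Set.range (X.presheaf.map (homOfLE (inf_le_left : U ⊓ V ≤ U)).op).hom ∪
        Set.range (X.presheaf.map (homOfLE (inf_le_right : U ⊓ V ≤ V)).op).hom) = ⊤) := by
  haveI : IsAffine U.toScheme := hU
  haveI : IsAffine V.toScheme := hV
  let δ : (U ⊓ V).toScheme ⟶ pullback (U.ι ≫ f) (V.ι ≫ f) :=
    pullback.lift (X.homOfLE inf_le_left) (X.homOfLE inf_le_right)
      (by rw [← Category.assoc, ← Category.assoc, X.homOfLE_ι, X.homOfLE_ι])
  let e : pullback (pullback.diagonal f)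
      (pullback.map (U.ι ≫ f) (V.ι ≫ f) f f U.ι V.ι (𝟙 _)
        (Category.comp_id _) (Category.comp_id _)) ≅ (U ⊓ V).toScheme :=
    pullbackDiagonalMapIdIso U.ι V.ι f ≪≫ (isPullback_opens_inf U V).isoPullback.symm
  have he : pullback.snd (pullback.diagonal f)
      (pullback.map (U.ι ≫ f) (V.ι ≫ f) f f U.ι V.ι (𝟙 _)
        (Category.comp_id _) (Category.comp_id _)) = e.hom ≫ δ := by
    apply pullback.hom_ext
    · simp only [e, δ, Iso.trans_hom, Iso.symm_hom, Category.assoc, pullback.lift_fst,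
        IsPullback.isoPullback_inv_fst, pullbackDiagonalMapIdIso_hom_fst]
    · simp only [e, δ, Iso.trans_hom, Iso.symm_hom, Category.assoc, pullback.lift_snd,
        IsPullback.isoPullback_inv_snd, pullbackDiagonalMapIdIso_hom_snd]
  rw [he, MorphismProperty.cancel_left_of_respectsIso (P := @IsClosedImmersion),
    HasAffineProperty.iff_of_isAffine (P := @IsClosedImmersion)]
  refine and_congr Iff.rfl ?_
  have hpo := isPushout_appTop_of_isPullback (IsPullback.of_hasPullback (U.ι ≫ f) (V.ι ≫ f))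
  have hT := closure_of_isPushout hpo
  have h1 := surj_iff_closure _ _ δ.appTop.hom hT
  have hfst : δ.appTop.hom.comp (pullback.fst (U.ι ≫ f) (V.ι ≫ f)).appTop.hom =
      (X.homOfLE (inf_le_left : U ⊓ V ≤ U)).appTop.hom := by
    rw [← CommRingCat.hom_comp, ← Scheme.Hom.comp_appTop, pullback.lift_fst]
  have hsnd : δ.appTop.hom.comp (pullback.snd (U.ι ≫ f) (V.ι ≫ f)).appTop.hom =
      (X.homOfLE (inf_le_right : U ⊓ V ≤ V)).appTop.hom := by
    rw [← CommRingCat.hom_comp, ← Scheme.Hom.comp_appTop, pullback.lift_snd]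
  rw [hfst, hsnd] at h1
  refine h1.trans ?_
  rw [homOfLE_appTop_eq, homOfLE_appTop_eq]
  have r1 := range_conj U.topIso (X.presheaf.map (homOfLE (inf_le_left : U ⊓ V ≤ U)).op)
    (U ⊓ V).topIso.inv
  have r2 := range_conj V.topIso (X.presheaf.map (homOfLE (inf_le_right : U ⊓ V ≤ V)).op)
    (U ⊓ V).topIso.inv
  rw [r1, r2, ← Set.image_union]
  exact closure_image_equiv _ (ConcreteCategory.bijective_of_isIso (U ⊓ V).topIso.inv) _

theorem main {X Y : Scheme.{u}} [IsAffine Y] (f : X ⟶ Y) {ι : Type v} (U : ι → X.Opens)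
    (hU : ∀ i, IsAffineOpen (U i)) (hcov : ⨆ i, U i = ⊤) :
    IsSeparated f ↔ ∀ i j, IsAffineOpen (U i ⊓ U j) ∧
      Subring.closure
        (Set.range (X.presheaf.map (homOfLE (inf_le_left : U i ⊓ U j ≤ U i)).op).hom ∪
        Set.range (X.presheaf.map (homOfLE (inf_le_right : U i ⊓ U j ≤ U j)).op).hom) = ⊤ := by
  let 𝒰 : X.OpenCover := X.openCoverOfIsOpenCover U hcov
  let 𝒲 := Scheme.Pullback.openCoverOfLeftRight 𝒰 𝒰 f f
  have h0 : IsSeparated f ↔ IsClosedImmersion (pullback.diagonal f) :=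
    ⟨fun h => h.1, fun h => ⟨h⟩⟩
  rw [h0, IsZariskiLocalAtTarget.iff_of_openCover (P := @IsClosedImmersion) 𝒲]
  constructor
  · intro H i j
    exact (key f (U i) (U j) (hU i) (hU j)).mp (H (i, j))
  · rintro H ⟨i, j⟩
    exact (key f (U i) (U j) (hU i) (hU j)).mpr (H i j)

end Groth.Agent.H9.SepCover
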