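import Mathlib

set_option autoImplicit false
universe u
open CategoryTheory Limits AlgebraicGeometry Topology

namespace Groth.Agent.H9.SepQuot

lemma isSeparated_iff_isClosed_range {Y S : Scheme.{u}} (y : Y ⟶ S) :
    IsSeparated y ↔ IsClosed (Set.range (pullback.diagonal y).base) := by
  constructor
  · intro h
    exact (pullback.diagonal y).isClosedEmbedding.isClosed_range
  · intro h
    exact ⟨IsClosedImmersion.of_isPreimmersion _ h⟩

theorem main {S X₀ Y₀ P : Scheme.{u}} (x : X₀ ⟶ S) (y : Y₀ ⟶ S) (φ : X₀ ⟶ Y₀) (hw : φ ≫ y = x)
    (σ p : P ⟶ X₀) (hσp : σ ≫ φ = p ≫ φ)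
    (hsubm : MorphismProperty.universally (topologically @IsQuotientMap) φ)
    (horb : Function.Surjective (pullback.lift σ p hσp).base)
    (Ψ : P ⟶ pullback x x) (hΨ1 : Ψ ≫ pullback.fst x x = σ) (hΨ2 : Ψ ≫ pullback.snd x x = p) :
    IsSeparated y ↔ IsClosed (Set.range Ψ.base) := by
  subst hw
  set Φ := pullback.map (φ ≫ y) (φ ≫ y) y y φ φ (𝟙 _) (Category.comp_id _) (Category.comp_id _)
    with hΦ
  set ι := pullback.map φ φ (φ ≫ y) (φ ≫ y) (𝟙 _) (𝟙 _) y (Category.id_comp _).symm
    (Category.id_comp _).symm with hι
  have hpb : IsPullback (pullback.fst φ φ ≫ φ) ι (pullback.diagonal y) Φ :=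
    pullback_map_diagonal_isPullback φ φ y
  have hq : IsQuotientMap Φ.base := by
    haveI : (topologically @IsQuotientMap).IsStableUnderComposition :=
      topologically_isStableUnderComposition _ (fun f g hf hg => hg.comp hf)
    have h1 : MorphismProperty.universally (topologically @IsQuotientMap) Φ :=
      MorphismProperty.pullbackMap hsubm hsubm rfl rfl
    exact MorphismProperty.universally_le _ _ h1
  have hrange : Set.range Ψ.base = Φ.base ⁻¹' (Set.range (pullback.diagonal y).base) := by
    ext z
    constructor
    · rintro ⟨w, rfl⟩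
      refine ⟨(p ≫ φ).base w, ?_⟩
      have e : Ψ ≫ Φ = (p ≫ φ) ≫ pullback.diagonal y := by
        apply pullback.hom_ext
        · simp only [hΦ, Category.assoc, pullback.lift_fst, pullback.diagonal_fst, Category.comp_id]
          rw [← Category.assoc, hΨ1, hσp]
        · simp only [hΦ, Category.assoc, pullback.lift_snd, pullback.diagonal_snd, Category.comp_id]
          rw [← Category.assoc, hΨ2]
      have := congrArg (fun m => m.base w) e
      simpa using this.symm
    · rintro ⟨t, ht⟩
      obtain ⟨c', hc1, hc2⟩ := Scheme.Pullback.exists_preimage_pullback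
        (f := pullback.diagonal y) (g := Φ) t z ht
      set c := hpb.isoPullback.inv.base c' with hc
      have hcz : ι.base c = z := by
        have e : hpb.isoPullback.inv ≫ ι = pullback.snd _ _ := hpb.isoPullback_inv_snd
        have := congrArg (fun m => m.base c') e
        simp only [Scheme.Hom.comp_base, TopCat.hom_comp, ContinuousMap.comp_apply] at this
        rw [hc, this, hc2]
      obtain ⟨w, hw⟩ := horb c
      refine ⟨w, ?_⟩
      have e : pullback.lift σ p hσp ≫ ι = Ψ := by
        apply pullback.hom_ext
        · simp only [hι, Category.assoc, pullback.lift_fst, Category.comp_id]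
          exact hΨ1.symm
        · simp only [hι, Category.assoc, pullback.lift_snd, Category.comp_id]
          exact hΨ2.symm
      have := congrArg (fun m => m.base w) e
      simp only [Scheme.Hom.comp_base, TopCat.hom_comp, ContinuousMap.comp_apply] at this
      rw [← this, hw, hcz]
  rw [isSeparated_iff_isClosed_range, hrange, hq.isClosed_preimage]

end Groth.Agent.H9.SepQuot
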