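import Mathlib

/-! Helper9: induced functor on Serre quotient is faithful iff the Serre class is the kernel -/

namespace Groth.Agent.H9.SerreFaith

open CategoryTheory Limits

universe v u v' u' v'' u''

theorem main {A : Type u} [Category.{v} A] [Abelian A] {B : Type u'} [Category.{v'} B] [Abelian B]
    (F : A ⥤ B) [F.Additive] [PreservesFiniteLimits F] [PreservesFiniteColimits F]
    (P : ObjectProperty A) [P.IsSerreClass] (hP : ∀ X : A, P X → IsZero (F.obj X))
    {Q : Type u''} [Category.{v''} Q] [Abelian Q] (L : A ⥤ Q) [L.IsLocalization P.isoModSerre]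
    [L.Additive] (Fbar : Q ⥤ B) (e : L ⋙ Fbar ≅ F) :
    (∀ X : A, IsZero (F.obj X) → P X) ↔ Fbar.Faithful := by
  constructor
  · intro hker
    apply Functor.faithful_of_comp_of_hasLeftCalculusOfFractions L P.isoModSerre Fbar
    intro X Y f g hfg
    have h1 : F.map f = F.map g := by
      have hf := e.hom.naturality f
      have hg := e.hom.naturality g
      simp only [Functor.comp_map] at hf hg
      rw [← cancel_epi (e.hom.app X), ← hf, ← hg, hfg]
    have h2 : F.map (f - g) = 0 := by rw [F.map_sub, h1, sub_self]
    have h3 : L.map (f - g) = 0 := by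
      rw [ObjectProperty.SerreClassLocalization.map_eq_zero_iff L P]
      apply hker
      have hfac : Abelian.factorThruImage (f - g) ≫ Abelian.image.ι (f - g) = f - g :=
        Abelian.image.fac _
      have h4 : F.map (Abelian.factorThruImage (f - g)) ≫ F.map (Abelian.image.ι (f - g)) = 0 := by
        rw [← F.map_comp, hfac, h2]
      have h5 : F.map (Abelian.image.ι (f - g)) = 0 := by
        rw [← cancel_epi (F.map (Abelian.factorThruImage (f - g))), h4, comp_zero]
      exact IsZero.of_mono_eq_zero _ h5
    rw [L.map_sub, sub_eq_zero] at h3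
    exact h3
  · intro hfaith X hX
    rw [← ObjectProperty.SerreClassLocalization.isZero_obj_iff L P]
    rw [IsZero.iff_id_eq_zero]
    apply Fbar.map_injective
    have hz : IsZero (Fbar.obj (L.obj X)) := hX.of_iso (e.app X)
    exact hz.eq_of_src _ _

end Groth.Agent.H9.SerreFaith
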