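import Mathlib

/-! Helper9: uniqueness of Serre functors (S6731) -/

namespace Groth.Agent.H9.SerreUniq

open CategoryTheory

universe w v u

variable {k : Type w} [Field k] {T : Type u} [Category.{v} T] [Preadditive T] [Linear k T]
  [∀ X Y : T, Module.Finite k (X ⟶ Y)]

theorem dual_sep {V : Type*} [AddCommGroup V] [Module k V] (v w : V)
    (h : ∀ ξ : Module.Dual k V, ξ v = ξ w) : v = w := by
  rw [← sub_eq_zero, ← Module.forall_dual_apply_eq_zero_iff k]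
  intro ξ
  rw [map_sub, h ξ, sub_self]

section

variable (S S' : T ⥤ T)
  (c : ∀ X Y : T, (X ⟶ Y) ≃ₗ[k] Module.Dual k (Y ⟶ S.obj X))
  (hc₁ : ∀ (X Y Y' : T) (f : X ⟶ Y) (g : Y ⟶ Y'),
      c X Y' (f ≫ g) = (c X Y f) ∘ₗ Linear.leftComp k (S.obj X) g)
  (hc₂ : ∀ (X' X Y : T) (a : X' ⟶ X) (f : X ⟶ Y),
      c X' Y (a ≫ f) = (c X Y f) ∘ₗ Linear.rightComp k Y (S.map a))
  (c' : ∀ X Y : T, (X ⟶ Y) ≃ₗ[k] Module.Dual k (Y ⟶ S'.obj X))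
  (hc'₁ : ∀ (X Y Y' : T) (f : X ⟶ Y) (g : Y ⟶ Y'),
      c' X Y' (f ≫ g) = (c' X Y f) ∘ₗ Linear.leftComp k (S'.obj X) g)
  (hc'₂ : ∀ (X' X Y : T) (a : X' ⟶ X) (f : X ⟶ Y),
      c' X' Y (a ≫ f) = (c' X Y f) ∘ₗ Linear.rightComp k Y (S'.map a))

include hc₁ in
theorem c1_apply (X Y Y' : T) (f : X ⟶ Y) (g : Y ⟶ Y') (h : Y' ⟶ S.obj X) :
    c X Y' (f ≫ g) h = c X Y f (g ≫ h) := by
  rw [hc₁]; rfl

include hc₂ in
theorem c2_apply (X' X Y : T) (a : X' ⟶ X) (f : X ⟶ Y) (h : Y ⟶ S.obj X') :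
    c X' Y (a ≫ f) h = c X Y f (h ≫ S.map a) := by
  rw [hc₂]; rfl

/-- existence of the component -/
theorem exists_comp (X : T) : ∃ φ : S.obj X ⟶ S'.obj X,
    ∀ f : X ⟶ S.obj X, c' X (S.obj X) f φ = c X (S.obj X) f (𝟙 _) := by
  let lam : Module.Dual k (X ⟶ S.obj X) :=
    (LinearMap.applyₗ (𝟙 (S.obj X))) ∘ₗ (c X (S.obj X)).toLinearMap
  let mu : Module.Dual k (Module.Dual k (S.obj X ⟶ S'.obj X)) :=
    lam ∘ₗ (c' X (S.obj X)).symm.toLinearMap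
  obtain ⟨φ, hφ⟩ := (Module.evalEquiv k (S.obj X ⟶ S'.obj X)).surjective mu
  refine ⟨φ, fun f => ?_⟩
  have := LinearMap.congr_fun hφ (c' X (S.obj X) f)
  simp only [Module.evalEquiv_apply, Module.Dual.eval_apply] at this
  rw [this]
  simp [mu, lam]

include hc₁ hc'₁ in
theorem comp_general (X : T) (φ : S.obj X ⟶ S'.obj X)
    (hφ : ∀ f : X ⟶ S.obj X, c' X (S.obj X) f φ = c X (S.obj X) f (𝟙 _))
    (Y : T) (f : X ⟶ Y) (g : Y ⟶ S.obj X) : c X Y f g = c' X Y f (g ≫ φ) := by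
  have h1 := c1_apply S c hc₁ X Y (S.obj X) f g (𝟙 _)
  have h2 := c1_apply S' c' hc'₁ X Y (S.obj X) f g φ
  rw [Category.comp_id] at h1
  rw [← h1, ← h2, hφ]

end

theorem main (S S' : T ⥤ T)
    (c : ∀ X Y : T, (X ⟶ Y) ≃ₗ[k] Module.Dual k (Y ⟶ S.obj X))
    (hc₁ : ∀ (X Y Y' : T) (f : X ⟶ Y) (g : Y ⟶ Y'),
      c X Y' (f ≫ g) = (c X Y f) ∘ₗ Linear.leftComp k (S.obj X) g)
    (hc₂ : ∀ (X' X Y : T) (a : X' ⟶ X) (f : X ⟶ Y),
      c X' Y (a ≫ f) = (c X Y f) ∘ₗ Linear.rightComp k Y (S.map a))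
    (c' : ∀ X Y : T, (X ⟶ Y) ≃ₗ[k] Module.Dual k (Y ⟶ S'.obj X))
    (hc'₁ : ∀ (X Y Y' : T) (f : X ⟶ Y) (g : Y ⟶ Y'),
      c' X Y' (f ≫ g) = (c' X Y f) ∘ₗ Linear.leftComp k (S'.obj X) g)
    (hc'₂ : ∀ (X' X Y : T) (a : X' ⟶ X) (f : X ⟶ Y),
      c' X' Y (a ≫ f) = (c' X Y f) ∘ₗ Linear.rightComp k Y (S'.map a)) :
    ∃! φ : S ≅ S', ∀ (X Y : T) (f : X ⟶ Y),
      c X Y f = (c' X Y f) ∘ₗ Linear.rightComp k Y (φ.hom.app X) := by
  choose φ hφ using exists_comp S S' c c'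
  choose ψ hψ using exists_comp S' S c' c
  have hφg := fun X => comp_general S S' c hc₁ c' hc'₁ X (φ X) (hφ X)
  have hψg := fun X => comp_general S' S c' hc'₁ c hc₁ X (ψ X) (hψ X)
  have h1 : ∀ X, φ X ≫ ψ X = 𝟙 _ := by
    intro X
    apply dual_sep (k := k)
    intro ξ
    obtain ⟨f, rfl⟩ := (c X (S.obj X)).surjective ξ
    have e1 := hφg X (S.obj X) f (𝟙 _)
    have e2 := hψg X (S.obj X) f (𝟙 _ ≫ φ X)
    rw [e1, e2]; simp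
  have h2 : ∀ X, ψ X ≫ φ X = 𝟙 _ := by
    intro X
    apply dual_sep (k := k)
    intro ξ
    obtain ⟨f, rfl⟩ := (c' X (S'.obj X)).surjective ξ
    have e1 := hψg X (S'.obj X) f (𝟙 _)
    have e2 := hφg X (S'.obj X) f (𝟙 _ ≫ ψ X)
    rw [e1, e2]; simp
  have hnat : ∀ (X' X : T) (a : X' ⟶ X), S.map a ≫ φ X = φ X' ≫ S'.map a := by
    intro X' X a
    apply dual_sep (k := k)
    intro ξ
    obtain ⟨f, rfl⟩ := (c' X (S.obj X')).surjective ξ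
    -- LHS
    have e1 := (hφg X (S.obj X') f (S.map a)).symm
    -- RHS
    have e2 := c2_apply S' c' hc'₂ X' X (S.obj X') a f (φ X')
    have e3 := (hφg X' (S.obj X') (a ≫ f) (𝟙 _))
    have e4 := c2_apply S c hc₂ X' X (S.obj X') a f (𝟙 _)
    rw [Category.id_comp] at e3 e4
    rw [e1, ← e2, ← e3, e4]
  let Φ : S ≅ S' := NatIso.ofComponents (fun X => ⟨φ X, ψ X, h1 X, h2 X⟩) (fun a => hnat _ _ a)
  refine ⟨Φ, ?_, ?_⟩
  · intro X Y f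
    ext g
    exact hφg X Y f g
  · intro Φ' hΦ'
    ext X
    show Φ'.hom.app X = φ X
    apply dual_sep (k := k)
    intro ξ
    obtain ⟨f, rfl⟩ := (c' X (S.obj X)).surjective ξ
    have e1 := LinearMap.congr_fun (hΦ' X (S.obj X) f) (𝟙 _)
    have e2 := hφg X (S.obj X) f (𝟙 _)
    simp only [LinearMap.coe_comp, Function.comp_apply, Linear.rightComp_apply,
      Category.id_comp] at e1 e2
    rw [← e1, e2]

end Groth.Agent.H9.SerreUniq
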