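import Mathlib

universe u

open CategoryTheory TopologicalSpace Opposite TopCat

namespace Groth.Agent.H9.ShB

theorem map_map_eq {X : TopCat.{u}} (P : (Opens X)ᵒᵖ ⥤ Type u) {W1 W2 W3 : Opens X}
    (i : W2 ⟶ W1) (j : W3 ⟶ W2) (k : W3 ⟶ W1) (s : P.obj (op W1)) :
    P.map j.op (P.map i.op s) = P.map k.op s := by
  have h : k = j ≫ i := Subsingleton.elim _ _
  rw [h, op_comp, Functor.map_comp_apply]

theorem map_self_eq {X : TopCat.{u}} (P : (Opens X)ᵒᵖ ⥤ Type u) {W : Opens X} (i : W ⟶ W)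
    (s : P.obj (op W)) : P.map i.op s = s := by
  have h : i = 𝟙 W := Subsingleton.elim _ _
  rw [h, op_id, P.map_id]; rfl

theorem le_iSup_idx {X : TopCat.{u}} {BX : Set (Opens X)} (hBX : Opens.IsBasis BX) (W : Opens X) :
    W ≤ iSup (fun i : {U : BX // (U : Opens X) ≤ W} => ((i.1 : BX) : Opens X)) := by
  intro x hx
  obtain ⟨U', hU', hxU', hle⟩ := Opens.isBasis_iff_nbhd.mp hBX hx
  exact Opens.mem_iSup.mpr ⟨⟨⟨U', hU'⟩, hle⟩, hxU'⟩

theorem eq_of_basis {X : TopCat.{u}} (F : X.Sheaf (Type u)) {BX : Set (Opens X)}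
    (hBX : Opens.IsBasis BX) (W : Opens X) (s t : F.1.obj (op W))
    (h : ∀ (U : BX) (hU : (U : Opens X) ≤ W),
      F.1.map (homOfLE hU).op s = F.1.map (homOfLE hU).op t) : s = t :=
  F.eq_of_locally_eq' (fun i : {U : BX // (U : Opens X) ≤ W} => ((i.1 : BX) : Opens X)) W
    (fun i => homOfLE i.2) (le_iSup_idx hBX W) s t (fun i => h i.1 i.2)

theorem exists_glue {X : TopCat.{u}} (F : X.Sheaf (Type u)) {BX : Set (Opens X)}
    (hBX : Opens.IsBasis BX) (W : Opens X)
    (sf : ∀ (U : BX), (U : Opens X) ≤ W → F.1.obj (op (U : Opens X)))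
    (hsf : ∀ (U U' : BX) (hU : (U : Opens X) ≤ W) (hU' : (U' : Opens X) ≤ W)
      (h : (U' : Opens X) ≤ U), F.1.map (homOfLE h).op (sf U hU) = sf U' hU') :
    ∃! t : F.1.obj (op W), ∀ (U : BX) (hU : (U : Opens X) ≤ W),
      F.1.map (homOfLE hU).op t = sf U hU := by
  have hc : TopCat.Presheaf.IsCompatible F.1
      (fun i : {U : BX // (U : Opens X) ≤ W} => ((i.1 : BX) : Opens X))
      (fun i => sf i.1 i.2) := by
    intro i j
    apply eq_of_basis F hBX
    intro U hU
    have h1 : (U : Opens X) ≤ (i.1 : Opens X) := hU.trans inf_le_left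
    have h2 : (U : Opens X) ≤ (j.1 : Opens X) := hU.trans inf_le_right
    have e1 : F.1.map (homOfLE hU).op
        (F.1.map (Opens.infLELeft (i.1 : Opens X) (j.1 : Opens X)).op (sf i.1 i.2)) =
        sf U (h1.trans i.2) :=
      (map_map_eq F.1 _ _ (homOfLE h1) _).trans (hsf i.1 U i.2 (h1.trans i.2) h1)
    have e2 : F.1.map (homOfLE hU).op
        (F.1.map (Opens.infLERight (i.1 : Opens X) (j.1 : Opens X)).op (sf j.1 j.2)) =
        sf U (h1.trans i.2) :=
      (map_map_eq F.1 _ _ (homOfLE h2) _).trans (hsf j.1 U j.2 (h1.trans i.2) h2)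
    exact e1.trans e2.symm
  obtain ⟨t, ht, htu⟩ := F.existsUnique_gluing'
    (fun i : {U : BX // (U : Opens X) ≤ W} => ((i.1 : BX) : Opens X)) W
    (fun i => homOfLE i.2) (le_iSup_idx hBX W) (fun i => sf i.1 i.2) hc
  exact ⟨t, fun U hU => ht ⟨U, hU⟩, fun t' ht' => htu t' (fun i => ht' i.1 i.2)⟩

theorem main {X Y : TopCat.{u}} (f : X ⟶ Y) (F : X.Sheaf (Type u)) (G : Y.Sheaf (Type u))
    {BX : Set (Opens X)} (hBX : Opens.IsBasis BX) {BY : Set (Opens Y)} (hBY : Opens.IsBasis BY)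
    (φ : ∀ (V : BY) (U : BX), (U : Opens X) ≤ (Opens.map f).obj V →
      (G.presheaf.obj (op (V : Opens Y)) → F.presheaf.obj (op (U : Opens X))))
    (hφ : ∀ (V V' : BY) (U U' : BX) (hUV : (U : Opens X) ≤ (Opens.map f).obj V)
      (hU'V' : (U' : Opens X) ≤ (Opens.map f).obj V') (hV : (V' : Opens Y) ≤ V)
      (hU : (U' : Opens X) ≤ U) (s : G.presheaf.obj (op (V : Opens Y))),
      F.presheaf.map (homOfLE hU).op (φ V U hUV s) =
        φ V' U' hU'V' (G.presheaf.map (homOfLE hV).op s)) :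
    ∃! ψ : G ⟶ (TopCat.Sheaf.pushforward (Type u) f).obj F,
      ∀ (V : BY) (U : BX) (hUV : (U : Opens X) ≤ (Opens.map f).obj V)
        (s : G.presheaf.obj (op (V : Opens Y))),
        F.presheaf.map (homOfLE hUV).op (ψ.1.app (op (V : Opens Y)) s) = φ V U hUV s := by
  classical
  have hex : ∀ (V : BY) (s : G.presheaf.obj (op (V : Opens Y))),
      ∃! t : F.1.obj (op ((Opens.map f).obj (V : Opens Y))),
        ∀ (U : BX) (hU : (U : Opens X) ≤ (Opens.map f).obj (V : Opens Y)),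
          F.1.map (homOfLE hU).op t = φ V U hU s := by
    intro V s
    apply exists_glue F hBX
    intro U U' hU hU' h
    refine (hφ V V U U' hU hU' le_rfl h s).trans ?_
    rw [map_self_eq]
  let ψV : ∀ (V : BY), G.presheaf.obj (op (V : Opens Y)) →
      F.1.obj (op ((Opens.map f).obj (V : Opens Y))) :=
    fun V s => Classical.choose (hex V s).exists
  have hψV : ∀ (V : BY) (s : G.presheaf.obj (op (V : Opens Y))) (U : BX)
      (hU : (U : Opens X) ≤ (Opens.map f).obj (V : Opens Y)),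
      F.1.map (homOfLE hU).op (ψV V s) = φ V U hU s :=
    fun V s => Classical.choose_spec (hex V s).exists
  have hψVu : ∀ (V : BY) (s : G.presheaf.obj (op (V : Opens Y)))
      (t : F.1.obj (op ((Opens.map f).obj (V : Opens Y)))),
      (∀ (U : BX) (hU : (U : Opens X) ≤ (Opens.map f).obj (V : Opens Y)),
        F.1.map (homOfLE hU).op t = φ V U hU s) → t = ψV V s :=
    fun V s t ht => (hex V s).unique ht (hψV V s)
  have hnat : ∀ (V V' : BY) (hV : (V' : Opens Y) ≤ V) (j : (V' : Opens Y) ⟶ (V : Opens Y))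
      (s : G.presheaf.obj (op (V : Opens Y))),
      ψV V' (G.1.map j.op s) = F.1.map ((Opens.map f).map j).op (ψV V s) := by
    intro V V' hV j s
    refine (hψVu V' _ _ ?_).symm
    intro U hU
    have hU' : (U : Opens X) ≤ (Opens.map f).obj (V : Opens Y) :=
      hU.trans ((Opens.map f).map j).le
    have hj : j = homOfLE hV := Subsingleton.elim _ _
    calc F.1.map (homOfLE hU).op (F.1.map ((Opens.map f).map j).op (ψV V s))
        = F.1.map (homOfLE hU').op (ψV V s) := map_map_eq F.1 _ _ _ _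
      _ = φ V U hU' s := hψV V s U hU'
      _ = F.1.map (homOfLE (le_refl (U : Opens X))).op (φ V U hU' s) :=
          (map_self_eq F.1 _ _).symm
      _ = φ V' U hU (G.presheaf.map (homOfLE hV).op s) := hφ V V' U U hU' hU hV le_rfl s
      _ = φ V' U hU (G.1.map j.op s) := by rw [hj]
  let Bf : BY → Opens Y := Subtype.val
  have hB : Opens.IsBasis (Set.range Bf) := by
    have : Set.range Bf = BY := Subtype.range_coe
    rw [this]; exact hBY
  let pF : Y.Sheaf (Type u) := (TopCat.Sheaf.pushforward (Type u) f).obj F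
  let α : (inducedFunctor Bf).op ⋙ G.1 ⟶ (inducedFunctor Bf).op ⋙ pF.1 :=
    { app := fun V => ↾(ψV V.unop)
      naturality := by
        intro V V' i
        refine ConcreteCategory.hom_ext _ _ (fun s => ?_)
        exact hnat V.unop V'.unop i.unop.hom.le i.unop.hom s }
  let ψ0 : G.1 ⟶ pF.1 := TopCat.Sheaf.restrictHomEquivHom G.1 pF hB α
  have hψ0 : ∀ V : BY, ψ0.app (op (V : Opens Y)) = ↾(ψV V) := fun V =>
    TopCat.Sheaf.extend_hom_app G.1 pF hB α V
  refine ⟨⟨ψ0⟩, ?_, ?_⟩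
  · intro V U hUV s
    show F.1.map (homOfLE hUV).op (ψ0.app (op (V : Opens Y)) s) = φ V U hUV s
    rw [hψ0 V]
    exact hψV V s U hUV
  · intro ψ' hψ'
    apply CategoryTheory.Sheaf.hom_ext
    apply TopCat.Sheaf.hom_ext G.1 pF hB
    intro V
    refine ConcreteCategory.hom_ext _ _ (fun s => ?_)
    show ψ'.1.app (op (V : Opens Y)) s = ψ0.app (op (V : Opens Y)) s
    rw [hψ0 V]
    exact hψVu V s _ (fun U hU => hψ' V U hU s)

end Groth.Agent.H9.ShB
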