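import Mathlib
import Groth.Prelude.Def_W4c2movlemaddchowShuffle

/-!
# Helper9: shuffle permutations
-/

set_option autoImplicit false

open Equiv

namespace Groth.Agent.H9.Shuffle

open W4c2movlemaddchow

theorem extRight_castAdd (a t : ℕ) (σ : Perm (Fin a)) (x : Fin a) :
    extRight a t σ (Fin.castAdd t x) = Fin.castAdd t (σ x) := by
  simp [extRight, Equiv.permCongr_apply]

theorem extRight_natAdd (a t : ℕ) (σ : Perm (Fin a)) (l : Fin t) :
    extRight a t σ (Fin.natAdd a l) = Fin.natAdd a l := by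
  simp [extRight, Equiv.permCongr_apply]

theorem extRight_mul (a t : ℕ) (σ ρ : Perm (Fin a)) :
    extRight a t (σ * ρ) = extRight a t σ * extRight a t ρ := by
  ext x
  induction x using Fin.addCases with
  | left x => simp [extRight_castAdd]
  | right l => simp [extRight_natAdd]

theorem extRight_one (a t : ℕ) : extRight a t (1 : Perm (Fin a)) = 1 := by
  ext x
  induction x using Fin.addCases with
  | left x => simp [extRight_castAdd]
  | right l => simp [extRight_natAdd]

theorem extRight_inv (a t : ℕ) (σ : Perm (Fin a)) :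
    extRight a t σ⁻¹ = (extRight a t σ)⁻¹ := by
  rw [eq_inv_iff_mul_eq_one, ← extRight_mul, inv_mul_cancel, extRight_one]

theorem extRight_injective (a t : ℕ) : Function.Injective (extRight a t) := by
  intro σ ρ h
  ext x
  have := congrArg (fun π => π (Fin.castAdd t x)) h
  simp only [extRight_castAdd] at this
  exact congrArg Fin.val (Fin.castAdd_injective a t this)

theorem sign_extRight (a t : ℕ) (σ : Perm (Fin a)) :
    Perm.sign (extRight a t σ) = Perm.sign σ := by
  simp [extRight]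

/-- A monotone permutation of `Fin n` is the identity. -/
theorem eq_one_of_monotone {n : ℕ} (ρ : Perm (Fin n)) (h : Monotone ρ) : ρ = 1 := by
  have hs : StrictMono ρ := h.strictMono_of_injective ρ.injective
  let e : Fin n ≃o Fin n := hs.orderIsoOfSurjective ρ ρ.surjective
  have : e = OrderIso.refl _ := Subsingleton.elim _ _
  ext x
  have h2 : e x = x := by rw [this]; rfl
  have h3 : e x = ρ x := rfl
  rw [← h3, h2]
  rfl


variable {r s t : ℕ}

theorem mapsTo_right {τ : Perm (Fin (r + s + t))} (hτ : IsShuffle₂ (r + s) t τ)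
    {σ : Perm (Fin (r + s))} (hσ : IsShuffle₂ r s σ) :
    IsShuffle₃ r s t (τ * extRight (r + s) t σ) := by
  refine ⟨?_, ?_, ?_⟩
  · intro i j hij
    simp only [Perm.mul_apply, extRight_castAdd]
    exact hτ.1 (hσ.1 hij)
  · intro i j hij
    simp only [Perm.mul_apply, extRight_castAdd]
    exact hτ.1 (hσ.2 hij)
  · intro i j hij
    simp only [Perm.mul_apply, extRight_natAdd]
    exact hτ.2 hij

theorem surj_right {ν : Perm (Fin (r + s + t))} (hν : IsShuffle₃ r s t ν) :
    ∃ (τ : Perm (Fin (r + s + t))) (σ : Perm (Fin (r + s))),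
      IsShuffle₂ (r + s) t τ ∧ IsShuffle₂ r s σ ∧ τ * extRight (r + s) t σ = ν := by
  let g : Fin (r + s) → Fin (r + s + t) := fun x => ν (Fin.castAdd t x)
  let π := Tuple.sort g
  have hmono : Monotone (g ∘ π) := Tuple.monotone_sort g
  have hginj : Function.Injective g := ν.injective.comp (Fin.castAdd_injective _ _)
  have key : ∀ x y : Fin (r + s), g x ≤ g y → π⁻¹ x ≤ π⁻¹ y := by
    intro x y hxy
    by_contra hlt
    push Not at hlt
    have h1 := hmono hlt.le
    have e1 : ∀ z, π (π⁻¹ z) = z := fun z => (eq_symm_apply π).mp rfl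
    simp only [Function.comp_apply, e1] at h1
    have h2 : g x = g y := le_antisymm hxy h1
    have h3 := hginj h2
    rw [h3] at hlt
    exact lt_irrefl _ hlt
  refine ⟨ν * extRight (r + s) t π, π⁻¹, ⟨?_, ?_⟩, ⟨?_, ?_⟩, ?_⟩
  · intro i j hij
    simp only [Perm.mul_apply, extRight_castAdd]
    exact hmono hij
  · intro i j hij
    simp only [Perm.mul_apply, extRight_natAdd]
    exact hν.2.2 hij
  · intro i j hij
    exact key _ _ (hν.1 hij)
  · intro i j hij
    exact key _ _ (hν.2.1 hij)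
  · rw [mul_assoc, ← extRight_mul, mul_inv_cancel, extRight_one, mul_one]

theorem inj_right {τ τ' : Perm (Fin (r + s + t))} {σ σ' : Perm (Fin (r + s))}
    (hτ : IsShuffle₂ (r + s) t τ) (hτ' : IsShuffle₂ (r + s) t τ')
    (h : τ * extRight (r + s) t σ = τ' * extRight (r + s) t σ') : τ = τ' ∧ σ = σ' := by
  have h1 : τ = τ' * extRight (r + s) t (σ' * σ⁻¹) := by
    rw [extRight_mul, extRight_inv, ← mul_assoc, ← h, mul_assoc, mul_inv_cancel, mul_one]
  have e1 : ∀ z, τ (Fin.castAdd t z) = τ' (Fin.castAdd t ((σ' * σ⁻¹) z)) := by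
    intro z
    conv_lhs => rw [h1]
    simp only [Perm.mul_apply, extRight_castAdd]
  have hρ : Monotone (σ' * σ⁻¹) := by
    intro x y hxy
    by_contra hlt
    push Not at hlt
    have h2 : τ' (Fin.castAdd t ((σ' * σ⁻¹) y)) ≤ τ' (Fin.castAdd t ((σ' * σ⁻¹) x)) :=
      hτ'.1 hlt.le
    rw [← e1, ← e1] at h2
    have h3 : τ (Fin.castAdd t x) ≤ τ (Fin.castAdd t y) := hτ.1 hxy
    have h4 := τ.injective (le_antisymm h3 h2)
    have h5 := Fin.castAdd_injective _ _ h4
    rw [h5] at hlt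
    exact lt_irrefl _ hlt
  have h6 := eq_one_of_monotone _ hρ
  have h7 : σ' = σ := by
    rw [mul_inv_eq_one] at h6
    exact h6
  refine ⟨?_, h7.symm⟩
  rw [h1, h6, extRight_one, mul_one]

theorem bijOn_right (r s t : ℕ) :
    Set.BijOn
      (fun p : Perm (Fin (r + s + t)) × Perm (Fin (r + s)) => p.1 * extRight (r + s) t p.2)
      ({τ | IsShuffle₂ (r + s) t τ} ×ˢ {σ | IsShuffle₂ r s σ})
      {ν | IsShuffle₃ r s t ν} := by
  refine ⟨?_, ?_, ?_⟩
  · rintro ⟨τ, σ⟩ ⟨hτ, hσ⟩
    exact mapsTo_right hτ hσ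
  · rintro ⟨τ, σ⟩ ⟨hτ, hσ⟩ ⟨τ', σ'⟩ ⟨hτ', hσ'⟩ h
    obtain ⟨h1, h2⟩ := inj_right hτ hτ' h
    exact Prod.ext h1 h2
  · intro ν hν
    obtain ⟨τ, σ, hτ, hσ, h⟩ := surj_right hν
    exact ⟨⟨τ, σ⟩, ⟨hτ, hσ⟩, h⟩


/-! ### the mirrored version -/

/-- extension by the identity on the first `r` positions, on `Fin (r + m)` -/
def extL (r m : ℕ) (σ : Perm (Fin m)) : Perm (Fin (r + m)) :=
  finSumFinEquiv.permCongr ((Equiv.refl (Fin r)).sumCongr σ)

theorem extL_natAdd (r m : ℕ) (σ : Perm (Fin m)) (x : Fin m) :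
    extL r m σ (Fin.natAdd r x) = Fin.natAdd r (σ x) := by
  simp [extL, Equiv.permCongr_apply]

theorem extL_castAdd (r m : ℕ) (σ : Perm (Fin m)) (i : Fin r) :
    extL r m σ (Fin.castAdd m i) = Fin.castAdd m i := by
  simp [extL, Equiv.permCongr_apply]

theorem extL_mul (r m : ℕ) (σ ρ : Perm (Fin m)) :
    extL r m (σ * ρ) = extL r m σ * extL r m ρ := by
  ext x
  induction x using Fin.addCases with
  | left x => simp [extL_castAdd]
  | right l => simp [extL_natAdd]

theorem extL_one (r m : ℕ) : extL r m (1 : Perm (Fin m)) = 1 := by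
  ext x
  induction x using Fin.addCases with
  | left x => simp [extL_castAdd]
  | right l => simp [extL_natAdd]

theorem extL_inv (r m : ℕ) (σ : Perm (Fin m)) : extL r m σ⁻¹ = (extL r m σ)⁻¹ := by
  rw [eq_inv_iff_mul_eq_one, ← extL_mul, inv_mul_cancel, extL_one]

theorem sign_extL (r m : ℕ) (σ : Perm (Fin m)) : Perm.sign (extL r m σ) = Perm.sign σ := by
  simp [extL]

/-- three-block shuffles on `Fin (r + (s + t))` -/
def IsShuffle₃' (r s t : ℕ) (σ : Perm (Fin (r + (s + t)))) : Prop :=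
  Monotone (fun i : Fin r => σ (Fin.castAdd (s + t) i)) ∧
    Monotone (fun j : Fin s => σ (Fin.natAdd r (Fin.castAdd t j))) ∧
      Monotone (fun l : Fin t => σ (Fin.natAdd r (Fin.natAdd s l)))

theorem mapsTo_left {τ : Perm (Fin (r + (s + t)))} (hτ : IsShuffle₂ r (s + t) τ)
    {σ : Perm (Fin (s + t))} (hσ : IsShuffle₂ s t σ) :
    IsShuffle₃' r s t (τ * extL r (s + t) σ) := by
  refine ⟨?_, ?_, ?_⟩
  · intro i j hij
    simp only [Perm.mul_apply, extL_castAdd]
    exact hτ.1 hij
  · intro i j hij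
    simp only [Perm.mul_apply, extL_natAdd]
    exact hτ.2 (hσ.1 hij)
  · intro i j hij
    simp only [Perm.mul_apply, extL_natAdd]
    exact hτ.2 (hσ.2 hij)

theorem surj_left {ν : Perm (Fin (r + (s + t)))} (hν : IsShuffle₃' r s t ν) :
    ∃ (τ : Perm (Fin (r + (s + t)))) (σ : Perm (Fin (s + t))),
      IsShuffle₂ r (s + t) τ ∧ IsShuffle₂ s t σ ∧ τ * extL r (s + t) σ = ν := by
  let g : Fin (s + t) → Fin (r + (s + t)) := fun x => ν (Fin.natAdd r x)
  let π := Tuple.sort g
  have hmono : Monotone (g ∘ π) := Tuple.monotone_sort g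
  have hginj : Function.Injective g := ν.injective.comp (Fin.natAdd_injective _ _)
  have key : ∀ x y : Fin (s + t), g x ≤ g y → π⁻¹ x ≤ π⁻¹ y := by
    intro x y hxy
    by_contra hlt
    push Not at hlt
    have h1 := hmono hlt.le
    have e1 : ∀ z, π (π⁻¹ z) = z := fun z => (eq_symm_apply π).mp rfl
    simp only [Function.comp_apply, e1] at h1
    have h2 : g x = g y := le_antisymm hxy h1
    have h3 := hginj h2
    rw [h3] at hlt
    exact lt_irrefl _ hlt
  refine ⟨ν * extL r (s + t) π, π⁻¹, ⟨?_, ?_⟩, ⟨?_, ?_⟩, ?_⟩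
  · intro i j hij
    simp only [Perm.mul_apply, extL_castAdd]
    exact hν.1 hij
  · intro i j hij
    simp only [Perm.mul_apply, extL_natAdd]
    exact hmono hij
  · intro i j hij
    exact key _ _ (hν.2.1 hij)
  · intro i j hij
    exact key _ _ (hν.2.2 hij)
  · rw [mul_assoc, ← extL_mul, mul_inv_cancel, extL_one, mul_one]

theorem inj_left {m : ℕ} {τ τ' : Perm (Fin (r + m))} {σ σ' : Perm (Fin m)}
    (hτ : IsShuffle₂ r m τ) (hτ' : IsShuffle₂ r m τ')
    (h : τ * extL r m σ = τ' * extL r m σ') : τ = τ' ∧ σ = σ' := by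
  have h1 : τ = τ' * extL r m (σ' * σ⁻¹) := by
    rw [extL_mul, extL_inv, ← mul_assoc, ← h, mul_assoc, mul_inv_cancel, mul_one]
  have e1 : ∀ z, τ (Fin.natAdd r z) = τ' (Fin.natAdd r ((σ' * σ⁻¹) z)) := by
    intro z
    conv_lhs => rw [h1]
    simp only [Perm.mul_apply, extL_natAdd]
  have hρ : Monotone (σ' * σ⁻¹) := by
    intro x y hxy
    by_contra hlt
    push Not at hlt
    have h2 : τ' (Fin.natAdd r ((σ' * σ⁻¹) y)) ≤ τ' (Fin.natAdd r ((σ' * σ⁻¹) x)) :=
      hτ'.2 hlt.le
    rw [← e1, ← e1] at h2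
    have h3 : τ (Fin.natAdd r x) ≤ τ (Fin.natAdd r y) := hτ.2 hxy
    have h4 := τ.injective (le_antisymm h3 h2)
    have h5 := Fin.natAdd_injective _ _ h4
    rw [h5] at hlt
    exact lt_irrefl _ hlt
  have h6 := eq_one_of_monotone _ hρ
  have h7 : σ' = σ := by
    rw [mul_inv_eq_one] at h6
    exact h6
  refine ⟨?_, h7.symm⟩
  rw [h1, h6, extL_one, mul_one]


/-- the reassociation bijection -/
abbrev cc (r s t : ℕ) : Fin (r + s + t) ≃ Fin (r + (s + t)) := finCongr (Nat.add_assoc r s t)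

theorem extLeft_eq (r s t : ℕ) (σ : Perm (Fin (s + t))) :
    extLeft r s t σ = (cc r s t).symm.permCongr (extL r (s + t) σ) := rfl

theorem permCongr_mul' {α β : Type*} (e : α ≃ β) (p q : Perm α) :
    e.permCongr (p * q) = e.permCongr p * e.permCongr q := by
  ext x
  simp [Equiv.permCongr_apply]

theorem permCongr_symm_permCongr {α β : Type*} (e : α ≃ β) (p : Perm β) :
    e.permCongr (e.symm.permCongr p) = p := by
  ext x
  simp [Equiv.permCongr_apply]

theorem symm_permCongr_permCongr {α β : Type*} (e : α ≃ β) (p : Perm α) :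
    e.symm.permCongr (e.permCongr p) = p := by
  ext x
  simp [Equiv.permCongr_apply]

theorem cc_permCongr_extLeft (r s t : ℕ) (σ : Perm (Fin (s + t))) :
    (cc r s t).permCongr (extLeft r s t σ) = extL r (s + t) σ := by
  rw [extLeft_eq, permCongr_symm_permCongr]

theorem cc_le_iff (r s t : ℕ) (x y : Fin (r + s + t)) : cc r s t x ≤ cc r s t y ↔ x ≤ y :=
  Iff.rfl

theorem isShuffle₃_iff (r s t : ℕ) (ν : Perm (Fin (r + s + t))) :
    IsShuffle₃ r s t ν ↔ IsShuffle₃' r s t ((cc r s t).permCongr ν) := by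
  have h1 : ∀ i : Fin r, (cc r s t).symm (Fin.castAdd (s + t) i) =
      Fin.castAdd t (Fin.castAdd s i) := by
    intro i; ext; simp
  have h2 : ∀ j : Fin s, (cc r s t).symm (Fin.natAdd r (Fin.castAdd t j)) =
      Fin.castAdd t (Fin.natAdd r j) := by
    intro j; ext; simp
  have h3 : ∀ l : Fin t, (cc r s t).symm (Fin.natAdd r (Fin.natAdd s l)) =
      Fin.natAdd (r + s) l := by
    intro l; ext; simp [Nat.add_assoc]
  unfold IsShuffle₃ IsShuffle₃' Monotone
  simp only [Equiv.permCongr_apply, h1, h2, h3, cc_le_iff]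

theorem sign_extLeft (r s t : ℕ) (σ : Perm (Fin (s + t))) :
    Perm.sign (extLeft r s t σ) = Perm.sign σ := by
  rw [extLeft_eq, Equiv.Perm.sign_permCongr, sign_extL]

theorem bijOn_left (r s t : ℕ) :
    Set.BijOn
      (fun p : Perm (Fin (r + s + t)) × Perm (Fin (s + t)) => p.1 * extLeft r s t p.2)
      ({τ | IsShuffle₂ r (s + t) ((finCongr (Nat.add_assoc r s t)).permCongr τ)} ×ˢ
        {σ | IsShuffle₂ s t σ})
      {ν | IsShuffle₃ r s t ν} := by
  refine ⟨?_, ?_, ?_⟩
  · rintro ⟨τ, σ⟩ ⟨hτ, hσ⟩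
    show IsShuffle₃ r s t (τ * extLeft r s t σ)
    rw [isShuffle₃_iff, permCongr_mul', cc_permCongr_extLeft]
    exact mapsTo_left hτ hσ
  · rintro ⟨τ, σ⟩ ⟨hτ, hσ⟩ ⟨τ', σ'⟩ ⟨hτ', hσ'⟩ h
    have h' := congrArg (cc r s t).permCongr h
    simp only [permCongr_mul', cc_permCongr_extLeft] at h'
    obtain ⟨h1, h2⟩ := inj_left hτ hτ' h'
    have h3 : τ = τ' := by
      have := congrArg (cc r s t).symm.permCongr h1
      rwa [symm_permCongr_permCongr, symm_permCongr_permCongr] at this
    exact Prod.ext h3 h2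
  · intro ν hν
    have hν' : IsShuffle₃' r s t ((cc r s t).permCongr ν) := (isShuffle₃_iff r s t ν).1 hν
    obtain ⟨τ₀, σ, hτ, hσ, h⟩ := surj_left hν'
    refine ⟨⟨(cc r s t).symm.permCongr τ₀, σ⟩, ⟨?_, hσ⟩, ?_⟩
    · show IsShuffle₂ r (s + t) ((cc r s t).permCongr ((cc r s t).symm.permCongr τ₀))
      rw [permCongr_symm_permCongr]
      exact hτ
    · show (cc r s t).symm.permCongr τ₀ * extLeft r s t σ = ν
      have : (cc r s t).permCongr ((cc r s t).symm.permCongr τ₀ * extLeft r s t σ) =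
          (cc r s t).permCongr ν := by
        rw [permCongr_mul', permCongr_symm_permCongr, cc_permCongr_extLeft, h]
      have := congrArg (cc r s t).symm.permCongr this
      rwa [symm_permCongr_permCongr, symm_permCongr_permCongr] at this


theorem sum_right (r s t : ℕ) :
    (∑ ν ∈ Finset.univ.filter (IsShuffle₃ r s t),
        MonoidAlgebra.single ν (((Perm.sign ν : ℤˣ) : ℤ)) :
          MonoidAlgebra ℤ (Perm (Fin (r + s + t)))) =
      ∑ τ ∈ Finset.univ.filter (IsShuffle₂ (r + s) t),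
        ∑ σ ∈ Finset.univ.filter (IsShuffle₂ r s),
          MonoidAlgebra.single (τ * extRight (r + s) t σ)
            (((Perm.sign τ : ℤˣ) : ℤ) * ((Perm.sign σ : ℤˣ) : ℤ)) := by
  rw [← Finset.sum_product']
  symm
  have hb := bijOn_right r s t
  refine Finset.sum_nbij (fun p => p.1 * extRight (r + s) t p.2) ?_ ?_ ?_ ?_
  · intro p hp
    simp only [Finset.mem_product, Finset.mem_filter, Finset.mem_univ, true_and] at hp ⊢
    exact hb.mapsTo (Set.mk_mem_prod hp.1 hp.2)
  · intro p hp q hq h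
    simp only [Finset.coe_product, Finset.coe_filter, Finset.mem_univ, true_and] at hp hq
    exact hb.injOn hp hq h
  · intro ν hν
    simp only [Finset.coe_filter, Finset.mem_univ, true_and, Set.mem_ofPred_eq] at hν
    obtain ⟨p, hp, rfl⟩ := hb.surjOn hν
    refine ⟨p, ?_, rfl⟩
    simp only [Finset.coe_product, Finset.coe_filter, Finset.mem_univ, true_and]
    exact hp
  · intro p _
    simp only [Perm.sign_mul, sign_extRight, Units.val_mul]

theorem sum_left (r s t : ℕ) :
    (∑ ν ∈ Finset.univ.filter (IsShuffle₃ r s t),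
        MonoidAlgebra.single ν (((Perm.sign ν : ℤˣ) : ℤ)) :
          MonoidAlgebra ℤ (Perm (Fin (r + s + t)))) =
      ∑ τ ∈ Finset.univ.filter (fun τ : Perm (Fin (r + s + t)) =>
          IsShuffle₂ r (s + t) ((finCongr (Nat.add_assoc r s t)).permCongr τ)),
        ∑ σ ∈ Finset.univ.filter (IsShuffle₂ s t),
          MonoidAlgebra.single (τ * extLeft r s t σ)
            (((Perm.sign τ : ℤˣ) : ℤ) * ((Perm.sign σ : ℤˣ) : ℤ)) := by
  rw [← Finset.sum_product']
  symm
  have hb := bijOn_left r s t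
  refine Finset.sum_nbij (fun p => p.1 * extLeft r s t p.2) ?_ ?_ ?_ ?_
  · intro p hp
    simp only [Finset.mem_product, Finset.mem_filter, Finset.mem_univ, true_and] at hp ⊢
    exact hb.mapsTo (Set.mk_mem_prod hp.1 hp.2)
  · intro p hp q hq h
    simp only [Finset.coe_product, Finset.coe_filter, Finset.mem_univ, true_and] at hp hq
    exact hb.injOn hp hq h
  · intro ν hν
    simp only [Finset.coe_filter, Finset.mem_univ, true_and, Set.mem_ofPred_eq] at hν
    obtain ⟨p, hp, rfl⟩ := hb.surjOn hν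
    refine ⟨p, ?_, rfl⟩
    simp only [Finset.coe_product, Finset.coe_filter, Finset.mem_univ, true_and]
    exact hp
  · intro p _
    simp only [Perm.sign_mul, sign_extLeft, Units.val_mul]

end Groth.Agent.H9.Shuffle
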