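import Mathlib

/-! Helper9: the quintic `e₁e₄ - e₂e₃` in four variables is prime (Eisenstein's criterion at the
quadric `s₂` of the last three variables). -/

set_option autoImplicit false
set_option linter.unusedSectionVars false
set_option linter.unusedVariables false

namespace Groth.Agent.H9.Sig24

open MvPolynomial

universe u

variable (k : Type u) [Field k]

noncomputable def s1 : MvPolynomial (Fin 3) k := X 0 + X 1 + X 2

noncomputable def s2 : MvPolynomial (Fin 3) k := X 0 * X 1 + X 0 * X 2 + X 1 * X 2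

noncomputable def s3 : MvPolynomial (Fin 3) k := X 0 * X 1 * X 2

noncomputable def Aq : MvPolynomial (Fin 3) k := s3 k - s1 k * s2 k

noncomputable def Bq : MvPolynomial (Fin 3) k := -(s2 k ^ 2)

noncomputable def Cq : MvPolynomial (Fin 3) k := -(s2 k * s3 k)

noncomputable def e1 : MvPolynomial (Fin 4) k := X 0 + X 1 + X 2 + X 3

noncomputable def e2 : MvPolynomial (Fin 4) k :=
  X 0 * X 1 + X 0 * X 2 + X 0 * X 3 + X 1 * X 2 + X 1 * X 3 + X 2 * X 3

noncomputable def e3 : MvPolynomial (Fin 4) k :=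
  X 0 * X 1 * X 2 + X 0 * X 1 * X 3 + X 0 * X 2 * X 3 + X 1 * X 2 * X 3

noncomputable def e4 : MvPolynomial (Fin 4) k := X 0 * X 1 * X 2 * X 3

noncomputable def G : MvPolynomial (Fin 4) k := e1 k * e4 k - e2 k * e3 k

noncomputable def fq : Polynomial (MvPolynomial (Fin 3) k) :=
  Polynomial.C (Aq k) * Polynomial.X ^ 2 + Polynomial.C (Bq k) * Polynomial.X + Polynomial.C (Cq k)

variable [CharZero k]

/-! two variables -/

theorem lin_ne_zero : (X 0 + X 1 : MvPolynomial (Fin 2) k) ≠ 0 := by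
  intro h
  have := congrArg (eval (![1, 0] : Fin 2 → k)) h
  simp at this

theorem irr_lin : Irreducible (X 0 + X 1 : MvPolynomial (Fin 2) k) := by
  have hne := lin_ne_zero k
  have hh : (X 0 + X 1 : MvPolynomial (Fin 2) k).IsHomogeneous 1 :=
    (isHomogeneous_X k 0).add (isHomogeneous_X k 1)
  apply irreducible_of_totalDegree_eq_one (hh.totalDegree hne)
  intro x hx
  by_contra hu
  have hx0 : x = 0 := by
    by_contra h0
    exact hu (isUnit_iff_ne_zero.mpr h0)
  subst hx0
  apply hne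
  ext i
  have := hx i
  rw [zero_dvd_iff] at this
  rw [this, coeff_zero]

theorem relprime2 : IsRelPrime (X 0 + X 1 : MvPolynomial (Fin 2) k) (X 0 * X 1) := by
  intro d hd1 hd2
  rcases ((irr_lin k).dvd_iff.mp hd1) with hu | hass
  · exact hu
  · exfalso
    obtain ⟨q, hq⟩ := hass.dvd.trans hd2
    have := congrArg (eval (![1, -1] : Fin 2 → k)) hq
    simp at this

/-! three variables -/

theorem fse2_s2 : finSuccEquiv k 2 (s2 k) =
    Polynomial.C (X 0 + X 1) * Polynomial.X + Polynomial.C (X 0 * X 1) := by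
  have h1 : finSuccEquiv k 2 (X 1) = Polynomial.C (X 0) :=
    finSuccEquiv_X_succ (R := k) (n := 2) (j := (0 : Fin 2))
  have h2 : finSuccEquiv k 2 (X 2) = Polynomial.C (X 1) :=
    finSuccEquiv_X_succ (R := k) (n := 2) (j := (1 : Fin 2))
  simp only [s2, map_add, map_mul, finSuccEquiv_X_zero, h1, h2]
  ring

theorem s2_ne_zero : s2 k ≠ 0 := by
  intro h
  have h1 : eval (![1, 1, 0] : Fin 3 → k) (s2 k) = 1 := by simp [s2]
  rw [h, map_zero] at h1
  exact zero_ne_one h1

theorem irr_s2 : Irreducible (s2 k) := by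
  have h := MulEquiv.irreducible_iff (finSuccEquiv k 2) (x := s2 k)
  rw [fse2_s2] at h
  exact h.mp (Polynomial.irreducible_C_mul_X_add_C (lin_ne_zero k) (relprime2 k))

theorem prime_s2 : Prime (s2 k) := UniqueFactorizationMonoid.irreducible_iff_prime.mp (irr_s2 k)

theorem s2_not_dvd_s3 : ¬ s2 k ∣ s3 k := by
  rintro ⟨q, hq⟩
  have h2 : eval (![2, 2, -1] : Fin 3 → k) (s2 k) = 0 := by simp [s2] <;> norm_num
  have h3 : eval (![2, 2, -1] : Fin 3 → k) (s3 k) = -4 := by simp [s3] <;> norm_num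
  rw [hq, map_mul, h2, zero_mul] at h3
  norm_num at h3

theorem Aq_not_dvd : ¬ s2 k ∣ Aq k := by
  intro h
  apply s2_not_dvd_s3 k
  have e : s3 k = Aq k + s1 k * s2 k := by unfold Aq; ring
  rw [e]
  exact dvd_add h (dvd_mul_left _ _)

theorem Aq_ne_zero : Aq k ≠ 0 := by
  intro h
  exact Aq_not_dvd k (h ▸ dvd_zero _)

theorem Cq_not_dvd : ¬ s2 k ^ 2 ∣ Cq k := by
  rintro ⟨q, hq⟩
  apply s2_not_dvd_s3 k
  refine ⟨-q, ?_⟩
  apply mul_left_cancel₀ (s2_ne_zero k)
  unfold Cq at hq
  linear_combination (-1 : MvPolynomial (Fin 3) k) * hq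

theorem coeff_fq_zero : (fq k).coeff 0 = Cq k := by
  unfold fq
  simp

theorem coeff_fq_one : (fq k).coeff 1 = Bq k := by
  unfold fq
  simp

theorem coeff_fq_two : (fq k).coeff 2 = Aq k := by
  unfold fq
  simp

theorem isPrimitive_fq : (fq k).IsPrimitive := by
  intro r hr
  rw [Polynomial.C_dvd_iff_dvd_coeff] at hr
  have hA : r ∣ Aq k := by
    have := hr 2
    rwa [coeff_fq_two] at this
  have hB : r ∣ Bq k := by
    have := hr 1
    rwa [coeff_fq_one] at this
  by_contra hu
  have hr0 : r ≠ 0 := by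
    rintro rfl
    rw [zero_dvd_iff] at hA
    exact Aq_ne_zero k hA
  obtain ⟨π, hπ, hπr⟩ := WfDvdMonoid.exists_irreducible_factor hu hr0
  have hπp : Prime π := UniqueFactorizationMonoid.irreducible_iff_prime.mp hπ
  have h1 : π ∣ s2 k ^ 2 := by
    have := hπr.trans hB
    unfold Bq at this
    exact dvd_neg.mp this
  have h2 : π ∣ s2 k := hπp.dvd_of_dvd_pow h1
  rcases ((irr_s2 k).dvd_iff.mp h2) with hu' | hass
  · exact hπ.not_isUnit hu'
  · exact Aq_not_dvd k ((hass.dvd.trans hπr).trans hA)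

theorem irr_fq : Irreducible (fq k) := by
  have hA0 := Aq_ne_zero k
  have hP : (Ideal.span {s2 k}).IsPrime :=
    (Ideal.span_singleton_prime (s2_ne_zero k)).mpr (prime_s2 k)
  have hdeg : (fq k).degree = 2 := by
    unfold fq
    exact Polynomial.degree_quadratic hA0
  apply Polynomial.irreducible_of_eisenstein_criterion hP
  · have : (fq k).leadingCoeff = Aq k := by
      unfold fq
      exact Polynomial.leadingCoeff_quadratic hA0
    rw [this, Ideal.mem_span_singleton]
    exact Aq_not_dvd k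
  · intro n hn
    rw [hdeg] at hn
    have hn' : n < 2 := by exact_mod_cast hn
    rw [Ideal.mem_span_singleton]
    interval_cases n
    · rw [coeff_fq_zero]
      exact ⟨-(s3 k), by unfold Cq; ring⟩
    · rw [coeff_fq_one]
      exact ⟨-(s2 k), by unfold Bq; ring⟩
  · rw [hdeg]
    exact zero_lt_two
  · rw [Ideal.span_singleton_pow, Ideal.mem_span_singleton, coeff_fq_zero]
    exact Cq_not_dvd k
  · exact isPrimitive_fq k

/-! four variables -/

theorem fse3_G : finSuccEquiv k 3 (G k) = fq k := by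
  have h1 : finSuccEquiv k 3 (X 1) = Polynomial.C (X 0) :=
    finSuccEquiv_X_succ (R := k) (n := 3) (j := (0 : Fin 3))
  have h2 : finSuccEquiv k 3 (X 2) = Polynomial.C (X 1) :=
    finSuccEquiv_X_succ (R := k) (n := 3) (j := (1 : Fin 3))
  have h3 : finSuccEquiv k 3 (X 3) = Polynomial.C (X 2) :=
    finSuccEquiv_X_succ (R := k) (n := 3) (j := (2 : Fin 3))
  simp only [G, e1, e2, e3, e4, fq, Aq, Bq, Cq, s1, s2, s3, map_add, map_mul, map_sub, map_neg,
    map_pow, finSuccEquiv_X_zero, h1, h2, h3]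
  ring

theorem irr_G : Irreducible (G k) := by
  have h := MulEquiv.irreducible_iff (finSuccEquiv k 3) (x := G k)
  rw [fse3_G] at h
  exact h.mp (irr_fq k)

theorem prime_G : Prime (G k) := UniqueFactorizationMonoid.irreducible_iff_prime.mp (irr_G k)

end Groth.Agent.H9.Sig24
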