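import Mathlib
import Groth.Agent.Lib.Helper9.Misc.Sig24A
import Groth.Agent.Lib.Helper9.Misc.IsoFinA

/-! Helper9: the radical of `(σ₂, σ₄)` in five variables is prime. -/

set_option autoImplicit false
set_option linter.unusedSectionVars false
set_option linter.unusedVariables false

namespace Groth.Agent.H9.Sig24

open MvPolynomial

universe u

variable {k : Type u} [Field k]

/-- embedding of the polynomial ring in the last four variables -/
noncomputable def iot : MvPolynomial (Fin 4) k →ₐ[k] MvPolynomial (Fin 5) k := rename Fin.succ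

theorem iot_X (j : Fin 4) : iot (X j : MvPolynomial (Fin 4) k) = X j.succ := rename_X _ _

theorem iot_C (a : k) : iot (C a : MvPolynomial (Fin 4) k) = C a := rename_C _ _

theorem iot_X0 : iot (X 0 : MvPolynomial (Fin 4) k) = X 1 := iot_X 0

theorem iot_X1 : iot (X 1 : MvPolynomial (Fin 4) k) = X 2 := iot_X 1

theorem iot_X2 : iot (X 2 : MvPolynomial (Fin 4) k) = X 3 := iot_X 2

theorem iot_X3 : iot (X 3 : MvPolynomial (Fin 4) k) = X 4 := iot_X 3

theorem esymm52 : esymm (Fin 5) k 2 = X 0 * X 1 + X 0 * X 2 + X 0 * X 3 + X 0 * X 4 + X 1 * X 2 +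
    X 1 * X 3 + X 1 * X 4 + X 2 * X 3 + X 2 * X 4 + X 3 * X 4 := by
  rw [esymm]
  rw [show Finset.powersetCard 2 (Finset.univ : Finset (Fin 5)) =
    {{0,1},{0,2},{0,3},{0,4},{1,2},{1,3},{1,4},{2,3},{2,4},{3,4}} from by decide]
  repeat rw [Finset.sum_insert (by decide)]
  rw [Finset.sum_singleton]
  repeat rw [Finset.prod_insert (by decide)]
  simp only [Finset.prod_singleton]
  ring

theorem esymm54 : esymm (Fin 5) k 4 = X 0 * X 1 * X 2 * X 3 + X 0 * X 1 * X 2 * X 4 +
    X 0 * X 1 * X 3 * X 4 + X 0 * X 2 * X 3 * X 4 + X 1 * X 2 * X 3 * X 4 := by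
  rw [esymm]
  rw [show Finset.powersetCard 4 (Finset.univ : Finset (Fin 5)) =
    {{0,1,2,3},{0,1,2,4},{0,1,3,4},{0,2,3,4},{1,2,3,4}} from by decide]
  repeat rw [Finset.sum_insert (by decide)]
  rw [Finset.sum_singleton]
  repeat rw [Finset.prod_insert (by decide)]
  simp only [Finset.prod_singleton]
  ring

theorem sig2_eq : esymm (Fin 5) k 2 = iot (e2 k) + X 0 * iot (e1 k) := by
  rw [esymm52]
  simp only [e1, e2, map_add, map_mul, iot_X0, iot_X1, iot_X2, iot_X3]
  ring

theorem sig4_eq : esymm (Fin 5) k 4 = iot (e4 k) + X 0 * iot (e3 k) := by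
  rw [esymm54]
  simp only [e3, e4, map_add, map_mul, iot_X0, iot_X1, iot_X2, iot_X3]
  ring

theorem iotG_eq : iot (G k) =
    iot (e1 k) * esymm (Fin 5) k 4 - iot (e3 k) * esymm (Fin 5) k 2 := by
  rw [sig2_eq, sig4_eq]
  unfold G
  rw [map_sub, map_mul, map_mul]
  ring

variable (k) in
/-- the ideal `(σ₂, σ₄)` -/
noncomputable def Iid : Ideal (MvPolynomial (Fin 5) k) :=
  Ideal.span ({esymm (Fin 5) k 2, esymm (Fin 5) k 4} : Set (MvPolynomial (Fin 5) k))

theorem sig2_mem : esymm (Fin 5) k 2 ∈ Iid k := Ideal.subset_span (by simp)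

theorem sig4_mem : esymm (Fin 5) k 4 ∈ Iid k := Ideal.subset_span (by simp)

theorem iotG_mem : iot (G k) ∈ Iid k := by
  rw [iotG_eq]
  exact Ideal.sub_mem _ (Ideal.mul_mem_left _ _ sig4_mem) (Ideal.mul_mem_left _ _ sig2_mem)

theorem Iid_rename (τ : Equiv.Perm (Fin 5)) {x : MvPolynomial (Fin 5) k} (hx : x ∈ Iid k) :
    rename τ x ∈ Iid k := by
  have hle : (Iid k).map
      (rename τ : MvPolynomial (Fin 5) k →ₐ[k] MvPolynomial (Fin 5) k).toRingHom ≤ Iid k := by
    unfold Iid
    rw [Ideal.map_span, Ideal.span_le]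
    rintro _ ⟨y, hy, rfl⟩
    rw [Set.mem_insert_iff, Set.mem_singleton_iff] at hy
    rcases hy with rfl | rfl
    · apply Ideal.subset_span
      rw [Set.mem_insert_iff]
      left
      exact rename_esymm (Fin 5) k 2 τ
    · apply Ideal.subset_span
      rw [Set.mem_insert_iff, Set.mem_singleton_iff]
      right
      exact rename_esymm (Fin 5) k 4 τ
  exact hle (Ideal.mem_map_of_mem _ hx)

theorem eval_mem_Iid {x : Fin 5 → k} (h2 : eval x (esymm (Fin 5) k 2) = 0)
    (h4 : eval x (esymm (Fin 5) k 4) = 0) {g : MvPolynomial (Fin 5) k} (hg : g ∈ Iid k) :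
    eval x g = 0 := by
  have hle : Iid k ≤ RingHom.ker (eval x) := by
    unfold Iid
    rw [Ideal.span_le]
    intro y hy
    rw [Set.mem_insert_iff, Set.mem_singleton_iff] at hy
    rcases hy with rfl | rfl
    · exact RingHom.mem_ker.mpr h2
    · exact RingHom.mem_ker.mpr h4
  exact RingHom.mem_ker.mp (hle hg)

variable (k) in
/-- the linear forms `σ₁ - X_j` -/
noncomputable def hh (j : Fin 5) : MvPolynomial (Fin 5) k := (∑ i, X i) - X j

theorem hh_zero : hh k 0 = iot (e1 k) := by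
  unfold hh e1
  rw [Fin.sum_univ_five]
  simp only [map_add, iot_X0, iot_X1, iot_X2, iot_X3]
  ring

theorem rename_hh (j : Fin 5) : rename (Equiv.swap 0 j) (hh k 0) = hh k j := by
  unfold hh
  rw [map_sub, map_sum, rename_X, Equiv.swap_apply_left]
  simp only [rename_X]
  rw [Equiv.sum_comp (Equiv.swap 0 j) (fun i => (X i : MvPolynomial (Fin 5) k))]

/-- a family of points on the cone -/
def pt (t : k) : Fin 5 → k := ![-t, 0, 2 * t, 2 * t, 0]

theorem pt_sig2 (t : k) : eval (pt t) (esymm (Fin 5) k 2) = 0 := by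
  rw [esymm52]
  simp [pt] <;> ring

theorem pt_sig4 (t : k) : eval (pt t) (esymm (Fin 5) k 4) = 0 := by
  rw [esymm54]
  simp [pt] <;> ring

theorem eval_hh_pt (t : k) (j : Fin 5) : eval (pt t) (hh k j) = 3 * t - pt t j := by
  unfold hh
  rw [map_sub, map_sum, eval_X, Fin.sum_univ_five]
  simp only [eval_X]
  have : pt t 0 + pt t 1 + pt t 2 + pt t 3 + pt t 4 = 3 * t := by
    simp [pt] <;> ring
  rw [this]

theorem exists_hh_ne [CharZero k] {x : Fin 5 → k} (hx : x ≠ 0) : ∃ j, eval x (hh k j) ≠ 0 := by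
  by_contra hcon
  push Not at hcon
  obtain ⟨s, hs⟩ : ∃ s, s = ∑ i, x i := ⟨_, rfl⟩
  have hj : ∀ j, x j = s := by
    intro j
    have := hcon j
    unfold hh at this
    rw [map_sub, map_sum, eval_X] at this
    simp only [eval_X] at this
    rw [← hs] at this
    exact (sub_eq_zero.mp this).symm
  have h5 : s = x 0 + x 1 + x 2 + x 3 + x 4 := by rw [hs, Fin.sum_univ_five]
  rw [hj 0, hj 1, hj 2, hj 3, hj 4] at h5
  have h4 : (4 : k) * s = 0 := by linear_combination -h5
  have hs0 : s = 0 := by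
    rcases mul_eq_zero.mp h4 with h | h
    · norm_num at h
    · exact h
  apply hx
  funext j
  rw [hj j, hs0]
  rfl

/-! ### the chart -/

variable (k) in
abbrev Qt : Type u := MvPolynomial (Fin 4) k ⧸ Ideal.span {G k}

variable (k) in
abbrev Lt : Type u := FractionRing (Qt k)

/-- the quotient map to the function field of the quintic threefold -/
noncomputable def qm : MvPolynomial (Fin 4) k →+* Lt k :=
  (algebraMap (Qt k) (Lt k)).comp (Ideal.Quotient.mk (Ideal.span {G k}))

theorem qm_eq_zero_iff (q : MvPolynomial (Fin 4) k) : qm q = 0 ↔ G k ∣ q := by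
  rw [← Ideal.mem_span_singleton, ← Ideal.Quotient.eq_zero_iff_mem]
  constructor
  · intro h
    have h' : algebraMap (Qt k) (Lt k) (Ideal.Quotient.mk (Ideal.span {G k}) q) = 0 := h
    exact (IsFractionRing.injective (Qt k) (Lt k)) (by rw [h', map_zero])
  · intro h
    show algebraMap (Qt k) (Lt k) (Ideal.Quotient.mk (Ideal.span {G k}) q) = 0
    rw [h, map_zero]

theorem qm_G : qm (G k) = 0 := (qm_eq_zero_iff _).mpr dvd_rfl

theorem qm_e1_ne [CharZero k] : qm (e1 k) ≠ 0 := by
  rw [Ne, qm_eq_zero_iff]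
  rintro ⟨q, hq⟩
  have h1 : eval (![0, 2, 2, 0] : Fin 4 → k) (e1 k) = 4 := by
    simp [e1] <;> norm_num
  have h2 : eval (![0, 2, 2, 0] : Fin 4 → k) (G k) = 0 := by
    simp [G, e1, e2, e3, e4] <;> norm_num
  rw [hq, map_mul, h2, zero_mul] at h1
  norm_num at h1

section chart

variable [CharZero k] [IsDomain (Qt k)]

/-- images of the five coordinates -/
noncomputable def vv : Fin 5 → Lt k :=
  Fin.cons (α := fun _ => Lt k) (-(qm (e2 k)) / qm (e1 k)) (fun j : Fin 4 => qm (X j))

/-- the chart homomorphism -/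
noncomputable def phi : MvPolynomial (Fin 5) k →+* Lt k := eval₂Hom (qm.comp C) vv

theorem phi_X0 : phi (X 0 : MvPolynomial (Fin 5) k) = -(qm (e2 k)) / qm (e1 k) := by
  unfold phi
  rw [eval₂Hom_X']
  simp [vv]

theorem phi_Xs (j : Fin 4) : phi (X j.succ : MvPolynomial (Fin 5) k) = qm (X j) := by
  unfold phi
  rw [eval₂Hom_X']
  simp [vv]

theorem phi_C (a : k) : phi (C a : MvPolynomial (Fin 5) k) = qm (C a) := by
  unfold phi
  rw [eval₂Hom_C]
  rfl

theorem phi_iot (q : MvPolynomial (Fin 4) k) : phi (iot q) = qm q := by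
  have h : (phi (k := k)).comp (iot (k := k)).toRingHom = qm := by
    apply MvPolynomial.ringHom_ext
    · intro a
      rw [RingHom.comp_apply]
      show phi (iot (C a)) = qm (C a)
      rw [iot_C, phi_C]
    · intro j
      rw [RingHom.comp_apply]
      show phi (iot (X j)) = qm (X j)
      rw [iot_X, phi_Xs]
  exact RingHom.congr_fun h q

theorem phi_sig2 : phi (esymm (Fin 5) k 2) = 0 := by
  rw [sig2_eq, map_add, map_mul, phi_iot, phi_iot, phi_X0]
  rw [div_mul_cancel₀ _ (qm_e1_ne (k := k)), add_neg_cancel]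

theorem phi_sig4 : phi (esymm (Fin 5) k 4) = 0 := by
  rw [sig4_eq, map_add, map_mul, phi_iot, phi_iot, phi_X0]
  have h1 := qm_e1_ne (k := k)
  have hG : qm (e1 k) * qm (e4 k) - qm (e2 k) * qm (e3 k) = 0 := by
    rw [← map_mul, ← map_mul, ← map_sub]
    exact qm_G
  have e : qm (e4 k) + -(qm (e2 k)) / qm (e1 k) * qm (e3 k) =
      (qm (e1 k) * qm (e4 k) - qm (e2 k) * qm (e3 k)) / qm (e1 k) := by
    field_simp
    ring
  rw [e, hG, zero_div]

theorem Iid_le_ker {x : MvPolynomial (Fin 5) k} (hx : x ∈ Iid k) : phi x = 0 := by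
  have hle : Iid k ≤ RingHom.ker (phi (k := k)) := by
    unfold Iid
    rw [Ideal.span_le]
    intro y hy
    rw [Set.mem_insert_iff, Set.mem_singleton_iff] at hy
    rcases hy with rfl | rfl
    · exact RingHom.mem_ker.mpr phi_sig2
    · exact RingHom.mem_ker.mpr phi_sig4
  exact RingHom.mem_ker.mp (hle hx)

omit [CharZero k] [IsDomain (Qt k)] in
theorem reduce_X0 (g : MvPolynomial (Fin 5) k) :
    ∃ (N : ℕ) (gt : MvPolynomial (Fin 4) k) (c : MvPolynomial (Fin 5) k),
      (iot (e1 k)) ^ N * g = iot gt + c * esymm (Fin 5) k 2 := by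
  refine MvPolynomial.induction_on (motive := fun g => ∃ (N : ℕ) (gt : MvPolynomial (Fin 4) k)
    (c : MvPolynomial (Fin 5) k), (iot (e1 k)) ^ N * g = iot gt + c * esymm (Fin 5) k 2) g ?_ ?_ ?_
  · intro a
    exact ⟨0, C a, 0, by rw [pow_zero, one_mul, iot_C, zero_mul, add_zero]⟩
  · intro p q hp hq
    obtain ⟨N1, g1, c1, h1⟩ := hp
    obtain ⟨N2, g2, c2, h2⟩ := hq
    refine ⟨N1 + N2, e1 k ^ N2 * g1 + e1 k ^ N1 * g2,
      (iot (e1 k)) ^ N2 * c1 + (iot (e1 k)) ^ N1 * c2, ?_⟩
    simp only [map_add, map_mul, map_pow]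
    linear_combination (iot (e1 k)) ^ N2 * h1 + (iot (e1 k)) ^ N1 * h2
  · intro p i hp
    obtain ⟨N, gt, c, h⟩ := hp
    refine Fin.cases ?_ (fun j => ?_) i
    · refine ⟨N + 1, gt * (-(e2 k)),
        iot gt + c * esymm (Fin 5) k 2 - c * iot (e2 k), ?_⟩
      have hs := sig2_eq (k := k)
      simp only [map_mul, map_neg]
      linear_combination (iot (e1 k) * X 0) * h - (iot gt + c * esymm (Fin 5) k 2) * hs
    · refine ⟨N, gt * X j, c * X j.succ, ?_⟩
      rw [map_mul, iot_X]
      linear_combination (X j.succ) * h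

theorem sat_of_mem_ker {g : MvPolynomial (Fin 5) k} (hg : phi g = 0) :
    ∃ N : ℕ, (hh k 0) ^ N * g ∈ Iid k := by
  obtain ⟨N, gt, c, h⟩ := reduce_X0 g
  refine ⟨N, ?_⟩
  have h1 := congrArg (phi (k := k)) h
  rw [map_mul, hg, mul_zero, map_add, map_mul, phi_sig2, mul_zero, add_zero, phi_iot] at h1
  obtain ⟨q, hq⟩ := (qm_eq_zero_iff gt).mp h1.symm
  rw [hh_zero, h, hq, map_mul]
  exact Ideal.add_mem _ (Ideal.mul_mem_right _ _ iotG_mem) (Ideal.mul_mem_left _ _ sig2_mem)

theorem eval_hh_pt_ne (j : Fin 5) : eval (pt (1 : k)) (hh k j) ≠ 0 := by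
  rw [eval_hh_pt]
  fin_cases j <;> simp [pt] <;> norm_num

theorem phi_hh_ne (j : Fin 5) : phi (hh k j) ≠ 0 := by
  intro h0
  obtain ⟨M, hM⟩ := sat_of_mem_ker h0
  have h := eval_mem_Iid (pt_sig2 (1 : k)) (pt_sig4 1) hM
  rw [map_mul, map_pow] at h
  rcases mul_eq_zero.mp h with h | h
  · exact pow_ne_zero M (eval_hh_pt_ne 0) h
  · exact eval_hh_pt_ne j h

theorem sat_all {g : MvPolynomial (Fin 5) k} (hg : phi g = 0) (j : Fin 5) :
    ∃ N : ℕ, (hh k j) ^ N * g ∈ Iid k := by
  have hττ : ∀ q : MvPolynomial (Fin 5) k,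
      rename (Equiv.swap 0 j) (rename (Equiv.swap 0 j) q) = q := by
    intro q
    rw [rename_rename]
    have : (⇑(Equiv.swap 0 j) ∘ ⇑(Equiv.swap 0 j)) = id := by
      funext i
      rw [Function.comp_apply, Equiv.swap_apply_self]
      rfl
    rw [this, rename_id_apply]
  obtain ⟨N, hN⟩ := sat_of_mem_ker hg
  have h1 := Iid_rename (Equiv.swap 0 j) hN
  rw [map_mul, map_pow, rename_hh] at h1
  have h2 := Iid_le_ker h1
  rw [map_mul, map_pow] at h2
  have h3 : phi (rename (Equiv.swap 0 j) g) = 0 := by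
    rcases mul_eq_zero.mp h2 with h | h
    · exact absurd h (pow_ne_zero N (phi_hh_ne j))
    · exact h
  obtain ⟨M, hM⟩ := sat_of_mem_ker h3
  have h4 := Iid_rename (Equiv.swap 0 j) hM
  rw [map_mul, map_pow, rename_hh, hττ] at h4
  exact ⟨M, h4⟩

theorem eval_zero_of_ker {g : MvPolynomial (Fin 5) k} (hg : phi g = 0) :
    eval (0 : Fin 5 → k) g = 0 := by
  obtain ⟨N, hN⟩ := sat_of_mem_ker hg
  have hroots : ∀ t : k, t ≠ 0 → eval (pt t) g = 0 := by
    intro t ht
    have h := eval_mem_Iid (pt_sig2 t) (pt_sig4 t) hN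
    rw [map_mul, map_pow, eval_hh_pt] at h
    have h0 : pt t 0 = -t := rfl
    rw [h0] at h
    rcases mul_eq_zero.mp h with h | h
    · exfalso
      have h4 : (3 * t - -t) ≠ 0 := by
        have : (3 * t - -t) = 4 * t := by ring
        rw [this]
        exact mul_ne_zero (by norm_num) ht
      exact pow_ne_zero N h4 h
    · exact h
  have hθ : Polynomial.X * (Groth.Agent.H9.IsoFin.theta (0 : Fin 5 → k) (pt 1) g) = 0 := by
    apply Polynomial.funext
    intro t
    rw [Polynomial.eval_mul, Polynomial.eval_X, Groth.Agent.H9.IsoFin.eval_theta,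
      Polynomial.eval_zero]
    by_cases ht : t = 0
    · rw [ht, zero_mul]
    · have e : (0 : Fin 5 → k) + t • pt 1 = pt t := by
        funext i
        fin_cases i <;> simp [pt] <;> ring
      rw [e, hroots t ht, mul_zero]
  have hθ0 : Groth.Agent.H9.IsoFin.theta (0 : Fin 5 → k) (pt 1) g = 0 :=
    (mul_eq_zero.mp hθ).resolve_left Polynomial.X_ne_zero
  have := Groth.Agent.H9.IsoFin.eval_theta (0 : Fin 5 → k) (pt 1) 0 g
  rw [hθ0, Polynomial.eval_zero, zero_smul, add_zero] at this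
  exact this.symm

theorem radical_eq_ker [IsAlgClosed k] : (Iid k).radical = RingHom.ker (phi (k := k)) := by
  apply le_antisymm
  · have hp : (RingHom.ker (phi (k := k))).IsPrime := RingHom.ker_isPrime _
    exact (hp.radical_le_iff).mpr (fun x hx => RingHom.mem_ker.mpr (Iid_le_ker hx))
  · intro g hg
    rw [RingHom.mem_ker] at hg
    rw [← MvPolynomial.vanishingIdeal_zeroLocus_eq_radical (K := k),
      MvPolynomial.mem_vanishingIdeal_iff]
    intro x hx
    rw [MvPolynomial.mem_zeroLocus_iff] at hx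
    have hx2 : eval x (esymm (Fin 5) k 2) = 0 := by
      have := hx _ sig2_mem
      rwa [aeval_eq_eval] at this
    have hx4 : eval x (esymm (Fin 5) k 4) = 0 := by
      have := hx _ sig4_mem
      rwa [aeval_eq_eval] at this
    rw [aeval_eq_eval]
    by_cases hx0 : x = 0
    · rw [hx0]
      exact eval_zero_of_ker hg
    · obtain ⟨j, hj⟩ := exists_hh_ne hx0
      obtain ⟨N, hN⟩ := sat_all hg j
      have h := eval_mem_Iid hx2 hx4 hN
      rw [map_mul, map_pow] at h
      rcases mul_eq_zero.mp h with h | h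
      · exact absurd h (pow_ne_zero N hj)
      · exact h

end chart

theorem main [CharZero k] [IsAlgClosed k] : (Iid k).radical.IsPrime := by
  haveI : IsDomain (Qt k) :=
    (Ideal.Quotient.isDomain_iff_prime _).mpr
      ((Ideal.span_singleton_prime (prime_G k).ne_zero).mpr (prime_G k))
  rw [radical_eq_ker]
  exact RingHom.ker_isPrime _

end Groth.Agent.H9.Sig24
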