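import Mathlib
import Groth.Agent.Lib.Helper9.Misc.NodalCubC

/-! Helper9: lines through a singular point of an irreducible cubic surface, degenerate case. -/

set_option autoImplicit false
set_option linter.unusedSectionVars false
set_option linter.unusedVariables false

namespace Groth.Agent.H9.SingCub

open MvPolynomial Groth.Agent.H9.CubicFormK Groth.Agent.H9.CubicLines Groth.Agent.H9.CubicTri

universe u

variable {K : Type u} [Field K] [CharZero K]

/-- a singular point of a cubic surface -/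
structure Sing (f : MvPolynomial (Fin 4) K) (p : Fin 4 → K) : Prop where
  hp : p ≠ 0
  sing : ∀ w, T f p p w = 0

theorem sing_of (f : MvPolynomial (Fin 4) K) (hf : f.IsHomogeneous 3) (p : Fin 4 → K) (hp : p ≠ 0)
    (hsing : ∀ i : Fin 4, eval p (pderiv i f) = 0) : Sing f p := by
  refine ⟨hp, ?_⟩
  intro w
  rw [← T_sum_single]
  apply Finset.sum_eq_zero
  intro i _
  have := eval_pderiv_eq_T hf p i
  rw [hsing i] at this
  have h3 : (3 : K) * T f p p (Pi.single i 1) = 0 := this.symm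
  rw [(mul_eq_zero.mp h3).resolve_left three_ne_zero, mul_zero]

section sing

variable {f : MvPolynomial (Fin 4) K} {p : Fin 4 → K} (N : Sing f p)

include N

theorem Sing.sing2 (x : Fin 4 → K) : T f p x p = 0 := by
  rw [T_symm23]
  exact N.sing x

theorem Sing.sing3 (x : Fin 4 → K) : T f x p p = 0 := by
  rw [T_symm13]
  exact N.sing x

theorem T_cube (s : K) (u : Fin 4 → K) :
    T f (s • p + u) (s • p + u) (s • p + u) = 3 * s * T f p u u + T f u u u := by
  simp only [T_add_left, T_add_mid, T_add_right, T_smul_left, T_smul_mid, T_smul_right,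
    N.sing, N.sing2, N.sing3]
  rw [T_symm12 f u p u, T_symm13 f u u p]
  ring

theorem eval_Lp (hf : f.IsHomogeneous 3) {u : Fin 4 → K} (hq : T f p u u = 0)
    (hc : T f u u u = 0) : ∀ x ∈ Submodule.span K {p, u}, eval x f = 0 := by
  intro x hx
  obtain ⟨s, t, rfl⟩ := Submodule.mem_span_pair.1 hx
  rw [expand2 hf, N.sing, N.sing, hq, hc]
  ring

theorem line_eq_Lp (hf : f.IsHomogeneous 3) {U : Submodule K (Fin 4 → K)} (hpU : p ∈ U)
    (hU2 : Module.finrank K ↥U = 2)
    (hUS : ∀ x ∈ U, eval x f = 0) {u : Fin 4 → K} (huU : u ∈ U)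
    (hu : u ∉ Submodule.span K {p}) :
    U = Submodule.span K {p, u} ∧ T f p u u = 0 ∧ T f u u u = 0 := by
  refine ⟨?_, (line_T hf hpU hUS huU).2.1, (line_T hf hpU hUS huU).2.2⟩
  symm
  apply Submodule.eq_of_le_of_finrank_eq
  · rw [Submodule.span_le]
    intro x hx
    rcases hx with rfl | hx
    · exact hpU
    · rw [Set.mem_singleton_iff] at hx
      rw [hx]
      exact huU
  · rw [finrank_span_pair N.hp hu, hU2]

end sing

/-- four concurrent coplanar lines on a cubic surface force the plane into the surface -/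
theorem four_lines_plane {f : MvPolynomial (Fin 4) K} (hf : f.IsHomogeneous 3)
    (v : Fin 4 → K) (hv : v ≠ 0) (H : Submodule K (Fin 4 → K)) (hH3 : Module.finrank K ↥H = 3)
    (g : Fin 4 → Submodule K (Fin 4 → K))
    (hg : ∀ i, v ∈ g i ∧ (Module.finrank K ↥(g i) = 2 ∧ ∀ u ∈ g i, eval u f = 0))
    (hUH : ∀ i, g i ≤ H) (hinj : Function.Injective g) : ∀ x ∈ H, eval x f = 0 := by
  have h0 : T f v v v = 0 := by rw [← eval_eq_T hf]; exact (hg 0).2.2 v (hg 0).1
  have hw : ∀ i, ∃ w ∈ g i, w ∉ Submodule.span K {v} := fun i => exists_not_mem_span (hg i).2.1 v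
  choose w hwg hwv using hw
  have hrep : ∀ i, ∀ x ∈ g i, ∃ a b : K, x = a • v + b • w i := fun i x hx =>
    mem_span_pair_of_finrank_two (hg i).2.1 (hg i).1 (hwg i) hv (hwv i) hx
  have hne : ∀ i j, i ≠ j → w j ∉ g i := by
    intro i j hij hmem
    apply hij
    apply hinj
    symm
    apply Submodule.eq_of_le_of_finrank_eq
    · intro x hx
      obtain ⟨a, b, rfl⟩ := hrep j x hx
      exact (g i).add_mem ((g i).smul_mem _ (hg i).1) ((g i).smul_mem _ hmem)
    · rw [(hg i).2.1, (hg j).2.1]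
  have hHeq : g 0 ⊔ Submodule.span K {w 1} = H := by
    apply Submodule.eq_of_le_of_finrank_eq
    · apply sup_le (hUH 0)
      rw [Submodule.span_le]
      intro x hx
      rw [Set.mem_singleton_iff] at hx
      rw [hx]
      exact hUH 1 (hwg 1)
    · rw [sup_span_finrank _ (hne 0 1 (by decide)), (hg 0).2.1, hH3]
  have hdec : ∀ x ∈ H, ∃ α a b : K, x = α • v + a • w 0 + b • w 1 := by
    intro x hx
    rw [← hHeq] at hx
    obtain ⟨y, hy, y', hy', rfl⟩ := Submodule.mem_sup.1 hx
    obtain ⟨b, rfl⟩ := Submodule.mem_span_singleton.1 hy'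
    obtain ⟨α, a, rfl⟩ := hrep 0 y hy
    exact ⟨α, a, b, rfl⟩
  have z1 : ∀ i, T f v v (w i) = 0 := fun i => (line_T hf (hg i).1 (hg i).2.2 (hwg i)).1
  have z2 : ∀ i, T f v (w i) (w i) = 0 := fun i => (line_T hf (hg i).1 (hg i).2.2 (hwg i)).2.1
  have z3 : ∀ i, T f (w i) (w i) (w i) = 0 := fun i => (line_T hf (hg i).1 (hg i).2.2 (hwg i)).2.2
  obtain ⟨α, a, b, h2⟩ := hdec (w 2) (hUH 2 (hwg 2))
  obtain ⟨α', a', b', h3⟩ := hdec (w 3) (hUH 3 (hwg 3))
  have ha : a ≠ 0 := by
    rintro rfl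
    apply hne 1 2 (by decide)
    rw [h2, zero_smul, add_zero]
    exact (g 1).add_mem ((g 1).smul_mem _ (hg 1).1) ((g 1).smul_mem _ (hwg 1))
  have hb : b ≠ 0 := by
    rintro rfl
    apply hne 0 2 (by decide)
    rw [h2, zero_smul, add_zero]
    exact (g 0).add_mem ((g 0).smul_mem _ (hg 0).1) ((g 0).smul_mem _ (hwg 0))
  have hdet : a * b' - a' * b ≠ 0 := by
    intro hd
    apply hne 2 3 (by decide)
    have : w 3 = (α' - a' / a * α) • v + (a' / a) • w 2 := by
      rw [h3, h2]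
      have hb' : b' = a' / a * b := by
        field_simp
        linear_combination hd
      rw [hb']
      simp only [smul_add, smul_smul, sub_smul]
      have : a' / a * a = a' := by field_simp
      rw [this]
      abel
    rw [this]
    exact (g 2).add_mem ((g 2).smul_mem _ (hg 2).1) ((g 2).smul_mem _ (hwg 2))
  have hγ : T f v (w 0) (w 1) = 0 := by
    have := z2 2
    rw [h2, expandq, h0, z2 0, z2 1, z1 0, z1 1] at this
    have h4 : 2 * a * b * T f v (w 0) (w 1) = 0 := by linear_combination this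
    have : 2 * a * b ≠ 0 := by
      refine mul_ne_zero (mul_ne_zero two_ne_zero ha) hb
    exact (mul_eq_zero.mp h4).resolve_left this
  have e2 : a * T f (w 0) (w 0) (w 1) + b * T f (w 0) (w 1) (w 1) = 0 := by
    have := z3 2
    rw [← eval_eq_T hf, h2, expand3 hf, h0, z3 0, z3 1, z1 0, z1 1, z2 0, z2 1, hγ] at this
    have h4 : (3 * a * b) * (a * T f (w 0) (w 0) (w 1) + b * T f (w 0) (w 1) (w 1)) = 0 := by
      linear_combination this
    have : 3 * a * b ≠ 0 := mul_ne_zero (mul_ne_zero three_ne_zero ha) hb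
    exact (mul_eq_zero.mp h4).resolve_left this
  have ha' : a' ≠ 0 := by
    rintro rfl
    apply hne 1 3 (by decide)
    rw [h3, zero_smul, add_zero]
    exact (g 1).add_mem ((g 1).smul_mem _ (hg 1).1) ((g 1).smul_mem _ (hwg 1))
  have hb' : b' ≠ 0 := by
    rintro rfl
    apply hne 0 3 (by decide)
    rw [h3, zero_smul, add_zero]
    exact (g 0).add_mem ((g 0).smul_mem _ (hg 0).1) ((g 0).smul_mem _ (hwg 0))
  have e3 : a' * T f (w 0) (w 0) (w 1) + b' * T f (w 0) (w 1) (w 1) = 0 := by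
    have := z3 3
    rw [← eval_eq_T hf, h3, expand3 hf, h0, z3 0, z3 1, z1 0, z1 1, z2 0, z2 1, hγ] at this
    have h4 : (3 * a' * b') * (a' * T f (w 0) (w 0) (w 1) + b' * T f (w 0) (w 1) (w 1)) = 0 := by
      linear_combination this
    have : 3 * a' * b' ≠ 0 := mul_ne_zero (mul_ne_zero three_ne_zero ha') hb'
    exact (mul_eq_zero.mp h4).resolve_left this
  have hA : T f (w 0) (w 0) (w 1) = 0 := by
    have h4 : (a * b' - a' * b) * T f (w 0) (w 0) (w 1) = 0 := by
      linear_combination b' * e2 - b * e3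
    exact (mul_eq_zero.mp h4).resolve_left hdet
  have hB : T f (w 0) (w 1) (w 1) = 0 := by
    have h4 : (a * b' - a' * b) * T f (w 0) (w 1) (w 1) = 0 := by
      linear_combination a * e3 - a' * e2
    exact (mul_eq_zero.mp h4).resolve_left hdet
  intro x hx
  obtain ⟨s, x0, x1, rfl⟩ := hdec x hx
  rw [expand3 hf, h0, z3 0, z3 1, z1 0, z1 1, z2 0, z2 1, hγ, hA, hB]
  ring

/-- an irreducible cubic form does not vanish on a hyperplane -/
theorem reducible_of_plane {F : MvPolynomial (Fin 4) K} (hF : F.IsHomogeneous 3)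
    (hirr : Irreducible F) (H : Submodule K (Fin 4 → K)) (hH3 : Module.finrank K ↥H = 3)
    (hH : ∀ x ∈ H, eval x F = 0) : False := by
  have hlt : H < ⊤ := by
    rw [lt_top_iff_ne_top]
    intro h
    rw [h, finrank_top, Module.finrank_fin_fun] at hH3
    omega
  obtain ⟨φ, hφ0, hle⟩ := H.exists_le_ker_of_lt_top hlt
  have heq : H = LinearMap.ker φ := by
    obtain ⟨z, hz⟩ : ∃ z, φ z ≠ 0 := by
      by_contra h
      push Not at h
      exact hφ0 (LinearMap.ext h)
    apply Submodule.eq_of_le_of_finrank_eq hle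
    have := finrank_ker_of_ne_zero φ hz
    omega
  have hvan : ∀ x, φ x = 0 → eval x F = 0 := fun x hx => hH x (by rw [heq]; exact hx)
  have hmem : F ∈ Ideal.span {linPoly φ} := by
    have hb0 : (fun i => φ (Pi.single i 1) : Fin 4 → K) ≠ 0 := by
      intro h
      apply hφ0
      apply LinearMap.ext
      intro x
      rw [← eval_linPoly φ x, linPoly]
      simp only [map_sum, map_mul, eval_C, eval_X]
      rw [LinearMap.zero_apply]
      apply Finset.sum_eq_zero
      intro i _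
      have := congrFun h i
      simp only [Pi.zero_apply] at this
      rw [this, zero_mul]
    refine mem_span_of_vanish (fun i => φ (Pi.single i 1)) hb0 F (fun x hx => hvan x ?_)
    rw [← eval_linPoly φ x, linPoly]
    simp only [map_sum, map_mul, eval_C, eval_X]
    exact hx
  obtain ⟨G, hG⟩ := Ideal.mem_span_singleton'.mp hmem
  rcases hirr.isUnit_or_isUnit hG.symm with hu | hu
  · obtain ⟨r, hr, rfl⟩ := MvPolynomial.isUnit_iff_eq_C_of_isReduced.mp hu
    have hr0 : r ≠ 0 := hr.ne_zero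
    have hev : ∀ x, eval x F = r * φ x := by
      intro x
      rw [← hG, map_mul, eval_C, eval_linPoly]
    have hφz : ∀ x, φ x = 0 := by
      intro x
      have h1 := CubicFormK.eval_smul hF 2 x
      rw [hev, hev, map_smul, smul_eq_mul] at h1
      have h6 : (6 * r) * φ x = 0 := by linear_combination -h1
      exact (mul_eq_zero.mp h6).resolve_left (mul_ne_zero (by norm_num) hr0)
    exact hφ0 (LinearMap.ext hφz)
  · obtain ⟨r, hr, hrφ⟩ := MvPolynomial.isUnit_iff_eq_C_of_isReduced.mp hu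
    have h1 := eval_linPoly φ 0
    rw [hrφ, eval_C, map_zero] at h1
    exact hr.ne_zero h1

section degenerate

variable [IsAlgClosed K] {F : MvPolynomial (Fin 4) K} (hF : F.IsHomogeneous 3)
  (hirr : Irreducible F) {a : Fin 4 → K} (N : Sing F a)

include hF hirr N

theorem le_three_in_plane (H : Submodule K (Fin 4 → K)) (hH3 : Module.finrank K ↥H = 3) :
    {U : Submodule K (Fin 4 → K) | (a ∈ U ∧ Module.finrank K ↥U = 2 ∧
      ∀ u ∈ U, eval u F = 0) ∧ U ≤ H}.encard ≤ (3 : ℕ) := by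
  apply encard_le_of_no_inj
  intro g hg hinj
  exact reducible_of_plane hF hirr H hH3
    (four_lines_plane hF a N.hp H hH3 g (fun i => (hg i).1) (fun i => (hg i).2) hinj)

theorem le_six_of_degenerate (hq : ∃ x, T F a x x ≠ 0) (r : Fin 4 → K)
    (hr : ∀ v, T F a r v = 0) (hra : r ∉ Submodule.span K {a}) :
    {U : Submodule K (Fin 4 → K) | a ∈ U ∧ Module.finrank K ↥U = 2 ∧
      ∀ u ∈ U, eval u F = 0}.encard ≤ 6 := by
  have ha0 := N.hp
  have hr' : ∀ v, T F a v r = 0 := fun v => by rw [T_symm23]; exact hr v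
  set L := Submodule.span K {a} ⊔ Submodule.span K {r} with hLdef
  have hL2 : Module.finrank K ↥L = 2 := by
    rw [hLdef, sup_span_finrank _ hra, finrank_span_singleton ha0]
  have haL : a ∈ L := Submodule.mem_sup_left (Submodule.mem_span_singleton_self a)
  have hrL : r ∈ L := Submodule.mem_sup_right (Submodule.mem_span_singleton_self r)
  obtain ⟨e₁, he₁⟩ := exists_not_mem_of_finrank_lt L (by rw [hL2]; norm_num)
  obtain ⟨e₂, he₂⟩ := exists_not_mem_of_finrank_lt (L ⊔ Submodule.span K {e₁})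
    (by rw [sup_span_finrank L he₁, hL2]; norm_num)
  have hB : Basis4 a r e₁ e₂ := basis4_of L hL2 haL hrL ha0 hra he₁ he₂
  have hqu : ∀ w ρ α β : K, T F a (w • a + ρ • r + α • e₁ + β • e₂)
      (w • a + ρ • r + α • e₁ + β • e₂) =
      T F a e₁ e₁ * α ^ 2 + (2 * T F a e₁ e₂) * α * β + T F a e₂ e₂ * β ^ 2 := by
    intro w ρ α β
    simp only [T_add_mid, T_add_right, T_smul_mid, T_smul_right, N.sing, N.sing2, hr, hr',
      mul_zero, zero_add, add_zero]
    rw [T_symm23 F a e₂ e₁]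
    ring
  obtain ⟨l₁, m₁, l₂, m₂, hsplit⟩ := binquad_split (T F a e₁ e₁) (2 * T F a e₁ e₂) (T F a e₂ e₂)
  have hne1 : ¬ (l₁ = 0 ∧ m₁ = 0) := by
    rintro ⟨rfl, rfl⟩
    obtain ⟨x, hx⟩ := hq
    obtain ⟨w, ρ, α, β, rfl⟩ := hB.span x
    apply hx
    rw [hqu, hsplit]
    ring
  have hne2 : ¬ (l₂ = 0 ∧ m₂ = 0) := by
    rintro ⟨rfl, rfl⟩
    obtain ⟨x, hx⟩ := hq
    obtain ⟨w, ρ, α, β, rfl⟩ := hB.span x
    apply hx
    rw [hqu, hsplit]
    ring
  -- the two planes
  have hplane : ∀ l m : K, ¬ (l = 0 ∧ m = 0) →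
      Module.finrank K ↥(L ⊔ Submodule.span K {m • e₁ - l • e₂}) = 3 := by
    intro l m hlm
    rw [sup_span_finrank L, hL2]
    intro hmem
    obtain ⟨y, hy, z, hz, hyz⟩ := Submodule.mem_sup.1 hmem
    obtain ⟨s, rfl⟩ := Submodule.mem_span_singleton.1 hy
    obtain ⟨t, rfl⟩ := Submodule.mem_span_singleton.1 hz
    have := hB.ind s t (-m) l (by
      have : s • a + t • r + (-m) • e₁ + l • e₂ = (s • a + t • r) - (m • e₁ - l • e₂) := by module
      rw [this, hyz, sub_self])
    apply hlm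
    exact ⟨this.2.2.2, by linear_combination -this.2.2.1⟩
  have hin : ∀ (l m : K) (w ρ α β : K), l * α + m * β = 0 → ¬ (l = 0 ∧ m = 0) →
      w • a + ρ • r + α • e₁ + β • e₂ ∈ L ⊔ Submodule.span K {m • e₁ - l • e₂} := by
    intro l m w ρ α β h hlm
    obtain ⟨μ, hα, hβ⟩ := prop_of_lin hlm h
    have : w • a + ρ • r + α • e₁ + β • e₂ = (w • a + ρ • r) + μ • (m • e₁ - l • e₂) := by
      rw [hα, hβ]
      module
    rw [this]
    exact Submodule.add_mem _
      (Submodule.mem_sup_left (L.add_mem (L.smul_mem _ haL) (L.smul_mem _ hrL)))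
      (Submodule.mem_sup_right (Submodule.smul_mem _ _ (Submodule.mem_span_singleton_self _)))
  have hsub : {U : Submodule K (Fin 4 → K) | a ∈ U ∧ Module.finrank K ↥U = 2 ∧
      ∀ u ∈ U, eval u F = 0} ⊆
      {U : Submodule K (Fin 4 → K) | (a ∈ U ∧ Module.finrank K ↥U = 2 ∧
        ∀ u ∈ U, eval u F = 0) ∧ U ≤ L ⊔ Submodule.span K {m₁ • e₁ - l₁ • e₂}} ∪
      {U : Submodule K (Fin 4 → K) | (a ∈ U ∧ Module.finrank K ↥U = 2 ∧
        ∀ u ∈ U, eval u F = 0) ∧ U ≤ L ⊔ Submodule.span K {m₂ • e₁ - l₂ • e₂}} := by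
    rintro U ⟨haU, hU2, hUS⟩
    obtain ⟨u, huU, hu⟩ := exists_not_mem_span hU2 a
    obtain ⟨hUeq, hqu0, -⟩ := line_eq_Lp N hF haU hU2 hUS huU hu
    obtain ⟨w, ρ, α, β, rfl⟩ := hB.span u
    rw [hqu, hsplit] at hqu0
    have hle : ∀ (l m : K), ¬ (l = 0 ∧ m = 0) → l * α + m * β = 0 →
        U ≤ L ⊔ Submodule.span K {m • e₁ - l • e₂} := by
      intro l m hlm h
      rw [hUeq, Submodule.span_le]
      intro x hx
      rcases hx with rfl | hx
      · exact Submodule.mem_sup_left haL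
      · rw [Set.mem_singleton_iff] at hx
        rw [hx]
        exact hin l m w ρ α β h hlm
    rcases mul_eq_zero.mp hqu0 with h | h
    · exact Or.inl ⟨⟨haU, hU2, hUS⟩, hle l₁ m₁ hne1 h⟩
    · exact Or.inr ⟨⟨haU, hU2, hUS⟩, hle l₂ m₂ hne2 h⟩
  refine (Set.encard_le_encard hsub).trans ((Set.encard_union_le _ _).trans ?_)
  have h1 := le_three_in_plane hF hirr N _ (hplane l₁ m₁ hne1)
  have h2 := le_three_in_plane hF hirr N _ (hplane l₂ m₂ hne2)
  calc _ ≤ ((3 : ℕ) : ℕ∞) + ((3 : ℕ) : ℕ∞) := add_le_add h1 h2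
    _ = 6 := by norm_num

end degenerate

end Groth.Agent.H9.SingCub
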