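import Mathlib
import Groth.Agent.Lib.Helper9.Misc.SingCubA

/-! Helper9: lines through a singular point of an irreducible cubic surface,
nondegenerate tangent cone and the main bound. -/

set_option autoImplicit false
set_option linter.unusedSectionVars false
set_option linter.unusedVariables false

namespace Groth.Agent.H9.SingCub

universe u

variable {K : Type u} [Field K] [CharZero K]

section sixcoef

open Polynomial

theorem sixP_eq_zero {g0 g1 g2 g3 g4 g5 g6 : K}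
    (h : NodalCub.sixP g0 g1 g2 g3 g4 g5 g6 = 0) :
    g0 = 0 ∧ g1 = 0 ∧ g2 = 0 ∧ g3 = 0 ∧ g4 = 0 ∧ g5 = 0 ∧ g6 = 0 := by
  have hc : ∀ i, (NodalCub.sixP g0 g1 g2 g3 g4 g5 g6).coeff i = 0 := fun i => by
    rw [h, coeff_zero]
  have h0 := hc 0
  have h1 := hc 1
  have h2 := hc 2
  have h3 := hc 3
  have h4 := hc 4
  have h5 := hc 5
  have h6 := hc 6
  simp [NodalCub.sixP, coeff_X_pow, coeff_X] at h0 h1 h2 h3 h4 h5 h6
  exact ⟨h0, h1, h2, h3, h4, h5, h6⟩

theorem encard_roots_le (G : K[X]) (hG : G ≠ 0) (n : ℕ) (hn : G.natDegree ≤ n) :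
    {μ : K | G.eval μ = 0}.encard ≤ (n : ℕ∞) := by
  classical
  have hset : {μ : K | G.eval μ = 0} = ↑G.roots.toFinset := by
    ext μ
    simp [Polynomial.mem_roots hG, Polynomial.IsRoot]
  rw [hset, Set.encard_coe_eq_coe_finsetCard]
  exact_mod_cast (Multiset.toFinset_card_le _).trans ((Polynomial.card_roots' G).trans hn)

end sixcoef

open MvPolynomial Groth.Agent.H9.CubicFormK Groth.Agent.H9.CubicLines Groth.Agent.H9.CubicTri
open Groth.Agent.H9.NodalCub (Adapted phi phi' Gp sixP)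

theorem not_mem_span_of_ind {p u v : Fin 4 → K}
    (hind : ∀ s t r : K, s • p + t • u + r • v = 0 → s = 0 ∧ t = 0 ∧ r = 0) :
    u ∉ Submodule.span K {p} := by
  intro h
  obtain ⟨s, hs⟩ := Submodule.mem_span_singleton.1 h
  have := hind s (-1) 0 (by rw [← hs]; simp)
  have h1 : (-1 : K) = 0 := this.2.1
  norm_num at h1

section nd

variable {f : MvPolynomial (Fin 4) K} {p v₀ v₁ v₂ : Fin 4 → K} (N : Sing f p)
  (hnd : ∀ u, (∀ v, T f p u v = 0) → u ∈ Submodule.span K {p})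
  (A : Adapted f p v₀ v₁ v₂)

omit [CharZero K] in
theorem exists_B_ne (hnd : ∀ u, (∀ v, T f p u v = 0) → u ∈ Submodule.span K {p})
    {u : Fin 4 → K} (hu : u ∉ Submodule.span K {p}) : ∃ z, T f p u z ≠ 0 := by
  by_contra h
  push Not at h
  exact hu (hnd u h)

theorem exists_adapted [IsAlgClosed K] (N : Sing f p)
    (hnd : ∀ u, (∀ v, T f p u v = 0) → u ∈ Submodule.span K {p}) :
    ∃ v₀ v₁ v₂, Adapted f p v₀ v₁ v₂ := by
  have hp := N.hp
  obtain ⟨v₂, hv₂p, hq2⟩ : ∃ v₂, v₂ ∉ Submodule.span K {p} ∧ T f p v₂ v₂ = 0 := by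
    obtain ⟨w₁, hw₁⟩ := exists_not_mem_of_finrank_lt (Submodule.span K {p})
      (by rw [finrank_span_singleton hp]; norm_num)
    obtain ⟨w₂, hw₂⟩ := exists_not_mem_of_finrank_lt
      (Submodule.span K {p} ⊔ Submodule.span K {w₁})
      (by rw [sup_span_finrank _ hw₁, finrank_span_singleton hp]; norm_num)
    by_cases h : T f p w₂ w₂ = 0
    · exact ⟨w₂, fun hm => hw₂ (Submodule.mem_sup_left hm), h⟩
    · obtain ⟨s, hs⟩ := IsAlgClosed.exists_eq_mul_self
        (discrim (T f p w₂ w₂) (2 * T f p w₁ w₂) (T f p w₁ w₁))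
      obtain ⟨t, ht⟩ := exists_quadratic_eq_zero h ⟨s, hs⟩
      refine ⟨w₁ + t • w₂, ?_, ?_⟩
      · intro hm
        obtain ⟨c, hc⟩ := Submodule.mem_span_singleton.1 hm
        have := indep3 hp hw₁ hw₂ (s := -c) (x := 1) (y := t)
          (by rw [neg_smul, one_smul, hc]; abel)
        exact one_ne_zero this.2.1
      · simp only [T_add_mid, T_add_right, T_smul_mid, T_smul_right]
        rw [T_symm23 f p w₂ w₁]
        linear_combination ht
  obtain ⟨z, hz⟩ := exists_B_ne hnd hv₂p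
  obtain ⟨v₀, hq0, hb02⟩ : ∃ v₀, T f p v₀ v₀ = 0 ∧ T f p v₀ v₂ ≠ 0 := by
    refine ⟨z + (-(T f p z z) / (2 * T f p v₂ z)) • v₂, ?_, ?_⟩
    · simp only [T_add_mid, T_add_right, T_smul_mid, T_smul_right]
      rw [hq2, T_symm23 f p z v₂]
      field_simp
      ring
    · simp only [T_add_mid, T_smul_mid]
      rw [hq2, T_symm23 f p z v₂, mul_zero, add_zero]
      exact hz
  let γ : (Fin 4 → K) →ₗ[K] (K × K) := (Tlin f p v₀).prod (Tlin f p v₂)
  have hker : 2 ≤ Module.finrank K ↥(LinearMap.ker γ) := by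
    have h1 := LinearMap.finrank_range_add_finrank_ker γ
    rw [Module.finrank_fin_fun] at h1
    have h2 : Module.finrank K ↥(LinearMap.range γ) ≤ 2 := by
      have := Submodule.finrank_le (LinearMap.range γ)
      rwa [Module.finrank_prod, Module.finrank_self] at this
    omega
  obtain ⟨v₁, hv₁k, hv₁p⟩ := exists_not_mem_span' hker p
  have hγ : γ v₁ = 0 := LinearMap.mem_ker.mp hv₁k
  have hb01 : T f p v₀ v₁ = 0 := (Prod.ext_iff.mp hγ).1
  have hb21 : T f p v₂ v₁ = 0 := (Prod.ext_iff.mp hγ).2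
  have hB : Basis4 p v₀ v₁ v₂ := by
    apply NodalCub.basis4_of_ind
    intro s t x y h
    have ht : t = 0 := by
      have := congrArg (Tlin f p v₂) h
      simp only [map_add, map_smul, smul_eq_mul, Tlin_apply, map_zero, N.sing2, hb21, hq2,
        mul_zero, zero_add, add_zero] at this
      rw [T_symm23 f p v₂ v₀] at this
      exact (mul_eq_zero.mp this).resolve_right hb02
    have hy : y = 0 := by
      have := congrArg (Tlin f p v₀) h
      simp only [map_add, map_smul, smul_eq_mul, Tlin_apply, map_zero, N.sing2, hb01, hq0,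
        mul_zero, zero_add, add_zero] at this
      exact (mul_eq_zero.mp this).resolve_right hb02
    subst ht hy
    simp only [zero_smul, add_zero] at h
    have hx : x = 0 := by
      by_contra hx
      apply hv₁p
      have : v₁ = (-(x⁻¹ * s)) • p := by
        have h2 : x • v₁ = -(s • p) := eq_neg_of_add_eq_zero_right h
        have h3 : v₁ = x⁻¹ • (x • v₁) := by rw [smul_smul, inv_mul_cancel₀ hx, one_smul]
        rw [h3, h2, smul_neg, smul_smul, neg_smul]
      rw [this]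
      exact Submodule.smul_mem _ _ (Submodule.mem_span_singleton_self p)
    subst hx
    rw [zero_smul, add_zero] at h
    have hs : s = 0 := (smul_eq_zero.mp h).resolve_right hp
    exact ⟨hs, rfl, rfl, rfl⟩
  have hq1 : T f p v₁ v₁ ≠ 0 := by
    intro h
    apply hv₁p
    apply hnd
    intro w
    obtain ⟨s, t, x, y, rfl⟩ := hB.span w
    simp only [T_add_right, T_smul_right, N.sing2, h, mul_zero, zero_add, add_zero]
    rw [T_symm23 f p v₁ v₀, hb01, T_symm23 f p v₁ v₂, hb21]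
    ring
  obtain ⟨ρ, hρ⟩ := IsAlgClosed.exists_eq_mul_self (-2 * T f p v₀ v₂ / T f p v₁ v₁)
  have hρ0 : ρ ≠ 0 := by
    rintro rfl
    have h0 : -2 * T f p v₀ v₂ / T f p v₁ v₁ = 0 := by rw [hρ]; ring
    rw [div_eq_zero_iff] at h0
    rcases h0 with h | h
    · exact hb02 (by linear_combination (-1 / 2 : K) * h)
    · exact hq1 h
  have hρ2 : ρ * ρ * T f p v₁ v₁ = -2 * T f p v₀ v₂ := by
    rw [← hρ]
    field_simp
  refine ⟨v₀, ρ • v₁, v₂, ⟨hq0, ?_, ?_, ?_, hq2, ?_⟩⟩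
  · rw [T_smul_right, hb01, mul_zero]
  · rw [T_smul_mid, T_smul_right]
    linear_combination hρ2
  · rw [T_smul_mid, T_symm23 f p v₁ v₂, hb21, mul_zero]
  · refine ⟨fun s t x y h => ?_, fun w => ?_⟩
    · have := hB.ind s t (x * ρ) y (by rw [← h, smul_smul])
      exact ⟨this.1, this.2.1, (mul_eq_zero.mp this.2.2.1).resolve_right hρ0, this.2.2.2⟩
    · obtain ⟨s, t, x, y, rfl⟩ := hB.span w
      exact ⟨s, t, x / ρ, y, by rw [smul_smul, div_mul_cancel₀ _ hρ0]⟩

section onlyA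

include A

theorem q_phi (μ : K) : T f p (phi v₀ v₁ v₂ μ) (phi v₀ v₁ v₂ μ) = 0 := by
  rw [phi, expandq, A.q0, A.b01, A.b12, A.q2]
  linear_combination μ ^ 2 * A.rel

theorem hind_phi (μ : K) : ∀ s t r : K,
    s • p + t • phi v₀ v₁ v₂ μ + r • phi' v₁ v₂ μ = 0 → s = 0 ∧ t = 0 ∧ r = 0 := by
  intro s t r h
  have h' : s • p + t • v₀ + (t * μ + r) • v₁ + (t * μ ^ 2 + 2 * r * μ) • v₂ = 0 := by
    rw [← h]
    simp only [phi, phi']
    module
  obtain ⟨h1, h2, h3, h4⟩ := A.basis.ind _ _ _ _ h'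
  refine ⟨h1, h2, ?_⟩
  rw [h2] at h3
  linear_combination h3

theorem phi_not_mem (μ : K) : phi v₀ v₁ v₂ μ ∉ Submodule.span K {p} :=
  not_mem_span_of_ind (hind_phi A μ)

theorem eval_Gp (hf : f.IsHomogeneous 3) (μ : K) :
    (Gp f v₀ v₁ v₂).eval μ = T f (phi v₀ v₁ v₂ μ) (phi v₀ v₁ v₂ μ) (phi v₀ v₁ v₂ μ) := by
  rw [← eval_eq_T hf, phi, expand3 hf, Gp, NodalCub.eval_sixP]
  ring

theorem lineAt_inj : Function.Injective
    (fun μ : K => Submodule.span K {p, phi v₀ v₁ v₂ μ}) := by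
  intro μ μ' h
  have h' : Submodule.span K {p, phi v₀ v₁ v₂ μ} = Submodule.span K {p, phi v₀ v₁ v₂ μ'} := h
  have hmem : phi v₀ v₁ v₂ μ' ∈ Submodule.span K {p, phi v₀ v₁ v₂ μ} := by
    rw [h']
    exact Submodule.subset_span (by simp)
  obtain ⟨s, t, hst⟩ := Submodule.mem_span_pair.1 hmem
  have h0 : s • p + (t - 1) • v₀ + (t * μ - μ') • v₁ + (t * μ ^ 2 - μ' ^ 2) • v₂ = 0 := by
    have : s • p + (t - 1) • v₀ + (t * μ - μ') • v₁ + (t * μ ^ 2 - μ' ^ 2) • v₂ =
        (s • p + t • phi v₀ v₁ v₂ μ) - phi v₀ v₁ v₂ μ' := by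
      simp only [phi]
      module
    rw [this, hst, sub_self]
  obtain ⟨-, h2, h3, -⟩ := A.basis.ind _ _ _ _ h0
  have ht : t = 1 := by linear_combination h2
  rw [ht] at h3
  linear_combination h3

end onlyA

section withN

include N hnd A

theorem q1ne : T f p v₁ v₁ ≠ 0 := by
  intro h
  have hmem : v₁ ∈ Submodule.span K {p} := by
    apply hnd
    intro w
    obtain ⟨s, t, x, y, rfl⟩ := A.basis.span w
    simp only [T_add_right, T_smul_right, N.sing2, h, mul_zero, zero_add, add_zero]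
    rw [T_symm23 f p v₁ v₀, A.b01, A.b12]
    ring
  obtain ⟨s, hs⟩ := Submodule.mem_span_singleton.1 hmem
  have := A.basis.ind (-s) 0 1 0 (by rw [neg_smul, hs, one_smul, zero_smul, zero_smul]; abel)
  exact one_ne_zero this.2.2.1

theorem param_surj {u : Fin 4 → K} (hu : u ∉ Submodule.span K {p}) (hq : T f p u u = 0) :
    (∃ ρ μ w : K, ρ ≠ 0 ∧ u = w • p + ρ • phi v₀ v₁ v₂ μ) ∨
      (∃ ρ w : K, ρ ≠ 0 ∧ u = w • p + ρ • v₂) := by
  obtain ⟨w, z, y, x, rfl⟩ := A.basis.span u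
  have hq' : T f p v₁ v₁ * (y ^ 2 - z * x) = 0 := by
    simp only [T_add_mid, T_add_right, T_smul_mid, T_smul_right, N.sing, N.sing2, mul_zero,
      zero_add] at hq
    rw [T_symm23 f p v₁ v₀, T_symm23 f p v₂ v₀, T_symm23 f p v₂ v₁, A.q0, A.b01, A.b12, A.q2]
      at hq
    linear_combination hq - z * x * A.rel
  have hyz : y ^ 2 = z * x := by
    have := (mul_eq_zero.mp hq').resolve_left (q1ne N hnd A)
    linear_combination this
  by_cases hz : z = 0
  · right
    subst hz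
    have hy : y = 0 := by
      have : y ^ 2 = 0 := by rw [hyz]; ring
      exact pow_eq_zero_iff (two_ne_zero) |>.mp this
    subst hy
    refine ⟨x, w, ?_, ?_⟩
    · rintro rfl
      apply hu
      simp only [zero_smul, add_zero]
      exact Submodule.smul_mem _ _ (Submodule.mem_span_singleton_self p)
    · simp only [zero_smul, add_zero]
  · left
    obtain ⟨μ, rfl⟩ : ∃ μ, y = z * μ := ⟨y / z, by field_simp⟩
    have hx : x = z * μ ^ 2 := by
      apply mul_left_cancel₀ hz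
      linear_combination -hyz
    subst hx
    refine ⟨z, μ, w, hz, ?_⟩
    simp only [phi]
    module

theorem line_cases (hf : f.IsHomogeneous 3) {U : Submodule K (Fin 4 → K)} (hpU : p ∈ U)
    (hU2 : Module.finrank K ↥U = 2) (hUS : ∀ x ∈ U, eval x f = 0) :
    (∃ μ : K, (Gp f v₀ v₁ v₂).eval μ = 0 ∧ U = Submodule.span K {p, phi v₀ v₁ v₂ μ}) ∨
      (T f v₂ v₂ v₂ = 0 ∧ U = Submodule.span K {p, v₂}) := by
  obtain ⟨u, huU, hu⟩ := exists_not_mem_span hU2 p
  obtain ⟨hUeq, hq, hc⟩ := line_eq_Lp N hf hpU hU2 hUS huU hu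
  rcases param_surj N hnd A hu hq with ⟨ρ, μ, w, hρ, rfl⟩ | ⟨ρ, w, hρ, rfl⟩
  · left
    have hφU : phi v₀ v₁ v₂ μ ∈ U := by
      have : phi v₀ v₁ v₂ μ = ρ⁻¹ • ((w • p + ρ • phi v₀ v₁ v₂ μ) - w • p) := by
        rw [add_sub_cancel_left, smul_smul, inv_mul_cancel₀ hρ, one_smul]
      rw [this]
      exact U.smul_mem _ (U.sub_mem huU (U.smul_mem _ hpU))
    refine ⟨μ, ?_, (line_eq_Lp N hf hpU hU2 hUS hφU (phi_not_mem A μ)).1⟩
    rw [eval_Gp A hf]
    rw [T_cube N, T_smul_mid, T_smul_right, q_phi A, T_smul_left, T_smul_mid, T_smul_right]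
      at hc
    have h3 : ρ ^ 3 * T f (phi v₀ v₁ v₂ μ) (phi v₀ v₁ v₂ μ) (phi v₀ v₁ v₂ μ) = 0 := by
      linear_combination hc
    exact (mul_eq_zero.mp h3).resolve_left (pow_ne_zero 3 hρ)
  · right
    have hv₂p : v₂ ∉ Submodule.span K {p} := by
      intro hm
      apply hu
      exact Submodule.add_mem _ (Submodule.smul_mem _ _ (Submodule.mem_span_singleton_self p))
        (Submodule.smul_mem _ _ hm)
    have hvU : v₂ ∈ U := by
      have : v₂ = ρ⁻¹ • ((w • p + ρ • v₂) - w • p) := by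
        rw [add_sub_cancel_left, smul_smul, inv_mul_cancel₀ hρ, one_smul]
      rw [this]
      exact U.smul_mem _ (U.sub_mem huU (U.smul_mem _ hpU))
    obtain ⟨h1, -, h3⟩ := line_eq_Lp N hf hpU hU2 hUS hvU hv₂p
    exact ⟨h3, h1⟩

/-- if the sextic vanishes identically, the cubic is divisible by the tangent cone -/
theorem gp_zero_false (hf : f.IsHomogeneous 3) (hirr : Irreducible f)
    (hG : Gp f v₀ v₁ v₂ = 0) : False := by
  obtain ⟨h0, h1, h2, h3, h4, h5, h6⟩ := sixP_eq_zero (by rw [Gp] at hG; exact hG)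
  have hκ : T f p v₁ v₁ ≠ 0 := q1ne N hnd A
  have e001 : T f v₀ v₀ v₁ = 0 := by linear_combination (1 / 3 : K) * h1
  have e002 : T f v₀ v₀ v₂ = -T f v₀ v₁ v₁ := by linear_combination (1 / 3 : K) * h2
  have e012 : T f v₀ v₁ v₂ = -(1 / 6) * T f v₁ v₁ v₁ := by linear_combination (1 / 6 : K) * h3
  have e022 : T f v₀ v₂ v₂ = -T f v₁ v₁ v₂ := by linear_combination (1 / 3 : K) * h4
  have e122 : T f v₁ v₂ v₂ = 0 := by linear_combination (1 / 3 : K) * h5
  have hb02 : T f p v₀ v₂ = -T f p v₁ v₁ / 2 := by linear_combination (1 / 2 : K) * A.rel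
  let Λ : (Fin 4 → K) →ₗ[K] K := (1 / (3 * T f p v₁ v₁)) •
    ((3 : K) • Tlin f v₁ v₁ - (2 * T f v₁ v₁ v₁ / T f p v₁ v₁) • Tlin f p v₁)
  have hΛ : ∀ w z y x' : K, Λ (w • p + (z • v₀ + y • v₁ + x' • v₂)) =
      (1 / (3 * T f p v₁ v₁)) *
        (3 * (w * T f p v₁ v₁ + z * T f v₀ v₁ v₁ + y * T f v₁ v₁ v₁ + x' * T f v₁ v₁ v₂) -
          (2 * T f v₁ v₁ v₁ / T f p v₁ v₁) * (y * T f p v₁ v₁)) := by
    intro w z y x'
    simp only [Λ, LinearMap.smul_apply, LinearMap.sub_apply, Tlin_apply, smul_eq_mul,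
      T_add_right, T_smul_right, N.sing2]
    rw [T_symm13 f v₁ v₁ p, T_symm13 f v₁ v₁ v₀, T_symm23 f p v₁ v₀, A.b01, A.b12]
    ring
  have hq : ∀ (w : K) (u : Fin 4 → K), T f (w • p + u) (w • p + u) p = T f p u u := by
    intro w u
    rw [T_symm13]
    simp only [T_add_mid, T_add_right, T_smul_mid, T_smul_right, N.sing, N.sing2, mul_zero,
      zero_add, add_zero]
  have hfac : f = (∑ i, p i • pderiv i f) * linPoly Λ := by
    apply MvPolynomial.funext
    intro x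
    rw [map_mul, eval_polar hf, eval_linPoly]
    obtain ⟨w, z, y, x', rfl⟩ := A.basis.span x
    have hu : w • p + z • v₀ + y • v₁ + x' • v₂ = w • p + (z • v₀ + y • v₁ + x' • v₂) := by
      abel
    rw [hu, eval_eq_T hf, T_cube N, hq, ← eval_eq_T hf (z • v₀ + y • v₁ + x' • v₂),
      expand3 hf, expandq, hΛ]
    simp only [A.q0, A.b01, A.b12, A.q2, hb02, h0, e001, e002, e012, e022, e122, h6]
    field_simp
    ring
  rcases hirr.isUnit_or_isUnit hfac with hu | hu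
  · obtain ⟨r, hr, hrP⟩ := MvPolynomial.isUnit_iff_eq_C_of_isReduced.mp hu
    have h1' := eval_polar hf p 0
    rw [hrP, eval_C] at h1'
    have hz : T f 0 0 p = 0 := by
      have := T_smul_left f (0 : K) (0 : Fin 4 → K) 0 p
      rwa [zero_smul, zero_mul] at this
    exact hr.ne_zero (by rw [h1', hz, mul_zero])
  · obtain ⟨r, hr, hrφ⟩ := MvPolynomial.isUnit_iff_eq_C_of_isReduced.mp hu
    have h1' := eval_linPoly Λ 0
    rw [hrφ, eval_C, map_zero] at h1'
    exact hr.ne_zero h1'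

end withN

end nd

section main

variable [IsAlgClosed K] {F : MvPolynomial (Fin 4) K} (hF : F.IsHomogeneous 3)
  (hirr : Irreducible F) {a : Fin 4 → K} (N : Sing F a)

include hF hirr N

theorem le_six_of_nondegenerate
    (hnd : ∀ u, (∀ v, T F a u v = 0) → u ∈ Submodule.span K {a}) :
    {U : Submodule K (Fin 4 → K) | a ∈ U ∧ Module.finrank K ↥U = 2 ∧
      ∀ u ∈ U, eval u F = 0}.encard ≤ 6 := by
  obtain ⟨v₀, v₁, v₂, A⟩ := exists_adapted N hnd
  by_cases hG : Gp F v₀ v₁ v₂ = 0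
  · exact (gp_zero_false N hnd A hF hirr hG).elim
  · have hsub : {U : Submodule K (Fin 4 → K) | a ∈ U ∧ Module.finrank K ↥U = 2 ∧
        ∀ u ∈ U, eval u F = 0} ⊆
        insert (Submodule.span K {a, v₂})
          ((fun μ : K => Submodule.span K {a, phi v₀ v₁ v₂ μ}) ''
            {μ : K | (Gp F v₀ v₁ v₂).eval μ = 0}) := by
      rintro U ⟨hpU, hU2, hUS⟩
      rcases line_cases N hnd A hF hpU hU2 hUS with ⟨μ, hμ, rfl⟩ | ⟨-, rfl⟩
      · exact Set.mem_insert_of_mem _ ⟨μ, hμ, rfl⟩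
      · exact Set.mem_insert _ _
    by_cases hc2 : T F v₂ v₂ v₂ = 0
    · have hG' : Gp F v₀ v₁ v₂ = sixP (T F v₀ v₀ v₀) (3 * T F v₀ v₀ v₁)
          (3 * T F v₀ v₀ v₂ + 3 * T F v₀ v₁ v₁) (T F v₁ v₁ v₁ + 6 * T F v₀ v₁ v₂)
          (3 * T F v₁ v₁ v₂ + 3 * T F v₀ v₂ v₂) (3 * T F v₁ v₂ v₂) 0 := by
        rw [Gp, hc2]
      have hdeg : (Gp F v₀ v₁ v₂).natDegree ≤ 5 := by
        rw [hG']
        exact NodalCub.natDegree_sixP_le_five _ _ _ _ _ _
      calc _ ≤ (insert (Submodule.span K {a, v₂})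
            ((fun μ : K => Submodule.span K {a, phi v₀ v₁ v₂ μ}) ''
              {μ : K | (Gp F v₀ v₁ v₂).eval μ = 0})).encard := Set.encard_le_encard hsub
        _ ≤ ((fun μ : K => Submodule.span K {a, phi v₀ v₁ v₂ μ}) ''
              {μ : K | (Gp F v₀ v₁ v₂).eval μ = 0}).encard + 1 := Set.encard_insert_le _ _
        _ ≤ {μ : K | (Gp F v₀ v₁ v₂).eval μ = 0}.encard + 1 :=
          add_le_add (Set.encard_image_le _ _) le_rfl
        _ ≤ ((5 : ℕ) : ℕ∞) + 1 := add_le_add (encard_roots_le _ hG 5 hdeg) le_rfl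
        _ = 6 := by norm_num
    · have hsub' : {U : Submodule K (Fin 4 → K) | a ∈ U ∧ Module.finrank K ↥U = 2 ∧
          ∀ u ∈ U, eval u F = 0} ⊆
            ((fun μ : K => Submodule.span K {a, phi v₀ v₁ v₂ μ}) ''
              {μ : K | (Gp F v₀ v₁ v₂).eval μ = 0}) := by
        rintro U ⟨hpU, hU2, hUS⟩
        rcases line_cases N hnd A hF hpU hU2 hUS with ⟨μ, hμ, rfl⟩ | ⟨h, -⟩
        · exact ⟨μ, hμ, rfl⟩
        · exact absurd h hc2
      calc _ ≤ ((fun μ : K => Submodule.span K {a, phi v₀ v₁ v₂ μ}) ''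
              {μ : K | (Gp F v₀ v₁ v₂).eval μ = 0}).encard := Set.encard_le_encard hsub'
        _ ≤ {μ : K | (Gp F v₀ v₁ v₂).eval μ = 0}.encard := Set.encard_image_le _ _
        _ ≤ ((6 : ℕ) : ℕ∞) := encard_roots_le _ hG 6 (NodalCub.natDegree_sixP_le _ _ _ _ _ _ _)
        _ = 6 := by norm_num

end main

theorem main_sing [IsAlgClosed K] (F : MvPolynomial (Fin 4) K) (hF : F.IsHomogeneous 3)
    (hirr : Irreducible F)
    (hcone : ¬ ∃ v : Fin 4 → K, v ≠ 0 ∧ ∑ i : Fin 4, v i • MvPolynomial.pderiv i F = 0)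
    (a : Fin 4 → K) (ha : a ≠ 0)
    (hsing : ∀ i : Fin 4, MvPolynomial.eval a (MvPolynomial.pderiv i F) = 0) :
    {U : Submodule K (Fin 4 → K) | a ∈ U ∧ Module.finrank K ↥U = 2 ∧
      ∀ u ∈ U, MvPolynomial.eval u F = 0}.encard ≤ 6 := by
  have N := sing_of F hF a ha hsing
  have hq : ∃ x, T F a x x ≠ 0 := by
    by_contra h
    push Not at h
    apply hcone
    refine ⟨a, ha, ?_⟩
    apply MvPolynomial.funext
    intro x
    rw [eval_polar hF, T_symm13, h, mul_zero, map_zero]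
  by_cases hnd : ∀ u, (∀ v, T F a u v = 0) → u ∈ Submodule.span K {a}
  · exact le_six_of_nondegenerate hF hirr N hnd
  · push Not at hnd
    obtain ⟨r, hr, hra⟩ := hnd
    exact le_six_of_degenerate hF hirr N hq r hr hra

end Groth.Agent.H9.SingCub
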