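import Mathlib
set_option autoImplicit false
set_option linter.style.haveILetI false
set_option linter.unusedSectionVars false
set_option linter.unusedVariables false
namespace Groth.Agent.H9.SkewDetSq
open Matrix

section Field
variable {K : Type*} [Field K]

/-- an explicit equivalence `Fin 2 ⊕ {x // x ≠ i ∧ x ≠ j} ≃ n` -/
def splitEquiv {n : Type} [DecidableEq n] (i j : n) (hij : i ≠ j) :
    Fin 2 ⊕ {x : n // x ≠ i ∧ x ≠ j} ≃ n where
  toFun := Sum.elim (fun a => if a = 0 then i else j) (fun x => x.1)
  invFun := fun x => if hi : x = i then Sum.inl 0 else if hj : x = j then Sum.inl 1 else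
    Sum.inr ⟨x, hi, hj⟩
  left_inv := by
    rintro (a | ⟨x, hx1, hx2⟩)
    · fin_cases a
      · simp
      · simp [hij.symm]
    · simp [hx1, hx2]
  right_inv := by
    intro x
    by_cases hi : x = i
    · simp [hi]
    · by_cases hj : x = j
      · simp [hj, hij.symm]
      · simp [hi, hj]

lemma splitEquiv_inl0 {n : Type} [DecidableEq n] (i j : n) (hij : i ≠ j) :
    splitEquiv i j hij (Sum.inl 0) = i := by simp [splitEquiv]

lemma splitEquiv_inl1 {n : Type} [DecidableEq n] (i j : n) (hij : i ≠ j) :
    splitEquiv i j hij (Sum.inl 1) = j := by simp [splitEquiv]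

theorem det_sq_field (h2 : (2 : K) ≠ 0) : ∀ (c : ℕ) (n : Type) [Fintype n] [DecidableEq n],
    Fintype.card n = c → ∀ M : Matrix n n K, Mᵀ = -M → ∃ r : K, M.det = r ^ 2 := by
  intro c
  induction c using Nat.strong_induction_on with
  | _ c ih =>
  intro n _ _ hc M hM
  have hdiag : ∀ i, M i i = 0 := by
    intro i
    have := congrFun (congrFun hM i) i
    simp only [transpose_apply, Matrix.neg_apply] at this
    have h : (2 : K) * M i i = 0 := by linear_combination this
    rcases mul_eq_zero.mp h with h | h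
    · exact absurd h h2
    · exact h
  have hskew : ∀ i j, M j i = - M i j := by
    intro i j
    have := congrFun (congrFun hM i) j
    simpa only [transpose_apply, Matrix.neg_apply] using this
  by_cases hM0 : M = 0
  · subst hM0
    rcases isEmpty_or_nonempty n with hn | hn
    · exact ⟨1, by simp⟩
    · exact ⟨0, by simp⟩
  obtain ⟨i, j, hij0⟩ : ∃ i j, M i j ≠ 0 := by
    by_contra hcon
    push Not at hcon
    apply hM0
    ext i j
    exact hcon i j
  have hij : i ≠ j := by
    rintro rfl
    exact hij0 (hdiag i)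
  let e := splitEquiv i j hij
  let M' : Matrix (Fin 2 ⊕ {x : n // x ≠ i ∧ x ≠ j}) (Fin 2 ⊕ {x : n // x ≠ i ∧ x ≠ j}) K :=
    M.submatrix e e
  have hdet : M'.det = M.det := Matrix.det_submatrix_equiv_self e M
  have hM' : M'ᵀ = -M' := by
    ext a b
    simp only [M', transpose_apply, submatrix_apply, Matrix.neg_apply]
    exact hskew _ _
  set A := M'.toBlocks₁₁ with hA
  set B := M'.toBlocks₁₂ with hB
  set C := M'.toBlocks₂₁ with hC
  set D := M'.toBlocks₂₂ with hD
  have hblocks : fromBlocks A B C D = M' := fromBlocks_toBlocks M'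
  have hAt : Aᵀ = -A := by
    ext a b
    have := congrFun (congrFun hM' (Sum.inl a)) (Sum.inl b)
    simpa [A, toBlocks₁₁] using this
  have hCB : C = -Bᵀ := by
    ext a b
    have := congrFun (congrFun hM' (Sum.inl b)) (Sum.inr a)
    simpa [B, C, toBlocks₁₂, toBlocks₂₁] using this
  have hDt : Dᵀ = -D := by
    ext a b
    have := congrFun (congrFun hM' (Sum.inr a)) (Sum.inr b)
    simpa [D, toBlocks₂₂] using this
  set a := M i j with ha
  have hA01 : A 0 1 = a := by
    simp only [A, toBlocks₁₁, M', of_apply, submatrix_apply]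
    rw [show e (Sum.inl 0) = i from splitEquiv_inl0 i j hij,
      show e (Sum.inl 1) = j from splitEquiv_inl1 i j hij]
  have hA10 : A 1 0 = -a := by
    have := congrFun (congrFun hAt 0) 1
    simp only [transpose_apply, Matrix.neg_apply] at this
    rw [this, hA01]
  have hA00 : A 0 0 = 0 := by
    simp only [A, toBlocks₁₁, M', of_apply, submatrix_apply]
    exact hdiag _
  have hA11 : A 1 1 = 0 := by
    simp only [A, toBlocks₁₁, M', of_apply, submatrix_apply]
    exact hdiag _
  have hdetA : A.det = a ^ 2 := by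
    rw [Matrix.det_fin_two, hA00, hA11, hA01, hA10]; ring
  have hunit : IsUnit A.det := by
    rw [hdetA]; exact (isUnit_iff_ne_zero.mpr hij0).pow 2
  haveI : Invertible A := Matrix.invertibleOfIsUnitDet A hunit
  have hX : (⅟A)ᵀ = - ⅟A := by
    rw [Matrix.invOf_eq_nonsing_inv]
    have h1 : A⁻¹ * A = 1 := Matrix.nonsing_inv_mul A hunit
    have h2 : A * A⁻¹ = 1 := Matrix.mul_nonsing_inv A hunit
    have h3 : (-(A⁻¹)ᵀ) * A = 1 := by
      have := congrArg Matrix.transpose h2
      rw [Matrix.transpose_mul, hAt, Matrix.transpose_one] at this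
      rw [Matrix.neg_mul, ← Matrix.mul_neg]
      exact this
    have h4 := Matrix.inv_eq_left_inv h3
    calc (A⁻¹)ᵀ = -(-(A⁻¹)ᵀ) := (neg_neg _).symm
      _ = -A⁻¹ := by rw [← h4]
  set D' := D - C * ⅟A * B with hD'
  have hD't : D'ᵀ = -D' := by
    rw [hD', Matrix.transpose_sub, Matrix.transpose_mul, Matrix.transpose_mul, hDt, hX, hCB]
    simp only [Matrix.transpose_neg, Matrix.transpose_transpose, Matrix.neg_mul, Matrix.mul_neg,
      neg_neg, Matrix.mul_assoc]
    abel
  have hcard : Fintype.card {x : n // x ≠ i ∧ x ≠ j} < c := by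
    rw [← hc]
    exact Fintype.card_subtype_lt (x := i) (by simp)
  obtain ⟨s, hs⟩ := ih _ hcard {x : n // x ≠ i ∧ x ≠ j} rfl D' hD't
  refine ⟨a * s, ?_⟩
  rw [← hdet, ← hblocks, Matrix.det_fromBlocks₁₁, hdetA, hs]
  ring

end Field

section Domain
variable {R : Type*} [CommRing R] [IsDomain R] [IsIntegrallyClosed R]

theorem det_sq_domain (h2 : (2 : R) ≠ 0) (n : Type) [Fintype n] [DecidableEq n]
    (M : Matrix n n R) (hM : Mᵀ = -M) : ∃ r : R, M.det = r ^ 2 := by
  let K := FractionRing R
  let f : R →+* K := algebraMap R K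
  have hinj : Function.Injective f := IsFractionRing.injective R K
  have h2K : (2 : K) ≠ 0 := by
    have : f 2 = 2 := map_ofNat f 2
    rw [← this]
    exact fun h => h2 (hinj (by rw [h, map_zero]))
  have hMK : (f.mapMatrix M)ᵀ = -(f.mapMatrix M) := by
    have := congrArg f.mapMatrix hM
    rw [map_neg] at this
    rw [← this]
    ext a b
    simp
  obtain ⟨r, hr⟩ := det_sq_field h2K _ n rfl (f.mapMatrix M) hMK
  rw [← RingHom.map_det] at hr
  have hint : IsIntegral R r := by
    refine IsIntegral.of_pow (n := 2) (by norm_num) ?_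
    rw [← hr]
    exact isIntegral_algebraMap
  obtain ⟨y, hy⟩ := IsIntegrallyClosed.isIntegral_iff.mp hint
  refine ⟨y, hinj ?_⟩
  rw [hr, map_pow, ← hy]

end Domain

end Groth.Agent.H9.SkewDetSq
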