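import Mathlib
import Groth.Agent.Lib.Helper9.Misc.SkewDetSq
set_option autoImplicit false
set_option linter.style.haveILetI false
set_option linter.unusedSectionVars false
set_option linter.unusedVariables false
namespace Groth.Agent.H9.SkewDetSq
open Matrix Polynomial

section
variable {S : Type*} [CommRing S]

lemma J_transpose (m : ℕ) :
    (fromBlocks 0 1 (-1) 0 : Matrix (Fin m ⊕ Fin m) (Fin m ⊕ Fin m) S)ᵀ =
      -(fromBlocks 0 1 (-1) 0 : Matrix (Fin m ⊕ Fin m) (Fin m ⊕ Fin m) S) := by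
  rw [fromBlocks_transpose, fromBlocks_neg]
  simp

lemma J_map {S' : Type*} [CommRing S'] (f : S →+* S') (m : ℕ) :
    f.mapMatrix (fromBlocks 0 1 (-1) 0 : Matrix (Fin m ⊕ Fin m) (Fin m ⊕ Fin m) S) =
      (fromBlocks 0 1 (-1) 0 : Matrix (Fin m ⊕ Fin m) (Fin m ⊕ Fin m) S') := by
  rw [RingHom.mapMatrix_apply, fromBlocks_map]
  congr 1
  · simp
  · simp
  · ext i j; simp [Matrix.one_apply]
  · simp

lemma J_mul_J (m : ℕ) :
    (fromBlocks 0 1 (-1) 0 : Matrix (Fin m ⊕ Fin m) (Fin m ⊕ Fin m) S) *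
      (fromBlocks 0 1 (-1) 0 : Matrix (Fin m ⊕ Fin m) (Fin m ⊕ Fin m) S) = -1 := by
  rw [fromBlocks_multiply, ← fromBlocks_one, fromBlocks_neg]
  simp

lemma J_det_ne_zero (m : ℕ) [Nontrivial S] [NoZeroDivisors S] :
    (fromBlocks 0 1 (-1) 0 : Matrix (Fin m ⊕ Fin m) (Fin m ⊕ Fin m) S).det ≠ 0 := by
  intro h
  have := congrArg Matrix.det (J_mul_J (S := S) m)
  rw [Matrix.det_mul, h, zero_mul, Matrix.det_neg, Matrix.det_one, mul_one] at this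
  have h1 : ((-1 : S) ^ Fintype.card (Fin m ⊕ Fin m)) ≠ 0 := pow_ne_zero _ (by simp)
  exact h1 this.symm

end

theorem part1 (m : ℕ) : ∃ P : MvPolynomial ((Fin m ⊕ Fin m) × (Fin m ⊕ Fin m)) (Polynomial ℂ),
      ∀ A : Matrix (Fin m ⊕ Fin m) (Fin m ⊕ Fin m) ℂ,
        A.transpose * Matrix.fromBlocks 0 1 (-1) 0 = Matrix.fromBlocks 0 1 (-1) 0 * A →
        A.charpoly = (MvPolynomial.eval (fun ij => Polynomial.C (A ij.1 ij.2)) P) ^ 2 := by
  classical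
  let R₁ := MvPolynomial ((Fin m ⊕ Fin m) × (Fin m ⊕ Fin m)) ℂ[X]
  let G : Matrix (Fin m ⊕ Fin m) (Fin m ⊕ Fin m) R₁ := Matrix.of fun i j => MvPolynomial.X (i, j)
  let Jg : Matrix (Fin m ⊕ Fin m) (Fin m ⊕ Fin m) R₁ := fromBlocks 0 1 (-1) 0
  let T : Matrix (Fin m ⊕ Fin m) (Fin m ⊕ Fin m) R₁ :=
    Jg * ((MvPolynomial.C Polynomial.X : R₁) • (1 : Matrix (Fin m ⊕ Fin m) (Fin m ⊕ Fin m) R₁) - G)
  let N := T - Tᵀ
  have hN : Nᵀ = -N := by simp [N]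
  have h2 : (2 : R₁) ≠ 0 := two_ne_zero
  obtain ⟨P₀, hP₀⟩ := det_sq_domain h2 _ N hN
  let Jc : Matrix (Fin m ⊕ Fin m) (Fin m ⊕ Fin m) ℂ := fromBlocks 0 1 (-1) 0
  have hdetJ : Jc.det ≠ 0 := J_det_ne_zero m
  let c : ℂ := 2 ^ (Fintype.card (Fin m ⊕ Fin m)) * Jc.det
  have hc : c ≠ 0 := mul_ne_zero (pow_ne_zero _ two_ne_zero) hdetJ
  obtain ⟨g, hg⟩ := IsAlgClosed.exists_pow_nat_eq (c⁻¹) (n := 2) (by norm_num)
  refine ⟨MvPolynomial.C (Polynomial.C g) * P₀, fun A hA => ?_⟩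
  set ev : R₁ →+* ℂ[X] := MvPolynomial.eval
    (fun ij : (Fin m ⊕ Fin m) × (Fin m ⊕ Fin m) => Polynomial.C (A ij.1 ij.2)) with hev
  let Ac : Matrix (Fin m ⊕ Fin m) (Fin m ⊕ Fin m) ℂ[X] := (Polynomial.C : ℂ →+* ℂ[X]).mapMatrix A
  let Jp : Matrix (Fin m ⊕ Fin m) (Fin m ⊕ Fin m) ℂ[X] := fromBlocks 0 1 (-1) 0
  have hG : ev.mapMatrix G = Ac := by
    refine Matrix.ext fun i j => ?_
    show ev (MvPolynomial.X (i, j)) = Polynomial.C (A i j)
    rw [hev, MvPolynomial.eval_X]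
  have hJg : ev.mapMatrix Jg = Jp := J_map ev m
  have hJpc : (Polynomial.C : ℂ →+* ℂ[X]).mapMatrix Jc = Jp := J_map _ m
  have hX1 : ev.mapMatrix ((MvPolynomial.C Polynomial.X : R₁) •
      (1 : Matrix (Fin m ⊕ Fin m) (Fin m ⊕ Fin m) R₁)) =
      (Polynomial.X : ℂ[X]) • (1 : Matrix (Fin m ⊕ Fin m) (Fin m ⊕ Fin m) ℂ[X]) := by
    refine Matrix.ext fun i j => ?_
    show ev (((MvPolynomial.C Polynomial.X : R₁) •
      (1 : Matrix (Fin m ⊕ Fin m) (Fin m ⊕ Fin m) R₁)) i j) =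
      ((Polynomial.X : ℂ[X]) • (1 : Matrix (Fin m ⊕ Fin m) (Fin m ⊕ Fin m) ℂ[X])) i j
    rw [Matrix.smul_apply, Matrix.smul_apply, Matrix.one_apply, Matrix.one_apply]
    split_ifs
    · rw [smul_eq_mul, mul_one, smul_eq_mul, mul_one, hev, MvPolynomial.eval_C]
    · simp
  have hchar : (Polynomial.X : ℂ[X]) • (1 : Matrix (Fin m ⊕ Fin m) (Fin m ⊕ Fin m) ℂ[X]) - Ac
      = charmatrix A := by
    ext i j
    simp [charmatrix_apply, Matrix.one_apply, Matrix.diagonal_apply, Ac]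
  have hT : ev.mapMatrix T = Jp * charmatrix A := by
    simp only [T]
    rw [map_mul, map_sub, hJg, hG, hX1, hchar]
  -- J-symmetry over ℂ[X]
  have hA' : Acᵀ * Jp = Jp * Ac := by
    have := congrArg (Polynomial.C : ℂ →+* ℂ[X]).mapMatrix hA
    rw [map_mul, map_mul, hJpc] at this
    rw [← this]
    congr 1
  have hTt : (ev.mapMatrix T)ᵀ = -(ev.mapMatrix T) := by
    rw [hT, ← hchar, Matrix.transpose_mul, J_transpose, Matrix.transpose_sub, Matrix.transpose_smul,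
      Matrix.transpose_one, Matrix.sub_mul, Matrix.mul_sub, Matrix.mul_neg, Matrix.mul_neg, hA']
    simp
    show -(Polynomial.X • Jp) + Jp * Ac = Jp * Ac - Polynomial.X • Jp
    abel
  have hNev : ev.mapMatrix N = (2 : ℂ[X]) • ev.mapMatrix T := by
    have : ev.mapMatrix Tᵀ = (ev.mapMatrix T)ᵀ := by
      simp [RingHom.mapMatrix_apply, Matrix.transpose_map]
    simp only [N]
    rw [map_sub, this, hTt, two_smul]
    abel
  have hdet : ev (P₀ ^ 2) = Polynomial.C c * A.charpoly := by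
    rw [← hP₀, RingHom.map_det, hNev, Matrix.det_smul, hT, Matrix.det_mul, ← hJpc,
      ← RingHom.map_det]
    simp only [c, Matrix.charpoly]
    rw [map_mul, map_pow]
    simp only [map_ofNat]
    ring
  have e1 : ev (MvPolynomial.C (Polynomial.C g)) = Polynomial.C g := by
    rw [hev, MvPolynomial.eval_C]
  rw [map_mul, e1, mul_pow, ← Polynomial.C_pow, hg, ← map_pow ev P₀ 2, hdet, ← mul_assoc,
    ← Polynomial.C_mul, inv_mul_cancel₀ hc, map_one, one_mul]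

theorem part2 (m : ℕ) : ∃ Q : MvPolynomial ((Fin m ⊕ Fin m) × (Fin m ⊕ Fin m)) ℂ,
      ∀ A : Matrix (Fin m ⊕ Fin m) (Fin m ⊕ Fin m) ℂ,
        A.transpose * Matrix.fromBlocks 0 1 (-1) 0 = Matrix.fromBlocks 0 1 (-1) 0 * A →
        A.det = (MvPolynomial.eval (fun ij => A ij.1 ij.2) Q) ^ 2 := by
  classical
  let R₁ := MvPolynomial ((Fin m ⊕ Fin m) × (Fin m ⊕ Fin m)) ℂ
  let G : Matrix (Fin m ⊕ Fin m) (Fin m ⊕ Fin m) R₁ := Matrix.of fun i j => MvPolynomial.X (i, j)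
  let Jg : Matrix (Fin m ⊕ Fin m) (Fin m ⊕ Fin m) R₁ := fromBlocks 0 1 (-1) 0
  let T : Matrix (Fin m ⊕ Fin m) (Fin m ⊕ Fin m) R₁ := Jg * G
  let N := T - Tᵀ
  have hN : Nᵀ = -N := by simp [N]
  have h2 : (2 : R₁) ≠ 0 := two_ne_zero
  obtain ⟨P₀, hP₀⟩ := det_sq_domain h2 _ N hN
  let Jc : Matrix (Fin m ⊕ Fin m) (Fin m ⊕ Fin m) ℂ := fromBlocks 0 1 (-1) 0
  have hdetJ : Jc.det ≠ 0 := J_det_ne_zero m
  let c : ℂ := 2 ^ (Fintype.card (Fin m ⊕ Fin m)) * Jc.det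
  have hc : c ≠ 0 := mul_ne_zero (pow_ne_zero _ two_ne_zero) hdetJ
  obtain ⟨g, hg⟩ := IsAlgClosed.exists_pow_nat_eq (c⁻¹) (n := 2) (by norm_num)
  refine ⟨MvPolynomial.C g * P₀, fun A hA => ?_⟩
  set ev : R₁ →+* ℂ := MvPolynomial.eval
    (fun ij : (Fin m ⊕ Fin m) × (Fin m ⊕ Fin m) => (A ij.1 ij.2)) with hev
  have hG : ev.mapMatrix G = A := by
    refine Matrix.ext fun i j => ?_
    show ev (MvPolynomial.X (i, j)) = A i j
    rw [hev, MvPolynomial.eval_X]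
  have hJg : ev.mapMatrix Jg = Jc := J_map ev m
  have hT : ev.mapMatrix T = Jc * A := by
    simp only [T]
    rw [map_mul, hJg, hG]
  have hTt : (ev.mapMatrix T)ᵀ = -(ev.mapMatrix T) := by
    rw [hT, Matrix.transpose_mul, J_transpose, Matrix.mul_neg, hA]
  have hNev : ev.mapMatrix N = (2 : ℂ) • ev.mapMatrix T := by
    have : ev.mapMatrix Tᵀ = (ev.mapMatrix T)ᵀ := by
      simp [RingHom.mapMatrix_apply, Matrix.transpose_map]
    simp only [N]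
    rw [map_sub, this, hTt, two_smul]
    abel
  have hdet : ev (P₀ ^ 2) = c * A.det := by
    rw [← hP₀, RingHom.map_det, hNev, Matrix.det_smul, hT, Matrix.det_mul]
    simp only [c]
    ring
  have e1 : ev (MvPolynomial.C g) = g := by
    rw [hev, MvPolynomial.eval_C]
  rw [map_mul, e1, mul_pow, hg, ← map_pow ev P₀ 2, hdet, ← mul_assoc,
    inv_mul_cancel₀ hc, one_mul]

end Groth.Agent.H9.SkewDetSq
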