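import Mathlib

set_option autoImplicit false
set_option linter.unusedSectionVars false
set_option linter.unusedVariables false

open CategoryTheory CategoryTheory.Limits Pretriangulated

universe u v u' v'

namespace Groth.Agent.H9.SpanFF

section general
variable {D : Type u} [Category.{v} D] [Preadditive D] [HasZeroObject D] [HasShift D ℤ]
    [∀ n : ℤ, (shiftFunctor D n).Additive] [Pretriangulated D]

/-- iso `(A⟦-1⟧)⟦1⟧ ≅ A` -/
noncomputable def eA (A : D) : (A⟦(-1 : ℤ)⟧)⟦(1 : ℤ)⟧ ≅ A :=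
  (shiftFunctorCompIsoId D (-1 : ℤ) 1 (by simp)).app A

theorem isIso_of_bij_left (𝒜 : Set D) (hsh : ∀ A ∈ 𝒜, A⟦(-1 : ℤ)⟧ ∈ 𝒜)
    (hdet : ∀ K : D, (∀ A ∈ 𝒜, ∀ f : A ⟶ K, f = 0) → IsZero K)
    {B B' : D} (u : B ⟶ B')
    (hu : ∀ A ∈ 𝒜, Function.Bijective (fun g : A ⟶ B => g ≫ u)) : IsIso u := by
  obtain ⟨C, v, w, hT⟩ := distinguished_cocone_triangle u
  refine (Triangle.isZero₃_iff_isIso₁ _ hT).mp ?_
  apply hdet
  intro A hA f
  change A ⟶ C at f
  have z31 : w ≫ u⟦(1 : ℤ)⟧' = 0 := comp_distTriang_mor_zero₃₁ _ hT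
  have z12 : u ≫ v = 0 := comp_distTriang_mor_zero₁₂ _ hT
  have h1 : f ≫ w = 0 := by
    have hg : (f ≫ w) ≫ u⟦(1 : ℤ)⟧' = 0 := by
      rw [Category.assoc, z31, comp_zero]
    obtain ⟨g', hg'⟩ := (shiftFunctor D (1 : ℤ)).map_surjective ((eA A).hom ≫ f ≫ w)
    have h2' : (g' ≫ u)⟦(1 : ℤ)⟧' = 0 := by
      rw [Functor.map_comp, hg', Category.assoc, hg, comp_zero]
    have h2 : g' ≫ u = 0 := (shiftFunctor D (1 : ℤ)).map_injective (by rw [h2', Functor.map_zero])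
    have h3 : g' = 0 := (hu _ (hsh A hA)).1 (by
      show g' ≫ u = 0 ≫ u
      rw [h2, zero_comp])
    rw [h3, Functor.map_zero] at hg'
    exact (cancel_epi (eA A).hom).mp (by rw [← hg', comp_zero])
  obtain ⟨f₁, hf₁⟩ := Triangle.coyoneda_exact₃ _ hT f h1
  change A ⟶ B' at f₁
  change f = f₁ ≫ v at hf₁
  obtain ⟨f₀, (hf₀ : f₀ ≫ u = f₁)⟩ := (hu A hA).2 f₁
  have hfin : f = (0 : A ⟶ C) := by
    rw [hf₁, ← hf₀, Category.assoc, z12, comp_zero]
  exact hfin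

theorem isIso_of_bij_right (𝒜 : Set D) (hsh : ∀ A ∈ 𝒜, A⟦(-1 : ℤ)⟧ ∈ 𝒜)
    (hdet : ∀ K : D, (∀ A ∈ 𝒜, ∀ f : K ⟶ A, f = 0) → IsZero K)
    {B B' : D} (u : B ⟶ B')
    (hu : ∀ A ∈ 𝒜, Function.Bijective (fun g : B' ⟶ A => u ≫ g)) : IsIso u := by
  obtain ⟨C, v, w, hT⟩ := distinguished_cocone_triangle u
  refine (Triangle.isZero₃_iff_isIso₁ _ hT).mp ?_
  apply hdet
  intro A hA f
  change C ⟶ A at f
  have z31 : w ≫ u⟦(1 : ℤ)⟧' = 0 := comp_distTriang_mor_zero₃₁ _ hT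
  have z12 : u ≫ v = 0 := comp_distTriang_mor_zero₁₂ _ hT
  have h1 : v ≫ f = 0 := by
    apply (hu A hA).1
    show u ≫ v ≫ f = u ≫ 0
    rw [← Category.assoc, z12, zero_comp, comp_zero]
  obtain ⟨f₁, hf₁⟩ := Triangle.yoneda_exact₃ _ hT f h1
  change B⟦(1 : ℤ)⟧ ⟶ A at f₁
  change f = w ≫ f₁ at hf₁
  obtain ⟨f₁', hf₁'⟩ := (shiftFunctor D (1 : ℤ)).map_surjective (f₁ ≫ (eA A).inv)
  obtain ⟨f₀', (hf₀' : u ≫ f₀' = f₁')⟩ := (hu _ (hsh A hA)).2 f₁'
  have h2 : f₁ = u⟦(1 : ℤ)⟧' ≫ (f₀'⟦(1 : ℤ)⟧' ≫ (eA A).hom) := by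
    rw [← Category.assoc, ← Functor.map_comp, hf₀', hf₁', Category.assoc, Iso.inv_hom_id,
      Category.comp_id]
  have hfin : f = (0 : C ⟶ A) := by
    rw [hf₁, h2, ← Category.assoc, z31, zero_comp]
  exact hfin

/-- the class of objects isomorphic to a shift of an object of `S`. -/
def cls (S : Set D) : Set D := {A | ∃ E ∈ S, ∃ a : ℤ, Nonempty (A ≅ E⟦a⟧)}

theorem cls_shift (S : Set D) (A : D) (hA : A ∈ cls S) (n : ℤ) : A⟦n⟧ ∈ cls S := by
  obtain ⟨E, hE, a, ⟨e⟩⟩ := hA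
  exact ⟨E, hE, a + n, ⟨(shiftFunctor D n).mapIso e ≪≫ ((shiftFunctorAdd D a n).app E).symm⟩⟩

theorem det_left (S : Set D)
    (h2 : ∀ K : D, (∀ E ∈ S, ∀ (i : ℤ) (f : E ⟶ (shiftFunctor D i).obj K), f = 0) → IsZero K)
    (K : D) (hK : ∀ A ∈ cls S, ∀ f : A ⟶ K, f = 0) : IsZero K := by
  apply h2
  intro E hE i f
  have hA : E⟦-i⟧ ∈ cls S := ⟨E, hE, -i, ⟨Iso.refl _⟩⟩
  have h0 := hK _ hA (f⟦-i⟧' ≫ (shiftFunctorCompIsoId D i (-i) (by simp)).hom.app K)
  have h1 : f⟦-i⟧' = 0 := by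
    rw [← cancel_mono ((shiftFunctorCompIsoId D i (-i) (by simp)).hom.app K), h0, zero_comp]
  exact (shiftFunctor D (-i)).map_injective (by rw [h1, Functor.map_zero])

theorem det_right (S : Set D)
    (h3 : ∀ K : D, (∀ E ∈ S, ∀ (i : ℤ) (f : K ⟶ (shiftFunctor D i).obj E), f = 0) → IsZero K)
    (K : D) (hK : ∀ A ∈ cls S, ∀ f : K ⟶ A, f = 0) : IsZero K := by
  apply h3
  intro E hE i f
  exact hK _ ⟨E, hE, i, ⟨Iso.refl _⟩⟩ f

end general

section main
variable {D : Type u} [Category.{v} D] [Preadditive D] [HasZeroObject D] [HasShift D ℤ]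
    [∀ n : ℤ, (shiftFunctor D n).Additive] [Pretriangulated D]
    {D' : Type u'} [Category.{v'} D'] [Preadditive D'] [HasZeroObject D'] [HasShift D' ℤ]
    [∀ n : ℤ, (shiftFunctor D' n).Additive] [Pretriangulated D']
    (F : D ⥤ D') [F.CommShift ℤ]

def FF (A B : D) : Prop := Function.Bijective (fun f : A ⟶ B => F.map f)

theorem ff_of_iso {A A₁ B B₁ : D} (α : A ≅ A₁) (β : B ≅ B₁) (h : FF F A₁ B₁) : FF F A B := by
  constructor
  · intro f f' hff
    have hff' : F.map f = F.map f' := hff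
    have h1 : F.map (α.inv ≫ f ≫ β.hom) = F.map (α.inv ≫ f' ≫ β.hom) := by
      simp only [Functor.map_comp, hff']
    have h2 := h.1 h1
    have h3 := (cancel_epi α.inv).mp h2
    exact (cancel_mono β.hom).mp h3
  · intro g
    obtain ⟨f₁, hf₁⟩ := h.2 (F.map α.inv ≫ g ≫ F.map β.hom)
    have hf₁' : F.map f₁ = F.map α.inv ≫ g ≫ F.map β.hom := hf₁
    refine ⟨α.hom ≫ f₁ ≫ β.inv, ?_⟩
    show F.map (α.hom ≫ f₁ ≫ β.inv) = g
    rw [Functor.map_comp, Functor.map_comp, hf₁']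
    simp

theorem ff_shift {A B : D} (n : ℤ) (h : FF F A B) : FF F (A⟦n⟧) (B⟦n⟧) := by
  have nat : ∀ f : A ⟶ B, F.map (f⟦n⟧') =
      (F.commShiftIso n).hom.app A ≫ (F.map f)⟦n⟧' ≫ (F.commShiftIso n).inv.app B := by
    intro f
    have h0 := (F.commShiftIso n).hom.naturality f
    have h1 : F.map (f⟦n⟧') ≫ (F.commShiftIso n).hom.app B =
        (F.commShiftIso n).hom.app A ≫ (F.map f)⟦n⟧' := h0
    have h2 : F.map (f⟦n⟧') = (F.map (f⟦n⟧') ≫ (F.commShiftIso n).hom.app B) ≫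
        (F.commShiftIso n).inv.app B := by simp
    rw [h2, h1, Category.assoc]
  constructor
  · intro g g' hgg'
    obtain ⟨f, rfl⟩ := (shiftFunctor D n).map_surjective g
    obtain ⟨f', rfl⟩ := (shiftFunctor D n).map_surjective g'
    have h0 : F.map (f⟦n⟧') = F.map (f'⟦n⟧') := hgg'
    rw [nat, nat] at h0
    have h1 := (cancel_epi _).mp h0
    have h2 := (cancel_mono _).mp h1
    have h3 : F.map f = F.map f' := (shiftFunctor D' n).map_injective h2
    have h4 : f = f' := h.1 h3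
    rw [h4]
  · intro k
    obtain ⟨m, hm⟩ := (shiftFunctor D' n).map_surjective
      ((F.commShiftIso n).inv.app A ≫ k ≫ (F.commShiftIso n).hom.app B)
    obtain ⟨f, (hf : F.map f = m)⟩ := h.2 m
    refine ⟨f⟦n⟧', ?_⟩
    show F.map (f⟦n⟧') = k
    rw [nat, hf, hm]
    simp

theorem ff_cls (S : Set D)
    (h4 : ∀ E ∈ S, ∀ E' ∈ S, ∀ i : ℤ,
      Function.Bijective (fun f : E ⟶ (shiftFunctor D i).obj E' => F.map f))
    {A B : D} (hA : A ∈ cls S) (hB : B ∈ cls S) : FF F A B := by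
  obtain ⟨E, hE, a, ⟨α⟩⟩ := hA
  obtain ⟨E', hE', b, ⟨β⟩⟩ := hB
  have h0 : FF F E (E'⟦b - a⟧) := h4 E hE E' hE' (b - a)
  have h1 := ff_shift F a h0
  have γ : (E'⟦b - a⟧)⟦a⟧ ≅ E'⟦b⟧ :=
    ((shiftFunctorAdd' D (b - a) a b (by omega)).app E').symm
  exact ff_of_iso F α (β ≪≫ γ.symm) h1

theorem main [F.IsLeftAdjoint] [F.IsRightAdjoint] (S : Set D)
    (h2 : ∀ K : D, (∀ E ∈ S, ∀ (i : ℤ) (f : E ⟶ (shiftFunctor D i).obj K), f = 0) → IsZero K)
    (h3 : ∀ K : D, (∀ E ∈ S, ∀ (i : ℤ) (f : K ⟶ (shiftFunctor D i).obj E), f = 0) → IsZero K)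
    (h4 : ∀ E ∈ S, ∀ E' ∈ S, ∀ i : ℤ,
      Function.Bijective (fun f : E ⟶ (shiftFunctor D i).obj E' => F.map f)) :
    F.Full ∧ F.Faithful := by
  have adjR : F ⊣ F.rightAdjoint := Adjunction.ofIsLeftAdjoint F
  have adjL : F.leftAdjoint ⊣ F := Adjunction.ofIsRightAdjoint F
  have keyR : ∀ (A B : D) (g : A ⟶ B),
      g ≫ adjR.unit.app B = adjR.homEquiv A (F.obj B) (F.map g) := by
    intro A B g
    rw [Adjunction.homEquiv_unit]
    exact adjR.unit.naturality g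
  have step1 : ∀ B ∈ cls S, IsIso (adjR.unit.app B) := by
    intro B hB
    apply isIso_of_bij_left (cls S) (fun A hA => cls_shift S A hA (-1)) (det_left S h2)
    intro A hA
    have hff := ff_cls F S h4 hA hB
    have : (fun g : A ⟶ B => g ≫ adjR.unit.app B) =
        (adjR.homEquiv A (F.obj B)) ∘ (fun g => F.map g) := by
      funext g; exact keyR A B g
    have hb : Function.Bijective (fun g : A ⟶ B => g ≫ adjR.unit.app B) := by
      rw [this]
      exact (adjR.homEquiv A (F.obj B)).bijective.comp hff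
    exact hb
  have ffKA : ∀ (K : D) (A : D), A ∈ cls S → FF F K A := by
    intro K A hA
    haveI := step1 A hA
    have hbij : Function.Bijective (fun g : K ⟶ A => g ≫ adjR.unit.app A) := by
      constructor
      · intro g g' h; exact (cancel_mono (adjR.unit.app A)).mp h
      · intro k; exact ⟨k ≫ inv (adjR.unit.app A), by simp⟩
    have : (fun g : K ⟶ A => F.map g) =
        (adjR.homEquiv K (F.obj A)).symm ∘ (fun g => g ≫ adjR.unit.app A) := by
      funext g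
      exact ((adjR.homEquiv K (F.obj A)).symm_apply_apply (F.map g)).symm.trans
        (congrArg _ (keyR K A g).symm)
    show Function.Bijective (fun g : K ⟶ A => F.map g)
    rw [this]; exact (adjR.homEquiv K (F.obj A)).symm.bijective.comp hbij
  have keyL : ∀ (K A : D) (g : K ⟶ A),
      adjL.counit.app K ≫ g = (adjL.homEquiv (F.obj K) A).symm (F.map g) := by
    intro K A g
    rw [Adjunction.homEquiv_counit]
    exact (adjL.counit.naturality g).symm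
  have step2 : ∀ K : D, IsIso (adjL.counit.app K) := by
    intro K
    apply isIso_of_bij_right (cls S) (fun A hA => cls_shift S A hA (-1)) (det_right S h3)
    intro A hA
    have : (fun g : K ⟶ A => adjL.counit.app K ≫ g) =
        (adjL.homEquiv (F.obj K) A).symm ∘ (fun g => F.map g) := by
      funext g; exact keyL K A g
    have hb : Function.Bijective (fun g : K ⟶ A => adjL.counit.app K ≫ g) := by
      rw [this]; exact (adjL.homEquiv (F.obj K) A).symm.bijective.comp (ffKA K A hA)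
    exact hb
  haveI : IsIso adjL.counit := NatIso.isIso_of_isIso_app _
  have ff := adjL.fullyFaithfulROfIsIsoCounit
  exact ⟨ff.full, ff.faithful⟩

end main

end Groth.Agent.H9.SpanFF
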