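import Mathlib

/-! Helper9: scheme-theoretic section of commutative group extension with constant cocycle gives hom section -/

namespace Groth.Agent.H9.SplitExt

open CategoryTheory MonoidalCategory CartesianMonoidalCategory MonObj

universe v u

variable {𝒞 : Type u} [Category.{v} 𝒞] [CartesianMonoidalCategory 𝒞] [BraidedCategory 𝒞]

theorem main (L G B : 𝒞) [GrpObj L] [GrpObj G] [GrpObj B]
    [IsCommMonObj G] [IsCommMonObj B]
    (i : L ⟶ G) (π : G ⟶ B) [IsMonHom π] (hker : IsPullback i (toUnit L) π η[B])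
    (hconst : ∀ f : B ⊗ B ⟶ L, ∃ l : 𝟙_ 𝒞 ⟶ L, f = toUnit (B ⊗ B) ≫ l)
    (s : B ⟶ G) (hs : s ≫ π = 𝟙 B) :
    ∃ s' : B ⟶ G, IsMonHom s' ∧ s' ≫ π = 𝟙 B := by
  -- the cocycle
  let c : B ⊗ B ⟶ G := ((fst B B * snd B B) ≫ s) * (fst B B ≫ s)⁻¹ * (snd B B ≫ s)⁻¹
  have hcπ : c ≫ π = toUnit (B ⊗ B) ≫ η[B] := by
    simp only [c, MonObj.mul_comp, GrpObj.inv_comp, Category.assoc, hs, Category.comp_id]
    rw [← Hom.one_def]
    simp
  obtain ⟨f, hf, -⟩ := hker.exists_lift c (toUnit (B ⊗ B)) hcπ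
  obtain ⟨l, hl⟩ := hconst f
  let z : 𝟙_ 𝒞 ⟶ G := η[B] ≫ s
  have hc : c = toUnit (B ⊗ B) ≫ (l ≫ i) := by rw [← hf, hl, Category.assoc]
  have hli : l ≫ i = z⁻¹ := by
    have h1 : lift (η[B]) (η[B]) ≫ c = l ≫ i := by
      rw [hc, ← Category.assoc]
      have : lift (η[B]) (η[B]) ≫ toUnit (B ⊗ B) = 𝟙 _ := toUnit_unique _ _
      rw [this, Category.id_comp]
    rw [← h1]
    simp only [c, MonObj.comp_mul, GrpObj.comp_inv, ← Category.assoc, lift_fst, lift_snd]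
    rw [MonObj.one_eq_one]
    simp [z, MonObj.one_eq_one]
  have hc' : c = (toUnit (B ⊗ B) ≫ z)⁻¹ := by rw [hc, hli, GrpObj.comp_inv]
  have hadd : ∀ {T : 𝒞} (a b : T ⟶ B),
      (a * b) ≫ s = (toUnit T ≫ z)⁻¹ * (a ≫ s) * (b ≫ s) := by
    intro T a b
    have h1 : lift a b ≫ c = (toUnit T ≫ z)⁻¹ := by
      rw [hc', GrpObj.comp_inv, ← Category.assoc]
      congr 2
      exact toUnit_unique _ _
    have hcdef : c = ((fst B B * snd B B) ≫ s) * (fst B B ≫ s)⁻¹ * (snd B B ≫ s)⁻¹ := rfl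
    rw [hcdef] at h1
    simp only [MonObj.comp_mul, GrpObj.comp_inv, ← Category.assoc, lift_fst, lift_snd] at h1
    rw [← h1]
    simp [_root_.mul_assoc]
  let s' : B ⟶ G := s * (toUnit B ≫ z)⁻¹
  have hadd' : ∀ {T : 𝒞} (a b : T ⟶ B), (a * b) ≫ s' = (a ≫ s') * (b ≫ s') := by
    intro T a b
    have e1 : ∀ (x : T ⟶ B), x ≫ s' = (x ≫ s) * (toUnit T ≫ z)⁻¹ := by
      intro x
      simp only [s', MonObj.comp_mul, GrpObj.comp_inv, ← Category.assoc]
      congr 3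
      exact toUnit_unique _ _
    rw [e1, e1, e1, hadd]
    simp only [_root_.mul_assoc, mul_comm, mul_left_comm]
  refine ⟨s', ⟨?_, ?_⟩, ?_⟩
  · -- one_hom
    have hs'def : s' = s * (toUnit B ≫ z)⁻¹ := rfl
    rw [hs'def]
    rw [MonObj.comp_mul, GrpObj.comp_inv, ← Category.assoc]
    have : η[B] ≫ toUnit B = 𝟙 _ := toUnit_unique _ _
    rw [this, Category.id_comp, MonObj.one_eq_one (M := G)]
    simp [z]
  · -- mul_hom
    rw [MonObj.mul_eq_mul, MonObj.mul_eq_mul, hadd']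
    have : (s' ⊗ₘ s') ≫ (fst G G * snd G G) = (fst B B ≫ s') * (snd B B ≫ s') := by
      rw [MonObj.comp_mul, tensorHom_fst, tensorHom_snd]
    rw [this]
  · have hs'def : s' = s * (toUnit B ≫ z)⁻¹ := rfl
    rw [hs'def]
    simp only [MonObj.mul_comp, GrpObj.inv_comp, Category.assoc, hs, z]
    rw [show toUnit B ≫ η[B] ≫ 𝟙 B = 1 by simp [Hom.one_def]]
    simp

end Groth.Agent.H9.SplitExt
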