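import Mathlib
import Groth.Prelude.Def_RegImm

/-!
# Adjoining a root of a monic polynomial is syntomic

Helper library for S18934 / S18945.
-/

set_option autoImplicit false
universe u

namespace Groth.Agent.Lib.Helper9.SyntRoot

open Polynomial TensorProduct

section Field

variable {κ : Type u} [Field κ]

/-- Transport of `IsGlobalCI` along an algebra isomorphism. -/
lemma isGlobalCI_of_algEquiv {F F' : Type u} [CommRing F] [CommRing F'] [Algebra κ F]
    [Algebra κ F'] (e : F ≃ₐ[κ] F') (h : Synt.IsGlobalCI κ F) : Synt.IsGlobalCI κ F' := by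
  rcases h with h | ⟨n, c, hcn, φ, r, hsurj, hker, hdim⟩
  · left
    exact e.symm.toEquiv.subsingleton
  · right
    refine ⟨n, c, hcn, (e : F →ₐ[κ] F').comp φ, r, ?_, ?_, ?_⟩
    · exact e.surjective.comp hsurj
    · rw [← hker]
      ext x
      simp only [RingHom.mem_ker, AlgHom.toRingHom_eq_coe, RingHom.coe_coe, AlgHom.coe_comp,
        Function.comp_apply]
      exact map_eq_zero_iff (e : F →ₐ[κ] F') e.injective
    · rw [← hdim]
      exact (ringKrullDim_eq_of_ringEquiv e.toRingEquiv).symm

/-- A finite monogenic algebra over a field whose dimension is the degree of a monic polynomial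
killing the generator is a global complete intersection. -/
lemma isGlobalCI_of_monogenic {F : Type u} [CommRing F] [Algebra κ F] [Module.Finite κ F]
    (y : F) (hgen : Algebra.adjoin κ {y} = ⊤) (h : κ[X]) (hmon : h.Monic)
    (hy : aeval y h = 0) (hrank : Module.finrank κ F = h.natDegree) :
    Synt.IsGlobalCI κ F := by
  by_cases hdeg : h.natDegree = 0
  · left
    rw [hdeg] at hrank
    exact Module.finrank_zero_iff.1 hrank
  right
  have : Nontrivial F := by
    apply Module.nontrivial_of_finrank_pos (R := κ)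
    omega
  let e : MvPolynomial (Fin 1) κ ≃ₐ[κ] κ[X] := MvPolynomial.uniqueAlgEquiv κ (Fin 1)
  let ψ : κ[X] →ₐ[κ] F := aeval y
  have hψsurj : Function.Surjective ψ := by
    rw [← AlgHom.range_eq_top, ← Algebra.adjoin_singleton_eq_range_aeval, hgen]
  -- the induced map from AdjoinRoot
  let ψb : AdjoinRoot h →ₐ[κ] F := AdjoinRoot.liftAlgHom h (Algebra.ofId κ F) y (by
    rw [← hy]; simp [aeval_def, Algebra.ofId])
  have hψb : ∀ q : κ[X], ψb (AdjoinRoot.mk h q) = ψ q := by
    intro q
    simp [ψb, ψ, aeval_def, Algebra.ofId]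
  have hψbsurj : Function.Surjective ψb := by
    intro z
    obtain ⟨q, rfl⟩ := hψsurj z
    exact ⟨AdjoinRoot.mk h q, hψb q⟩
  have : Module.Finite κ (AdjoinRoot h) := hmon.finite_adjoinRoot
  have hrank' : Module.finrank κ (AdjoinRoot h) = Module.finrank κ F := by
    rw [hrank, (AdjoinRoot.powerBasis' hmon).finrank]
    rfl
  have hψbinj : Function.Injective ψb :=
    (LinearMap.injective_iff_surjective_of_finrank_eq_finrank
      (f := ψb.toLinearMap) hrank').2 hψbsurj
  have hkerψ : ∀ q : κ[X], ψ q = 0 ↔ h ∣ q := by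
    intro q
    rw [← hψb, ← AdjoinRoot.mk_eq_zero]
    constructor
    · intro h0
      exact hψbinj (by rw [h0, map_zero])
    · intro h0
      rw [h0, map_zero]
  refine ⟨1, 1, le_rfl, ψ.comp (e : MvPolynomial (Fin 1) κ →ₐ[κ] κ[X]), fun _ => e.symm h,
    hψsurj.comp e.surjective, ?_, ?_⟩
  · ext x
    rw [Set.range_const, Ideal.mem_span_singleton]
    simp only [RingHom.mem_ker, AlgHom.toRingHom_eq_coe, RingHom.coe_coe, AlgHom.coe_comp,
      Function.comp_apply]
    rw [hkerψ]
    constructor
    · intro hd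
      have := map_dvd e.symm hd
      simpa using this
    · intro hd
      have := map_dvd e hd
      simpa using this
  · have : IsArtinianRing F := IsArtinianRing.of_finite κ F
    have h0 : ringKrullDim F = 0 := (ringKrullDimZero_iff_ringKrullDim_eq_zero).1 inferInstance
    rw [h0]
    simp

end Field

section Ring

variable {R : Type u} [CommRing R] {S : Type u} [CommRing S] [Algebra R S]

/-- The fibres of a monogenic finite free algebra are global complete intersections. -/
lemma isGlobalCI_fiber (f : R[X]) (hf : f.Monic) (e : AdjoinRoot f ≃ₐ[R] S)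
    (κ : Type u) [Field κ] [Algebra R κ] : Synt.IsGlobalCI κ (κ ⊗[R] S) := by
  have : Nontrivial R := (algebraMap R κ).domain_nontrivial
  have : Module.Free R (AdjoinRoot f) := hf.free_adjoinRoot
  have : Module.Finite R (AdjoinRoot f) := hf.finite_adjoinRoot
  have : Module.Free R S := Module.Free.of_equiv e.toLinearEquiv
  have : Module.Finite R S := Module.Finite.equiv e.toLinearEquiv
  set x : S := e (AdjoinRoot.root f) with hx
  have hex : ∀ P : R[X], e (AdjoinRoot.mk f P) = aeval x P := by
    intro P
    rw [← AdjoinRoot.aeval_eq, hx, aeval_algHom_apply]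
  have hinc : ∀ P : R[X], aeval ((1 : κ) ⊗ₜ[R] x) (P.map (algebraMap R κ)) =
      (1 : κ) ⊗ₜ[R] aeval x P := by
    intro P
    rw [aeval_map_algebraMap]
    have : ((1 : κ) ⊗ₜ[R] x : κ ⊗[R] S) =
      (Algebra.TensorProduct.includeRight : S →ₐ[R] κ ⊗[R] S) x := rfl
    rw [this, aeval_algHom_apply]
    rfl
  refine isGlobalCI_of_monogenic ((1 : κ) ⊗ₜ[R] x) ?_ (f.map (algebraMap R κ)) (hf.map _) ?_ ?_
  · rw [eq_top_iff]
    rintro z -
    induction z using TensorProduct.induction_on with
    | zero => exact Subalgebra.zero_mem _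
    | add a b ha hb => exact Subalgebra.add_mem _ ha hb
    | tmul k s =>
      obtain ⟨t, rfl⟩ := e.surjective s
      obtain ⟨P, rfl⟩ := AdjoinRoot.mk_surjective t
      have h2 : (k ⊗ₜ[R] aeval x P : κ ⊗[R] S) =
          k • aeval ((1 : κ) ⊗ₜ[R] x) (P.map (algebraMap R κ)) := by
        rw [hinc, TensorProduct.smul_tmul', smul_eq_mul, mul_one]
      rw [hex, h2]
      exact Subalgebra.smul_mem _ (aeval_mem_adjoin_singleton _ _) k
  · rw [hinc, ← hex]
    have : AdjoinRoot.mk f f = 0 := AdjoinRoot.mk_self
    rw [this, map_zero, TensorProduct.tmul_zero]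
  · rw [Module.finrank_baseChange, ← e.toLinearEquiv.finrank_eq,
      (AdjoinRoot.powerBasis' hf).finrank, hf.natDegree_map]
    rfl

/-- An algebra isomorphic to `R[X]/(f)` with `f` monic is syntomic. -/
theorem isSyntomic_of_equiv (f : R[X]) (hf : f.Monic) (e : AdjoinRoot f ≃ₐ[R] S) :
    Synt.IsSyntomic R S := by
  have : Module.Free R (AdjoinRoot f) := hf.free_adjoinRoot
  have : Module.Finite R (AdjoinRoot f) := hf.finite_adjoinRoot
  have : Module.Free R S := Module.Free.of_equiv e.toLinearEquiv
  have : Module.Finite R S := Module.Finite.equiv e.toLinearEquiv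
  refine ⟨inferInstance, Algebra.FinitePresentation.equiv e, ?_⟩
  intro p
  refine ⟨inferInstance, ?_⟩
  intro P
  refine ⟨1, (Ideal.ne_top_iff_one _).1 P.2.ne_top, ?_⟩
  have h1 := isGlobalCI_fiber f hf e p.asIdeal.ResidueField
  let e1 : (p.asIdeal.Fiber S) ≃ₐ[p.asIdeal.Fiber S] Localization.Away (1 : p.asIdeal.Fiber S) :=
    IsLocalization.atOne _ _
  exact isGlobalCI_of_algEquiv (e1.restrictScalars p.asIdeal.ResidueField) h1

/-- `R[X]/(f)` is faithfully flat for `f` monic of positive degree. -/
theorem faithfullyFlat (f : R[X]) (hf : f.Monic) (hdeg : Nontrivial R → f.natDegree ≠ 0) :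
    Module.FaithfullyFlat R (AdjoinRoot f) := by
  have : Module.Free R (AdjoinRoot f) := hf.free_adjoinRoot
  rcases subsingleton_or_nontrivial R with h | h
  · refine ⟨?_⟩
    intro m hm
    exact absurd (Subsingleton.elim m ⊤) hm.ne_top
  · have : Nontrivial (AdjoinRoot f) := by
      apply Module.nontrivial_of_finrank_pos (R := R)
      rw [(AdjoinRoot.powerBasis' hf).finrank]
      exact Nat.pos_of_ne_zero (hdeg h)
    infer_instance

end Ring

end Groth.Agent.Lib.Helper9.SyntRoot
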