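import Mathlib
import Groth.Prelude.Def_RegImm
import Groth.Agent.Lib.Helper9.Misc.SyntRoot
import Groth.Agent.Lib.Helper8.Synt.Main9287
import Groth.Agent.Lib.Helper8.LCIHom.Ring

/-!
# A monic polynomial splits over a finite free faithfully flat syntomic algebra
-/

set_option autoImplicit false
set_option linter.style.haveILetI false
set_option linter.unusedSectionVars false
set_option linter.unusedVariables false

universe u

namespace Groth.Agent.H9.SplitSynt

open Polynomial

theorem split (n : ℕ) : ∀ (A : Type u) [CommRing A] (P : A[X]), P.Monic → P.natDegree = n →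
    ∃ (A' : Type u) (_ : CommRing A') (_ : Algebra A A'),
      Synt.IsSyntomic A A' ∧ Module.Finite A A' ∧ Module.Free A A' ∧ Module.FaithfullyFlat A A' ∧
        ∃ s : Multiset A', P.map (algebraMap A A') = (s.map fun b => X - C b).prod := by
  induction n with
  | zero =>
    intro A _ P hP hdeg
    have hP1 : P = 1 := eq_one_of_monic_natDegree_zero hP hdeg
    refine ⟨A, inferInstance, inferInstance, ?_, inferInstance, inferInstance, inferInstance, 0, ?_⟩
    · exact (Groth.Agent.H8.Synt.isSyntomic_iff A A).2
        ⟨inferInstance, Groth.Agent.H8.LCIHom.isLCI_self A⟩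
    · rw [hP1]
      simp
  | succ n ih =>
    intro A _ P hP hdeg
    have hfree : Module.Free A (AdjoinRoot P) := hP.free_adjoinRoot
    have hfin : Module.Finite A (AdjoinRoot P) := hP.finite_adjoinRoot
    have hsyn : Synt.IsSyntomic A (AdjoinRoot P) :=
      Groth.Agent.Lib.Helper9.SyntRoot.isSyntomic_of_equiv P hP AlgEquiv.refl
    have hff : Module.FaithfullyFlat A (AdjoinRoot P) :=
      Groth.Agent.Lib.Helper9.SyntRoot.faithfullyFlat P hP
        (fun _ => by rw [hdeg]; exact Nat.succ_ne_zero n)
    haveI hAnt : Nontrivial A := by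
      by_contra h
      rw [not_nontrivial_iff_subsingleton] at h
      have h0 : P.natDegree = 0 := by
        rw [Subsingleton.elim P 0]
        exact natDegree_zero
      omega
    haveI : Nontrivial (AdjoinRoot P) := by
      apply Module.nontrivial_of_finrank_pos (R := A)
      rw [(AdjoinRoot.powerBasis' hP).finrank]
      show 0 < P.natDegree
      rw [hdeg]
      exact Nat.succ_pos n
    have hroot : IsRoot (P.map (algebraMap A (AdjoinRoot P))) (AdjoinRoot.root P) :=
      AdjoinRoot.isRoot_root P
    have hfac : (X - C (AdjoinRoot.root P)) *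
        ((P.map (algebraMap A (AdjoinRoot P))) /ₘ (X - C (AdjoinRoot.root P))) =
        P.map (algebraMap A (AdjoinRoot P)) := mul_divByMonic_eq_iff_isRoot.2 hroot
    have hPm : (P.map (algebraMap A (AdjoinRoot P))).Monic := hP.map _
    have hQm : ((P.map (algebraMap A (AdjoinRoot P))) /ₘ (X - C (AdjoinRoot.root P))).Monic := by
      apply Monic.of_mul_monic_left (monic_X_sub_C (AdjoinRoot.root P))
      rw [hfac]
      exact hPm
    have hQdeg : ((P.map (algebraMap A (AdjoinRoot P))) /ₘ
        (X - C (AdjoinRoot.root P))).natDegree = n := by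
      have h1 := congrArg natDegree hfac
      rw [Monic.natDegree_mul (monic_X_sub_C _) hQm, natDegree_X_sub_C, hP.natDegree_map,
        hdeg] at h1
      omega
    obtain ⟨A', iC, iA, h1, h2, h3, h4, s, hs⟩ := ih (AdjoinRoot P) _ hQm hQdeg
    letI : Algebra A A' := ((algebraMap (AdjoinRoot P) A').comp
      (algebraMap A (AdjoinRoot P))).toAlgebra
    haveI : IsScalarTower A (AdjoinRoot P) A' := IsScalarTower.of_algebraMap_eq (fun _ => rfl)
    refine ⟨A', iC, inferInstance, ?_, ?_, ?_, ?_,
      (algebraMap (AdjoinRoot P) A' (AdjoinRoot.root P)) ::ₘ s, ?_⟩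
    · have e1 := (Groth.Agent.H8.Synt.isSyntomic_iff A (AdjoinRoot P)).1 hsyn
      have e2 := (Groth.Agent.H8.Synt.isSyntomic_iff (AdjoinRoot P) A').1 h1
      haveI := e1.1
      haveI := e2.1
      exact (Groth.Agent.H8.Synt.isSyntomic_iff A A').2
        ⟨Module.Flat.trans A (AdjoinRoot P) A',
          Groth.Agent.H8.LCIHom.isLCI_comp A (AdjoinRoot P) A' e1.2 e2.2⟩
    · exact Module.Finite.trans (AdjoinRoot P) A'
    · exact Module.Free.trans (R := A) (S := AdjoinRoot P) (M := A')
    · exact Module.FaithfullyFlat.trans A (AdjoinRoot P) A'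
    · rw [IsScalarTower.algebraMap_eq A (AdjoinRoot P) A', ← Polynomial.map_map, ← hfac,
        Polynomial.map_mul, hs, Multiset.map_cons, Multiset.prod_cons, Polynomial.map_sub,
        map_X, map_C]

theorem main (A : Type u) [CommRing A] (P : A[X]) (hP : P.Monic) :
    ∃ (A' : Type u) (_ : CommRing A') (_ : Algebra A A'),
      Synt.IsSyntomic A A' ∧ Module.Finite A A' ∧ Module.Free A A' ∧ Module.FaithfullyFlat A A' ∧
        ∃ s : Multiset A', P.map (algebraMap A A') = (s.map fun b => X - C b).prod :=
  split P.natDegree A P hP rfl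

end Groth.Agent.H9.SplitSynt
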