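import Mathlib
import Groth.Agent.Lib.Helper9.Misc.StdExt

namespace Groth.Agent.H9.StdEquiv

open CategoryTheory CategoryTheory.Limits AlgebraicGeometry
open Groth.Agent.H9.StdExt

universe u

/-- a closed flat relation which is an equivalence relation on points over a scheme-theoretically dense
`S'` is an equivalence relation. -/
theorem main {S S' : Scheme.{u}} (g : S' ⟶ S) [IsSchemeTheoreticallyDominant g] [QuasiCompact g]
    (Y Γ : Scheme.{u}) (f : Y ⟶ S) [Flat f]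
    (p₁ p₂ : Γ ⟶ Y) (h : p₁ ≫ f = p₂ ≫ f)
    (hΓ : IsClosedImmersion (pullback.lift p₁ p₂ h))
    [Flat (p₁ ≫ f)] [Flat p₁] [Flat p₂]
    (hK : ∀ (T : Scheme.{u}) (t : T ⟶ S),
      (∃ s : T ⟶ S', t = s ≫ g) →
      _root_.Equivalence fun a b : {a : T ⟶ Y // a ≫ f = t} =>
        ∃ c : T ⟶ Γ, c ≫ p₁ = a.1 ∧ c ≫ p₂ = b.1) :
    ∀ (T : Scheme.{u}) (t : T ⟶ S),
      _root_.Equivalence fun a b : {a : T ⟶ Y // a ≫ f = t} =>
        ∃ c : T ⟶ Γ, c ≫ p₁ = a.1 ∧ c ≫ p₂ = b.1 := by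
  haveI := hΓ
  set i := pullback.lift p₁ p₂ h with hi
  have hi1 : i ≫ pullback.fst f f = p₁ := pullback.lift_fst _ _ _
  have hi2 : i ≫ pullback.snd f f = p₂ := pullback.lift_snd _ _ _
  -- reflexivity
  obtain ⟨dr, hdr⟩ : ∃ d : Y ⟶ Γ, d ≫ i = pullback.lift (𝟙 Y) (𝟙 Y) rfl := by
    have hE := hK (pullback f g) (pullback.fst f g ≫ f) ⟨pullback.snd f g, pullback.condition⟩
    obtain ⟨c, hc1, hc2⟩ := hE.refl ⟨pullback.fst f g, rfl⟩
    refine exists_factor i _ (pullback.fst f g) c ?_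
    apply pullback.hom_ext
    · rw [Category.assoc, hi1, hc1, Category.assoc, pullback.lift_fst, Category.comp_id]
    · rw [Category.assoc, hi2, hc2, Category.assoc, pullback.lift_snd, Category.comp_id]
  have hdr1 : dr ≫ p₁ = 𝟙 Y := by
    rw [← hi1, ← Category.assoc, hdr, pullback.lift_fst]
  have hdr2 : dr ≫ p₂ = 𝟙 Y := by
    rw [← hi2, ← Category.assoc, hdr, pullback.lift_snd]
  -- symmetry
  obtain ⟨σ, hσ⟩ : ∃ d : Γ ⟶ Γ, d ≫ i = pullback.lift p₂ p₁ h.symm := by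
    set j := pullback.fst (p₁ ≫ f) g with hj
    have hE := hK (pullback (p₁ ≫ f) g) (j ≫ p₁ ≫ f) ⟨pullback.snd (p₁ ≫ f) g, pullback.condition⟩
    obtain ⟨c, hc1, hc2⟩ := hE.symm (x := ⟨j ≫ p₁, by rw [Category.assoc]⟩)
      (y := ⟨j ≫ p₂, by rw [Category.assoc]; exact congrArg (fun z => j ≫ z) h.symm⟩) ⟨j, rfl, rfl⟩
    have hc1' : c ≫ p₁ = j ≫ p₂ := hc1
    have hc2' : c ≫ p₂ = j ≫ p₁ := hc2
    refine exists_factor i _ j c ?_
    apply pullback.hom_ext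
    · rw [Category.assoc, hi1, hc1', Category.assoc, pullback.lift_fst]
    · rw [Category.assoc, hi2, hc2', Category.assoc, pullback.lift_snd]
  have hσ1 : σ ≫ p₁ = p₂ := by
    rw [← hi1, ← Category.assoc, hσ, pullback.lift_fst]
  have hσ2 : σ ≫ p₂ = p₁ := by
    rw [← hi2, ← Category.assoc, hσ, pullback.lift_snd]
  -- transitivity
  set q₁ := pullback.fst p₂ p₁ with hq₁
  set q₂ := pullback.snd p₂ p₁ with hq₂
  have hq : q₁ ≫ p₂ = q₂ ≫ p₁ := pullback.condition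
  have hqf : (q₁ ≫ p₁) ≫ f = (q₂ ≫ p₂) ≫ f := by
    rw [Category.assoc, Category.assoc, h, ← Category.assoc, hq, Category.assoc, h]
  obtain ⟨m, hm⟩ : ∃ d : pullback p₂ p₁ ⟶ Γ, d ≫ i = pullback.lift (q₁ ≫ p₁) (q₂ ≫ p₂) hqf := by
    haveI : Flat q₁ := by rw [hq₁]; infer_instance
    haveI : Flat (q₁ ≫ p₁ ≫ f) := inferInstance
    set j := pullback.fst (q₁ ≫ p₁ ≫ f) g with hj
    have hE := hK (pullback (q₁ ≫ p₁ ≫ f) g) (j ≫ q₁ ≫ p₁ ≫ f)
      ⟨pullback.snd (q₁ ≫ p₁ ≫ f) g, pullback.condition⟩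
    obtain ⟨c, hc1, hc2⟩ := hE.trans (x := ⟨j ≫ q₁ ≫ p₁, by simp only [Category.assoc]⟩)
      (y := ⟨j ≫ q₁ ≫ p₂, by
        rw [Category.assoc, Category.assoc]; exact congrArg (fun z => j ≫ q₁ ≫ z) h.symm⟩)
      (z := ⟨j ≫ q₂ ≫ p₂, by
        have := congrArg (fun z => j ≫ z) hqf.symm
        simpa only [Category.assoc] using this⟩)
      ⟨j ≫ q₁, by simp only [Category.assoc], by simp only [Category.assoc]⟩
      ⟨j ≫ q₂, by
        show (j ≫ q₂) ≫ p₁ = j ≫ q₁ ≫ p₂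
        rw [Category.assoc, hq], by simp only [Category.assoc]⟩
    have hc1' : c ≫ p₁ = j ≫ q₁ ≫ p₁ := hc1
    have hc2' : c ≫ p₂ = j ≫ q₂ ≫ p₂ := hc2
    refine exists_factor i _ j c ?_
    apply pullback.hom_ext
    · rw [Category.assoc, hi1, hc1', Category.assoc, pullback.lift_fst]
    · rw [Category.assoc, hi2, hc2', Category.assoc, pullback.lift_snd]
  have hm1 : m ≫ p₁ = q₁ ≫ p₁ := by
    have := congrArg (fun z => z ≫ pullback.fst f f) hm
    simpa only [Category.assoc, hi1, pullback.lift_fst] using this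
  have hm2 : m ≫ p₂ = q₂ ≫ p₂ := by
    have := congrArg (fun z => z ≫ pullback.snd f f) hm
    simpa only [Category.assoc, hi2, pullback.lift_snd] using this
  intro T t
  refine ⟨?_, ?_, ?_⟩
  · intro a
    exact ⟨a.1 ≫ dr, by rw [Category.assoc, hdr1, Category.comp_id],
      by rw [Category.assoc, hdr2, Category.comp_id]⟩
  · rintro a b ⟨c, h1, h2⟩
    exact ⟨c ≫ σ, by rw [Category.assoc, hσ1, h2], by rw [Category.assoc, hσ2, h1]⟩
  · rintro a b c ⟨c₁, h11, h12⟩ ⟨c₂, h21, h22⟩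
    refine ⟨pullback.lift c₁ c₂ (h12.trans h21.symm) ≫ m, ?_, ?_⟩
    · rw [Category.assoc, hm1, ← Category.assoc, pullback.lift_fst, h11]
    · rw [Category.assoc, hm2, ← Category.assoc, pullback.lift_snd, h22]

end Groth.Agent.H9.StdEquiv
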