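import Mathlib
import Groth.Prelude.Def_W4bk4grassmannianPl
import Groth.Agent.Lib.Helper9.Misc.Str2B
set_option autoImplicit false
set_option linter.unusedSectionVars false
set_option linter.unusedVariables false

namespace Groth.Agent.H9.Str2

open MvPolynomial W4bk4grassmannian
open Groth.Agent.H9

section main

variable (K : Type*) [Field K] {d n : ℕ}

/-- the larger members of the standard pairs in the straightening of `X θ * X θ'` dominate `θ` -/
theorem up_aux [Infinite K] (hd : 0 < d) (hn : 0 < n) {W : ℕ} [Fintype (Q d n W)]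
    (θ θ' : Idx d n) (c : Q d n W → K)
    (hF : X θ * X θ' - ∑ p, c p • chainMon K (qCh p).2.1 ∈ plIdealTop (d := d) (n := n) K)
    (p : Q d n W) (hc : c p ≠ 0) : θ ≤ p.1.1 := by
  by_contra hle
  have h1 := Ldt.Psi_schubert K (fun _ : Fin d => (⟨0, hn⟩ : Fin n)) p.1.1
    (Shf.plIdealTop_le_schubert K p.1.1 hF)
  rw [map_sub, map_mul, Ldt.Psi_X_eq_zero_of_not_le K _ _ p.1.1.2.monotone θ hle, zero_mul,
    zero_sub, neg_eq_zero] at h1
  have := Ldt.Psi_coeff_zero K hd (fun _ : Fin d => (⟨0, hn⟩ : Fin n)) p.1.1.1 monotone_const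
    p.1.1.2.monotone qCh qCh_inj Finset.univ c h1 p (Finset.mem_univ _) ?_
  · exact hc this
  · intro k t
    refine ⟨Fin.le_def.2 (Nat.zero_le _), ?_⟩
    fin_cases k
    · exact le_rfl
    · exact p.2.1 t

theorem down_aux [Infinite K] (hd : 0 < d) (hn : 0 < n) {W : ℕ} [Fintype (Q d n W)]
    (θ θ' : Idx d n) (c : Q d n W → K)
    (hF : X θ * X θ' - ∑ p, c p • chainMon K (qCh p).2.1 ∈ plIdealTop (d := d) (n := n) K)
    (p : Q d n W) (hc : c p ≠ 0) : p.1.2 ≤ θ := by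
  by_contra hle
  have hhi : Monotone (fun _ : Fin d => (⟨n - 1, by omega⟩ : Fin n)) := monotone_const
  have h1 := Psi_vanishing K p.1.2.1 (fun _ : Fin d => (⟨n - 1, by omega⟩ : Fin n))
    (Shf.plIdealTop_le_vanishing K hF)
  rw [map_sub, map_mul, Ldt.Psi_X_eq_zero_of_not_ge K _ _ p.1.2.2.monotone θ hle, zero_mul,
    zero_sub, neg_eq_zero] at h1
  have := Ldt.Psi_coeff_zero K hd p.1.2.1 (fun _ : Fin d => (⟨n - 1, by omega⟩ : Fin n))
    p.1.2.2.monotone hhi qCh qCh_inj Finset.univ c h1 p (Finset.mem_univ _) ?_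
  · exact hc this
  · intro k t
    fin_cases k
    · refine ⟨p.2.1 t, Fin.le_def.2 ?_⟩
      show (p.1.1.1 t).val ≤ n - 1
      have := (p.1.1.1 t).2
      omega
    · refine ⟨le_rfl, Fin.le_def.2 ?_⟩
      show (p.1.2.1 t).val ≤ n - 1
      have := (p.1.2.1 t).2
      omega

theorem coeff_one [Infinite K] (hd : 0 < d) (hn : 0 < n) (τ φ : Idx d n)
    [Fintype (Q d n (SMT.wt τ + SMT.wt φ))]
    (c : Q d n (SMT.wt τ + SMT.wt φ) → K)
    (hF : X τ * X φ - ∑ p, c p • chainMon K (qCh p).2.1 ∈ plIdealTop (d := d) (n := n) K) :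
    c ⟨(W4bk4grassmannian.sup τ φ, W4bk4grassmannian.inf τ φ),
      fun t => le_trans (min_le_left _ _) (le_max_left _ _), wt_sup_inf τ φ⟩ = 1 := by
  classical
  obtain ⟨p0, hp0⟩ : ∃ p0 : Q d n (SMT.wt τ + SMT.wt φ),
      p0 = ⟨(W4bk4grassmannian.sup τ φ, W4bk4grassmannian.inf τ φ),
        fun t => le_trans (min_le_left _ _) (le_max_left _ _), wt_sup_inf τ φ⟩ := ⟨_, rfl⟩
  rw [← hp0]
  have hlo : Monotone (fun _ : Fin d => (⟨0, hn⟩ : Fin n)) := monotone_const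
  have hhi : Monotone (fun _ : Fin d => (⟨n - 1, by omega⟩ : Fin n)) := monotone_const
  have hfitθ : ∀ θ : Idx d n, ∀ t, (⟨0, hn⟩ : Fin n) ≤ θ.1 t ∧
      θ.1 t ≤ (⟨n - 1, by omega⟩ : Fin n) := by
    intro θ t
    refine ⟨Fin.le_def.2 (Nat.zero_le _), Fin.le_def.2 ?_⟩
    show (θ.1 t).val ≤ n - 1
    have := (θ.1 t).2
    omega
  have hfit : ∀ x : Ldt.Ch d n, Ldt.Fits (fun _ : Fin d => (⟨0, hn⟩ : Fin n))
      (fun _ : Fin d => (⟨n - 1, by omega⟩ : Fin n)) x := fun x k t => hfitθ _ t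
  -- the full-shape evaluation
  have hΨ0 := Psi_vanishing K (fun _ : Fin d => (⟨0, hn⟩ : Fin n))
    (fun _ : Fin d => (⟨n - 1, by omega⟩ : Fin n)) (Shf.plIdealTop_le_vanishing K hF)
  rw [map_sub, map_sum, sub_eq_zero] at hΨ0
  simp only [map_smul] at hΨ0
  -- degrees
  have hdeg := fun p : Q d n (SMT.wt τ + SMT.wt φ) =>
    Ldt.degree_Phi_chain (K := K) (Ldt.vv n d) Ldt.vv_lt Ldt.vv_surj
      (fun _ : Fin d => (⟨0, hn⟩ : Fin n)) (fun _ : Fin d => (⟨n - 1, by omega⟩ : Fin n))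
      (qCh p) (hfit _)
  have hdτ := Ldt.degree_minor (K := K) (Ldt.vv n d) Ldt.vv_lt Ldt.vv_surj
      (fun _ : Fin d => (⟨0, hn⟩ : Fin n)) (fun _ : Fin d => (⟨n - 1, by omega⟩ : Fin n))
      τ.1 τ.2 (hfitθ τ)
  have hdφ := Ldt.degree_minor (K := K) (Ldt.vv n d) Ldt.vv_lt Ldt.vv_surj
      (fun _ : Fin d => (⟨0, hn⟩ : Fin n)) (fun _ : Fin d => (⟨n - 1, by omega⟩ : Fin n))
      φ.1 φ.2 (hfitθ φ)
  have hE0 : Ldt.E (Ldt.vv n d) (qCh p0) = Ldt.mon (Ldt.vv n d) τ.1 + Ldt.mon (Ldt.vv n d) φ.1 := by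
    rw [← mon_sup_inf, hp0]
    unfold Ldt.E
    exact Fin.sum_univ_two _
  -- the difference
  have hA : MonomialOrder.lex.degree (Ldt.Psi K (fun _ : Fin d => (⟨0, hn⟩ : Fin n))
        (fun _ : Fin d => (⟨n - 1, by omega⟩ : Fin n)) (X τ * X φ)) =
        Ldt.E (Ldt.vv n d) (qCh p0) ∧
      MonomialOrder.lex.Monic (Ldt.Psi K (fun _ : Fin d => (⟨0, hn⟩ : Fin n))
        (fun _ : Fin d => (⟨n - 1, by omega⟩ : Fin n)) (X τ * X φ)) := by
    unfold Ldt.Psi
    rw [map_mul, Ldt.Phi_X, Ldt.Phi_X, hE0]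
    refine ⟨?_, hdτ.2.mul hdφ.2⟩
    rw [MonomialOrder.degree_mul hdτ.2.ne_zero hdφ.2.ne_zero, hdτ.1, hdφ.1]
  set c' : Q d n (SMT.wt τ + SMT.wt φ) → K := fun p => c p - (if p = p0 then 1 else 0) with hc'
  have hsum : ∑ p ∈ Finset.univ, c' p • Ldt.Psi K (fun _ : Fin d => (⟨0, hn⟩ : Fin n))
        (fun _ : Fin d => (⟨n - 1, by omega⟩ : Fin n)) (chainMon K (qCh p).2.1) =
      Ldt.Psi K (fun _ : Fin d => (⟨0, hn⟩ : Fin n))
        (fun _ : Fin d => (⟨n - 1, by omega⟩ : Fin n)) (X τ * X φ) -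
      Ldt.Psi K (fun _ : Fin d => (⟨0, hn⟩ : Fin n))
        (fun _ : Fin d => (⟨n - 1, by omega⟩ : Fin n)) (chainMon K (qCh p0).2.1) := by
    rw [hΨ0]
    simp only [hc', sub_smul, Finset.sum_sub_distrib, ite_smul, one_smul, zero_smul,
      Finset.sum_ite_eq', Finset.mem_univ, if_true]
  have h0 := top_coeff MonomialOrder.lex
    (fun p : Q d n (SMT.wt τ + SMT.wt φ) => Ldt.Psi K (fun _ : Fin d => (⟨0, hn⟩ : Fin n))
        (fun _ : Fin d => (⟨n - 1, by omega⟩ : Fin n)) (chainMon K (qCh p).2.1))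
    (fun p => (hdeg p).2)
    (fun p q hpq => by
      have h1 : MonomialOrder.lex.degree (Ldt.Phi K (Ldt.vv n d) (fun _ : Fin d => (⟨0, hn⟩ : Fin n))
        (fun _ : Fin d => (⟨n - 1, by omega⟩ : Fin n)) (chainMon K (qCh p).2.1)) =
        MonomialOrder.lex.degree (Ldt.Phi K (Ldt.vv n d) (fun _ : Fin d => (⟨0, hn⟩ : Fin n))
        (fun _ : Fin d => (⟨n - 1, by omega⟩ : Fin n)) (chainMon K (qCh q).2.1)) := hpq
      rw [(hdeg p).1, (hdeg q).1] at h1
      exact qCh_inj (Ldt.E_injective (Ldt.vv n d) Ldt.vv_lt hd h1))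
    Finset.univ c' _ hsum p0 (Finset.mem_univ _) ?_
  · have : c p0 - 1 = 0 := by
      have h2 : c' p0 = c p0 - 1 := by rw [hc']; simp
      rw [← h2]; exact h0
    exact sub_eq_zero.1 this
  · intro b hb
    have hB := hdeg p0
    have hB1 : MonomialOrder.lex.degree (Ldt.Psi K (fun _ : Fin d => (⟨0, hn⟩ : Fin n))
        (fun _ : Fin d => (⟨n - 1, by omega⟩ : Fin n)) (chainMon K (qCh p0).2.1)) =
        Ldt.E (Ldt.vv n d) (qCh p0) := hB.1
    have hB2 : MonomialOrder.lex.Monic (Ldt.Psi K (fun _ : Fin d => (⟨0, hn⟩ : Fin n))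
        (fun _ : Fin d => (⟨n - 1, by omega⟩ : Fin n)) (chainMon K (qCh p0).2.1)) := hB.2
    show MonomialOrder.lex.toSyn b < MonomialOrder.lex.toSyn (MonomialOrder.lex.degree
      (Ldt.Psi K (fun _ : Fin d => (⟨0, hn⟩ : Fin n))
        (fun _ : Fin d => (⟨n - 1, by omega⟩ : Fin n)) (chainMon K (qCh p0).2.1)))
    rw [hB1]
    have hle : MonomialOrder.lex.toSyn b ≤ MonomialOrder.lex.toSyn (Ldt.E (Ldt.vv n d) (qCh p0)) := by
      have hb' := MvPolynomial.support_sub _ _ _ hb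
      rcases Finset.mem_union.1 hb' with h | h
      · have := MonomialOrder.lex.le_degree h
        rwa [hA.1] at this
      · have := MonomialOrder.lex.le_degree h
        rwa [hB1] at this
    refine lt_of_le_of_ne hle ?_
    intro heq
    have hbe : b = Ldt.E (Ldt.vv n d) (qCh p0) := MonomialOrder.lex.toSyn.injective heq
    rw [MvPolynomial.mem_support_iff, hbe, MvPolynomial.coeff_sub] at hb
    apply hb
    have e1 := hA.2.coeff_degree
    rw [hA.1] at e1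
    have e2 := hB2.coeff_degree
    rw [hB1] at e2
    rw [e1, e2, sub_self]

end main

end Groth.Agent.H9.Str2
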