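import Mathlib
import Groth.Prelude.Def_W4bk4grassmannianPl
import Groth.Agent.Lib.Helper9.Misc.Str2C
set_option autoImplicit false
set_option linter.unusedSectionVars false
set_option linter.unusedVariables false

namespace Groth.Agent.H9.Str2

open MvPolynomial W4bk4grassmannian
open Groth.Agent.H9

section main

variable (K : Type*) [Field K] {d n : ℕ}

theorem main [Infinite K] (hd : 0 < d) (τ φ : Idx d n) :
    ∃ g ∈ Submodule.span K {f : PlRing K d n | ∃ α β : Idx d n,
        β ≤ α ∧ W4bk4grassmannian.sup τ φ < α ∧ β < W4bk4grassmannian.inf τ φ ∧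
          f = MvPolynomial.X α * MvPolynomial.X β},
      MvPolynomial.X τ * MvPolynomial.X φ -
          MvPolynomial.X (W4bk4grassmannian.sup τ φ) * MvPolynomial.X (W4bk4grassmannian.inf τ φ) - g ∈
        vanishing K d n := by
  classical
  have hn : 0 < n := Fin.pos (τ.1 ⟨0, hd⟩)
  haveI : Fintype (Q d n (SMT.wt τ + SMT.wt φ)) := Fintype.ofFinite _
  obtain ⟨c, hF⟩ := expansion K τ φ
  have hF' : X φ * X τ - ∑ p, c p • chainMon K (qCh p).2.1 ∈ plIdealTop (d := d) (n := n) K := by
    rw [mul_comm]; exact hF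
  obtain ⟨p0, hp0⟩ : ∃ p0 : Q d n (SMT.wt τ + SMT.wt φ),
      p0 = ⟨(W4bk4grassmannian.sup τ φ, W4bk4grassmannian.inf τ φ),
        fun t => le_trans (min_le_left _ _) (le_max_left _ _), wt_sup_inf τ φ⟩ := ⟨_, rfl⟩
  have hc0 : c p0 = 1 := by rw [hp0]; exact coeff_one K hd hn τ φ c hF
  have hp01 : p0.1.1 = W4bk4grassmannian.sup τ φ := by rw [hp0]
  have hp02 : p0.1.2 = W4bk4grassmannian.inf τ φ := by rw [hp0]
  refine ⟨∑ p ∈ Finset.univ.erase p0, c p • chainMon K (qCh p).2.1, ?_, ?_⟩
  · apply Submodule.sum_mem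
    intro p hp
    have hpne : p ≠ p0 := Finset.ne_of_mem_erase hp
    by_cases hcp : c p = 0
    · rw [hcp, zero_smul]; exact Submodule.zero_mem _
    · apply Submodule.smul_mem
      have h1 : τ ≤ p.1.1 := up_aux K hd hn τ φ c hF p hcp
      have h2 : φ ≤ p.1.1 := up_aux K hd hn φ τ c hF' p hcp
      have h3 : p.1.2 ≤ τ := down_aux K hd hn τ φ c hF p hcp
      have h4 : p.1.2 ≤ φ := down_aux K hd hn φ τ c hF' p hcp
      have hsup : W4bk4grassmannian.sup τ φ ≤ p.1.1 := fun t => max_le (h1 t) (h2 t)
      have hinf : p.1.2 ≤ W4bk4grassmannian.inf τ φ := fun t => le_min (h3 t) (h4 t)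
      have hw := p.2.2
      have hw0 := wt_sup_inf τ φ
      apply Submodule.subset_span
      refine ⟨p.1.1, p.1.2, p.2.1, ?_, ?_, ?_⟩
      · refine lt_of_le_of_ne hsup ?_
        intro heq
        apply hpne
        have h5 : p.1.2 = W4bk4grassmannian.inf τ φ := by
          apply SMT.eq_of_le_of_wt_le hinf
          rw [← heq] at hw
          omega
        apply Subtype.ext
        apply Prod.ext
        · rw [hp01]; exact heq.symm
        · rw [hp02]; exact h5
      · refine lt_of_le_of_ne hinf ?_
        intro heq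
        apply hpne
        have h5 : W4bk4grassmannian.sup τ φ = p.1.1 := by
          apply SMT.eq_of_le_of_wt_le hsup
          rw [heq] at hw
          omega
        apply Subtype.ext
        apply Prod.ext
        · rw [hp01]; exact h5.symm
        · rw [hp02]; exact heq
      · show chainMon K ![p.1.1, p.1.2] = _
        rw [chainMon_pair]
  · have hsplit : ∑ p, c p • chainMon K (qCh p).2.1 =
        X (W4bk4grassmannian.sup τ φ) * X (W4bk4grassmannian.inf τ φ) +
          ∑ p ∈ Finset.univ.erase p0, c p • chainMon K (qCh p).2.1 := by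
      rw [← Finset.add_sum_erase Finset.univ _ (Finset.mem_univ p0), hc0, one_smul]
      congr 1
      show chainMon K ![p0.1.1, p0.1.2] = _
      rw [chainMon_pair, hp01, hp02]
    have h6 := Shf.plIdealTop_le_vanishing K hF
    rw [hsplit] at h6
    have h7 : X τ * X φ - X (W4bk4grassmannian.sup τ φ) * X (W4bk4grassmannian.inf τ φ) -
        ∑ p ∈ Finset.univ.erase p0, c p • chainMon K (qCh p).2.1 =
        X τ * X φ - (X (W4bk4grassmannian.sup τ φ) * X (W4bk4grassmannian.inf τ φ) +
          ∑ p ∈ Finset.univ.erase p0, c p • chainMon K (qCh p).2.1) := by ring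
    rw [h7]
    exact h6

end main

end Groth.Agent.H9.Str2
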