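import Mathlib

/-! Helper9: multiplicative closure criterion for R·1 + R·t^m f + t^n S′ (S13879). -/

namespace Groth.Agent.H9.SubAlg3

theorem main {k : Type*} [Field k] (m n : ℕ) (f : (Fin 3 → PowerSeries k))
    (S : Submodule (PowerSeries k) (Fin 3 → PowerSeries k))
    (hS : S = Submodule.span (PowerSeries k)
        {(1 : (Fin 3 → PowerSeries k)), ((PowerSeries.X : PowerSeries k) ^ m) • f} ⊔
        Ideal.span {(PowerSeries.X : PowerSeries k) ^ n} •
          (⊤ : Submodule (PowerSeries k) (Fin 3 → PowerSeries k))) :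
    (∀ x ∈ S, ∀ y ∈ S, x * y ∈ S) ↔ ((PowerSeries.X : PowerSeries k) ^ (2 * m)) • (f * f) ∈ S := by
  set t := (PowerSeries.X : PowerSeries k) with ht
  set g := t ^ m • f with hg
  set Tn : Submodule (PowerSeries k) (Fin 3 → PowerSeries k) := Ideal.span {t ^ n} • ⊤ with hTn
  have hgg : g * g = t ^ (2 * m) • (f * f) := by
    rw [hg, smul_mul_smul_comm, ← pow_add, two_mul]
  have hgS : g ∈ S := by
    rw [hS]
    exact Submodule.mem_sup_left (Submodule.subset_span (by simp))
  have h1S : (1 : Fin 3 → PowerSeries k) ∈ S := by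
    rw [hS]
    exact Submodule.mem_sup_left (Submodule.subset_span (by simp))
  have hTS : Tn ≤ S := by rw [hS]; exact le_sup_right
  rw [← hgg]
  constructor
  · intro h
    exact h g hgS g hgS
  · intro h
    have hT : ∀ w, w ∈ Tn ↔ ∃ u, w = t ^ n • u := by
      intro w
      rw [hTn, Submodule.ideal_span_singleton_smul, Submodule.mem_smul_pointwise_iff_exists]
      constructor
      · rintro ⟨u, -, rfl⟩; exact ⟨u, rfl⟩
      · rintro ⟨u, rfl⟩; exact ⟨u, Submodule.mem_top, rfl⟩
    have hTmul : ∀ x w, w ∈ Tn → x * w ∈ Tn := by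
      intro x w hw
      obtain ⟨u, rfl⟩ := (hT w).1 hw
      exact (hT _).2 ⟨x * u, by rw [mul_smul_comm]⟩
    -- generic induction
    have key : ∀ (N : Submodule (PowerSeries k) (Fin 3 → PowerSeries k)),
        1 ∈ N → g ∈ N → Tn ≤ N → S ≤ N := by
      intro N h1 h2 h3
      rw [hS]
      refine sup_le (Submodule.span_le.2 ?_) h3
      rintro x (rfl | rfl)
      · exact h1
      · exact h2
    -- g * y ∈ S for y ∈ S
    have hgy : ∀ y ∈ S, g * y ∈ S := by
      intro y hy
      have := key (S.comap (LinearMap.mulLeft (PowerSeries k) g))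
        (by simpa using hgS) (by simpa using h)
        (fun w hw => by
          simp only [Submodule.mem_comap, LinearMap.mulLeft_apply]
          exact hTS (hTmul g w hw))
      exact this hy
    intro x hx y hy
    have := key (S.comap (LinearMap.mulRight (PowerSeries k) y))
      (by simpa using hy) (by simpa using hgy y hy)
      (fun w hw => by
        simp only [Submodule.mem_comap, LinearMap.mulRight_apply]
        rw [mul_comm]
        exact hTS (hTmul y w hw))
    exact this hx

end Groth.Agent.H9.SubAlg3
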