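import Mathlib

/-! Helper9: symmetric numerical semigroups of multiplicity e>2 need at most e-1 generators (S15038). -/

namespace Groth.Agent.H9.SymSemigroup

theorem main (Γ : AddSubmonoid ℕ) (c : ℕ) (hc : ∀ n : ℕ, c ≤ n → n ∈ Γ) (hc0 : c ≠ 0)
    (hc1 : c - 1 ∉ Γ) (hsymm : ∀ x : ℕ, x < c → (x ∉ Γ ↔ c - 1 - x ∈ Γ)) (e : ℕ) (he : e ∈ Γ)
    (he0 : e ≠ 0) (hemin : ∀ γ : ℕ, γ ∈ Γ → γ ≠ 0 → e ≤ γ) (he2 : 2 < e) :
    ∃ G : Finset ℕ, G.card ≤ e - 1 ∧ AddSubmonoid.closure (↑G : Set ℕ) = Γ := by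
  classical
  have hmul : ∀ k : ℕ, k * e ∈ Γ := fun k => by
    have := Γ.nsmul_mem he k
    rwa [smul_eq_mul] at this
  let Ap : Finset ℕ := (Finset.range (c + e)).filter (fun γ => γ ∈ Γ ∧ γ - e ∉ Γ ∧ e ≤ γ)
  have hAp : ∀ γ, γ ∈ Ap ↔ γ ∈ Γ ∧ γ - e ∉ Γ ∧ e ≤ γ := by
    intro γ
    simp only [Ap, Finset.mem_filter, Finset.mem_range]
    constructor
    · exact fun h => h.2
    · intro h
      refine ⟨?_, h⟩
      by_contra hcon
      exact h.2.1 (hc _ (by omega))
  have hFe : c - 1 + e ∈ Ap := by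
    rw [hAp]
    refine ⟨hc _ (by omega), ?_, by omega⟩
    rwa [Nat.add_sub_cancel]
  -- ordering lemma
  have hle : ∀ γ ∈ Ap, ∀ γ' ∈ Ap, γ % e = γ' % e → γ ≤ γ' := by
    intro γ hγ γ' hγ' hmod
    by_contra hlt
    push Not at hlt
    rw [hAp] at hγ hγ'
    have hdvd : e ∣ γ - γ' := (Nat.modEq_iff_dvd' hlt.le).1 hmod.symm
    obtain ⟨k, hk⟩ := hdvd
    have hk0 : k ≠ 0 := by rintro rfl; omega
    apply hγ.2.1
    obtain ⟨k', rfl⟩ := Nat.exists_eq_succ_of_ne_zero hk0
    have h1 : e * (k' + 1) = k' * e + e := by ring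
    have : γ - e = γ' + k' * e := by
      rw [Nat.succ_eq_add_one] at hk
      omega
    rw [this]
    exact Γ.add_mem hγ'.1 (hmul _)
  -- cardinality of Ap
  have hcard : Ap.card ≤ e - 1 := by
    have h1 : Ap.card ≤ ((Finset.range e).erase 0).card := by
      apply Finset.card_le_card_of_injOn (fun γ => γ % e)
      · intro γ hγ
        have hγ' := (hAp γ).1 hγ
        simp only [Finset.coe_erase, Finset.coe_range, Set.mem_sdiff, Set.mem_Iio,
          Set.mem_singleton_iff]
        refine ⟨Nat.mod_lt _ (Nat.pos_of_ne_zero he0), ?_⟩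
        intro h0
        obtain ⟨k, hk⟩ := Nat.dvd_of_mod_eq_zero h0
        apply hγ'.2.1
        have hk0 : k ≠ 0 := by rintro rfl; omega
        obtain ⟨k', rfl⟩ := Nat.exists_eq_succ_of_ne_zero hk0
        have h1 : e * (k' + 1) = k' * e + e := by ring
        have : γ - e = k' * e := by
          rw [Nat.succ_eq_add_one] at hk
          omega
        rw [this]
        exact hmul _
      · intro γ hγ γ' hγ' hmod
        exact le_antisymm (hle γ hγ γ' hγ' hmod) (hle γ' hγ' γ hγ hmod.symm)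
    rw [Finset.card_erase_of_mem (by simp; omega), Finset.card_range] at h1
    exact h1
  let G : Finset ℕ := insert e (Ap.erase (c - 1 + e))
  have hGcard : G.card ≤ e - 1 := by
    have h1 : (Ap.erase (c - 1 + e)).card = Ap.card - 1 := Finset.card_erase_of_mem hFe
    have h2 : G.card ≤ (Ap.erase (c - 1 + e)).card + 1 := Finset.card_insert_le _ _
    omega
  refine ⟨G, hGcard, ?_⟩
  apply le_antisymm
  · rw [AddSubmonoid.closure_le]
    intro γ hγ
    simp only [G, Finset.coe_insert, Finset.coe_erase, Set.mem_insert_iff, Set.mem_sdiff,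
      Finset.mem_coe] at hγ
    rcases hγ with rfl | ⟨hγ, -⟩
    · exact he
    · exact ((hAp γ).1 hγ).1
  -- the auxiliary element a
  have hcF : c % e ≠ (c - 1) % e := by
    intro h
    have hdvd : e ∣ c - (c - 1) := (Nat.modEq_iff_dvd' (Nat.sub_le c 1)).1 h.symm
    have : c - (c - 1) = 1 := by omega
    rw [this] at hdvd
    have := Nat.le_of_dvd one_pos hdvd
    omega
  have hc1F : (c + 1) % e ≠ (c - 1) % e := by
    intro h
    have hdvd : e ∣ c + 1 - (c - 1) := (Nat.modEq_iff_dvd' (by omega)).1 h.symm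
    have : c + 1 - (c - 1) = 2 := by omega
    rw [this] at hdvd
    have := Nat.le_of_dvd two_pos hdvd
    omega
  have hex : ∃ n, n ∈ Γ ∧ n % e ≠ 0 ∧ n % e ≠ (c - 1) % e := by
    by_cases h0 : c % e = 0
    · refine ⟨c + 1, hc _ (by omega), ?_, hc1F⟩
      rw [Nat.add_mod, h0, zero_add, Nat.mod_mod, Nat.mod_eq_of_lt (by omega)]
      exact one_ne_zero
    · exact ⟨c, hc _ le_rfl, h0, hcF⟩
  let a := Nat.find hex
  have ha : a ∈ Γ ∧ a % e ≠ 0 ∧ a % e ≠ (c - 1) % e := Nat.find_spec hex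
  have hamin : ∀ m, m < a → ¬ (m ∈ Γ ∧ m % e ≠ 0 ∧ m % e ≠ (c - 1) % e) :=
    fun m hm => Nat.find_min hex hm
  have ha0 : a ≠ 0 := by
    intro h
    apply ha.2.1
    rw [h, Nat.zero_mod]
  have hae : e ≤ a := hemin a ha.1 ha0
  have hmodae : (a - e) % e = a % e := by
    conv_rhs => rw [← Nat.sub_add_cancel hae, Nat.add_mod_right]
  have hae' : a - e ∉ Γ := by
    intro h
    exact hamin (a - e) (by omega) ⟨h, by rw [hmodae]; exact ha.2.1, by rw [hmodae]; exact ha.2.2⟩
  have haec : a - e < c := by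
    by_contra hcon
    exact hae' (hc _ (by omega))
  have hb : c - 1 - (a - e) ∈ Γ := (hsymm _ haec).1 hae'
  have hane : a ≠ c - 1 + e := by
    intro h
    apply ha.2.2
    rw [h, Nat.add_mod_right]
  -- strong induction
  intro γ hγ
  induction γ using Nat.strong_induction_on with
  | _ γ ih =>
    by_cases h0 : γ = 0
    · rw [h0]; exact zero_mem _
    have hγe : e ≤ γ := hemin γ hγ h0
    have heG : e ∈ AddSubmonoid.closure (↑G : Set ℕ) :=
      AddSubmonoid.subset_closure (by simp [G])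
    by_cases h1 : γ - e ∈ Γ
    · have := ih (γ - e) (by omega) h1
      have h2 : γ = (γ - e) + e := by omega
      rw [h2]
      exact add_mem this heG
    · have hγAp : γ ∈ Ap := (hAp γ).2 ⟨hγ, h1, hγe⟩
      by_cases h2 : γ = c - 1 + e
      · have h3 : γ = a + (c - 1 - (a - e)) := by omega
        rw [h3]
        exact add_mem (ih a (by omega) ha.1) (ih _ (by omega) hb)
      · apply AddSubmonoid.subset_closure
        simp only [G, Finset.coe_insert, Finset.coe_erase, Set.mem_insert_iff, Set.mem_sdiff,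
          Finset.mem_coe, Set.mem_singleton_iff]
        exact Or.inr ⟨hγAp, h2⟩

end Groth.Agent.H9.SymSemigroup
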