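import Mathlib
import Groth.Agent.Lib.Helper9.Misc.SyntRoot

set_option autoImplicit false
universe u

namespace Groth.Agent.Lib.Helper9.SyntExpand

open MvPolynomial

section Basis

variable {σ : Type*} [Fintype σ] [DecidableEq σ] {A : Type*} [CommRing A] (p : ℕ)

/-- exponent vector of `e : σ → Fin p` -/
noncomputable def ev (e : σ → Fin p) : σ →₀ ℕ := Finsupp.equivFunOnFinite.symm (fun i => (e i : ℕ))

@[simp] lemma ev_apply (e : σ → Fin p) (i : σ) : ev p e i = (e i : ℕ) := rfl

/-- reduced monomials -/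
noncomputable def mon (e : σ → Fin p) : MvPolynomial σ A := monomial (ev p e) 1

lemma coeff_term (hp : p ≠ 0) (r : MvPolynomial σ A) (e e₀ : σ → Fin p) (q : σ →₀ ℕ) :
    coeff (p • q + ev p e₀) (expand p r * mon p e) = if e = e₀ then coeff q r else 0 := by
  unfold mon
  rw [coeff_mul_monomial']
  split_ifs with h1 h2 h2
  · subst h2
    rw [add_tsub_cancel_right, coeff_expand_smul p hp, mul_one]
  · -- e ≠ e₀ but ev e ≤ ...
    obtain ⟨i, hi⟩ : ∃ i, e i ≠ e₀ i := by
      by_contra hcon
      push Not at hcon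
      exact h2 (funext hcon)
    rw [mul_one]
    apply coeff_expand_of_not_dvd (i := i)
    have h3 := h1 i
    simp only [Finsupp.coe_add, Finsupp.coe_smul, Pi.add_apply, Pi.smul_apply, ev_apply,
      smul_eq_mul] at h3
    simp only [Finsupp.coe_tsub, Finsupp.coe_add, Finsupp.coe_smul, Pi.sub_apply, Pi.add_apply,
      Pi.smul_apply, ev_apply, smul_eq_mul]
    have h4 := (e i).2
    have h5 := (e₀ i).2
    have h6 : (e i : ℕ) ≠ (e₀ i : ℕ) := fun h => hi (Fin.ext h)
    intro hdvd
    obtain ⟨c, hc⟩ := hdvd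
    -- p * q i + e₀ i - e i = p * c
    have h7 : p * q i + (e₀ i : ℕ) = p * c + (e i : ℕ) := by omega
    have h8 : (p * q i + (e₀ i : ℕ)) % p = (p * c + (e i : ℕ)) % p := by rw [h7]
    rw [Nat.mul_add_mod, Nat.mul_add_mod, Nat.mod_eq_of_lt h5, Nat.mod_eq_of_lt h4] at h8
    exact h6 h8.symm
  · subst h2
    exfalso
    apply h1
    intro i
    simp
  · rfl

lemma inj (hp : p ≠ 0) (r : (σ → Fin p) → MvPolynomial σ A)
    (h : ∑ e, expand p (r e) * mon p e = 0) : ∀ e, r e = 0 := by
  intro e₀
  ext q
  have h1 := congrArg (coeff (p • q + ev p e₀)) h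
  rw [coeff_sum] at h1
  simp only [coeff_term p hp, coeff_zero] at h1
  rw [Finset.sum_ite_eq' Finset.univ e₀] at h1
  simpa using h1

lemma surj (hp : p ≠ 0) (b : MvPolynomial σ A) :
    ∃ r : (σ → Fin p) → MvPolynomial σ A, b = ∑ e, expand p (r e) * mon p e := by
  induction b using MvPolynomial.induction_on' with
  | monomial n a =>
    let q : σ →₀ ℕ := Finsupp.equivFunOnFinite.symm (fun i => n i / p)
    let e : σ → Fin p := fun i => ⟨n i % p, Nat.mod_lt _ (Nat.pos_of_ne_zero hp)⟩
    refine ⟨fun e' => if e' = e then monomial q a else 0, ?_⟩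
    have h1 : ∀ e', expand p (if e' = e then monomial q a else 0) * mon p e' =
        if e' = e then (monomial n a : MvPolynomial σ A) else 0 := by
      intro e'
      split_ifs with h
      · subst h
        unfold mon
        have hn : p • q + ev p e = n := by
          ext i
          simp only [Finsupp.coe_add, Finsupp.coe_smul, Pi.add_apply, Pi.smul_apply, ev_apply,
            smul_eq_mul]
          exact Nat.div_add_mod (n i) p
        rw [expand_monomial, monomial_mul, mul_one, hn]
      · simp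
    simp only [h1]
    rw [Finset.sum_ite_eq' Finset.univ e]
    simp
  | add b1 b2 h1 h2 =>
    obtain ⟨r1, h1⟩ := h1
    obtain ⟨r2, h2⟩ := h2
    refine ⟨r1 + r2, ?_⟩
    conv_lhs => rw [h1, h2]
    simp only [Pi.add_apply, map_add, add_mul, Finset.sum_add_distrib]

end Basis

section General

open TensorProduct

lemma free_finite_of_basis_like {R B : Type*} [CommRing R] [CommRing B] [Algebra R B]
    {E : Type*} [Fintype E] (v : E → B)
    (hinj : ∀ r : E → R, ∑ e, algebraMap R B (r e) * v e = 0 → ∀ e, r e = 0)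
    (hsurj : ∀ b, ∃ r : E → R, b = ∑ e, algebraMap R B (r e) * v e) :
    Module.Free R B ∧ Module.Finite R B := by
  have hli : LinearIndependent R v := by
    rw [Fintype.linearIndependent_iff]
    intro g hg
    apply hinj
    simpa [Algebra.smul_def] using hg
  have hsp : ⊤ ≤ Submodule.span R (Set.range v) := by
    rintro b -
    obtain ⟨r, rfl⟩ := hsurj b
    apply Submodule.sum_mem
    intro e _
    rw [← Algebra.smul_def]
    exact Submodule.smul_mem _ _ (Submodule.subset_span ⟨e, rfl⟩)
  let bs := Module.Basis.mk hli hsp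
  exact ⟨Module.Free.of_basis bs, Module.Finite.of_basis bs⟩

variable {R B : Type u} [CommRing R] [CommRing B] [Algebra R B]

/-- The ideal `(X_i^p - t_i)`. -/
noncomputable abbrev relIdeal (m p : ℕ) (κ : Type u) [Field κ] [Algebra R κ] (T : Fin m → R) :
    Ideal (MvPolynomial (Fin m) κ) :=
  Ideal.span (Set.range fun i : Fin m => (X i ^ p - C (algebraMap R κ (T i)) :
    MvPolynomial (Fin m) κ))

lemma tmul_algebraMap (κ : Type u) [Field κ] [Algebra R κ] (r : R) :
    (algebraMap R κ r) ⊗ₜ[R] (1 : B) = (1 : κ) ⊗ₜ[R] algebraMap R B r := by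
  rw [Algebra.algebraMap_eq_smul_one, Algebra.algebraMap_eq_smul_one (A := B),
    ← TensorProduct.smul_tmul', TensorProduct.tmul_smul]

/-- The fibre of an algebra of the shape `R[X_1..X_m]/(X_i^p - T_i)` over a field. -/
lemma isGlobalCI_fiber [Module.Finite R B] (m p : ℕ) (T : Fin m → R) (x : Fin m → B)
    (hx : ∀ i, x i ^ p = algebraMap R B (T i)) (hgen : Algebra.adjoin R (Set.range x) = ⊤)
    (κ : Type u) [Field κ] [Algebra R κ]
    (g : B →ₐ[R] (MvPolynomial (Fin m) κ ⧸ relIdeal m p κ T))
    (hg : ∀ i, g (x i) = Ideal.Quotient.mk _ (X i)) :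
    Synt.IsGlobalCI κ (κ ⊗[R] B) := by
  by_cases hsub : Subsingleton (κ ⊗[R] B)
  · exact Or.inl hsub
  right
  rw [not_subsingleton_iff_nontrivial] at hsub
  let φ' : MvPolynomial (Fin m) κ →ₐ[κ] κ ⊗[R] B := aeval (fun i => (1 : κ) ⊗ₜ[R] x i)
  refine ⟨m, m, le_rfl, φ', fun i => X i ^ p - C (algebraMap R κ (T i)), ?_, ?_, ?_⟩
  · -- surjectivity
    have h1 : ∀ b : B, (1 : κ) ⊗ₜ[R] b ∈ φ'.range := by
      intro b
      have hb : b ∈ Algebra.adjoin R (Set.range x) := by rw [hgen]; trivial
      induction hb using Algebra.adjoin_induction with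
      | mem y hy =>
        obtain ⟨i, rfl⟩ := hy
        exact ⟨X i, by simp [φ']⟩
      | algebraMap r =>
        refine ⟨C (algebraMap R κ r), ?_⟩
        show aeval (fun i => (1 : κ) ⊗ₜ[R] x i) (C (algebraMap R κ r)) = _
        rw [aeval_C, Algebra.TensorProduct.algebraMap_apply, ← tmul_algebraMap]
        simp
      | add y z _ _ hy hz =>
        rw [TensorProduct.tmul_add]
        exact Subalgebra.add_mem _ hy hz
      | mul y z _ _ hy hz =>
        have : (1 : κ) ⊗ₜ[R] (y * z) = ((1 : κ) ⊗ₜ[R] y) * ((1 : κ) ⊗ₜ[R] z) := by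
          rw [Algebra.TensorProduct.tmul_mul_tmul, mul_one]
        rw [this]
        exact Subalgebra.mul_mem _ hy hz
    intro z
    rw [← AlgHom.mem_range]
    induction z using TensorProduct.induction_on with
    | zero => exact Subalgebra.zero_mem _
    | add a b ha hb => exact Subalgebra.add_mem _ ha hb
    | tmul k b =>
      have : k ⊗ₜ[R] b = k • ((1 : κ) ⊗ₜ[R] b) := by
        rw [TensorProduct.smul_tmul', smul_eq_mul, mul_one]
      rw [this]
      exact Subalgebra.smul_mem _ (h1 b) k
  · -- kernel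
    apply le_antisymm
    · -- via the retraction
      let ρ : κ ⊗[R] B →ₐ[κ] (MvPolynomial (Fin m) κ ⧸ relIdeal m p κ T) :=
        Algebra.TensorProduct.lift (Algebra.ofId κ _) g (fun _ _ => Commute.all _ _)
      have hρ : ρ.comp φ' = Ideal.Quotient.mkₐ κ (relIdeal m p κ T) := by
        apply MvPolynomial.algHom_ext
        intro i
        simp [ρ, φ', hg]
      intro P hP
      have h1 : φ' P = 0 := hP
      have h2 : (Ideal.Quotient.mkₐ κ (relIdeal m p κ T)) P = 0 := by
        rw [← hρ, AlgHom.comp_apply, h1, map_zero]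
      exact Ideal.Quotient.eq_zero_iff_mem.1 h2
    · rw [Ideal.span_le]
      rintro _ ⟨i, rfl⟩
      show φ' _ = 0
      simp only [φ', map_sub, map_pow, aeval_X, aeval_C]
      rw [Algebra.TensorProduct.tmul_pow, one_pow, hx, Algebra.TensorProduct.algebraMap_apply,
        ← tmul_algebraMap]
      simp
  · have : IsArtinianRing (κ ⊗[R] B) := IsArtinianRing.of_finite κ _
    have h0 : ringKrullDim (κ ⊗[R] B) = 0 :=
      (ringKrullDimZero_iff_ringKrullDim_eq_zero).1 inferInstance
    rw [h0]
    simp

/-- A finite free algebra whose fibres have the shape `κ[X_1..X_m]/(X_i^p - t_i)` is syntomic. -/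
theorem isSyntomic [Module.Free R B] [Module.Finite R B] (m p : ℕ) (T : Fin m → R)
    (x : Fin m → B)
    (hx : ∀ i, x i ^ p = algebraMap R B (T i)) (hgen : Algebra.adjoin R (Set.range x) = ⊤)
    (hret : ∀ (κ : Type u) [Field κ] [Algebra R κ],
      ∃ g : B →ₐ[R] (MvPolynomial (Fin m) κ ⧸ relIdeal m p κ T),
        ∀ i, g (x i) = Ideal.Quotient.mk _ (X i)) :
    Synt.IsSyntomic R B := by
  have : Module.FinitePresentation R B := Module.finitePresentation_of_projective R B
  refine ⟨inferInstance, inferInstance, ?_⟩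
  intro q
  refine ⟨inferInstance, ?_⟩
  intro P
  refine ⟨1, (Ideal.ne_top_iff_one _).1 P.2.ne_top, ?_⟩
  obtain ⟨g, hg⟩ := hret q.asIdeal.ResidueField
  have h1 := isGlobalCI_fiber m p T x hx hgen q.asIdeal.ResidueField g hg
  let e1 : (q.asIdeal.Fiber B) ≃ₐ[q.asIdeal.Fiber B] Localization.Away (1 : q.asIdeal.Fiber B) :=
    IsLocalization.atOne _ _
  exact SyntRoot.isGlobalCI_of_algEquiv (e1.restrictScalars q.asIdeal.ResidueField) h1

end General

section Main

theorem main (p : ℕ) (hp : p ≠ 0) (A : Type u) [CommRing A] (m : ℕ)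
    (φ : MvPolynomial (Fin m) A →ₐ[A] MvPolynomial (Fin m) A)
    (hφ : ∀ i : Fin m, φ (MvPolynomial.X i) = MvPolynomial.X i ^ p) :
    @Synt.IsSyntomic (MvPolynomial (Fin m) A) _ (MvPolynomial (Fin m) A) _
      φ.toRingHom.toAlgebra ∧ φ.toRingHom.FaithfullyFlat := by
  have hφe : φ = expand p := MvPolynomial.algHom_ext (fun i => by rw [hφ, expand_X])
  subst hφe
  let alg : Algebra (MvPolynomial (Fin m) A) (MvPolynomial (Fin m) A) :=
    (expand p : MvPolynomial (Fin m) A →ₐ[A] MvPolynomial (Fin m) A).toRingHom.toAlgebra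
  have halg : ∀ r : MvPolynomial (Fin m) A,
      @algebraMap (MvPolynomial (Fin m) A) (MvPolynomial (Fin m) A) _ _ alg r = expand p r :=
    fun r => rfl
  obtain ⟨hfree, hfin⟩ := @free_finite_of_basis_like (MvPolynomial (Fin m) A)
    (MvPolynomial (Fin m) A) _ _ alg (Fin m → Fin p) _ (mon p) (inj p hp) (surj p hp)
  constructor
  · refine @isSyntomic (MvPolynomial (Fin m) A) (MvPolynomial (Fin m) A) _ _ alg hfree hfin m p
      X X ?_ ?_ ?_
    · intro i
      rw [halg, expand_X]
    · rw [eq_top_iff]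
      rintro b -
      induction b using MvPolynomial.induction_on with
      | C a =>
        have : (C a : MvPolynomial (Fin m) A) =
            @algebraMap (MvPolynomial (Fin m) A) (MvPolynomial (Fin m) A) _ _ alg (C a) := by
          rw [halg, expand_C]
        rw [this]
        exact Subalgebra.algebraMap_mem _ _
      | add b1 b2 h1 h2 => exact Subalgebra.add_mem _ h1 h2
      | mul_X b i h => exact Subalgebra.mul_mem _ h (Algebra.subset_adjoin ⟨i, rfl⟩)
    · intro κ _ _
      let g0 : MvPolynomial (Fin m) A →+* (MvPolynomial (Fin m) κ ⧸ relIdeal m p κ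
          (X : Fin m → MvPolynomial (Fin m) A)) :=
        eval₂Hom ((algebraMap (MvPolynomial (Fin m) A) _).comp C)
          (fun i => Ideal.Quotient.mk _ (X i))
      have hcomp : g0.comp (expand p : MvPolynomial (Fin m) A →ₐ[A] _).toRingHom =
          algebraMap (MvPolynomial (Fin m) A) _ := by
        apply MvPolynomial.ringHom_ext
        · intro a
          simp [g0]
        · intro i
          simp only [AlgHom.toRingHom_eq_coe, RingHom.coe_comp, RingHom.coe_coe,
            Function.comp_apply, expand_X, map_pow, g0, eval₂Hom_X']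
          rw [← map_pow, IsScalarTower.algebraMap_apply (MvPolynomial (Fin m) A)
            (MvPolynomial (Fin m) κ) (MvPolynomial (Fin m) κ ⧸ relIdeal m p κ
              (X : Fin m → MvPolynomial (Fin m) A)), Ideal.Quotient.algebraMap_eq,
            MvPolynomial.algebraMap_apply, Ideal.Quotient.eq]
          exact Ideal.subset_span ⟨i, rfl⟩
      refine ⟨@AlgHom.mk _ _ _ _ _ _ alg _ g0 (fun r => ?_), fun i => ?_⟩
      · exact congrArg (fun h => h r) hcomp
      · show g0 (X i) = _
        simp [g0]
  · show @Module.FaithfullyFlat (MvPolynomial (Fin m) A) (MvPolynomial (Fin m) A) _ _ alg.toModule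
    rcases subsingleton_or_nontrivial A with h | h
    · refine @Module.FaithfullyFlat.mk _ _ _ _ alg.toModule ?_ ?_
      · exact @Module.Flat.of_free _ _ _ _ alg.toModule hfree
      · intro I hI
        exact absurd (Subsingleton.elim I ⊤) hI.ne_top
    · exact @Module.FaithfullyFlat.instOfNontrivialOfFree _ _ _ _ alg.toModule _ hfree

end Main

end Groth.Agent.Lib.Helper9.SyntExpand
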