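import Mathlib
import Groth.Agent.Lib.Helper9.Misc.SyntRoot

set_option autoImplicit false
universe u
open AlgebraicGeometry CategoryTheory Polynomial

namespace Groth.Agent.Lib.Helper9.SyntRootSch

lemma preimage_eq_top {X : Scheme.{u}} {V : X.Opens} (hV : IsAffineOpen V) {B : CommRingCat.{u}}
    (φ : Γ(X, V) ⟶ B) : (Spec.map φ ≫ hV.fromSpec) ⁻¹ᵁ V = ⊤ := by
  rw [Scheme.Hom.comp_preimage, hV.fromSpec_preimage_self]
  rfl

lemma appLE_eq {X : Scheme.{u}} {V : X.Opens} (hV : IsAffineOpen V) {B : CommRingCat.{u}}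
    (φ : Γ(X, V) ⟶ B)
    (e : (⊤ : (Spec B).Opens) ≤ (Spec.map φ ≫ hV.fromSpec) ⁻¹ᵁ V) :
    (Spec.map φ ≫ hV.fromSpec).appLE V ⊤ e = φ ≫ (Scheme.ΓSpecIso B).inv := by
  apply Spec.map_injective
  rw [← cancel_mono hV.fromSpec, IsAffineOpen.SpecMap_appLE_fromSpec _ hV (isAffineOpen_top _),
    IsAffineOpen.fromSpec_top, Scheme.isoSpec_Spec_inv, Spec.map_comp, Category.assoc]

/-- The morphism `Spec (Γ(X,V)[T]/(g)) ⟶ X`. -/
noncomputable def rootMap {X : Scheme.{u}} {V : X.Opens} (hV : IsAffineOpen V) (g : Γ(X, V)[X]) :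
    Spec (CommRingCat.of (AdjoinRoot g)) ⟶ X :=
  Spec.map (CommRingCat.ofHom (algebraMap Γ(X, V) (AdjoinRoot g))) ≫ hV.fromSpec

lemma isSyntomicMor_rootMap {X : Scheme.{u}} {V : X.Opens} (hV : IsAffineOpen V)
    (g : Γ(X, V)[X]) (hg : g.Monic) : Synt.IsSyntomicMor (rootMap hV g) := by
  intro x
  have e : (⊤ : (Spec (CommRingCat.of (AdjoinRoot g))).Opens) ≤ (rootMap hV g) ⁻¹ᵁ V :=
    (preimage_eq_top hV _).ge
  refine ⟨⟨⊤, isAffineOpen_top _⟩, ⟨V, hV⟩, e, trivial, ?_⟩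
  let _ := ((rootMap hV g).appLE V ⊤ e).hom.toAlgebra
  have hcomm : ∀ r : Γ(X, V), algebraMap Γ(X, V) Γ(Spec (CommRingCat.of (AdjoinRoot g)), ⊤) r =
      (Scheme.ΓSpecIso (CommRingCat.of (AdjoinRoot g))).inv (algebraMap Γ(X, V) (AdjoinRoot g) r) := by
    intro r
    have := appLE_eq hV (CommRingCat.ofHom (algebraMap Γ(X, V) (AdjoinRoot g))) e
    exact congrArg (fun h => h.hom r) this
  exact SyntRoot.isSyntomic_of_equiv g hg
    (AlgEquiv.ofRingEquiv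
      (f := (Scheme.ΓSpecIso (CommRingCat.of (AdjoinRoot g))).symm.commRingCatIsoToRingEquiv)
      (fun r => (hcomm r).symm))

lemma rootMap_surjOn {X : Scheme.{u}} {V : X.Opens} (hV : IsAffineOpen V)
    (g : Γ(X, V)[X]) (hg : g.Monic) (hdeg : Nontrivial Γ(X, V) → g.natDegree ≠ 0) (x : X)
    (hx : x ∈ V) : ∃ y, rootMap hV g y = x := by
  have hx' : x ∈ Set.range hV.fromSpec := by rw [hV.range_fromSpec]; exact hx
  obtain ⟨z, rfl⟩ := hx'
  have := SyntRoot.faithfullyFlat g hg hdeg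
  obtain ⟨y, rfl⟩ := PrimeSpectrum.comap_surjective_of_faithfullyFlat
    (A := Γ(X, V)) (B := AdjoinRoot g) z
  exact ⟨y, rfl⟩

lemma rootMap_appTop {X : Scheme.{u}} {V : X.Opens} (hV : IsAffineOpen V)
    (g : Γ(X, V)[X]) (a : Γ(X, ⊤)) :
    (rootMap hV g).appTop a = (Scheme.ΓSpecIso (CommRingCat.of (AdjoinRoot g))).inv
      (algebraMap Γ(X, V) (AdjoinRoot g) (X.presheaf.map (homOfLE le_top).op a)) := by
  have e : (⊤ : (Spec (CommRingCat.of (AdjoinRoot g))).Opens) ≤ (rootMap hV g) ⁻¹ᵁ V :=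
    (preimage_eq_top hV _).ge
  have h1 := appLE_eq hV (CommRingCat.ofHom (algebraMap Γ(X, V) (AdjoinRoot g))) e
  have h2 := (rootMap hV g).map_appLE e (homOfLE (le_top : V ≤ ⊤)).op
  have h3 : (rootMap hV g).appLE ⊤ ⊤ (by simp) = (rootMap hV g).appTop := by
    simp only [Scheme.Hom.appLE]
    exact (Category.comp_id _)
  have h4 : (rootMap hV g).appTop = X.presheaf.map (homOfLE (le_top : V ≤ ⊤)).op ≫
      (CommRingCat.ofHom (algebraMap Γ(X, V) (AdjoinRoot g)) ≫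
        (Scheme.ΓSpecIso (CommRingCat.of (AdjoinRoot g))).inv) := by
    rw [← h3, ← h1]
    exact h2.symm
  rw [h4]
  rfl

theorem main (p : ℕ) [Fact p.Prime] (Y : Scheme.{u}) (a : Γ(Y, ⊤)) :
    ∃ 𝒰 : Scheme.Cover.{u} (Scheme.precoverage @Synt.IsSyntomicMor) Y,
      ∀ i : 𝒰.I₀, ∃ b : Γ(𝒰.X i, ⊤), b ^ p = (𝒰.f i).appTop a := by
  have hp : p ≠ 0 := (Fact.out : p.Prime).ne_zero
  let g : (V : Y.affineOpens) → Γ(Y, V.1)[X] :=
    fun V => X ^ p - C (Y.presheaf.map (homOfLE le_top).op a)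
  have hg : ∀ V, (g V).Monic := fun V => monic_X_pow_sub_C _ hp
  have hA : ∀ V : Y.affineOpens, IsAffineOpen V.1 := fun V => V.2
  have key : ∀ V : Y.affineOpens,
      ((Scheme.ΓSpecIso (CommRingCat.of (AdjoinRoot (g V)))).inv (AdjoinRoot.root (g V))) ^ p =
        (rootMap (hA V) (g V)).appTop a := by
    intro V
    rw [rootMap_appTop, ← map_pow]
    congr 1
    have h1 : (AdjoinRoot.mk (g V)) (g V) = 0 := AdjoinRoot.mk_self
    simp only [g, map_sub, map_pow, AdjoinRoot.mk_X, AdjoinRoot.mk_C] at h1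
    exact sub_eq_zero.1 h1
  refine ⟨Scheme.Cover.mkOfCovers Y.affineOpens
    (fun V => Spec (CommRingCat.of (AdjoinRoot (g V))))
    (fun V => rootMap (hA V) (g V)) ?_ (fun V => isSyntomicMor_rootMap (hA V) _ (hg V)), ?_⟩
  · intro x
    obtain ⟨_, ⟨V, hV, rfl⟩, hxV, -⟩ := Y.isBasis_affineOpens.exists_subset_of_mem_open
      (Set.mem_univ x) isOpen_univ
    obtain ⟨y, hy⟩ := rootMap_surjOn (hA ⟨V, hV⟩) (g ⟨V, hV⟩) (hg _)
      (fun _ => by rw [natDegree_X_pow_sub_C]; exact hp) x hxV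
    exact ⟨⟨V, hV⟩, y, hy⟩
  · intro V
    exact ⟨_, key V⟩

end Groth.Agent.Lib.Helper9.SyntRootSch
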