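import Mathlib

set_option autoImplicit false
set_option linter.style.haveILetI false
set_option linter.unusedSectionVars false
set_option linter.unusedVariables false

open Polynomial

namespace Groth.Agent.H9.TAZ
universe u

/-- separable elements: two algebra maps into a ring with trivial idempotents which agree after a
ring map to a nontrivial ring agree. -/
theorem eq_of_isSeparable {k K R L : Type*} [Field k] [Field K] [Algebra k K]
    [CommRing R] [Algebra k R] (hR : ∀ e : R, IsIdempotentElem e → e = 0 ∨ e = 1)
    (φ ψ : K →ₐ[k] R) [CommRing L] [Nontrivial L] (ρ : R →+* L)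
    (h : ∀ x, ρ (φ x) = ρ (ψ x)) (y : K) (hy : IsSeparable k y) : φ y = ψ y := by
  set f := minpoly k y with hf
  obtain ⟨a, b, hab⟩ := hy
  set u := φ y with hu
  set v := ψ y with hv
  set d := v - u with hd
  have hfu : aeval u f = 0 := by
    rw [hu, aeval_algHom_apply, hf, minpoly.aeval, map_zero]
  have hfv : aeval v f = 0 := by
    rw [hv, aeval_algHom_apply, hf, minpoly.aeval, map_zero]
  obtain ⟨c, hc⟩ := binomExpansion (f.map (algebraMap k R)) u d
  have huv : u + d = v := by rw [hd]; ring
  rw [huv, eval_map_algebraMap, eval_map_algebraMap, hfu, hfv, derivative_map,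
    eval_map_algebraMap, zero_add] at hc
  have hab' : aeval u b * aeval u (derivative f) = 1 := by
    have := congrArg (aeval u) hab
    rw [map_add, map_mul, map_mul, hfu, mul_zero, zero_add, map_one] at this
    exact this
  set c' := -(aeval u b) * c with hc'
  have hdd : d = c' * d ^ 2 := by
    have h1 : aeval u b * (aeval u (derivative f) * d + c * d ^ 2) = 0 := by
      rw [← hc, mul_zero]
    have h2 : aeval u b * (aeval u (derivative f) * d + c * d ^ 2) =
        (aeval u b * aeval u (derivative f)) * d + aeval u b * c * d ^ 2 := by ring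
    rw [h2, hab', one_mul] at h1
    rw [hc']
    linear_combination h1
  have hidem : IsIdempotentElem (c' * d) := by
    show c' * d * (c' * d) = c' * d
    have : c' * d * (c' * d) = c' * (c' * d ^ 2) := by ring
    rw [this, ← hdd]
  have hρd : ρ d = 0 := by
    rw [hd, map_sub, hu, hv, h y, sub_self]
  rcases hR _ hidem with h0 | h1
  · have : d = 0 := by
      have : d = c' * d * d := by
        have h3 : c' * d * d = c' * d ^ 2 := by ring
        rw [h3, ← hdd]
      rw [this, h0, zero_mul]
    rw [hd, sub_eq_zero] at this
    exact this.symm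
  · exfalso
    have := congrArg ρ h1
    rw [map_mul, hρd, mul_zero, map_one] at this
    exact zero_ne_one this

/-- Two `k`-algebra maps from an algebraic field extension to a reduced ring with trivial
idempotents which agree after a ring map to a nontrivial ring agree. -/
theorem eq_of_retraction {k K R L : Type*} [Field k] [Field K] [Algebra k K]
    [Algebra.IsAlgebraic k K]
    [CommRing R] [IsReduced R] [Algebra k R] (hR : ∀ e : R, IsIdempotentElem e → e = 0 ∨ e = 1)
    (φ ψ : K →ₐ[k] R) [CommRing L] [Nontrivial L] (ρ : R →+* L)
    (h : ∀ x, ρ (φ x) = ρ (ψ x)) : φ = ψ := by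
  ext x
  haveI : Nontrivial R := ρ.domain_nontrivial
  let q := ringExpChar k
  haveI : ExpChar k q := ringExpChar.expChar k
  haveI : ExpChar R q := expChar_of_injective_algebraMap (algebraMap k R).injective q
  obtain ⟨n, y, hy⟩ := IsPurelyInseparable.pow_mem (separableClosure k K) q x
  have hsep : IsSeparable k (x ^ q ^ n) := by
    rw [← hy]
    exact mem_separableClosure_iff.mp y.2
  have h1 := eq_of_isSeparable hR φ ψ ρ h _ hsep
  rw [map_pow, map_pow] at h1
  have h2 : (φ x - ψ x) ^ q ^ n = 0 := by
    rw [sub_pow_expChar_pow, h1, sub_self]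
  have h3 : φ x - ψ x = 0 := IsNilpotent.eq_zero ⟨_, h2⟩
  exact sub_eq_zero.mp h3

end Groth.Agent.H9.TAZ
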