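import Mathlib
import Groth.Agent.Lib.Helper9.Misc.TAZ1

set_option autoImplicit false
set_option linter.style.haveILetI false
set_option linter.unusedSectionVars false
set_option linter.unusedVariables false

open CategoryTheory CategoryTheory.Limits AlgebraicGeometry

namespace Groth.Agent.H9.TAZ
universe u

/-- global idempotents of a connected reduced scheme are trivial. -/
theorem idem_trivial (W : Scheme.{u}) [IsReduced W] [ConnectedSpace W] (e : Γ(W, ⊤))
    (he : IsIdempotentElem e) : e = 0 ∨ e = 1 := by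
  have hdisj : W.basicOpen e ⊓ W.basicOpen (1 - e) = ⊥ := by
    rw [← Scheme.basicOpen_mul]
    have : e * (1 - e) = 0 := by
      rw [mul_sub, mul_one, he.eq, sub_self]
    rw [this, Scheme.basicOpen_zero]
  have hcov : ∀ x : W, x ∈ W.basicOpen e ∨ x ∈ W.basicOpen (1 - e) := by
    intro x
    rw [Scheme.mem_basicOpen_top, Scheme.mem_basicOpen_top, map_sub, map_one]
    exact IsLocalRing.isUnit_or_isUnit_one_sub_self _
  have hcompl : ((W.basicOpen e : W.Opens) : Set W)ᶜ = (W.basicOpen (1 - e) : Set W) := by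
    ext x
    constructor
    · intro hx
      exact (hcov x).resolve_left hx
    · intro hx hx'
      have : x ∈ W.basicOpen e ⊓ W.basicOpen (1 - e) := ⟨hx', hx⟩
      rw [hdisj] at this
      exact this
  have hclopen : IsClopen ((W.basicOpen e : W.Opens) : Set W) := by
    refine ⟨?_, (W.basicOpen e).2⟩
    rw [← isOpen_compl_iff, hcompl]
    exact (W.basicOpen (1 - e)).2
  rcases isClopen_iff.mp hclopen with h0 | h1
  · left
    rw [← basicOpen_eq_bot_iff]
    exact TopologicalSpace.Opens.ext h0
  · right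
    have h2 : ((W.basicOpen (1 - e) : W.Opens) : Set W) = ∅ := by
      rw [← hcompl, h1, Set.compl_univ]
    have h3 : W.basicOpen (1 - e) = ⊥ := TopologicalSpace.Opens.ext h2
    rw [basicOpen_eq_bot_iff] at h3
    exact (sub_eq_zero.mp h3).symm

/-- morphisms from a connected reduced scheme to a reduced one-point scheme locally of finite
type over a field agree as soon as they agree on a section. -/
theorem hom_ext_point (k : Type u) [Field k] {W V : Scheme.{u}} [IsReduced W] [ConnectedSpace W]
    [IsReduced V] [Subsingleton V] (v : V ⟶ Spec (CommRingCat.of k)) [LocallyOfFiniteType v]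
    (g₁ g₂ : W ⟶ V) (hg : g₁ ≫ v = g₂ ≫ v) (σ : V ⟶ W) (hσ : σ ≫ g₁ = σ ≫ g₂) : g₁ = g₂ := by
  cases isEmpty_or_nonempty V
  · haveI : IsEmpty W := Function.isEmpty g₁.base
    exact (Nonempty.elim (inferInstance : Nonempty W) (fun w => (IsEmpty.false w).elim))
  haveI : IsIntegral V := (isIntegral_iff_irreducibleSpace_and_isReduced _).mpr
    ⟨⟨inferInstance⟩, inferInstance⟩
  letI : Field Γ(V, ⊤) := (isField_of_isIntegral_of_subsingleton V).toField
  apply ext_of_isAffine
  -- the structure map
  let c : CommRingCat.of k ⟶ Γ(V, ⊤) := (Scheme.ΓSpecIso (CommRingCat.of k)).inv ≫ v.appTop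
  letI : Algebra k Γ(V, ⊤) := c.hom.toAlgebra
  letI : Algebra k Γ(W, ⊤) := (c ≫ g₁.appTop).hom.toAlgebra
  have hft : c.hom.FiniteType := by
    have h1 : v.appTop.hom.FiniteType :=
      (HasRingHomProperty.iff_of_isAffine (P := @LocallyOfFiniteType)).mp inferInstance
    have h2 : (Scheme.ΓSpecIso (CommRingCat.of k)).inv.hom.FiniteType :=
      RingHom.FiniteType.of_surjective _
        (Scheme.ΓSpecIso (CommRingCat.of k)).symm.commRingCatIsoToRingEquiv.surjective
    exact h1.comp h2
  haveI : Algebra.FiniteType k Γ(V, ⊤) := hft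
  haveI : Module.Finite k Γ(V, ⊤) := finite_of_finite_type_of_isJacobsonRing k _
  haveI : Algebra.IsAlgebraic k Γ(V, ⊤) := Algebra.IsAlgebraic.of_finite k _
  let φ : Γ(V, ⊤) →ₐ[k] Γ(W, ⊤) := { g₁.appTop.hom with commutes' := fun _ => rfl }
  let ψ : Γ(V, ⊤) →ₐ[k] Γ(W, ⊤) :=
    { g₂.appTop.hom with
      commutes' := fun x => by
        have h1 : v.appTop ≫ g₁.appTop = v.appTop ≫ g₂.appTop := by
          rw [← Scheme.Hom.comp_appTop, ← Scheme.Hom.comp_appTop, hg]
        have h2 : c ≫ g₁.appTop = c ≫ g₂.appTop := by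
          simp only [c, Category.assoc, h1]
        exact (congrArg (fun t => t.hom x) h2).symm }
  have key : φ = ψ := by
    refine eq_of_retraction (idem_trivial W) φ ψ σ.appTop.hom ?_
    intro x
    have h1 : g₁.appTop ≫ σ.appTop = g₂.appTop ≫ σ.appTop := by
      rw [← Scheme.Hom.comp_appTop, ← Scheme.Hom.comp_appTop, hσ]
    exact congrArg (fun t => t.hom x) h1
  ext x
  exact congrArg (fun t => t x) key

end Groth.Agent.H9.TAZ
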