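import Mathlib
import Groth.Prelude.Def_AlgGrp
import Groth.Agent.H4.SmRed2
import Groth.Agent.Lib.Helper9.Misc.TAZ2
import Groth.Agent.Lib.Helper9.Misc.TOR4

set_option autoImplicit false
set_option linter.style.haveILetI false
set_option linter.unusedSectionVars false
set_option linter.unusedVariables false

open CategoryTheory CategoryTheory.Limits AlgebraicGeometry MonoidalCategory
  CartesianMonoidalCategory MonObj

namespace Groth.Agent.H9.TAZ
universe u

/-- the local statement: two maps `P ⟶ Z` over `k` with a common section, `Z` discrete reduced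
l.f.t., agree on the preimage of a point if this preimage is connected. -/
theorem local_eq (k : Type u) [Field k] {P Z : Scheme.{u}} (zk : Z ⟶ Spec (CommRingCat.of k))
    [LocallyOfFiniteType zk] [IsReduced Z] [DiscreteTopology Z] [IsReduced P]
    (act₀ snd₀ : P ⟶ Z) (hk : act₀ ≫ zk = snd₀ ≫ zk) (s₀ : Z ⟶ P) (hs1 : s₀ ≫ act₀ = 𝟙 Z)
    (hs2 : s₀ ≫ snd₀ = 𝟙 Z) (z : Z) (hconn : _root_.IsConnected (snd₀ ⁻¹' {z})) :
    (snd₀ ⁻¹ᵁ ⟨{z}, isOpen_discrete _⟩).ι ≫ act₀ = (snd₀ ⁻¹ᵁ ⟨{z}, isOpen_discrete _⟩).ι ≫ snd₀ := by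
  set V : Z.Opens := ⟨{z}, isOpen_discrete _⟩ with hV
  set W : P.Opens := snd₀ ⁻¹ᵁ V with hW
  haveI : Subsingleton V.toScheme := ⟨fun a b => Subtype.ext (a.2.trans b.2.symm)⟩
  haveI : ConnectedSpace W.toScheme := Subtype.connectedSpace hconn
  have hq1 : snd₀ (s₀ z) = z := by
    have := congrArg (fun t => t.base z) hs2
    simpa using this
  have hq2 : act₀ (s₀ z) = z := by
    have := congrArg (fun t => t.base z) hs1
    simpa using this
  have himg : ∀ p ∈ W, act₀ p = z := by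
    intro p hp
    have hsub : (act₀ '' (snd₀ ⁻¹' {z})).Subsingleton :=
      (hconn.isPreconnected.image _ act₀.continuous.continuousOn).subsingleton
    exact (hsub ⟨p, hp, rfl⟩ ⟨s₀ z, hq1, rfl⟩).trans hq2
  have hr1 : Set.range (W.ι ≫ act₀) ⊆ Set.range V.ι := by
    rw [Scheme.Opens.range_ι]
    rintro _ ⟨p, rfl⟩
    exact himg p.1 p.2
  have hr2 : Set.range (W.ι ≫ snd₀) ⊆ Set.range V.ι := by
    rw [Scheme.Opens.range_ι]
    rintro _ ⟨p, rfl⟩
    exact p.2
  have hr3 : Set.range (V.ι ≫ s₀) ⊆ Set.range W.ι := by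
    rw [Scheme.Opens.range_ι]
    rintro _ ⟨p, rfl⟩
    have hp : p.1 = z := p.2
    show snd₀ (s₀ p.1) ∈ V
    rw [hp, hq1]
    rfl
  let g₁ := IsOpenImmersion.lift V.ι (W.ι ≫ act₀) hr1
  let g₂ := IsOpenImmersion.lift V.ι (W.ι ≫ snd₀) hr2
  let σ := IsOpenImmersion.lift W.ι (V.ι ≫ s₀) hr3
  have hg₁ : g₁ ≫ V.ι = W.ι ≫ act₀ := IsOpenImmersion.lift_fac _ _ _
  have hg₂ : g₂ ≫ V.ι = W.ι ≫ snd₀ := IsOpenImmersion.lift_fac _ _ _
  have hσ : σ ≫ W.ι = V.ι ≫ s₀ := IsOpenImmersion.lift_fac _ _ _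
  have hσ1 : σ ≫ g₁ = 𝟙 _ := by
    rw [← cancel_mono V.ι, Category.assoc, hg₁, ← Category.assoc, hσ, Category.assoc, hs1,
      Category.comp_id, Category.id_comp]
  have hσ2 : σ ≫ g₂ = 𝟙 _ := by
    rw [← cancel_mono V.ι, Category.assoc, hg₂, ← Category.assoc, hσ, Category.assoc, hs2,
      Category.comp_id, Category.id_comp]
  have key : g₁ = g₂ := by
    refine hom_ext_point k (V.ι ≫ zk) g₁ g₂ ?_ σ (hσ1.trans hσ2.symm)
    rw [← Category.assoc, ← Category.assoc, hg₁, hg₂, Category.assoc, Category.assoc, hk]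
  rw [← hg₁, ← hg₂, key]

theorem main (k : Type u) [Field k]
    (G Z : Over (Spec (CommRingCat.of k))) [GrpObj G] [Smooth G.hom] [ConnectedSpace ↥G.left]
    [LocallyOfFiniteType Z.hom] [IsReduced Z.left] (hdim : topologicalKrullDim ↥Z.left ≤ 0)
    (a : AlgGrp.Action G Z) : a.act = CartesianMonoidalCategory.snd G Z := by
  haveI : IsLocallyNoetherian Z.left := LocallyOfFiniteType.isLocallyNoetherian Z.hom
  haveI : IsLocallyArtinian Z.left := .of_topologicalKrullDim_le_zero hdim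
  haveI : DiscreteTopology Z.left := inferInstance
  let s : Z ⟶ G ⊗ Z := (λ_ Z).inv ≫ (η[G] ▷ Z)
  have hs1 : s ≫ a.act = 𝟙 Z := by rw [Category.assoc, a.one_act, Iso.inv_hom_id]
  have hs2 : s ≫ snd G Z = 𝟙 Z := by
    rw [Category.assoc, whiskerRight_snd, ← leftUnitor_hom, Iso.inv_hom_id]
  let P := (G ⊗ Z).left
  let act₀ : P ⟶ Z.left := a.act.left
  let snd₀ : P ⟶ Z.left := (snd G Z).left
  have hsnd : snd₀ = pullback.snd G.hom Z.hom := rfl
  haveI : GeometricallyConnected G.hom := Groth.Agent.H9.TOR.geometricallyConnected_of_connected G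
  haveI : GeometricallyConnected snd₀ := by
    rw [hsnd]; infer_instance
  haveI : Smooth snd₀ := by
    rw [hsnd]; infer_instance
  haveI : IsReduced P := Groth.Agent.H4.SmRed.isReduced_of_smooth_scheme snd₀
  ext : 1
  show act₀ = snd₀
  let Wz : Z.left → P.Opens := fun z => snd₀ ⁻¹ᵁ ⟨{z}, isOpen_discrete _⟩
  let 𝒰 : P.OpenCover := P.openCoverOfIsOpenCover Wz (.mk (by
    ext p
    simp only [TopologicalSpace.Opens.coe_iSup, Set.mem_iUnion, TopologicalSpace.Opens.coe_top,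
      Set.mem_univ, iff_true]
    exact ⟨snd₀ p, rfl⟩))
  refine 𝒰.hom_ext _ _ fun z => ?_
  exact local_eq k Z.hom act₀ snd₀ ((Over.w a.act).trans (Over.w (snd G Z)).symm) s.left
    (congrArg (fun t => t.left) hs1) (congrArg (fun t => t.left) hs2) z
    (Scheme.Hom.isConnected_preimage_singleton snd₀ z)

end Groth.Agent.H9.TAZ
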