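import Mathlib

/-! Helper9: transfinite Mittag-Leffler, step lemma -/

open CategoryTheory CategoryTheory.Limits Opposite

universe w

namespace Groth.Agent.H9.TML1

variable {I : Type w} [LinearOrder I]
  (K : Iᵒᵖ ⥤ CochainComplex AddCommGrpCat.{w} ℤ)

/-- restriction maps -/
noncomputable abbrev res {γ β : I} (h : γ ≤ β) (i : ℤ) :
    (K.obj (op β)).X i →+ (K.obj (op γ)).X i :=
  ((K.map (homOfLE h).op).f i).hom

/-- differential -/
noncomputable abbrev dd (β : I) (i j : ℤ) : (K.obj (op β)).X i →+ (K.obj (op β)).X j :=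
  ((K.obj (op β)).d i j).hom

lemma res_self (β : I) (i : ℤ) (x : (K.obj (op β)).X i) : res K (le_refl β) i x = x := by
  have : K.map (homOfLE (le_refl β)).op = 𝟙 _ := by
    rw [← K.map_id]; rfl
  show ((K.map (homOfLE (le_refl β)).op).f i).hom x = x
  rw [this]; rfl

lemma res_res {γ γ' β : I} (h : γ ≤ γ') (h' : γ' ≤ β) (i : ℤ) (x : (K.obj (op β)).X i) :
    res K h i (res K h' i x) = res K (h.trans h') i x := by
  have : K.map (homOfLE h').op ≫ K.map (homOfLE h).op = K.map (homOfLE (h.trans h')).op := by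
    rw [← K.map_comp]; rfl
  show ((K.map (homOfLE h).op).f i).hom (((K.map (homOfLE h').op).f i).hom x) =
    ((K.map (homOfLE (h.trans h')).op).f i).hom x
  rw [← this]; rfl

lemma res_dd {γ β : I} (h : γ ≤ β) (i j : ℤ) (x : (K.obj (op β)).X i) :
    res K h j (dd K β i j x) = dd K γ i j (res K h i x) := by
  have := (K.map (homOfLE h).op).comm i j
  exact (ConcreteCategory.congr_hom this x).symm

lemma dd_dd (β : I) (i j k : ℤ) (x : (K.obj (op β)).X i) : dd K β j k (dd K β i j x) = 0 := by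
  have := (K.obj (op β)).d_comp_d i j k
  exact ConcreteCategory.congr_hom this x

/-- compatibility of a total family on a lower-closed predicate. -/
def CompatOn (J : I → Prop) (i : ℤ) (x : ∀ β, (K.obj (op β)).X i) : Prop :=
  ∀ γ β (h : γ ≤ β), J β → res K h i (x β) = x γ

/-- acyclicity of the limit over the initial segment below `β` (total-family form). -/
def P (β : I) : Prop := ∀ i j k : ℤ, i + 1 = j → j + 1 = k →
  ∀ x : ∀ γ, (K.obj (op γ)).X j, CompatOn K (· < β) j x → (∀ γ, γ < β → dd K γ j k (x γ) = 0) →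
  ∃ y : ∀ γ, (K.obj (op γ)).X i, CompatOn K (· < β) i y ∧ ∀ γ, γ < β → dd K γ i j (y γ) = x γ

section
variable (hex : ∀ (β : I) (i j k : ℤ), i + 1 = j → j + 1 = k → ∀ x : (K.obj (op β)).X j,
    dd K β j k x = 0 → ∃ y : (K.obj (op β)).X i, dd K β i j y = x)
  (hs : ∀ (β : I) (i : ℤ) (x : ∀ γ, (K.obj (op γ)).X i), CompatOn K (· < β) i x →
    ∃ y : (K.obj (op β)).X i, ∀ γ (h : γ < β), res K h.le i y = x γ)

include hex hs in
lemma step (β : I) (hP : P K β) (i j k l : ℤ) (hij : i + 1 = j) (hjk : j + 1 = k)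
    (hkl : k + 1 = l)
    (x : ∀ γ, (K.obj (op γ)).X k) (hxc : CompatOn K (· ≤ β) k x) (hxd : dd K β k l (x β) = 0)
    (y : ∀ γ, (K.obj (op γ)).X j) (hyc : CompatOn K (· < β) j y)
    (hyd : ∀ γ, γ < β → dd K γ j k (y γ) = x γ) :
    ∃ z : (K.obj (op β)).X j, (∀ γ (h : γ < β), res K h.le j z = y γ) ∧ dd K β j k z = x β := by
  classical
  obtain ⟨y', hy'⟩ := hs β j y hyc
  set w : (K.obj (op β)).X k := x β - dd K β j k y' with hw
  have hdw : dd K β k l w = 0 := by
    rw [hw, map_sub, hxd, dd_dd, sub_zero]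
  obtain ⟨u, hu⟩ := hex β j k l hjk hkl w hdw
  let ur : ∀ γ, (K.obj (op γ)).X j := fun γ => if h : γ ≤ β then res K h j u else 0
  have hur : ∀ γ (h : γ ≤ β), ur γ = res K h j u := fun γ h => dif_pos h
  have hurc : CompatOn K (· < β) j ur := by
    intro γ γ' h hγ'
    rw [hur γ' hγ'.le, hur γ (h.trans hγ'.le), res_res]
  have hurd : ∀ γ, γ < β → dd K γ j k (ur γ) = 0 := by
    intro γ hγ
    rw [hur γ hγ.le, ← res_dd, hu, hw, map_sub, res_dd, hy' γ hγ, hyd γ hγ, hxc γ β hγ.le le_rfl,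
      sub_self]
  obtain ⟨v, hvc, hvd⟩ := hP i j k hij hjk ur hurc hurd
  obtain ⟨v', hv'⟩ := hs β i v hvc
  refine ⟨y' + (u - dd K β i j v'), fun γ hγ => ?_, ?_⟩
  · rw [map_add, map_sub, hy' γ hγ, res_dd, hv' γ hγ, hvd γ hγ, hur γ hγ.le, sub_self, add_zero]
  · rw [map_add, map_sub, dd_dd, sub_zero, hu, hw]; abel

end

end Groth.Agent.H9.TML1
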