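import Mathlib
import Groth.Agent.Lib.Helper9.Misc.TML1

/-! Helper9: transfinite Mittag-Leffler, recursion -/

open CategoryTheory CategoryTheory.Limits Opposite

universe w

namespace Groth.Agent.H9.TML2

open Groth.Agent.H9.TML1

variable {I : Type w} [LinearOrder I] [WellFoundedLT I]
  (K : Iᵒᵖ ⥤ CochainComplex AddCommGrpCat.{w} ℤ)

section
variable (hex : ∀ (β : I) (i j k : ℤ), i + 1 = j → j + 1 = k → ∀ x : (K.obj (op β)).X j,
    dd K β j k x = 0 → ∃ y : (K.obj (op β)).X i, dd K β i j y = x)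
  (hs : ∀ (β : I) (i : ℤ) (x : ∀ γ, (K.obj (op γ)).X i), CompatOn K (· < β) i x →
    ∃ y : (K.obj (op β)).X i, ∀ γ (h : γ < β), res K h.le i y = x γ)

include hex hs in
lemma rec_lemma (J : I → Prop) (hJ : ∀ γ β, γ ≤ β → J β → J γ) (hP : ∀ β, J β → P K β)
    (j k l : ℤ) (hjk : j + 1 = k) (hkl : k + 1 = l)
    (x : ∀ γ, (K.obj (op γ)).X k) (hxc : CompatOn K J k x)
    (hxd : ∀ β, J β → dd K β k l (x β) = 0) :
    ∃ y : ∀ γ, (K.obj (op γ)).X j, CompatOn K J j y ∧ ∀ β, J β → dd K β j k (y β) = x β := by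
  classical
  let Good : ∀ β, (∀ γ, γ < β → (K.obj (op γ)).X j) → Prop := fun β ih =>
    (∀ γ γ' (hγ : γ < β) (hγ' : γ' < β) (h : γ ≤ γ'), res K h j (ih γ' hγ') = ih γ hγ) ∧
    (∀ γ (hγ : γ < β), dd K γ j k (ih γ hγ) = x γ)
  have stepE : ∀ β (ih : ∀ γ, γ < β → (K.obj (op γ)).X j), J β → Good β ih →
      ∃ z : (K.obj (op β)).X j, (∀ γ (h : γ < β), res K h.le j z = ih γ h) ∧
        dd K β j k z = x β := by
    intro β ih hJβ hG
    let y : ∀ γ, (K.obj (op γ)).X j := fun γ => if h : γ < β then ih γ h else 0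
    have hy : ∀ γ (h : γ < β), y γ = ih γ h := fun γ h => dif_pos h
    have hxc' : CompatOn K (· ≤ β) k x := fun γ β' h hβ' => hxc γ β' h (hJ _ _ hβ' hJβ)
    have hyc : CompatOn K (· < β) j y := by
      intro γ γ' h hγ'
      rw [hy γ' hγ', hy γ (lt_of_le_of_lt h hγ')]
      exact hG.1 γ γ' _ hγ' h
    have hyd : ∀ γ, γ < β → dd K γ j k (y γ) = x γ := by
      intro γ hγ
      rw [hy γ hγ]; exact hG.2 γ hγ
    obtain ⟨z, hz1, hz2⟩ := step K hex hs β (hP β hJβ) (j - 1) j k l (by ring) hjk hkl x hxc'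
      (hxd β hJβ) y hyc hyd
    exact ⟨z, fun γ h => (hz1 γ h).trans (hy γ h), hz2⟩
  let F : ∀ β, (∀ γ, γ < β → (K.obj (op γ)).X j) → (K.obj (op β)).X j := fun β ih =>
    if h : J β ∧ Good β ih then Classical.choose (stepE β ih h.1 h.2) else 0
  let y : ∀ β, (K.obj (op β)).X j := WellFounded.fix (IsWellFounded.wf (r := (· < ·))) F
  have hy : ∀ β, y β = F β (fun γ _ => y γ) :=
    fun β => WellFounded.fix_eq (IsWellFounded.wf (r := (· < ·))) F β
  have key : ∀ β, J β →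
      (∀ γ (h : γ ≤ β), res K h j (y β) = y γ) ∧ dd K β j k (y β) = x β := by
    intro β
    induction β using WellFoundedLT.induction with
    | ind β IH =>
      intro hJβ
      have hG : Good β (fun γ _ => y γ) :=
        ⟨fun γ γ' hγ hγ' h => (IH γ' hγ' (hJ _ _ hγ'.le hJβ)).1 γ h,
          fun γ hγ => (IH γ hγ (hJ _ _ hγ.le hJβ)).2⟩
      have hFβ : y β = Classical.choose (stepE β (fun γ _ => y γ) hJβ hG) := by
        rw [hy β]; exact dif_pos ⟨hJβ, hG⟩
      obtain ⟨h1, h2⟩ := Classical.choose_spec (stepE β (fun γ _ => y γ) hJβ hG)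
      rw [← hFβ] at h1 h2
      refine ⟨fun γ h => ?_, h2⟩
      rcases h.lt_or_eq with hlt | rfl
      · exact h1 γ hlt
      · exact res_self K _ _ _
  exact ⟨y, fun γ β h hJβ => (key β hJβ).1 γ h, fun β hJβ => (key β hJβ).2⟩

include hex hs in
lemma allP (β : I) : P K β := by
  induction β using WellFoundedLT.induction with
  | ind β IH =>
    intro i j k hij hjk x hxc hxd
    exact rec_lemma K hex hs (· < β) (fun γ β' h hβ' => lt_of_le_of_lt h hβ')
      (fun γ hγ => IH γ hγ) i j k hij hjk x hxc hxd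

include hex hs in
lemma total (j k l : ℤ) (hjk : j + 1 = k) (hkl : k + 1 = l)
    (x : ∀ γ, (K.obj (op γ)).X k) (hxc : ∀ γ β (h : γ ≤ β), res K h k (x β) = x γ)
    (hxd : ∀ β, dd K β k l (x β) = 0) :
    ∃ y : ∀ γ, (K.obj (op γ)).X j, (∀ γ β (h : γ ≤ β), res K h j (y β) = y γ) ∧
      ∀ β, dd K β j k (y β) = x β := by
  obtain ⟨y, hy1, hy2⟩ := rec_lemma K hex hs (fun _ => True) (fun _ _ _ _ => trivial)
    (fun β _ => allP K hex hs β) j k l hjk hkl x (fun γ β h _ => hxc γ β h) (fun β _ => hxd β)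
  exact ⟨y, fun γ β h => hy1 γ β h trivial, fun β => hy2 β trivial⟩

end

end Groth.Agent.H9.TML2
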