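import Mathlib
import Groth.Agent.Lib.Helper9.Misc.TML2

/-! Helper9: transfinite Mittag-Leffler, main -/

open CategoryTheory CategoryTheory.Limits Opposite

universe w

namespace Groth.Agent.H9.TML3

open Groth.Agent.H9.TML1 Groth.Agent.H9.TML2

variable {I : Type w} [LinearOrder I]
  (K : Iᵒᵖ ⥤ CochainComplex AddCommGrpCat.{w} ℤ)

/-- the limit cone in degree `j` -/
noncomputable def coneAt (j : ℤ) : Cone (K ⋙ HomologicalComplex.eval _ _ j) :=
  (HomologicalComplex.eval _ _ j).mapCone (limit.cone K)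

noncomputable def coneAtIsLimit (j : ℤ) : IsLimit (coneAt K j) :=
  isLimitOfPreserves _ (limit.isLimit K)

lemma lim_ext (j : ℤ) (z z' : (limit K).X j)
    (h : ∀ β, ((limit.π K (op β)).f j).hom z = ((limit.π K (op β)).f j).hom z') : z = z' := by
  refine Concrete.isLimit_ext (K ⋙ HomologicalComplex.eval _ _ j) (coneAtIsLimit K j) z z' ?_
  intro b
  exact h b.unop

lemma map_eq {b b' : Iᵒᵖ} (f : b ⟶ b') :
    K.map f = K.map (homOfLE (leOfHom f.unop)).op := by
  congr 1

lemma lim_exists (j : ℤ) (x : ∀ β, (K.obj (op β)).X j)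
    (hx : ∀ γ β (h : γ ≤ β), res K h j (x β) = x γ) :
    ∃ z : (limit K).X j, ∀ β, ((limit.π K (op β)).f j).hom z = x β := by
  have hc := isLimitOfPreserves (forget AddCommGrpCat.{w}) (coneAtIsLimit K j)
  let s : ((K ⋙ HomologicalComplex.eval _ _ j) ⋙ forget AddCommGrpCat.{w}).sections :=
    ⟨fun b => x b.unop, by
      intro b b' f
      have := hx b'.unop b.unop (leOfHom f.unop)
      simp only [Functor.comp_map]
      rw [map_eq K f]
      exact this⟩
  refine ⟨(Types.isLimitEquivSections hc).symm s, fun β => ?_⟩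
  exact Types.isLimitEquivSections_symm_apply hc s (op β)

end Groth.Agent.H9.TML3

namespace Groth.Agent.H9.TML3

open Groth.Agent.H9.TML1 Groth.Agent.H9.TML2

variable {I : Type w} [LinearOrder I] [WellFoundedLT I]
  (K : Iᵒᵖ ⥤ CochainComplex AddCommGrpCat.{w} ℤ)

theorem main
    (hac : ∀ (β : I) (n : ℤ), (K.obj (op β)).ExactAt n)
    (hsurj : ∀ (β : I) (n : ℤ) (x : ∀ γ : {γ : I // γ < β}, (K.obj (op γ.1)).X n),
      (∀ (γ γ' : {γ : I // γ < β}) (h : γ.1 ≤ γ'.1),
        ((K.map (homOfLE h).op).f n).hom (x γ') = x γ) →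
      ∃ y : (K.obj (op β)).X n, ∀ γ : {γ : I // γ < β},
        ((K.map (homOfLE γ.2.le).op).f n).hom y = x γ)
    (n : ℤ) : (limit K).ExactAt n := by
  have hex : ∀ (β : I) (i j k : ℤ), i + 1 = j → j + 1 = k → ∀ x : (K.obj (op β)).X j,
      dd K β j k x = 0 → ∃ y : (K.obj (op β)).X i, dd K β i j y = x := by
    intro β i j k hij hjk x hx
    have h1 := hac β j
    rw [(K.obj (op β)).exactAt_iff' i j k (by simp; omega) (by simp; omega),
      ShortComplex.ab_exact_iff] at h1
    exact h1 x hx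
  have hs : ∀ (β : I) (i : ℤ) (x : ∀ γ, (K.obj (op γ)).X i), CompatOn K (· < β) i x →
      ∃ y : (K.obj (op β)).X i, ∀ γ (h : γ < β), res K h.le i y = x γ := by
    intro β i x hxc
    obtain ⟨y, hy⟩ := hsurj β i (fun γ => x γ.1) (fun γ γ' h => hxc γ.1 γ'.1 h γ'.2)
    exact ⟨y, fun γ h => hy ⟨γ, h⟩⟩
  rw [(limit K).exactAt_iff' (n - 1) n (n + 1) (by simp) (by simp), ShortComplex.ab_exact_iff]
  intro (z : (limit K).X n) (hz : ((limit K).d n (n + 1)).hom z = 0)
  have hπ : ∀ γ β (h : γ ≤ β) (j : ℤ) (t : (limit K).X j),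
      res K h j (((limit.π K (op β)).f j).hom t) = ((limit.π K (op γ)).f j).hom t := by
    intro γ β h j t
    have := limit.w K (homOfLE h).op
    rw [← this]; rfl
  have hπd : ∀ β (i j : ℤ) (t : (limit K).X i),
      ((limit.π K (op β)).f j).hom (((limit K).d i j).hom t) =
        dd K β i j (((limit.π K (op β)).f i).hom t) := by
    intro β i j t
    have := (limit.π K (op β)).comm i j
    exact (ConcreteCategory.congr_hom this t).symm
  obtain ⟨y, hyc, hyd⟩ := total K hex hs (n - 1) n (n + 1) (by ring) rfl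
    (fun β => ((limit.π K (op β)).f n).hom z) (fun γ β h => hπ γ β h n z)
    (fun β => by
      rw [← hπd, hz, map_zero])
  obtain ⟨y', hy'⟩ := lim_exists K (n - 1) y hyc
  refine ⟨y', ?_⟩
  show ((limit K).d (n - 1) n).hom y' = z
  refine lim_ext K n _ _ fun β => ?_
  have h1 : ((limit.π K (op β)).f n).hom (((limit K).d (n - 1) n).hom y') =
      ((limit.π K (op β)).f n).hom z := by
    rw [hπd, hy' β, hyd β]
  exact h1

end Groth.Agent.H9.TML3
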