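import Mathlib
import Groth.Prelude.Def_AlgGrp
import Groth.Agent.Lib.Helper9.Misc.TOR2

/-! Helper9: morphism from a one-point scheme with a section is universally injective; S16676. -/

set_option linter.style.haveILetI false
set_option linter.unusedSectionVars false

namespace Groth.Agent.H9.TOR

universe u

open CategoryTheory CategoryTheory.Limits AlgebraicGeometry MonoidalCategory
  CartesianMonoidalCategory MonObj

/-- A morphism from a one-point scheme admitting a section is universally injective. -/
theorem universallyInjective_of_section {X Y : Scheme.{u}} (h : X ⟶ Y) (e : Y ⟶ X)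
    (he : e ≫ h = 𝟙 Y) [Subsingleton X] : UniversallyInjective h := by
  have tf := (tfae_universallyInjective h).out 0 2
  rw [tf]
  refine ⟨fun a b _ => Subsingleton.elim a b, fun x => ?_⟩
  have hx : e (h x) = x := Subsingleton.elim _ _
  have h1 := Scheme.residueFieldMap_comp e h (h x)
  have h2 := Scheme.Hom.residueFieldMap_congr he (h x)
  have h3 : Function.Surjective (h.residueFieldMap (e (h x))).hom := by
    intro y
    have hb : Function.Bijective ((e ≫ h).residueFieldMap (h x)).hom := by
      have : IsIso ((e ≫ h).residueFieldMap (h x)) := by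
        rw [h2]
        infer_instance
      exact (ConcreteCategory.bijective_of_isIso _)
    obtain ⟨z, hz⟩ := hb.2 ((e.residueFieldMap (h x)).hom y)
    refine ⟨z, ?_⟩
    apply (e.residueFieldMap (h x)).hom.injective
    rw [← hz, h1]
    rfl
  have h4 := Scheme.Hom.residueFieldMap_congr' (f := h) hx
  have h5 : h.residueFieldMap x = (Y.residueFieldCongr (congrArg h hx)).inv ≫
      h.residueFieldMap (e (h x)) ≫ (X.residueFieldCongr hx).hom := by
    rw [h4, Iso.inv_hom_id_assoc]
  have h6 : Function.Surjective (h.residueFieldMap x).hom := by
    rw [h5]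
    simp only [CommRingCat.hom_comp, RingHom.coe_comp]
    refine Function.Surjective.comp (Function.Surjective.comp ?_ h3) ?_
    · exact (ConcreteCategory.bijective_of_isIso (X.residueFieldCongr hx).hom).2
    · exact (ConcreteCategory.bijective_of_isIso (Y.residueFieldCongr (congrArg h hx)).inv).2
  rw [RingHom.IsPurelyInseparable]
  letI := (h.residueFieldMap x).hom.toAlgebra
  rw [isPurelyInseparable_iff]
  intro y
  obtain ⟨z, rfl⟩ := h6 y
  exact ⟨isIntegral_algebraMap, fun _ => ⟨z, rfl⟩⟩

theorem S16676_main (k : Type u) [Field k]
    (X Y : Over (Spec (CommRingCat.of k)))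
    [GrpObj X] [GrpObj Y]
    (f : X ⟶ Y) [IsMonHom f] [IsFinite f.left] [Flat f.left] [Surjective f.left]
    (N : Over (Spec (CommRingCat.of k))) (i : N ⟶ X) (hN : AlgGrp.IsKernel i f) :
    UniversallyInjective f.left ↔ ConnectedSpace ↥N.left := by
  rw [iff_of_kernel @UniversallyInjective f i hN]
  -- the unit section of `N`
  let e : 𝟙_ (Over (Spec (CommRingCat.of k))) ⟶ N :=
    hN.lift η[X] (toUnit _) (by
      rw [IsMonHom.one_hom, toUnit_unique (toUnit (𝟙_ _)) (𝟙 _), Category.id_comp])
  have he : e.left ≫ N.hom = 𝟙 _ := Over.w e
  have sq := IsPullback.map (Over.forget _) hN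
  simp only [Over.forget_obj, Over.forget_map] at sq
  rw [toUnit_left] at sq
  have hfin : IsFinite N.hom := MorphismProperty.of_isPullback (P := @IsFinite) sq inferInstance
  have hne : Nonempty (Spec (CommRingCat.of k)) := inferInstance
  have : Nonempty N.left := ⟨e.left hne.some⟩
  constructor
  · intro h
    have : Subsingleton N.left := N.hom.injective.subsingleton
    exact ConnectedSpace.mk inferInstance
  · intro h
    have : IsLocallyArtinian N.left := IsLocallyArtinian.of_locallyQuasiFinite N.hom
    have : Subsingleton N.left := PreconnectedSpace.trivial_of_discrete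
    exact universallyInjective_of_section N.hom e.left he

end Groth.Agent.H9.TOR
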