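import Mathlib

set_option autoImplicit false
set_option linter.style.haveILetI false
set_option linter.unusedSectionVars false
set_option linter.unusedVariables false

namespace Groth.Agent.H9.TORU

open AddMonoidAlgebra

/-- Units of a group algebra `A[G]` over a domain, `G` with two unique sums, are monomials. -/
theorem exists_single_of_mul_eq_one {A G : Type*} [CommRing A] [IsDomain A] [AddCommGroup G]
    [TwoUniqueSums G] (f g : AddMonoidAlgebra A G) (h : f * g = 1) :
    ∃ (a : G) (c : A), IsUnit c ∧ f = single a c := by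
  classical
  have hf0 : f ≠ 0 := by rintro rfl; simp at h
  have hg0 : g ≠ 0 := by rintro rfl; simp at h
  have hfs : f.coeff.support.Nonempty := by
    rw [Finsupp.support_nonempty_iff]; simpa [← AddMonoidAlgebra.coeff_eq_zero] using hf0
  have hgs : g.coeff.support.Nonempty := by
    rw [Finsupp.support_nonempty_iff]; simpa [← AddMonoidAlgebra.coeff_eq_zero] using hg0
  have hone : ∀ x : G, (1 : AddMonoidAlgebra A G).coeff x ≠ 0 → x = 0 := by
    intro x hx
    by_contra hne
    apply hx
    rw [AddMonoidAlgebra.one_def, AddMonoidAlgebra.coeff_single, Finsupp.single_apply, if_neg]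
    exact fun h0 => hne h0.symm
  have hcard : ¬ 1 < f.coeff.support.card * g.coeff.support.card := by
    intro hlt
    obtain ⟨p1, hp1, p2, hp2, hne, hu1, hu2⟩ := TwoUniqueSums.uniqueAdd_of_one_lt_card hlt
    rw [Finset.mem_product] at hp1 hp2
    have h1 : (f * g).coeff (p1.1 + p1.2) ≠ 0 := by
      rw [AddMonoidAlgebra.coeff_mul_add_of_uniqueAdd hu1]
      exact mul_ne_zero (Finsupp.mem_support_iff.mp hp1.1) (Finsupp.mem_support_iff.mp hp1.2)
    have h2 : (f * g).coeff (p2.1 + p2.2) ≠ 0 := by
      rw [AddMonoidAlgebra.coeff_mul_add_of_uniqueAdd hu2]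
      exact mul_ne_zero (Finsupp.mem_support_iff.mp hp2.1) (Finsupp.mem_support_iff.mp hp2.2)
    rw [h] at h1 h2
    have e1 := hone _ h1
    have e2 := hone _ h2
    have := hu1 hp2.1 hp2.2 (e2.trans e1.symm)
    exact hne (Prod.ext this.1.symm this.2.symm)
  have hcf : f.coeff.support.card = 1 := by
    have h1 := Finset.card_pos.mpr hfs
    have h2 := Finset.card_pos.mpr hgs
    by_contra hne
    apply hcard
    have : 2 ≤ f.coeff.support.card := by omega
    calc 1 < 2 * 1 := by norm_num
      _ ≤ f.coeff.support.card * g.coeff.support.card := Nat.mul_le_mul this h2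
  have hcg : g.coeff.support.card = 1 := by
    have h1 := Finset.card_pos.mpr hfs
    have h2 := Finset.card_pos.mpr hgs
    by_contra hne
    apply hcard
    have : 2 ≤ g.coeff.support.card := by omega
    calc 1 < 1 * 2 := by norm_num
      _ ≤ f.coeff.support.card * g.coeff.support.card := Nat.mul_le_mul h1 this
  obtain ⟨a, ha⟩ := Finset.card_eq_one.mp hcf
  obtain ⟨b, hb⟩ := Finset.card_eq_one.mp hcg
  have hfa : f = single a (f.coeff a) := by
    have := (Finsupp.support_eq_singleton.mp ha).2
    apply AddMonoidAlgebra.coeff_injective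
    rw [AddMonoidAlgebra.coeff_single]
    exact this
  have hgb : g = single b (g.coeff b) := by
    have := (Finsupp.support_eq_singleton.mp hb).2
    apply AddMonoidAlgebra.coeff_injective
    rw [AddMonoidAlgebra.coeff_single]
    exact this
  refine ⟨a, f.coeff a, ?_, hfa⟩
  have hprod : single (a + b) (f.coeff a * g.coeff b) = (1 : AddMonoidAlgebra A G) := by
    rw [← h]
    conv_rhs => rw [hfa, hgb]
    rw [AddMonoidAlgebra.single_mul_single]
  have hcoef := congrArg (fun z => AddMonoidAlgebra.coeff z (a + b)) hprod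
  simp only [AddMonoidAlgebra.coeff_single, Finsupp.single_eq_same] at hcoef
  have hne : (1 : AddMonoidAlgebra A G).coeff (a + b) ≠ 0 := by
    rw [← hcoef]
    exact mul_ne_zero (Finsupp.mem_support_iff.mp (ha ▸ Finset.mem_singleton_self a))
      (Finsupp.mem_support_iff.mp (hb ▸ Finset.mem_singleton_self b))
  have hab := hone _ hne
  rw [hab, AddMonoidAlgebra.one_def, AddMonoidAlgebra.coeff_single, Finsupp.single_eq_same] at hcoef
  exact IsUnit.of_mul_eq_one _ hcoef

end Groth.Agent.H9.TORU
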