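import Mathlib
import Groth.Agent.Lib.Helper9.Misc.TORU1

set_option autoImplicit false
set_option linter.style.haveILetI false
set_option linter.unusedSectionVars false
set_option linter.unusedVariables false

universe u

namespace Groth.Agent.H9.TORU

open CategoryTheory Limits AlgebraicGeometry AddMonoidAlgebra

/-- the ring of the split torus -/
noncomputable abbrev BB (n : ℕ) : CommRingCat.{u} :=
  CommRingCat.of (ULift.{u} (AddMonoidAlgebra ℤ (Fin n → ℤ)))

/-- the character `t^e` as a global function on the torus -/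
noncomputable def τ (n : ℕ) (e : Fin n → ℤ) : Γ(Spec (BB.{u} n), ⊤) :=
  (Scheme.ΓSpecIso (BB.{u} n)).inv (ULift.up (AddMonoidAlgebra.single e 1))

theorem τ_add (n : ℕ) (e e' : Fin n → ℤ) : τ.{u} n (e + e') = τ n e * τ n e' := by
  unfold τ
  rw [← map_mul]
  congr 1
  apply ULift.ext
  simp [AddMonoidAlgebra.single_mul_single]

theorem τ_zero (n : ℕ) : τ.{u} n 0 = 1 := by
  unfold τ
  rw [← map_one (Scheme.ΓSpecIso (BB.{u} n)).inv.hom]
  congr 1

/-- ring homs out of `Γ(Spec (ULift ℤ), ⊤)` are unique -/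
theorem hom_ext_specZ {R : CommRingCat.{u}}
    (φ ψ : Γ(Spec (CommRingCat.of (ULift.{u} ℤ)), ⊤) ⟶ R) : φ = ψ := by
  have key : ∀ (a b : CommRingCat.of (ULift.{u} ℤ) ⟶ R), a = b := by
    intro a b
    ext x
    obtain ⟨k⟩ := x
    have hk : (ULift.up k : ULift.{u} ℤ) = ((k : ℤ) : ULift.{u} ℤ) := by
      apply ULift.ext
      simp
    change a.hom (ULift.up k) = b.hom (ULift.up k)
    rw [hk, map_intCast, map_intCast]
  have h1 := key ((Scheme.ΓSpecIso _).inv ≫ φ) ((Scheme.ΓSpecIso _).inv ≫ ψ)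
  exact (cancel_epi (Scheme.ΓSpecIso _).inv).mp h1


section Chart

variable (X : Scheme.{u}) (n : ℕ)

/-- the product `X × 𝔾_mⁿ` -/
noncomputable abbrev YY : Scheme.{u} := X ⨯ Spec (BB.{u} n)

noncomputable abbrev pfst : YY X n ⟶ X := prod.fst
noncomputable abbrev psnd : YY X n ⟶ Spec (BB.{u} n) := prod.snd

theorem isPullback_YY :
    IsPullback (pfst X n) (psnd X n) (specULiftZIsTerminal.{u}.from X)
      (specULiftZIsTerminal.{u}.from (Spec (BB.{u} n))) :=
  IsPullback.of_is_product' (prodIsProd X (Spec (BB.{u} n))) specULiftZIsTerminal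

/-- the chart lemma: injective comparison map to the group algebra -/
theorem exists_chart (U : X.Opens) (hU : IsAffineOpen U) (W : (YY X n).Opens)
    (hW : W = (pfst X n) ⁻¹ᵁ U ⊓ (psnd X n) ⁻¹ᵁ ⊤)
    (hWU : W ≤ (pfst X n) ⁻¹ᵁ U) (hWT : W ≤ (psnd X n) ⁻¹ᵁ ⊤) :
    ∃ Ψ : Γ(YY X n, W) →+* AddMonoidAlgebra Γ(X, U) (Fin n → ℤ),
      Function.Injective Ψ ∧
      (∀ a : Γ(X, U), Ψ ((pfst X n).appLE U W hWU a) = single 0 a) ∧
      (∀ e : Fin n → ℤ, Ψ ((psnd X n).appLE ⊤ W hWT (τ n e)) = single e 1) := by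
  have H := isPullback_YY X n
  have hUS : IsAffineOpen (⊤ : (Spec (CommRingCat.of (ULift.{u} ℤ))).Opens) := isAffineOpen_top _
  have hUT : IsAffineOpen (⊤ : (Spec (BB.{u} n)).Opens) := isAffineOpen_top _
  have hiso := isIso_pushoutSection_of_isAffineOpen H (US := ⊤) (UT := ⊤) (UX := U)
    le_top le_top hW hUS hUT hU
  have po := (isIso_pushoutSection_iff H (US := ⊤) (UT := ⊤) (UX := U) le_top le_top hW).mp hiso
  -- the model
  let A := Γ(X, U)
  let α : Γ(X, U) ⟶ CommRingCat.of (AddMonoidAlgebra A (Fin n → ℤ)) :=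
    CommRingCat.ofHom singleZeroRingHom
  let β : Γ(Spec (BB.{u} n), ⊤) ⟶ CommRingCat.of (AddMonoidAlgebra A (Fin n → ℤ)) :=
    (Scheme.ΓSpecIso (BB.{u} n)).hom ≫
      CommRingCat.ofHom ((AddMonoidAlgebra.mapRingHom (Fin n → ℤ) (Int.castRingHom A)).comp
        (ULift.ringEquiv : ULift.{u} (AddMonoidAlgebra ℤ (Fin n → ℤ)) ≃+* _).toRingHom)
  let Ψc := po.desc α β (hom_ext_specZ _ _)
  have hΨα : (pfst X n).appLE U W _ ≫ Ψc = α := po.inl_desc _ _ _
  have hΨβ : (psnd X n).appLE ⊤ W _ ≫ Ψc = β := po.inr_desc _ _ _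
  have hβτ : ∀ e : Fin n → ℤ, β.hom (τ n e) = single e 1 := by
    intro e
    simp only [β, τ, CommRingCat.hom_comp, RingHom.comp_apply, CommRingCat.hom_ofHom]
    have : (Scheme.ΓSpecIso (BB.{u} n)).hom.hom
        ((Scheme.ΓSpecIso (BB.{u} n)).inv.hom (ULift.up (single e 1))) = ULift.up (single e 1) := by
      have := congrArg (fun f => f.hom (ULift.up (single e (1 : ℤ))))
        (Scheme.ΓSpecIso (BB.{u} n)).inv_hom_id
      simpa using this
    rw [this]
    show (mapRingHom (Fin n → ℤ) (Int.castRingHom A)) (single e 1) = single e 1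
    rw [AddMonoidAlgebra.mapRingHom_single]
    simp
  -- the inverse direction
  let gmon : Multiplicative (Fin n → ℤ) →* Γ(YY X n, W) :=
    { toFun := fun e => (psnd X n).appLE ⊤ W hWT (τ n e.toAdd)
      map_one' := by
        show (psnd X n).appLE ⊤ W hWT (τ n 0) = 1
        rw [τ_zero, map_one]
      map_mul' := by
        intro e e'
        show (psnd X n).appLE ⊤ W hWT (τ n (e.toAdd + e'.toAdd)) = _
        rw [τ_add, map_mul] }
  let Φ : AddMonoidAlgebra A (Fin n → ℤ) →+* Γ(YY X n, W) :=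
    AddMonoidAlgebra.liftNCRingHom ((pfst X n).appLE U W hWU).hom gmon
      (fun x y => Commute.all _ _)
  have hΦΨ : Ψc ≫ CommRingCat.ofHom Φ = 𝟙 _ := by
    apply po.hom_ext
    · rw [← Category.assoc, hΨα, Category.comp_id]
      ext a
      simp only [α, CommRingCat.hom_comp, CommRingCat.hom_ofHom, RingHom.comp_apply, Φ]
      show AddMonoidAlgebra.liftNCRingHom _ gmon _ (single 0 a) = _
      rw [AddMonoidAlgebra.liftNCRingHom_single]
      simp [gmon, τ_zero]
    · rw [← Category.assoc, hΨβ, Category.comp_id]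
      -- compare on the torus ring
      have key : ∀ (φ ψ : Γ(Spec (BB.{u} n), ⊤) ⟶ Γ(YY X n, W)),
          (∀ e : Fin n → ℤ, φ.hom (τ n e) = ψ.hom (τ n e)) → φ = ψ := by
        intro φ ψ hφψ
        rw [← cancel_epi (Scheme.ΓSpecIso (BB.{u} n)).inv]
        ext x
        obtain ⟨x⟩ := x
        let φ' : AddMonoidAlgebra ℤ (Fin n → ℤ) →+* Γ(YY X n, W) :=
          (((Scheme.ΓSpecIso (BB.{u} n)).inv ≫ φ).hom).comp
            (ULift.ringEquiv : ULift.{u} (AddMonoidAlgebra ℤ (Fin n → ℤ)) ≃+* _).symm.toRingHom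
        let ψ' : AddMonoidAlgebra ℤ (Fin n → ℤ) →+* Γ(YY X n, W) :=
          (((Scheme.ΓSpecIso (BB.{u} n)).inv ≫ ψ).hom).comp
            (ULift.ringEquiv : ULift.{u} (AddMonoidAlgebra ℤ (Fin n → ℤ)) ≃+* _).symm.toRingHom
        have : φ' = ψ' := by
          apply AddMonoidAlgebra.ringHom_ext
          · intro r
            have hr : (single (0 : Fin n → ℤ) r : AddMonoidAlgebra ℤ (Fin n → ℤ)) =
                ((r : ℤ) : AddMonoidAlgebra ℤ (Fin n → ℤ)) := by
              rw [AddMonoidAlgebra.intCast_def, Int.cast_id]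
            rw [hr, map_intCast, map_intCast]
          · intro e
            exact hφψ e
        exact congrArg (fun f => f x) this
      apply key
      intro e
      rw [CommRingCat.hom_comp, RingHom.comp_apply, hβτ]
      simp only [CommRingCat.hom_ofHom, Φ]
      rw [AddMonoidAlgebra.liftNCRingHom_single]
      simp [gmon]
  refine ⟨Ψc.hom, ?_, ?_, ?_⟩
  · intro x y hxy
    have h1 : ∀ z, Φ (Ψc.hom z) = z := by
      intro z
      have := congrArg (fun f => f.hom z) hΦΨ
      simpa using this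
    rw [← h1 x, ← h1 y, hxy]
  · intro a
    have := congrArg (fun f => f.hom a) hΨα
    simpa [α] using this
  · intro e
    have := congrArg (fun f => f.hom (τ n e)) hΨβ
    simp only [CommRingCat.hom_comp, RingHom.comp_apply] at this
    rw [this, hβτ]


/-- the open `fst⁻¹ U` -/
noncomputable abbrev WW (U : X.Opens) : (YY X n).Opens := (pfst X n) ⁻¹ᵁ U

theorem hWW (U : X.Opens) : WW X n U = (pfst X n) ⁻¹ᵁ U ⊓ (psnd X n) ⁻¹ᵁ ⊤ := by
  simp

/-- the monomial function `fst^*(c) · snd^*(t^e)` on `fst⁻¹ U` -/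
noncomputable def mono (U : X.Opens) (c : Γ(X, U)) (e : Fin n → ℤ) : Γ(YY X n, WW X n U) :=
  (pfst X n).appLE U (WW X n U) le_rfl c * (psnd X n).appLE ⊤ (WW X n U) le_top (τ n e)

theorem mono_res (U U' : X.Opens) (hle : U' ≤ U) (c : Γ(X, U)) (e : Fin n → ℤ) :
    (YY X n).presheaf.map (homOfLE (show WW X n U' ≤ WW X n U from
      ((TopologicalSpace.Opens.map (pfst X n).base).map (homOfLE hle)).le)).op (mono X n U c e) =
    mono X n U' (X.presheaf.map (homOfLE hle).op c) e := by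
  unfold mono
  rw [map_mul]
  congr 1
  · rw [← CommRingCat.comp_apply, Scheme.Hom.appLE_map, ← CommRingCat.comp_apply,
      Scheme.Hom.map_appLE]
  · rw [← CommRingCat.comp_apply, Scheme.Hom.appLE_map]

theorem chart_units (U : X.Opens) (hU : IsAffineOpen U) [IsDomain Γ(X, U)]
    (w : Γ(YY X n, WW X n U)) (hw : IsUnit w) :
    ∃! p : (Γ(X, U))ˣ × (Fin n → ℤ), w = mono X n U (p.1 : Γ(X, U)) p.2 := by
  obtain ⟨Ψ, hinj, hΨ1, hΨ2⟩ := exists_chart X n U hU (WW X n U) (hWW X n U) le_rfl le_top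
  have hΨmono : ∀ (c : Γ(X, U)) (e : Fin n → ℤ), Ψ (mono X n U c e) = single e c := by
    intro c e
    unfold mono
    rw [map_mul, hΨ1, hΨ2, AddMonoidAlgebra.single_mul_single, zero_add, mul_one]
  obtain ⟨w', hww'⟩ := hw.exists_right_inv
  have h1 : Ψ w * Ψ w' = 1 := by rw [← map_mul, hww', map_one]
  obtain ⟨e, c, hc, hwe⟩ := exists_single_of_mul_eq_one (Ψ w) (Ψ w') h1
  refine ⟨(hc.unit, e), ?_, ?_⟩
  · apply hinj
    rw [hΨmono, hwe]
    rfl
  · rintro ⟨c', e'⟩ hp
    have h2 : Ψ w = single e' (c' : Γ(X, U)) := by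
      rw [hp, hΨmono]
    rw [hwe, AddMonoidAlgebra.single_inj] at h2
    rcases h2 with ⟨h3, h4⟩ | ⟨h3, h4⟩
    · refine Prod.ext (Units.ext ?_) h3.symm
      simpa using h4.symm
    · exact absurd h4 c'.ne_zero

end Chart

end Groth.Agent.H9.TORU
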