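import Mathlib
import Groth.Agent.Lib.Helper9.Misc.TORU2

set_option autoImplicit false
set_option linter.style.haveILetI false
set_option linter.unusedSectionVars false
set_option linter.unusedVariables false

universe u

namespace Groth.Agent.H9.TORU

open CategoryTheory Limits AlgebraicGeometry AddMonoidAlgebra TopologicalSpace

section Global
variable (X : Scheme.{u}) [IsIntegral X] (n : ℕ)

/-- nonempty affine opens -/
def Idx : Type u := {U : X.Opens // IsAffineOpen U ∧ Nonempty U}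

variable {X}

theorem exists_idx_le (x : X) (V : X.Opens) (hx : x ∈ V) : ∃ i : Idx X, x ∈ i.1 ∧ i.1 ≤ V := by
  obtain ⟨U, hU, hxU, hUV⟩ := Opens.isBasis_iff_nbhd.mp X.isBasis_affineOpens hx
  exact ⟨⟨U, hU, ⟨⟨x, hxU⟩⟩⟩, hxU, hUV⟩

theorem exists_idx_inf (i j : Idx X) : ∃ k : Idx X, k.1 ≤ i.1 ⊓ j.1 := by
  obtain ⟨⟨x, hx⟩⟩ := i.2.2
  obtain ⟨⟨y, hy⟩⟩ := j.2.2
  obtain ⟨z, hz1, hz2⟩ := nonempty_preirreducible_inter i.1.2 j.1.2 ⟨x, hx⟩ ⟨y, hy⟩
  obtain ⟨k, _, hk⟩ := exists_idx_le z (i.1 ⊓ j.1) ⟨hz1, hz2⟩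
  exact ⟨k, hk⟩

instance (i : Idx X) : Nonempty i.1 := i.2.2
instance (i : Idx X) : IsDomain Γ(X, i.1) := IsIntegral.component_integral i.1

variable (X)

theorem cover_X : (⊤ : X.Opens) ≤ ⨆ i : Idx X, i.1 := by
  intro x _
  obtain ⟨i, hxi, _⟩ := exists_idx_le x ⊤ trivial
  exact Opens.mem_iSup.mpr ⟨i, hxi⟩

theorem cover_Y : (⊤ : (YY X n).Opens) ≤ ⨆ i : Idx X, WW X n i.1 := by
  intro y _
  obtain ⟨i, hxi, _⟩ := exists_idx_le ((pfst X n).base y) ⊤ trivial
  exact Opens.mem_iSup.mpr ⟨i, hxi⟩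

/-- restriction of a global function to `fst⁻¹ U` -/
noncomputable abbrev resY (U : X.Opens) (v : Γ(YY X n, ⊤)) : Γ(YY X n, WW X n U) :=
  (YY X n).presheaf.map (homOfLE (le_top : WW X n U ≤ ⊤)).op v

theorem resY_res (U U' : X.Opens) (hle : U' ≤ U) (v : Γ(YY X n, ⊤)) :
    (YY X n).presheaf.map (homOfLE (show WW X n U' ≤ WW X n U from
      ((Opens.map (pfst X n).base).map (homOfLE hle)).le)).op (resY X n U v) = resY X n U' v := by
  unfold resY
  rw [← CommRingCat.comp_apply, ← Functor.map_comp]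
  rfl

theorem resY_mono (U : X.Opens) (c : Γ(X, ⊤)) (e : Fin n → ℤ) :
    resY X n U ((pfst X n).appTop c * (psnd X n).appTop (τ n e)) =
      mono X n U (X.presheaf.map (homOfLE (le_top : U ≤ ⊤)).op c) e := by
  unfold resY mono
  rw [map_mul]
  congr 1
  · rw [← CommRingCat.comp_apply (X.presheaf.map _), Scheme.Hom.map_appLE]
    rfl

/-- local data attached to a global unit -/
theorem local_data (v : Γ(YY X n, ⊤)) (hv : IsUnit v) (i : Idx X) :
    ∃! p : (Γ(X, i.1))ˣ × (Fin n → ℤ), resY X n i.1 v = mono X n i.1 (p.1 : Γ(X, i.1)) p.2 :=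
  chart_units X n i.1 i.2.1 (resY X n i.1 v) (hv.map _)

theorem local_compat (v : Γ(YY X n, ⊤)) (i j : Idx X) (hle : j.1 ≤ i.1)
    (p : (Γ(X, i.1))ˣ × (Fin n → ℤ)) (hp : resY X n i.1 v = mono X n i.1 (p.1 : Γ(X, i.1)) p.2) :
    resY X n j.1 v = mono X n j.1
      ((Units.map (X.presheaf.map (homOfLE hle).op).hom.toMonoidHom p.1 : (Γ(X, j.1))ˣ) : Γ(X, j.1))
      p.2 := by
  rw [← resY_res X n i.1 j.1 hle, hp, mono_res]
  rfl

theorem main (v : Γ(YY X n, ⊤)) (hv : IsUnit v) :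
    ∃! p : (Γ(X, ⊤))ˣ × (Fin n → ℤ),
      v = (pfst X n).appTop (p.1 : Γ(X, ⊤)) * (psnd X n).appTop (τ n p.2) := by
  classical
  choose p hp hpu using local_data X n v hv
  -- compatibility
  have hcompat : ∀ (i j : Idx X) (hle : j.1 ≤ i.1),
      p j = (Units.map (X.presheaf.map (homOfLE hle).op).hom.toMonoidHom (p i).1, (p i).2) := by
    intro i j hle
    exact (hpu j _ (local_compat X n v i j hle (p i) (hp i))).symm
  -- a base index
  obtain ⟨x₀⟩ : Nonempty X := inferInstance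
  obtain ⟨i₀, _, _⟩ := exists_idx_le x₀ ⊤ trivial
  set e₀ : Fin n → ℤ := (p i₀).2 with he₀
  have he : ∀ i : Idx X, (p i).2 = e₀ := by
    intro i
    obtain ⟨k, hk⟩ := exists_idx_inf i i₀
    have h1 := congrArg Prod.snd (hcompat i k (hk.trans inf_le_left))
    have h2 := congrArg Prod.snd (hcompat i₀ k (hk.trans inf_le_right))
    simp only at h1 h2
    rw [← h1, h2]
  -- gluing
  have hglue : TopCat.Presheaf.IsCompatible X.sheaf.1 (fun i : Idx X => i.1)
      (fun i => ((p i).1 : Γ(X, i.1))) := by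
    intro i j
    obtain ⟨k, hk⟩ := exists_idx_inf i j
    apply map_injective_of_isIntegral X (homOfLE hk)
    have h1 := congrArg (fun q => (q.1 : Γ(X, k.1))) (hcompat i k (hk.trans inf_le_left))
    have h2 := congrArg (fun q => (q.1 : Γ(X, k.1))) (hcompat j k (hk.trans inf_le_right))
    simp only [Units.coe_map, RingHom.toMonoidHom_eq_coe, MonoidHom.coe_coe] at h1 h2
    show X.presheaf.map (homOfLE hk).op (X.presheaf.map (Opens.infLELeft i.1 j.1).op _) =
      X.presheaf.map (homOfLE hk).op (X.presheaf.map (Opens.infLERight i.1 j.1).op _)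
    rw [← CommRingCat.comp_apply, ← CommRingCat.comp_apply, ← Functor.map_comp,
      ← Functor.map_comp]
    exact h1.symm.trans h2
  obtain ⟨c, hc, hcu⟩ := X.sheaf.existsUnique_gluing' (fun i : Idx X => i.1) ⊤
    (fun i => homOfLE le_top) (cover_X X) (fun i => ((p i).1 : Γ(X, i.1))) hglue
  -- `c` is a unit
  have hcunit : IsUnit c := by
    apply X.toRingedSpace.isUnit_of_isUnit_germ ⊤ c
    intro x hx
    obtain ⟨i, hxi, _⟩ := exists_idx_le x ⊤ trivial
    have h1 : X.presheaf.germ ⊤ x hx c = X.presheaf.germ i.1 x hxi ((p i).1 : Γ(X, i.1)) := by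
      rw [← hc i]
      exact (TopCat.Presheaf.germ_res_apply X.presheaf (homOfLE le_top) x hxi c).symm
    rw [show X.toRingedSpace.presheaf.germ ⊤ x hx c = X.presheaf.germ ⊤ x hx c from rfl, h1]
    exact (p i).1.isUnit.map _
  -- the formula
  have hformula : ∀ (c' : Γ(X, ⊤)) (e' : Fin n → ℤ),
      (∀ i : Idx X, X.presheaf.map (homOfLE (le_top : i.1 ≤ ⊤)).op c' = ((p i).1 : Γ(X, i.1))) →
      e' = e₀ → v = (pfst X n).appTop c' * (psnd X n).appTop (τ n e') := by
    intro c' e' hc' he'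
    apply (YY X n).sheaf.eq_of_locally_eq' (fun i : Idx X => WW X n i.1) ⊤
      (fun i => homOfLE le_top) (cover_Y X n)
    intro i
    show resY X n i.1 v = resY X n i.1 _
    rw [resY_mono, hc' i, he', ← he i]
    exact hp i
  refine ⟨(hcunit.unit, e₀), hformula c e₀ hc rfl, ?_⟩
  rintro ⟨c', e'⟩ hce
  -- uniqueness
  have hloc : ∀ i : Idx X,
      p i = (Units.map (X.presheaf.map (homOfLE (le_top : i.1 ≤ ⊤)).op).hom.toMonoidHom c', e') := by
    intro i
    refine (hpu i _ ?_).symm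
    have := congrArg (resY X n i.1) hce
    rw [resY_mono] at this
    exact this
  have he' : e' = e₀ := by
    have := congrArg Prod.snd (hloc i₀)
    simp only at this
    rw [he₀, this]
  have hc' : (c' : Γ(X, ⊤)) = c := by
    apply hcu
    intro i
    have := congrArg (fun q => (q.1 : Γ(X, i.1))) (hloc i)
    simp only [Units.coe_map, RingHom.toMonoidHom_eq_coe, MonoidHom.coe_coe] at this
    exact this.symm
  exact Prod.ext (Units.ext hc') he'

end Global

theorem S13798_main (X : Scheme.{u}) [IsIntegral X] (n : ℕ)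
    (v : Γ(X ⨯ Spec (CommRingCat.of (ULift.{u} (AddMonoidAlgebra ℤ (Fin n → ℤ)))), ⊤)) (hv : IsUnit v) :
    ∃! p : (Γ(X, ⊤))ˣ × (Fin n → ℤ),
      v = (prod.fst : X ⨯ Spec (CommRingCat.of (ULift.{u} (AddMonoidAlgebra ℤ (Fin n → ℤ)))) ⟶ X).appTop (p.1 : Γ(X, ⊤)) *
        (prod.snd : X ⨯ Spec (CommRingCat.of (ULift.{u} (AddMonoidAlgebra ℤ (Fin n → ℤ)))) ⟶ Spec (CommRingCat.of (ULift.{u} (AddMonoidAlgebra ℤ (Fin n → ℤ))))).appTop
          ((Scheme.ΓSpecIso (CommRingCat.of (ULift.{u} (AddMonoidAlgebra ℤ (Fin n → ℤ))))).inv (ULift.up (AddMonoidAlgebra.single p.2 1))) :=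
  main X n v hv

end Groth.Agent.H9.TORU
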