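import Mathlib
import Groth.Agent.Lib.Helper9.Misc.PLW2

/-! Helper9: top-degree alternating maps transform by the determinant -/
set_option linter.style.haveILetI false

namespace Groth.Agent.H9.TPA
open scoped TensorProduct
open Groth.Agent.H9.PLW

section alt
variable {S M N : Type*} [CommRing S] [AddCommGroup M] [Module S M] [AddCommGroup N] [Module S N]

/-- an alternating map of top degree transforms by the determinant -/
lemma alt_comp_det {d : ℕ} (e : Module.Basis (Fin d) S M) (g : M [⋀^Fin d]→ₗ[S] N)
    (f : M →ₗ[S] M) (w : Fin d → M) :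
    g (fun i => f (w i)) = LinearMap.det f • g w := by
  classical
  suffices h : g.compLinearMap f = LinearMap.det f • g by
    have := congrArg (fun a : M [⋀^Fin d]→ₗ[S] N => a w) h
    simpa using this
  refine Module.Basis.ext_alternating e fun v hv => ?_
  have hbij : Function.Bijective v := ⟨hv, Finite.injective_iff_surjective.mp hv⟩
  let σ : Equiv.Perm (Fin d) := Equiv.ofBijective v hbij
  have h1 : (fun i => e (v i)) = (⇑e) ∘ σ := rfl
  rw [h1, AlternatingMap.map_perm, AlternatingMap.map_perm]
  congr 1
  -- the identity on the basis itself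
  simp only [AlternatingMap.compLinearMap_apply, AlternatingMap.smul_apply]
  set Mx := LinearMap.toMatrix e e f with hMx
  have h2 : ∀ j, f (e j) = ∑ i, Mx i j • e i := by
    intro j
    rw [hMx]
    conv_lhs => rw [← e.sum_repr (f (e j))]
    refine Finset.sum_congr rfl fun i _ => ?_
    rw [LinearMap.toMatrix_apply]
  have h3 : (fun j => f (e j)) = fun j => ∑ i, Mx i j • e i := funext h2
  show g (fun j => f (e j)) = _
  rw [h3]
  have h4 := g.toMultilinearMap.map_sum (fun (j : Fin d) (i : Fin d) => Mx i j • e i)
  change g (fun j => ∑ i, Mx i j • e i) = _ at h4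
  rw [h4]
  have h5 : ∀ c : Fin d → Fin d, g.toMultilinearMap (fun j => Mx (c j) j • e (c j)) =
      if Function.Bijective c then (∏ j, Mx (c j) j) • g (fun j => e (c j)) else 0 := by
    intro c
    rw [MultilinearMap.map_smul_univ]
    split_ifs with hc
    · rfl
    · have : ¬ Function.Injective c := fun hi =>
        hc ⟨hi, Finite.injective_iff_surjective.mp hi⟩
      have h6 : g (fun j => e (c j)) = 0 :=
        g.map_eq_zero_of_not_injective _ (fun hi => this (Function.Injective.of_comp hi))
      show _ • g (fun j => e (c j)) = 0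
      rw [h6, smul_zero]
  simp only [h5]
  rw [sum_bijective (fun c : Fin d → Fin d => (∏ j, Mx (c j) j) • g (fun j => e (c j)))]
  have h7 : ∀ π : Equiv.Perm (Fin d), g (fun j => e (π j)) = Equiv.Perm.sign π • g e := by
    intro π
    exact g.map_perm e π
  simp only [h7]
  rw [← LinearMap.det_toMatrix e, ← hMx, Matrix.det_apply', Finset.sum_smul]
  refine Finset.sum_congr rfl fun π _ => ?_
  rw [Units.smul_def, ← Int.cast_smul_eq_zsmul S, smul_smul, mul_comm]

end alt

end Groth.Agent.H9.TPA
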