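import Mathlib
import Groth.Prelude.Def_W4c5normfunctorschNorm
import Groth.Agent.Lib.Helper9.Misc.TPA1

/-! Helper9: the S-multilinear tensor power map and its alternating quotient -/
set_option linter.style.haveILetI false

namespace Groth.Agent.H9.TPA
open scoped TensorProduct
open Groth.Agent.H9.PLW

universe u
variable (R R' : Type u) [CommRing R] [CommRing R'] [Algebra R R'] (d : ℕ)

/-- the tensor power -/
abbrev TT := ⨂[R] _ : Fin d, R'

/-- the top exterior power as a quotient of the tensor power -/
abbrev QQ := TT R R' d ⧸ SymTen.altSpan R R' d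

/-- the canonical alternating map into the quotient -/
noncomputable def altR : R' [⋀^Fin d]→ₗ[R] QQ R R' d :=
  { (SymTen.altSpan R R' d).mkQ.compMultilinearMap (PiTensorProduct.tprod R) with
    map_eq_zero_of_eq' := by
      intro v i j h hij
      show (SymTen.altSpan R R' d).mkQ (PiTensorProduct.tprod R v) = 0
      rw [Submodule.mkQ_apply, Submodule.Quotient.mk_eq_zero]
      exact Submodule.subset_span ⟨v, i, j, hij, h, rfl⟩ }

lemma altR_apply (v : Fin d → R') :
    altR R R' d v = (SymTen.altSpan R R' d).mkQ (PiTensorProduct.tprod R v) := rfl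

variable (S : Type u) [CommRing S] [Algebra R S]

/-- the `S`-multilinear tensor product map `(S ⊗ R')^d → S ⊗ T^d(R')` -/
noncomputable def muS : MultilinearMap S (fun _ : Fin d => S ⊗[R] R') (S ⊗[R] TT R R' d) :=
  (MultilinearMap.mkPiAlgebra S (Fin d) (S ⊗[R] TT R R' d)).compLinearMap
    (fun j => (Algebra.TensorProduct.map (AlgHom.id S S)
      (PiTensorProduct.singleAlgHom (R := R) (A := fun _ : Fin d => R') j)).toLinearMap)

lemma muS_apply (w : Fin d → S ⊗[R] R') :
    muS R R' d S w = ∏ j, Algebra.TensorProduct.map (AlgHom.id S S)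
      (PiTensorProduct.singleAlgHom (R := R) (A := fun _ : Fin d => R') j) (w j) := rfl

lemma prod_tmul {ι : Type*} (s : Finset ι) {X Y : Type*} [CommRing X] [Algebra R X] [CommRing Y] [Algebra R Y]
    (f : ι → X) (g : ι → Y) : ∏ j ∈ s, (f j ⊗ₜ[R] g j) = (∏ j ∈ s, f j) ⊗ₜ[R] (∏ j ∈ s, g j) := by
  classical
  induction s using Finset.induction_on with
  | empty => simp [Algebra.TensorProduct.one_def]
  | insert j s hj ih =>
    rw [Finset.prod_insert hj, Finset.prod_insert hj, Finset.prod_insert hj, ih,
      Algebra.TensorProduct.tmul_mul_tmul]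

lemma muS_tmul (s : Fin d → S) (b : Fin d → R') :
    muS R R' d S (fun j => s j ⊗ₜ[R] b j) = (∏ j, s j) ⊗ₜ[R] PiTensorProduct.tprod R b := by
  rw [muS_apply]
  simp only [Algebra.TensorProduct.map_tmul, AlgHom.id_apply]
  rw [prod_tmul]
  congr 1
  simp only [PiTensorProduct.singleAlgHom_apply, MonoidHom.mulSingle_apply]
  rw [← PiTensorProduct.tprod_prod]
  exact congrArg _ (Finset.univ_prod_mulSingle b)

/-- the `S`-multilinear map into `S ⊗ Λ^d` -/
noncomputable def GS : MultilinearMap S (fun _ : Fin d => S ⊗[R] R') (S ⊗[R] QQ R R' d) :=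
  ((SymTen.altSpan R R' d).mkQ.baseChange S).compMultilinearMap (muS R R' d S)

lemma GS_tmul (s : Fin d → S) (b : Fin d → R') :
    GS R R' d S (fun j => s j ⊗ₜ[R] b j) = (∏ j, s j) ⊗ₜ[R] altR R R' d b := by
  show (SymTen.altSpan R R' d).mkQ.baseChange S (muS R R' d S (fun j => s j ⊗ₜ[R] b j)) = _
  rw [muS_tmul, LinearMap.baseChange_tmul]
  rfl


variable {R R' d}

/-- `GS` is alternating (using a basis of `R'`) -/
lemma GS_alt (e : Module.Basis (Fin d) R R') (w : Fin d → S ⊗[R] R') (i j : Fin d)
    (hw : w i = w j) (hij : i ≠ j) : GS R R' d S w = 0 := by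
  classical
  let eS := Algebra.TensorProduct.basis S e
  have heS : ∀ a, eS a = (1 : S) ⊗ₜ[R] e a := fun a => Algebra.TensorProduct.basis_apply e a
  let r : Fin d → Fin d → S := fun k a => eS.repr (w k) a
  have hwk : ∀ k, w k = ∑ a, r k a • eS a := fun k => (eS.sum_repr (w k)).symm
  have hr : ∀ a, r i a = r j a := fun a => by simp only [r, hw]
  have h1 : w = fun k => ∑ a, r k a • eS a := funext hwk
  rw [h1, (GS R R' d S).map_sum]
  set τ : Equiv.Perm (Fin d) := Equiv.swap i j with hτ
  have hrτ : ∀ k a, r (τ k) a = r k a := by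
    intro k a
    by_cases hki : k = i
    · subst hki; rw [hτ, Equiv.swap_apply_left]; exact (hr a).symm
    · by_cases hkj : k = j
      · subst hkj; rw [hτ, Equiv.swap_apply_right]; exact hr a
      · rw [hτ, Equiv.swap_apply_of_ne_of_ne hki hkj]
  have hval : ∀ c : Fin d → Fin d, (GS R R' d S) (fun k => r k (c k) • eS (c k)) =
      (∏ k, r k (c k)) ⊗ₜ[R] altR R R' d (fun k => e (c k)) := by
    intro c
    rw [MultilinearMap.map_smul_univ]
    have : (fun k => eS (c k)) = fun k => (1 : S) ⊗ₜ[R] e (c k) := funext fun k => heS (c k)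
    rw [this, GS_tmul, Finset.prod_const_one, TensorProduct.smul_tmul', smul_eq_mul, mul_one]
  simp only [hval]
  refine Finset.sum_involution (fun c _ => c ∘ τ) ?_ ?_ ?_ ?_
  · intro c _
    have hcoef : ∏ k, r k ((c ∘ τ) k) = ∏ k, r k (c k) := by
      rw [← Equiv.prod_comp τ (fun k => r k ((c ∘ τ) k))]
      refine Finset.prod_congr rfl fun k _ => ?_
      rw [hrτ, Function.comp_apply, hτ, Equiv.swap_apply_self]
    rw [hcoef, ← TensorProduct.tmul_add]
    have : altR R R' d (fun k => e ((c ∘ τ) k)) = - altR R R' d (fun k => e (c k)) :=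
      (altR R R' d).map_swap (fun k => e (c k)) hij
    rw [this, add_neg_cancel, TensorProduct.tmul_zero]
  · intro c _ hne heq
    apply hne
    have hc : c i = c j := by
      have := congrFun heq i
      rw [Function.comp_apply, hτ, Equiv.swap_apply_left] at this
      exact this.symm
    have : altR R R' d (fun k => e (c k)) = 0 :=
      (altR R R' d).map_eq_zero_of_eq _ (by rw [hc]) hij
    rw [this, TensorProduct.tmul_zero]
  · intro c _; exact Finset.mem_univ _
  · intro c _
    funext k
    simp [hτ]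

/-- `GS` as an alternating map -/
noncomputable def GSalt (e : Module.Basis (Fin d) R R') :
    (S ⊗[R] R') [⋀^Fin d]→ₗ[S] (S ⊗[R] QQ R R' d) :=
  { GS R R' d S with
    map_eq_zero_of_eq' := fun w i j hw hij => GS_alt S e w i j hw hij }

end Groth.Agent.H9.TPA
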