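import Mathlib
import Groth.Prelude.Def_W4c5normfunctorschNorm
import Groth.Agent.Lib.Helper9.Misc.TPA2
import Groth.Agent.Lib.Helper9.Misc.PLZ6

/-! Helper9: S19898: symmetric tensors act on the top exterior power through the norm -/
set_option linter.style.haveILetI false

namespace Groth.Agent.H9.TPA
open scoped TensorProduct
open Groth.Agent.H9.PLW Groth.Agent.H9.PLZ Groth.Agent.H9.PLR

universe u
variable {R R' : Type u} [CommRing R] [CommRing R'] [Algebra R R'] {d : ℕ}

lemma tpowAct_tprod (b v : Fin d → R') :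
    SymTen.tpowAct R R' R' d (PiTensorProduct.tprod R b) (PiTensorProduct.tprod R v) =
      PiTensorProduct.tprod R (fun k => b k * v k) := by
  rw [SymTen.tpowAct, PiTensorProduct.lift.tprod]
  simp [PiTensorProduct.mapMultilinear_apply, PiTensorProduct.map_tprod]

/-- `t ↦ [t · x]` in the top exterior power -/
noncomputable def aAct (x : TT R R' d) : TT R R' d →ₗ[R] QQ R R' d :=
  (SymTen.altSpan R R' d).mkQ ∘ₗ (SymTen.tpowAct R R' R' d).flip x

lemma aAct_apply (x t : TT R R' d) :
    aAct x t = (SymTen.altSpan R R' d).mkQ (SymTen.tpowAct R R' R' d t x) := rfl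

variable (S : Type u) [CommRing S] [Algebra R S]

/-- the key identity on all tuples -/
lemma aAct_muS (e : Module.Basis (Fin d) R R') (v : Fin d → R') (w : Fin d → S ⊗[R] R') :
    (aAct (PiTensorProduct.tprod R v)).baseChange S (muS R R' d S w) =
      GS R R' d S (fun k => w k * ((1 : S) ⊗ₜ[R] v k)) := by
  have key : ((aAct (PiTensorProduct.tprod R v)).baseChange S).compMultilinearMap (muS R R' d S) =
      (GS R R' d S).compLinearMap (fun k => LinearMap.mulRight S ((1 : S) ⊗ₜ[R] v k)) := by
    refine Module.Basis.ext_multilinear (fun _ => Algebra.TensorProduct.basis S e) fun c => ?_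
    simp only [LinearMap.compMultilinearMap_apply, MultilinearMap.compLinearMap_apply,
      Algebra.TensorProduct.basis_apply, LinearMap.mulRight_apply,
      Algebra.TensorProduct.tmul_mul_tmul, mul_one]
    rw [GS_tmul, muS_tmul, LinearMap.baseChange_tmul, aAct_apply, tpowAct_tprod]
    rfl
  exact congrArg (fun a : MultilinearMap S (fun _ : Fin d => S ⊗[R] R') (S ⊗[R] QQ R R' d) => a w) key

/-- the action of the tensor power of `p` on the top exterior power is the norm -/
lemma aAct_diag (e : Module.Basis (Fin d) R R') (v : Fin d → R') (p : S ⊗[R] R') :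
    (aAct (PiTensorProduct.tprod R v)).baseChange S (muS R R' d S (fun _ => p)) =
      Algebra.norm S p ⊗ₜ[R] altR R R' d v := by
  rw [aAct_muS S e]
  have h1 := alt_comp_det (Algebra.TensorProduct.basis S e) (GSalt S e)
    (Algebra.lmul S (S ⊗[R] R') p) (fun k => (1 : S) ⊗ₜ[R] v k)
  have h2 : GSalt S e (fun k => (1 : S) ⊗ₜ[R] v k) = (1 : S) ⊗ₜ[R] altR R R' d v := by
    show GS R R' d S (fun k => (1 : S) ⊗ₜ[R] v k) = _
    rw [GS_tmul, Finset.prod_const_one]
  rw [h2, ← Algebra.norm_apply, TensorProduct.smul_tmul', smul_eq_mul, mul_one] at h1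
  exact h1


section evM
variable {N : Type u} [AddCommGroup N] [Module R N] {S}

/-- evaluation of a functional on the left factor, module version -/
noncomputable def evM {S : Type u} [CommSemiring S] [Algebra R S] (ℓ : S →ₗ[R] R) : S ⊗[R] N →ₗ[R] N :=
  (TensorProduct.lid R N).toLinearMap ∘ₗ ℓ.rTensor N

@[simp] lemma evM_tmul {S : Type u} [CommSemiring S] [Algebra R S] (ℓ : S →ₗ[R] R) (s : S) (n : N) :
    evM ℓ (s ⊗ₜ[R] n) = ℓ s • n := by
  simp [evM]

lemma evM_lTensor {C : Type u} [CommRing C] [Algebra R C] (ψ : C →ₗ[R] N) {S : Type u}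
    [CommSemiring S] [Algebra R S] (ℓ : S →ₗ[R] R) (z : S ⊗[R] C) :
    evM ℓ (ψ.lTensor S z) = ψ (ev ℓ z) := by
  induction z using TensorProduct.induction_on with
  | zero => simp
  | tmul s c => simp
  | add x y hx hy => simp only [map_add, hx, hy]

end evM

lemma main_tprod (e : Module.Basis (Fin d) R R') (hd : Module.finrank R R' = d)
    [Module.Free R R'] [Module.Finite R R']
    {C : Type u} [CommRing C] [Algebra R C] (γ : PolLaw.MulLaw R R' C d) (hγ : PolLaw.IsGammaD γ)
    (φ : C →ₐ[R] (⨂[R] _ : Fin d, R')) (hφ : PolLaw.MulLaw.postcomp φ γ = SymTen.tpowLaw R R' d)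
    (π : C →ₐ[R] R) (hπ : PolLaw.MulLaw.postcomp π γ = PolLaw.normLaw R R' d hd)
    (v : Fin d → R') (c : C) :
    aAct (PiTensorProduct.tprod R v) (φ c) =
      π c • (SymTen.altSpan R R' d).mkQ (PiTensorProduct.tprod R v) := by
  have hc : c ∈ coeffSpan γ.law := by rw [coeffSpan_eq_top γ hγ]; trivial
  unfold coeffSpan at hc
  induction hc using Submodule.span_induction with
  | zero => simp
  | add a b _ _ ha hb => rw [map_add, map_add, map_add, ha, hb, add_smul]
  | smul a b _ hb => rw [map_smul, map_smul, map_smul, hb, smul_eq_mul, mul_smul]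
  | mem c hc =>
    obtain ⟨S, _, _, p, ℓ, rfl⟩ := hc
    let _ : CommRing S := commRingOfAlg R S
    have h1 : φ.toLinearMap.lTensor S (γ.law.toFun' S p) = muS R R' d S (fun _ => p) := by
      have := congrArg (fun L : PolLaw.MulLaw R R' (⨂[R] _ : Fin d, R') d => L.law.toFun' S p) hφ
      exact this
    have h2 : π.toLinearMap.lTensor S (γ.law.toFun' S p) = Algebra.norm S p ⊗ₜ[R] (1 : R) := by
      have := congrArg (fun L : PolLaw.MulLaw R R' R d => L.law.toFun' S p) hπ
      beta_reduce at this
      rw [PolLaw.normLaw_apply] at this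
      exact this
    have h3 := evM_lTensor (aAct (PiTensorProduct.tprod R v) ∘ₗ φ.toLinearMap) ℓ (γ.law.toFun' S p)
    rw [LinearMap.lTensor_comp, LinearMap.comp_apply, h1, ← LinearMap.baseChange_eq_ltensor,
      aAct_diag S e, evM_tmul] at h3
    have h4 := ev_lTensor π.toLinearMap ℓ (γ.law.toFun' S p)
    rw [h2, ev_tmul] at h4
    rw [LinearMap.comp_apply] at h3
    have h3' : aAct (PiTensorProduct.tprod R v) (φ (ev ℓ (γ.law.toFun' S p))) =
        ℓ (Algebra.norm S p) • altR R R' d v := h3.symm
    have h4' : π (ev ℓ (γ.law.toFun' S p)) = ℓ (Algebra.norm S p) := by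
      have : π (ev ℓ (γ.law.toFun' S p)) = ℓ (Algebra.norm S p) • 1 := h4.symm
      rw [this, smul_eq_mul, mul_one]
    rw [h3', h4']
    rfl

theorem S19898_main [Module.Free R R'] [Module.Finite R R'] (hd : Module.finrank R R' = d)
    {C : Type u} [CommRing C] [Algebra R C] (γ : PolLaw.MulLaw R R' C d) (hγ : PolLaw.IsGammaD γ)
    (φ : C →ₐ[R] (⨂[R] _ : Fin d, R')) (hφ : PolLaw.MulLaw.postcomp φ γ = SymTen.tpowLaw R R' d)
    (π : C →ₐ[R] R) (hπ : PolLaw.MulLaw.postcomp π γ = PolLaw.normLaw R R' d hd)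
    (c : C) (x : ⨂[R] _ : Fin d, R') :
    SymTen.tpowAct R R' R' d (φ c) x - π c • x ∈ SymTen.altSpan R R' d := by
  rcases subsingleton_or_nontrivial R with hR | hR
  · have : Subsingleton (⨂[R] _ : Fin d, R') := Module.subsingleton R _
    rw [Subsingleton.elim (SymTen.tpowAct R R' R' d (φ c) x - π c • x) 0]
    exact Submodule.zero_mem _
  let e : Module.Basis (Fin d) R R' := Module.finBasisOfFinrankEq R R' hd
  rw [← Submodule.Quotient.mk_eq_zero, Submodule.Quotient.mk_sub, sub_eq_zero,
    Submodule.Quotient.mk_smul]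
  show aAct x (φ c) = π c • (SymTen.altSpan R R' d).mkQ x
  induction x using PiTensorProduct.induction_on with
  | smul_tprod r v =>
    have hlin : aAct (r • PiTensorProduct.tprod R v) (φ c) =
        r • aAct (PiTensorProduct.tprod R v) (φ c) := by
      simp only [aAct_apply, map_smul]
    rw [hlin, map_smul, smul_comm, main_tprod e hd γ hγ φ hφ π hπ v c]
  | add x y hx hy =>
    have hlin : aAct (x + y) (φ c) = aAct x (φ c) + aAct y (φ c) := by
      simp only [aAct_apply, map_add]
    rw [hlin, hx, hy, map_add, smul_add]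

end Groth.Agent.H9.TPA
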