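import Mathlib

/-!
# Epimorphisms `Spec B ⟶ Spec C` for injective, spectrally surjective ring maps (helper9)
-/

set_option autoImplicit false
set_option linter.style.haveILetI false
set_option linter.unusedSectionVars false
set_option linter.unusedVariables false

universe u

open CategoryTheory AlgebraicGeometry

namespace Groth.Agent.H9.TQ

section Ring

variable {R S : Type u} [CommRing R] [CommRing S]

/-- the map `R_r → S_s` induced by `f : R → S` when `f r` becomes a unit in `S_s` -/
noncomputable def awayLift (f : R →+* S) (r : R) (s : S)
    (h : IsUnit (algebraMap S (Localization.Away s) (f r))) :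
    Localization.Away r →+* Localization.Away s :=
  IsLocalization.Away.lift (S := Localization.Away r) r
    (g := (algebraMap S (Localization.Away s)).comp f) h

lemma awayLift_comp (f : R →+* S) (r : R) (s : S)
    (h : IsUnit (algebraMap S (Localization.Away s) (f r))) :
    (awayLift f r s h).comp (algebraMap R (Localization.Away r)) =
      (algebraMap S (Localization.Away s)).comp f :=
  IsLocalization.Away.lift_comp r h

lemma awayLift_algebraMap (f : R →+* S) (r : R) (s : S)
    (h : IsUnit (algebraMap S (Localization.Away s) (f r))) (x : R) :
    awayLift f r s h (algebraMap R (Localization.Away r) x) =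
      algebraMap S (Localization.Away s) (f x) :=
  IsLocalization.Away.lift_eq r h x

lemma away_hom_ext {r : R} {P : Type*} [CommRing P] {f g : Localization.Away r →+* P}
    (h : f.comp (algebraMap R (Localization.Away r)) = g.comp (algebraMap R (Localization.Away r))) :
    f = g :=
  IsLocalization.ringHom_ext (Submonoid.powers r) h

lemma isUnit_self (s : S) : IsUnit (algebraMap S (Localization.Away s) s) :=
  IsLocalization.Away.algebraMap_isUnit s

lemma isUnit_of_dvd {a b : S} (h : a ∣ b) : IsUnit (algebraMap S (Localization.Away b) a) := by
  obtain ⟨c, rfl⟩ := h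
  have := isUnit_self (a * c)
  rw [map_mul] at this
  exact isUnit_of_mul_isUnit_left this

/-- elements of `R_r` as fractions -/
lemma away_exists_eq (r : R) (x : Localization.Away r) :
    ∃ (a : R) (n : ℕ), x * algebraMap R (Localization.Away r) r ^ n =
      algebraMap R (Localization.Away r) a := by
  obtain ⟨⟨a, ⟨_, n, rfl⟩⟩, h⟩ := IsLocalization.surj (Submonoid.powers r) x
  exact ⟨a, n, by simpa using h⟩

lemma awayLift_injective (f : R →+* S) (hf : Function.Injective f) (r : R) :
    Function.Injective (awayLift f r (f r) (isUnit_self (f r))) := by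
  rw [injective_iff_map_eq_zero]
  intro x hx
  obtain ⟨a, n, ha⟩ := away_exists_eq r x
  have h1 : algebraMap S (Localization.Away (f r)) (f a) = 0 := by
    rw [← awayLift_algebraMap f r (f r) (isUnit_self (f r)), ← ha, map_mul, hx, zero_mul]
  obtain ⟨⟨_, m, rfl⟩, hm⟩ := (IsLocalization.map_eq_zero_iff (Submonoid.powers (f r)) _ _).mp h1
  have h2 : r ^ m * a = 0 := by
    apply hf
    rw [map_mul, map_pow, map_zero]
    exact hm
  have h3 : x * algebraMap R (Localization.Away r) r ^ (n + m) = 0 := by
    rw [pow_add, ← mul_assoc, ha, ← map_pow, ← map_mul, mul_comm, h2, map_zero]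
  have hu : IsUnit (algebraMap R (Localization.Away r) r ^ (n + m)) := (isUnit_self r).pow _
  exact (hu.mul_left_eq_zero).mp h3

lemma awayLift_comap_surjective (f : R →+* S) (hf : Function.Surjective (PrimeSpectrum.comap f))
    (r : R) :
    Function.Surjective (PrimeSpectrum.comap (awayLift f r (f r) (isUnit_self (f r)))) := by
  intro q'
  set q := PrimeSpectrum.comap (algebraMap R (Localization.Away r)) q' with hq
  obtain ⟨p, hp⟩ := hf q
  have hr : r ∉ q.asIdeal := by
    have : q ∈ Set.range (PrimeSpectrum.comap (algebraMap R (Localization.Away r))) := ⟨q', rfl⟩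
    rw [PrimeSpectrum.localization_away_comap_range (Localization.Away r) r] at this
    exact this
  have hfr : f r ∉ p.asIdeal := by
    intro h
    apply hr
    rw [← hp]
    exact h
  have : p ∈ Set.range (PrimeSpectrum.comap (algebraMap S (Localization.Away (f r)))) := by
    rw [PrimeSpectrum.localization_away_comap_range (Localization.Away (f r)) (f r)]
    exact hfr
  obtain ⟨p', hp'⟩ := this
  refine ⟨p', ?_⟩
  apply PrimeSpectrum.localization_comap_injective (Localization.Away r) (Submonoid.powers r)
  rw [← hq, ← hp, ← hp']
  rw [← PrimeSpectrum.comap_comp_apply, ← PrimeSpectrum.comap_comp_apply, awayLift_comp]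

end Ring

end Groth.Agent.H9.TQ
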