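import Mathlib
import Groth.Agent.Lib.Helper9.Misc.TQ1

set_option autoImplicit false
set_option linter.style.haveILetI false
set_option linter.unusedSectionVars false
set_option linter.unusedVariables false

universe u

open CategoryTheory AlgebraicGeometry

namespace Groth.Agent.H9.TQ

section Epi

variable {C B : Type u} [CommRing C] [CommRing B]

/-- `Spec.map` of a ring hom, unbundled -/
noncomputable abbrev sp {R S : Type u} [CommRing R] [CommRing S] (f : R →+* S) :
    Spec (CommRingCat.of S) ⟶ Spec (CommRingCat.of R) :=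
  Spec.map (CommRingCat.ofHom f)

lemma sp_comp {R S T : Type u} [CommRing R] [CommRing S] [CommRing T] (f : R →+* S) (g : S →+* T) :
    sp g ≫ sp f = sp (g.comp f) := by
  unfold sp
  rw [← Spec.map_comp, ← CommRingCat.ofHom_comp]

lemma sp_base {R S : Type u} [CommRing R] [CommRing S] (f : R →+* S)
    (x : PrimeSpectrum S) : (sp f).base x = PrimeSpectrum.comap f x := rfl

lemma sp_appTop_mono {R S : Type u} [CommRing R] [CommRing S] (f : R →+* S)
    (hf : Function.Injective f) : Mono (sp f).appTop := by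
  have h1 : (sp f).appTop = (Scheme.ΓSpecIso (CommRingCat.of R)).hom ≫ CommRingCat.ofHom f ≫
      (Scheme.ΓSpecIso (CommRingCat.of S)).inv := by
    rw [← Category.assoc, ← Scheme.ΓSpecIso_naturality, Category.assoc, Iso.hom_inv_id,
      Category.comp_id]
  rw [h1]
  haveI : Mono (CommRingCat.ofHom f) :=
    ConcreteCategory.mono_of_injective (CommRingCat.ofHom f) hf
  infer_instance

/-- the basic open cover attached to a family of elements not vanishing anywhere -/
lemma span_range_eq_top (s : PrimeSpectrum C → C) (hs : ∀ y, s y ∉ y.asIdeal) :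
    Ideal.span (Set.range s) = ⊤ := by
  by_contra hne
  obtain ⟨m, hm, hle⟩ := Ideal.exists_le_maximal _ hne
  exact hs ⟨m, hm.isPrime⟩ (hle (Ideal.subset_span ⟨_, rfl⟩))

lemma range_sp_algebraMap (c : C) :
    Set.range (sp (algebraMap C (Localization.Away c))).base =
      (PrimeSpectrum.basicOpen c : Set (PrimeSpectrum C)) :=
  PrimeSpectrum.localization_away_comap_range (Localization.Away c) c

/-- local criterion: two morphisms out of `Spec C` agreeing on a family of basic opens around every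
point are equal -/
lemma hom_ext_of_local {Z : Scheme.{u}} (χ₁ χ₂ : Spec (CommRingCat.of C) ⟶ Z)
    (h : ∀ y : PrimeSpectrum C, ∃ c : C, c ∉ y.asIdeal ∧
      sp (algebraMap C (Localization.Away c)) ≫ χ₁ =
        sp (algebraMap C (Localization.Away c)) ≫ χ₂) : χ₁ = χ₂ := by
  choose s hs1 hs2 using h
  have hspan := span_range_eq_top s hs1
  exact Scheme.Cover.hom_ext
    (Scheme.affineOpenCoverOfSpanRangeEqTop (R := CommRingCat.of C) s hspan).openCover _ _
    (fun y => hs2 y)

/-- `Spec B ⟶ Spec C` is an epimorphism of schemes when `C → B` is injective and surjective on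
spectra -/
theorem spec_epi (φ : C →+* B) (hinj : Function.Injective φ)
    (hsurj : Function.Surjective (PrimeSpectrum.comap φ))
    {Z : Scheme.{u}} (χ₁ χ₂ : Spec (CommRingCat.of C) ⟶ Z)
    (h : sp φ ≫ χ₁ = sp φ ≫ χ₂) : χ₁ = χ₂ := by
  have hpt : ∀ y : PrimeSpectrum C, χ₁.base y = χ₂.base y := by
    intro y
    obtain ⟨x, rfl⟩ := hsurj y
    have h1 := congrArg (fun g => g.base x) h
    simp only [Scheme.Hom.comp_base, TopCat.comp_app] at h1
    exact h1
  apply hom_ext_of_local
  intro y
  obtain ⟨_, ⟨(W : Z.Opens), hW, rfl⟩, hyW, -⟩ := Z.isBasis_affineOpens.exists_subset_of_mem_open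
    (Set.mem_univ (χ₁.base y)) isOpen_univ
  have hopen : IsOpen ((fun z : PrimeSpectrum C => χ₁.base z) ⁻¹' (W : Set Z)) :=
    W.isOpen.preimage χ₁.continuous
  obtain ⟨_, ⟨_, ⟨c, rfl⟩, rfl⟩, hyU, hUW⟩ :=
    PrimeSpectrum.isBasis_basic_opens.exists_subset_of_mem_open
    (show y ∈ ((fun z : PrimeSpectrum C => χ₁.base z) ⁻¹' (W : Set Z)) from hyW) hopen
  refine ⟨c, hyU, ?_⟩
  set ιc := sp (algebraMap C (Localization.Away c)) with hιc
  have hr1 : Set.range (ιc ≫ χ₁).base ⊆ Set.range W.ι.base := by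
    rw [Scheme.Opens.range_ι]
    rintro _ ⟨z, rfl⟩
    simp only [Scheme.Hom.comp_base, TopCat.comp_app]
    have hz : ιc.base z ∈ (PrimeSpectrum.basicOpen c : Set (PrimeSpectrum C)) := by
      rw [← range_sp_algebraMap]
      exact ⟨z, rfl⟩
    exact hUW hz
  have hr2 : Set.range (ιc ≫ χ₂).base ⊆ Set.range W.ι.base := by
    rw [Scheme.Opens.range_ι]
    rintro _ ⟨z, rfl⟩
    simp only [Scheme.Hom.comp_base, TopCat.comp_app]
    have hz : ιc.base z ∈ (PrimeSpectrum.basicOpen c : Set (PrimeSpectrum C)) := by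
      rw [← range_sp_algebraMap]
      exact ⟨z, rfl⟩
    have := hUW hz
    rw [← hpt]
    exact this
  set g₁ := IsOpenImmersion.lift W.ι (ιc ≫ χ₁) hr1 with hg₁
  set g₂ := IsOpenImmersion.lift W.ι (ιc ≫ χ₂) hr2 with hg₂
  have hf1 : g₁ ≫ W.ι = ιc ≫ χ₁ := IsOpenImmersion.lift_fac _ _ _
  have hf2 : g₂ ≫ W.ι = ιc ≫ χ₂ := IsOpenImmersion.lift_fac _ _ _
  set πc := sp (awayLift φ c (φ c) (isUnit_self (φ c))) with hπc
  have hsq : πc ≫ ιc = sp (algebraMap B (Localization.Away (φ c))) ≫ sp φ := by
    rw [hπc, hιc, sp_comp, sp_comp, awayLift_comp]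
  have hh : πc ≫ g₁ = πc ≫ g₂ := by
    rw [← cancel_mono W.ι, Category.assoc, Category.assoc, hf1, hf2, ← Category.assoc,
      ← Category.assoc, hsq, Category.assoc, Category.assoc, h]
  have hgg : g₁ = g₂ := by
    haveI : IsAffine W.toScheme := hW
    apply ext_of_isAffine
    have h2 := congrArg Scheme.Hom.appTop hh
    rw [Scheme.Hom.comp_appTop, Scheme.Hom.comp_appTop] at h2
    haveI := sp_appTop_mono _ (awayLift_injective φ hinj c)
    exact (cancel_mono _).mp h2
  rw [← hf1, ← hf2, hgg]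

end Epi

end Groth.Agent.H9.TQ
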