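import Mathlib
import Groth.Agent.Lib.Helper9.Misc.TQ1
import Groth.Agent.Lib.Helper9.Misc.TQ1b

/-!
# Categorical quotients of affine schemes: the abstract gluing argument (helper9)
-/

set_option autoImplicit false
set_option linter.style.haveILetI false
set_option linter.unusedSectionVars false
set_option linter.unusedVariables false

universe u

open CategoryTheory AlgebraicGeometry CategoryTheory.Limits

namespace Groth.Agent.H9.TQ

section Inv

variable {C B T : Type u} [CommRing C] [CommRing B] [CommRing T]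
  (φ : C →+* B) (ρ ι : B →+* T)

lemma isUnit_rho (hc0 : ∀ c, ρ (φ c) = ι (φ c)) (c : C) :
    IsUnit (algebraMap T (Localization.Away (ι (φ c))) (ρ (φ c))) := by
  rw [hc0]
  exact isUnit_self _

/-- invariants commute with localisation at an invariant element -/
theorem exists_of_loc_invariant (hc0 : ∀ c, ρ (φ c) = ι (φ c))
    (hc : ∀ b, ρ b = ι b → ∃ c, φ c = b) (c : C) (x : Localization.Away (φ c))
    (hx : awayLift ρ (φ c) (ι (φ c)) (isUnit_rho φ ρ ι hc0 c) x =
      awayLift ι (φ c) (ι (φ c)) (isUnit_self _) x) :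
    ∃ z : Localization.Away c, awayLift φ c (φ c) (isUnit_self _) z = x := by
  obtain ⟨b, n, hb⟩ := away_exists_eq (φ c) x
  set t := ι (φ c) with ht
  have h1 : algebraMap T (Localization.Away t) (ρ b) = algebraMap T (Localization.Away t) (ι b) := by
    have e1 := congrArg (awayLift ρ (φ c) t (isUnit_rho φ ρ ι hc0 c)) hb
    have e2 := congrArg (awayLift ι (φ c) t (isUnit_self _)) hb
    rw [map_mul, map_pow, awayLift_algebraMap, awayLift_algebraMap] at e1 e2
    rw [← e1, ← e2, hx, hc0 c]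
  obtain ⟨⟨_, m, rfl⟩, hm⟩ := (IsLocalization.eq_iff_exists (Submonoid.powers t) _).mp h1
  have h2 : ρ (φ c ^ m * b) = ι (φ c ^ m * b) := by
    rw [map_mul, map_mul, map_pow, map_pow, hc0 c]
    exact hm
  obtain ⟨c', hc'⟩ := hc _ h2
  refine ⟨IsLocalization.mk' (Localization.Away c) c'
    (⟨c ^ (n + m), ⟨n + m, rfl⟩⟩ : Submonoid.powers c), ?_⟩
  set z := IsLocalization.mk' (Localization.Away c) c'
    (⟨c ^ (n + m), ⟨n + m, rfl⟩⟩ : Submonoid.powers c) with hz
  have hzs : z * algebraMap C (Localization.Away c) (c ^ (n + m)) =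
      algebraMap C (Localization.Away c) c' := IsLocalization.mk'_spec _ _ _
  have e3 := congrArg (awayLift φ c (φ c) (isUnit_self _)) hzs
  rw [map_mul, awayLift_algebraMap, awayLift_algebraMap, hc', map_pow] at e3
  have hu : IsUnit (algebraMap B (Localization.Away (φ c)) (φ c) ^ (n + m)) :=
    (isUnit_self (φ c)).pow _
  apply hu.mul_left_injective
  show awayLift φ c (φ c) (isUnit_self _) z * algebraMap B (Localization.Away (φ c)) (φ c) ^ (n + m) =
    x * algebraMap B (Localization.Away (φ c)) (φ c) ^ (n + m)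
  rw [map_pow] at e3
  rw [e3, map_mul, map_pow, ← hb, pow_add]
  ring

/-- factoring a ring map through an injective ring map whose range contains its range -/
lemma exists_factor {R P Q : Type u} [CommRing R] [CommRing P] [CommRing Q]
    (f : P →+* Q) (hf : Function.Injective f) (γ : R →+* Q) (h : ∀ r, ∃ z, f z = γ r) :
    ∃ γ' : R →+* P, f.comp γ' = γ := by
  let e : P ≃+* f.range := RingEquiv.ofBijective f.rangeRestrict
    ⟨fun a b hab => hf (congrArg Subtype.val hab), f.rangeRestrict_surjective⟩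
  have he : ∀ q : f.range, f (e.symm q) = q := by
    intro q
    have := e.apply_symm_apply q
    exact congrArg Subtype.val this
  refine ⟨e.symm.toRingHom.comp (γ.codRestrict f.range (fun r => by
    obtain ⟨z, hz⟩ := h r; exact ⟨z, hz⟩)), ?_⟩
  ext r
  simp only [RingHom.comp_apply, RingEquiv.toRingHom_eq_coe, RingHom.coe_coe]
  rw [he]
  rfl

/-- descent of invariant morphisms to an affine scheme -/
theorem exists_desc_affine (hinj : Function.Injective φ) (hc0 : ∀ c, ρ (φ c) = ι (φ c))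
    (hc : ∀ b, ρ b = ι b → ∃ c, φ c = b) (c : C) {W : Scheme.{u}} [IsAffine W]
    (g : Spec (CommRingCat.of (Localization.Away (φ c))) ⟶ W)
    (hg : sp (awayLift ρ (φ c) (ι (φ c)) (isUnit_rho φ ρ ι hc0 c)) ≫ g =
      sp (awayLift ι (φ c) (ι (φ c)) (isUnit_self _)) ≫ g) :
    ∃ g' : Spec (CommRingCat.of (Localization.Away c)) ⟶ W,
      sp (awayLift φ c (φ c) (isUnit_self _)) ≫ g' = g := by
  set e := W.isoSpec with he
  set γ := Spec.preimage (g ≫ e.hom) with hγ
  have hγ1 : Spec.map γ = g ≫ e.hom := Spec.map_preimage _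
  have h1 : γ ≫ CommRingCat.ofHom (awayLift ρ (φ c) (ι (φ c)) (isUnit_rho φ ρ ι hc0 c)) =
      γ ≫ CommRingCat.ofHom (awayLift ι (φ c) (ι (φ c)) (isUnit_self _)) := by
    apply Spec.map_injective
    rw [Spec.map_comp, Spec.map_comp, hγ1, ← Category.assoc, ← Category.assoc]
    exact congrArg (· ≫ e.hom) hg
  have h2 : ∀ r, ∃ z, awayLift φ c (φ c) (isUnit_self _) z = γ.hom r := by
    intro r
    apply exists_of_loc_invariant φ ρ ι hc0 hc c
    have := congrArg (fun f => f.hom r) h1
    exact this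
  obtain ⟨γ', hγ'⟩ := exists_factor _ (awayLift_injective φ hinj c) γ.hom h2
  refine ⟨Spec.map (CommRingCat.ofHom γ') ≫ e.inv, ?_⟩
  rw [← Category.assoc]
  have h3 : sp (awayLift φ c (φ c) (isUnit_self _)) ≫ Spec.map (CommRingCat.ofHom γ') =
      Spec.map γ := by
    unfold sp
    rw [← Spec.map_comp]
    congr 1
    ext r
    exact congrArg (fun f => f r) hγ'
  rw [h3, hγ1, Category.assoc, Iso.hom_inv_id, Category.comp_id]

/-- local existence of the descended morphism over a basic open mapping into an affine open -/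
theorem exists_local (hinj : Function.Injective φ) (hc0 : ∀ c, ρ (φ c) = ι (φ c))
    (hc : ∀ b, ρ b = ι b → ∃ c, φ c = b) {Z : Scheme.{u}} (ψ : Spec (CommRingCat.of B) ⟶ Z)
    (hψ : sp ρ ≫ ψ = sp ι ≫ ψ) (c : C) (W : Z.Opens) (hW : IsAffineOpen W)
    (hr : Set.range (sp (algebraMap B (Localization.Away (φ c))) ≫ ψ).base ⊆ Set.range W.ι.base) :
    ∃ χ : Spec (CommRingCat.of (Localization.Away c)) ⟶ Z,
      sp (awayLift φ c (φ c) (isUnit_self _)) ≫ χ =
        sp (algebraMap B (Localization.Away (φ c))) ≫ ψ := by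
  haveI : IsAffine W.toScheme := hW
  set g := IsOpenImmersion.lift W.ι (sp (algebraMap B (Localization.Away (φ c))) ≫ ψ) hr with hg
  have hgf : g ≫ W.ι = sp (algebraMap B (Localization.Away (φ c))) ≫ ψ :=
    IsOpenImmersion.lift_fac _ _ _
  have hinv : sp (awayLift ρ (φ c) (ι (φ c)) (isUnit_rho φ ρ ι hc0 c)) ≫ g =
      sp (awayLift ι (φ c) (ι (φ c)) (isUnit_self _)) ≫ g := by
    have e1 : sp (awayLift ρ (φ c) (ι (φ c)) (isUnit_rho φ ρ ι hc0 c)) ≫
        sp (algebraMap B (Localization.Away (φ c))) =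
        sp (algebraMap T (Localization.Away (ι (φ c)))) ≫ sp ρ := by
      rw [sp_comp, sp_comp, awayLift_comp]
    have e2 : sp (awayLift ι (φ c) (ι (φ c)) (isUnit_self _)) ≫
        sp (algebraMap B (Localization.Away (φ c))) =
        sp (algebraMap T (Localization.Away (ι (φ c)))) ≫ sp ι := by
      rw [sp_comp, sp_comp, awayLift_comp]
    rw [← cancel_mono W.ι, Category.assoc, Category.assoc, hgf, ← Category.assoc, ← Category.assoc,
      e1, e2, Category.assoc, Category.assoc, hψ]
  obtain ⟨g', hg'⟩ := exists_desc_affine φ ρ ι hinj hc0 hc c g hinv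
  refine ⟨g' ≫ W.ι, ?_⟩
  rw [← Category.assoc, hg', hgf]

lemma dvd_map_mul_left (c c' : C) : φ c ∣ φ (c * c') := by
  rw [map_mul]; exact dvd_mul_right _ _

lemma dvd_map_mul_right (c c' : C) : φ c' ∣ φ (c * c') := by
  rw [map_mul]; exact dvd_mul_left _ _

/-- compatibility of the local morphisms on overlaps -/
theorem compat (hinj : Function.Injective φ)
    (hsurj : Function.Surjective (PrimeSpectrum.comap φ))
    {Z : Scheme.{u}} (ψ : Spec (CommRingCat.of B) ⟶ Z) (c c' : C)
    (χ : Spec (CommRingCat.of (Localization.Away c)) ⟶ Z)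
    (χ' : Spec (CommRingCat.of (Localization.Away c')) ⟶ Z)
    (hχ : sp (awayLift φ c (φ c) (isUnit_self _)) ≫ χ =
      sp (algebraMap B (Localization.Away (φ c))) ≫ ψ)
    (hχ' : sp (awayLift φ c' (φ c') (isUnit_self _)) ≫ χ' =
      sp (algebraMap B (Localization.Away (φ c'))) ≫ ψ) :
    pullback.fst (sp (algebraMap C (Localization.Away c))) (sp (algebraMap C (Localization.Away c')))
      ≫ χ = pullback.snd _ _ ≫ χ' := by
  set ιc := sp (algebraMap C (Localization.Away c)) with hιc
  set ιc' := sp (algebraMap C (Localization.Away c')) with hιc'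
  set d := c * c' with hd
  set ιd := sp (algebraMap C (Localization.Away d)) with hιd
  have hrange : Set.range ιd.base = Set.range (pullback.fst ιc ιc' ≫ ιc).base := by
    rw [IsOpenImmersion.range_pullback_to_base_of_left, hιd, hιc, hιc', range_sp_algebraMap,
      range_sp_algebraMap, range_sp_algebraMap, hd, PrimeSpectrum.basicOpen_mul]
    rfl
  set j := IsOpenImmersion.isoOfRangeEq ιd (pullback.fst ιc ιc' ≫ ιc) hrange with hj
  have hjf : j.hom ≫ pullback.fst ιc ιc' ≫ ιc = ιd := IsOpenImmersion.isoOfRangeEq_hom_fac _ _ _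
  -- restriction maps
  set rc := sp (awayLift (RingHom.id C) c d (isUnit_of_dvd (Dvd.intro c' rfl))) with hrc
  set rc' := sp (awayLift (RingHom.id C) c' d (isUnit_of_dvd (Dvd.intro_left c rfl))) with hrc'
  have h1 : j.hom ≫ pullback.fst ιc ιc' = rc := by
    rw [← cancel_mono ιc, Category.assoc, hjf, hrc, hιc, sp_comp, awayLift_comp]
  have h2 : j.hom ≫ pullback.snd ιc ιc' = rc' := by
    rw [← cancel_mono ιc', Category.assoc, ← pullback.condition, hjf, hrc', hιc', sp_comp,
      awayLift_comp]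
  rw [← cancel_epi j.hom, ← Category.assoc, ← Category.assoc, h1, h2]
  apply spec_epi (awayLift φ d (φ d) (isUnit_self _)) (awayLift_injective φ hinj d)
    (awayLift_comap_surjective φ hsurj d)
  -- both sides are the restriction of ψ
  have e1 : sp (awayLift φ d (φ d) (isUnit_self _)) ≫ rc =
      sp (awayLift (RingHom.id B) (φ c) (φ d) (isUnit_of_dvd (dvd_map_mul_left φ c c'))) ≫
        sp (awayLift φ c (φ c) (isUnit_self _)) := by
    rw [hrc, sp_comp, sp_comp]
    congr 1
    apply away_hom_ext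
    rw [RingHom.comp_assoc, RingHom.comp_assoc, awayLift_comp, awayLift_comp,
      ← RingHom.comp_assoc, awayLift_comp, ← RingHom.comp_assoc, awayLift_comp]
    rfl
  have e2 : sp (awayLift φ d (φ d) (isUnit_self _)) ≫ rc' =
      sp (awayLift (RingHom.id B) (φ c') (φ d) (isUnit_of_dvd (dvd_map_mul_right φ c c'))) ≫
        sp (awayLift φ c' (φ c') (isUnit_self _)) := by
    rw [hrc', sp_comp, sp_comp]
    congr 1
    apply away_hom_ext
    rw [RingHom.comp_assoc, RingHom.comp_assoc, awayLift_comp, awayLift_comp,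
      ← RingHom.comp_assoc, awayLift_comp, ← RingHom.comp_assoc, awayLift_comp]
    rfl
  rw [← Category.assoc, ← Category.assoc, e1, e2, Category.assoc, Category.assoc, hχ, hχ',
    ← Category.assoc, ← Category.assoc, sp_comp, sp_comp, awayLift_comp, awayLift_comp]

/-- **Abstract categorical quotient.**  `Spec B ⟶ Spec C` is a categorical quotient for the
"groupoid" `ρ, ι : B ⇉ T` under the ring-level hypotheses listed. -/
theorem existsUnique_desc (hinj : Function.Injective φ)
    (hsurj : Function.Surjective (PrimeSpectrum.comap φ))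
    (hc0 : ∀ c, ρ (φ c) = ι (φ c))
    (hc : ∀ b, ρ b = ι b → ∃ c, φ c = b)
    (hd : ∀ (𝓕 : Set (Set (PrimeSpectrum B))), (∀ F ∈ 𝓕, IsClosed F) →
      (∀ F ∈ 𝓕, PrimeSpectrum.comap ρ ⁻¹' F = PrimeSpectrum.comap ι ⁻¹' F) → ⋂₀ 𝓕 = ∅ →
      ∀ y : PrimeSpectrum C, ∃ F ∈ 𝓕, ∃ c : C, c ∉ y.asIdeal ∧ ∀ x ∈ F, φ c ∈ x.asIdeal)
    {Z : Scheme.{u}} (ψ : Spec (CommRingCat.of B) ⟶ Z)
    (hψ : sp ρ ≫ ψ = sp ι ≫ ψ) :
    ∃! χ : Spec (CommRingCat.of C) ⟶ Z, sp φ ≫ χ = ψ := by
  -- the family of closed invariant subsets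
  set 𝓕 : Set (Set (PrimeSpectrum B)) :=
    {F | ∃ W : Z.Opens, IsAffineOpen W ∧ F = ((fun x : PrimeSpectrum B => ψ.base x) ⁻¹' (W : Set Z))ᶜ}
    with h𝓕
  have hF1 : ∀ F ∈ 𝓕, IsClosed F := by
    rintro _ ⟨W, -, rfl⟩
    exact (W.isOpen.preimage ψ.continuous).isClosed_compl
  have hF2 : ∀ F ∈ 𝓕, PrimeSpectrum.comap ρ ⁻¹' F = PrimeSpectrum.comap ι ⁻¹' F := by
    rintro _ ⟨W, -, rfl⟩
    ext x
    simp only [Set.mem_preimage, Set.mem_compl_iff]
    have h1 := congrArg (fun g => g.base x) hψ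
    simp only [Scheme.Hom.comp_base, TopCat.comp_app] at h1
    rw [← sp_base ρ x, ← sp_base ι x, h1]
  have hF3 : ⋂₀ 𝓕 = ∅ := by
    rw [Set.eq_empty_iff_forall_notMem]
    intro x hx
    obtain ⟨_, ⟨(W : Z.Opens), hW, rfl⟩, hxW, -⟩ :=
      Z.isBasis_affineOpens.exists_subset_of_mem_open (Set.mem_univ (ψ.base x)) isOpen_univ
    exact hx _ ⟨W, hW, rfl⟩ hxW
  -- local data
  have hloc : ∀ y : PrimeSpectrum C, ∃ c : C, c ∉ y.asIdeal ∧
      ∃ χ : Spec (CommRingCat.of (Localization.Away c)) ⟶ Z,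
        sp (awayLift φ c (φ c) (isUnit_self _)) ≫ χ =
          sp (algebraMap B (Localization.Away (φ c))) ≫ ψ := by
    intro y
    obtain ⟨_, ⟨W, hW, rfl⟩, c, hcy, hcF⟩ := hd 𝓕 hF1 hF2 hF3 y
    refine ⟨c, hcy, ?_⟩
    apply exists_local φ ρ ι hinj hc0 hc ψ hψ c W hW
    rw [Scheme.Opens.range_ι]
    rintro _ ⟨z, rfl⟩
    simp only [Scheme.Hom.comp_base, TopCat.comp_app]
    set x : PrimeSpectrum B := (sp (algebraMap B (Localization.Away (φ c)))).base z with hx
    have hxc : x ∈ (PrimeSpectrum.basicOpen (φ c) : Set (PrimeSpectrum B)) := by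
      rw [← range_sp_algebraMap]
      exact ⟨z, rfl⟩
    by_contra hnot
    exact hxc (hcF x hnot)
  choose s hs1 χs hχs using hloc
  have hspan := span_range_eq_top s hs1
  set 𝒰 := (Scheme.affineOpenCoverOfSpanRangeEqTop (R := CommRingCat.of C) s hspan).openCover
    with h𝒰
  have hcompat : ∀ y y' : PrimeSpectrum C,
      pullback.fst (𝒰.f y) (𝒰.f y') ≫ χs y = pullback.snd _ _ ≫ χs y' := by
    intro y y'
    exact compat φ hinj hsurj ψ (s y) (s y') (χs y) (χs y') (hχs y) (hχs y')
  set χ := 𝒰.glueMorphisms χs hcompat with hχ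
  have hχι : ∀ y, sp (algebraMap C (Localization.Away (s y))) ≫ χ = χs y := by
    intro y
    exact 𝒰.ι_glueMorphisms χs hcompat y
  refine ⟨χ, ?_, ?_⟩
  · apply hom_ext_of_local
    intro x
    set y := PrimeSpectrum.comap φ x with hy
    refine ⟨φ (s y), hs1 y, ?_⟩
    have hsq : sp (algebraMap B (Localization.Away (φ (s y)))) ≫ sp φ =
        sp (awayLift φ (s y) (φ (s y)) (isUnit_self _)) ≫
          sp (algebraMap C (Localization.Away (s y))) := by
      rw [sp_comp, sp_comp, awayLift_comp]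
    rw [← Category.assoc, hsq, Category.assoc, hχι, hχs]
  · intro χ' hχ'
    apply spec_epi φ hinj hsurj
    rw [hχ']
    symm
    apply hom_ext_of_local
    intro x
    set y := PrimeSpectrum.comap φ x with hy
    refine ⟨φ (s y), hs1 y, ?_⟩
    have hsq : sp (algebraMap B (Localization.Away (φ (s y)))) ≫ sp φ =
        sp (awayLift φ (s y) (φ (s y)) (isUnit_self _)) ≫
          sp (algebraMap C (Localization.Away (s y))) := by
      rw [sp_comp, sp_comp, awayLift_comp]
    rw [← Category.assoc, hsq, Category.assoc, hχι, hχs]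

end Inv

end Groth.Agent.H9.TQ
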