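import Mathlib
import Groth.Prelude.Def_W4c1tameactTame
import Groth.Prelude.Def_GLin
import Groth.Agent.Lib.Helper9.Tame
import Groth.Agent.Lib.Helper9.Misc.TQ2

/-!
# The categorical quotient `Spec B ⟶ Spec B^A` for an action with a total integral (helper9)
-/

set_option autoImplicit false
set_option linter.style.haveILetI false
set_option linter.unusedSectionVars false
set_option linter.unusedVariables false

universe u

open CategoryTheory AlgebraicGeometry TensorProduct

namespace Groth.Agent.H9.TQ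

open Groth.Agent.H9.Tame

section Hopf

variable {k : Type u} [CommRing k] {A : Type u} [CommRing A] [HopfAlgebra k A]
  {B : Type u} [CommRing B] [Algebra k B] [HopfRep.Comod k A B] [GLin.IsCoactAlg k A B]

/-- `act β` maps the extension of an ideal `I` of `B` to `B ⊗ A` into `I` -/
lemma act_mem_of_mem_map (β : A →ₗ[k] B) (I : Ideal B) (z : B ⊗[k] A)
    (hz : z ∈ Ideal.map (Algebra.TensorProduct.includeLeftRingHom : B →+* B ⊗[k] A) I) :
    act B β z ∈ I := by
  have key : ∀ z ∈ Ideal.map (Algebra.TensorProduct.includeLeftRingHom : B →+* B ⊗[k] A) I,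
      ∀ t : B ⊗[k] A, act B β (t * z) ∈ I := by
    intro z hz
    unfold Ideal.map at hz
    induction hz using Submodule.span_induction with
    | mem z hz =>
      obtain ⟨u, hu, rfl⟩ := hz
      intro t
      induction t using TensorProduct.induction_on with
      | zero => simp
      | tmul b a =>
        show act B β (b ⊗ₜ[k] a * u ⊗ₜ[k] (1 : A)) ∈ I
        rw [Algebra.TensorProduct.tmul_mul_tmul, act_tmul, smul_eq_mul, ← mul_assoc]
        exact I.mul_mem_left _ hu
      | add x y hx hy => rw [add_mul, map_add]; exact I.add_mem hx hy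
    | zero => intro t; simp
    | add x y _ _ hx hy => intro t; rw [mul_add, map_add]; exact I.add_mem (hx t) (hy t)
    | smul s x _ hx => intro t; rw [smul_eq_mul, ← mul_assoc]; exact hx _
  have := key z hz 1
  rwa [one_mul] at this

/-- the geometric hypothesis of the abstract categorical quotient theorem -/
theorem exists_basicOpen_disjoint {α : A →ₗ[k] B} (hα : Hoch.IsComodHom A α) (hα1 : α 1 = 1)
    (𝓕 : Set (Set (PrimeSpectrum B))) (h1 : ∀ F ∈ 𝓕, IsClosed F)
    (h2 : ∀ F ∈ 𝓕, PrimeSpectrum.comap (GLin.coactAlgHom k A B).toRingHom ⁻¹' F =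
      PrimeSpectrum.comap (Algebra.TensorProduct.includeLeftRingHom : B →+* B ⊗[k] A) ⁻¹' F)
    (h3 : ⋂₀ 𝓕 = ∅) (y : PrimeSpectrum (GLin.invariants k A B)) :
    ∃ F ∈ 𝓕, ∃ c : GLin.invariants k A B, c ∉ y.asIdeal ∧
      ∀ x ∈ F, algebraMap (GLin.invariants k A B) B c ∈ x.asIdeal := by
  set ρ : B →+* B ⊗[k] A := (GLin.coactAlgHom k A B).toRingHom with hρ
  set ι : B →+* B ⊗[k] A := Algebra.TensorProduct.includeLeftRingHom with hι
  by_contra hcon
  push Not at hcon
  let E : B →ₗ[GLin.invariants k A B] GLin.invariants k A B := reynoldsInv hα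
  let J : 𝓕 → Ideal B := fun F => Ideal.comap ρ (Ideal.map ι (PrimeSpectrum.vanishingIdeal F.1))
  -- Claim A
  have hA : ∀ F : 𝓕, ∀ b ∈ J F, E b ∈ y.asIdeal := by
    intro F b hb
    have hEb : ((E b : GLin.invariants k A B) : B) ∈ PrimeSpectrum.vanishingIdeal F.1 := by
      show TameAct.reynolds k A B B α b ∈ _
      rw [reynolds_eq]
      exact act_mem_of_mem_map _ _ _ hb
    by_contra hny
    obtain ⟨x, hxF, hx⟩ := hcon F.1 F.2 (E b) hny
    exact hx ((PrimeSpectrum.mem_vanishingIdeal _ _).mp hEb x hxF)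
  -- Claim B
  have hB : (⨆ F : 𝓕, J F) = ⊤ := by
    rw [← PrimeSpectrum.zeroLocus_empty_iff_eq_top, Set.eq_empty_iff_forall_notMem]
    intro x hx
    have hxall : x ∈ ⋂₀ 𝓕 := by
      intro F hF
      have hJx : J ⟨F, hF⟩ ≤ x.asIdeal := le_trans (le_iSup J ⟨F, hF⟩) hx
      have hxz : x ∈ PrimeSpectrum.zeroLocus ((J ⟨F, hF⟩ : Ideal B) : Set B) := hJx
      rw [← PrimeSpectrum.closure_image_comap_zeroLocus] at hxz
      refine closure_minimal ?_ (h1 F hF) hxz
      rintro _ ⟨w, hw, rfl⟩
      have hw' : PrimeSpectrum.comap ι w ∈ F := by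
        have h4 : PrimeSpectrum.comap ι w ∈
            PrimeSpectrum.zeroLocus ((PrimeSpectrum.vanishingIdeal F : Ideal B) : Set B) := by
          intro u hu
          exact hw (Ideal.mem_map_of_mem ι hu)
        rwa [PrimeSpectrum.zeroLocus_vanishingIdeal_eq_closure, (h1 F hF).closure_eq] at h4
      have : w ∈ PrimeSpectrum.comap ρ ⁻¹' F := by
        rw [h2 F hF]
        exact hw'
      exact this
    rw [h3] at hxall
    exact hxall
  have h1mem : (1 : B) ∈ ⨆ F : 𝓕, J F := by rw [hB]; trivial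
  have hE1 : E 1 ∈ y.asIdeal := by
    refine Submodule.iSup_induction (p := J) (motive := fun b => E b ∈ y.asIdeal) h1mem ?_ ?_ ?_
    · intro F b hb
      exact hA F b hb
    · rw [map_zero]; exact y.asIdeal.zero_mem
    · intro a b ha hb
      rw [map_add]; exact y.asIdeal.add_mem ha hb
  have : E 1 = 1 := reynoldsInv_coe hα hα1 1
  rw [this] at hE1
  exact y.2.ne_top ((Ideal.eq_top_iff_one _).mpr hE1)

end Hopf

end Groth.Agent.H9.TQ
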