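import Mathlib
import Groth.Agent.Lib.Helper9.Misc.TRF2

set_option autoImplicit false
set_option linter.style.haveILetI false
set_option linter.unusedSectionVars false
set_option linter.unusedVariables false

namespace Groth.Agent.H9.TRQ

open LinearMap

universe u v

section Gen

variable {A : Type u} {B : Type v} [CommRing A] [CommRing B] [Algebra A B]
  (p : Ideal A) [p.IsMaximal]

attribute [local instance] Ideal.Quotient.field

variable (I P : Ideal B)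
  [Algebra (A ⧸ p) (B ⧸ I)] [IsScalarTower A (A ⧸ p) (B ⧸ I)]
  [Algebra (A ⧸ p) (B ⧸ P)] [IsScalarTower A (A ⧸ p) (B ⧸ P)]
  [Module.Finite (A ⧸ p) (B ⧸ I)]

theorem lmul_pow_mk (x : B) (n : ℕ) (y : B) :
    ((Algebra.lmul (A ⧸ p) (B ⧸ I) (Ideal.Quotient.mk I x)) ^ n) (Ideal.Quotient.mk I y) =
      Ideal.Quotient.mk I (x ^ n * y) := by
  rw [← map_pow, ← map_pow, Algebra.coe_lmul_eq_mul, LinearMap.mul_apply', ← map_mul]

theorem trace_quot_eq_smul (hIP : I ≤ P) (π : B) (e : ℕ) (he : 1 ≤ e) (hπe : π ^ e ∈ I)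
    (ha : ∀ x, π * x ∈ I → ∃ c, x - π ^ (e - 1) * c ∈ I)
    (hb : ∀ x, x ∈ P ↔ π ^ (e - 1) * x ∈ I) (b : B) :
    Algebra.trace (A ⧸ p) (B ⧸ I) (Ideal.Quotient.mk I b) =
      e • Algebra.trace (A ⧸ p) (B ⧸ P) (Ideal.Quotient.mk P b) := by
  let σA : (B ⧸ I) →ₐ[A] (B ⧸ P) := Ideal.Quotient.factorₐ A hIP
  let σ : (B ⧸ I) →ₗ[A ⧸ p] (B ⧸ P) :=
    σA.toLinearMap.extendScalarsOfSurjective Ideal.Quotient.mk_surjective
  have hσ_apply : ∀ x : B, σ (Ideal.Quotient.mk I x) = Ideal.Quotient.mk P x := fun x => rfl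
  have hzero : Ideal.Quotient.mk I (π ^ e) = 0 := Ideal.Quotient.eq_zero_iff_mem.mpr hπe
  have hee : π ^ e = π ^ (e - 1) * π := by
    rw [← pow_succ]; congr 1; omega
  rw [Algebra.trace_apply, Algebra.trace_apply]
  refine TRF.trace_eq_smul_of_nilpotent'' (Algebra.lmul _ _ (Ideal.Quotient.mk I π))
    (Algebra.lmul _ _ (Ideal.Quotient.mk I b)) ?_ e he ?_ ?_ σ ?_ ?_
    (Algebra.lmul _ _ (Ideal.Quotient.mk P b)) ?_
  · exact (Commute.all _ _).map (Algebra.lmul _ _)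
  · rw [← map_pow, ← map_pow, hzero, map_zero]
  · ext x
    obtain ⟨x, rfl⟩ := Ideal.Quotient.mk_surjective x
    rw [LinearMap.mem_ker, LinearMap.mem_range]
    have h1 := lmul_pow_mk p I π 1 x
    rw [pow_one, pow_one] at h1
    rw [h1, Ideal.Quotient.eq_zero_iff_mem]
    constructor
    · intro hx
      obtain ⟨c, hc⟩ := ha x hx
      refine ⟨Ideal.Quotient.mk I c, ?_⟩
      rw [lmul_pow_mk]
      exact (Ideal.Quotient.eq.mpr hc).symm
    · rintro ⟨y, hy⟩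
      obtain ⟨y, rfl⟩ := Ideal.Quotient.mk_surjective y
      rw [lmul_pow_mk] at hy
      rw [← Ideal.Quotient.eq_zero_iff_mem, map_mul, ← hy, ← map_mul,
        Ideal.Quotient.eq_zero_iff_mem]
      have : π * (π ^ (e - 1) * y) = π ^ e * y := by rw [hee]; ring
      rw [this]
      exact Ideal.mul_mem_right _ _ hπe
  · intro y
    obtain ⟨y, rfl⟩ := Ideal.Quotient.mk_surjective y
    exact ⟨Ideal.Quotient.mk I y, hσ_apply y⟩
  · ext x
    obtain ⟨x, rfl⟩ := Ideal.Quotient.mk_surjective x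
    rw [LinearMap.mem_ker, LinearMap.mem_ker, hσ_apply, Ideal.Quotient.eq_zero_iff_mem,
      lmul_pow_mk, Ideal.Quotient.eq_zero_iff_mem]
    exact hb x
  · intro v
    obtain ⟨v, rfl⟩ := Ideal.Quotient.mk_surjective v
    rw [hσ_apply, Algebra.coe_lmul_eq_mul, Algebra.coe_lmul_eq_mul, LinearMap.mul_apply',
      LinearMap.mul_apply', ← map_mul, ← map_mul, hσ_apply]

end Gen

section Ded

variable {B : Type v} [CommRing B] [IsDedekindDomain B] (Q : Ideal B) [hQ : Q.IsPrime]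
  (hQ0 : Q ≠ ⊥)

include hQ0 in
theorem mem_pow_iff (x : B) (n : ℕ) :
    x ∈ Q ^ n ↔ (n : ℕ∞) ≤ emultiplicity Q (Ideal.span {x}) := by
  rw [← Ideal.dvd_span_singleton, pow_dvd_iff_le_emultiplicity]

include hQ0 in
theorem emult_mul (x y : B) :
    emultiplicity Q (Ideal.span {x * y}) =
      emultiplicity Q (Ideal.span {x}) + emultiplicity Q (Ideal.span {y}) := by
  rw [← Ideal.span_singleton_mul_span_singleton,
    emultiplicity_mul (Ideal.prime_of_isPrime hQ0 hQ)]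

include hQ0 in
theorem emult_unif {π : B} (h1 : π ∈ Q) (h2 : π ∉ Q ^ 2) :
    emultiplicity Q (Ideal.span {π}) = 1 := by
  have : emultiplicity Q (Ideal.span {π}) = ((1 : ℕ) : ℕ∞) := by
    rw [emultiplicity_eq_coe]
    constructor
    · rw [pow_one, Ideal.dvd_span_singleton]; exact h1
    · rw [Ideal.dvd_span_singleton]; exact h2
  rw [this]; rfl

include hQ0 in
theorem emult_unif_pow {π : B} (h1 : π ∈ Q) (h2 : π ∉ Q ^ 2) (j : ℕ) :
    emultiplicity Q (Ideal.span {π ^ j}) = j := by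
  rw [← Ideal.span_singleton_pow, emultiplicity_pow (Ideal.prime_of_isPrime hQ0 hQ),
    emult_unif Q hQ0 h1 h2, mul_one]

include hQ0 in
theorem exists_unif : ∃ π : B, π ∈ Q ∧ π ∉ Q ^ 2 := by
  have hlt : Q ^ (1 + 1) < Q ^ 1 := Ideal.pow_succ_lt_pow hQ0 1
  obtain ⟨π, h1, h2⟩ := SetLike.exists_of_lt hlt
  exact ⟨π, by rwa [pow_one] at h1, h2⟩

include hQ0 in
theorem hb_ded {π : B} (h1 : π ∈ Q) (h2 : π ∉ Q ^ 2) (e : ℕ) (he : 1 ≤ e) (x : B) :
    x ∈ Q ↔ π ^ (e - 1) * x ∈ Q ^ e := by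
  have hx1 : x ∈ Q ↔ x ∈ Q ^ 1 := by rw [pow_one]
  rw [hx1, mem_pow_iff Q hQ0, mem_pow_iff Q hQ0, emult_mul Q hQ0, emult_unif_pow Q hQ0 h1 h2]
  generalize emultiplicity Q (Ideal.span {x}) = v
  induction v using ENat.recTopCoe with
  | top => simp
  | coe n =>
    norm_cast
    omega

include hQ0 in
theorem ha_ded {π : B} (h1 : π ∈ Q) (h2 : π ∉ Q ^ 2) (e : ℕ) (he : 1 ≤ e) (x : B)
    (hx : π * x ∈ Q ^ e) : ∃ c, x - π ^ (e - 1) * c ∈ Q ^ e := by
  have hx' : x ∈ Q ^ (e - 1) := by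
    rw [mem_pow_iff Q hQ0] at hx ⊢
    rw [emult_mul Q hQ0, emult_unif Q hQ0 h1 h2] at hx
    generalize emultiplicity Q (Ideal.span {x}) = v at hx ⊢
    induction v using ENat.recTopCoe with
    | top => simp
    | coe n =>
      norm_cast at hx ⊢
      omega
  have hle : Q ^ (e - 1) ≤ Ideal.span {π ^ (e - 1)} ⊔ Q ^ e := by
    have hdvd : Ideal.span {π ^ (e - 1)} ⊔ Q ^ e ∣ Q ^ e := Ideal.dvd_iff_le.mpr le_sup_right
    obtain ⟨i, hi, hassoc⟩ := (dvd_prime_pow (Ideal.prime_of_isPrime hQ0 hQ) e).mp hdvd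
    rw [associated_iff_eq] at hassoc
    have hmem : π ^ (e - 1) ∈ Q ^ i := by
      rw [← hassoc]
      exact Ideal.mem_sup_left (Ideal.mem_span_singleton_self _)
    rw [mem_pow_iff Q hQ0, emult_unif_pow Q hQ0 h1 h2] at hmem
    have hi' : i ≤ e - 1 := by exact_mod_cast hmem
    rw [hassoc]
    exact Ideal.pow_le_pow_right hi'
  obtain ⟨y, hy, z, hz, hyz⟩ := Submodule.mem_sup.mp (hle hx')
  obtain ⟨c, rfl⟩ := Ideal.mem_span_singleton'.mp hy
  refine ⟨c, ?_⟩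
  have : x - π ^ (e - 1) * c = z := by rw [← hyz]; ring
  rw [this]; exact hz

end Ded

end Groth.Agent.H9.TRQ
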