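import Mathlib
import Groth.Agent.Lib.Helper9.Misc.TRQ1

set_option autoImplicit false
set_option linter.style.haveILetI false
set_option linter.unusedSectionVars false
set_option linter.unusedVariables false

namespace Groth.Agent.H9.TRQ

open LinearMap

universe u v w

section PiTrace

variable {k : Type u} [Field k] {ι : Type w} [Fintype ι] [DecidableEq ι] {V : ι → Type v}
  [∀ i, AddCommGroup (V i)] [∀ i, Module k (V i)] [∀ i, FiniteDimensional k (V i)]

theorem trace_pi (f : ∀ i, V i →ₗ[k] V i) :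
    LinearMap.trace k (∀ i, V i) (LinearMap.pi fun i => (f i).comp (LinearMap.proj i)) =
      ∑ i, LinearMap.trace k (V i) (f i) := by
  classical
  let b : ∀ i, Module.Basis (Fin (Module.finrank k (V i))) k (V i) :=
    fun i => Module.finBasis k (V i)
  let Bs := Pi.basis b
  rw [LinearMap.trace_eq_matrix_trace k Bs, Matrix.trace, Fintype.sum_sigma]
  refine Finset.sum_congr rfl fun i _ => ?_
  rw [LinearMap.trace_eq_matrix_trace k (b i), Matrix.trace]
  refine Finset.sum_congr rfl fun j _ => ?_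
  rw [Matrix.diag_apply, Matrix.diag_apply, LinearMap.toMatrix_apply, LinearMap.toMatrix_apply,
    Pi.basis_repr, Pi.basis_apply]
  simp

end PiTrace

section QuotPi

variable {A : Type u} {B : Type v} [CommRing A] [CommRing B] [Algebra A B]
  (p : Ideal A) [p.IsMaximal]

attribute [local instance] Ideal.Quotient.field

theorem mk_smul_mk (K : Ideal B) [Algebra (A ⧸ p) (B ⧸ K)] [IsScalarTower A (A ⧸ p) (B ⧸ K)]
    (a : A) (x : B) :
    (Ideal.Quotient.mk p a) • (Ideal.Quotient.mk K x) = Ideal.Quotient.mk K (a • x) := by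
  rw [← Ideal.Quotient.algebraMap_eq p, algebraMap_smul, ← Ideal.Quotient.mkₐ_eq_mk A,
    ← map_smul]

theorem trace_quot_pi {ι : Type w} [Fintype ι] [DecidableEq ι] (I : Ideal B) (J : ι → Ideal B)
    [Algebra (A ⧸ p) (B ⧸ I)] [IsScalarTower A (A ⧸ p) (B ⧸ I)]
    [∀ i, Algebra (A ⧸ p) (B ⧸ J i)] [∀ i, IsScalarTower A (A ⧸ p) (B ⧸ J i)]
    [∀ i, Module.Finite (A ⧸ p) (B ⧸ J i)]
    (e : (B ⧸ I) ≃+* (∀ i, B ⧸ J i))
    (he : ∀ x, e (Ideal.Quotient.mk I x) = fun i => Ideal.Quotient.mk (J i) x) (y : B) :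
    Algebra.trace (A ⧸ p) (B ⧸ I) (Ideal.Quotient.mk I y) =
      ∑ i, Algebra.trace (A ⧸ p) (B ⧸ J i) (Ideal.Quotient.mk (J i) y) := by
  have hsmul : ∀ (c : A ⧸ p) (v : B ⧸ I), e (c • v) = c • e v := by
    intro c v
    obtain ⟨a, rfl⟩ := Ideal.Quotient.mk_surjective c
    obtain ⟨x, rfl⟩ := Ideal.Quotient.mk_surjective v
    rw [mk_smul_mk, he, he]
    funext i
    rw [Pi.smul_apply, mk_smul_mk]
  let E : (B ⧸ I) ≃ₗ[A ⧸ p] (∀ i, B ⧸ J i) :=
    { e with map_smul' := hsmul }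
  have hE : ∀ v, E v = e v := fun v => rfl
  have hconj : E.conj (Algebra.lmul (A ⧸ p) (B ⧸ I) (Ideal.Quotient.mk I y)) =
      LinearMap.pi fun i => (Algebra.lmul (A ⧸ p) (B ⧸ J i) (Ideal.Quotient.mk (J i) y)).comp
        (LinearMap.proj i) := by
    apply LinearMap.ext
    intro w
    obtain ⟨v, rfl⟩ := E.surjective w
    rw [LinearEquiv.conj_apply_apply, LinearEquiv.symm_apply_apply]
    rw [Algebra.coe_lmul_eq_mul, LinearMap.mul_apply', hE, map_mul, he, ← hE]
    funext i
    rw [LinearMap.pi_apply, LinearMap.comp_apply, Algebra.coe_lmul_eq_mul, LinearMap.mul_apply',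
      LinearMap.proj_apply, Pi.mul_apply]
  rw [Algebra.trace_apply, ← LinearMap.trace_conj' _ E, hconj, trace_pi]
  refine Finset.sum_congr rfl fun i _ => ?_
  rw [Algebra.trace_apply]

end QuotPi

end Groth.Agent.H9.TRQ
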