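import Mathlib
import Groth.Agent.Lib.Helper9.Misc.TRQ2

set_option autoImplicit false
set_option linter.style.haveILetI false
set_option linter.unusedSectionVars false
set_option linter.unusedVariables false

namespace Groth.Agent.H9.TRQ

open LinearMap UniqueFactorizationMonoid

universe u

attribute [local instance] Ideal.Quotient.field

theorem main (A B : Type u) [CommRing A] [CommRing B]
    [IsDedekindDomain A] [IsDedekindDomain B] [Algebra A B] [Module.Finite A B]
    [Module.IsTorsionFree A B]
    (p : Ideal A) [p.IsMaximal] (hp : p ≠ ⊥) (y : B) :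
    Ideal.Quotient.mk p (Algebra.intTrace A B y) =
      ∑ᶠ Q : p.primesOver B,
        Q.1.ramificationIdx A •
          Algebra.trace (A ⧸ p) (B ⧸ Q.1) (Ideal.Quotient.mk Q.1 y) := by
  rw [← Algebra.trace_quotient_eq_of_isDedekindDomain B p y]
  have hpB : p.map (algebraMap A B) ≠ ⊥ :=
    (Ideal.map_eq_bot_iff_of_injective (FaithfulSMul.algebraMap_injective A B)).not.mpr hp
  set I := p.map (algebraMap A B) with hI
  let J : (factors I).toFinset → Ideal B := fun P => P.1 ^ Multiset.count P.1 (factors I)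
  have hJ : ∀ P, I ≤ J P := by
    intro P x hx
    have h1 : IsDedekindDomain.quotientEquivPiFactors hpB (Ideal.Quotient.mk I x) = 0 := by
      rw [Ideal.Quotient.eq_zero_iff_mem.mpr hx, map_zero]
    rw [IsDedekindDomain.quotientEquivPiFactors_mk] at h1
    exact Ideal.Quotient.eq_zero_iff_mem.mp (congrFun h1 P)
  letI algJ : ∀ P, Algebra (A ⧸ p) (B ⧸ J P) := fun P =>
    Ideal.Quotient.algebraQuotientOfLEComap (Ideal.map_le_iff_le_comap.mp (hJ P))
  haveI towJ : ∀ P, IsScalarTower A (A ⧸ p) (B ⧸ J P) := fun P =>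
    IsScalarTower.of_algebraMap_eq' rfl
  haveI finJ : ∀ P, Module.Finite (A ⧸ p) (B ⧸ J P) := by
    intro P
    have : Module.Finite A (B ⧸ J P) :=
      Module.Finite.of_surjective (Ideal.Quotient.mkₐ A (J P)).toLinearMap
        (Ideal.Quotient.mkₐ_surjective A (J P))
    exact Module.Finite.of_restrictScalars_finite A (A ⧸ p) (B ⧸ J P)
  have hmem : ∀ P : (factors I).toFinset, P.1 ∈ p.primesOver B := fun P =>
    (IsDedekindDomain.mem_primesOverFinset_iff hp B).mp P.2
  haveI primeP : ∀ P : (factors I).toFinset, P.1.IsPrime := fun P => (hmem P).1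
  haveI liesP : ∀ P : (factors I).toFinset, P.1.LiesOver p := fun P => (hmem P).2
  rw [trace_quot_pi p I J (IsDedekindDomain.quotientEquivPiFactors hpB) (fun x => rfl) y]
  have hterm : ∀ P : (factors I).toFinset,
      Algebra.trace (A ⧸ p) (B ⧸ J P) (Ideal.Quotient.mk (J P) y) =
        P.1.ramificationIdx A • Algebra.trace (A ⧸ p) (B ⧸ P.1) (Ideal.Quotient.mk P.1 y) := by
    intro P
    have hP0 : P.1 ≠ ⊥ := by
      intro h0
      apply hpB
      have := hJ P
      rw [show J P = P.1 ^ Multiset.count P.1 (factors I) from rfl, h0] at this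
      have hc : Multiset.count (⊥ : Ideal B) (factors I) ≠ 0 := by
        rw [← h0]
        exact (Multiset.count_pos.mpr (Multiset.mem_toFinset.mp P.2)).ne'
      rw [Ideal.bot_pow hc] at this
      exact le_bot_iff.mp this
    have he1 : 1 ≤ Multiset.count P.1 (factors I) :=
      Multiset.count_pos.mpr (Multiset.mem_toFinset.mp P.2)
    obtain ⟨π, h1, h2⟩ := exists_unif P.1 hP0
    rw [Ideal.IsDedekindDomain.ramificationIdx_eq_factors_count p P.1 hpB]
    exact trace_quot_eq_smul p (J P) P.1 (Ideal.pow_le_self (by omega)) π _ he1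
      (Ideal.pow_mem_pow h1 _) (ha_ded P.1 hP0 h1 h2 _ he1) (hb_ded P.1 hP0 h1 h2 _ he1) y
  rw [Finset.sum_congr rfl (fun P _ => hterm P)]
  let eqv : (factors I).toFinset ≃ p.primesOver B :=
    Equiv.subtypeEquivRight (fun P => IsDedekindDomain.mem_primesOverFinset_iff hp B)
  rw [← finsum_eq_sum_of_fintype]
  exact finsum_eq_of_bijective eqv eqv.bijective (fun P => rfl)

end Groth.Agent.H9.TRQ
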