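import Mathlib
import Groth.Prelude.Def_SymTen

/-! Helper9: symmetric tensors commute with filtered colimits (S13728) -/
set_option linter.style.haveILetI false

namespace Groth.Agent.H9.TSC
open scoped TensorProduct

universe u
variable {A : Type u} [CommRing A]

section functor
variable {B C D : Type u} [CommRing B] [Algebra A B] [CommRing C] [Algebra A C] [CommRing D] [Algebra A D]

lemma tmap_id (d : ℕ) (w : ⨂[A] _ : Fin d, B) : SymTen.tmap A d (AlgHom.id A B) w = w := by
  induction w using PiTensorProduct.induction_on with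
  | smul_tprod r x => simp
  | add x y hx hy => rw [map_add, hx, hy]

lemma tmap_comp (d : ℕ) (f : B →ₐ[A] C) (g : C →ₐ[A] D) (w : ⨂[A] _ : Fin d, B) :
    SymTen.tmap A d (g.comp f) w = SymTen.tmap A d g (SymTen.tmap A d f w) := by
  induction w using PiTensorProduct.induction_on with
  | smul_tprod r x => simp
  | add x y hx hy => rw [map_add, map_add, map_add, hx, hy]

lemma TSmap_val (d : ℕ) (f : B →ₐ[A] C) (y : SymTen.TS A B d) :
    ((SymTen.TSmap A d f y : SymTen.TS A C d) : ⨂[A] _ : Fin d, C) = SymTen.tmap A d f y.1 := rfl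

end functor


section colim
variable {B : Type u} [CommRing B] [Algebra A B]
  {ι : Type u} [Preorder ι] [IsDirected ι (fun i j => i ≤ j)] [Nonempty ι]
  (Bi : ι → Type u) [∀ i, CommRing (Bi i)] [∀ i, Algebra A (Bi i)]
  (t : ∀ i j : ι, i ≤ j → (Bi i →ₐ[A] Bi j)) (φ : ∀ i : ι, Bi i →ₐ[A] B)
  (hcomp : ∀ (i j : ι) (h : i ≤ j), (φ j).comp (t i j h) = φ i)
  (hsurj : ∀ b : B, ∃ (i : ι) (x : Bi i), φ i x = b)
  (hzero : ∀ (i : ι) (x : Bi i), φ i x = 0 → ∃ (j : ι) (h : i ≤ j), t i j h x = 0)
  (hid : ∀ (i : ι) (h : i ≤ i), t i i h = AlgHom.id A (Bi i))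
  (htrans : ∀ (i j k : ι) (hij : i ≤ j) (hjk : j ≤ k), (t j k hjk).comp (t i j hij) = t i k (hij.trans hjk))

include hcomp hsurj in
/-- common lifts of a finite family -/
lemma exists_lifts {κ : Type*} [Finite κ] (b : κ → B) :
    ∃ (i : ι) (x : κ → Bi i), ∀ l, φ i (x l) = b l := by
  choose i₀ x₀ hx₀ using fun l => hsurj (b l)
  obtain ⟨i, hi⟩ := Finite.exists_le i₀
  refine ⟨i, fun l => t (i₀ l) i (hi l) (x₀ l), fun l => ?_⟩
  rw [← AlgHom.comp_apply, hcomp, hx₀]

include hzero htrans in
/-- two finite families of lifts of the same elements agree at a later stage -/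
lemma exists_eq_lifts {κ : Type*} [Finite κ] (i : ι) (x x' : κ → Bi i)
    (h : ∀ l, φ i (x l) = φ i (x' l)) :
    ∃ (j : ι) (hij : i ≤ j), ∀ l, t i j hij (x l) = t i j hij (x' l) := by
  have h0 : ∀ l, ∃ (j : ι) (hij : i ≤ j), t i j hij (x l - x' l) = 0 := fun l =>
    hzero i _ (by rw [map_sub, h l, sub_self])
  choose j₀ hj₀ hx₀ using h0
  obtain ⟨j, hj⟩ := Finite.exists_le (fun o : Option κ => o.elim i j₀)
  have hij : i ≤ j := hj none
  refine ⟨j, hij, fun l => ?_⟩
  have hl : j₀ l ≤ j := hj (some l)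
  have h1 : t i j hij (x l - x' l) = 0 := by
    have := htrans i (j₀ l) j (hj₀ l) hl
    rw [← this, AlgHom.comp_apply, hx₀ l, map_zero]
  rwa [map_sub, sub_eq_zero] at h1


/-- the transition maps of tensor powers -/
noncomputable def fT (d : ℕ) (i j : ι) (h : i ≤ j) :
    (⨂[A] _ : Fin d, Bi i) →ₗ[A] (⨂[A] _ : Fin d, Bi j) :=
  (SymTen.tmap A d (t i j h)).toLinearMap

omit [IsDirected ι fun i j => i ≤ j] [Nonempty ι] in
include hid htrans in
lemma directedSystem (d : ℕ) :
    DirectedSystem (fun i => ⨂[A] _ : Fin d, Bi i) (fun i j h => fT Bi t d i j h) where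
  map_self i x := by
    show SymTen.tmap A d (t i i le_rfl) x = x
    rw [hid, tmap_id]
  map_map k j i hij hjk x := by
    show SymTen.tmap A d (t j k hjk) (SymTen.tmap A d (t i j hij) x) = SymTen.tmap A d (t i k _) x
    rw [← tmap_comp, htrans]

open Classical in
/-- the direct limit of the tensor powers -/
noncomputable abbrev LL (d : ℕ) : Type u :=
  Module.DirectLimit (fun i => ⨂[A] _ : Fin d, Bi i) (fun i j h => fT Bi t d i j h)

open Classical in
/-- the structure map into the direct limit -/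
noncomputable abbrev ofL (d : ℕ) (i : ι) : (⨂[A] _ : Fin d, Bi i) →ₗ[A] LL Bi t d :=
  Module.DirectLimit.of A ι (fun i => ⨂[A] _ : Fin d, Bi i) (fun i j h => fT Bi t d i j h) i

omit [IsDirected ι fun i j => i ≤ j] [Nonempty ι] in
lemma ofL_tprod (d : ℕ) (i j : ι) (h : i ≤ j) (x : Fin d → Bi i) :
    ofL Bi t d i (PiTensorProduct.tprod A x) =
      ofL Bi t d j (PiTensorProduct.tprod A (fun l => t i j h (x l))) := by
  classical
  rw [← SymTen.tmap_tprod]
  exact (Module.DirectLimit.of_f (f := fun i j h => fT Bi t d i j h) (hij := h)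
    (x := PiTensorProduct.tprod A x)).symm

include hzero htrans in
/-- the value in the direct limit only depends on the images in `B` -/
lemma ofL_tprod_eq (d : ℕ) (i i' : ι) (x : Fin d → Bi i) (x' : Fin d → Bi i')
    (h : ∀ l, φ i (x l) = φ i' (x' l)) (hcomp : ∀ (i j : ι) (h : i ≤ j), (φ j).comp (t i j h) = φ i) :
    ofL Bi t d i (PiTensorProduct.tprod A x) = ofL Bi t d i' (PiTensorProduct.tprod A x') := by
  obtain ⟨i₁, h1, h1'⟩ := exists_ge_ge i i'
  rw [ofL_tprod Bi t d i i₁ h1, ofL_tprod Bi t d i' i₁ h1']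
  obtain ⟨j, hj, hjx⟩ := exists_eq_lifts Bi t φ hzero htrans i₁
    (fun l => t i i₁ h1 (x l)) (fun l => t i' i₁ h1' (x' l)) (fun l => by
      rw [← AlgHom.comp_apply, ← AlgHom.comp_apply, hcomp, hcomp, h l])
  rw [ofL_tprod Bi t d i₁ j hj, ofL_tprod Bi t d i₁ j hj]
  congr 2
  funext l
  exact hjx l


/-- the multilinear map `B^d → colim T^d(B_i)`, as a function -/
noncomputable def psi0 (hcomp : ∀ (i j : ι) (h : i ≤ j), (φ j).comp (t i j h) = φ i)
    (hsurj : ∀ b : B, ∃ (i : ι) (x : Bi i), φ i x = b) (d : ℕ) (b : Fin d → B) : LL Bi t d :=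
  ofL Bi t d (exists_lifts Bi t φ hcomp hsurj b).choose
    (PiTensorProduct.tprod A (exists_lifts Bi t φ hcomp hsurj b).choose_spec.choose)

include hzero htrans in
lemma psi0_eq (d : ℕ) (b : Fin d → B) (i : ι) (x : Fin d → Bi i) (hx : ∀ l, φ i (x l) = b l) :
    psi0 Bi t φ hcomp hsurj d b = ofL Bi t d i (PiTensorProduct.tprod A x) := by
  rw [psi0]
  apply ofL_tprod_eq Bi t φ hzero htrans d _ _ _ _ _ hcomp
  intro l
  rw [(exists_lifts Bi t φ hcomp hsurj b).choose_spec.choose_spec l, hx l]

include hzero htrans in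
/-- the multilinear map `B^d → colim T^d(B_i)` -/
noncomputable def psi (d : ℕ) : MultilinearMap A (fun _ : Fin d => B) (LL Bi t d) where
  toFun := psi0 Bi t φ hcomp hsurj d
  map_update_add' := by
    intro _ m l c c'
    obtain ⟨i, x, hx⟩ := exists_lifts Bi t φ hcomp hsurj
      (Sum.elim m (fun β : Bool => if β then c else c') : Fin d ⊕ Bool → B)
    have hm : ∀ l', φ i (x (Sum.inl l')) = m l' := fun l' => hx (Sum.inl l')
    have hc : φ i (x (Sum.inr true)) = c := by simpa using hx (Sum.inr true)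
    have hc' : φ i (x (Sum.inr false)) = c' := by simpa using hx (Sum.inr false)
    rw [psi0_eq Bi t φ hcomp hsurj hzero htrans d _ i
        (Function.update (fun l' => x (Sum.inl l')) l (x (Sum.inr true) + x (Sum.inr false))),
      psi0_eq Bi t φ hcomp hsurj hzero htrans d _ i
        (Function.update (fun l' => x (Sum.inl l')) l (x (Sum.inr true))),
      psi0_eq Bi t φ hcomp hsurj hzero htrans d _ i
        (Function.update (fun l' => x (Sum.inl l')) l (x (Sum.inr false))),
      MultilinearMap.map_update_add, map_add]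
    · intro l'
      by_cases h : l' = l
      · subst h; simp [hc']
      · simp [Function.update_of_ne h, hm]
    · intro l'
      by_cases h : l' = l
      · subst h; simp [hc]
      · simp [Function.update_of_ne h, hm]
    · intro l'
      by_cases h : l' = l
      · subst h; simp [hc, hc']
      · simp [Function.update_of_ne h, hm]
  map_update_smul' := by
    intro _ m l r c
    obtain ⟨i, x, hx⟩ := exists_lifts Bi t φ hcomp hsurj
      (Sum.elim m (fun _ : Unit => c) : Fin d ⊕ Unit → B)
    have hm : ∀ l', φ i (x (Sum.inl l')) = m l' := fun l' => hx (Sum.inl l')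
    have hc : φ i (x (Sum.inr ())) = c := by simpa using hx (Sum.inr ())
    rw [psi0_eq Bi t φ hcomp hsurj hzero htrans d _ i
        (Function.update (fun l' => x (Sum.inl l')) l (r • x (Sum.inr ()))),
      psi0_eq Bi t φ hcomp hsurj hzero htrans d _ i
        (Function.update (fun l' => x (Sum.inl l')) l (x (Sum.inr ()))),
      MultilinearMap.map_update_smul, map_smul]
    · intro l'
      by_cases h : l' = l
      · subst h; simp [hc]
      · simp [Function.update_of_ne h, hm]
    · intro l'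
      by_cases h : l' = l
      · subst h; simp [hc]
      · simp [Function.update_of_ne h, hm]


include hcomp hsurj hzero htrans in
/-- key identity: `Ψ ∘ T^d(φ_i)` is the structure map -/
lemma Psi_tmap (d : ℕ) (i : ι) (w : ⨂[A] _ : Fin d, Bi i) :
    PiTensorProduct.lift (psi Bi t φ hcomp hsurj hzero htrans d) (SymTen.tmap A d (φ i) w) =
      ofL Bi t d i w := by
  induction w using PiTensorProduct.induction_on with
  | smul_tprod r x =>
    rw [map_smul, map_smul, map_smul, SymTen.tmap_tprod, PiTensorProduct.lift.tprod]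
    congr 1
    exact psi0_eq Bi t φ hcomp hsurj hzero htrans d _ i x (fun l => rfl)
  | add x y hx hy => rw [map_add, map_add, map_add, hx, hy]

include hcomp hsurj hzero hid htrans in
/-- a tensor vanishing in `T^d(B)` vanishes at a later stage -/
lemma tmap_zero_exact (d : ℕ) (i : ι) (w : ⨂[A] _ : Fin d, Bi i)
    (hw : SymTen.tmap A d (φ i) w = 0) :
    ∃ (j : ι) (h : i ≤ j), SymTen.tmap A d (t i j h) w = 0 := by
  classical
  have h1 := Psi_tmap Bi t φ hcomp hsurj hzero htrans d i w
  rw [hw, map_zero] at h1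
  have := directedSystem Bi t hid htrans d
  exact Module.DirectLimit.of.zero_exact h1.symm

include hcomp hsurj in
/-- every tensor of `T^d(B)` comes from some stage -/
lemma tmap_surj (d : ℕ) (z : ⨂[A] _ : Fin d, B) :
    ∃ (i : ι) (w : ⨂[A] _ : Fin d, Bi i), SymTen.tmap A d (φ i) w = z := by
  induction z using PiTensorProduct.induction_on with
  | smul_tprod r b =>
    obtain ⟨i, x, hx⟩ := exists_lifts Bi t φ hcomp hsurj b
    refine ⟨i, r • PiTensorProduct.tprod A x, ?_⟩
    rw [map_smul, SymTen.tmap_tprod]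
    congr 2
    funext l
    exact hx l
  | add z z' hz hz' =>
    obtain ⟨i, w, rfl⟩ := hz
    obtain ⟨i', w', rfl⟩ := hz'
    obtain ⟨j, h1, h2⟩ := exists_ge_ge i i'
    refine ⟨j, SymTen.tmap A d (t i j h1) w + SymTen.tmap A d (t i' j h2) w', ?_⟩
    rw [map_add, ← tmap_comp, ← tmap_comp, hcomp, hcomp]

include hcomp hsurj hzero hid htrans in
theorem S13728_main (d : ℕ) :
    (∀ z : SymTen.TS A B d, ∃ (i : ι) (y : SymTen.TS A (Bi i) d), SymTen.TSmap A d (φ i) y = z) ∧
      ∀ (i : ι) (y : SymTen.TS A (Bi i) d), SymTen.TSmap A d (φ i) y = 0 →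
        ∃ (j : ι) (h : i ≤ j), SymTen.TSmap A d (t i j h) y = 0 := by
  constructor
  · intro z
    obtain ⟨i, w, hw⟩ := tmap_surj Bi t φ hcomp hsurj d z.1
    have h1 : ∀ σ : Equiv.Perm (Fin d), ∃ (j : ι) (h : i ≤ j), SymTen.tmap A d (t i j h)
        (PiTensorProduct.reindex A (fun _ : Fin d => Bi i) σ w - w) = 0 := by
      intro σ
      apply tmap_zero_exact Bi t φ hcomp hsurj hzero hid htrans
      rw [map_sub, SymTen.tmap_reindex, hw, z.2 σ, sub_self]
    choose j₀ hj₀ hw₀ using h1
    obtain ⟨j, hj⟩ := Finite.exists_le (fun o : Option (Equiv.Perm (Fin d)) => o.elim i j₀)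
    have hij : i ≤ j := hj none
    have hy : SymTen.tmap A d (t i j hij) w ∈ SymTen.TS A (Bi j) d := by
      intro σ
      have hl : j₀ σ ≤ j := hj (some σ)
      have h2 : SymTen.tmap A d (t i j hij)
          (PiTensorProduct.reindex A (fun _ : Fin d => Bi i) σ w - w) = 0 := by
        rw [← htrans i (j₀ σ) j (hj₀ σ) hl, tmap_comp, hw₀ σ, map_zero]
      rw [map_sub, SymTen.tmap_reindex, sub_eq_zero] at h2
      exact h2
    refine ⟨j, ⟨_, hy⟩, ?_⟩
    apply Subtype.ext
    rw [TSmap_val]
    show SymTen.tmap A d (φ j) (SymTen.tmap A d (t i j hij) w) = z.1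
    rw [← tmap_comp, hcomp, hw]
  · intro i y hy
    have h1 : SymTen.tmap A d (φ i) y.1 = 0 := by
      rw [← TSmap_val, hy]; rfl
    obtain ⟨j, hij, hj⟩ := tmap_zero_exact Bi t φ hcomp hsurj hzero hid htrans d i y.1 h1
    refine ⟨j, hij, ?_⟩
    apply Subtype.ext
    rw [TSmap_val, hj]; rfl

end colim

end Groth.Agent.H9.TSC
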