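import Mathlib
import Groth.Prelude.Def_PolLaw
import Groth.Prelude.Def_SymTen
import Groth.Agent.Lib.Helper9.Misc.PLZ6

/-! Helper9: the tensor power law and the universal law B → TS^d(B) -/

set_option linter.style.haveILetI false
set_option linter.unusedSectionVars false

namespace Groth.Agent.H9.TSG
open scoped TensorProduct
open Groth.Agent.H9.PLR Groth.Agent.H9.PLZ

universe u
variable {A : Type u} [CommRing A] {B : Type u} [CommRing B] [Algebra A B]
variable {C : Type u} [CommRing C] [Algebra A C]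

section coresSub
variable (F : B →ₚₗ[A] C) (C₁ : Subalgebra A C)
variable (H : ∀ (σ : Type u) (p : MvPolynomial σ A ⊗[A] B),
  F.toFun' (MvPolynomial σ A) p ∈ LinearMap.range (C₁.val.toLinearMap.lTensor (MvPolynomial σ A)))

/-- corestriction of a law to a subalgebra through which its values on polynomial algebras factor -/
noncomputable def coresSub : B →ₚₗ[A] ↥C₁ :=
  cores F C₁.val.toLinearMap (val_injective _) H

lemma coresSub_spec (S : Type u) [CommSemiring S] [Algebra A S] (t : S ⊗[A] B) :
    C₁.val.toLinearMap.lTensor S ((coresSub F C₁ H).toFun' S t) = F.toFun' S t :=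
  cores_spec F _ (val_injective _) H S t

lemma coresSub_isMult (hF : PolLaw.IsMult F) : PolLaw.IsMult (coresSub F C₁ H) := by
  intro S _ _
  have hinj := lTensor_inj C₁.val.toLinearMap (val_injective _) S
  constructor
  · have h1 : (1 : S ⊗[A] B) = (piS (A := A) S).toLinearMap.rTensor B 1 := by
      rw [rTensor_eq_map, map_one]
    have hq : qq F C₁.val.toLinearMap H S 1 = 1 := by
      apply hinj
      rw [qq_spec, (hF _).1, PolLaw.lTensor_algHom_apply, map_one]
    rw [h1]
    unfold coresSub
    rw [cores_apply, hq, rTensor_eq_map, map_one]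
  · intro x y
    have hx := liftS_spec (A := A) (M := B) S x
    have hy := liftS_spec (A := A) (M := B) S y
    set p := liftS (A := A) (M := B) S x
    set p' := liftS (A := A) (M := B) S y
    have hxy : x * y = (piS (A := A) S).toLinearMap.rTensor B (p * p') := by
      rw [rTensor_eq_map, map_mul, ← rTensor_eq_map, ← rTensor_eq_map, hx, hy]
    have hq : qq F C₁.val.toLinearMap H S (p * p') =
        qq F C₁.val.toLinearMap H S p * qq F C₁.val.toLinearMap H S p' := by
      apply hinj
      rw [qq_spec, (hF _).2, PolLaw.lTensor_algHom_apply, map_mul, ← PolLaw.lTensor_algHom_apply,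
        ← PolLaw.lTensor_algHom_apply, qq_spec, qq_spec]
    rw [hxy]
    conv_rhs => rw [← hx, ← hy]
    unfold coresSub
    rw [cores_apply, cores_apply, cores_apply, hq, rTensor_eq_map, map_mul, ← rTensor_eq_map,
      ← rTensor_eq_map]

lemma coresSub_isHomog {d : ℕ} (hd : PolLaw.IsHomog F d) :
    PolLaw.IsHomog (coresSub F C₁ H) d := by
  intro S _ _ s x
  have hinj := lTensor_inj C₁.val.toLinearMap (val_injective _) S
  have hx := liftS_spec (A := A) (M := B) S x
  set p := liftS (A := A) (M := B) S x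
  have hsx : s • x = (piS (A := A) S).toLinearMap.rTensor B
      ((MvPolynomial.X s : MvPolynomial S A) • p) := by
    rw [rTensor_eq_map, map_smul'', piS_X, ← rTensor_eq_map, hx]
  have hq : qq F C₁.val.toLinearMap H S
      ((MvPolynomial.X s : MvPolynomial S A) • p) =
      (MvPolynomial.X s : MvPolynomial S A) ^ d • qq F C₁.val.toLinearMap H S p := by
    apply hinj
    rw [qq_spec, hd, Groth.Agent.H9.PLG.lTensor_smul', qq_spec]
  rw [hsx]
  conv_rhs => rw [← hx]
  unfold coresSub
  rw [cores_apply, cores_apply, hq, rTensor_eq_map, map_smul'', map_pow, piS_X, ← rTensor_eq_map]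

end coresSub

section Tlaw
variable (A B) (d : ℕ)

/-- the `j`-th inclusion `B → T^d(B)` -/
noncomputable abbrev inj (j : Fin d) : B →ₐ[A] (⨂[A] _ : Fin d, B) :=
  PiTensorProduct.singleAlgHom (R := A) (A := fun _ : Fin d => B) j

lemma map_map_comm {S S' : Type u} [CommSemiring S] [Algebra A S] [CommSemiring S'] [Algebra A S']
    {Q Q' : Type u} [CommRing Q] [Algebra A Q] [CommRing Q'] [Algebra A Q']
    (φ : S →ₐ[A] S') (g : Q →ₐ[A] Q') (x : S ⊗[A] Q) :
    Algebra.TensorProduct.map φ (AlgHom.id A Q')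
      (Algebra.TensorProduct.map (AlgHom.id S S) g x) =
    Algebra.TensorProduct.map (AlgHom.id S' S') g
      (Algebra.TensorProduct.map φ (AlgHom.id A Q) x) := by
  induction x using TensorProduct.induction_on with
  | zero => simp
  | tmul s q => simp
  | add x y hx hy => simp only [map_add, hx, hy]

/-- the law `x ↦ x ⊗ ⋯ ⊗ x` with values in the tensor power -/
noncomputable def Tlaw : B →ₚₗ[A] (⨂[A] _ : Fin d, B) where
  toFun' S _ _ := fun x => ∏ j : Fin d,
    Algebra.TensorProduct.map (AlgHom.id S S) (inj A B d j) x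
  isCompat' {S} _ _ {S'} _ _ φ := by
    funext x
    simp only [Function.comp_apply]
    rw [rTensor_eq_map, map_prod]
    refine Finset.prod_congr rfl fun j _ => ?_
    rw [rTensor_eq_map, map_map_comm]

lemma Tlaw_apply (S : Type u) [CommSemiring S] [Algebra A S] (x : S ⊗[A] B) :
    (Tlaw A B d).toFun' S x = ∏ j : Fin d,
      Algebra.TensorProduct.map (AlgHom.id S S) (inj A B d j) x := rfl

lemma Tlaw_isMult : PolLaw.IsMult (Tlaw A B d) := by
  intro S _ _
  constructor
  · rw [Tlaw_apply]
    simp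
  · intro x y
    rw [Tlaw_apply, Tlaw_apply, Tlaw_apply, ← Finset.prod_mul_distrib]
    simp only [map_mul]

lemma Tlaw_isHomog : PolLaw.IsHomog (Tlaw A B d) d := by
  intro S _ _ s x
  rw [Tlaw_apply, Tlaw_apply]
  simp only [map_smul]
  rw [← Finset.smul_prod, Finset.card_univ, Fintype.card_fin]

lemma prod_tmul' {ι : Type*} (s : Finset ι) {X Y : Type*} [CommSemiring X] [Algebra A X]
    [CommSemiring Y] [Algebra A Y]
    (f : ι → X) (g : ι → Y) : ∏ j ∈ s, (f j ⊗ₜ[A] g j) = (∏ j ∈ s, f j) ⊗ₜ[A] (∏ j ∈ s, g j) := by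
  classical
  induction s using Finset.induction_on with
  | empty => simp [Algebra.TensorProduct.one_def]
  | insert j s hj ih =>
    rw [Finset.prod_insert hj, Finset.prod_insert hj, Finset.prod_insert hj, ih,
      Algebra.TensorProduct.tmul_mul_tmul]

lemma prod_inj (b : Fin d → B) : ∏ j, inj A B d j (b j) = PiTensorProduct.tprod A b := by
  simp only [inj, PiTensorProduct.singleAlgHom_apply, MonoidHom.mulSingle_apply]
  rw [← PiTensorProduct.tprod_prod]
  exact congrArg _ (Finset.univ_prod_mulSingle b)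

/-- the explicit expansion of the tensor power law -/
lemma Tlaw_sum (S : Type u) [CommSemiring S] [Algebra A S] (n : ℕ) (s : Fin n → S) (b : Fin n → B) :
    (Tlaw A B d).toFun' S (∑ j, s j ⊗ₜ[A] b j) =
      ∑ c : Fin d → Fin n, (∏ i, s (c i)) ⊗ₜ[A] PiTensorProduct.tprod A (fun i => b (c i)) := by
  classical
  rw [Tlaw_apply]
  simp only [map_sum, Algebra.TensorProduct.map_tmul, AlgHom.id_apply]
  rw [Finset.prod_univ_sum]
  simp only [Fintype.piFinset_univ]
  refine Finset.sum_congr rfl fun c _ => ?_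
  rw [prod_tmul', prod_inj]

/-- coefficients of the tensor power law are symmetric tensors -/
lemma ev_Tlaw_mem (S : Type u) [CommSemiring S] [Algebra A S] (x : S ⊗[A] B) (ℓ : S →ₗ[A] A) :
    ev ℓ ((Tlaw A B d).toFun' S x) ∈ SymTen.TS A B d := by
  obtain ⟨n, s, b, rfl⟩ := exists_fin_rep S x
  rw [Tlaw_sum, map_sum]
  simp only [ev_tmul]
  intro σ
  rw [map_sum]
  simp only [map_smul, PiTensorProduct.reindex_tprod]
  refine Fintype.sum_equiv (Equiv.arrowCongr σ (Equiv.refl _)) _ _ fun c => ?_
  have h1 : ∏ i, s ((Equiv.arrowCongr σ (Equiv.refl (Fin n))) c i) = ∏ i, s (c i) := by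
    simp only [Equiv.arrowCongr_apply, Equiv.refl_apply, Function.comp_apply]
    exact Equiv.prod_comp σ.symm (fun i => s (c i))
  rw [h1]
  rfl

lemma Tlaw_factor (σ : Type u) (p : MvPolynomial σ A ⊗[A] B) :
    (Tlaw A B d).toFun' (MvPolynomial σ A) p ∈
      LinearMap.range ((SymTen.TS A B d).val.toLinearMap.lTensor (MvPolynomial σ A)) := by
  apply mem_range_lTensor (MvPolynomial.basisMonomials σ A)
  intro m
  exact ⟨⟨_, ev_Tlaw_mem A B d (MvPolynomial σ A) p ((MvPolynomial.basisMonomials σ A).coord m)⟩, rfl⟩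

/-- the universal law `B → TS^d(B)` -/
noncomputable def tau : PolLaw.MulLaw A B (SymTen.TS A B d) d where
  law := coresSub (Tlaw A B d) (SymTen.TS A B d) (Tlaw_factor A B d)
  homog := coresSub_isHomog _ _ _ (Tlaw_isHomog A B d)
  mult := coresSub_isMult _ _ _ (Tlaw_isMult A B d)

lemma tau_spec (S : Type u) [CommSemiring S] [Algebra A S] (x : S ⊗[A] B) :
    (SymTen.TS A B d).val.toLinearMap.lTensor S ((tau A B d).law.toFun' S x) =
      (Tlaw A B d).toFun' S x :=
  coresSub_spec _ _ _ S x

lemma tau_sum (S : Type u) [CommSemiring S] [Algebra A S] (n : ℕ) (s : Fin n → S) (b : Fin n → B) :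
    (SymTen.TS A B d).val.toLinearMap.lTensor S ((tau A B d).law.toFun' S (∑ j, s j ⊗ₜ[A] b j)) =
      ∑ c : Fin d → Fin n, (∏ i, s (c i)) ⊗ₜ[A] PiTensorProduct.tprod A (fun i => b (c i)) := by
  rw [tau_spec, Tlaw_sum]

end Tlaw

end Groth.Agent.H9.TSG
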