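import Mathlib
import Groth.Prelude.Def_PolLaw
import Groth.Prelude.Def_SymTen
import Groth.Agent.Lib.Helper9.Misc.TSG1
import Groth.Agent.Lib.Helper9.Misc.SPC1

/-! Helper9: elementary symmetric tensors and the tensor power law at elementary elements -/

set_option linter.style.haveILetI false
set_option linter.unusedSectionVars false

namespace Groth.Agent.H9.TSE
open scoped TensorProduct
open Groth.Agent.H9.TSG Groth.Agent.H9.SPC
open PiTensorProduct

universe u
variable (R : Type u) [CommRing R] (A : Type u) [CommRing A] [Algebra R A] (n : ℕ)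

/-- the `j`-th elementary symmetric tensor of `a` -/
noncomputable def sig (a : A) (j : ℕ) : ⨂[R] _ : Fin n, A :=
  ∑ I ∈ (Finset.univ : Finset (Fin n)).powersetCard j,
    PiTensorProduct.tprod R (fun i : Fin n => if i ∈ I then a else (1 : A))

/-- the subalgebra generated by the elementary symmetric tensors -/
noncomputable def Esub : Subalgebra R (⨂[R] _ : Fin n, A) :=
  Algebra.adjoin R {t : ⨂[R] _ : Fin n, A | ∃ (a : A) (j : ℕ),
    t = ∑ I ∈ (Finset.univ : Finset (Fin n)).powersetCard j,
      PiTensorProduct.tprod R (fun i : Fin n => if i ∈ I then a else (1 : A))}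

variable {R A n}

theorem sig_mem_Esub (a : A) (j : ℕ) : sig R A n a j ∈ Esub R A n :=
  Algebra.subset_adjoin ⟨a, j, rfl⟩

theorem prod_inj_ite (a : A) (I : Finset (Fin n)) :
    ∏ i ∈ I, inj R A n i a = tprod R (fun i : Fin n => if i ∈ I then a else (1 : A)) := by
  rw [← prod_inj R A n (fun i : Fin n => if i ∈ I then a else (1 : A))]
  have : ∀ i : Fin n, inj R A n i (if i ∈ I then a else 1) =
      if i ∈ I then inj R A n i a else 1 := by
    intro i
    split_ifs
    · rfl
    · exact map_one _
  simp only [this]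
  rw [Finset.prod_ite_mem, Finset.univ_inter]

theorem sig_eq (a : A) (j : ℕ) :
    sig R A n a j = ∑ I ∈ (Finset.univ : Finset (Fin n)).powersetCard j, ∏ i ∈ I, inj R A n i a := by
  unfold sig
  exact Finset.sum_congr rfl fun I _ => (prod_inj_ite a I).symm

theorem perm_inj (σ : Equiv.Perm (Fin n)) (i : Fin n) (a : A) :
    SymTen.perm R A n σ (inj R A n i a) = inj R A n (σ i) a := by
  classical
  have h1 : inj R A n i a = tprod R (fun k : Fin n => if k ∈ ({i} : Finset (Fin n)) then a else 1) := by
    rw [← prod_inj_ite, Finset.prod_singleton]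
  have h2 : inj R A n (σ i) a =
      tprod R (fun k : Fin n => if k ∈ ({σ i} : Finset (Fin n)) then a else 1) := by
    rw [← prod_inj_ite, Finset.prod_singleton]
  rw [h1, h2, SymTen.perm_tprod]
  congr 1
  funext k
  simp only [Finset.mem_singleton]
  by_cases hk : k = σ i
  · subst hk; simp
  · have : σ.symm k ≠ i := fun h => hk (by rw [← h]; simp)
    simp [hk, this]

theorem sig_mem_TS (a : A) (j : ℕ) : sig R A n a j ∈ SymTen.TS R A n := by
  classical
  apply mem_TS_of_perm
  intro σ
  rw [sig_eq, map_sum]
  simp only [map_prod, perm_inj]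
  refine Finset.sum_bij' (fun I _ => I.map σ.toEmbedding) (fun I _ => I.map σ.symm.toEmbedding)
    ?_ ?_ ?_ ?_ ?_
  · intro I hI
    rw [Finset.mem_powersetCard] at hI ⊢
    exact ⟨Finset.subset_univ _, by rw [Finset.card_map]; exact hI.2⟩
  · intro I hI
    rw [Finset.mem_powersetCard] at hI ⊢
    exact ⟨Finset.subset_univ _, by rw [Finset.card_map]; exact hI.2⟩
  · intro I _
    ext k
    simp
  · intro I _
    ext k
    simp
  · intro I _
    rw [Finset.prod_map]
    rfl

theorem Esub_le_TS : Esub R A n ≤ SymTen.TS R A n := by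
  apply Algebra.adjoin_le
  rintro _ ⟨a, j, rfl⟩
  exact sig_mem_TS a j

/-- the tensor power law at an elementary element -/
theorem Tlaw_one_add_tmul (S : Type u) [CommRing S] [Algebra R S] (s : S) (a : A) :
    (Tlaw R A n).toFun' S (1 + s ⊗ₜ[R] a) =
      ∑ j ∈ Finset.range (n + 1), (s ^ j) ⊗ₜ[R] sig R A n a j := by
  classical
  rw [Tlaw_apply]
  simp only [map_add, map_one, Algebra.TensorProduct.map_tmul, AlgHom.id_apply]
  rw [Finset.prod_one_add, Finset.sum_powerset, Finset.card_univ, Fintype.card_fin]
  refine Finset.sum_congr rfl fun j _ => ?_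
  rw [sig_eq, TensorProduct.tmul_sum]
  refine Finset.sum_congr rfl fun I hI => ?_
  rw [prod_tmul', Finset.prod_const, (Finset.mem_powersetCard.1 hI).2]

end Groth.Agent.H9.TSE
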