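import Mathlib
import Groth.Prelude.Def_PolLaw
import Groth.Prelude.Def_SymTen
import Groth.Agent.Lib.Helper9.Misc.TSE1
import Groth.Agent.Lib.Helper9.Misc.PLZ6

/-! Helper9: factorization into elementary factors; the tensor power law is E-valued modulo ε^(n+1) -/

set_option linter.style.haveILetI false
set_option linter.unusedSectionVars false

namespace Groth.Agent.H9.TSE
open scoped TensorProduct
open Groth.Agent.H9.TSG Groth.Agent.H9.PLZ
open PiTensorProduct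

universe u

/-- a product of factors `1 + t z` to second order -/
theorem prod_one_add_mul {Q : Type*} [CommRing Q] {ι : Type*} (t : Q) (z : ι → Q) (s : Finset ι) :
    ∃ ρ : Q, ∏ l ∈ s, (1 + t * z l) = 1 + t * ∑ l ∈ s, z l + t ^ 2 * ρ := by
  classical
  induction s using Finset.induction_on with
  | empty => exact ⟨0, by simp⟩
  | insert a s ha ih =>
    obtain ⟨ρ, hρ⟩ := ih
    refine ⟨ρ + z a * ∑ l ∈ s, z l + t * z a * ρ, ?_⟩
    rw [Finset.prod_insert ha, Finset.sum_insert ha, hρ]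
    ring

theorem prod_one_add_mul' {Q : Type*} [CommRing Q] {ι : Type*} (t : Q) (z : ι → Q) (s : Finset ι) :
    ∃ ρ : Q, ∏ l ∈ s, (1 + t * z l) = 1 + t * ρ := by
  obtain ⟨ρ, hρ⟩ := prod_one_add_mul t z s
  exact ⟨∑ l ∈ s, z l + t * ρ, by rw [hρ]; ring⟩

variable {R : Type u} [CommRing R] {A : Type u} [CommRing A] [Algebra R A] {n : ℕ}
variable (S : Type u) [CommRing S] [Algebra R S] (ε : S)

variable (R A n) in
/-- the subalgebra of `E`-valued elements -/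
noncomputable def Vsub : Subalgebra S (S ⊗[R] (⨂[R] _ : Fin n, A)) :=
  (Algebra.TensorProduct.map (AlgHom.id S S) (Esub R A n).val).range

theorem tmul_mem_Vsub (s : S) {t : ⨂[R] _ : Fin n, A} (ht : t ∈ Esub R A n) :
    s ⊗ₜ[R] t ∈ Vsub R A n S :=
  ⟨s ⊗ₜ[R] (⟨t, ht⟩ : Esub R A n), rfl⟩

/-- the set of `1 + ε z`, `z` being `E`-valued -/
def Uset : Set (S ⊗[R] (⨂[R] _ : Fin n, A)) :=
  {x | ∃ z ∈ Vsub R A n S, x = 1 + algebraMap S _ ε * z}

theorem one_mem_Uset : (1 : S ⊗[R] (⨂[R] _ : Fin n, A)) ∈ Uset (R := R) (A := A) (n := n) S ε :=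
  ⟨0, Subalgebra.zero_mem _, by simp⟩

theorem mul_mem_Uset {x y : S ⊗[R] (⨂[R] _ : Fin n, A)} (hx : x ∈ Uset S ε) (hy : y ∈ Uset S ε) :
    x * y ∈ Uset S ε := by
  obtain ⟨z, hz, rfl⟩ := hx
  obtain ⟨z', hz', rfl⟩ := hy
  refine ⟨z + z' + algebraMap S _ ε * z * z', ?_, by ring⟩
  exact Subalgebra.add_mem _ (Subalgebra.add_mem _ hz hz')
    (Subalgebra.mul_mem _ (Subalgebra.mul_mem _ (Subalgebra.algebraMap_mem _ _) hz) hz')

theorem prod_mem_Uset {ι : Type*} (s : Finset ι) (f : ι → S ⊗[R] (⨂[R] _ : Fin n, A))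
    (h : ∀ l ∈ s, f l ∈ Uset S ε) : ∏ l ∈ s, f l ∈ Uset S ε := by
  classical
  induction s using Finset.induction_on with
  | empty => simpa using one_mem_Uset S ε
  | insert a s ha ih =>
    rw [Finset.prod_insert ha]
    exact mul_mem_Uset S ε (h a (Finset.mem_insert_self a s))
      (ih fun l hl => h l (Finset.mem_insert_of_mem hl))

theorem sig_zero (a : A) : sig R A n a 0 = 1 := by
  unfold sig
  rw [Finset.powersetCard_zero, Finset.sum_singleton]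
  simp only [Finset.notMem_empty, if_false]
  exact PiTensorProduct.one_def.symm

/-- the law at an elementary element with small parameter -/
theorem Tlaw_elem_mem_Uset (s' : S) (a : A) :
    (Tlaw R A n).toFun' S (1 + (ε * s') ⊗ₜ[R] a) ∈ Uset S ε := by
  rw [Tlaw_one_add_tmul, Finset.sum_range_succ', pow_zero, sig_zero]
  refine ⟨∑ j ∈ Finset.range n, (ε ^ j * s' ^ (j + 1)) ⊗ₜ[R] sig R A n a (j + 1), ?_, ?_⟩
  · exact Subalgebra.sum_mem _ fun j _ => tmul_mem_Vsub S _ (sig_mem_Esub a (j + 1))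
  · rw [add_comm, Finset.mul_sum]
    congr 1
    refine Finset.sum_congr rfl fun j _ => ?_
    rw [Algebra.TensorProduct.algebraMap_apply, Algebra.algebraMap_self, RingHom.id_apply,
      Algebra.TensorProduct.tmul_mul_tmul, one_mul, mul_pow, pow_succ']
    congr 1
    ring

theorem algebraMap_pow_mul_tmul (m : ℕ) (s : S) (a : A) :
    (algebraMap S (S ⊗[R] A) ε) ^ m * (s ⊗ₜ[R] a) = (ε ^ m * s) ⊗ₜ[R] a := by
  rw [← map_pow, Algebra.TensorProduct.algebraMap_apply, Algebra.algebraMap_self, RingHom.id_apply,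
    Algebra.TensorProduct.tmul_mul_tmul, one_mul]

/-- the law at `1 + ε^k w` -/
theorem Tlaw_one_add_pow_mul (k : ℕ) (w : S ⊗[R] A) :
    ∃ ρ, (Tlaw R A n).toFun' S (1 + (algebraMap S (S ⊗[R] A) ε) ^ k * w) =
      1 + (algebraMap S (S ⊗[R] (⨂[R] _ : Fin n, A)) ε) ^ k * ρ := by
  rw [Tlaw_apply]
  simp only [map_add, map_one, map_mul, map_pow, AlgHom.commutes]
  exact prod_one_add_mul' _ _ _

theorem Tlaw_prod {ι : Type*} (s : Finset ι) (f : ι → S ⊗[R] A) :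
    (Tlaw R A n).toFun' S (∏ l ∈ s, f l) = ∏ l ∈ s, (Tlaw R A n).toFun' S (f l) := by
  classical
  induction s using Finset.induction_on with
  | empty => simpa using (Tlaw_isMult R A n S).1
  | insert a s ha ih =>
    rw [Finset.prod_insert ha, Finset.prod_insert ha, (Tlaw_isMult R A n S).2, ih]

/-- the factorization step -/
theorem exists_factor (m : ℕ) (hm : 1 ≤ m) (u : S ⊗[R] A) :
    ∃ v w : S ⊗[R] A, (1 + algebraMap S (S ⊗[R] A) ε * u) * v =
        1 + (algebraMap S (S ⊗[R] A) ε) ^ m * w ∧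
      (Tlaw R A n).toFun' S v ∈ Uset S ε := by
  induction m, hm using Nat.le_induction with
  | base =>
    refine ⟨1, u, by simp, ?_⟩
    rw [(Tlaw_isMult R A n S).1]
    exact one_mem_Uset S ε
  | succ m hm ih =>
    obtain ⟨v, w, hvw, hv⟩ := ih
    obtain ⟨k, s, a, rfl⟩ := exists_fin_rep S w
    set t := (algebraMap S (S ⊗[R] A) ε) ^ m with ht
    obtain ⟨ρ, hρ⟩ := prod_one_add_mul t (fun l => -(s l ⊗ₜ[R] a l)) Finset.univ
    have hf : ∀ l, 1 + t * -(s l ⊗ₜ[R] a l) = 1 + (ε * (-(ε ^ (m - 1)) * s l)) ⊗ₜ[R] a l := by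
      intro l
      rw [mul_neg, ht, algebraMap_pow_mul_tmul, ← TensorProduct.neg_tmul]
      congr 2
      obtain ⟨m', rfl⟩ : ∃ m', m = m' + 1 := ⟨m - 1, by omega⟩
      rw [Nat.add_sub_cancel, pow_succ']
      ring
    refine ⟨v * ∏ l, (1 + t * -(s l ⊗ₜ[R] a l)),
      t ^ 2 * 0 + (algebraMap S (S ⊗[R] A) ε) ^ (m - 1) *
        (ρ + t * (∑ l, s l ⊗ₜ[R] a l) * ρ - (∑ l, s l ⊗ₜ[R] a l) ^ 2), ?_, ?_⟩
    · rw [← mul_assoc, hvw, hρ, Finset.sum_neg_distrib]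
      have e1 : (algebraMap S (S ⊗[R] A) ε) ^ (m + 1) * (algebraMap S (S ⊗[R] A) ε) ^ (m - 1) =
          t ^ 2 := by
        rw [ht, ← pow_add, ← pow_mul]
        congr 1
        omega
      have e2 : (algebraMap S (S ⊗[R] A) ε) ^ (m + 1) *
          (t ^ 2 * 0 + (algebraMap S (S ⊗[R] A) ε) ^ (m - 1) *
            (ρ + t * (∑ l, s l ⊗ₜ[R] a l) * ρ - (∑ l, s l ⊗ₜ[R] a l) ^ 2)) =
          t ^ 2 * (ρ + t * (∑ l, s l ⊗ₜ[R] a l) * ρ - (∑ l, s l ⊗ₜ[R] a l) ^ 2) := by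
        rw [← e1]; ring
      rw [e2]
      ring
    · rw [(Tlaw_isMult R A n S).2, Tlaw_prod]
      refine mul_mem_Uset S ε hv (prod_mem_Uset S ε _ _ fun l _ => ?_)
      rw [hf l]
      exact Tlaw_elem_mem_Uset S ε _ _

/-- the law at `1 + ε u` is `E`-valued modulo `ε^(n+1)` -/
theorem Tlaw_one_add_mem (u : S ⊗[R] A) :
    ∃ M ∈ Vsub R A n S, ∃ ρ, (Tlaw R A n).toFun' S (1 + algebraMap S (S ⊗[R] A) ε * u) =
      M + (algebraMap S (S ⊗[R] (⨂[R] _ : Fin n, A)) ε) ^ (n + 1) * ρ := by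
  obtain ⟨v, w, hvw, ⟨z, hz, hNv⟩⟩ := exists_factor (n := n) S ε (n + 1) (by omega) u
  obtain ⟨ρ₁, hρ₁⟩ := Tlaw_one_add_pow_mul (n := n) S ε (n + 1) w
  have h1 := congrArg ((Tlaw R A n).toFun' S) hvw
  rw [(Tlaw_isMult R A n S).2, hρ₁, hNv] at h1
  set eT := algebraMap S (S ⊗[R] (⨂[R] _ : Fin n, A)) ε with heT
  set N1 := (Tlaw R A n).toFun' S (1 + algebraMap S (S ⊗[R] A) ε * u) with hN1
  set M := ∑ i ∈ Finset.range (n + 1), (-(eT * z)) ^ i with hM
  have hMV : M ∈ Vsub R A n S := by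
    refine Subalgebra.sum_mem _ fun i _ => Subalgebra.pow_mem _ (Subalgebra.neg_mem _ ?_) _
    exact Subalgebra.mul_mem _ (Subalgebra.algebraMap_mem _ _) hz
  have h2 : (1 + eT * z) * M = 1 - eT ^ (n + 1) * (-z) ^ (n + 1) := by
    have := mul_neg_geom_sum (-(eT * z)) (n + 1)
    rw [sub_neg_eq_add] at this
    rw [hM, this]
    congr 1
    rw [← mul_pow]
    congr 1
    ring
  refine ⟨M, hMV, ρ₁ * M + (-z) ^ (n + 1) * N1, ?_⟩
  have h3 : N1 = N1 * ((1 + eT * z) * M) + eT ^ (n + 1) * (-z) ^ (n + 1) * N1 := by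
    rw [h2]; ring
  calc N1 = N1 * ((1 + eT * z) * M) + eT ^ (n + 1) * (-z) ^ (n + 1) * N1 := h3
    _ = (N1 * (1 + eT * z)) * M + eT ^ (n + 1) * (-z) ^ (n + 1) * N1 := by ring
    _ = (1 + eT ^ (n + 1) * ρ₁) * M + eT ^ (n + 1) * (-z) ^ (n + 1) * N1 := by rw [h1]
    _ = M + eT ^ (n + 1) * (ρ₁ * M + (-z) ^ (n + 1) * N1) := by ring

end Groth.Agent.H9.TSE
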