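import Mathlib

/-! Helper9: kernel of a tensor power of a surjection -/

set_option linter.style.haveILetI false
set_option linter.unusedSectionVars false

namespace Groth.Agent.H9.TSF
open PiTensorProduct
open scoped TensorProduct

universe u
variable {R : Type u} [CommRing R] {F N : Type u} [AddCommGroup F] [Module R F]
  [AddCommGroup N] [Module R N] (n : ℕ)

/-- span of the pure tensors having an entry in `ker π` -/
def kerSpan (π : F →ₗ[R] N) : Submodule R (⨂[R] _ : Fin n, F) :=
  Submodule.span R {t | ∃ f : Fin n → F, (∃ i, π (f i) = 0) ∧ t = tprod R f}

lemma tprod_mem_kerSpan (π : F →ₗ[R] N) (f : Fin n → F) (i : Fin n) (h : π (f i) = 0) :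
    tprod R f ∈ kerSpan n π :=
  Submodule.subset_span ⟨f, ⟨i, h⟩, rfl⟩

/-- pure tensors with the same image differ by an element of `kerSpan` -/
lemma tprod_sub_tprod_mem (π : F →ₗ[R] N) (a b : Fin n → F) (h : ∀ i, π (a i) = π (b i)) :
    tprod R a - tprod R b ∈ kerSpan n π := by
  have key := MultilinearMap.map_sub_map_piecewise (tprod R (s := fun _ : Fin n => F)) a b
    Finset.univ
  rw [Finset.piecewise_univ] at key
  rw [key]
  apply Submodule.sum_mem
  intro i _
  apply tprod_mem_kerSpan n π _ i
  simp only [Finset.mem_univ, forall_true_left, lt_irrefl, if_false, if_true]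
  rw [map_sub, h i, sub_self]

theorem ker_map_le_kerSpan (π : F →ₗ[R] N) (hπ : Function.Surjective π) :
    LinearMap.ker (PiTensorProduct.map (R := R) (fun _ : Fin n => π)) ≤ kerSpan n π := by
  classical
  let s : N → F := Function.surjInv hπ
  have hs : ∀ x, π (s x) = x := Function.surjInv_eq hπ
  let q := (kerSpan n π).mkQ
  let μ : MultilinearMap R (fun _ : Fin n => N) ((⨂[R] _ : Fin n, F) ⧸ kerSpan n π) :=
    { toFun := fun m => q (tprod R (fun i => s (m i)))
      map_update_add' := by
        intro inst m i x y
        have hinst : inst = instDecidableEqFin n := Subsingleton.elim _ _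
        subst hinst
        have e : ∀ v : N, (fun j => s (Function.update m i v j)) =
            Function.update (fun j => s (m j)) i (s v) := by
          intro v
          ext j
          by_cases hj : j = i
          · subst hj; simp
          · simp [Function.update_of_ne hj]
        rw [e, e, e, ← map_add, ← sub_eq_zero, ← map_sub]
        apply (Submodule.Quotient.mk_eq_zero _).mpr
        have h1 : tprod R (Function.update (fun j => s (m j)) i (s (x + y))) -
            (tprod R (Function.update (fun j => s (m j)) i (s x)) +
              tprod R (Function.update (fun j => s (m j)) i (s y))) =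
            tprod R (Function.update (fun j => s (m j)) i (s (x + y) - s x - s y)) := by
          rw [MultilinearMap.map_update_sub, MultilinearMap.map_update_sub]
          abel
        rw [h1]
        apply tprod_mem_kerSpan n π _ i
        rw [Function.update_self, map_sub, map_sub, hs, hs, hs]
        abel
      map_update_smul' := by
        intro inst m i c x
        have hinst : inst = instDecidableEqFin n := Subsingleton.elim _ _
        subst hinst
        have e : ∀ v : N, (fun j => s (Function.update m i v j)) =
            Function.update (fun j => s (m j)) i (s v) := by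
          intro v
          ext j
          by_cases hj : j = i
          · subst hj; simp
          · simp [Function.update_of_ne hj]
        rw [e, e, ← map_smul, ← sub_eq_zero, ← map_sub]
        apply (Submodule.Quotient.mk_eq_zero _).mpr
        have h1 : tprod R (Function.update (fun j => s (m j)) i (s (c • x))) -
            c • tprod R (Function.update (fun j => s (m j)) i (s x)) =
            tprod R (Function.update (fun j => s (m j)) i (s (c • x) - c • s x)) := by
          rw [MultilinearMap.map_update_sub, MultilinearMap.map_update_smul]
        rw [h1]
        apply tprod_mem_kerSpan n π _ i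
        rw [Function.update_self, map_sub, map_smul, hs, hs, sub_self] }
  let Λ := PiTensorProduct.lift μ
  have hΛ : Λ ∘ₗ (PiTensorProduct.map (R := R) (fun _ : Fin n => π)) = q := by
    apply PiTensorProduct.ext
    apply MultilinearMap.ext
    intro f
    show Λ (PiTensorProduct.map (fun _ : Fin n => π) (tprod R f)) = q (tprod R f)
    rw [PiTensorProduct.map_tprod, PiTensorProduct.lift.tprod]
    show q (tprod R fun i => s (π (f i))) = q (tprod R f)
    rw [← sub_eq_zero, ← map_sub]
    apply (Submodule.Quotient.mk_eq_zero _).mpr
    exact tprod_sub_tprod_mem n π _ _ (fun i => hs _)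
  intro x hx
  have h1 : q x = 0 := by
    rw [← hΛ, LinearMap.comp_apply, LinearMap.mem_ker.mp hx, map_zero]
  exact (Submodule.Quotient.mk_eq_zero _).mp h1

end Groth.Agent.H9.TSF
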