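import Mathlib
import Groth.Agent.Lib.Helper9.Misc.TSF1

/-! Helper9: tensor-power version of the equational criterion of flatness -/

set_option linter.style.haveILetI false
set_option linter.unusedSectionVars false

namespace Groth.Agent.H9.TSF
open PiTensorProduct
open scoped TensorProduct

universe u
variable {R : Type u} [CommRing R]

lemma map_comp_apply' {n : ℕ} {M₁ M₂ M₃ : Type u} [AddCommGroup M₁] [Module R M₁]
    [AddCommGroup M₂] [Module R M₂] [AddCommGroup M₃] [Module R M₃]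
    (g : M₂ →ₗ[R] M₃) (f : M₁ →ₗ[R] M₂) (x : ⨂[R] _ : Fin n, M₁) :
    PiTensorProduct.map (R := R) (fun _ : Fin n => g ∘ₗ f) x =
      PiTensorProduct.map (R := R) (fun _ : Fin n => g) (PiTensorProduct.map (fun _ : Fin n => f) x) := by
  rw [PiTensorProduct.map_comp]
  rfl

/-- the `T^n`-version of the equational criterion of flatness -/
theorem exists_factorization_tensor (n : ℕ) {N : Type u} [AddCommGroup N] [Module R N]
    [Module.Flat R N]
    {F₀ : Type u} [AddCommGroup F₀] [Module R F₀] [Module.Finite R F₀] [Module.Free R F₀]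
    (u₀ : F₀ →ₗ[R] N) (z : ⨂[R] _ : Fin n, F₀)
    (hz : PiTensorProduct.map (R := R) (fun _ : Fin n => u₀) z = 0) :
    ∃ (k : ℕ) (a : F₀ →ₗ[R] (Fin k →₀ R)) (u₁ : (Fin k →₀ R) →ₗ[R] N),
      u₁ ∘ₗ a = u₀ ∧ PiTensorProduct.map (R := R) (fun _ : Fin n => a) z = 0 := by
  classical
  -- the big free module
  let π : (F₀ × (N →₀ R)) →ₗ[R] N := u₀.coprod (Finsupp.linearCombination R id)
  have hπ : Function.Surjective π := by
    intro x
    exact ⟨(0, Finsupp.single x 1), by simp [π]⟩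
  let ι : F₀ →ₗ[R] (F₀ × (N →₀ R)) := LinearMap.inl R F₀ (N →₀ R)
  have hπι : π ∘ₗ ι = u₀ := by
    ext x; simp [π, ι]
  have hmem : PiTensorProduct.map (R := R) (fun _ : Fin n => ι) z ∈ kerSpan n π := by
    apply ker_map_le_kerSpan n π hπ
    rw [LinearMap.mem_ker, ← map_comp_apply', hπι, hz]
  obtain ⟨m, c, g, hg⟩ := (Submodule.mem_span_set').mp hmem
  choose f hf using fun j => (g j).2
  choose i₀ hi₀ using fun j => (hf j).1
  have hgf : ∀ j, ((g j : _) : ⨂[R] _ : Fin n, (F₀ × (N →₀ R))) = tprod R (f j) :=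
    fun j => (hf j).2
  -- the finite support
  let s : Finset N := Finset.univ.biUnion fun j : Fin m => Finset.univ.biUnion fun i : Fin n =>
    ((f j i).2).support
  have hs : ∀ j i, ∀ x ∈ ((f j i).2).support, x ∈ (↑s : Set N) := by
    intro j i x hx
    simp only [s, Finset.coe_biUnion, Set.mem_iUnion, Finset.mem_coe]
    exact ⟨j, Finset.mem_univ _, i, Finset.mem_univ _, hx⟩
  haveI : Finite ↥(↑s : Set N) := (Finset.finite_toSet s).to_subtype
  let p : (F₀ × (N →₀ R)) →ₗ[R] (F₀ × (↥(↑s : Set N) →₀ R)) :=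
    LinearMap.prodMap LinearMap.id (Finsupp.lsubtypeDomain (↑s : Set N))
  let ι' : (F₀ × (↥(↑s : Set N) →₀ R)) →ₗ[R] (F₀ × (N →₀ R)) :=
    LinearMap.prodMap LinearMap.id (Finsupp.lmapDomain R R Subtype.val)
  have hι'p : ∀ x : F₀ × (N →₀ R), (∀ a ∈ (x.2).support, a ∈ (↑s : Set N)) → ι' (p x) = x := by
    intro x hx
    apply Prod.ext
    · rfl
    · show Finsupp.mapDomain Subtype.val (Finsupp.subtypeDomain (fun a => a ∈ (↑s : Set N)) x.2) = x.2
      have e1 := Finsupp.embDomain_eq_mapDomain (Function.Embedding.subtype (fun a => a ∈ (↑s : Set N)))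
        (Finsupp.subtypeDomain (fun a => a ∈ (↑s : Set N)) x.2)
      have e2 := Finsupp.extendDomain_eq_embDomain_subtype
        (Finsupp.subtypeDomain (fun a => a ∈ (↑s : Set N)) x.2)
      have e3 := Finsupp.extendDomain_subtypeDomain (P := fun a => a ∈ (↑s : Set N)) x.2 hx
      rw [e2, e1] at e3
      exact e3
  let u₀' : (F₀ × (↥(↑s : Set N) →₀ R)) →ₗ[R] N := π ∘ₗ ι'
  -- the finitely many kernel elements
  let fK : (Fin m →₀ R) →ₗ[R] (F₀ × (↥(↑s : Set N) →₀ R)) :=
    Finsupp.linearCombination R fun j => p (f j (i₀ j))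
  have hfK : u₀' ∘ₗ fK = 0 := by
    apply Finsupp.lhom_ext'
    intro j
    ext
    simp only [LinearMap.coe_comp, Function.comp_apply, Finsupp.lsingle_apply,
      LinearMap.zero_apply, fK, Finsupp.linearCombination_single, one_smul, u₀']
    rw [hι'p _ (hs j (i₀ j)), hi₀ j]
  obtain ⟨k, a', y, hya, haf⟩ := Module.Flat.exists_factorization_of_comp_eq_zero_of_free hfK
  refine ⟨k, a' ∘ₗ p ∘ₗ ι, y, ?_, ?_⟩
  · rw [← LinearMap.comp_assoc, ← hya]
    ext x
    show π (ι' (p (ι x))) = u₀ x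
    rw [hι'p (ι x) (by intro a ha; simp [ι] at ha)]
    exact LinearMap.congr_fun hπι x
  · have h1 : PiTensorProduct.map (R := R) (fun _ : Fin n => a' ∘ₗ p ∘ₗ ι) z =
        PiTensorProduct.map (R := R) (fun _ : Fin n => a' ∘ₗ p)
          (PiTensorProduct.map (R := R) (fun _ : Fin n => ι) z) := by
      rw [← map_comp_apply']
      rfl
    rw [h1, ← hg, map_sum]
    apply Finset.sum_eq_zero
    intro j _
    rw [map_smul, hgf j, PiTensorProduct.map_tprod]
    have h0 : (a' ∘ₗ p) (f j (i₀ j)) = 0 := by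
      have := LinearMap.congr_fun haf (Finsupp.single j 1)
      simpa [fK] using this
    have h00 := MultilinearMap.map_coord_zero (tprod R (s := fun _ : Fin n => (Fin k →₀ R)))
      (m := fun i => (a' ∘ₗ p) (f j i)) (i₀ j) h0
    rw [h00, smul_zero]

end Groth.Agent.H9.TSF
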