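import Mathlib
import Groth.Agent.Lib.Helper9.Misc.TSF2

/-! Helper9: symmetric tensors of flat modules come from finite free modules -/

set_option linter.style.haveILetI false
set_option linter.unusedSectionVars false

namespace Groth.Agent.H9.TSF
open PiTensorProduct
open scoped TensorProduct

universe u
variable {R : Type u} [CommRing R]

lemma map_reindex' {n : ℕ} {M₁ M₂ : Type u} [AddCommGroup M₁] [Module R M₁]
    [AddCommGroup M₂] [Module R M₂] (f : M₁ →ₗ[R] M₂) (σ : Equiv.Perm (Fin n))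
    (x : ⨂[R] _ : Fin n, M₁) :
    PiTensorProduct.map (R := R) (fun _ : Fin n => f) (reindex R (fun _ : Fin n => M₁) σ x) =
      reindex R (fun _ : Fin n => M₂) σ (PiTensorProduct.map (R := R) (fun _ : Fin n => f) x) :=
  PiTensorProduct.map_reindex (fun _ : Fin n => f) σ x

/-- every tensor comes from a finite free module -/
lemma exists_rep (n : ℕ) {N : Type u} [AddCommGroup N] [Module R N] (y : ⨂[R] _ : Fin n, N) :
    ∃ (F : Type u) (_ : AddCommGroup F) (_ : Module R F) (_ : Module.Finite R F)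
      (_ : Module.Free R F) (u : F →ₗ[R] N) (z : ⨂[R] _ : Fin n, F),
      PiTensorProduct.map (R := R) (fun _ : Fin n => u) z = y := by
  induction y using PiTensorProduct.induction_on with
  | smul_tprod r m =>
    refine ⟨ULift.{u} (Fin n) →₀ R, inferInstance, inferInstance, inferInstance, inferInstance,
      Finsupp.linearCombination R (fun i => m i.down),
      r • tprod R (fun i => Finsupp.single (ULift.up i) 1), ?_⟩
    rw [map_smul, PiTensorProduct.map_tprod]
    congr 2
    ext i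
    simp
  | add x y hx hy =>
    obtain ⟨F₁, _, _, _, _, u₁, z₁, h₁⟩ := hx
    obtain ⟨F₂, _, _, _, _, u₂, z₂, h₂⟩ := hy
    refine ⟨F₁ × F₂, inferInstance, inferInstance, inferInstance, inferInstance,
      u₁.coprod u₂,
      PiTensorProduct.map (R := R) (fun _ : Fin n => LinearMap.inl R F₁ F₂) z₁ +
        PiTensorProduct.map (R := R) (fun _ : Fin n => LinearMap.inr R F₁ F₂) z₂, ?_⟩
    rw [map_add, ← map_comp_apply', ← map_comp_apply', LinearMap.coprod_inl, LinearMap.coprod_inr,
      h₁, h₂]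

/-- finite-family version of the tensor criterion -/
theorem exists_factorization_tensor_finset (n : ℕ) {N : Type u} [AddCommGroup N] [Module R N]
    [Module.Flat R N]
    {F₀ : Type u} [AddCommGroup F₀] [Module R F₀] [Module.Finite R F₀] [Module.Free R F₀]
    (u₀ : F₀ →ₗ[R] N) (Z : Finset (⨂[R] _ : Fin n, F₀))
    (hZ : ∀ z ∈ Z, PiTensorProduct.map (R := R) (fun _ : Fin n => u₀) z = 0) :
    ∃ (k : ℕ) (a : F₀ →ₗ[R] (Fin k →₀ R)) (u₁ : (Fin k →₀ R) →ₗ[R] N),
      u₁ ∘ₗ a = u₀ ∧ ∀ z ∈ Z, PiTensorProduct.map (R := R) (fun _ : Fin n => a) z = 0 := by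
  classical
  induction Z using Finset.induction_on with
  | empty =>
    obtain ⟨k, a, u₁, h1, -⟩ := exists_factorization_tensor n u₀ 0 (map_zero _)
    exact ⟨k, a, u₁, h1, by simp⟩
  | insert z Z hzZ ih =>
    obtain ⟨k, a, u₁, h1, h2⟩ := ih (fun z' hz' => hZ z' (Finset.mem_insert_of_mem hz'))
    have hz : PiTensorProduct.map (R := R) (fun _ : Fin n => u₁)
        (PiTensorProduct.map (R := R) (fun _ : Fin n => a) z) = 0 := by
      rw [← map_comp_apply', h1]
      exact hZ z (Finset.mem_insert_self _ _)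
    obtain ⟨k', a', u₂, h3, h4⟩ := exists_factorization_tensor n u₁ _ hz
    refine ⟨k', a' ∘ₗ a, u₂, ?_, ?_⟩
    · rw [← LinearMap.comp_assoc, h3, h1]
    · intro z' hz'
      rw [map_comp_apply']
      rcases Finset.mem_insert.mp hz' with rfl | hz'
      · exact h4
      · rw [h2 z' hz', map_zero]

/-- symmetric tensors of a flat module come from symmetric tensors of finite free modules -/
theorem exists_sym_rep (n : ℕ) {N : Type u} [AddCommGroup N] [Module R N] [Module.Flat R N]
    (y : ⨂[R] _ : Fin n, N)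
    (hy : ∀ σ : Equiv.Perm (Fin n), reindex R (fun _ : Fin n => N) σ y = y) :
    ∃ (k : ℕ) (u : (Fin k →₀ R) →ₗ[R] N) (z : ⨂[R] _ : Fin n, (Fin k →₀ R)),
      (∀ σ : Equiv.Perm (Fin n), reindex R (fun _ : Fin n => (Fin k →₀ R)) σ z = z) ∧
      PiTensorProduct.map (R := R) (fun _ : Fin n => u) z = y := by
  classical
  obtain ⟨F₀, _, _, _, _, u₀, z₀, h₀⟩ := exists_rep n y
  let Z : Finset (⨂[R] _ : Fin n, F₀) :=
    Finset.univ.image fun σ : Equiv.Perm (Fin n) => reindex R (fun _ : Fin n => F₀) σ z₀ - z₀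
  have hZ : ∀ z ∈ Z, PiTensorProduct.map (R := R) (fun _ : Fin n => u₀) z = 0 := by
    intro z hz
    obtain ⟨σ, -, rfl⟩ := Finset.mem_image.mp hz
    rw [map_sub, map_reindex', h₀, hy σ, sub_self]
  obtain ⟨k, a, u₁, h1, h2⟩ := exists_factorization_tensor_finset n u₀ Z hZ
  refine ⟨k, u₁, PiTensorProduct.map (R := R) (fun _ : Fin n => a) z₀, ?_, ?_⟩
  · intro σ
    have := h2 _ (Finset.mem_image.mpr ⟨σ, Finset.mem_univ _, rfl⟩)
    rw [map_sub, map_reindex', sub_eq_zero] at this
    exact this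
  · rw [← map_comp_apply', h1, h₀]

/-- S14672 -/
theorem sym_surjective (M N : Type u) [AddCommGroup M] [Module R M]
    [AddCommGroup N] [Module R N] [Module.Flat R N] (f : M →ₗ[R] N) (hf : Function.Surjective f)
    (n : ℕ) (t : ⨂[R] _ : Fin n, N)
    (ht : ∀ σ : Equiv.Perm (Fin n), reindex R (fun _ : Fin n => N) σ t = t) :
    ∃ s : ⨂[R] _ : Fin n, M,
      (∀ σ : Equiv.Perm (Fin n), reindex R (fun _ : Fin n => M) σ s = s) ∧
      PiTensorProduct.map (R := R) (fun _ : Fin n => f) s = t := by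
  obtain ⟨k, u, z, hz, hzt⟩ := exists_sym_rep n t ht
  obtain ⟨v, hv⟩ := Module.projective_lifting_property f u hf
  refine ⟨PiTensorProduct.map (R := R) (fun _ : Fin n => v) z, ?_, ?_⟩
  · intro σ
    rw [← map_reindex', hz σ]
  · rw [← map_comp_apply', hv, hzt]

end Groth.Agent.H9.TSF
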