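import Mathlib

/-! Helper9: symmetric tensors of a finite free module: orbit sums and the retraction -/

set_option linter.style.haveILetI false
set_option linter.unusedSectionVars false

namespace Groth.Agent.H9.TSF
open PiTensorProduct
open scoped TensorProduct

universe u
variable (R : Type u) [CommRing R] (k n : ℕ)

/-- the standard basis of `T^n (R^k)` -/
noncomputable def stdB : Module.Basis (Fin n → Fin k) R (⨂[R] _ : Fin n, (Fin k →₀ R)) :=
  Basis.piTensorProduct (fun _ : Fin n => (Finsupp.basisSingleOne : Module.Basis (Fin k) R (Fin k →₀ R)))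

lemma stdB_apply (c : Fin n → Fin k) :
    stdB R k n c = tprod R (fun i => (Finsupp.single (c i) (1 : R) : Fin k →₀ R)) := by
  rw [stdB, Basis.piTensorProduct_apply]
  rfl

lemma reindex_stdB (σ : Equiv.Perm (Fin n)) (c : Fin n → Fin k) :
    reindex R (fun _ : Fin n => (Fin k →₀ R)) σ (stdB R k n c) = stdB R k n (c ∘ σ.symm) := by
  rw [stdB_apply, stdB_apply, reindex_tprod]
  rfl

lemma repr_reindex (σ : Equiv.Perm (Fin n)) (x : ⨂[R] _ : Fin n, (Fin k →₀ R))
    (c : Fin n → Fin k) :
    (stdB R k n).repr (reindex R (fun _ : Fin n => (Fin k →₀ R)) σ x) c =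
      (stdB R k n).repr x (c ∘ σ) := by
  classical
  have key : (Finsupp.lapply c ∘ₗ (stdB R k n).repr.toLinearMap) ∘ₗ
      (reindex R (fun _ : Fin n => (Fin k →₀ R)) σ).toLinearMap =
      Finsupp.lapply (c ∘ σ) ∘ₗ (stdB R k n).repr.toLinearMap := by
    apply (stdB R k n).ext
    intro c'
    simp only [LinearMap.coe_comp, LinearEquiv.coe_coe, Function.comp_apply, Finsupp.lapply_apply,
      reindex_stdB, Module.Basis.repr_self, Finsupp.single_apply]
    have : (c' ∘ ⇑σ.symm = c) ↔ (c' = c ∘ ⇑σ) := by
      constructor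
      · rintro rfl; ext i; simp
      · rintro rfl; ext i; simp
    simp only [this]
  exact LinearMap.congr_fun key x

variable {k n}

/-- the sorted version of a tuple -/
def srt (c : Fin n → Fin k) : Fin n → Fin k := c ∘ Tuple.sort c

lemma srt_comp (c : Fin n → Fin k) (σ : Equiv.Perm (Fin n)) : srt (c ∘ σ) = srt c :=
  Tuple.comp_perm_comp_sort_eq_comp_sort

lemma srt_mono (c : Fin n → Fin k) : Monotone (srt c) := Tuple.monotone_sort c

lemma srt_of_mono {c : Fin n → Fin k} (h : Monotone c) : srt c = c := by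
  rw [srt, Tuple.sort_eq_refl_iff_monotone.mpr h]
  rfl

variable (k n)

open Classical in
/-- orbit sums -/
noncomputable def orbSum (m : Fin n → Fin k) : ⨂[R] _ : Fin n, (Fin k →₀ R) :=
  ∑ c : Fin n → Fin k, if srt c = m then stdB R k n c else 0

open Classical in
lemma repr_orbSum (m c : Fin n → Fin k) :
    (stdB R k n).repr (orbSum R k n m) c = if srt c = m then 1 else 0 := by
  rw [orbSum, map_sum, Finsupp.finsetSum_apply, Finset.sum_eq_single c]
  · split_ifs with h
    · simp
    · simp
  · intro c' _ hc'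
    split_ifs with h
    · simp [hc']
    · simp
  · intro h; exact absurd (Finset.mem_univ c) h

open Classical in
/-- the retraction onto symmetric tensors -/
noncomputable def rho : (⨂[R] _ : Fin n, (Fin k →₀ R)) →ₗ[R] (⨂[R] _ : Fin n, (Fin k →₀ R)) :=
  (stdB R k n).constr R (fun c => if Monotone c then orbSum R k n c else 0)

lemma repr_rho (x : ⨂[R] _ : Fin n, (Fin k →₀ R)) (c : Fin n → Fin k) :
    (stdB R k n).repr (rho R k n x) c = (stdB R k n).repr x (srt c) := by
  classical
  have key : (Finsupp.lapply c ∘ₗ (stdB R k n).repr.toLinearMap) ∘ₗ rho R k n =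
      Finsupp.lapply (srt c) ∘ₗ (stdB R k n).repr.toLinearMap := by
    apply (stdB R k n).ext
    intro c'
    simp only [LinearMap.coe_comp, LinearEquiv.coe_coe, Function.comp_apply, Finsupp.lapply_apply,
      rho, Module.Basis.constr_basis, Module.Basis.repr_self, Finsupp.single_apply]
    by_cases hm : Monotone c'
    · rw [if_pos hm, repr_orbSum]
      simp only [eq_comm]
    · rw [if_neg hm]
      have : ¬ (c' = srt c) := fun h => hm (h ▸ srt_mono c)
      simp [this]
  exact LinearMap.congr_fun key x

lemma reindex_rho (σ : Equiv.Perm (Fin n)) (x : ⨂[R] _ : Fin n, (Fin k →₀ R)) :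
    reindex R (fun _ : Fin n => (Fin k →₀ R)) σ (rho R k n x) = rho R k n x := by
  apply (stdB R k n).ext_elem
  intro c
  rw [repr_reindex, repr_rho, repr_rho, srt_comp]

lemma rho_of_sym (x : ⨂[R] _ : Fin n, (Fin k →₀ R))
    (hx : ∀ σ : Equiv.Perm (Fin n), reindex R (fun _ : Fin n => (Fin k →₀ R)) σ x = x) :
    rho R k n x = x := by
  apply (stdB R k n).ext_elem
  intro c
  rw [repr_rho, srt, ← repr_reindex, hx]

/-- the module of symmetric tensors (in the form used by the statements) -/
abbrev symSub (M : Type u) [AddCommGroup M] [Module R M] : Submodule R (⨂[R] _ : Fin n, M) :=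
  ⨅ σ : Equiv.Perm (Fin n),
    LinearMap.eqLocus (PiTensorProduct.reindex R (fun _ : Fin n => M) σ).toLinearMap LinearMap.id

lemma mem_symSub {M : Type u} [AddCommGroup M] [Module R M] (x : ⨂[R] _ : Fin n, M) :
    x ∈ symSub R n M ↔ ∀ σ : Equiv.Perm (Fin n), reindex R (fun _ : Fin n => M) σ x = x := by
  simp [symSub, Submodule.mem_iInf, LinearMap.mem_eqLocus]

instance symSub_projective : Module.Projective R (symSub R n (Fin k →₀ R)) := by
  haveI : Module.Free R (⨂[R] _ : Fin n, (Fin k →₀ R)) := Module.Free.of_basis (stdB R k n)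
  let s : (⨂[R] _ : Fin n, (Fin k →₀ R)) →ₗ[R] symSub R n (Fin k →₀ R) :=
    (rho R k n).codRestrict _ (fun x => (mem_symSub R n _).mpr (fun σ => reindex_rho R k n σ x))
  refine Module.Projective.of_split (symSub R n (Fin k →₀ R)).subtype s ?_
  ext x
  exact rho_of_sym R k n x.1 ((mem_symSub R n _).mp x.2)

end Groth.Agent.H9.TSF
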