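import Mathlib
import Groth.Agent.Lib.Helper9.Misc.TSF3
import Groth.Agent.Lib.Helper9.Misc.TSF4

/-! Helper9: symmetric tensors over an infinite field are spanned by pure powers (S13115) -/

set_option linter.style.haveILetI false
set_option linter.unusedSectionVars false

namespace Groth.Agent.H9.TSF
open PiTensorProduct
open scoped TensorProduct

universe u

section comb
variable {K n : ℕ}

/-- the content (multidegree) of a tuple -/
noncomputable def mu (c : Fin n → Fin K) : Fin K →₀ ℕ := ∑ i, Finsupp.single (c i) 1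

lemma mu_eq_toFinsupp (c : Fin n → Fin K) :
    mu c = Multiset.toFinsupp ((List.ofFn c : List (Fin K)) : Multiset (Fin K)) := by
  rw [← Fin.univ_val_map, mu]
  have : Multiset.map c (Finset.univ : Finset (Fin n)).val =
      ∑ i, ({c i} : Multiset (Fin K)) := by
    rw [Finset.sum_eq_multiset_sum]
    have h2 : Multiset.map (fun i => ({c i} : Multiset (Fin K))) (Finset.univ : Finset (Fin n)).val =
        Multiset.map (fun a => ({a} : Multiset (Fin K)))
          (Multiset.map c (Finset.univ : Finset (Fin n)).val) := by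
      rw [Multiset.map_map]; rfl
    rw [h2, Multiset.sum_map_singleton]
  rw [this, map_sum]
  simp only [Multiset.toFinsupp_singleton]

open List in
lemma mu_eq_iff (c c' : Fin n → Fin K) : mu c = mu c' ↔ srt c = srt c' := by
  constructor
  · intro h
    rw [mu_eq_toFinsupp, mu_eq_toFinsupp, EmbeddingLike.apply_eq_iff_eq, Multiset.coe_eq_coe] at h
    have h1 : List.ofFn (srt c) ~ List.ofFn (srt c') :=
      ((Equiv.Perm.ofFn_comp_perm _ c).trans h).trans (Equiv.Perm.ofFn_comp_perm _ c').symm
    exact List.ofFn_injective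
      (h1.eq_of_sortedLE (srt_mono c).sortedLE_ofFn (srt_mono c').sortedLE_ofFn)
  · intro h
    have key : ∀ d : Fin n → Fin K, mu (srt d) = mu d := by
      intro d
      rw [mu, mu, srt]
      exact Equiv.sum_comp (Tuple.sort d) (fun i => Finsupp.single (d i) 1)
    rw [← key c, ← key c', h]

end comb

section main
variable (k : Type u) [Field k] (K n : ℕ)

/-- span of pure powers -/
def powSpan' (V : Type u) [AddCommGroup V] [Module k V] : Submodule k (⨂[k] _ : Fin n, V) :=
  Submodule.span k (Set.range fun v : V => tprod k (fun _ : Fin n => v))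

lemma tprod_pow_expand (t : Fin K → k) :
    tprod k (fun _ : Fin n => ∑ j, t j • (Finsupp.single j (1 : k) : Fin K →₀ k)) =
      ∑ c : Fin n → Fin K, (∏ i, t (c i)) • stdB k K n c := by
  classical
  rw [MultilinearMap.map_sum]
  refine Finset.sum_congr rfl fun c _ => ?_
  rw [stdB_apply, ← MultilinearMap.map_smul_univ]

variable [Infinite k]

lemma orbSum_mem (m : Fin n → Fin K) : orbSum k K n (srt m) ∈ powSpan' k n (Fin K →₀ k) := by
  classical
  by_contra hm
  letI : AddCommGroup (⨂[k] _ : Fin n, (Fin K →₀ k)) :=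
    @PiTensorProduct.instAddCommGroup (Fin n) k _ (fun _ => Fin K →₀ k) (fun _ => inferInstance) _
  obtain ⟨φ, hφ, hP⟩ := Submodule.exists_le_ker_of_notMem
    (K := k) (V := ⨂[k] _ : Fin n, (Fin K →₀ k)) hm
  let Q : MvPolynomial (Fin K) k :=
    ∑ c : Fin n → Fin K, MvPolynomial.C (φ (stdB k K n c)) * ∏ i, MvPolynomial.X (c i)
  have hQ : Q = 0 := by
    apply MvPolynomial.funext
    intro t
    rw [map_zero]
    have h1 : φ (tprod k (fun _ : Fin n =>
        ∑ j, t j • (Finsupp.single j (1 : k) : Fin K →₀ k))) = 0 :=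
      hP (Submodule.subset_span ⟨_, rfl⟩)
    rw [tprod_pow_expand, map_sum] at h1
    simp only [Q, map_sum, map_mul, MvPolynomial.eval_C, map_prod, MvPolynomial.eval_X]
    rw [← h1]
    refine Finset.sum_congr rfl fun c _ => ?_
    rw [map_smul, smul_eq_mul, mul_comm]
  have h2 : MvPolynomial.coeff (mu m) Q = φ (orbSum k K n (srt m)) := by
    simp only [Q, MvPolynomial.coeff_sum, orbSum, map_sum]
    refine Finset.sum_congr rfl fun c _ => ?_
    have : ∏ i, (MvPolynomial.X (c i) : MvPolynomial (Fin K) k) =
        MvPolynomial.monomial (mu c) 1 := by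
      rw [mu, MvPolynomial.monomial_sum_one]
      rfl
    rw [this, MvPolynomial.coeff_C_mul, MvPolynomial.coeff_monomial]
    by_cases h : srt c = srt m
    · rw [if_pos h, if_pos ((mu_eq_iff c m).mpr h), mul_one]
    · rw [if_neg h, if_neg (fun h' => h ((mu_eq_iff c m).mp h')), mul_zero, map_zero]
  rw [hQ, MvPolynomial.coeff_zero] at h2
  exact hφ h2.symm

lemma rho_mem (x : ⨂[k] _ : Fin n, (Fin K →₀ k)) :
    rho k K n x ∈ powSpan' k n (Fin K →₀ k) := by
  classical
  rw [rho, Module.Basis.constr_apply_fintype]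
  refine Submodule.sum_mem _ fun c _ => Submodule.smul_mem _ _ ?_
  split_ifs with h
  · rw [← srt_of_mono h]; exact orbSum_mem k K n c
  · exact Submodule.zero_mem _

/-- S13115 -/
theorem sym_mem_span (V : Type u) [AddCommGroup V] [Module k V] (m : ℕ)
    (x : ⨂[k] _ : Fin m, V)
    (hx : ∀ σ : Equiv.Perm (Fin m), PiTensorProduct.reindex k (fun _ : Fin m => V) σ x = x) :
    x ∈ Submodule.span k (Set.range fun v : V => PiTensorProduct.tprod k (fun _ : Fin m => v)) := by
  obtain ⟨K, u, z, hz, rfl⟩ := exists_sym_rep m x hx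
  have hz' : z ∈ powSpan' k m (Fin K →₀ k) := by
    rw [← rho_of_sym k K m z hz]; exact rho_mem k K m z
  have : powSpan' k m (Fin K →₀ k) ≤
      (Submodule.span k (Set.range fun v : V => PiTensorProduct.tprod k (fun _ : Fin m => v))).comap
        (PiTensorProduct.map (R := k) (fun _ : Fin m => u)) := by
    rw [powSpan', Submodule.span_le]
    rintro _ ⟨v, rfl⟩
    rw [Submodule.comap_coe, Set.mem_preimage, PiTensorProduct.map_tprod]
    exact Submodule.subset_span ⟨u v, rfl⟩
  exact this hz'

end main

end Groth.Agent.H9.TSF
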