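import Mathlib
import Groth.Prelude.Def_PolLaw
import Groth.Agent.Lib.Helper9.Misc.PLZ6

/-! Helper9: a criterion for a multiplicative law to be the universal one -/

set_option linter.style.haveILetI false
set_option linter.unusedSectionVars false

namespace Groth.Agent.H9.TSG
open scoped TensorProduct
open Groth.Agent.H9.PLR Groth.Agent.H9.PLZ

universe u
variable {A : Type u} [CommRing A] {B : Type u} [CommRing B] [Algebra A B]
variable {T : Type u} [CommRing T] [Algebra A T]

/-- a multiplicative law spanned by its coefficients is universal as soon as every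
multiplicative law of the same degree factors through it by a linear map -/
theorem isGammaD_of_span {d : ℕ} (τ : PolLaw.MulLaw A B T d)
    (hspan : coeffSpan τ.law = ⊤)
    (hex : ∀ (C' : Type u) [CommRing C'] [Algebra A C'] (F : PolLaw.MulLaw A B C' d),
      ∃ f : T →ₗ[A] C', ∀ (S : Type u) [CommSemiring S] [Algebra A S] (x : S ⊗[A] B),
        f.lTensor S (τ.law.toFun' S x) = F.law.toFun' S x) :
    PolLaw.IsGammaD τ := by
  intro C' _ _ F
  obtain ⟨f, hf⟩ := hex C' F
  have key : ∀ (S : Type u) [CommSemiring S] [Algebra A S] (x : S ⊗[A] B) (ℓ : S →ₗ[A] A),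
      f (ev ℓ (τ.law.toFun' S x)) = ev ℓ (F.law.toFun' S x) := by
    intro S _ _ x ℓ
    rw [← hf, ev_lTensor]
  have h1 : f 1 = 1 := by
    have h := key A 1 LinearMap.id
    rw [(τ.mult A).1, (F.mult A).1, Algebra.TensorProduct.one_def, Algebra.TensorProduct.one_def,
      ev_tmul, ev_tmul] at h
    simpa using h
  have hmul : ∀ y y' : T, f (y * y') = f y * f y' := by
    intro y y'
    have hy : y ∈ coeffSpan τ.law := by rw [hspan]; trivial
    have hy' : y' ∈ coeffSpan τ.law := by rw [hspan]; trivial
    unfold coeffSpan at hy hy'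
    induction hy using Submodule.span_induction with
    | zero => simp
    | add x y _ _ hx hy => rw [add_mul, map_add, map_add, hx, hy, add_mul]
    | smul a x _ hx => rw [smul_mul_assoc, map_smul, map_smul, hx, smul_mul_assoc]
    | mem x hx =>
      obtain ⟨S, _, _, p, ℓ, rfl⟩ := hx
      induction hy' using Submodule.span_induction with
      | zero => simp
      | add x y _ _ hx hy => rw [mul_add, map_add, map_add, hx, hy, mul_add]
      | smul a x _ hx => rw [mul_smul_comm, map_smul, map_smul, hx, mul_smul_comm]
      | mem y hy =>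
        obtain ⟨S', _, _, p', ℓ', rfl⟩ := hy
        rw [key, key, ← ev_prodFun, ← ev_prodFun, PolynomialLaw.isCompat_apply',
          PolynomialLaw.isCompat_apply', PolynomialLaw.isCompat_apply',
          PolynomialLaw.isCompat_apply', ← (τ.mult (S ⊗[A] S')).2, ← (F.mult (S ⊗[A] S')).2, key]
  refine ⟨AlgHom.ofLinearMap f h1 hmul, ?_, ?_⟩
  · ext S _ _ x
    show (AlgHom.ofLinearMap f h1 hmul).toLinearMap.lTensor S (τ.law.toFun' S x) = _
    rw [AlgHom.toLinearMap_ofLinearMap, hf]
  · intro g hg
    have hg' : ∀ (S : Type u) [CommSemiring S] [Algebra A S] (x : S ⊗[A] B),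
        g.toLinearMap.lTensor S (τ.law.toFun' S x) = F.law.toFun' S x := by
      intro S _ _ x
      have h2 := congrArg (fun L : B →ₚₗ[A] C' => L.toFun' S x) hg
      exact h2
    apply AlgHom.ext
    intro y
    have hy : y ∈ coeffSpan τ.law := by rw [hspan]; trivial
    unfold coeffSpan at hy
    induction hy using Submodule.span_induction with
    | zero => simp
    | add x y _ _ hx hy => rw [map_add, map_add, hx, hy]
    | smul a x _ hx => rw [map_smul, map_smul, hx]
    | mem x hx =>
      obtain ⟨S, _, _, p, ℓ, rfl⟩ := hx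
      show g.toLinearMap _ = f _
      rw [key, ← ev_lTensor, hg']

end Groth.Agent.H9.TSG
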