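import Mathlib
import Groth.Prelude.Def_SymTen
import Groth.Agent.Lib.Helper9.Misc.PLW2

/-! Helper9: if d! is invertible, TS^d(B) is spanned by the d-th tensor powers (inclusion-exclusion) -/

set_option linter.style.haveILetI false

namespace Groth.Agent.H9.TSI
open scoped TensorProduct
open Groth.Agent.H9.PLW

universe u
variable {A : Type u} [CommRing A] {B : Type u} [CommRing B] [Algebra A B] (d : ℕ)

/-- the span of the `d`-th tensor powers -/
noncomputable def powSpan (A : Type u) [CommRing A] (B : Type u) [CommRing B] [Algebra A B] (d : ℕ) :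
    Submodule A (⨂[A] _ : Fin d, B) :=
  Submodule.span A (Set.range fun x : B => PiTensorProduct.tprod A (fun _ : Fin d => x))

lemma tprod_const_mem (x : B) : PiTensorProduct.tprod A (fun _ : Fin d => x) ∈ powSpan A B d :=
  Submodule.subset_span ⟨x, rfl⟩

/-- the symmetrisation of a pure tensor is a `ℤ`-combination of `d`-th tensor powers -/
lemma sum_perm_tprod_mem (b : Fin d → B) :
    ∑ π : Equiv.Perm (Fin d), PiTensorProduct.tprod A (fun i => b (π i)) ∈ powSpan A B d := by
  classical
  have h1 := Finset.inclusion_exclusion_sum_inf_compl (Finset.univ : Finset (Fin d))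
    (fun i => (Finset.univ.filter fun c : Fin d → Fin d => ∀ k, c k ≠ i))
    (fun c => PiTensorProduct.tprod A (fun k => b (c k)))
  have h2 : ((Finset.univ : Finset (Fin d)).inf fun i =>
      (Finset.univ.filter fun c : Fin d → Fin d => ∀ k, c k ≠ i)ᶜ) =
      Finset.univ.filter fun c : Fin d → Fin d => Function.Bijective c := by
    ext c
    simp only [Finset.mem_inf, Finset.mem_univ, Finset.mem_compl, Finset.mem_filter, true_and,
      not_forall, not_not, forall_const]
    rw [← Finite.surjective_iff_bijective (f := c)]
    rfl
  have h3 : ∀ t : Finset (Fin d), (t.inf fun i =>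
      (Finset.univ.filter fun c : Fin d → Fin d => ∀ k, c k ≠ i)) =
      Fintype.piFinset (fun _ : Fin d => tᶜ) := by
    intro t
    ext c
    simp only [Finset.mem_inf, Finset.mem_filter, Finset.mem_univ, true_and, Fintype.mem_piFinset,
      Finset.mem_compl]
    constructor
    · intro h k hk
      exact h _ hk k rfl
    · intro h i hi k hki
      exact h k (hki ▸ hi)
  rw [h2, Finset.sum_filter, sum_bijective (fun c => PiTensorProduct.tprod A (fun k => b (c k)))] at h1
  rw [h1]
  refine Submodule.sum_mem _ fun t _ => ?_
  refine Submodule.smul_of_tower_mem _ _ ?_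
  rw [h3 t]
  have h4 := (PiTensorProduct.tprod A (s := fun _ : Fin d => B)).map_sum_finset
    (fun (_ : Fin d) (j : Fin d) => b j) (fun _ : Fin d => tᶜ)
  rw [← h4]
  exact tprod_const_mem d _

/-- the symmetrisation of any tensor lies in the span of the tensor powers -/
lemma sum_perm_mem (z : ⨂[A] _ : Fin d, B) :
    ∑ π : Equiv.Perm (Fin d), SymTen.perm A B d π z ∈ powSpan A B d := by
  induction z using PiTensorProduct.induction_on with
  | smul_tprod r b =>
    simp only [map_smul]
    rw [← Finset.smul_sum]
    refine Submodule.smul_mem _ _ ?_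
    simp only [SymTen.perm_tprod]
    have := sum_perm_tprod_mem (A := A) d b
    rw [← Equiv.sum_comp (Equiv.inv (Equiv.Perm (Fin d)))] at this
    exact this
  | add x y hx hy =>
    simp only [map_add, Finset.sum_add_distrib]
    exact Submodule.add_mem _ hx hy

/-- if `d!` is invertible, the symmetric tensors are spanned by the tensor powers -/
lemma mem_powSpan_of_mem_TS (u : A) (hu : (d.factorial : A) * u = 1)
    (y : ⨂[A] _ : Fin d, B) (hy : y ∈ SymTen.TS A B d) : y ∈ powSpan A B d := by
  have h1 : ∑ π : Equiv.Perm (Fin d), SymTen.perm A B d π y = d.factorial • y := by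
    have h2 : ∀ π : Equiv.Perm (Fin d), SymTen.perm A B d π y = y := by
      intro π
      rw [SymTen.perm_apply]
      exact hy π
    simp only [h2, Finset.sum_const, Finset.card_univ, Fintype.card_perm, Fintype.card_fin]
  have h3 : y = u • (d.factorial • y) := by
    rw [← Nat.cast_smul_eq_nsmul A, smul_smul, mul_comm, hu, one_smul]
  rw [h3, ← h1]
  exact Submodule.smul_mem _ _ (sum_perm_mem d y)

end Groth.Agent.H9.TSI
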