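import Mathlib
import Groth.Prelude.Def_PolLaw
import Groth.Prelude.Def_SymTen
import Groth.Agent.Lib.Helper9.Misc.PLW3
import Groth.Agent.Lib.Helper9.Misc.TSI1

/-! Helper9: if d! is invertible, multiplicative laws of degree d out of B are algebra maps out of TS^d(B) -/

set_option linter.style.haveILetI false

namespace Groth.Agent.H9.TSI
open scoped TensorProduct
open Groth.Agent.H9.PLW

universe u
variable {A : Type u} [CommRing A] {B : Type u} [CommRing B] [Algebra A B]
variable {C : Type u} [CommRing C] [Algebra A C] (d : ℕ) (F : PolLaw.MulLaw A B C d)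

lemma pol0_const (b : B) : pol0 F.law (fun _ : Fin d => b) = d.factorial • F.law.ground b := by
  have h1 := RR_diag F.law A (σ := Fin d) (by rw [Fintype.card_fin]; exact F.homog)
    ((1 : A) ⊗ₜ[A] b)
  rw [RR_one_tmul F.law A (fun _ : Fin d => b), Fintype.card_fin] at h1
  have h2 := congrArg (TensorProduct.lid A C) h1
  rw [TensorProduct.lid_tmul, one_smul, map_smul] at h2
  rw [h2, PolynomialLaw.ground_apply, Nat.cast_smul_eq_nsmul]

lemma ground_one : F.law.ground (1 : B) = 1 := by
  rw [PolynomialLaw.ground_apply, ← Algebra.TensorProduct.one_def, (F.mult A).1,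
    Algebra.TensorProduct.one_def, TensorProduct.lid_tmul, one_smul]

lemma ground_mul (b b' : B) : F.law.ground (b * b') = F.law.ground b * F.law.ground b' := by
  have h1 := (F.mult A).2 ((1 : A) ⊗ₜ[A] b) ((1 : A) ⊗ₜ[A] b')
  rw [Algebra.TensorProduct.tmul_mul_tmul, mul_one] at h1
  have h2 := congrArg (Algebra.TensorProduct.lid A C) h1
  rw [map_mul] at h2
  exact h2

variable (u : A)

/-- the candidate linear map `T^d(B) → C` -/
noncomputable def fLin : (⨂[A] _ : Fin d, B) →ₗ[A] C := u • rho d F

variable (hu : (d.factorial : A) * u = 1)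
include hu

lemma fLin_tprod_const (b : B) :
    fLin d F u (PiTensorProduct.tprod A (fun _ : Fin d => b)) = F.law.ground b := by
  rw [fLin, LinearMap.smul_apply, rho_tprod, pol0_const, ← Nat.cast_smul_eq_nsmul A, smul_smul,
    mul_comm, hu, one_smul]

lemma fLin_one : fLin d F u 1 = 1 := by
  have h1 : (1 : ⨂[A] _ : Fin d, B) = PiTensorProduct.tprod A (fun _ : Fin d => (1 : B)) :=
    PiTensorProduct.one_def
  rw [h1, fLin_tprod_const d F u hu, ground_one]

lemma fLin_mul (y y' : ⨂[A] _ : Fin d, B) (hy : y ∈ powSpan A B d) (hy' : y' ∈ powSpan A B d) :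
    fLin d F u (y * y') = fLin d F u y * fLin d F u y' := by
  unfold powSpan at hy hy'
  induction hy using Submodule.span_induction with
  | zero => simp
  | add x z _ _ hx hz => rw [add_mul, map_add, map_add, hx, hz, add_mul]
  | smul a x _ hx => rw [smul_mul_assoc, map_smul, map_smul, hx, smul_mul_assoc]
  | mem x hx =>
    obtain ⟨b, rfl⟩ := hx
    induction hy' using Submodule.span_induction with
    | zero => simp
    | add x z _ _ hx hz => rw [mul_add, map_add, map_add, hx, hz, mul_add]
    | smul a x _ hx => rw [mul_smul_comm, map_smul, map_smul, hx, mul_smul_comm]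
    | mem x hx =>
      obtain ⟨b', rfl⟩ := hx
      rw [PiTensorProduct.tprod_mul_tprod]
      show fLin d F u (PiTensorProduct.tprod A (fun _ : Fin d => b * b')) = _
      rw [fLin_tprod_const d F u hu, fLin_tprod_const d F u hu, fLin_tprod_const d F u hu,
        ground_mul]

/-- the algebra map `TS^d(B) → C` attached to a multiplicative law of degree `d` (`d!` invertible) -/
noncomputable def fAlg : SymTen.TS A B d →ₐ[A] C :=
  AlgHom.ofLinearMap (fLin d F u ∘ₗ (SymTen.TS A B d).val.toLinearMap)
    (by
      show fLin d F u ((1 : SymTen.TS A B d) : ⨂[A] _ : Fin d, B) = 1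
      rw [OneMemClass.coe_one]
      exact fLin_one d F u hu)
    (by
      intro y y'
      show fLin d F u ((y * y' : SymTen.TS A B d) : ⨂[A] _ : Fin d, B) =
        fLin d F u y.1 * fLin d F u y'.1
      rw [MulMemClass.coe_mul]
      exact fLin_mul d F u hu _ _ (mem_powSpan_of_mem_TS d u hu _ y.2)
        (mem_powSpan_of_mem_TS d u hu _ y'.2))

lemma fAlg_apply (y : SymTen.TS A B d) : fAlg d F u hu y = fLin d F u y.1 := rfl

lemma fAlg_tpow (b : B) : fAlg d F u hu (SymTen.tpow A B d b) = F.law.ground b := by
  rw [fAlg_apply]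
  exact fLin_tprod_const d F u hu b

omit F in
/-- two algebra maps out of `TS^d(B)` agreeing on the tensor powers are equal -/
lemma algHom_ext_tpow {f₁ f₂ : SymTen.TS A B d →ₐ[A] C}
    (h : ∀ b : B, f₁ (SymTen.tpow A B d b) = f₂ (SymTen.tpow A B d b)) : f₁ = f₂ := by
  have key : ∀ (y : ⨂[A] _ : Fin d, B) (_ : y ∈ powSpan A B d) (hy : y ∈ SymTen.TS A B d),
      f₁ ⟨y, hy⟩ = f₂ ⟨y, hy⟩ := by
    intro y hy
    unfold powSpan at hy
    induction hy using Submodule.span_induction with
    | zero =>
      intro hy
      have : (⟨0, hy⟩ : SymTen.TS A B d) = 0 := rfl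
      rw [this, map_zero, map_zero]
    | add x z hx' hz' hx hz =>
      intro hy
      have hx2 : x ∈ SymTen.TS A B d := by
        have : Submodule.span A (Set.range fun x : B => PiTensorProduct.tprod A (fun _ : Fin d => x)) ≤
            Subalgebra.toSubmodule (SymTen.TS A B d) := by
          rw [Submodule.span_le]
          rintro _ ⟨b, rfl⟩
          exact (SymTen.tpow A B d b).2
        exact this hx'
      have hz2 : z ∈ SymTen.TS A B d := by
        have : Submodule.span A (Set.range fun x : B => PiTensorProduct.tprod A (fun _ : Fin d => x)) ≤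
            Subalgebra.toSubmodule (SymTen.TS A B d) := by
          rw [Submodule.span_le]
          rintro _ ⟨b, rfl⟩
          exact (SymTen.tpow A B d b).2
        exact this hz'
      have : (⟨x + z, hy⟩ : SymTen.TS A B d) = ⟨x, hx2⟩ + ⟨z, hz2⟩ := rfl
      rw [this, map_add, map_add, hx hx2, hz hz2]
    | smul a x hx' hx =>
      intro hy
      have hx2 : x ∈ SymTen.TS A B d := by
        have : Submodule.span A (Set.range fun x : B => PiTensorProduct.tprod A (fun _ : Fin d => x)) ≤
            Subalgebra.toSubmodule (SymTen.TS A B d) := by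
          rw [Submodule.span_le]
          rintro _ ⟨b, rfl⟩
          exact (SymTen.tpow A B d b).2
        exact this hx'
      have : (⟨a • x, hy⟩ : SymTen.TS A B d) = a • ⟨x, hx2⟩ := rfl
      rw [this, map_smul, map_smul, hx hx2]
    | mem x hx =>
      intro hy
      obtain ⟨b, rfl⟩ := hx
      exact h b
  ext y
  exact key y.1 (mem_powSpan_of_mem_TS d u hu _ y.2) y.2

end Groth.Agent.H9.TSI
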