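import Mathlib
import Groth.Prelude.Def_PolLaw
import Groth.Prelude.Def_SymTen
import Groth.Agent.Lib.Helper9.Misc.TSI2
import Groth.Agent.Lib.Helper9.Misc.TSG1
import Groth.Agent.Lib.Helper9.Misc.TSG2

/-! Helper9: TS^d(B) is the divided power algebra when d! is invertible -/

set_option linter.style.haveILetI false
set_option linter.unusedSectionVars false

namespace Groth.Agent.H9.TSG
open scoped TensorProduct
open Groth.Agent.H9.PLR Groth.Agent.H9.PLZ Groth.Agent.H9.PLW Groth.Agent.H9.TSI

universe u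
variable {A : Type u} [CommRing A] {B : Type u} [CommRing B] [Algebra A B]
variable {C : Type u} [CommRing C] [Algebra A C]

/-- the polarisation of a homogeneous law evaluated on the tensor power law -/
lemma rho_Tlaw (d : ℕ) (F : PolLaw.MulLaw A B C d) (S : Type u) [CommRing S] [Algebra A S]
    (p : S ⊗[A] B) :
    (rho d F).lTensor S ((Tlaw A B d).toFun' S p) = (d.factorial : S) • F.law.toFun' S p := by
  obtain ⟨n, s, b, rfl⟩ := exists_fin_rep S p
  rw [Tlaw_sum, map_sum]
  have h1 := RR_diag_expand F.law S (σ := Fin d) s b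
  have h2 := RR_diag F.law S (σ := Fin d) (by rw [Fintype.card_fin]; exact F.homog)
    (∑ j, s j ⊗ₜ[A] b j)
  rw [Fintype.card_fin] at h2
  rw [← h2, h1]
  refine Finset.sum_congr rfl fun c _ => ?_
  rw [LinearMap.lTensor_tmul, rho_tprod]

/-- existence of the linear factorisation when `d!` is invertible -/
lemma exists_lin_of_factorial (d : ℕ) (u : A) (hu : (d.factorial : A) * u = 1)
    (F : PolLaw.MulLaw A B C d) :
    ∃ f : SymTen.TS A B d →ₗ[A] C, ∀ (S : Type u) [CommSemiring S] [Algebra A S] (x : S ⊗[A] B),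
        f.lTensor S ((tau A B d).law.toFun' S x) = F.law.toFun' S x := by
  refine ⟨(u • rho d F) ∘ₗ (SymTen.TS A B d).val.toLinearMap, ?_⟩
  intro S _ _ x
  let _ : CommRing S := commRingOfAlg A S
  rw [LinearMap.lTensor_comp, LinearMap.comp_apply, tau_spec, LinearMap.lTensor_smul,
    LinearMap.smul_apply, rho_Tlaw, Nat.cast_smul_eq_nsmul, ← Nat.cast_smul_eq_nsmul A, smul_smul,
    mul_comm, hu, one_smul]

/-- the universal law is spanned by its coefficients when `d!` is invertible -/
lemma coeffSpan_tau_of_factorial (d : ℕ) (u : A) (hu : (d.factorial : A) * u = 1) :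
    coeffSpan (tau A B d).law = ⊤ := by
  rw [eq_top_iff]
  intro y _
  have h1 : powSpan A B d ≤ (coeffSpan (tau A B d).law).map (SymTen.TS A B d).val.toLinearMap := by
    unfold powSpan
    rw [Submodule.span_le]
    rintro _ ⟨b, rfl⟩
    refine ⟨ev LinearMap.id ((tau A B d).law.toFun' A ((1 : A) ⊗ₜ[A] b)), ev_mem _ _ _ _, ?_⟩
    rw [← ev_lTensor, tau_spec]
    have h2 := Tlaw_sum A B d A 1 (fun _ => (1 : A)) (fun _ => b)
    simp only [Finset.univ_unique, Finset.sum_singleton] at h2
    rw [h2, ev_tmul]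
    simp
  obtain ⟨y', hy', hyy'⟩ := h1 (mem_powSpan_of_mem_TS d u hu y.1 y.2)
  have : y' = y := Subtype.ext hyy'
  rw [← this]
  exact hy'

end Groth.Agent.H9.TSG
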