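import Mathlib
import Groth.Prelude.Def_PolLaw
import Groth.Agent.Lib.Helper9.Misc.PLZ6

/-! Helper9: the generic value of a homogeneous law only involves monomials of the right degree -/

set_option linter.style.haveILetI false
set_option linter.unusedSectionVars false

namespace Groth.Agent.H9.TSG
open scoped TensorProduct
open Groth.Agent.H9.PLR Groth.Agent.H9.PLZ
open MvPolynomial

universe u
variable {A : Type u} [CommRing A] {B : Type u} [CommRing B] [Algebra A B]
variable {C : Type u} [CommRing C] [Algebra A C]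

section homog
variable {κ : Type} [Fintype κ]

/-- the scaling map `X l ↦ T X l` -/
noncomputable def scalK : MvPolynomial κ A →ₐ[A] Polynomial (MvPolynomial κ A) :=
  aeval (fun l => (Polynomial.X : Polynomial (MvPolynomial κ A)) * Polynomial.C (X l))

lemma scalK_monomial (μ : κ →₀ ℕ) (a : A) :
    scalK (monomial μ a) = Polynomial.C (monomial μ a) * Polynomial.X ^ (μ.sum fun _ n => n) := by
  unfold scalK
  rw [aeval_monomial]
  have h1 : (μ.prod fun α n => ((Polynomial.X : Polynomial (MvPolynomial κ A)) * Polynomial.C (X α)) ^ n) =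
      Polynomial.X ^ (μ.sum fun _ n => n) * Polynomial.C (μ.prod fun α n => (X α : MvPolynomial κ A) ^ n) := by
    simp only [mul_pow]
    rw [Finsupp.prod_mul, Finsupp.prod, Finset.prod_pow_eq_pow_sum, map_finsuppProd]
    simp only [map_pow]
    rfl
  rw [h1, monomial_eq, Polynomial.C_mul, Polynomial.algebraMap_apply]
  simp only [MvPolynomial.algebraMap_eq]
  ring

/-- the coefficient of `T^d`, as an `A`-linear map -/
noncomputable def kap (d : ℕ) : Polynomial (MvPolynomial κ A) →ₗ[A] MvPolynomial κ A :=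
  (Polynomial.lcoeff (MvPolynomial κ A) d).restrictScalars A

lemma kap_apply (d : ℕ) (q : Polynomial (MvPolynomial κ A)) : kap d q = q.coeff d := rfl

/-- the inclusion of constants -/
noncomputable def incP : MvPolynomial κ A →ₐ[A] Polynomial (MvPolynomial κ A) :=
  IsScalarTower.toAlgHom A (MvPolynomial κ A) (Polynomial (MvPolynomial κ A))

lemma incP_apply (p : MvPolynomial κ A) : incP p = Polynomial.C p := rfl

lemma ev_rTensor_lin {S S' : Type u} [CommSemiring S] [Algebra A S] [CommSemiring S'] [Algebra A S']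
    (g : S →ₗ[A] S') (ℓ : S' →ₗ[A] A) (z : S ⊗[A] C) :
    ev ℓ (g.rTensor C z) = ev (ℓ ∘ₗ g) z := by
  induction z using TensorProduct.induction_on with
  | zero => simp
  | tmul s c => simp
  | add x y hx hy => simp only [map_add, hx, hy]

lemma kap_smul_inc (d : ℕ) (y : MvPolynomial κ A ⊗[A] C) :
    (kap (A := A) (κ := κ) d).rTensor C
      ((Polynomial.X ^ d : Polynomial (MvPolynomial κ A)) • incP.toLinearMap.rTensor C y) = y := by
  induction y using TensorProduct.induction_on with
  | zero => simp
  | tmul p c =>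
    rw [LinearMap.rTensor_tmul, TensorProduct.smul_tmul', LinearMap.rTensor_tmul, smul_eq_mul,
      AlgHom.toLinearMap_apply, incP_apply, kap_apply, mul_comm, Polynomial.coeff_C_mul_X_pow,
      if_pos rfl]
  | add x y hx hy => rw [map_add, smul_add, map_add, hx, hy]

/-- a functional killing all monomials of degree `d` kills the generic value of a homogeneous
law of degree `d` -/
lemma ev_generic_eq_zero (F : B →ₚₗ[A] C) {d : ℕ} (hF : PolLaw.IsHomog F d) (b' : κ → B)
    (ℓ' : MvPolynomial κ A →ₗ[A] A)
    (hℓ : ∀ μ : κ →₀ ℕ, (μ.sum fun _ n => n) = d → ∀ a, ℓ' (monomial μ a) = 0) :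
    ev ℓ' (F.toFun' (MvPolynomial κ A) (∑ l, (X l : MvPolynomial κ A) ⊗ₜ[A] b' l)) = 0 := by
  set g : MvPolynomial κ A ⊗[A] B := ∑ l, (X l : MvPolynomial κ A) ⊗ₜ[A] b' l with hg
  set w := F.toFun' (MvPolynomial κ A) g with hw
  have h0 : (scalK (A := A) (κ := κ)).toLinearMap.rTensor B g =
      (Polynomial.X : Polynomial (MvPolynomial κ A)) • incP.toLinearMap.rTensor B g := by
    rw [hg, map_sum, map_sum, Finset.smul_sum]
    refine Finset.sum_congr rfl fun l _ => ?_
    rw [LinearMap.rTensor_tmul, LinearMap.rTensor_tmul, TensorProduct.smul_tmul', smul_eq_mul,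
      AlgHom.toLinearMap_apply, AlgHom.toLinearMap_apply, incP_apply]
    congr 1
    unfold scalK
    rw [aeval_X]
  have h1 : (scalK (A := A) (κ := κ)).toLinearMap.rTensor C w =
      (Polynomial.X ^ d : Polynomial (MvPolynomial κ A)) • incP.toLinearMap.rTensor C w := by
    rw [hw, PolynomialLaw.isCompat_apply', h0, hF, PolynomialLaw.isCompat_apply']
  have h2 := kap_smul_inc (A := A) (κ := κ) (C := C) d w
  rw [← h1] at h2
  have h3 : ev ℓ' w = ev ((ℓ' ∘ₗ kap d) ∘ₗ (scalK (A := A) (κ := κ)).toLinearMap) w := by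
    conv_lhs => rw [← h2]
    rw [ev_rTensor_lin, ev_rTensor_lin]
  have h4 : (ℓ' ∘ₗ kap d) ∘ₗ (scalK (A := A) (κ := κ)).toLinearMap = 0 := by
    apply MvPolynomial.linearMap_ext
    intro μ
    ext
    simp only [LinearMap.coe_comp, Function.comp_apply, AlgHom.toLinearMap_apply,
      LinearMap.zero_comp, LinearMap.zero_apply]
    rw [scalK_monomial, kap_apply, Polynomial.coeff_C_mul_X_pow]
    split_ifs with h
    · exact hℓ μ h.symm 1
    · exact map_zero _
  rw [h3, h4]
  simp [ev]

end homog

end Groth.Agent.H9.TSG
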