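import Mathlib
import Groth.Prelude.Def_PolLaw
import Groth.Prelude.Def_SymTen
import Groth.Agent.Lib.Helper9.Misc.PLR4
import Groth.Agent.Lib.Helper9.Misc.TSF2
import Groth.Agent.Lib.Helper9.Misc.TSF4
import Groth.Agent.Lib.Helper9.Misc.TSG1
import Groth.Agent.Lib.Helper9.Misc.TSG4

/-! Helper9: flat case: a functional killing the tensor power law value kills every homogeneous law value -/

set_option linter.style.haveILetI false
set_option linter.unusedSectionVars false

namespace Groth.Agent.H9.TSG
open scoped TensorProduct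
open Groth.Agent.H9.PLR Groth.Agent.H9.PLZ Groth.Agent.H9.TSF
open PiTensorProduct

universe u
variable {A : Type u} [CommRing A] {B : Type u} [CommRing B] [Algebra A B]
variable {C : Type u} [CommRing C] [Algebra A C]

/-- multilinear expansion of a pure tensor of combinations of the standard basis -/
lemma tprod_expand (k d : ℕ) (t : Fin d → Fin k → A) :
    tprod A (fun i : Fin d => ∑ l, t i l • (Finsupp.single l (1 : A) : Fin k →₀ A)) =
      ∑ c : Fin d → Fin k, (∏ i, t i (c i)) • stdB A k d c := by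
  classical
  rw [MultilinearMap.map_sum]
  refine Finset.sum_congr rfl fun c _ => ?_
  rw [stdB_apply, ← MultilinearMap.map_smul_univ]

lemma prod_X_eq_monomial {k d : ℕ} (c : Fin d → Fin k) :
    ∏ i, (MvPolynomial.X (c i) : MvPolynomial (Fin k) A) = MvPolynomial.monomial (nu c) 1 := by
  rw [nu, MvPolynomial.monomial_sum_one]
  rfl

/-- the key vanishing statement for flat `B` -/
theorem key_flat [Module.Flat A B] (d : ℕ) (F : B →ₚₗ[A] C) (hF : PolLaw.IsHomog F d)
    (S : Type u) [CommSemiring S] [Algebra A S] (x : S ⊗[A] B) (ℓ : S →ₗ[A] A)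
    (h : ev ℓ ((Tlaw A B d).toFun' S x) = 0) : ev ℓ (F.toFun' S x) = 0 := by
  classical
  obtain ⟨n, s, b, rfl⟩ := exists_fin_rep S x
  rw [Tlaw_sum, map_sum] at h
  simp only [ev_tmul] at h
  -- the free module and the tensor `z`
  let e : Fin n → (Fin n →₀ A) := fun j => Finsupp.single j 1
  let u₀ : (Fin n →₀ A) →ₗ[A] B := Finsupp.linearCombination A b
  have hu₀ : ∀ j, u₀ (e j) = b j := fun j => by simp [u₀, e]
  let z : ⨂[A] _ : Fin d, (Fin n →₀ A) :=
    ∑ c : Fin d → Fin n, ℓ (∏ i, s (c i)) • tprod A (fun i => e (c i))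
  have hz : PiTensorProduct.map (R := A) (fun _ : Fin d => u₀) z = 0 := by
    simp only [z, map_sum, map_smul, PiTensorProduct.map_tprod, hu₀]
    exact h
  obtain ⟨k, a, u₁, hau, haz⟩ := exists_factorization_tensor d u₀ z hz
  let M : Fin k → Fin n → A := fun l j => a (e j) l
  have hae : ∀ j, a (e j) = ∑ l, M l j • (Finsupp.single l (1 : A) : Fin k →₀ A) := by
    intro j
    conv_lhs => rw [← Finsupp.univ_sum_single (a (e j))]
    refine Finset.sum_congr rfl fun l _ => ?_
    rw [Finsupp.smul_single, smul_eq_mul, mul_one]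
  -- the coefficients vanish
  have hcoef : ∀ c' : Fin d → Fin k,
      ∑ c : Fin d → Fin n, ℓ (∏ i, s (c i)) * ∏ i, M (c' i) (c i) = 0 := by
    intro c'
    have h1 : PiTensorProduct.map (R := A) (fun _ : Fin d => a) z =
        ∑ c'' : Fin d → Fin k,
          (∑ c : Fin d → Fin n, ℓ (∏ i, s (c i)) * ∏ i, M (c'' i) (c i)) • stdB A k d c'' := by
      simp only [z, map_sum, map_smul, PiTensorProduct.map_tprod, hae]
      simp only [tprod_expand, Finset.smul_sum, smul_smul]
      rw [Finset.sum_comm]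
      refine Finset.sum_congr rfl fun c'' _ => ?_
      rw [Finset.sum_smul]
    rw [h1] at haz
    have h2 := congrArg (fun w => (stdB A k d).repr w c') haz
    simp only [Module.Basis.repr_sum_self, map_zero, Finsupp.coe_zero, Pi.zero_apply] at h2
    exact h2
  -- the new coefficients
  let s' : Fin k → S := fun l => ∑ j, M l j • s j
  have hs' : ∀ c' : Fin d → Fin k, ℓ (∏ i, s' (c' i)) = 0 := by
    intro c'
    have h1 : ∏ i, s' (c' i) = ∑ c : Fin d → Fin n, (∏ i, M (c' i) (c i)) • ∏ i, s (c i) := by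
      simp only [s']
      rw [Finset.prod_univ_sum]
      simp only [Fintype.piFinset_univ]
      refine Finset.sum_congr rfl fun c _ => ?_
      rw [Finset.prod_smul]
    rw [h1, map_sum]
    simp only [map_smul, smul_eq_mul]
    rw [← hcoef c']
    refine Finset.sum_congr rfl fun c _ => ?_
    rw [mul_comm]
  let b' : Fin k → B := fun l => u₁ (Finsupp.single l 1)
  have hb : ∀ j, b j = ∑ l, M l j • b' l := by
    intro j
    rw [← hu₀ j, ← hau, LinearMap.comp_apply, hae j, map_sum]
    simp only [map_smul, b']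
  have hx : ∑ j, s j ⊗ₜ[A] b j = ∑ l, s' l ⊗ₜ[A] b' l := by
    simp only [hb, TensorProduct.tmul_sum, s', TensorProduct.sum_tmul]
    rw [Finset.sum_comm]
    refine Finset.sum_congr rfl fun l _ => ?_
    refine Finset.sum_congr rfl fun j _ => ?_
    rw [TensorProduct.tmul_smul, TensorProduct.smul_tmul']
  let α : MvPolynomial (Fin k) A →ₐ[A] S := MvPolynomial.aeval s'
  have hx' : ∑ j, s j ⊗ₜ[A] b j = α.toLinearMap.rTensor B
      (∑ l, (MvPolynomial.X l : MvPolynomial (Fin k) A) ⊗ₜ[A] b' l) := by
    rw [hx, map_sum]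
    refine Finset.sum_congr rfl fun l _ => ?_
    rw [LinearMap.rTensor_tmul, AlgHom.toLinearMap_apply]
    simp only [α, MvPolynomial.aeval_X]
  rw [hx', ← PolynomialLaw.isCompat_apply', ev_rTensor]
  apply ev_generic_eq_zero F hF b'
  intro μ hμ r
  obtain ⟨c', -, hc'⟩ := nu_surj μ hμ
  have h1 : (MvPolynomial.monomial μ r : MvPolynomial (Fin k) A) =
      r • ∏ i, (MvPolynomial.X (c' i) : MvPolynomial (Fin k) A) := by
    rw [prod_X_eq_monomial, hc', MvPolynomial.smul_monomial, smul_eq_mul, mul_one]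
  rw [h1, map_smul, LinearMap.comp_apply, AlgHom.toLinearMap_apply, map_prod]
  simp only [α, MvPolynomial.aeval_X]
  rw [hs' c', smul_zero]

end Groth.Agent.H9.TSG
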