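import Mathlib
import Groth.Prelude.Def_PolLaw
import Groth.Agent.Lib.Helper9.Misc.PLZ6

/-! Helper9: linear factorisation of laws from a total functional graph of coefficients -/

set_option linter.style.haveILetI false
set_option linter.unusedSectionVars false

namespace Groth.Agent.H9.TSG
open scoped TensorProduct
open Groth.Agent.H9.PLR Groth.Agent.H9.PLZ

universe u
variable {A : Type u} [CommRing A] {B : Type u} [CommRing B] [Algebra A B]
variable {C₁ : Type u} [CommRing C₁] [Algebra A C₁] {C₂ : Type u} [CommRing C₂] [Algebra A C₂]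

section ev
variable {C : Type u} [CommRing C] [Algebra A C] {S : Type u} [CommSemiring S] [Algebra A S]

lemma ev_add' (ℓ ℓ' : S →ₗ[A] A) (z : S ⊗[A] C) : ev (ℓ + ℓ') z = ev ℓ z + ev ℓ' z := by
  induction z using TensorProduct.induction_on with
  | zero => simp
  | tmul s c => simp [add_smul]
  | add x y hx hy => simp only [map_add, hx, hy]; abel

lemma ev_smul' (a : A) (ℓ : S →ₗ[A] A) (z : S ⊗[A] C) : ev (a • ℓ) z = a • ev ℓ z := by
  induction z using TensorProduct.induction_on with
  | zero => simp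
  | tmul s c => simp [mul_smul]
  | add x y hx hy => simp only [map_add, hx, hy, smul_add]

lemma ev_zero' (z : S ⊗[A] C) : ev (0 : S →ₗ[A] A) z = 0 := by
  induction z using TensorProduct.induction_on with
  | zero => simp
  | tmul s c => simp
  | add x y hx hy => simp only [map_add, hx, hy, add_zero]

end ev

section graph
variable (G₁ : B →ₚₗ[A] C₁) (G₂ : B →ₚₗ[A] C₂)

/-- combining two test points into one over the product algebra -/
lemma ev_prod_combine {C : Type u} [CommRing C] [Algebra A C] (G : B →ₚₗ[A] C)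
    {S S' : Type u} [CommSemiring S] [Algebra A S] [CommSemiring S'] [Algebra A S']
    (x : S ⊗[A] B) (x' : S' ⊗[A] B) (ℓ : S →ₗ[A] A) (ℓ' : S' →ₗ[A] A) :
    ev (ℓ ∘ₗ LinearMap.fst A S S' + ℓ' ∘ₗ LinearMap.snd A S S')
      (G.toFun' (S × S') ((LinearMap.inl A S S').rTensor B x + (LinearMap.inr A S S').rTensor B x')) =
    ev ℓ (G.toFun' S x) + ev ℓ' (G.toFun' S' x') := by
  set x'' := (LinearMap.inl A S S').rTensor B x + (LinearMap.inr A S S').rTensor B x' with hx''
  have h1 : (AlgHom.fst A S S').toLinearMap.rTensor B x'' = x := by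
    have e : (AlgHom.fst A S S').toLinearMap = LinearMap.fst A S S' := rfl
    rw [e, hx'', map_add, ← LinearMap.rTensor_comp_apply, ← LinearMap.rTensor_comp_apply,
      LinearMap.fst_comp_inl, LinearMap.fst_comp_inr, LinearMap.rTensor_id, LinearMap.rTensor_zero]
    simp
  have h2 : (AlgHom.snd A S S').toLinearMap.rTensor B x'' = x' := by
    have e : (AlgHom.snd A S S').toLinearMap = LinearMap.snd A S S' := rfl
    rw [e, hx'', map_add, ← LinearMap.rTensor_comp_apply, ← LinearMap.rTensor_comp_apply,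
      LinearMap.snd_comp_inl, LinearMap.snd_comp_inr, LinearMap.rTensor_id, LinearMap.rTensor_zero]
    simp
  rw [ev_add']
  have e1 : ℓ ∘ₗ LinearMap.fst A S S' = ℓ ∘ₗ (AlgHom.fst A S S').toLinearMap := rfl
  have e2 : ℓ' ∘ₗ LinearMap.snd A S S' = ℓ' ∘ₗ (AlgHom.snd A S S').toLinearMap := rfl
  rw [e1, e2, ← ev_rTensor, ← ev_rTensor, PolynomialLaw.isCompat_apply',
    PolynomialLaw.isCompat_apply', h1, h2]

/-- the graph relation between the coefficients of two laws -/
def graphSub : Submodule A (C₁ × C₂) where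
  carrier := {p | ∃ (S : Type u) (_ : CommSemiring S) (_ : Algebra A S) (x : S ⊗[A] B)
    (ℓ : S →ₗ[A] A), p = (ev ℓ (G₁.toFun' S x), ev ℓ (G₂.toFun' S x))}
  add_mem' := by
    rintro _ _ ⟨S, _, _, x, ℓ, rfl⟩ ⟨S', _, _, x', ℓ', rfl⟩
    refine ⟨S × S', inferInstance, inferInstance,
      (LinearMap.inl A S S').rTensor B x + (LinearMap.inr A S S').rTensor B x',
      ℓ ∘ₗ LinearMap.fst A S S' + ℓ' ∘ₗ LinearMap.snd A S S', ?_⟩
    rw [ev_prod_combine, ev_prod_combine]
    rfl
  zero_mem' := ⟨A, inferInstance, inferInstance, 0, 0, by rw [ev_zero', ev_zero']; rfl⟩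
  smul_mem' := by
    rintro a _ ⟨S, _, _, x, ℓ, rfl⟩
    exact ⟨S, inferInstance, inferInstance, x, a • ℓ, by rw [ev_smul', ev_smul']; rfl⟩

lemma mem_graphSub (S : Type u) [CommSemiring S] [Algebra A S] (x : S ⊗[A] B) (ℓ : S →ₗ[A] A) :
    (ev ℓ (G₁.toFun' S x), ev ℓ (G₂.toFun' S x)) ∈ graphSub G₁ G₂ :=
  ⟨S, inferInstance, inferInstance, x, ℓ, rfl⟩

end graph

section lin
variable {T C' : Type u} [AddCommGroup T] [Module A T] [AddCommGroup C'] [Module A C']
variable (Γ : Submodule A (T × C')) (htot : ∀ y, ∃ c, (y, c) ∈ Γ)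
  (hfun : ∀ c, ((0 : T), c) ∈ Γ → c = 0)

include hfun in
lemma graph_unique {y : T} {c c' : C'} (h : (y, c) ∈ Γ) (h' : (y, c') ∈ Γ) : c = c' := by
  have := Γ.sub_mem h h'
  rw [Prod.mk_sub_mk, sub_self] at this
  exact sub_eq_zero.mp (hfun _ this)

/-- the linear map with a given total functional graph -/
noncomputable def linOfGraph : T →ₗ[A] C' where
  toFun y := Classical.choose (htot y)
  map_add' y y' := by
    have h1 := Classical.choose_spec (htot y)
    have h2 := Classical.choose_spec (htot y')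
    have h3 := Classical.choose_spec (htot (y + y'))
    exact graph_unique Γ hfun h3 (Γ.add_mem h1 h2)
  map_smul' a y := by
    have h1 := Classical.choose_spec (htot y)
    have h3 := Classical.choose_spec (htot (a • y))
    exact graph_unique Γ hfun h3 (Γ.smul_mem a h1)

lemma linOfGraph_eq {y : T} {c : C'} (h : (y, c) ∈ Γ) : linOfGraph Γ htot hfun y = c :=
  graph_unique Γ hfun (Classical.choose_spec (htot y)) h

end lin

/-- functionals separate the points of `P ⊗ C` for a polynomial algebra `P` -/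
lemma ev_separates {C : Type u} [CommRing C] [Algebra A C] (σ : Type u)
    (w w' : MvPolynomial σ A ⊗[A] C)
    (h : ∀ ℓ : MvPolynomial σ A →ₗ[A] A, ev ℓ w = ev ℓ w') : w = w' := by
  classical
  let ℬ := MvPolynomial.basisMonomials σ A
  apply (TensorProduct.equivFinsuppOfBasisLeft (N := C) ℬ).injective
  ext m
  rw [TensorProduct.equivFinsuppOfBasisLeft_apply, TensorProduct.equivFinsuppOfBasisLeft_apply]
  exact h (ℬ.coord m)

/-- a total functional coefficient graph gives a linear factorisation of laws -/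
theorem exists_lin_of_graph (G₁ : B →ₚₗ[A] C₁) (G₂ : B →ₚₗ[A] C₂)
    (htot : ∀ y, ∃ c, (y, c) ∈ graphSub G₁ G₂)
    (hfun : ∀ c, ((0 : C₁), c) ∈ graphSub G₁ G₂ → c = 0) :
    ∃ f : C₁ →ₗ[A] C₂, ∀ (S : Type u) [CommSemiring S] [Algebra A S] (x : S ⊗[A] B),
      f.lTensor S (G₁.toFun' S x) = G₂.toFun' S x := by
  let f := linOfGraph _ htot hfun
  have key : ∀ (S : Type u) [CommSemiring S] [Algebra A S] (x : S ⊗[A] B) (ℓ : S →ₗ[A] A),
      f (ev ℓ (G₁.toFun' S x)) = ev ℓ (G₂.toFun' S x) :=
    fun S _ _ x ℓ => linOfGraph_eq _ htot hfun (mem_graphSub G₁ G₂ S x ℓ)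
  have hpoly : ∀ (σ : Type u) (p : MvPolynomial σ A ⊗[A] B),
      f.lTensor _ (G₁.toFun' _ p) = G₂.toFun' _ p := by
    intro σ p
    apply ev_separates
    intro ℓ
    rw [ev_lTensor, key]
  refine ⟨f, fun S _ _ x => ?_⟩
  have hx := liftS_spec (A := A) (M := B) S x
  rw [← hx, ← PolynomialLaw.isCompat_apply', ← PolynomialLaw.isCompat_apply', ← hpoly,
    ← LinearMap.comp_apply, ← LinearMap.comp_apply, LinearMap.lTensor_comp_rTensor,
    LinearMap.rTensor_comp_lTensor]

end Groth.Agent.H9.TSG
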