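import Mathlib
import Groth.Prelude.Def_PolLaw
import Groth.Prelude.Def_SymTen
import Groth.Agent.Lib.Helper9.Misc.TSF6
import Groth.Agent.Lib.Helper9.Misc.TSG3
import Groth.Agent.Lib.Helper9.Misc.TSG5
import Groth.Agent.Lib.Helper9.Misc.TSG6

/-! Helper9: S13873: TS^d(B) is the degree-d divided power algebra for flat B or invertible d! -/

set_option linter.style.haveILetI false
set_option linter.unusedSectionVars false

namespace Groth.Agent.H9.TSG
open scoped TensorProduct
open Groth.Agent.H9.PLR Groth.Agent.H9.PLZ Groth.Agent.H9.TSF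
open PiTensorProduct

universe u
variable {A : Type u} [CommRing A] {B : Type u} [CommRing B] [Algebra A B]
variable {C : Type u} [CommRing C] [Algebra A C]

/-- in the flat case every symmetric tensor is a coefficient of the universal law at a generic point -/
lemma flat_cover [Module.Flat A B] (d : ℕ) (y : SymTen.TS A B d) :
    ∃ (k : ℕ) (b' : Fin k → B) (ℓ : MvPolynomial (Fin k) A →ₗ[A] A),
      y = ev ℓ ((tau A B d).law.toFun' (MvPolynomial (Fin k) A)
        (∑ l, (MvPolynomial.X l : MvPolynomial (Fin k) A) ⊗ₜ[A] b' l)) := by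
  classical
  obtain ⟨k, u, z, hz, hzy⟩ := exists_sym_rep d y.1 y.2
  let b' : Fin k → B := fun l => u (Finsupp.single l 1)
  let ℓ : MvPolynomial (Fin k) A →ₗ[A] A :=
    (MvPolynomial.basisMonomials (Fin k) A).constr A
      (fun ν => if h : ∃ c : Fin d → Fin k, nu c = ν then
        (stdB A k d).repr z (Classical.choose h) else 0)
  have hsym : ∀ (c : Fin d → Fin k) (σ : Equiv.Perm (Fin d)),
      (stdB A k d).repr z (c ∘ σ) = (stdB A k d).repr z c := by
    intro c σ
    rw [← repr_reindex, hz]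
  have hsrt : ∀ c : Fin d → Fin k, (stdB A k d).repr z (srt c) = (stdB A k d).repr z c :=
    fun c => hsym c _
  have hℓ : ∀ c : Fin d → Fin k,
      ℓ (∏ i, (MvPolynomial.X (c i) : MvPolynomial (Fin k) A)) = (stdB A k d).repr z c := by
    intro c
    have h1 : ∏ i, (MvPolynomial.X (c i) : MvPolynomial (Fin k) A) =
        MvPolynomial.basisMonomials (Fin k) A (nu c) := by
      rw [prod_X_eq_monomial, MvPolynomial.coe_basisMonomials]
    rw [h1, Module.Basis.constr_basis]
    have hex : ∃ c' : Fin d → Fin k, nu c' = nu c := ⟨c, rfl⟩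
    rw [dif_pos hex]
    have h2 : nu (Classical.choose hex) = nu c := Classical.choose_spec hex
    have h3 : srt (Classical.choose hex) = srt c := (mu_eq_iff _ _).mp h2
    rw [← hsrt, h3, hsrt]
  refine ⟨k, b', ℓ, ?_⟩
  apply Subtype.ext
  change y.1 = (SymTen.TS A B d).val.toLinearMap _
  rw [← ev_lTensor, tau_spec, Tlaw_sum, map_sum]
  simp only [ev_tmul, hℓ]
  rw [← hzy]
  conv_lhs => rw [← (stdB A k d).sum_repr z]
  rw [map_sum]
  refine Finset.sum_congr rfl fun c _ => ?_
  rw [map_smul, stdB_apply, PiTensorProduct.map_tprod]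

/-- the universal law is spanned by its coefficients in the flat case -/
lemma coeffSpan_tau_of_flat [Module.Flat A B] (d : ℕ) : coeffSpan (tau A B d).law = ⊤ := by
  rw [eq_top_iff]
  intro y _
  obtain ⟨k, b', ℓ, hy⟩ := flat_cover d y
  rw [hy]
  exact ev_mem _ _ _ _

/-- existence of the linear factorisation in the flat case -/
lemma exists_lin_of_flat [Module.Flat A B] (d : ℕ) (F : PolLaw.MulLaw A B C d) :
    ∃ f : SymTen.TS A B d →ₗ[A] C, ∀ (S : Type u) [CommSemiring S] [Algebra A S] (x : S ⊗[A] B),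
        f.lTensor S ((tau A B d).law.toFun' S x) = F.law.toFun' S x := by
  apply exists_lin_of_graph
  · intro y
    obtain ⟨k, b', ℓ, hy⟩ := flat_cover d y
    refine ⟨ev ℓ (F.law.toFun' _ (∑ l, (MvPolynomial.X l : MvPolynomial (Fin k) A) ⊗ₜ[A] b' l)), ?_⟩
    rw [hy]
    exact mem_graphSub _ _ _ _ _
  · rintro c ⟨S, _, _, x, ℓ, h⟩
    rw [Prod.mk.injEq] at h
    obtain ⟨h0, rfl⟩ := h
    apply key_flat d F.law F.homog S x ℓ
    rw [← tau_spec, ev_lTensor, ← h0, map_zero]

/-- S13873: `TS^d(B)` with the law `x ↦ x ⊗ ⋯ ⊗ x` is the divided power algebra of degree `d`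
when `B` is flat or `d!` is invertible -/
theorem S13873_main (d : ℕ) (h : Module.Flat A B ∨ IsUnit ((d.factorial : ℕ) : A)) :
    ∃ τ : PolLaw.MulLaw A B (SymTen.TS A B d) d,
      (∀ (S : Type u) [CommSemiring S] [Algebra A S] (n : ℕ) (s : Fin n → S) (b : Fin n → B),
        (SymTen.TS A B d).val.toLinearMap.lTensor S (τ.law.toFun' S (∑ j, s j ⊗ₜ[A] b j)) =
          ∑ c : Fin d → Fin n, (∏ i, s (c i)) ⊗ₜ[A] PiTensorProduct.tprod A (fun i => b (c i))) ∧
      PolLaw.IsGammaD τ := by
  refine ⟨tau A B d, fun S _ _ n s b => tau_sum A B d S n s b, ?_⟩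
  rcases h with h | h
  · exact isGammaD_of_span _ (coeffSpan_tau_of_flat d) (fun C' _ _ F => exists_lin_of_flat d F)
  · obtain ⟨u, hu⟩ := isUnit_iff_exists_inv.mp h
    exact isGammaD_of_span _ (coeffSpan_tau_of_factorial d u hu)
      (fun C' _ _ F => exists_lin_of_factorial d u hu F)

end Groth.Agent.H9.TSG
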