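import Mathlib
import Groth.Prelude.Def_PolLaw
import Groth.Prelude.Def_SymTen
import Groth.Agent.Lib.Helper9.Misc.TSG7

/-! Helper9: symmetric tensors of a flat algebra as combinations of pure tensors from a spanning set -/

set_option linter.style.haveILetI false
set_option linter.unusedSectionVars false

namespace Groth.Agent.H9.TSU
open scoped TensorProduct
open Groth.Agent.H9.PLR Groth.Agent.H9.PLZ Groth.Agent.H9.TSF Groth.Agent.H9.TSG
open PiTensorProduct

universe u
variable {A : Type u} [CommRing A] {B : Type u} [CommRing B] [Algebra A B]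

/-- a finite family in the span of `𝒢` is a matrix combination of a finite family from `𝒢` -/
lemma exists_common_family (𝒢 : Set B) (h𝒢 : Submodule.span A 𝒢 = ⊤) {k : ℕ} (b' : Fin k → B) :
    ∃ (r : ℕ) (g : Fin r → B) (κ : Fin k → Fin r → A), (∀ m, g m ∈ 𝒢) ∧
      ∀ l, b' l = ∑ m, κ l m • g m := by
  classical
  have h1 : ∀ l, ∃ f : 𝒢 →₀ A, Finsupp.linearCombination A (Subtype.val : 𝒢 → B) f = b' l := by
    intro l
    have : b' l ∈ Submodule.span A (Set.range (Subtype.val : 𝒢 → B)) := by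
      rw [Subtype.range_coe, h𝒢]; trivial
    exact (Finsupp.mem_span_range_iff_exists_finsupp.1 this)
  choose f hf using h1
  let s : Finset 𝒢 := Finset.univ.biUnion (fun l => (f l).support)
  let e := s.equivFin
  refine ⟨s.card, fun m => ((e.symm m : s) : 𝒢).1, fun l m => f l ((e.symm m : s) : 𝒢),
    fun m => ((e.symm m : s) : 𝒢).2, fun l => ?_⟩
  rw [← hf l, Finsupp.linearCombination_apply, Finsupp.sum]
  have hsub : (f l).support ⊆ s := Finset.subset_biUnion_of_mem (fun l => (f l).support)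
    (Finset.mem_univ l)
  rw [Finset.sum_subset hsub (fun x _ hx => by
    rw [Finsupp.notMem_support_iff.1 hx, zero_smul])]
  rw [← Finset.sum_coe_sort s (fun x => f l x • (x : B))]
  exact (Equiv.sum_comp e.symm (fun x : s => f l (x : 𝒢) • ((x : 𝒢) : B))).symm

/-- in the flat case every symmetric tensor is a coefficient of the universal law at a generic
combination of elements of a given spanning set -/
lemma flat_cover_span [Module.Flat A B] (d : ℕ) (𝒢 : Set B) (h𝒢 : Submodule.span A 𝒢 = ⊤)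
    (y : SymTen.TS A B d) :
    ∃ (r : ℕ) (g : Fin r → B) (ℓ : MvPolynomial (Fin r) A →ₗ[A] A), (∀ m, g m ∈ 𝒢) ∧
      y = ev ℓ ((tau A B d).law.toFun' (MvPolynomial (Fin r) A)
        (∑ m, (MvPolynomial.X m : MvPolynomial (Fin r) A) ⊗ₜ[A] g m)) := by
  classical
  obtain ⟨k, b', ℓ₀, hy⟩ := flat_cover d y
  obtain ⟨r, g, κ, hg, hb'⟩ := exists_common_family 𝒢 h𝒢 b'
  let ψ : MvPolynomial (Fin r) A →ₐ[A] MvPolynomial (Fin k) A :=
    MvPolynomial.aeval (fun m => ∑ l, κ l m • (MvPolynomial.X l : MvPolynomial (Fin k) A))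
  refine ⟨r, g, ℓ₀ ∘ₗ ψ.toLinearMap, hg, ?_⟩
  have h1 : ψ.toLinearMap.rTensor B
      (∑ m, (MvPolynomial.X m : MvPolynomial (Fin r) A) ⊗ₜ[A] g m) =
      ∑ l, (MvPolynomial.X l : MvPolynomial (Fin k) A) ⊗ₜ[A] b' l := by
    rw [map_sum]
    simp only [LinearMap.rTensor_tmul, AlgHom.toLinearMap_apply, ψ, MvPolynomial.aeval_X]
    simp only [TensorProduct.sum_tmul, hb', TensorProduct.tmul_sum, TensorProduct.smul_tmul]
    rw [Finset.sum_comm]
  rw [hy, ← h1, ← PolynomialLaw.isCompat_apply', ev_rTensor]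

/-- in the flat case every symmetric tensor is a combination, with coefficients depending only on
the type, of pure tensors with entries in a given spanning set -/
theorem exists_rep_span [Module.Flat A B] (d : ℕ) (𝒢 : Set B) (h𝒢 : Submodule.span A 𝒢 = ⊤)
    (y : ⨂[A] _ : Fin d, B) (hy : y ∈ SymTen.TS A B d) :
    ∃ (r : ℕ) (g : Fin r → B) (a : (Fin r →₀ ℕ) → A), (∀ m, g m ∈ 𝒢) ∧
      y = ∑ c : Fin d → Fin r, a (nu c) • tprod A (fun i => g (c i)) := by
  obtain ⟨r, g, ℓ, hg, hy'⟩ := flat_cover_span d 𝒢 h𝒢 ⟨y, hy⟩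
  refine ⟨r, g, fun ν => ℓ (MvPolynomial.monomial ν 1), hg, ?_⟩
  have h1 := congrArg (SymTen.TS A B d).val.toLinearMap hy'
  rw [← ev_lTensor, tau_sum, map_sum] at h1
  simp only [ev_tmul, prod_X_eq_monomial] at h1
  exact h1

end Groth.Agent.H9.TSU
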