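import Mathlib
import Groth.Prelude.Def_PolLaw
import Groth.Prelude.Def_SymTen
import Groth.Agent.Lib.Helper9.Misc.TSE2
import Groth.Agent.Lib.Helper9.Misc.TSU1

/-! Helper9: S14673: symmetric tensors of a flat algebra are generated by elementary symmetric tensors -/

set_option linter.style.haveILetI false
set_option linter.unusedSectionVars false

namespace Groth.Agent.H9.TSE
open scoped TensorProduct
open Groth.Agent.H9.TSG Groth.Agent.H9.PLZ Groth.Agent.H9.PLR Groth.Agent.H9.TSU
open PiTensorProduct

universe u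
variable {R : Type u} [CommRing R] {A : Type u} [CommRing A] [Algebra R A] {n : ℕ}

section extract
variable {r : ℕ} (ν : Fin r →₀ ℕ)

/-- the functional "coefficient of `ε^n X^ν`" -/
noncomputable def ellF (n : ℕ) : Polynomial (MvPolynomial (Fin r) R) →ₗ[R] R :=
  (MvPolynomial.lcoeff R ν) ∘ₗ ((Polynomial.lcoeff (MvPolynomial (Fin r) R) n).restrictScalars R)

theorem ellF_apply (n : ℕ) (q : Polynomial (MvPolynomial (Fin r) R)) :
    ellF (R := R) ν n q = MvPolynomial.coeff ν (q.coeff n) := rfl

variable {T : Type u} [CommRing T] [Algebra R T]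

/-- the inclusion of constants, tensored -/
noncomputable def iotaT (R : Type u) [CommRing R] (r : ℕ) (T : Type u) [CommRing T] [Algebra R T] :
    (MvPolynomial (Fin r) R) ⊗[R] T →ₐ[R] (Polynomial (MvPolynomial (Fin r) R)) ⊗[R] T :=
  Algebra.TensorProduct.map (Polynomial.CAlgHom (R := R) (A := MvPolynomial (Fin r) R))
    (AlgHom.id R T)

theorem ev_ellF_pow_mul (j : ℕ) (y : (MvPolynomial (Fin r) R) ⊗[R] T) :
    ev (ellF (R := R) ν n) ((algebraMap (Polynomial (MvPolynomial (Fin r) R)) _ Polynomial.X) ^ j *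
      iotaT R r T y) = if j = n then ev (MvPolynomial.lcoeff R ν) y else 0 := by
  induction y using TensorProduct.induction_on with
  | zero => simp
  | tmul p t =>
    have h1 : (algebraMap (Polynomial (MvPolynomial (Fin r) R))
        ((Polynomial (MvPolynomial (Fin r) R)) ⊗[R] T) Polynomial.X) ^ j * iotaT R r T (p ⊗ₜ[R] t) =
        (Polynomial.X ^ j * Polynomial.C p) ⊗ₜ[R] t := by
      rw [← map_pow, Algebra.TensorProduct.algebraMap_apply, Algebra.algebraMap_self,
        RingHom.id_apply]
      show (Polynomial.X ^ j) ⊗ₜ[R] (1 : T) * (Polynomial.C p ⊗ₜ[R] t) = _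
      rw [Algebra.TensorProduct.tmul_mul_tmul, one_mul]
    rw [h1, ev_tmul, ev_tmul, ellF_apply, Polynomial.coeff_X_pow_mul', Polynomial.coeff_C]
    by_cases hj : j = n
    · subst hj
      simp
    · rw [if_neg hj]
      by_cases hle : j ≤ n
      · have : n - j ≠ 0 := by omega
        simp [hle, this]
      · simp [hle]
  | add x y hx hy =>
    rw [map_add, mul_add, map_add, hx, hy, map_add]
    split_ifs <;> simp

theorem ev_ellF_pow_succ_mul (ρ : (Polynomial (MvPolynomial (Fin r) R)) ⊗[R] T) :
    ev (ellF (R := R) ν n)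
      ((algebraMap (Polynomial (MvPolynomial (Fin r) R)) _ Polynomial.X) ^ (n + 1) * ρ) = 0 := by
  induction ρ using TensorProduct.induction_on with
  | zero => simp
  | tmul q t =>
    rw [← map_pow, Algebra.TensorProduct.algebraMap_apply, Algebra.algebraMap_self,
      RingHom.id_apply, Algebra.TensorProduct.tmul_mul_tmul, one_mul, ev_tmul, ellF_apply,
      Polynomial.coeff_X_pow_mul']
    simp
  | add x y hx hy => rw [mul_add, map_add, hx, hy, add_zero]

end extract

/-- the generalized orbit sums lie in the algebra generated by elementary symmetric tensors -/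
theorem orbit_mem_Esub {r : ℕ} (g : Fin r → A) (ν : Fin r →₀ ℕ) :
    ∑ c ∈ Finset.univ.filter (fun c : Fin n → Fin r => nu c = ν), tprod R (fun i => g (c i)) ∈
      Esub R A n := by
  classical
  -- step X2
  have hX2 : ev (MvPolynomial.lcoeff R ν) ((Tlaw R A n).toFun' (MvPolynomial (Fin r) R)
      (∑ l, (MvPolynomial.X l : MvPolynomial (Fin r) R) ⊗ₜ[R] g l)) =
      ∑ c ∈ Finset.univ.filter (fun c : Fin n → Fin r => nu c = ν), tprod R (fun i => g (c i)) := by
    rw [Tlaw_sum, map_sum]
    simp only [ev_tmul, prod_X_eq_monomial, MvPolynomial.lcoeff_apply,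
      MvPolynomial.coeff_monomial]
    rw [Finset.sum_filter]
    refine Finset.sum_congr rfl fun c _ => ?_
    split_ifs <;> simp
  rw [← hX2]
  -- step X1
  have hX1 : ev (ellF (R := R) ν n)
      ((Tlaw R A n).toFun' (Polynomial (MvPolynomial (Fin r) R))
        (1 + algebraMap (Polynomial (MvPolynomial (Fin r) R))
          ((Polynomial (MvPolynomial (Fin r) R)) ⊗[R] A) Polynomial.X *
          iotaT R r A (∑ l, (MvPolynomial.X l : MvPolynomial (Fin r) R) ⊗ₜ[R] g l))) =
      ev (MvPolynomial.lcoeff R ν) ((Tlaw R A n).toFun' (MvPolynomial (Fin r) R)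
        (∑ l, (MvPolynomial.X l : MvPolynomial (Fin r) R) ⊗ₜ[R] g l)) := by
    rw [Tlaw_apply, Tlaw_apply]
    simp only [map_add, map_one, map_mul, AlgHom.commutes]
    have hcomm : ∀ i : Fin n,
        Algebra.TensorProduct.map (AlgHom.id (Polynomial (MvPolynomial (Fin r) R))
          (Polynomial (MvPolynomial (Fin r) R))) (inj R A n i)
          (iotaT R r A (∑ l, (MvPolynomial.X l : MvPolynomial (Fin r) R) ⊗ₜ[R] g l)) =
        iotaT R r _ (Algebra.TensorProduct.map (AlgHom.id (MvPolynomial (Fin r) R)
          (MvPolynomial (Fin r) R)) (inj R A n i)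
          (∑ l, (MvPolynomial.X l : MvPolynomial (Fin r) R) ⊗ₜ[R] g l)) := by
      intro i
      exact (map_map_comm R (Polynomial.CAlgHom (R := R) (A := MvPolynomial (Fin r) R))
        (inj R A n i) _).symm
    simp only [hcomm]
    rw [Finset.prod_one_add, map_sum]
    have hterm : ∀ I : Finset (Fin n),
        ev (ellF (R := R) ν n) (∏ i ∈ I, (algebraMap (Polynomial (MvPolynomial (Fin r) R))
          ((Polynomial (MvPolynomial (Fin r) R)) ⊗[R] (⨂[R] _ : Fin n, A)) Polynomial.X *
          iotaT R r _ (Algebra.TensorProduct.map (AlgHom.id (MvPolynomial (Fin r) R)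
            (MvPolynomial (Fin r) R)) (inj R A n i)
            (∑ l, (MvPolynomial.X l : MvPolynomial (Fin r) R) ⊗ₜ[R] g l)))) =
        if I.card = n then ev (MvPolynomial.lcoeff R ν)
          (∏ i ∈ I, Algebra.TensorProduct.map (AlgHom.id (MvPolynomial (Fin r) R)
            (MvPolynomial (Fin r) R)) (inj R A n i)
            (∑ l, (MvPolynomial.X l : MvPolynomial (Fin r) R) ⊗ₜ[R] g l)) else 0 := by
      intro I
      rw [Finset.prod_mul_distrib, Finset.prod_const, ← map_prod, ev_ellF_pow_mul]
    simp only [hterm]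
    rw [Finset.sum_eq_single Finset.univ]
    · rw [if_pos (by rw [Finset.card_univ, Fintype.card_fin])]
    · intro I _ hI
      rw [if_neg]
      intro hcard
      exact hI (Finset.eq_univ_of_card I (by rw [hcard, Fintype.card_fin]))
    · intro h
      exact absurd (Finset.mem_powerset.2 (Finset.subset_univ _)) h
  rw [← hX1]
  -- step X3
  obtain ⟨M, ⟨M₀, hM₀⟩, ρ, hMρ⟩ := Tlaw_one_add_mem (n := n)
    (Polynomial (MvPolynomial (Fin r) R)) (Polynomial.X : Polynomial (MvPolynomial (Fin r) R))
    (iotaT R r A (∑ l, (MvPolynomial.X l : MvPolynomial (Fin r) R) ⊗ₜ[R] g l))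
  rw [hMρ, map_add, ev_ellF_pow_succ_mul, add_zero, ← hM₀]
  have hmap : ∀ z : (Polynomial (MvPolynomial (Fin r) R)) ⊗[R] (Esub R A n),
      (Algebra.TensorProduct.map (AlgHom.id (Polynomial (MvPolynomial (Fin r) R))
        (Polynomial (MvPolynomial (Fin r) R))) (Esub R A n).val) z =
        (Esub R A n).val.toLinearMap.lTensor (Polynomial (MvPolynomial (Fin r) R)) z := by
    intro z
    induction z using TensorProduct.induction_on with
    | zero => simp
    | tmul s t => rfl
    | add x y hx hy => simp only [map_add, hx, hy]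
  show ev (ellF (R := R) ν n) ((Algebra.TensorProduct.map
    (AlgHom.id (Polynomial (MvPolynomial (Fin r) R)) (Polynomial (MvPolynomial (Fin r) R)))
    (Esub R A n).val) M₀) ∈ _
  rw [hmap, ev_lTensor]
  exact Subtype.property _

theorem S14673_main (R : Type u) [CommRing R] (A : Type u) [CommRing A] [Algebra R A]
    [Module.Flat R A] (n : ℕ) :
    SymTen.TS R A n = Algebra.adjoin R {t : ⨂[R] _ : Fin n, A | ∃ (a : A) (j : ℕ),
      t = ∑ I ∈ (Finset.univ : Finset (Fin n)).powersetCard j,
        PiTensorProduct.tprod R (fun i : Fin n => if i ∈ I then a else (1 : A))} := by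
  classical
  apply le_antisymm
  · intro y hy
    obtain ⟨r, g, a, -, hrep⟩ := exists_rep_span n (Set.univ : Set A) (by simp) y hy
    rw [hrep, ← Finset.sum_fiberwise_of_maps_to (t := Finset.univ.image nu) (g := nu)
      (fun c _ => Finset.mem_image_of_mem _ (Finset.mem_univ c))]
    refine Subalgebra.sum_mem _ fun ν _ => ?_
    have h2 : ∀ c ∈ Finset.univ.filter (fun c : Fin n → Fin r => nu c = ν),
        a (nu c) • tprod R (fun i => g (c i)) = a ν • tprod R (fun i => g (c i)) := by
      intro c hc
      rw [(Finset.mem_filter.1 hc).2]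
    rw [Finset.sum_congr rfl h2, ← Finset.smul_sum]
    exact Subalgebra.smul_mem _ (orbit_mem_Esub g ν) _
  · exact Esub_le_TS

end Groth.Agent.H9.TSE
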