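import Mathlib
import Groth.Agent.Lib.Helper9.Misc.TSF3
import Groth.Agent.Lib.Helper9.Misc.TSF4

/-! Helper9: symmetric tensors of a flat module are flat (S14671) -/

set_option linter.style.haveILetI false
set_option linter.unusedSectionVars false

namespace Groth.Agent.H9.TSF
open PiTensorProduct
open scoped TensorProduct

universe u
variable {R : Type u} [CommRing R]

/-- finite families of tensors come from a common finite free module -/
lemma exists_rep_fam (n : ℕ) {N : Type u} [AddCommGroup N] [Module R N] :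
    ∀ (l : ℕ) (y : Fin l → ⨂[R] _ : Fin n, N),
    ∃ (F : Type u) (_ : AddCommGroup F) (_ : Module R F) (_ : Module.Finite R F)
      (_ : Module.Free R F) (u : F →ₗ[R] N) (z : Fin l → ⨂[R] _ : Fin n, F),
      ∀ i, PiTensorProduct.map (R := R) (fun _ : Fin n => u) (z i) = y i := by
  intro l
  induction l with
  | zero =>
    intro y
    exact ⟨R, inferInstance, inferInstance, inferInstance, inferInstance, 0, Fin.elim0,
      fun i => i.elim0⟩
  | succ l ih =>
    intro y
    obtain ⟨F₁, _, _, _, _, u₁, z₁, h₁⟩ := ih (Fin.tail y)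
    obtain ⟨F₂, _, _, _, _, u₂, z₂, h₂⟩ := exists_rep n (y 0)
    refine ⟨F₁ × F₂, inferInstance, inferInstance, inferInstance, inferInstance,
      u₁.coprod u₂,
      Fin.cons (PiTensorProduct.map (R := R) (fun _ : Fin n => LinearMap.inr R F₁ F₂) z₂)
        (fun i => PiTensorProduct.map (R := R) (fun _ : Fin n => LinearMap.inl R F₁ F₂) (z₁ i)), ?_⟩
    intro i
    refine Fin.cases ?_ (fun j => ?_) i
    · rw [Fin.cons_zero, ← map_comp_apply', LinearMap.coprod_inr, h₂]
    · rw [Fin.cons_succ, ← map_comp_apply', LinearMap.coprod_inl, h₁]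
      rfl

/-- S14671: symmetric tensors of a flat module are flat -/
theorem symSub_flat (M : Type u) [AddCommGroup M] [Module R M] [Module.Flat R M] (n : ℕ) :
    Module.Flat R (symSub R n M) := by
  classical
  apply Module.Flat.of_forall_exists_factorization
  intro l f x hx
  -- the family of symmetric tensors
  let xi : Fin l → ⨂[R] _ : Fin n, M := fun i => (x (Finsupp.single i 1)).1
  have hxi : ∀ i σ, reindex R (fun _ : Fin n => M) σ (xi i) = xi i :=
    fun i => (mem_symSub R n _).mp (x (Finsupp.single i 1)).2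
  have hsum : ∑ i, f i • xi i = 0 := by
    have h1 : x f = ∑ i, f i • x (Finsupp.single i 1) := by
      conv_lhs => rw [← Finsupp.univ_sum_single f]
      rw [map_sum]
      refine Finset.sum_congr rfl fun i _ => ?_
      rw [← map_smul, Finsupp.smul_single, smul_eq_mul, mul_one]
    have h2 := congrArg Subtype.val hx
    rw [h1] at h2
    simpa [xi] using h2
  obtain ⟨F₀, _, _, _, _, u₀, z₀, h₀⟩ := exists_rep_fam n l xi
  let Z : Finset (⨂[R] _ : Fin n, F₀) :=
    insert (∑ i, f i • z₀ i)
      ((Finset.univ : Finset (Fin l × Equiv.Perm (Fin n))).image fun p =>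
        reindex R (fun _ : Fin n => F₀) p.2 (z₀ p.1) - z₀ p.1)
  have hZ : ∀ z ∈ Z, PiTensorProduct.map (R := R) (fun _ : Fin n => u₀) z = 0 := by
    intro z hz
    rcases Finset.mem_insert.mp hz with rfl | hz
    · rw [map_sum]
      simp only [map_smul, h₀]
      exact hsum
    · obtain ⟨p, -, rfl⟩ := Finset.mem_image.mp hz
      rw [map_sub, map_reindex', h₀, hxi, sub_self]
  obtain ⟨k, a, u₁, h1, h2⟩ := exists_factorization_tensor_finset n u₀ Z hZ
  let zi : Fin l → ⨂[R] _ : Fin n, (Fin k →₀ R) :=
    fun i => PiTensorProduct.map (R := R) (fun _ : Fin n => a) (z₀ i)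
  have hzi_sym : ∀ i, zi i ∈ symSub R n (Fin k →₀ R) := by
    intro i
    rw [mem_symSub]
    intro σ
    have := h2 _ (Finset.mem_insert_of_mem
      (Finset.mem_image.mpr ⟨(i, σ), Finset.mem_univ _, rfl⟩))
    rw [map_sub, map_reindex', sub_eq_zero] at this
    exact this
  have hzi_sum : ∑ i, f i • zi i = 0 := by
    have := h2 _ (Finset.mem_insert_self _ _)
    rw [map_sum] at this
    simpa [zi] using this
  have hzi_map : ∀ i, PiTensorProduct.map (R := R) (fun _ : Fin n => u₁) (zi i) = xi i := by
    intro i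
    rw [← map_comp_apply', h1, h₀]
  -- the finite projective module of symmetric tensors of `R^k`
  let x' : (Fin l →₀ R) →ₗ[R] symSub R n (Fin k →₀ R) :=
    Finsupp.linearCombination R (fun i => (⟨zi i, hzi_sym i⟩ : symSub R n (Fin k →₀ R)))
  have hx' : x' f = 0 := by
    apply Subtype.ext
    rw [Finsupp.linearCombination_apply, Finsupp.sum_fintype _ _ (by simp)]
    simp only [Submodule.coe_sum, Submodule.coe_smul, Submodule.coe_zero]
    exact hzi_sum
  letI : AddCommGroup (⨂[R] _ : Fin n, (Fin k →₀ R)) :=
    @PiTensorProduct.instAddCommGroup (Fin n) R _ (fun _ => Fin k →₀ R) (fun _ => inferInstance) _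
  haveI : Module.Flat R (symSub R n (Fin k →₀ R)) := Module.Flat.of_projective
  obtain ⟨k', a', y', hy', ha'⟩ := Module.Flat.exists_factorization_of_apply_eq_zero_of_free
    (M := symSub R n (Fin k →₀ R)) (f := f) (x := x') hx'
  let TSu : symSub R n (Fin k →₀ R) →ₗ[R] symSub R n M :=
    ((PiTensorProduct.map (R := R) (fun _ : Fin n => u₁)) ∘ₗ
      (symSub R n (Fin k →₀ R)).subtype).codRestrict _ (by
        intro z
        rw [mem_symSub]
        intro σ
        show reindex R (fun _ : Fin n => M) σ
          (PiTensorProduct.map (R := R) (fun _ : Fin n => u₁) z.1) = _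
        rw [← map_reindex', (mem_symSub R n _).mp z.2 σ]
        rfl)
  refine ⟨k', a', TSu ∘ₗ y', ?_, ha'⟩
  rw [LinearMap.comp_assoc, ← hy']
  apply Finsupp.lhom_ext'
  intro i
  ext
  simp only [LinearMap.coe_comp, Function.comp_apply, Finsupp.lsingle_apply, x',
    Finsupp.linearCombination_single, one_smul]
  exact (hzi_map i).symm

end Groth.Agent.H9.TSF
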