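import Mathlib
import Groth.Prelude.Def_PolLaw
import Groth.Prelude.Def_SymTen
import Groth.Agent.Lib.Helper9.Misc.TSF5
import Groth.Agent.Lib.Helper9.Misc.TSG7

/-! Helper9: uniqueness of the divided power algebra; flatness of Gamma^d for flat B (S13729) -/

set_option linter.style.haveILetI false
set_option linter.unusedSectionVars false

namespace Groth.Agent.H9.TSG
open scoped TensorProduct
open Groth.Agent.H9.PLR Groth.Agent.H9.PLZ Groth.Agent.H9.TSF

universe u
variable {A : Type u} [CommRing A] {B : Type u} [CommRing B] [Algebra A B]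
variable {C : Type u} [CommRing C] [Algebra A C] {T : Type u} [CommRing T] [Algebra A T]

lemma postcomp_apply {C' : Type u} [CommRing C'] [Algebra A C'] (f : C →ₗ[A] C') (F : B →ₚₗ[A] C)
    (S : Type u) [CommSemiring S] [Algebra A S] (x : S ⊗[A] B) :
    (PolLaw.postcomp f F).toFun' S x = f.lTensor S (F.toFun' S x) := rfl

/-- two universal multiplicative laws of the same degree have isomorphic targets -/
theorem algEquiv_of_isGammaD {d : ℕ} (γ : PolLaw.MulLaw A B C d) (hγ : PolLaw.IsGammaD γ)
    (τ : PolLaw.MulLaw A B T d) (hτ : PolLaw.IsGammaD τ) :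
    ∃ e : C ≃ₐ[A] T, PolLaw.postcomp e.toAlgHom.toLinearMap γ.law = τ.law := by
  obtain ⟨f, hf, -⟩ := hγ T τ
  obtain ⟨g, hg, -⟩ := hτ C γ
  obtain ⟨i, -, hi⟩ := hγ C γ
  obtain ⟨j, -, hj⟩ := hτ T τ
  have h1 : g.comp f = AlgHom.id A C := by
    refine (hi _ ?_).trans (hi _ ?_).symm
    · ext S _ _ x
      rw [postcomp_apply, AlgHom.comp_toLinearMap, LinearMap.lTensor_comp, LinearMap.comp_apply,
        ← postcomp_apply, hf, ← postcomp_apply, hg]
    · ext S _ _ x
      rw [postcomp_apply]
      simp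
  have h2 : f.comp g = AlgHom.id A T := by
    refine (hj _ ?_).trans (hj _ ?_).symm
    · ext S _ _ x
      rw [postcomp_apply, AlgHom.comp_toLinearMap, LinearMap.lTensor_comp, LinearMap.comp_apply,
        ← postcomp_apply, hg, ← postcomp_apply, hf]
    · ext S _ _ x
      rw [postcomp_apply]
      simp
  exact ⟨AlgEquiv.ofAlgHom f g h2 h1, hf⟩

/-- S13729: the divided power algebra of a flat algebra is flat -/
theorem S13729_main {d : ℕ} (γ : PolLaw.MulLaw A B C d) (hγ : PolLaw.IsGammaD γ) [Module.Flat A B] :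
    Module.Flat A C := by
  obtain ⟨τ, -, hτ⟩ := S13873_main (A := A) (B := B) d (Or.inl inferInstance)
  obtain ⟨e, -⟩ := algEquiv_of_isGammaD γ hγ τ hτ
  have h1 : Module.Flat A (symSub A d B) := symSub_flat B d
  have h2 : (SymTen.TS A B d).toSubmodule = symSub A d B := by
    ext x
    rw [mem_symSub]
    rfl
  have h3 : Module.Flat A (SymTen.TS A B d) :=
    Module.Flat.of_linearEquiv (LinearEquiv.ofEq _ _ h2)
  exact Module.Flat.of_linearEquiv e.toLinearEquiv

end Groth.Agent.H9.TSG
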