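import Mathlib
import Groth.Prelude.Def_PolLaw
import Groth.Prelude.Def_SymTen
import Groth.Agent.Lib.Helper9.Misc.SPC1
import Groth.Agent.Lib.Helper9.Misc.TSU1

/-! Helper9: integrality of the tensor power over the symmetric tensors; orbit sums in the image of φ -/

set_option linter.style.haveILetI false
set_option linter.unusedSectionVars false

namespace Groth.Agent.H9.TSU
open scoped TensorProduct
open Groth.Agent.H9.PLR Groth.Agent.H9.PLZ Groth.Agent.H9.TSF Groth.Agent.H9.TSG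
open Groth.Agent.H9.SPC
open PiTensorProduct

universe u
variable {A : Type u} [CommRing A] {B : Type u} [CommRing B] [Algebra A B] {d : ℕ}

open Polynomial in
theorem charP_coeff_mem_TS (c : ⨂[A] _ : Fin d, B) (n : ℕ) :
    (charP c).coeff n ∈ SymTen.TS A B d := by
  apply mem_TS_of_perm
  intro τ
  have := congrArg (fun p => p.coeff n) (charP_map τ c)
  simpa [coeff_map] using this

open Polynomial in
theorem isIntegralElem_val (c : ⨂[A] _ : Fin d, B) :
    (SymTen.TS A B d).val.toRingHom.IsIntegralElem c := by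
  have h : charP c ∈ Polynomial.lifts (SymTen.TS A B d).val.toRingHom := by
    rw [lifts_iff_coeff_lifts]
    intro n
    exact ⟨⟨_, charP_coeff_mem_TS c n⟩, rfl⟩
  rcases subsingleton_or_nontrivial (⨂[A] _ : Fin d, B) with hs | hn
  · exact ⟨1, monic_one, Subsingleton.elim _ _⟩
  obtain ⟨q, hq, -, hqm⟩ := lifts_and_degree_eq_and_monic h (charP_monic c)
  refine ⟨q, hqm, ?_⟩
  rw [← Polynomial.eval_map, hq]
  exact charP_eval c

/-- lying over for `TS ⊆ T` -/
theorem exists_prime_over_TS (q : Ideal (SymTen.TS A B d)) [q.IsPrime] :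
    ∃ Q : Ideal (⨂[A] _ : Fin d, B), Q.IsPrime ∧ ∀ y : SymTen.TS A B d,
      (y : ⨂[A] _ : Fin d, B) ∈ Q ↔ y ∈ q := by
  letI : Algebra (SymTen.TS A B d) (⨂[A] _ : Fin d, B) := (SymTen.TS A B d).val.toRingHom.toAlgebra
  haveI : Algebra.IsIntegral (SymTen.TS A B d) (⨂[A] _ : Fin d, B) :=
    ⟨fun c => isIntegralElem_val c⟩
  have hker : (⊥ : Ideal (⨂[A] _ : Fin d, B)).comap
      (algebraMap (SymTen.TS A B d) (⨂[A] _ : Fin d, B)) ≤ q := by
    intro x hx
    rw [Ideal.mem_comap, Ideal.mem_bot] at hx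
    have : x = 0 := Subtype.ext hx
    rw [this]
    exact q.zero_mem
  obtain ⟨Q, -, hQ, hQc⟩ := Ideal.exists_ideal_over_prime_of_isIntegral q ⊥ hker
  refine ⟨Q, hQ, fun x => ?_⟩
  rw [← hQc]
  rfl

variable {C : Type u} [CommRing C] [Algebra A C]

/-- the generalized orbit sums lie in the image of `φ` -/
theorem orbit_mem_range (γ : PolLaw.MulLaw A B C d) (φ : C →ₐ[A] SymTen.TS A B d)
    (hφ : ∀ (S : Type u) [CommSemiring S] [Algebra A S] (n : ℕ) (s : Fin n → S) (b : Fin n → B),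
      ((SymTen.TS A B d).val.comp φ).toLinearMap.lTensor S (γ.law.toFun' S (∑ j, s j ⊗ₜ[A] b j)) =
        ∑ c : Fin d → Fin n, (∏ i, s (c i)) ⊗ₜ[A] PiTensorProduct.tprod A (fun i => b (c i)))
    {r : ℕ} (g : Fin r → B) (ν : Fin r →₀ ℕ) :
    ∃ c : C, ((φ c : SymTen.TS A B d) : ⨂[A] _ : Fin d, B) =
      ∑ c' ∈ Finset.univ.filter (fun c' : Fin d → Fin r => nu c' = ν),
        tprod A (fun i => g (c' i)) := by
  classical
  refine ⟨ev (MvPolynomial.lcoeff A ν) (γ.law.toFun' (MvPolynomial (Fin r) A)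
    (∑ m, (MvPolynomial.X m : MvPolynomial (Fin r) A) ⊗ₜ[A] g m)), ?_⟩
  have h1 := ev_lTensor ((SymTen.TS A B d).val.comp φ).toLinearMap (MvPolynomial.lcoeff A ν)
    (γ.law.toFun' (MvPolynomial (Fin r) A)
      (∑ m, (MvPolynomial.X m : MvPolynomial (Fin r) A) ⊗ₜ[A] g m))
  rw [hφ, map_sum] at h1
  simp only [ev_tmul, prod_X_eq_monomial, MvPolynomial.lcoeff_apply,
    MvPolynomial.coeff_monomial] at h1
  rw [Finset.sum_filter]
  rw [show ((φ _ : SymTen.TS A B d) : ⨂[A] _ : Fin d, B) =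
    ((SymTen.TS A B d).val.comp φ).toLinearMap _ from rfl, ← h1]
  refine Finset.sum_congr rfl fun c _ => ?_
  split_ifs <;> simp

end Groth.Agent.H9.TSU
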