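import Mathlib
import Groth.Prelude.Def_PolLaw
import Groth.Prelude.Def_SymTen
import Groth.Agent.Lib.Helper9.Misc.TSG1
import Groth.Agent.Lib.Helper9.Misc.TSU3

/-! Helper9: change of base ring for tensor powers; Noether finiteness of symmetric tensors of polynomial rings -/

set_option linter.style.haveILetI false
set_option linter.unusedSectionVars false

namespace Groth.Agent.H9.TSH
open scoped TensorProduct
open Groth.Agent.H9.TSG Groth.Agent.H9.PLR Groth.Agent.H9.TSU Groth.Agent.H9.SPC
open PiTensorProduct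

universe u v

section theta
variable (A₀ : Type v) [CommRing A₀] (A : Type u) [CommRing A] [Algebra A₀ A]
variable {P₀ : Type v} [CommRing P₀] [Algebra A₀ P₀] {P : Type u} [CommRing P] [Algebra A P]
  [Algebra A₀ P] [IsScalarTower A₀ A P] (d : ℕ)

/-- change of base ring for tensor powers along a semilinear algebra map -/
noncomputable def theta (ι : P₀ →ₐ[A₀] P) :
    (⨂[A₀] _ : Fin d, P₀) →ₐ[A₀] (⨂[A] _ : Fin d, P) :=
  PiTensorProduct.liftAlgHom
    (((PiTensorProduct.tprod A (s := fun _ : Fin d => P)).restrictScalars A₀).compLinearMap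
      (fun _ => ι.toLinearMap))
    (by
      show PiTensorProduct.tprod A (fun i => ι ((1 : Fin d → P₀) i)) = 1
      simp only [Pi.one_apply, map_one]
      exact PiTensorProduct.one_def.symm)
    (by
      intro x y
      show PiTensorProduct.tprod A (fun i => ι ((x * y) i)) =
        PiTensorProduct.tprod A (fun i => ι (x i)) * PiTensorProduct.tprod A (fun i => ι (y i))
      rw [PiTensorProduct.tprod_mul_tprod]
      congr 1
      funext i
      simp)

@[simp] theorem theta_tprod (ι : P₀ →ₐ[A₀] P) (p : Fin d → P₀) :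
    theta A₀ A d ι (tprod A₀ p) = tprod A (fun i => ι (p i)) := by
  simp [theta]

theorem theta_reindex (ι : P₀ →ₐ[A₀] P) (σ : Equiv.Perm (Fin d)) (t : ⨂[A₀] _ : Fin d, P₀) :
    PiTensorProduct.reindex A (fun _ : Fin d => P) σ (theta A₀ A d ι t) =
      theta A₀ A d ι (PiTensorProduct.reindex A₀ (fun _ : Fin d => P₀) σ t) := by
  induction t using PiTensorProduct.induction_on with
  | smul_tprod r f =>
    have h1 : theta A₀ A d ι (r • tprod A₀ f) = (algebraMap A₀ A r) • tprod A (fun i => ι (f i)) := by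
      rw [map_smul, theta_tprod, algebraMap_smul]
    have h2 : PiTensorProduct.reindex A₀ (fun _ : Fin d => P₀) σ (r • tprod A₀ f) =
        r • tprod A₀ (fun i => f (σ.symm i)) := by
      rw [LinearEquiv.map_smul, PiTensorProduct.reindex_tprod]
    rw [h1, h2, LinearEquiv.map_smul, PiTensorProduct.reindex_tprod, map_smul, theta_tprod,
      algebraMap_smul]
  | add x y hx hy => simp only [map_add, hx, hy]

theorem theta_mem_TS (ι : P₀ →ₐ[A₀] P) {t : ⨂[A₀] _ : Fin d, P₀} (ht : t ∈ SymTen.TS A₀ P₀ d) :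
    theta A₀ A d ι t ∈ SymTen.TS A P d := by
  intro σ
  rw [theta_reindex, ht σ]

end theta

section fg
variable (A₀ : Type v) [CommRing A₀] (k d : ℕ)

/-- the tensor power of a polynomial ring is of finite type -/
theorem tpow_mvPoly_fg :
    (⊤ : Subalgebra A₀ (⨂[A₀] _ : Fin d, MvPolynomial (Fin k) A₀)).FG := by
  classical
  let s : Finset (⨂[A₀] _ : Fin d, MvPolynomial (Fin k) A₀) :=
    Finset.univ.image (fun ij : Fin d × Fin k =>
      inj A₀ (MvPolynomial (Fin k) A₀) d ij.1 (MvPolynomial.X ij.2))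
  refine ⟨s, ?_⟩
  rw [eq_top_iff]
  set W := Algebra.adjoin A₀ (s : Set (⨂[A₀] _ : Fin d, MvPolynomial (Fin k) A₀)) with hW
  have hinj : ∀ (i : Fin d) (p : MvPolynomial (Fin k) A₀),
      inj A₀ (MvPolynomial (Fin k) A₀) d i p ∈ W := by
    intro i p
    have h1 : p ∈ Algebra.adjoin A₀ (Set.range (MvPolynomial.X : Fin k → MvPolynomial (Fin k) A₀)) := by
      rw [MvPolynomial.adjoin_range_X]; trivial
    have h2 : (Algebra.adjoin A₀ (Set.range
        (MvPolynomial.X : Fin k → MvPolynomial (Fin k) A₀))).map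
        (inj A₀ (MvPolynomial (Fin k) A₀) d i) ≤ W := by
      rw [AlgHom.map_adjoin]
      apply Algebra.adjoin_mono
      rintro _ ⟨_, ⟨j, rfl⟩, rfl⟩
      simp only [s, Finset.coe_image, Finset.coe_univ, Set.image_univ, Set.mem_range]
      exact ⟨(i, j), rfl⟩
    exact h2 ⟨p, h1, rfl⟩
  intro t _
  induction t using PiTensorProduct.induction_on with
  | smul_tprod r f =>
    rw [← prod_inj]
    exact Subalgebra.smul_mem _ (Subalgebra.prod_mem _ fun i _ => hinj i (f i)) _
  | add x y hx hy => exact Subalgebra.add_mem _ (hx trivial) (hy trivial)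

/-- Noether: symmetric tensors of a polynomial ring over a noetherian ring are of finite type -/
theorem TS_mvPoly_fg_noeth [IsNoetherianRing A₀] :
    (⊤ : Subalgebra A₀ (SymTen.TS A₀ (MvPolynomial (Fin k) A₀) d)).FG := by
  have hAC := tpow_mvPoly_fg A₀ k d
  haveI : Algebra.FiniteType A₀ (⨂[A₀] _ : Fin d, MvPolynomial (Fin k) A₀) := ⟨hAC⟩
  haveI : Algebra.FiniteType (SymTen.TS A₀ (MvPolynomial (Fin k) A₀) d)
      (⨂[A₀] _ : Fin d, MvPolynomial (Fin k) A₀) :=
    Algebra.FiniteType.of_restrictScalars_finiteType A₀ _ _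
  haveI : Algebra.IsIntegral (SymTen.TS A₀ (MvPolynomial (Fin k) A₀) d)
      (⨂[A₀] _ : Fin d, MvPolynomial (Fin k) A₀) := ⟨fun c => isIntegralElem_val c⟩
  haveI : Module.Finite (SymTen.TS A₀ (MvPolynomial (Fin k) A₀) d)
      (⨂[A₀] _ : Fin d, MvPolynomial (Fin k) A₀) := Algebra.IsIntegral.finite
  exact fg_of_fg_of_fg A₀ (SymTen.TS A₀ (MvPolynomial (Fin k) A₀) d)
    (⨂[A₀] _ : Fin d, MvPolynomial (Fin k) A₀) hAC Module.Finite.fg_top Subtype.val_injective

end fg

end Groth.Agent.H9.TSH
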