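import Mathlib
import Groth.Prelude.Def_PolLaw
import Groth.Prelude.Def_SymTen
import Groth.Agent.Lib.Helper9.Misc.TSG1

/-! Helper9: products of algebra maps as multiplicative laws; the norm law on the tensor power -/

set_option linter.style.haveILetI false
set_option linter.unusedSectionVars false

namespace Groth.Agent.H9.TSN
open scoped TensorProduct
open Groth.Agent.H9.PLR Groth.Agent.H9.PLZ Groth.Agent.H9.TSG

universe u
variable {A : Type u} [CommRing A]
variable {Q Q' Q'' : Type u} [CommRing Q] [Algebra A Q] [CommRing Q'] [Algebra A Q']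
  [CommRing Q''] [Algebra A Q'']

section prodLaw
variable {K : Type} [Fintype K] (g : K → (Q →ₐ[A] Q'))

/-- the product of a finite family of algebra maps, as a multiplicative law -/
noncomputable def prodLaw : Q →ₚₗ[A] Q' where
  toFun' S _ _ := fun x => ∏ k : K, Algebra.TensorProduct.map (AlgHom.id S S) (g k) x
  isCompat' {S} _ _ {S'} _ _ φ := by
    funext x
    simp only [Function.comp_apply]
    rw [rTensor_eq_map, map_prod]
    refine Finset.prod_congr rfl fun j _ => ?_
    rw [rTensor_eq_map, map_map_comm]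

lemma prodLaw_apply (S : Type u) [CommSemiring S] [Algebra A S] (x : S ⊗[A] Q) :
    (prodLaw g).toFun' S x = ∏ k : K, Algebra.TensorProduct.map (AlgHom.id S S) (g k) x := rfl

lemma prodLaw_isMult : PolLaw.IsMult (prodLaw g) := by
  intro S _ _
  constructor
  · rw [prodLaw_apply]
    simp
  · intro x y
    rw [prodLaw_apply, prodLaw_apply, prodLaw_apply, ← Finset.prod_mul_distrib]
    simp only [map_mul]

lemma prodLaw_isHomog : PolLaw.IsHomog (prodLaw g) (Fintype.card K) := by
  intro S _ _ s x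
  rw [prodLaw_apply, prodLaw_apply]
  simp only [map_smul]
  rw [← Finset.smul_prod, Finset.card_univ]

lemma map_id_comp {S : Type u} [CommSemiring S] [Algebra A S] (h : Q' →ₐ[A] Q'') (f : Q →ₐ[A] Q')
    (x : S ⊗[A] Q) :
    Algebra.TensorProduct.map (AlgHom.id S S) (h.comp f) x =
      Algebra.TensorProduct.map (AlgHom.id S S) h (Algebra.TensorProduct.map (AlgHom.id S S) f x) := by
  induction x using TensorProduct.induction_on with
  | zero => simp
  | tmul s q => simp
  | add x y hx hy => simp only [map_add, hx, hy]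

/-- post-composition with an algebra map -/
lemma lTensor_prodLaw (h : Q' →ₐ[A] Q'') (S : Type u) [CommSemiring S] [Algebra A S] (x : S ⊗[A] Q) :
    h.toLinearMap.lTensor S ((prodLaw g).toFun' S x) = (prodLaw (fun k => h.comp (g k))).toFun' S x := by
  rw [PolLaw.lTensor_algHom_apply, prodLaw_apply, prodLaw_apply, map_prod]
  refine Finset.prod_congr rfl fun k _ => ?_
  rw [map_id_comp]

/-- pre-composition with an algebra map -/
lemma prodLaw_lTensor {Q₀ : Type u} [CommRing Q₀] [Algebra A Q₀] (h : Q₀ →ₐ[A] Q)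
    (S : Type u) [CommSemiring S] [Algebra A S] (x : S ⊗[A] Q₀) :
    (prodLaw g).toFun' S (h.toLinearMap.lTensor S x) = (prodLaw (fun k => (g k).comp h)).toFun' S x := by
  rw [PolLaw.lTensor_algHom_apply, prodLaw_apply, prodLaw_apply]
  refine Finset.prod_congr rfl fun k _ => ?_
  rw [map_id_comp]

end prodLaw

section ext
variable {M N N₀ : Type u} [AddCommGroup M] [Module A M] [AddCommGroup N] [Module A N]
  [AddCommGroup N₀] [Module A N₀]

/-- a law is determined by its values on polynomial algebras -/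
lemma law_ext_poly (H₁ H₂ : M →ₚₗ[A] N)
    (h : ∀ (σ : Type u) (p : MvPolynomial σ A ⊗[A] M),
      H₁.toFun' (MvPolynomial σ A) p = H₂.toFun' (MvPolynomial σ A) p) : H₁ = H₂ := by
  ext S _ _ x
  have hx := liftS_spec (A := A) (M := M) S x
  rw [← hx, ← PolynomialLaw.isCompat_apply', ← PolynomialLaw.isCompat_apply', h]

/-- laws agreeing after an injective linear map agree -/
lemma law_ext_inj (ι : N₀ →ₗ[A] N) (hι : Function.Injective ι) (H₁ H₂ : M →ₚₗ[A] N₀)
    (h : ∀ (σ : Type u) (p : MvPolynomial σ A ⊗[A] M),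
      ι.lTensor _ (H₁.toFun' (MvPolynomial σ A) p) = ι.lTensor _ (H₂.toFun' (MvPolynomial σ A) p)) :
    H₁ = H₂ :=
  law_ext_poly H₁ H₂ fun σ p => lTensor_inj ι hι σ (h σ p)

end ext

section Glaw
variable (A) (B : Type u) [CommRing B] [Algebra A B] (d : ℕ)

lemma perm_mul_apply (ρ σ : Equiv.Perm (Fin d)) (t : ⨂[A] _ : Fin d, B) :
    SymTen.perm A B d (ρ * σ) t = SymTen.perm A B d ρ (SymTen.perm A B d σ t) := by
  induction t using PiTensorProduct.induction_on with
  | smul_tprod r f =>
    simp only [map_smul, SymTen.perm_tprod]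
    rfl
  | add x y hx hy => simp only [map_add, hx, hy]

lemma perm_mul (ρ σ : Equiv.Perm (Fin d)) :
    SymTen.perm A B d (ρ * σ) = (SymTen.perm A B d ρ).comp (SymTen.perm A B d σ) :=
  AlgHom.ext fun t => perm_mul_apply A B d ρ σ t

/-- the norm law `z ↦ ∏_σ σ(z)` on the tensor power -/
noncomputable def Glaw : (⨂[A] _ : Fin d, B) →ₚₗ[A] (⨂[A] _ : Fin d, B) :=
  prodLaw (fun σ : Equiv.Perm (Fin d) => SymTen.perm A B d σ)

lemma Glaw_isMult : PolLaw.IsMult (Glaw A B d) := prodLaw_isMult _

lemma Glaw_isHomog : PolLaw.IsHomog (Glaw A B d) d.factorial := by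
  have := prodLaw_isHomog (fun σ : Equiv.Perm (Fin d) => SymTen.perm A B d σ)
  rwa [Fintype.card_perm, Fintype.card_fin] at this

lemma perm_lTensor_Glaw (ρ : Equiv.Perm (Fin d)) (S : Type u) [CommSemiring S] [Algebra A S]
    (z : S ⊗[A] (⨂[A] _ : Fin d, B)) :
    (SymTen.perm A B d ρ).toLinearMap.lTensor S ((Glaw A B d).toFun' S z) =
      (Glaw A B d).toFun' S z := by
  unfold Glaw
  rw [lTensor_prodLaw, prodLaw_apply, prodLaw_apply]
  simp only [← perm_mul]
  exact Fintype.prod_equiv (Equiv.mulLeft ρ) _ _ (fun σ => rfl)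

/-- coefficients of the norm law are symmetric tensors -/
lemma ev_Glaw_mem (S : Type u) [CommSemiring S] [Algebra A S]
    (z : S ⊗[A] (⨂[A] _ : Fin d, B)) (ℓ : S →ₗ[A] A) :
    ev ℓ ((Glaw A B d).toFun' S z) ∈ SymTen.TS A B d := by
  intro ρ
  rw [← SymTen.perm_apply]
  change (SymTen.perm A B d ρ).toLinearMap _ = _
  rw [← ev_lTensor, perm_lTensor_Glaw]

lemma Glaw_factor (σ : Type u) (p : MvPolynomial σ A ⊗[A] (⨂[A] _ : Fin d, B)) :
    (Glaw A B d).toFun' (MvPolynomial σ A) p ∈
      LinearMap.range ((SymTen.TS A B d).val.toLinearMap.lTensor (MvPolynomial σ A)) := by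
  apply mem_range_lTensor (MvPolynomial.basisMonomials σ A)
  intro m
  exact ⟨⟨_, ev_Glaw_mem A B d (MvPolynomial σ A) p ((MvPolynomial.basisMonomials σ A).coord m)⟩, rfl⟩

/-- the norm law with values in the symmetric tensors -/
noncomputable def Gsym : PolLaw.MulLaw A (⨂[A] _ : Fin d, B) (SymTen.TS A B d) d.factorial where
  law := coresSub (Glaw A B d) (SymTen.TS A B d) (Glaw_factor A B d)
  homog := coresSub_isHomog _ _ _ (Glaw_isHomog A B d)
  mult := coresSub_isMult _ _ _ (Glaw_isMult A B d)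

lemma Gsym_spec (S : Type u) [CommSemiring S] [Algebra A S] (z : S ⊗[A] (⨂[A] _ : Fin d, B)) :
    (SymTen.TS A B d).val.toLinearMap.lTensor S ((Gsym A B d).law.toFun' S z) =
      (Glaw A B d).toFun' S z :=
  coresSub_spec _ _ _ S z

end Glaw

end Groth.Agent.H9.TSN
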