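import Mathlib
import Groth.Prelude.Def_PolLaw
import Groth.Prelude.Def_SymTen
import Groth.Agent.Lib.Helper9.Misc.TSC1
import Groth.Agent.Lib.Helper9.Misc.TSN1

/-! Helper9: naturality of the tensor power law, the universal law and the norm law -/

set_option linter.style.haveILetI false
set_option linter.unusedSectionVars false

namespace Groth.Agent.H9.TSN
open scoped TensorProduct
open Groth.Agent.H9.PLR Groth.Agent.H9.PLZ Groth.Agent.H9.TSG Groth.Agent.H9.TSC

universe u
variable {A : Type u} [CommRing A]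
variable {B B' : Type u} [CommRing B] [Algebra A B] [CommRing B'] [Algebra A B']

section nat
variable (d : ℕ) (f : B →ₐ[A] B')

lemma Tlaw_eq_prodLaw : Tlaw A B d = prodLaw (inj A B d) := rfl

lemma tmap_comp_perm (σ : Equiv.Perm (Fin d)) :
    (SymTen.tmap A d f).comp (SymTen.perm A B d σ) =
      (SymTen.perm A B' d σ).comp (SymTen.tmap A d f) := by
  apply AlgHom.ext
  intro t
  simp only [AlgHom.comp_apply, SymTen.perm_apply, SymTen.tmap_reindex]

lemma tmap_comp_inj (j : Fin d) :
    (SymTen.tmap A d f).comp (inj A B d j) = (inj A B' d j).comp f := by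
  apply AlgHom.ext
  intro b
  simp only [AlgHom.comp_apply, inj, PiTensorProduct.singleAlgHom_apply, SymTen.tmap_tprod]
  congr 1
  funext i
  by_cases h : i = j
  · subst h; simp
  · simp [h]

/-- naturality of the tensor power law -/
lemma tmap_Tlaw (S : Type u) [CommSemiring S] [Algebra A S] (x : S ⊗[A] B) :
    (SymTen.tmap A d f).toLinearMap.lTensor S ((Tlaw A B d).toFun' S x) =
      (Tlaw A B' d).toFun' S (f.toLinearMap.lTensor S x) := by
  rw [Tlaw_eq_prodLaw, Tlaw_eq_prodLaw, lTensor_prodLaw, prodLaw_lTensor]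
  simp only [tmap_comp_inj]

/-- naturality of the norm law -/
lemma tmap_Glaw (S : Type u) [CommSemiring S] [Algebra A S] (z : S ⊗[A] (⨂[A] _ : Fin d, B)) :
    (SymTen.tmap A d f).toLinearMap.lTensor S ((Glaw A B d).toFun' S z) =
      (Glaw A B' d).toFun' S ((SymTen.tmap A d f).toLinearMap.lTensor S z) := by
  unfold Glaw
  rw [lTensor_prodLaw, prodLaw_lTensor]
  simp only [tmap_comp_perm]

lemma val_comp_TSmap :
    (SymTen.TS A B' d).val.toLinearMap ∘ₗ (SymTen.TSmap A d f).toLinearMap =
      (SymTen.tmap A d f).toLinearMap ∘ₗ (SymTen.TS A B d).val.toLinearMap := rfl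

/-- naturality of the universal law -/
lemma TSmap_tau :
    PolLaw.postcomp (SymTen.TSmap A d f).toLinearMap (tau A B d).law =
      PolLaw.precomp (tau A B' d).law f.toLinearMap := by
  apply law_ext_inj (SymTen.TS A B' d).val.toLinearMap (val_injective _)
  intro σ p
  change (SymTen.TS A B' d).val.toLinearMap.lTensor _
      ((SymTen.TSmap A d f).toLinearMap.lTensor _ ((tau A B d).law.toFun' _ p)) =
    (SymTen.TS A B' d).val.toLinearMap.lTensor _ ((tau A B' d).law.toFun' _ (f.toLinearMap.lTensor _ p))
  rw [← LinearMap.comp_apply, ← LinearMap.lTensor_comp, val_comp_TSmap, LinearMap.lTensor_comp,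
    LinearMap.comp_apply, tau_spec, tau_spec, tmap_Tlaw]

/-- naturality of the symmetric norm law -/
lemma TSmap_Gsym :
    PolLaw.postcomp (SymTen.TSmap A d f).toLinearMap (Gsym A B d).law =
      PolLaw.precomp (Gsym A B' d).law (SymTen.tmap A d f).toLinearMap := by
  apply law_ext_inj (SymTen.TS A B' d).val.toLinearMap (val_injective _)
  intro σ p
  change (SymTen.TS A B' d).val.toLinearMap.lTensor _
      ((SymTen.TSmap A d f).toLinearMap.lTensor _ ((Gsym A B d).law.toFun' _ p)) =
    (SymTen.TS A B' d).val.toLinearMap.lTensor _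
      ((Gsym A B' d).law.toFun' _ ((SymTen.tmap A d f).toLinearMap.lTensor _ p))
  rw [← LinearMap.comp_apply, ← LinearMap.lTensor_comp, val_comp_TSmap, LinearMap.lTensor_comp,
    LinearMap.comp_apply, Gsym_spec, Gsym_spec, tmap_Glaw]

end nat

end Groth.Agent.H9.TSN
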