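import Mathlib
import Groth.Prelude.Def_PolLaw
import Groth.Prelude.Def_SymTen
import Groth.Agent.Lib.Helper9.Misc.TSG7
import Groth.Agent.Lib.Helper9.Misc.TSG8
import Groth.Agent.Lib.Helper9.Misc.TSN2

/-! Helper9: the norm law T^d(P) → Gamma^d(B) through a flat presentation; its kernel -/

set_option linter.style.haveILetI false
set_option linter.unusedSectionVars false

namespace Groth.Agent.H9.TSN
open scoped TensorProduct
open Groth.Agent.H9.PLR Groth.Agent.H9.PLZ Groth.Agent.H9.TSG Groth.Agent.H9.TSC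

universe u
variable {A : Type u} [CommRing A]
variable {B : Type u} [CommRing B] [Algebra A B] {C : Type u} [CommRing C] [Algebra A C]

/-- the universal law into the symmetric tensors is universal in the flat case -/
theorem tau_isGammaD_of_flat (P : Type u) [CommRing P] [Algebra A P] [Module.Flat A P] (d : ℕ) :
    PolLaw.IsGammaD (tau A P d) :=
  isGammaD_of_span _ (coeffSpan_tau_of_flat d) (fun _ _ _ F => exists_lin_of_flat d F)

section psi
variable {d : ℕ} (γ : PolLaw.MulLaw A B C d)
variable (P : Type u) [CommRing P] [Algebra A P] [Module.Flat A P] (π : P →ₐ[A] B)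

/-- the algebra map `TS^d(P) → Γ^d(B)` induced by `π : P → B`, `P` flat -/
noncomputable def psi : SymTen.TS A P d →ₐ[A] C :=
  Classical.choose (tau_isGammaD_of_flat P d C (γ.precomp π)).exists

lemma psi_spec : PolLaw.postcomp (psi γ P π).toLinearMap (tau A P d).law = (γ.precomp π).law :=
  Classical.choose_spec (tau_isGammaD_of_flat P d C (γ.precomp π)).exists

lemma psi_apply (S : Type u) [CommSemiring S] [Algebra A S] (x : S ⊗[A] P) :
    (psi γ P π).toLinearMap.lTensor S ((tau A P d).law.toFun' S x) =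
      γ.law.toFun' S (π.toLinearMap.lTensor S x) :=
  congrArg (fun L : P →ₚₗ[A] C => L.toFun' S x) (psi_spec γ P π)

lemma psi_unique (h : SymTen.TS A P d →ₐ[A] C)
    (hh : ∀ (S : Type u) [CommSemiring S] [Algebra A S] (x : S ⊗[A] P),
      h.toLinearMap.lTensor S ((tau A P d).law.toFun' S x) =
        γ.law.toFun' S (π.toLinearMap.lTensor S x)) : h = psi γ P π := by
  apply (tau_isGammaD_of_flat P d C (γ.precomp π)).unique _ (psi_spec γ P π)
  ext S _ _ x
  exact hh S x

variable (P'' : Type u) [CommRing P''] [Algebra A P''] [Module.Flat A P''] (e : P'' →ₐ[A] P)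

lemma TSmap_tau_apply (S : Type u) [CommSemiring S] [Algebra A S] (x : S ⊗[A] P'') :
    (SymTen.TSmap A d e).toLinearMap.lTensor S ((tau A P'' d).law.toFun' S x) =
      (tau A P d).law.toFun' S (e.toLinearMap.lTensor S x) :=
  congrArg (fun L : P'' →ₚₗ[A] SymTen.TS A P d => L.toFun' S x) (TSmap_tau d e)

lemma TSmap_Gsym_apply (S : Type u) [CommSemiring S] [Algebra A S]
    (w : S ⊗[A] (⨂[A] _ : Fin d, P'')) :
    (SymTen.TSmap A d e).toLinearMap.lTensor S ((Gsym A P'' d).law.toFun' S w) =
      (Gsym A P d).law.toFun' S ((SymTen.tmap A d e).toLinearMap.lTensor S w) :=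
  congrArg (fun L : (⨂[A] _ : Fin d, P'') →ₚₗ[A] SymTen.TS A P d => L.toFun' S w) (TSmap_Gsym d e)

/-- functoriality of `psi` -/
lemma psi_comp : (psi γ P π).comp (SymTen.TSmap A d e) = psi γ P'' (π.comp e) := by
  apply psi_unique
  intro S _ _ x
  rw [AlgHom.comp_toLinearMap, LinearMap.lTensor_comp, LinearMap.comp_apply, TSmap_tau_apply,
    psi_apply, AlgHom.comp_toLinearMap, LinearMap.lTensor_comp, LinearMap.comp_apply]

/-- the norm law `T^d(P) → Γ^d(B)` -/
noncomputable def Ft : PolLaw.MulLaw A (⨂[A] _ : Fin d, P) C d.factorial :=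
  (Gsym A P d).postcomp (psi γ P π)

lemma Ft_apply (S : Type u) [CommSemiring S] [Algebra A S] (w : S ⊗[A] (⨂[A] _ : Fin d, P)) :
    (Ft γ P π).law.toFun' S w =
      (psi γ P π).toLinearMap.lTensor S ((Gsym A P d).law.toFun' S w) := rfl

/-- naturality of `Ft` -/
lemma Ft_nat (S : Type u) [CommSemiring S] [Algebra A S] (w : S ⊗[A] (⨂[A] _ : Fin d, P'')) :
    (Ft γ P'' (π.comp e)).law.toFun' S w =
      (Ft γ P π).law.toFun' S ((SymTen.tmap A d e).toLinearMap.lTensor S w) := by
  rw [Ft_apply, Ft_apply, ← psi_comp γ P π P'' e, AlgHom.comp_toLinearMap, LinearMap.lTensor_comp,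
    LinearMap.comp_apply, TSmap_Gsym_apply]

end psi

section ker
variable {d : ℕ} (γ : PolLaw.MulLaw A B C d)

/-- the canonical presentation of `B` -/
noncomputable abbrev piB : MvPolynomial B A →ₐ[A] B := MvPolynomial.aeval id

lemma piB_surjective : Function.Surjective (piB (A := A) (B := B)) :=
  fun b => ⟨MvPolynomial.X b, by simp⟩

lemma lTensor_tmap_mul {P P' : Type u} [CommRing P] [Algebra A P] [CommRing P'] [Algebra A P']
    (e : P →ₐ[A] P') (S : Type u) [CommSemiring S] [Algebra A S]
    (x y : S ⊗[A] (⨂[A] _ : Fin d, P)) :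
    (SymTen.tmap A d e).toLinearMap.lTensor S (x * y) =
      (SymTen.tmap A d e).toLinearMap.lTensor S x * (SymTen.tmap A d e).toLinearMap.lTensor S y := by
  rw [PolLaw.lTensor_algHom_apply, PolLaw.lTensor_algHom_apply, PolLaw.lTensor_algHom_apply, map_mul]

lemma lTensor_tmap_comp {P P' P'' : Type u} [CommRing P] [Algebra A P] [CommRing P'] [Algebra A P']
    [CommRing P''] [Algebra A P'']
    (e : P →ₐ[A] P') (e' : P' →ₐ[A] P'') (S : Type u) [CommSemiring S] [Algebra A S]
    (x : S ⊗[A] (⨂[A] _ : Fin d, P)) :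
    (SymTen.tmap A d e').toLinearMap.lTensor S ((SymTen.tmap A d e).toLinearMap.lTensor S x) =
      (SymTen.tmap A d (e'.comp e)).toLinearMap.lTensor S x := by
  rw [← LinearMap.comp_apply, ← LinearMap.lTensor_comp]
  congr 2
  exact LinearMap.ext fun w => (tmap_comp d e e' w).symm

lemma lTensor_tmap_id {P : Type u} [CommRing P] [Algebra A P]
    (S : Type u) [CommSemiring S] [Algebra A S] (x : S ⊗[A] (⨂[A] _ : Fin d, P)) :
    (SymTen.tmap A d (AlgHom.id A P)).toLinearMap.lTensor S x = x := by
  have : (SymTen.tmap A d (AlgHom.id A P)).toLinearMap = LinearMap.id :=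
    LinearMap.ext fun w => tmap_id d w
  rw [this, LinearMap.lTensor_id, LinearMap.id_apply]

/-- the tensors with an entry in the kernel of the presentation lie in the kernel of `Ft` -/
lemma inj_mem_ker_Ft (a : MvPolynomial B A) (ha : piB (A := A) (B := B) a = 0) (i : Fin d) :
    inj A (MvPolynomial B A) d i a ∈ PolLaw.ker (Ft γ (MvPolynomial B A) piB).law := by
  intro S _ _ x w
  let j : MvPolynomial B A →ₐ[A] MvPolynomial (Option B) A := MvPolynomial.rename some
  let e₀ : MvPolynomial (Option B) A →ₐ[A] MvPolynomial B A :=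
    MvPolynomial.aeval (fun o => Option.elim o 0 MvPolynomial.X)
  let ea : MvPolynomial (Option B) A →ₐ[A] MvPolynomial B A :=
    MvPolynomial.aeval (fun o => Option.elim o a MvPolynomial.X)
  have he₀j : e₀.comp j = AlgHom.id A _ := by
    apply MvPolynomial.algHom_ext
    intro s
    simp [e₀, j]
  have heaj : ea.comp j = AlgHom.id A _ := by
    apply MvPolynomial.algHom_ext
    intro s
    simp [ea, j]
  have hπ : (piB (A := A) (B := B)).comp e₀ = (piB (A := A) (B := B)).comp ea := by
    apply MvPolynomial.algHom_ext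
    intro o
    cases o with
    | none => simp [e₀, ea, ha]
    | some s => simp [e₀, ea]
  set X : S ⊗[A] (⨂[A] _ : Fin d, MvPolynomial (Option B) A) :=
    (SymTen.tmap A d j).toLinearMap.lTensor S x +
      (SymTen.tmap A d j).toLinearMap.lTensor S w *
        ((1 : S) ⊗ₜ[A] inj A (MvPolynomial (Option B) A) d i (MvPolynomial.X none)) with hX
  have hinj : ∀ (e : MvPolynomial (Option B) A →ₐ[A] MvPolynomial B A)
      (q : MvPolynomial (Option B) A),
      SymTen.tmap A d e (inj A (MvPolynomial (Option B) A) d i q) =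
      inj A (MvPolynomial B A) d i (e q) :=
    fun e q => congrArg (fun h : MvPolynomial (Option B) A →ₐ[A] _ => h q) (tmap_comp_inj d e i)
  have h0 : (SymTen.tmap A d e₀).toLinearMap.lTensor S X = x := by
    rw [hX, map_add, lTensor_tmap_mul, lTensor_tmap_comp, lTensor_tmap_comp, he₀j, lTensor_tmap_id,
      lTensor_tmap_id, LinearMap.lTensor_tmul, AlgHom.toLinearMap_apply, hinj]
    have : e₀ (MvPolynomial.X none) = 0 := by simp [e₀]
    rw [this, map_zero, TensorProduct.tmul_zero, mul_zero, add_zero]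
  have h1 : (SymTen.tmap A d ea).toLinearMap.lTensor S X =
      x + w * ((1 : S) ⊗ₜ[A] inj A (MvPolynomial B A) d i a) := by
    rw [hX, map_add, lTensor_tmap_mul, lTensor_tmap_comp, lTensor_tmap_comp, heaj, lTensor_tmap_id,
      lTensor_tmap_id, LinearMap.lTensor_tmul, AlgHom.toLinearMap_apply, hinj]
    have : ea (MvPolynomial.X none) = a := by simp [ea]
    rw [this]
  rw [← h1, ← Ft_nat γ (MvPolynomial B A) piB (MvPolynomial (Option B) A) ea, ← hπ,
    Ft_nat γ (MvPolynomial B A) piB (MvPolynomial (Option B) A) e₀, h0]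

end ker

end Groth.Agent.H9.TSN
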