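import Mathlib
import Groth.Prelude.Def_PolLaw
import Groth.Prelude.Def_SymTen
import Groth.Agent.Lib.Helper9.Misc.TSH1
import Groth.Agent.Lib.Helper9.Misc.TSU1
import Groth.Agent.Lib.Helper9.Misc.TSN3

/-! Helper9: TS^d of polynomial rings is finitely generated; Γ^d_A(B) finite type (S13713). -/

set_option linter.style.haveILetI false
set_option linter.unusedSectionVars false

namespace Groth.Agent.H9.TSH
open scoped TensorProduct
open Groth.Agent.H9.TSG Groth.Agent.H9.PLR Groth.Agent.H9.PLZ Groth.Agent.H9.TSU Groth.Agent.H9.SPC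
  Groth.Agent.H9.TSN
open PiTensorProduct

universe u v

theorem nu_comp_perm {d r : ℕ} (c : Fin d → Fin r) (σ : Equiv.Perm (Fin d)) :
    nu (c ∘ σ) = nu c := by
  unfold nu
  exact Equiv.sum_comp σ (fun i => Finsupp.single (c i) 1)

/-- generalized orbit sums are symmetric -/
theorem orbit_mem_TS {A : Type u} [CommRing A] {P : Type u} [CommRing P] [Algebra A P] (d : ℕ)
    {r : ℕ} (g : Fin r → P) (ν : Fin r →₀ ℕ) :
    ∑ c ∈ Finset.univ.filter (fun c : Fin d → Fin r => nu c = ν), tprod A (fun i => g (c i)) ∈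
      SymTen.TS A P d := by
  classical
  apply mem_TS_of_perm
  intro σ
  rw [map_sum]
  simp only [SymTen.perm_tprod]
  refine Finset.sum_equiv (Equiv.arrowCongr σ (Equiv.refl _)) ?_ ?_
  · intro c
    simp only [Finset.mem_filter, Finset.mem_univ, true_and]
    have : (Equiv.arrowCongr σ (Equiv.refl (Fin r))) c = c ∘ (σ.symm : Equiv.Perm (Fin d)) := rfl
    rw [this, nu_comp_perm]
  · intro c _
    rfl

/-- symmetric tensors of a polynomial ring are of finite type over any base admitting a map from a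
noetherian ring -/
theorem TS_mvPoly_fg (A₀ : Type v) [CommRing A₀] [IsNoetherianRing A₀] (A : Type u) [CommRing A]
    [Algebra A₀ A] (k d : ℕ) : (SymTen.TS A (MvPolynomial (Fin k) A) d).FG := by
  classical
  obtain ⟨W₀, hW₀⟩ := TS_mvPoly_fg_noeth A₀ k d
  let ι : MvPolynomial (Fin k) A₀ →ₐ[A₀] MvPolynomial (Fin k) A :=
    MvPolynomial.mapAlgHom (Algebra.ofId A₀ A)
  have hι : ∀ m : Fin k →₀ ℕ, ι (MvPolynomial.monomial m 1) = MvPolynomial.monomial m 1 := by
    intro m
    simp [ι]
  let Θ := theta A₀ A d ι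
  let W : Finset (⨂[A] _ : Fin d, MvPolynomial (Fin k) A) := W₀.image (fun w => Θ w.1)
  refine ⟨W, ?_⟩
  apply le_antisymm
  · apply Algebra.adjoin_le
    intro t ht
    rw [Finset.mem_coe, Finset.mem_image] at ht
    obtain ⟨w, -, rfl⟩ := ht
    exact theta_mem_TS A₀ A d ι w.2
  · intro y hy
    -- all of `Θ(TS₀)` lies in the adjoin
    let D₀ : Subalgebra A₀ (SymTen.TS A₀ (MvPolynomial (Fin k) A₀) d) :=
      (Subalgebra.restrictScalars A₀ (Algebra.adjoin A
        (W : Set (⨂[A] _ : Fin d, MvPolynomial (Fin k) A)))).comap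
        (Θ.comp (SymTen.TS A₀ (MvPolynomial (Fin k) A₀) d).val)
    have hD₀ : (⊤ : Subalgebra A₀ (SymTen.TS A₀ (MvPolynomial (Fin k) A₀) d)) ≤ D₀ := by
      rw [← hW₀]
      apply Algebra.adjoin_le
      intro w hw
      show Θ w.1 ∈ Algebra.adjoin A (W : Set (⨂[A] _ : Fin d, MvPolynomial (Fin k) A))
      apply Algebra.subset_adjoin
      rw [Finset.mem_coe, Finset.mem_image]
      exact ⟨w, hw, rfl⟩
    have hΘ : ∀ y₀ : SymTen.TS A₀ (MvPolynomial (Fin k) A₀) d,
        Θ y₀.1 ∈ Algebra.adjoin A (W : Set (⨂[A] _ : Fin d, MvPolynomial (Fin k) A)) :=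
      fun y₀ => hD₀ (Algebra.mem_top : y₀ ∈ ⊤)
    have hspan : Submodule.span A (Set.range (fun m : Fin k →₀ ℕ =>
        (MvPolynomial.monomial m (1 : A) : MvPolynomial (Fin k) A))) = ⊤ := by
      have := (MvPolynomial.basisMonomials (Fin k) A).span_eq
      rwa [MvPolynomial.coe_basisMonomials] at this
    obtain ⟨r, g, a, hg, hrep⟩ := exists_rep_span d _ hspan y hy
    choose m hm using hg
    rw [hrep, ← Finset.sum_fiberwise_of_maps_to (t := Finset.univ.image nu) (g := nu)
      (fun c _ => Finset.mem_image_of_mem _ (Finset.mem_univ c))]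
    refine Subalgebra.sum_mem _ fun ν _ => ?_
    have h2 : ∀ c ∈ Finset.univ.filter (fun c : Fin d → Fin r => nu c = ν),
        a (nu c) • tprod A (fun i => g (c i)) = a ν • tprod A (fun i => g (c i)) := by
      intro c hc
      rw [(Finset.mem_filter.1 hc).2]
    rw [Finset.sum_congr rfl h2, ← Finset.smul_sum]
    refine Subalgebra.smul_mem _ ?_ _
    have h3 : ∑ c ∈ Finset.univ.filter (fun c : Fin d → Fin r => nu c = ν),
        tprod A (fun i => g (c i)) =
        Θ (∑ c ∈ Finset.univ.filter (fun c : Fin d → Fin r => nu c = ν),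
          tprod A₀ (fun i => (MvPolynomial.monomial (m (c i)) (1 : A₀) :
            MvPolynomial (Fin k) A₀))) := by
      rw [map_sum]
      refine Finset.sum_congr rfl fun c _ => ?_
      rw [theta_tprod]
      congr 1
      funext i
      rw [hι]
      exact (hm (c i)).symm
    rw [h3]
    have := hΘ ⟨∑ c ∈ Finset.univ.filter (fun c : Fin d → Fin r => nu c = ν),
      tprod A₀ (fun i => (MvPolynomial.monomial (m (c i)) (1 : A₀) : MvPolynomial (Fin k) A₀)),
      orbit_mem_TS (A := A₀) d (fun l => (MvPolynomial.monomial (m l) (1 : A₀) :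
        MvPolynomial (Fin k) A₀)) ν⟩
    exact this

/-- S13713: the divided power algebra of a finite type algebra is of finite type -/
theorem S13713_main {A : Type u} [CommRing A] {B : Type u} [CommRing B] [Algebra A B]
    {C : Type u} [CommRing C] [Algebra A C] {d : ℕ} (γ : PolLaw.MulLaw A B C d)
    (hγ : PolLaw.IsGammaD γ) [Algebra.FiniteType A B] : Algebra.FiniteType A C := by
  obtain ⟨k, π, hπ⟩ := Algebra.FiniteType.iff_quotient_mvPolynomial''.1 ‹Algebra.FiniteType A B›
  have hsurj : Function.Surjective (psi γ (MvPolynomial (Fin k) A) π) :=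
    S13717_main (tau A (MvPolynomial (Fin k) A) d) γ hγ π hπ _ (psi_spec γ _ π)
  haveI : Algebra.FiniteType A (SymTen.TS A (MvPolynomial (Fin k) A) d) :=
    (Subalgebra.fg_iff_finiteType _).1 (TS_mvPoly_fg ℤ A k d)
  exact Algebra.FiniteType.of_surjective (psi γ (MvPolynomial (Fin k) A) π) hsurj

end Groth.Agent.H9.TSH
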