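import Mathlib
import Groth.Prelude.Def_PolLaw
import Groth.Prelude.Def_PolLaw2
import Groth.Prelude.Def_SymTen
import Groth.Agent.Lib.Helper9.Misc.TSI2

/-! Helper9: linearised norm on symmetric tensors (S19444) -/

set_option linter.style.haveILetI false

namespace Groth.Agent.H9.TSI
open scoped TensorProduct
open Groth.Agent.H9.PLW

universe u

lemma ground_normLaw (A : Type u) [CommRing A] (R : Type u) [CommRing R]
    [Algebra A R] [Module.Free A R] [Module.Finite A R] (n : ℕ) (hn : Module.finrank A R = n)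
    (r : R) : (PolLaw.normLaw A R n hn).law.ground r = Algebra.norm A r := by
  rw [PolynomialLaw.ground_apply, PolLaw.normLaw_apply, TensorProduct.lid_tmul, smul_eq_mul, mul_one]
  have h := Algebra.norm_eq_of_algEquiv (Algebra.TensorProduct.lid A R).symm r
  rw [← h]
  rfl

theorem S19444_main (A : Type u) [CommRing A] (R : Type u) [CommRing R]
    [Algebra A R] [Module.Free A R] [Module.Finite A R] (n : ℕ) (hn : Module.finrank A R = n)
    (hfact : IsUnit ((Nat.factorial n : ℕ) : A)) :
    ∃! φ : SymTen.TS A R n →ₐ[A] A, ∀ r : R, φ (SymTen.tpow A R n r) = Algebra.norm A r := by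
  obtain ⟨u, hu⟩ := hfact.exists_right_inv
  refine ⟨fAlg n (PolLaw.normLaw A R n hn) u hu, ?_, ?_⟩
  · intro r
    rw [fAlg_tpow, ground_normLaw]
  · intro φ hφ
    refine algHom_ext_tpow n u hu fun r => ?_
    rw [hφ r, fAlg_tpow, ground_normLaw]

end Groth.Agent.H9.TSI
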