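import Mathlib
import Groth.Prelude.Def_PolLaw

/-! Helper9: descent of polynomial laws along surjections of algebras -/

set_option linter.style.haveILetI false
set_option linter.unusedSectionVars false

namespace Groth.Agent.H9.TSJ
open scoped TensorProduct

universe u
variable {A : Type u} [CommRing A] {P : Type u} [CommRing P] [Algebra A P]
  {B : Type u} [CommRing B] [Algebra A B] {C : Type u} [CommRing C] [Algebra A C]

lemma map_id_eq_lTensor (S : Type u) [CommRing S] [Algebra A S] (π : P →ₐ[A] B) (z : S ⊗[A] P) :
    Algebra.TensorProduct.map (AlgHom.id A S) π z = π.toLinearMap.lTensor S z := by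
  induction z using TensorProduct.induction_on with
  | zero => simp
  | tmul a b => rfl
  | add a b ha hb => simp [ha, hb]

/-- ring version of right exactness -/
lemma sub_mem_map_ker_ring (S : Type u) [CommRing S] [Algebra A S] (π : P →ₐ[A] B)
    (hπ : Function.Surjective π) (x x' : S ⊗[A] P)
    (h : π.toLinearMap.lTensor S x = π.toLinearMap.lTensor S x') :
    x - x' ∈ (RingHom.ker π).map (Algebra.TensorProduct.includeRight : P →ₐ[A] S ⊗[A] P) := by
  rw [← Algebra.TensorProduct.lTensor_ker (A := S) π hπ, RingHom.mem_ker, map_sub, sub_eq_zero,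
    map_id_eq_lTensor, map_id_eq_lTensor]
  exact h

/-- `S` with its ring structure -/
def RS (A : Type u) [CommRing A] (S : Type u) [CommSemiring S] [Algebra A S] : Type u := S

noncomputable instance instCommRingRS (S : Type u) [inst : CommSemiring S] [Algebra A S] :
    CommRing (RS A S) :=
  let g : AddCommGroup S := Module.addCommMonoidToAddCommGroup A
  { inst, g with }

noncomputable instance instAlgebraRS (S : Type u) [CommSemiring S] [Algebra A S] :
    Algebra A (RS A S) :=
  RingHom.toAlgebra (show A →+* RS A S from algebraMap A S)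

/-- identity as an algebra map to the ring copy -/
noncomputable def toRS (S : Type u) [CommSemiring S] [Algebra A S] : S →ₐ[A] RS A S where
  toFun := id
  map_one' := rfl
  map_mul' _ _ := rfl
  map_zero' := rfl
  map_add' _ _ := rfl
  commutes' _ := rfl

/-- identity as an algebra map from the ring copy -/
noncomputable def ofRS (S : Type u) [CommSemiring S] [Algebra A S] : RS A S →ₐ[A] S where
  toFun := id
  map_one' := rfl
  map_mul' _ _ := rfl
  map_zero' := rfl
  map_add' _ _ := rfl
  commutes' _ := rfl

lemma ofRS_comp_toRS (S : Type u) [CommSemiring S] [Algebra A S] :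
    (ofRS (A := A) S).comp (toRS S) = AlgHom.id A S := AlgHom.ext fun _ => rfl

lemma law_eq_RS (F : P →ₚₗ[A] C) (S : Type u) [CommSemiring S] [Algebra A S] (x : S ⊗[A] P) :
    F.toFun' S x = (ofRS (A := A) S).toLinearMap.rTensor C
      (F.toFun' (RS A S) ((toRS (A := A) S).toLinearMap.rTensor P x)) := by
  have h := congrFun (F.isCompat' (ofRS (A := A) S)) ((toRS (A := A) S).toLinearMap.rTensor P x)
  simp only [Function.comp_apply] at h
  rw [h, ← LinearMap.comp_apply, ← LinearMap.rTensor_comp, ← AlgHom.comp_toLinearMap,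
    ofRS_comp_toRS]
  simp

lemma rTensor_lTensor_comm {S S' : Type u} [CommSemiring S] [Algebra A S] [CommSemiring S']
    [Algebra A S'] (φ : S →ₐ[A] S') (π : P →ₗ[A] B) (x : S ⊗[A] P) :
    π.lTensor S' (φ.toLinearMap.rTensor P x) = φ.toLinearMap.rTensor B (π.lTensor S x) := by
  rw [← LinearMap.comp_apply, ← LinearMap.comp_apply, LinearMap.lTensor_comp_rTensor,
    LinearMap.rTensor_comp_lTensor]

/-- a law factoring through `ker π` is constant on the fibres of `π` -/
theorem wd (F : P →ₚₗ[A] C) (π : P →ₐ[A] B) (hπ : Function.Surjective π)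
    (hF : PolLaw.FactorsThrough F (RingHom.ker π))
    (S : Type u) [CommSemiring S] [Algebra A S] (x x' : S ⊗[A] P)
    (h : π.toLinearMap.lTensor S x = π.toLinearMap.lTensor S x') :
    F.toFun' S x = F.toFun' S x' := by
  rw [law_eq_RS F S x, law_eq_RS F S x']
  congr 1
  set X := (toRS (A := A) S).toLinearMap.rTensor P x
  set X' := (toRS (A := A) S).toLinearMap.rTensor P x'
  have h2 : π.toLinearMap.lTensor (RS A S) X = π.toLinearMap.lTensor (RS A S) X' := by
    rw [rTensor_lTensor_comm, rTensor_lTensor_comm, h]
  have h3 := sub_mem_map_ker_ring (RS A S) π hπ X X' h2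
  have h4 := hF (RS A S) X' (X - X') h3
  rw [add_sub_cancel] at h4
  exact h4

section desc

lemma lT_surj (π : P →ₐ[A] B) (hπ : Function.Surjective π)
    (S : Type u) [CommSemiring S] [Algebra A S] :
    Function.Surjective (π.toLinearMap.lTensor S) :=
  LinearMap.lTensor_surjective S (show Function.Surjective π.toLinearMap from hπ)

/-- the law descended along a surjection -/
noncomputable def descLaw (F : P →ₚₗ[A] C) (π : P →ₐ[A] B) (hπ : Function.Surjective π)
    (hF : PolLaw.FactorsThrough F (RingHom.ker π)) : B →ₚₗ[A] C where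
  toFun' S _ _ y := F.toFun' S (Function.surjInv (lT_surj π hπ S) y)
  isCompat' {S} _ _ {S'} _ _ φ := by
    funext y
    simp only [Function.comp_apply]
    have h := congrFun (F.isCompat' φ) (Function.surjInv (lT_surj π hπ S) y)
    simp only [Function.comp_apply] at h
    rw [h]
    apply wd F π hπ hF
    rw [rTensor_lTensor_comm, Function.surjInv_eq (lT_surj π hπ S) y,
      Function.surjInv_eq (lT_surj π hπ S') _]

lemma descLaw_apply (F : P →ₚₗ[A] C) (π : P →ₐ[A] B) (hπ : Function.Surjective π)
    (hF : PolLaw.FactorsThrough F (RingHom.ker π))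
    (S : Type u) [CommSemiring S] [Algebra A S] (x : S ⊗[A] P) :
    (descLaw F π hπ hF).toFun' S (π.toLinearMap.lTensor S x) = F.toFun' S x := by
  show F.toFun' S (Function.surjInv (lT_surj π hπ S) _) = _
  apply wd F π hπ hF
  rw [Function.surjInv_eq (lT_surj π hπ S) _]

end desc

/-- descent of multiplicative laws along surjections -/
theorem exists_desc {d : ℕ} (F : PolLaw.MulLaw A P C d) (π : P →ₐ[A] B)
    (hπ : Function.Surjective π) (hF : PolLaw.FactorsThrough F.law (RingHom.ker π)) :
    ∃ G : PolLaw.MulLaw A B C d, ∀ (S : Type u) [CommSemiring S] [Algebra A S] (x : S ⊗[A] P),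
      G.law.toFun' S (π.toLinearMap.lTensor S x) = F.law.toFun' S x := by
  refine ⟨⟨descLaw F.law π hπ hF, ?_, ?_⟩, fun S _ _ x => descLaw_apply F.law π hπ hF S x⟩
  · intro S _ _ s y
    obtain ⟨x, rfl⟩ := lT_surj π hπ S y
    have h1 : s • π.toLinearMap.lTensor S x = π.toLinearMap.lTensor S (s • x) := by
      rw [PolLaw.lTensor_algHom_apply, PolLaw.lTensor_algHom_apply, map_smul]
    rw [h1, descLaw_apply, descLaw_apply, F.homog]
  · intro S _ _
    refine ⟨?_, fun y y' => ?_⟩
    · have h1 : (1 : S ⊗[A] B) = π.toLinearMap.lTensor S 1 := by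
        rw [PolLaw.lTensor_algHom_apply, map_one]
      rw [h1, descLaw_apply, (F.mult S).1]
    · obtain ⟨x, rfl⟩ := lT_surj π hπ S y
      obtain ⟨x', rfl⟩ := lT_surj π hπ S y'
      have h1 : π.toLinearMap.lTensor S x * π.toLinearMap.lTensor S x' =
          π.toLinearMap.lTensor S (x * x') := by
        rw [PolLaw.lTensor_algHom_apply, PolLaw.lTensor_algHom_apply, PolLaw.lTensor_algHom_apply,
          map_mul]
      rw [h1, descLaw_apply, descLaw_apply, descLaw_apply, (F.mult S).2]

end Groth.Agent.H9.TSJ
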