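import Mathlib
import Groth.Prelude.Def_SymTen

/-! Helper9: symmetric tensors of a free algebra: orbit sums, retraction, universal injectivity -/

set_option linter.style.haveILetI false
set_option linter.unusedSectionVars false

namespace Groth.Agent.H9.TSJ
open PiTensorProduct
open scoped TensorProduct

universe v w
variable (R : Type v) [CommRing R] {M : Type v} [AddCommGroup M] [Module R M]
  {κ : Type w} [LinearOrder κ] (b : Module.Basis κ R M) (n : ℕ)

/-- the tensor basis of `T^n M` -/
noncomputable def tB : Module.Basis (Fin n → κ) R (⨂[R] _ : Fin n, M) :=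
  Basis.piTensorProduct (fun _ : Fin n => b)

lemma tB_apply (c : Fin n → κ) : tB R b n c = tprod R (fun i => b (c i)) := by
  rw [tB, Basis.piTensorProduct_apply]

lemma reindex_tB (σ : Equiv.Perm (Fin n)) (c : Fin n → κ) :
    reindex R (fun _ : Fin n => M) σ (tB R b n c) = tB R b n (c ∘ σ.symm) := by
  rw [tB_apply, tB_apply, reindex_tprod]
  rfl

lemma repr_reindex (σ : Equiv.Perm (Fin n)) (x : ⨂[R] _ : Fin n, M) (c : Fin n → κ) :
    (tB R b n).repr (reindex R (fun _ : Fin n => M) σ x) c = (tB R b n).repr x (c ∘ σ) := by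
  classical
  have key : (Finsupp.lapply c ∘ₗ (tB R b n).repr.toLinearMap) ∘ₗ
      (reindex R (fun _ : Fin n => M) σ).toLinearMap =
      Finsupp.lapply (c ∘ σ) ∘ₗ (tB R b n).repr.toLinearMap := by
    apply (tB R b n).ext
    intro c'
    simp only [LinearMap.coe_comp, LinearEquiv.coe_coe, Function.comp_apply, Finsupp.lapply_apply,
      reindex_tB, Module.Basis.repr_self, Finsupp.single_apply]
    have : (c' ∘ ⇑σ.symm = c) ↔ (c' = c ∘ ⇑σ) := by
      constructor
      · rintro rfl; ext i; simp
      · rintro rfl; ext i; simp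
    simp only [this]
  exact LinearMap.congr_fun key x

variable {n}

/-- the sorted version of a tuple -/
def srt (c : Fin n → κ) : Fin n → κ := c ∘ Tuple.sort c

lemma srt_comp (c : Fin n → κ) (σ : Equiv.Perm (Fin n)) : srt (c ∘ σ) = srt c :=
  Tuple.comp_perm_comp_sort_eq_comp_sort

lemma srt_mono (c : Fin n → κ) : Monotone (srt c) := Tuple.monotone_sort c

lemma srt_of_mono {c : Fin n → κ} (h : Monotone c) : srt c = c := by
  rw [srt, Tuple.sort_eq_refl_iff_monotone.mpr h]
  rfl

variable (n)

open Classical in
/-- the orbit of a tuple -/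
noncomputable def orbF (m : Fin n → κ) : Finset (Fin n → κ) :=
  Finset.univ.image (fun σ : Equiv.Perm (Fin n) => m ∘ σ)

open Classical in
lemma mem_orbF_iff {m : Fin n → κ} (hm : Monotone m) (c : Fin n → κ) :
    c ∈ orbF n m ↔ m = srt c := by
  unfold orbF
  rw [Finset.mem_image]
  constructor
  · rintro ⟨σ, -, rfl⟩
    rw [srt_comp, srt_of_mono hm]
  · intro h
    refine ⟨(Tuple.sort c).symm, Finset.mem_univ _, ?_⟩
    rw [h, srt]
    ext i
    simp

open Classical in
/-- orbit sums -/
noncomputable def orbSum (m : Fin n → κ) : ⨂[R] _ : Fin n, M :=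
  ∑ c ∈ orbF n m, tB R b n c

open Classical in
lemma repr_orbSum (m c : Fin n → κ) :
    (tB R b n).repr (orbSum R b n m) c = if c ∈ orbF n m then 1 else 0 := by
  rw [orbSum, map_sum, Finsupp.finsetSum_apply]
  simp only [Module.Basis.repr_self, Finsupp.single_apply]
  rw [Finset.sum_ite_eq' (orbF n m) c (fun _ => (1 : R))]

open Classical in
/-- the retraction onto symmetric tensors -/
noncomputable def rho : (⨂[R] _ : Fin n, M) →ₗ[R] (⨂[R] _ : Fin n, M) :=
  (tB R b n).constr R (fun c => if Monotone c then orbSum R b n c else 0)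

lemma repr_rho (x : ⨂[R] _ : Fin n, M) (c : Fin n → κ) :
    (tB R b n).repr (rho R b n x) c = (tB R b n).repr x (srt c) := by
  classical
  have key : (Finsupp.lapply c ∘ₗ (tB R b n).repr.toLinearMap) ∘ₗ rho R b n =
      Finsupp.lapply (srt c) ∘ₗ (tB R b n).repr.toLinearMap := by
    apply (tB R b n).ext
    intro c'
    simp only [LinearMap.coe_comp, LinearEquiv.coe_coe, Function.comp_apply, Finsupp.lapply_apply,
      rho, Module.Basis.constr_basis, Module.Basis.repr_self, Finsupp.single_apply]
    by_cases hm : Monotone c'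
    · rw [if_pos hm, repr_orbSum]
      simp only [mem_orbF_iff n hm]
    · rw [if_neg hm]
      have : ¬ (c' = srt c) := fun h => hm (h ▸ srt_mono c)
      simp [this]
  exact LinearMap.congr_fun key x

lemma reindex_rho (σ : Equiv.Perm (Fin n)) (x : ⨂[R] _ : Fin n, M) :
    reindex R (fun _ : Fin n => M) σ (rho R b n x) = rho R b n x := by
  apply (tB R b n).ext_elem
  intro c
  rw [repr_reindex, repr_rho, repr_rho, srt_comp]

lemma rho_of_sym (x : ⨂[R] _ : Fin n, M)
    (hx : ∀ σ : Equiv.Perm (Fin n), reindex R (fun _ : Fin n => M) σ x = x) :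
    rho R b n x = x := by
  apply (tB R b n).ext_elem
  intro c
  rw [repr_rho, srt, ← repr_reindex, hx]

end Groth.Agent.H9.TSJ

namespace Groth.Agent.H9.TSJ
open PiTensorProduct
open scoped TensorProduct

universe v w
variable (R : Type v) [CommRing R] {B : Type v} [CommRing B] [Algebra R B]
  {κ : Type w} [LinearOrder κ] (b : Module.Basis κ R B) (n : ℕ)

/-- retraction of the tensor power onto symmetric tensors, for a free algebra -/
noncomputable def rhoTS : (⨂[R] _ : Fin n, B) →ₗ[R] SymTen.TS R B n :=
  (rho R b n).codRestrict (Subalgebra.toSubmodule (SymTen.TS R B n))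
    (fun x σ => reindex_rho R b n σ x)

lemma rhoTS_val (y : SymTen.TS R B n) : rhoTS R b n y.1 = y :=
  Subtype.ext (rho_of_sym R b n y.1 y.2)

include b in
/-- symmetric tensors of a free algebra form a universally injective submodule -/
theorem lTensor_val_injective (X : Type*) [AddCommGroup X] [Module R X] :
    Function.Injective ((SymTen.TS R B n).val.toLinearMap.lTensor X) := by
  have h : (rhoTS R b n).lTensor X ∘ₗ (SymTen.TS R B n).val.toLinearMap.lTensor X =
      LinearMap.id := by
    rw [← LinearMap.lTensor_comp]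
    have : rhoTS R b n ∘ₗ (SymTen.TS R B n).val.toLinearMap = LinearMap.id := by
      ext y
      exact congrArg Subtype.val (rhoTS_val R b n y)
    rw [this, LinearMap.lTensor_id]
  exact Function.LeftInverse.injective (fun z => LinearMap.congr_fun h z)

end Groth.Agent.H9.TSJ
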