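import Mathlib
import Groth.Prelude.Def_PolLaw
import Groth.Prelude.Def_SymTen
import Groth.Agent.Lib.Helper9.Misc.TSH2
import Groth.Agent.Lib.Helper9.Misc.TSJ2

/-! Helper9: base change of symmetric tensors of polynomial rings; finite presentation -/

set_option linter.style.haveILetI false
set_option linter.unusedSectionVars false

namespace Groth.Agent.H9.TSJ
open scoped TensorProduct
open Groth.Agent.H9.TSG Groth.Agent.H9.PLR Groth.Agent.H9.PLZ Groth.Agent.H9.TSU Groth.Agent.H9.SPC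
  Groth.Agent.H9.TSN Groth.Agent.H9.TSH
open PiTensorProduct

universe u v

section bc
variable (A₀ : Type v) [CommRing A₀] (A : Type u) [CommRing A] [Algebra A₀ A] (k d : ℕ)

/-- the map of polynomial rings -/
noncomputable abbrev iot : MvPolynomial (Fin k) A₀ →ₐ[A₀] MvPolynomial (Fin k) A :=
  MvPolynomial.mapAlgHom (Algebra.ofId A₀ A)

lemma iot_monomial (m : Fin k →₀ ℕ) :
    iot A₀ A k (MvPolynomial.monomial m 1) = MvPolynomial.monomial m 1 := by
  simp [iot]

/-- the base change map on tensor powers -/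
noncomputable abbrev Th : (⨂[A₀] _ : Fin d, MvPolynomial (Fin k) A₀) →ₐ[A₀]
    (⨂[A] _ : Fin d, MvPolynomial (Fin k) A) :=
  theta A₀ A d (iot A₀ A k)

/-- linear extension of `Th` -/
noncomputable def Lbc : A ⊗[A₀] (⨂[A₀] _ : Fin d, MvPolynomial (Fin k) A₀) →ₗ[A]
    (⨂[A] _ : Fin d, MvPolynomial (Fin k) A) :=
  LinearMap.liftBaseChange A (Th A₀ A k d).toLinearMap

lemma Lbc_tmul (a : A) (t : ⨂[A₀] _ : Fin d, MvPolynomial (Fin k) A₀) :
    Lbc A₀ A k d (a ⊗ₜ t) = a • Th A₀ A k d t := by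
  simp [Lbc]

theorem Lbc_injective : Function.Injective (Lbc A₀ A k d) := by
  classical
  letI : LinearOrder (Fin k →₀ ℕ) := WellOrderingRel.isWellOrder.linearOrder
  let E₀ := tB A₀ (MvPolynomial.basisMonomials (Fin k) A₀) d
  let EA := tB A (MvPolynomial.basisMonomials (Fin k) A) d
  let e := (Algebra.TensorProduct.basis A E₀).equiv EA (Equiv.refl _)
  have h : Lbc A₀ A k d = e.toLinearMap := by
    apply (Algebra.TensorProduct.basis A E₀).ext
    intro c
    rw [LinearEquiv.coe_coe, Module.Basis.equiv_apply, Algebra.TensorProduct.basis_apply, Lbc_tmul,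
      one_smul]
    simp only [E₀, EA, tB_apply, Equiv.refl_apply, theta_tprod, MvPolynomial.coe_basisMonomials,
      iot_monomial]
  rw [h]
  exact e.injective

/-- the comparison map `A ⊗ TS₀ → T^d_A(P)` -/
noncomputable def Psi1 : A ⊗[A₀] (SymTen.TS A₀ (MvPolynomial (Fin k) A₀) d) →ₐ[A]
    (⨂[A] _ : Fin d, MvPolynomial (Fin k) A) :=
  Algebra.TensorProduct.lift (Algebra.ofId A _)
    ((Th A₀ A k d).comp (SymTen.TS A₀ (MvPolynomial (Fin k) A₀) d).val)
    (fun _ _ => Commute.all _ _)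

lemma Psi1_tmul (a : A) (y : SymTen.TS A₀ (MvPolynomial (Fin k) A₀) d) :
    Psi1 A₀ A k d (a ⊗ₜ y) = a • Th A₀ A k d y.1 := by
  rw [Psi1, Algebra.TensorProduct.lift_tmul, Algebra.ofId_apply, ← Algebra.smul_def]
  rfl

lemma Psi1_eq (z : A ⊗[A₀] (SymTen.TS A₀ (MvPolynomial (Fin k) A₀) d)) :
    Psi1 A₀ A k d z = Lbc A₀ A k d
      ((SymTen.TS A₀ (MvPolynomial (Fin k) A₀) d).val.toLinearMap.lTensor A z) := by
  induction z using TensorProduct.induction_on with
  | zero => simp
  | tmul a y => rw [Psi1_tmul, LinearMap.lTensor_tmul, Lbc_tmul]; rfl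
  | add x y hx hy => rw [map_add, map_add, map_add, hx, hy]

theorem Psi1_injective : Function.Injective (Psi1 A₀ A k d) := by
  classical
  letI : LinearOrder (Fin k →₀ ℕ) := WellOrderingRel.isWellOrder.linearOrder
  intro z z' h
  rw [Psi1_eq, Psi1_eq] at h
  exact lTensor_val_injective A₀ (MvPolynomial.basisMonomials (Fin k) A₀) d A
    (Lbc_injective A₀ A k d h)

lemma Psi1_mem (z : A ⊗[A₀] (SymTen.TS A₀ (MvPolynomial (Fin k) A₀) d)) :
    Psi1 A₀ A k d z ∈ SymTen.TS A (MvPolynomial (Fin k) A) d := by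
  induction z using TensorProduct.induction_on with
  | zero => rw [map_zero]; exact Subalgebra.zero_mem _
  | tmul a y =>
    rw [Psi1_tmul]
    exact Subalgebra.smul_mem _ (theta_mem_TS A₀ A d (iot A₀ A k) y.2) _
  | add x y hx hy => rw [map_add]; exact Subalgebra.add_mem _ hx hy

theorem Psi1_surj (y : ⨂[A] _ : Fin d, MvPolynomial (Fin k) A)
    (hy : y ∈ SymTen.TS A (MvPolynomial (Fin k) A) d) : ∃ z, Psi1 A₀ A k d z = y := by
  classical
  have hspan : Submodule.span A (Set.range (fun m : Fin k →₀ ℕ =>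
      (MvPolynomial.monomial m (1 : A) : MvPolynomial (Fin k) A))) = ⊤ := by
    have := (MvPolynomial.basisMonomials (Fin k) A).span_eq
    rwa [MvPolynomial.coe_basisMonomials] at this
  obtain ⟨r, g, a, hg, hrep⟩ := exists_rep_span d _ hspan y hy
  choose m hm using hg
  refine ⟨∑ ν ∈ Finset.univ.image (nu : (Fin d → Fin r) → _), a ν ⊗ₜ[A₀]
    ⟨∑ c ∈ Finset.univ.filter (fun c : Fin d → Fin r => nu c = ν),
      tprod A₀ (fun i => (MvPolynomial.monomial (m (c i)) (1 : A₀) : MvPolynomial (Fin k) A₀)),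
      orbit_mem_TS (A := A₀) d (fun l => (MvPolynomial.monomial (m l) (1 : A₀) :
        MvPolynomial (Fin k) A₀)) ν⟩, ?_⟩
  rw [hrep, ← Finset.sum_fiberwise_of_maps_to (t := Finset.univ.image nu) (g := nu)
    (fun c _ => Finset.mem_image_of_mem _ (Finset.mem_univ c)), map_sum]
  refine Finset.sum_congr rfl fun ν _ => ?_
  rw [Psi1_tmul, map_sum, Finset.smul_sum]
  refine Finset.sum_congr rfl fun c hc => ?_
  rw [(Finset.mem_filter.1 hc).2, theta_tprod]
  congr 2
  funext i
  rw [iot_monomial]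
  exact hm (c i)

/-- the comparison map `A ⊗ TS₀ → TS_A(P)` -/
noncomputable def Psi : A ⊗[A₀] (SymTen.TS A₀ (MvPolynomial (Fin k) A₀) d) →ₐ[A]
    SymTen.TS A (MvPolynomial (Fin k) A) d :=
  (Psi1 A₀ A k d).codRestrict _ (Psi1_mem A₀ A k d)

theorem Psi_bijective : Function.Bijective (Psi A₀ A k d) := by
  constructor
  · intro z z' h
    exact Psi1_injective A₀ A k d (congrArg Subtype.val h)
  · intro y
    obtain ⟨z, hz⟩ := Psi1_surj A₀ A k d y.1 y.2
    exact ⟨z, Subtype.ext hz⟩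

end bc

/-- symmetric tensors of a polynomial ring are of finite presentation -/
theorem TS_mvPoly_fp (A : Type u) [CommRing A] (k d : ℕ) :
    Algebra.FinitePresentation A (SymTen.TS A (MvPolynomial (Fin k) A) d) := by
  haveI : Algebra.FiniteType ℤ (SymTen.TS ℤ (MvPolynomial (Fin k) ℤ) d) :=
    ⟨TS_mvPoly_fg_noeth ℤ k d⟩
  haveI : Algebra.FinitePresentation ℤ (SymTen.TS ℤ (MvPolynomial (Fin k) ℤ) d) :=
    Algebra.FinitePresentation.of_finiteType.1 inferInstance
  exact Algebra.FinitePresentation.equiv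
    (AlgEquiv.ofBijective (Psi ℤ A k d) (Psi_bijective ℤ A k d))

end Groth.Agent.H9.TSJ
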