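import Mathlib
import Groth.Prelude.Def_PolLaw
import Groth.Prelude.Def_SymTen
import Groth.Agent.Lib.Helper9.Misc.TSH2
import Groth.Agent.Lib.Helper9.Misc.TSJ1

/-! Helper9: orbit sums as coefficients of the universal law; psi kills orbit sums with an entry in ker π -/

set_option linter.style.haveILetI false
set_option linter.unusedSectionVars false

namespace Groth.Agent.H9.TSJ
open scoped TensorProduct
open Groth.Agent.H9.TSG Groth.Agent.H9.PLR Groth.Agent.H9.PLZ Groth.Agent.H9.TSU Groth.Agent.H9.SPC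
  Groth.Agent.H9.TSN Groth.Agent.H9.TSH
open PiTensorProduct

universe u

section general
variable {A : Type u} [CommRing A] {B : Type u} [CommRing B] [Algebra A B]
  {C : Type u} [CommRing C] [Algebra A C] {d : ℕ}

/-- generalized orbit sums -/
noncomputable def Orb (d : ℕ) {r : ℕ} (g : Fin r → B) (ν : Fin r →₀ ℕ) : ⨂[A] _ : Fin d, B :=
  ∑ c ∈ Finset.univ.filter (fun c : Fin d → Fin r => nu c = ν), tprod A (fun i => g (c i))

lemma Orb_mem {r : ℕ} (g : Fin r → B) (ν : Fin r →₀ ℕ) : Orb (A := A) d g ν ∈ SymTen.TS A B d :=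
  orbit_mem_TS d g ν

/-- the generic element attached to a family -/
noncomputable def gen {r : ℕ} (g : Fin r → B) : MvPolynomial (Fin r) A ⊗[A] B :=
  ∑ m, (MvPolynomial.X m : MvPolynomial (Fin r) A) ⊗ₜ[A] g m

/-- the coefficients of the universal law at a generic element are the orbit sums -/
theorem tau_coeff {r : ℕ} (g : Fin r → B) (ν : Fin r →₀ ℕ) :
    ev (MvPolynomial.lcoeff A ν) ((tau A B d).law.toFun' (MvPolynomial (Fin r) A) (gen g)) =
      ⟨Orb d g ν, Orb_mem g ν⟩ := by
  classical
  apply Subtype.ext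
  show (SymTen.TS A B d).val.toLinearMap (ev (MvPolynomial.lcoeff A ν) _) = Orb d g ν
  rw [← ev_lTensor, gen, tau_sum, map_sum]
  simp only [ev_tmul, prod_X_eq_monomial, MvPolynomial.lcoeff_apply, MvPolynomial.coeff_monomial]
  unfold Orb
  rw [Finset.sum_filter]
  refine Finset.sum_congr rfl fun c _ => ?_
  split_ifs <;> simp

lemma ev_separates_fin (N : ℕ) (w w' : MvPolynomial (Fin N) A ⊗[A] C)
    (h : ∀ ν : Fin N →₀ ℕ, ev (MvPolynomial.lcoeff A ν) w = ev (MvPolynomial.lcoeff A ν) w') :
    w = w' := by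
  classical
  let ℬ := MvPolynomial.basisMonomials (Fin N) A
  apply (TensorProduct.equivFinsuppOfBasisLeft (N := C) ℬ).injective
  ext m
  rw [TensorProduct.equivFinsuppOfBasisLeft_apply, TensorProduct.equivFinsuppOfBasisLeft_apply]
  have : ℬ.coord m = MvPolynomial.lcoeff A m := by
    ext p
    rfl
  exact h m

/-- a sum of pure tensors is the image of the generic element -/
lemma gen_map (S : Type u) [CommSemiring S] [Algebra A S] {r : ℕ} (s : Fin r → S) (g : Fin r → B) :
    (MvPolynomial.aeval s : MvPolynomial (Fin r) A →ₐ[A] S).toLinearMap.rTensor B (gen g) =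
      ∑ j, s j ⊗ₜ[A] g j := by
  rw [gen, map_sum]
  refine Finset.sum_congr rfl fun j _ => ?_
  rw [LinearMap.rTensor_tmul, AlgHom.toLinearMap_apply, MvPolynomial.aeval_X]

/-- reduction to generic elements -/
lemma law_sum_eq (F : B →ₚₗ[A] C) (S : Type u) [CommSemiring S] [Algebra A S] {r : ℕ}
    (s : Fin r → S) (g : Fin r → B) :
    F.toFun' S (∑ j, s j ⊗ₜ[A] g j) =
      (MvPolynomial.aeval s : MvPolynomial (Fin r) A →ₐ[A] S).toLinearMap.rTensor C
        (F.toFun' (MvPolynomial (Fin r) A) (gen g)) := by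
  have h := congrFun (F.isCompat' (MvPolynomial.aeval s : MvPolynomial (Fin r) A →ₐ[A] S)) (gen g)
  simp only [Function.comp_apply] at h
  rw [h, gen_map]

lemma nu_apply_ne_zero {r : ℕ} (c : Fin d → Fin r) (i : Fin d) : nu c (c i) ≠ 0 := by
  rw [← Finsupp.mem_support_iff, nu_support]
  exact Finset.mem_image_of_mem _ (Finset.mem_univ i)

lemma exists_of_nu_ne_zero {r : ℕ} (c : Fin d → Fin r) (j : Fin r) (h : nu c j ≠ 0) :
    ∃ i, c i = j := by
  rw [← Finsupp.mem_support_iff, nu_support, Finset.mem_image] at h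
  obtain ⟨i, -, hi⟩ := h
  exact ⟨i, hi⟩

/-- orbit sums only depend on the entries occurring in the type -/
lemma Orb_congr {r : ℕ} (g g' : Fin r → B) (ν : Fin r →₀ ℕ)
    (h : ∀ j, ν j ≠ 0 → g j = g' j) : Orb (A := A) d g ν = Orb d g' ν := by
  unfold Orb
  refine Finset.sum_congr rfl fun c hc => ?_
  congr 1
  funext i
  apply h
  rw [← (Finset.mem_filter.1 hc).2]
  exact nu_apply_ne_zero c i

/-- orbit sums vanish when an occurring entry vanishes -/
lemma Orb_eq_zero {r : ℕ} (g : Fin r → B) (ν : Fin r →₀ ℕ) (j : Fin r) (hj : ν j ≠ 0)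
    (hg : g j = 0) : Orb (A := A) d g ν = 0 := by
  unfold Orb
  refine Finset.sum_eq_zero fun c hc => ?_
  rw [← (Finset.mem_filter.1 hc).2] at hj
  obtain ⟨i, hi⟩ := exists_of_nu_ne_zero c j hj
  exact MultilinearMap.map_coord_zero _ i (by rw [hi, hg])

end general

section kill
variable {A : Type u} [CommRing A]

/-- the substitution killing one variable -/
noncomputable def killVar {r : ℕ} (j : Fin r) : MvPolynomial (Fin r) A →ₐ[A] MvPolynomial (Fin r) A :=
  MvPolynomial.aeval (fun m => if m = j then 0 else MvPolynomial.X m)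

lemma lcoeff_killVar {r : ℕ} (j : Fin r) (ν : Fin r →₀ ℕ) (hν : ν j ≠ 0) :
    MvPolynomial.lcoeff A ν ∘ₗ (killVar (A := A) j).toLinearMap = 0 := by
  classical
  apply MvPolynomial.linearMap_ext
  intro μ
  ext
  simp only [LinearMap.coe_comp, Function.comp_apply, AlgHom.toLinearMap_apply,
    MvPolynomial.lcoeff_apply, LinearMap.zero_comp, LinearMap.zero_apply, killVar,
    MvPolynomial.aeval_monomial, map_one, one_mul]
  by_cases hμ : μ j = 0
  · have h1 : (μ.prod fun i k => (if i = j then (0 : MvPolynomial (Fin r) A)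
        else MvPolynomial.X i) ^ k) = MvPolynomial.monomial μ 1 := by
      rw [MvPolynomial.monomial_eq, map_one, one_mul]
      refine Finset.prod_congr rfl fun i hi => ?_
      have : i ≠ j := by
        rintro rfl
        exact (Finsupp.mem_support_iff.1 hi) hμ
      beta_reduce
      rw [if_neg this]
    rw [h1, MvPolynomial.coeff_monomial, if_neg]
    rintro rfl
    exact hν hμ
  · have h1 : (μ.prod fun i k => (if i = j then (0 : MvPolynomial (Fin r) A)
        else MvPolynomial.X i) ^ k) = 0 := by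
      refine Finset.prod_eq_zero (Finsupp.mem_support_iff.2 hμ) ?_
      beta_reduce
      rw [if_pos rfl, zero_pow hμ]
    rw [h1, MvPolynomial.coeff_zero]

end kill

section psi
variable {A : Type u} [CommRing A] {B : Type u} [CommRing B] [Algebra A B]
  {C : Type u} [CommRing C] [Algebra A C] {d : ℕ} (γ : PolLaw.MulLaw A B C d)
  (P : Type u) [CommRing P] [Algebra A P] [Module.Flat A P] (π : P →ₐ[A] B)

/-- the images of orbit sums under `psi` as coefficients of `γ` -/
theorem psi_Orb {r : ℕ} (g : Fin r → P) (ν : Fin r →₀ ℕ) :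
    psi γ P π ⟨Orb d g ν, Orb_mem g ν⟩ =
      ev (MvPolynomial.lcoeff A ν) (γ.law.toFun' (MvPolynomial (Fin r) A)
        (gen (fun m => π (g m)))) := by
  rw [← tau_coeff, ← AlgHom.toLinearMap_apply, ← ev_lTensor, psi_apply]
  congr 2
  rw [gen, gen, map_sum]
  rfl

/-- `psi` kills the orbit sums having an occurring entry in `ker π` -/
theorem psi_Orb_eq_zero {r : ℕ} (g : Fin r → P) (ν : Fin r →₀ ℕ) (j : Fin r) (hj : ν j ≠ 0)
    (hg : π (g j) = 0) : psi γ P π ⟨Orb d g ν, Orb_mem g ν⟩ = 0 := by
  rw [psi_Orb]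
  have h1 : (killVar (A := A) j).toLinearMap.rTensor B (gen (fun m => π (g m))) =
      gen (fun m => π (g m)) := by
    rw [gen, map_sum]
    refine Finset.sum_congr rfl fun m _ => ?_
    rw [LinearMap.rTensor_tmul, AlgHom.toLinearMap_apply, killVar, MvPolynomial.aeval_X]
    by_cases hm : m = j
    · rw [if_pos hm, hm, hg, TensorProduct.tmul_zero, TensorProduct.tmul_zero]
    · rw [if_neg hm]
  have h2 := congrFun (γ.law.isCompat' (killVar (A := A) j)) (gen (fun m => π (g m)))
  simp only [Function.comp_apply] at h2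
  rw [h1] at h2
  rw [← h2, ev_rTensor, lcoeff_killVar j ν hj]
  simp [ev]

end psi

end Groth.Agent.H9.TSJ
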