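import Mathlib
import Groth.Prelude.Def_PolLaw
import Groth.Prelude.Def_SymTen
import Groth.Agent.Lib.Helper9.Misc.PLH1
import Groth.Agent.Lib.Helper9.Misc.TSJ3
import Groth.Agent.Lib.Helper9.Misc.TSJ4

/-! Helper9: noetherian descent for the kernel of psi : TS^d(A[x]) → Γ^d(B) -/

set_option linter.style.haveILetI false
set_option linter.unusedSectionVars false

namespace Groth.Agent.H9.TSJ
open scoped TensorProduct
open Groth.Agent.H9.TSG Groth.Agent.H9.PLR Groth.Agent.H9.PLZ Groth.Agent.H9.TSU Groth.Agent.H9.SPC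
  Groth.Agent.H9.TSN Groth.Agent.H9.TSH
open PiTensorProduct

universe u

section pre
variable {A : Type u} [CommRing A] {B : Type u} [CommRing B] [Algebra A B]
  {C : Type u} [CommRing C] [Algebra A C]

lemma factorsThrough_of_le (F : B →ₚₗ[A] C) (I : Ideal B) (h : I ≤ PolLaw.ker F) :
    PolLaw.FactorsThrough F I := by
  intro S _ _ x y hy
  exact Groth.Agent.H9.PLH.factorsThrough_ker F S x y (Ideal.map_mono h hy)

end pre

section rep
variable (A₀ : Type u) [CommRing A₀] (A : Type u) [CommRing A] [Algebra A₀ A] (k : ℕ)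

/-- elements of `S ⊗ A[x]` are combinations of images of polynomials over `A₀` -/
lemma exists_rep_iot (S : Type u) [CommSemiring S] [Algebra A S]
    (x : S ⊗[A] MvPolynomial (Fin k) A) :
    ∃ (n : ℕ) (s : Fin n → S) (μ : Fin n → MvPolynomial (Fin k) A₀),
      x = ∑ j, s j ⊗ₜ[A] iot A₀ A k (μ j) := by
  induction x using TensorProduct.induction_on with
  | zero => exact ⟨0, Fin.elim0, Fin.elim0, by simp⟩
  | tmul s p =>
    induction p using MvPolynomial.induction_on' with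
    | monomial m a =>
      refine ⟨1, fun _ => a • s, fun _ => MvPolynomial.monomial m 1, ?_⟩
      rw [Fin.sum_univ_one, iot_monomial, TensorProduct.smul_tmul, MvPolynomial.smul_monomial,
        smul_eq_mul, mul_one]
    | add p q hp hq =>
      obtain ⟨n, s₁, μ₁, h₁⟩ := hp
      obtain ⟨n', s₂, μ₂, h₂⟩ := hq
      refine ⟨n + n', Fin.append s₁ s₂, Fin.append μ₁ μ₂, ?_⟩
      rw [TensorProduct.tmul_add, h₁, h₂, Fin.sum_univ_add]
      simp
  | add x y hx hy =>
    obtain ⟨n, s₁, μ₁, rfl⟩ := hx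
    obtain ⟨n', s₂, μ₂, rfl⟩ := hy
    refine ⟨n + n', Fin.append s₁ s₂, Fin.append μ₁ μ₂, ?_⟩
    rw [Fin.sum_univ_add]
    simp

end rep

section core
variable (A₀ : Type u) [CommRing A₀] {A : Type u} [CommRing A] [Algebra A₀ A]
  {B : Type u} [CommRing B] [Algebra A B] {C : Type u} [CommRing C] [Algebra A C] {d : ℕ}
  (γ : PolLaw.MulLaw A B C d) (k : ℕ) (π : MvPolynomial (Fin k) A →ₐ[A] B)

/-- base change on symmetric tensors, as a ring map -/
noncomputable def ThTS (A₀ : Type u) [CommRing A₀] (A : Type u) [CommRing A] [Algebra A₀ A]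
    (k d : ℕ) : SymTen.TS A₀ (MvPolynomial (Fin k) A₀) d →+* SymTen.TS A (MvPolynomial (Fin k) A) d :=
  ((Th A₀ A k d).toRingHom.comp (SymTen.TS A₀ (MvPolynomial (Fin k) A₀) d).val.toRingHom).codRestrict
    (SymTen.TS A (MvPolynomial (Fin k) A) d) (fun y => theta_mem_TS A₀ A d (iot A₀ A k) y.2)

lemma ThTS_val (y : SymTen.TS A₀ (MvPolynomial (Fin k) A₀) d) :
    (ThTS A₀ A k d y).1 = Th A₀ A k d y.1 := rfl

lemma ThTS_Orb {r : ℕ} (b : Fin r → MvPolynomial (Fin k) A₀) (ν : Fin r →₀ ℕ) :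
    ThTS A₀ A k d ⟨Orb d b ν, Orb_mem b ν⟩ =
      ⟨Orb d (fun j => iot A₀ A k (b j)) ν, Orb_mem _ ν⟩ := by
  apply Subtype.ext
  rw [ThTS_val]
  show Th A₀ A k d (Orb d b ν) = Orb d (fun j => iot A₀ A k (b j)) ν
  unfold Orb
  rw [map_sum]
  refine Finset.sum_congr rfl fun c _ => ?_
  rw [theta_tprod]

/-- the candidate for the kernel of `psi` -/
noncomputable def Jp : Ideal (SymTen.TS A (MvPolynomial (Fin k) A) d) :=
  ((RingHom.ker (psi γ (MvPolynomial (Fin k) A) π)).comap (ThTS A₀ A k d)).map (ThTS A₀ A k d)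

lemma Jp_le : Jp A₀ γ k π ≤ RingHom.ker (psi γ (MvPolynomial (Fin k) A) π) :=
  Ideal.map_comap_le

lemma Orb_mem_Jp {r : ℕ} (b : Fin r → MvPolynomial (Fin k) A₀) (ν : Fin r →₀ ℕ) (j : Fin r)
    (hj : ν j ≠ 0) (hb : π (iot A₀ A k (b j)) = 0) :
    (⟨Orb d (fun j => iot A₀ A k (b j)) ν, Orb_mem _ ν⟩ :
      SymTen.TS A (MvPolynomial (Fin k) A) d) ∈ Jp A₀ γ k π := by
  rw [← ThTS_Orb]
  apply Ideal.mem_map_of_mem
  rw [Ideal.mem_comap, RingHom.mem_ker, ThTS_Orb]
  exact psi_Orb_eq_zero γ (MvPolynomial (Fin k) A) π _ ν j hj hb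

/-- the law into the quotient by `Jp` -/
noncomputable def Fq : PolLaw.MulLaw A (MvPolynomial (Fin k) A)
    (SymTen.TS A (MvPolynomial (Fin k) A) d ⧸ Jp A₀ γ k π) d :=
  (tau A (MvPolynomial (Fin k) A) d).postcomp (Ideal.Quotient.mkₐ A (Jp A₀ γ k π))

lemma Fq_apply (S : Type u) [CommSemiring S] [Algebra A S] (x : S ⊗[A] MvPolynomial (Fin k) A) :
    (Fq A₀ γ k π).law.toFun' S x = (Ideal.Quotient.mkₐ A (Jp A₀ γ k π)).toLinearMap.lTensor S
      ((tau A (MvPolynomial (Fin k) A) d).law.toFun' S x) := rfl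

/-- the key comparison of generic values -/
theorem Fq_gen_eq {r : ℕ} (b b' : Fin r → MvPolynomial (Fin k) A₀)
    (H : ∀ j, b j = b' j ∨ (b' j = 0 ∧ π (iot A₀ A k (b j)) = 0)) :
    (Fq A₀ γ k π).law.toFun' (MvPolynomial (Fin r) A) (gen (fun j => iot A₀ A k (b j))) =
      (Fq A₀ γ k π).law.toFun' (MvPolynomial (Fin r) A) (gen (fun j => iot A₀ A k (b' j))) := by
  apply ev_separates_fin
  intro ν
  rw [Fq_apply, Fq_apply, ev_lTensor, ev_lTensor, tau_coeff, tau_coeff]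
  by_cases h : ∀ j, ν j ≠ 0 → b j = b' j
  · have : Orb (A := A) d (fun j => iot A₀ A k (b j)) ν = Orb d (fun j => iot A₀ A k (b' j)) ν :=
      Orb_congr _ _ ν (fun j hj => by rw [h j hj])
    congr 1
    exact Subtype.ext this
  · push Not at h
    obtain ⟨j, hj, hne⟩ := h
    rcases H j with heq | ⟨h0, hπ0⟩
    · exact absurd heq hne
    · have h1 : Orb (A := A) d (fun j => iot A₀ A k (b' j)) ν = 0 :=
        Orb_eq_zero _ ν j hj (by rw [h0, map_zero])
      have h2 : (⟨Orb d (fun j => iot A₀ A k (b' j)) ν, Orb_mem _ ν⟩ :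
          SymTen.TS A (MvPolynomial (Fin k) A) d) = 0 := Subtype.ext h1
      rw [h2, map_zero]
      show Ideal.Quotient.mk _ _ = 0
      rw [Ideal.Quotient.eq_zero_iff_mem]
      exact Orb_mem_Jp A₀ γ k π b ν j hj hπ0

/-- images of polynomials over `A₀` lying in `ker π` are in the kernel of the law `Fq` -/
theorem iot_mem_ker_Fq (f : MvPolynomial (Fin k) A₀) (hf : π (iot A₀ A k f) = 0) :
    iot A₀ A k f ∈ PolLaw.ker (Fq A₀ γ k π).law := by
  intro S _ _ x w
  obtain ⟨n, s, μ, rfl⟩ := exists_rep_iot A₀ A k S x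
  obtain ⟨n', s', μ', rfl⟩ := exists_rep_iot A₀ A k S w
  have e1 : (∑ j, s j ⊗ₜ[A] iot A₀ A k (μ j)) + (∑ l, s' l ⊗ₜ[A] iot A₀ A k (μ' l)) *
      ((1 : S) ⊗ₜ[A] iot A₀ A k f) =
      ∑ j, (Fin.append s s') j ⊗ₜ[A] iot A₀ A k ((Fin.append μ (fun l => μ' l * f)) j) := by
    rw [Fin.sum_univ_add, Finset.sum_mul]
    simp only [Fin.append_left, Fin.append_right, Algebra.TensorProduct.tmul_mul_tmul, mul_one,
      map_mul]
  have e2 : (∑ j, s j ⊗ₜ[A] iot A₀ A k (μ j)) =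
      ∑ j, (Fin.append s s') j ⊗ₜ[A] iot A₀ A k ((Fin.append μ (fun _ => 0)) j) := by
    rw [Fin.sum_univ_add]
    simp only [Fin.append_left, Fin.append_right, map_zero, TensorProduct.tmul_zero,
      Finset.sum_const_zero, add_zero]
  rw [e1]
  conv_rhs => rw [e2]
  rw [law_sum_eq, law_sum_eq]
  congr 1
  apply Fq_gen_eq
  intro j
  induction j using Fin.addCases with
  | left j => left; rw [Fin.append_left, Fin.append_left]
  | right l =>
    right
    rw [Fin.append_right, Fin.append_right]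
    exact ⟨rfl, by rw [map_mul, map_mul, hf, mul_zero]⟩

end core

end Groth.Agent.H9.TSJ
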