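import Mathlib
import Groth.Prelude.Def_PolLaw
import Groth.Prelude.Def_SymTen
import Groth.Agent.Lib.Helper9.Misc.TSJ5

/-! Helper9: Γ^d_A(B) is finitely presented when B is (S13714) -/

set_option linter.style.haveILetI false
set_option linter.unusedSectionVars false

namespace Groth.Agent.H9.TSJ
open scoped TensorProduct
open Groth.Agent.H9.TSG Groth.Agent.H9.PLR Groth.Agent.H9.PLZ Groth.Agent.H9.TSU Groth.Agent.H9.SPC
  Groth.Agent.H9.TSN Groth.Agent.H9.TSH
open PiTensorProduct

universe u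

section concl
variable (A₀ : Type u) [CommRing A₀] {A : Type u} [CommRing A] [Algebra A₀ A]
  {B : Type u} [CommRing B] [Algebra A B] {C : Type u} [CommRing C] [Algebra A C] {d : ℕ}
  (γ : PolLaw.MulLaw A B C d) (hγ : PolLaw.IsGammaD γ) (k : ℕ)
  (π : MvPolynomial (Fin k) A →ₐ[A] B) (hπ : Function.Surjective π)
  (F₀ : Set (MvPolynomial (Fin k) A₀))
  (hker : RingHom.ker π = Ideal.span (iot A₀ A k '' F₀))

include hγ hπ hker in
theorem ker_psi_le_Jp : RingHom.ker (psi γ (MvPolynomial (Fin k) A) π) ≤ Jp A₀ γ k π := by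
  have hFT : PolLaw.FactorsThrough (Fq A₀ γ k π).law (RingHom.ker π) := by
    apply factorsThrough_of_le
    rw [hker, Ideal.span_le]
    rintro _ ⟨f, hf, rfl⟩
    apply iot_mem_ker_Fq
    have : iot A₀ A k f ∈ RingHom.ker π := by
      rw [hker]
      exact Ideal.subset_span ⟨f, hf, rfl⟩
    exact this
  obtain ⟨G, hG⟩ := exists_desc (Fq A₀ γ k π) π hπ hFT
  obtain ⟨g, hg, -⟩ := hγ _ G
  have hcomp : g.comp (psi γ (MvPolynomial (Fin k) A) π) =
      Ideal.Quotient.mkₐ A (Jp A₀ γ k π) := by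
    refine (tau_isGammaD_of_flat (MvPolynomial (Fin k) A) d _ (Fq A₀ γ k π)).unique ?_ ?_
    · ext S _ _ x
      rw [postcomp_apply, AlgHom.comp_toLinearMap, LinearMap.lTensor_comp, LinearMap.comp_apply,
        psi_apply, ← hG S x]
      exact congrArg (fun L : B →ₚₗ[A] _ => L.toFun' S (π.toLinearMap.lTensor S x)) hg
    · rfl
  intro t ht
  have h0 : Ideal.Quotient.mkₐ A (Jp A₀ γ k π) t = 0 := by
    rw [← hcomp, AlgHom.comp_apply, (RingHom.mem_ker).1 ht, map_zero]
  exact Ideal.Quotient.eq_zero_iff_mem.1 h0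

include hγ hπ hker in
theorem ker_psi_fg [IsNoetherianRing A₀] :
    (RingHom.ker (psi γ (MvPolynomial (Fin k) A) π)).FG := by
  have heq : RingHom.ker (psi γ (MvPolynomial (Fin k) A) π) = Jp A₀ γ k π :=
    le_antisymm (ker_psi_le_Jp A₀ γ hγ k π hπ F₀ hker) (Jp_le A₀ γ k π)
  rw [heq]
  haveI : Algebra.FiniteType A₀ (SymTen.TS A₀ (MvPolynomial (Fin k) A₀) d) :=
    ⟨TS_mvPoly_fg_noeth A₀ k d⟩
  haveI : IsNoetherianRing (SymTen.TS A₀ (MvPolynomial (Fin k) A₀) d) :=
    Algebra.FiniteType.isNoetherianRing A₀ _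
  exact Ideal.FG.map (IsNoetherian.noetherian _) _

include hγ hπ hker in
theorem fp_of_presentation [IsNoetherianRing A₀] : Algebra.FinitePresentation A C := by
  haveI := TS_mvPoly_fp A k d
  have hsurj : Function.Surjective (psi γ (MvPolynomial (Fin k) A) π) :=
    S13717_main (tau A (MvPolynomial (Fin k) A) d) γ hγ π hπ _ (psi_spec γ _ π)
  exact Algebra.FinitePresentation.of_surjective hsurj (ker_psi_fg A₀ γ hγ k π hπ F₀ hker)

end concl

/-- S13714: the divided power algebra of a finitely presented algebra is finitely presented -/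
theorem S13714_main {A : Type u} [CommRing A] {B : Type u} [CommRing B] [Algebra A B]
    {C : Type u} [CommRing C] [Algebra A C] {d : ℕ} (γ : PolLaw.MulLaw A B C d)
    (hγ : PolLaw.IsGammaD γ) [Algebra.FinitePresentation A B] : Algebra.FinitePresentation A C := by
  classical
  obtain ⟨k, π, hπ, s, hs⟩ := Algebra.FinitePresentation.out (R := A) (A := B)
  let Cs : Finset A := s.biUnion MvPolynomial.coeffs
  let A₀ : Subalgebra ℤ A := Algebra.adjoin ℤ (Cs : Set A)
  haveI : Algebra.FiniteType ℤ A₀ :=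
    (Subalgebra.fg_iff_finiteType _).1 (Subalgebra.fg_adjoin_finset Cs)
  haveI : IsNoetherianRing A₀ := Algebra.FiniteType.isNoetherianRing ℤ A₀
  have hlift : ∀ p ∈ s, ∃ p₀ : MvPolynomial (Fin k) A₀, iot A₀ A k p₀ = p := by
    intro p hp
    have : p ∈ Set.range (MvPolynomial.map (algebraMap A₀ A)) := by
      rw [MvPolynomial.mem_range_map_iff_coeffs_subset]
      intro a ha
      refine ⟨⟨a, Algebra.subset_adjoin ?_⟩, rfl⟩
      rw [Finset.mem_coe, Finset.mem_biUnion]
      exact ⟨p, hp, ha⟩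
    obtain ⟨p₀, hp₀⟩ := this
    exact ⟨p₀, hp₀⟩
  choose! lift hlift using hlift
  refine fp_of_presentation A₀ γ hγ k π hπ (lift '' (s : Set _)) ?_
  have hs' : Ideal.span (s : Set (MvPolynomial (Fin k) A)) = RingHom.ker π := hs
  rw [← hs', Set.image_image]
  congr 1
  ext p
  constructor
  · intro hp
    exact ⟨p, hp, hlift p hp⟩
  · rintro ⟨p', hp', rfl⟩
    beta_reduce
    rw [hlift p' hp']
    exact hp'

end Groth.Agent.H9.TSJ
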