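import Mathlib
import Groth.Agent.Lib.Helper9.Misc.TSF3

/-! Helper9: the X ⊗ T^n version of the equational criterion of flatness -/

set_option linter.style.haveILetI false
set_option linter.unusedSectionVars false

namespace Groth.Agent.H9.TSK
open PiTensorProduct
open scoped TensorProduct
open Groth.Agent.H9.TSF

universe u
variable {R : Type u} [CommRing R]

lemma map_surjective {n : ℕ} {F N : Type u} [AddCommGroup F] [Module R F] [AddCommGroup N]
    [Module R N] (π : F →ₗ[R] N) (hπ : Function.Surjective π) :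
    Function.Surjective (PiTensorProduct.map (R := R) (fun _ : Fin n => π)) := by
  rw [← LinearMap.range_eq_top, eq_top_iff, ← PiTensorProduct.span_tprod_eq_top, Submodule.span_le]
  rintro _ ⟨g, rfl⟩
  refine ⟨tprod R (fun i => Function.surjInv hπ (g i)), ?_⟩
  rw [PiTensorProduct.map_tprod]
  congr 1
  funext i
  exact Function.surjInv_eq hπ (g i)

/-- span of the pure tensors `x ⊗ (f₁ ⊗ ⋯ ⊗ fₙ)` having an entry `fᵢ` in `ker π` -/
def kerSpanX (n : ℕ) {F N : Type u} [AddCommGroup F] [Module R F] [AddCommGroup N] [Module R N]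
    (π : F →ₗ[R] N) (X : Type u) [AddCommGroup X] [Module R X] :
    Submodule R (X ⊗[R] (⨂[R] _ : Fin n, F)) :=
  Submodule.span R {t | ∃ (x : X) (f : Fin n → F), (∃ i, π (f i) = 0) ∧ t = x ⊗ₜ[R] tprod R f}

theorem ker_lTensor_map_le {n : ℕ} {F N : Type u} [AddCommGroup F] [Module R F] [AddCommGroup N]
    [Module R N] (π : F →ₗ[R] N) (hπ : Function.Surjective π) (X : Type u) [AddCommGroup X]
    [Module R X] :
    LinearMap.ker ((PiTensorProduct.map (R := R) (fun _ : Fin n => π)).lTensor X) ≤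
      kerSpanX n π X := by
  intro w hw
  have hex := lTensor_exact X
    (LinearMap.exact_subtype_ker_map (PiTensorProduct.map (R := R) (fun _ : Fin n => π)))
    (map_surjective π hπ)
  obtain ⟨w'', rfl⟩ := (hex w).1 hw
  clear hw
  induction w'' using TensorProduct.induction_on with
  | zero => rw [map_zero]; exact Submodule.zero_mem _
  | add a b ha hb => rw [map_add]; exact Submodule.add_mem _ ha hb
  | tmul x κ =>
    rw [LinearMap.lTensor_tmul]
    have hκ : (κ : ⨂[R] _ : Fin n, F) ∈ kerSpan n π := ker_map_le_kerSpan n π hπ κ.2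
    have key : ∀ t ∈ kerSpan n π, x ⊗ₜ[R] t ∈ kerSpanX n π X := by
      intro t ht
      unfold kerSpan at ht
      induction ht using Submodule.span_induction with
      | mem t ht =>
        obtain ⟨f, hf, rfl⟩ := ht
        exact Submodule.subset_span ⟨x, f, hf, rfl⟩
      | zero => rw [TensorProduct.tmul_zero]; exact Submodule.zero_mem _
      | add a b _ _ ha hb => rw [TensorProduct.tmul_add]; exact Submodule.add_mem _ ha hb
      | smul c a _ ha => rw [TensorProduct.tmul_smul]; exact Submodule.smul_mem _ c ha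
    exact key _ hκ

lemma lTensor_map_comp {n : ℕ} {M₁ M₂ M₃ : Type u} [AddCommGroup M₁] [Module R M₁]
    [AddCommGroup M₂] [Module R M₂] [AddCommGroup M₃] [Module R M₃]
    (g : M₂ →ₗ[R] M₃) (f : M₁ →ₗ[R] M₂) (X : Type u) [AddCommGroup X] [Module R X]
    (w : X ⊗[R] (⨂[R] _ : Fin n, M₁)) :
    (PiTensorProduct.map (R := R) (fun _ : Fin n => g ∘ₗ f)).lTensor X w =
      (PiTensorProduct.map (R := R) (fun _ : Fin n => g)).lTensor X
        ((PiTensorProduct.map (R := R) (fun _ : Fin n => f)).lTensor X w) := by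
  rw [← LinearMap.comp_apply, ← LinearMap.lTensor_comp]
  congr 2
  exact LinearMap.ext fun x => map_comp_apply' g f x

/-- the `X ⊗ T^n`-version of the equational criterion of flatness -/
theorem exists_factorization_tensor_X (n : ℕ) {N : Type u} [AddCommGroup N] [Module R N]
    [Module.Flat R N]
    {F₀ : Type u} [AddCommGroup F₀] [Module R F₀] [Module.Finite R F₀] [Module.Free R F₀]
    (u₀ : F₀ →ₗ[R] N) (X : Type u) [AddCommGroup X] [Module R X]
    (w : X ⊗[R] (⨂[R] _ : Fin n, F₀))
    (hw : (PiTensorProduct.map (R := R) (fun _ : Fin n => u₀)).lTensor X w = 0) :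
    ∃ (k : ℕ) (a : F₀ →ₗ[R] (Fin k →₀ R)) (u₁ : (Fin k →₀ R) →ₗ[R] N),
      u₁ ∘ₗ a = u₀ ∧ (PiTensorProduct.map (R := R) (fun _ : Fin n => a)).lTensor X w = 0 := by
  classical
  -- the big free module
  let π : (F₀ × (N →₀ R)) →ₗ[R] N := u₀.coprod (Finsupp.linearCombination R id)
  have hπ : Function.Surjective π := by
    intro x
    exact ⟨(0, Finsupp.single x 1), by simp [π]⟩
  let ι : F₀ →ₗ[R] (F₀ × (N →₀ R)) := LinearMap.inl R F₀ (N →₀ R)
  have hπι : π ∘ₗ ι = u₀ := by
    ext x; simp [π, ι]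
  have hmem : (PiTensorProduct.map (R := R) (fun _ : Fin n => ι)).lTensor X w ∈
      kerSpanX n π X := by
    apply ker_lTensor_map_le π hπ X
    rw [LinearMap.mem_ker, ← lTensor_map_comp, hπι, hw]
  obtain ⟨m, c, g, hg⟩ := (Submodule.mem_span_set').mp hmem
  choose xx f hf using fun j => (g j).2
  choose i₀ hi₀ using fun j => (hf j).1
  have hgf : ∀ j, ((g j : _) : X ⊗[R] (⨂[R] _ : Fin n, (F₀ × (N →₀ R)))) =
      xx j ⊗ₜ[R] tprod R (f j) := fun j => (hf j).2
  -- the finite support
  let s : Finset N := Finset.univ.biUnion fun j : Fin m => Finset.univ.biUnion fun i : Fin n =>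
    ((f j i).2).support
  have hs : ∀ j i, ∀ x ∈ ((f j i).2).support, x ∈ (↑s : Set N) := by
    intro j i x hx
    simp only [s, Finset.coe_biUnion, Set.mem_iUnion, Finset.mem_coe]
    exact ⟨j, Finset.mem_univ _, i, Finset.mem_univ _, hx⟩
  haveI : Finite ↥(↑s : Set N) := (Finset.finite_toSet s).to_subtype
  let p : (F₀ × (N →₀ R)) →ₗ[R] (F₀ × (↥(↑s : Set N) →₀ R)) :=
    LinearMap.prodMap LinearMap.id (Finsupp.lsubtypeDomain (↑s : Set N))
  let ι' : (F₀ × (↥(↑s : Set N) →₀ R)) →ₗ[R] (F₀ × (N →₀ R)) :=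
    LinearMap.prodMap LinearMap.id (Finsupp.lmapDomain R R Subtype.val)
  have hι'p : ∀ x : F₀ × (N →₀ R), (∀ a ∈ (x.2).support, a ∈ (↑s : Set N)) → ι' (p x) = x := by
    intro x hx
    apply Prod.ext
    · rfl
    · show Finsupp.mapDomain Subtype.val (Finsupp.subtypeDomain (fun a => a ∈ (↑s : Set N)) x.2) = x.2
      have e1 := Finsupp.embDomain_eq_mapDomain (Function.Embedding.subtype (fun a => a ∈ (↑s : Set N)))
        (Finsupp.subtypeDomain (fun a => a ∈ (↑s : Set N)) x.2)
      have e2 := Finsupp.extendDomain_eq_embDomain_subtype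
        (Finsupp.subtypeDomain (fun a => a ∈ (↑s : Set N)) x.2)
      have e3 := Finsupp.extendDomain_subtypeDomain (P := fun a => a ∈ (↑s : Set N)) x.2 hx
      rw [e2, e1] at e3
      exact e3
  let u₀' : (F₀ × (↥(↑s : Set N) →₀ R)) →ₗ[R] N := π ∘ₗ ι'
  -- the finitely many kernel elements
  let fK : (Fin m →₀ R) →ₗ[R] (F₀ × (↥(↑s : Set N) →₀ R)) :=
    Finsupp.linearCombination R fun j => p (f j (i₀ j))
  have hfK : u₀' ∘ₗ fK = 0 := by
    apply Finsupp.lhom_ext'
    intro j
    ext
    simp only [LinearMap.coe_comp, Function.comp_apply, Finsupp.lsingle_apply,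
      LinearMap.zero_apply, fK, Finsupp.linearCombination_single, one_smul, u₀']
    rw [hι'p _ (hs j (i₀ j)), hi₀ j]
  obtain ⟨k, a', y, hya, haf⟩ := Module.Flat.exists_factorization_of_comp_eq_zero_of_free hfK
  refine ⟨k, a' ∘ₗ p ∘ₗ ι, y, ?_, ?_⟩
  · rw [← LinearMap.comp_assoc, ← hya]
    ext x
    show π (ι' (p (ι x))) = u₀ x
    rw [hι'p (ι x) (by intro a ha; simp [ι] at ha)]
    exact LinearMap.congr_fun hπι x
  · have h1 : (PiTensorProduct.map (R := R) (fun _ : Fin n => a' ∘ₗ p ∘ₗ ι)).lTensor X w =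
        (PiTensorProduct.map (R := R) (fun _ : Fin n => a' ∘ₗ p)).lTensor X
          ((PiTensorProduct.map (R := R) (fun _ : Fin n => ι)).lTensor X w) := by
      rw [← lTensor_map_comp]
      rfl
    rw [h1, ← hg, map_sum]
    apply Finset.sum_eq_zero
    intro j _
    rw [map_smul, hgf j, LinearMap.lTensor_tmul, PiTensorProduct.map_tprod]
    have h0 : (a' ∘ₗ p) (f j (i₀ j)) = 0 := by
      have := LinearMap.congr_fun haf (Finsupp.single j 1)
      simpa [fK] using this
    have h00 := MultilinearMap.map_coord_zero (tprod R (s := fun _ : Fin n => (Fin k →₀ R)))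
      (m := fun i => (a' ∘ₗ p) (f j i)) (i₀ j) h0
    rw [h00, TensorProduct.tmul_zero, smul_zero]

end Groth.Agent.H9.TSK
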