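import Mathlib
import Groth.Prelude.Def_SymTen
import Groth.Agent.Lib.Helper9.Misc.TSF5
import Groth.Agent.Lib.Helper9.Misc.TSK1

/-! Helper9: symmetric tensors of a flat module form a pure submodule of the tensor power -/

set_option linter.style.haveILetI false
set_option linter.unusedSectionVars false

namespace Groth.Agent.H9.TSK
open PiTensorProduct
open scoped TensorProduct
open Groth.Agent.H9.TSF

universe u
variable {R : Type u} [CommRing R]

/-- functoriality of symmetric tensors of modules -/
noncomputable def symMap (n : ℕ) {M₁ M₂ : Type u} [AddCommGroup M₁] [Module R M₁]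
    [AddCommGroup M₂] [Module R M₂] (f : M₁ →ₗ[R] M₂) : symSub R n M₁ →ₗ[R] symSub R n M₂ :=
  ((PiTensorProduct.map (R := R) (fun _ : Fin n => f)) ∘ₗ (symSub R n M₁).subtype).codRestrict _ (by
    intro z
    rw [mem_symSub]
    intro σ
    show reindex R (fun _ : Fin n => M₂) σ
      (PiTensorProduct.map (R := R) (fun _ : Fin n => f) z.1) = _
    rw [← map_reindex', (mem_symSub R n _).mp z.2 σ]
    rfl)

lemma symMap_val (n : ℕ) {M₁ M₂ : Type u} [AddCommGroup M₁] [Module R M₁]
    [AddCommGroup M₂] [Module R M₂] (f : M₁ →ₗ[R] M₂) (z : symSub R n M₁) :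
    (symMap n f z).1 = PiTensorProduct.map (R := R) (fun _ : Fin n => f) z.1 := rfl

/-- the retraction onto symmetric tensors of a finite free module -/
noncomputable def symRetract (k n : ℕ) :
    (⨂[R] _ : Fin n, (Fin k →₀ R)) →ₗ[R] symSub R n (Fin k →₀ R) :=
  (rho R k n).codRestrict _ (fun x => (mem_symSub R n _).mpr (fun σ => reindex_rho R k n σ x))

lemma symRetract_val (k n : ℕ) (z : symSub R n (Fin k →₀ R)) : symRetract k n z.1 = z :=
  Subtype.ext (rho_of_sym R k n z.1 ((mem_symSub R n _).mp z.2))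

lemma exists_fin_rep' {M : Type u} [AddCommGroup M] [Module R M] (X : Type u) [AddCommGroup X]
    [Module R X] (z : X ⊗[R] M) :
    ∃ (l : ℕ) (x : Fin l → X) (y : Fin l → M), z = ∑ i, x i ⊗ₜ[R] y i := by
  induction z using TensorProduct.induction_on with
  | zero => exact ⟨0, Fin.elim0, Fin.elim0, by simp⟩
  | tmul s b => exact ⟨1, fun _ => s, fun _ => b, by simp⟩
  | add x y hx hy =>
    obtain ⟨n, s, b, rfl⟩ := hx
    obtain ⟨n', s', b', rfl⟩ := hy
    refine ⟨n + n', Fin.append s s', Fin.append b b', ?_⟩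
    rw [Fin.sum_univ_add]
    simp

/-- symmetric tensors of a flat module form a pure submodule of the tensor power -/
theorem symSub_pure (M : Type u) [AddCommGroup M] [Module R M] [Module.Flat R M] (n : ℕ)
    (X : Type u) [AddCommGroup X] [Module R X] :
    Function.Injective ((symSub R n M).subtype.lTensor X) := by
  classical
  rw [injective_iff_map_eq_zero]
  intro z hz
  obtain ⟨l, x, y, rfl⟩ := exists_fin_rep' X z
  let xi : Fin l → ⨂[R] _ : Fin n, M := fun i => (y i).1
  have hxi : ∀ i σ, reindex R (fun _ : Fin n => M) σ (xi i) = xi i :=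
    fun i => (mem_symSub R n _).mp (y i).2
  obtain ⟨F₀, _, _, _, _, u₀, z₀, h₀⟩ := exists_rep_fam n l xi
  let Z : Finset (⨂[R] _ : Fin n, F₀) :=
    (Finset.univ : Finset (Fin l × Equiv.Perm (Fin n))).image fun p =>
      reindex R (fun _ : Fin n => F₀) p.2 (z₀ p.1) - z₀ p.1
  have hZ : ∀ z ∈ Z, PiTensorProduct.map (R := R) (fun _ : Fin n => u₀) z = 0 := by
    intro z hz
    obtain ⟨p, -, rfl⟩ := Finset.mem_image.mp hz
    rw [map_sub, map_reindex', h₀, hxi, sub_self]
  obtain ⟨k, a, u₁, h1, h2⟩ := exists_factorization_tensor_finset n u₀ Z hZ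
  let zi : Fin l → ⨂[R] _ : Fin n, (Fin k →₀ R) :=
    fun i => PiTensorProduct.map (R := R) (fun _ : Fin n => a) (z₀ i)
  have hzi_sym : ∀ i, zi i ∈ symSub R n (Fin k →₀ R) := by
    intro i
    rw [mem_symSub]
    intro σ
    have := h2 _ (Finset.mem_image.mpr ⟨(i, σ), Finset.mem_univ _, rfl⟩)
    rw [map_sub, map_reindex', sub_eq_zero] at this
    exact this
  have hzi_map : ∀ i, PiTensorProduct.map (R := R) (fun _ : Fin n => u₁) (zi i) = xi i := by
    intro i
    rw [← map_comp_apply', h1, h₀]
  -- the element of `X ⊗ T^n(R^k)`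
  let w₁ : X ⊗[R] (⨂[R] _ : Fin n, (Fin k →₀ R)) := ∑ i, x i ⊗ₜ[R] zi i
  have hw₁ : (PiTensorProduct.map (R := R) (fun _ : Fin n => u₁)).lTensor X w₁ = 0 := by
    rw [map_sum] at hz ⊢
    rw [← hz]
    refine Finset.sum_congr rfl fun i _ => ?_
    rw [LinearMap.lTensor_tmul, LinearMap.lTensor_tmul, hzi_map]
    rfl
  obtain ⟨k', a', u₂, h3, h4⟩ := exists_factorization_tensor_X n u₁ X w₁ hw₁
  have hz'_sym : ∀ i, PiTensorProduct.map (R := R) (fun _ : Fin n => a') (zi i) ∈
      symSub R n (Fin k' →₀ R) := fun i => (symMap n a' ⟨zi i, hzi_sym i⟩).2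
  let ζ : X ⊗[R] symSub R n (Fin k' →₀ R) :=
    ∑ i, x i ⊗ₜ[R] (symMap n a' ⟨zi i, hzi_sym i⟩)
  have hζ0 : (symSub R n (Fin k' →₀ R)).subtype.lTensor X ζ = 0 := by
    rw [← h4, map_sum, map_sum]
    refine Finset.sum_congr rfl fun i _ => ?_
    rw [LinearMap.lTensor_tmul, LinearMap.lTensor_tmul]
    rfl
  have hζ : ζ = 0 := by
    have hret : (symRetract k' n).lTensor X ((symSub R n (Fin k' →₀ R)).subtype.lTensor X ζ) = ζ := by
      rw [← LinearMap.comp_apply, ← LinearMap.lTensor_comp]
      have : symRetract (R := R) k' n ∘ₗ (symSub R n (Fin k' →₀ R)).subtype = LinearMap.id := by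
        ext z
        exact congrArg Subtype.val (symRetract_val k' n z)
      rw [this, LinearMap.lTensor_id, LinearMap.id_apply]
    rw [← hret, hζ0, map_zero]
  have hfin : (symMap n u₂).lTensor X ζ = ∑ i, x i ⊗ₜ[R] y i := by
    rw [map_sum]
    refine Finset.sum_congr rfl fun i _ => ?_
    rw [LinearMap.lTensor_tmul]
    congr 1
    apply Subtype.ext
    rw [symMap_val, symMap_val]
    show PiTensorProduct.map (R := R) (fun _ : Fin n => u₂)
      (PiTensorProduct.map (R := R) (fun _ : Fin n => a') (zi i)) = xi i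
    rw [← map_comp_apply', h3, hzi_map]
  rw [← hfin, hζ, map_zero]

end Groth.Agent.H9.TSK

namespace Groth.Agent.H9.TSK
open PiTensorProduct
open scoped TensorProduct
open Groth.Agent.H9.TSF

universe u

/-- symmetric tensors of a flat algebra form a pure submodule of the tensor power -/
theorem TS_pure {A : Type u} [CommRing A] (B : Type u) [CommRing B] [Algebra A B] [Module.Flat A B]
    (d : ℕ) (X : Type u) [AddCommGroup X] [Module A X] :
    Function.Injective ((SymTen.TS A B d).val.toLinearMap.lTensor X) := by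
  have h2 : Subalgebra.toSubmodule (SymTen.TS A B d) = symSub A d B := by
    ext x
    rw [mem_symSub]
    rfl
  have key := symSub_pure (R := A) B d X
  intro z z' h
  -- transport along the equality of submodules
  let e : ↥(SymTen.TS A B d) ≃ₗ[A] symSub A d B := LinearEquiv.ofEq _ _ h2
  have hcomp : (SymTen.TS A B d).val.toLinearMap = (symSub A d B).subtype ∘ₗ e.toLinearMap := by
    ext x
    rfl
  rw [hcomp, LinearMap.lTensor_comp, LinearMap.comp_apply, LinearMap.comp_apply] at h
  have h' := key h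
  have hinj : Function.Injective (e.toLinearMap.lTensor X) := by
    have : e.toLinearMap.lTensor X = (e.lTensor X).toLinearMap := rfl
    rw [this]
    exact (e.lTensor X).injective
  exact hinj h'

end Groth.Agent.H9.TSK
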