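import Mathlib

/-! Helper9: T^{d+1}(B) ≃ B ⊗ T^d(B) as algebras -/

set_option linter.style.haveILetI false
set_option linter.unusedSectionVars false

namespace Groth.Agent.H9.TSK
open PiTensorProduct
open scoped TensorProduct

universe u
variable (A : Type u) [CommRing A] (B : Type u) [CommRing B] [Algebra A B] (d : ℕ)

/-- first factor and the rest, as a multilinear map -/
noncomputable def splitMulti :
    MultilinearMap A (fun _ : Fin (d + 1) => B) (B ⊗[A] (⨂[A] _ : Fin d, B)) :=
  LinearMap.uncurryLeft
    ({ toFun := fun b₀ => (TensorProduct.mk A B (⨂[A] _ : Fin d, B) b₀).compMultilinearMap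
          (tprod A (s := fun _ : Fin d => B))
       map_add' := by
         intro x y
         ext m
         simp
       map_smul' := by
         intro c x
         ext m
         simp [TensorProduct.smul_tmul'] } :
      B →ₗ[A] MultilinearMap A (fun _ : Fin d => B) (B ⊗[A] (⨂[A] _ : Fin d, B)))

lemma splitMulti_apply (b : Fin (d + 1) → B) :
    splitMulti A B d b = b 0 ⊗ₜ[A] tprod A (fun i : Fin d => b i.succ) := rfl

/-- `T^{d+1}(B) → B ⊗ T^d(B)` -/
noncomputable def splitHom : (⨂[A] _ : Fin (d + 1), B) →ₐ[A] B ⊗[A] (⨂[A] _ : Fin d, B) :=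
  PiTensorProduct.liftAlgHom (splitMulti A B d)
    (by
      rw [splitMulti_apply]
      rfl)
    (by
      intro x y
      rw [splitMulti_apply, splitMulti_apply, splitMulti_apply,
        Algebra.TensorProduct.tmul_mul_tmul, PiTensorProduct.tprod_mul_tprod]
      rfl)

lemma splitHom_tprod (b : Fin (d + 1) → B) :
    splitHom A B d (tprod A b) = b 0 ⊗ₜ[A] tprod A (fun i : Fin d => b i.succ) := by
  rw [splitHom, PiTensorProduct.liftAlgHom_apply, PiTensorProduct.lift.tprod, splitMulti_apply]

/-- `T^d(B) → T^{d+1}(B)`, inserting `1` in the first slot -/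
noncomputable def shiftHom : (⨂[A] _ : Fin d, B) →ₐ[A] (⨂[A] _ : Fin (d + 1), B) :=
  PiTensorProduct.liftAlgHom
    ((tprod A (s := fun _ : Fin (d + 1) => B)).curryLeft (1 : B))
    (by
      show PiTensorProduct.tprod A (s := fun _ : Fin (d + 1) => B)
        (Fin.cons (1 : B) (1 : Fin d → B)) = 1
      rw [PiTensorProduct.one_def]
      congr 1
      funext i
      refine Fin.cases rfl (fun j => rfl) i)
    (by
      intro x y
      show PiTensorProduct.tprod A (s := fun _ : Fin (d + 1) => B) (Fin.cons (1 : B) (x * y)) =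
        PiTensorProduct.tprod A (s := fun _ : Fin (d + 1) => B) (Fin.cons (1 : B) x) *
          PiTensorProduct.tprod A (s := fun _ : Fin (d + 1) => B) (Fin.cons (1 : B) y)
      rw [PiTensorProduct.tprod_mul_tprod]
      congr 1
      funext i
      refine Fin.cases ?_ (fun j => ?_) i
      · simp
      · simp)

lemma shiftHom_tprod (b : Fin d → B) :
    shiftHom A B d (tprod A b) = tprod A (Fin.cons (1 : B) b : Fin (d + 1) → B) := by
  rw [shiftHom, PiTensorProduct.liftAlgHom_apply, PiTensorProduct.lift.tprod]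
  rfl

/-- `B ⊗ T^d(B) → T^{d+1}(B)` -/
noncomputable def joinHom : B ⊗[A] (⨂[A] _ : Fin d, B) →ₐ[A] (⨂[A] _ : Fin (d + 1), B) :=
  Algebra.TensorProduct.lift (PiTensorProduct.singleAlgHom (R := A) (A := fun _ : Fin (d + 1) => B) 0)
    (shiftHom A B d) (fun _ _ => Commute.all _ _)

lemma joinHom_tmul_tprod (b₀ : B) (b : Fin d → B) :
    joinHom A B d (b₀ ⊗ₜ[A] tprod A b) = tprod A (Fin.cons b₀ b : Fin (d + 1) → B) := by
  rw [joinHom, Algebra.TensorProduct.lift_tmul, shiftHom_tprod, PiTensorProduct.singleAlgHom_apply,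
    PiTensorProduct.tprod_mul_tprod]
  congr 1
  funext i
  refine Fin.cases ?_ (fun j => ?_) i
  · simp
  · simp [Fin.succ_ne_zero]

theorem joinHom_splitHom (t : ⨂[A] _ : Fin (d + 1), B) : joinHom A B d (splitHom A B d t) = t := by
  induction t using PiTensorProduct.induction_on with
  | smul_tprod r b =>
    rw [map_smul, map_smul, splitHom_tprod, joinHom_tmul_tprod]
    congr 2
    funext i
    refine Fin.cases rfl (fun j => rfl) i
  | add x y hx hy => rw [map_add, map_add, hx, hy]

theorem splitHom_joinHom (t : B ⊗[A] (⨂[A] _ : Fin d, B)) : splitHom A B d (joinHom A B d t) = t := by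
  induction t using TensorProduct.induction_on with
  | zero => simp
  | tmul b₀ t =>
    induction t using PiTensorProduct.induction_on with
    | smul_tprod r b =>
      rw [TensorProduct.tmul_smul, map_smul, map_smul, joinHom_tmul_tprod, splitHom_tprod]
      rfl
    | add x y hx hy => rw [TensorProduct.tmul_add, map_add, map_add, hx, hy]
  | add x y hx hy => rw [map_add, map_add, hx, hy]

/-- `T^{d+1}(B) ≃ B ⊗ T^d(B)` as algebras -/
noncomputable def splitEquiv : (⨂[A] _ : Fin (d + 1), B) ≃ₐ[A] B ⊗[A] (⨂[A] _ : Fin d, B) :=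
  AlgEquiv.ofAlgHom (splitHom A B d) (joinHom A B d)
    (AlgHom.ext (splitHom_joinHom A B d)) (AlgHom.ext (joinHom_splitHom A B d))

/-- `T^0(B) ≃ A` as algebras -/
noncomputable def zeroEquiv : A ≃ₐ[A] (⨂[A] _ : Fin 0, B) :=
  AlgEquiv.ofBijective (Algebra.ofId A _) (by
    have h : ∀ r : A, Algebra.ofId A (⨂[A] _ : Fin 0, B) r =
        (PiTensorProduct.isEmptyEquiv (R := A) (s := fun _ : Fin 0 => B) (Fin 0)).symm r := by
      intro r
      rw [PiTensorProduct.isEmptyEquiv_symm_apply, Algebra.ofId_apply, Algebra.algebraMap_eq_smul_one,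
        PiTensorProduct.one_def]
      congr 2
      funext i
      exact i.elim0
    constructor
    · intro r r' hr
      rw [h, h] at hr
      exact (PiTensorProduct.isEmptyEquiv (R := A) (s := fun _ : Fin 0 => B) (Fin 0)).symm.injective hr
    · intro t
      obtain ⟨r, hr⟩ := (PiTensorProduct.isEmptyEquiv (R := A) (s := fun _ : Fin 0 => B)
        (Fin 0)).symm.surjective t
      exact ⟨r, by rw [h, hr]⟩)

end Groth.Agent.H9.TSK
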