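import Mathlib

/-! Helper9: reduced ⊗ geometrically reduced is reduced (field-point form) -/

set_option linter.style.haveILetI false
set_option linter.unusedSectionVars false

namespace Groth.Agent.H9.TSK
open scoped TensorProduct

universe u

/-- coordinates w.r.t. a basis of the left factor are natural in the right factor -/
lemma coord_lTensor {K : Type u} [CommRing K] {V : Type u} [AddCommGroup V] [Module K V]
    {ι : Type*} [DecidableEq ι] (ℬ : Module.Basis ι K V) {N N' : Type u} [AddCommGroup N] [Module K N]
    [AddCommGroup N'] [Module K N'] (φ : N →ₗ[K] N') (z : V ⊗[K] N) (j : ι) :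
    TensorProduct.equivFinsuppOfBasisLeft ℬ (φ.lTensor V z) j =
      φ (TensorProduct.equivFinsuppOfBasisLeft ℬ z j) := by
  induction z using TensorProduct.induction_on with
  | zero => simp
  | tmul v n =>
    rw [LinearMap.lTensor_tmul, TensorProduct.equivFinsuppOfBasisLeft_apply_tmul_apply,
      TensorProduct.equivFinsuppOfBasisLeft_apply_tmul_apply, map_smul]
  | add x y hx hy => simp only [map_add, Finsupp.add_apply, hx, hy]

lemma map_id_eq_lTensor' {K : Type u} [CommRing K] {V : Type u} [CommRing V] [Algebra K V]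
    {N N' : Type u} [CommRing N] [Algebra K N] [CommRing N'] [Algebra K N'] (φ : N →ₐ[K] N')
    (z : V ⊗[K] N) :
    Algebra.TensorProduct.map (AlgHom.id K V) φ z = φ.toLinearMap.lTensor V z := by
  induction z using TensorProduct.induction_on with
  | zero => simp
  | tmul a b => rfl
  | add a b ha hb => simp [ha, hb]

/-- over a field: if `V ⊗ L` is reduced for every field extension `L`, then `V ⊗ R'` is reduced
for every reduced algebra `R'` -/
theorem isReduced_tensor_of_fields {K : Type u} [Field K] {V : Type u} [CommRing V] [Algebra K V]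
    (hV : ∀ (L : Type u) [Field L] [Algebra K L], IsReduced (V ⊗[K] L))
    (R' : Type u) [CommRing R'] [Algebra K R'] [IsReduced R'] : IsReduced (V ⊗[K] R') := by
  classical
  constructor
  intro z hz
  let ℬ := Module.Free.chooseBasis K V
  apply (TensorProduct.equivFinsuppOfBasisLeft (N := R') ℬ).injective
  ext j
  rw [map_zero, Finsupp.zero_apply]
  have hmem : TensorProduct.equivFinsuppOfBasisLeft ℬ z j ∈ nilradical R' := by
    rw [nilradical_eq_sInf, Ideal.mem_sInf]
    intro p hp
    haveI : p.IsPrime := hp
    let φ : R' →ₐ[K] p.ResidueField := IsScalarTower.toAlgHom K R' p.ResidueField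
    have hzp : IsNilpotent (Algebra.TensorProduct.map (AlgHom.id K V) φ z) := hz.map _
    have h0 := (hV p.ResidueField).eq_zero _ hzp
    rw [map_id_eq_lTensor'] at h0
    have h2 := coord_lTensor ℬ φ.toLinearMap z j
    rw [h0, map_zero, Finsupp.zero_apply] at h2
    exact Ideal.algebraMap_residueField_eq_zero.1 h2.symm
  rwa [nilradical_eq_zero, Ideal.zero_eq_bot, Ideal.mem_bot] at hmem

/-- `R' ⊗_A B` is reduced for `R'` a reduced algebra over a field `K` over `A`, when all
`L ⊗_A B` (`L` a field) are reduced -/
theorem isReduced_tensor_of_geomReduced {A : Type u} [CommRing A] {B : Type u} [CommRing B]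
    [Algebra A B] (hred : ∀ (L : Type u) [Field L] [Algebra A L], IsReduced (L ⊗[A] B))
    (K : Type u) [Field K] [Algebra A K] (R' : Type u) [CommRing R'] [Algebra A R'] [Algebra K R']
    [IsScalarTower A K R'] [IsReduced R'] : IsReduced (R' ⊗[A] B) := by
  have hV : ∀ (L : Type u) [Field L] [Algebra K L], IsReduced ((K ⊗[A] B) ⊗[K] L) := by
    intro L _ _
    letI : Algebra A L := ((algebraMap K L).comp (algebraMap A K)).toAlgebra
    haveI : IsScalarTower A K L := IsScalarTower.of_algebraMap_eq fun _ => rfl
    haveI := hred L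
    let e1 : (K ⊗[A] B) ⊗[K] L ≃ₐ[K] L ⊗[K] (K ⊗[A] B) := Algebra.TensorProduct.comm K _ _
    let e2 : L ⊗[K] (K ⊗[A] B) ≃ₐ[K] L ⊗[A] B := Algebra.TensorProduct.cancelBaseChange A K K L B
    exact isReduced_of_injective (e1.trans e2).toAlgHom.toRingHom (e1.trans e2).injective
  haveI := isReduced_tensor_of_fields hV R'
  let e1 : R' ⊗[A] B ≃ₐ[K] R' ⊗[K] (K ⊗[A] B) :=
    (Algebra.TensorProduct.cancelBaseChange A K K R' B).symm
  let e2 : R' ⊗[K] (K ⊗[A] B) ≃ₐ[K] (K ⊗[A] B) ⊗[K] R' := Algebra.TensorProduct.comm K _ _
  exact isReduced_of_injective (e1.trans e2).toAlgHom.toRingHom (e1.trans e2).injective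

end Groth.Agent.H9.TSK
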