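import Mathlib
import Groth.Prelude.Def_PolLaw
import Groth.Prelude.Def_SymTen
import Groth.Agent.Lib.Helper9.Misc.TSN3
import Groth.Agent.Lib.Helper9.Misc.TSK2
import Groth.Agent.Lib.Helper9.Misc.TSK3
import Groth.Agent.Lib.Helper9.Misc.TSK4

/-! Helper9: geometrically reduced fibres of Γ^d_A(B) for flat B (S13730) -/

set_option linter.style.haveILetI false
set_option linter.unusedSectionVars false

namespace Groth.Agent.H9.TSK
open scoped TensorProduct
open Groth.Agent.H9.TSG Groth.Agent.H9.TSN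

universe u

section tens
variable {A : Type u} [CommRing A] {B : Type u} [CommRing B] [Algebra A B]
  (hred : ∀ (L : Type u) [Field L] [Algebra A L], IsReduced (L ⊗[A] B))
  (K : Type u) [Field K] [Algebra A K]

include hred in
/-- base changes of the tensor powers to reduced algebras over a field stay reduced -/
theorem isReduced_tensor_tpow (d : ℕ) :
    ∀ (R' : Type u) [CommRing R'] [Algebra A R'] [Algebra K R'] [IsScalarTower A K R']
      [IsReduced R'], IsReduced (R' ⊗[A] (⨂[A] _ : Fin d, B)) := by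
  induction d with
  | zero =>
    intro R' _ _ _ _ _
    let e1 : R' ⊗[A] (⨂[A] _ : Fin 0, B) ≃ₐ[A] R' ⊗[A] A :=
      Algebra.TensorProduct.congr AlgEquiv.refl (zeroEquiv A B).symm
    let e2 : R' ⊗[A] A ≃ₐ[A] R' := Algebra.TensorProduct.rid A A R'
    exact isReduced_of_injective (e1.trans e2).toAlgHom.toRingHom (e1.trans e2).injective
  | succ d ih =>
    intro R' _ _ _ _ _
    haveI : IsReduced (R' ⊗[A] B) := isReduced_tensor_of_geomReduced hred K R'
    haveI := ih (R' ⊗[A] B)
    let e1 : R' ⊗[A] (⨂[A] _ : Fin (d + 1), B) ≃ₐ[A] R' ⊗[A] (B ⊗[A] (⨂[A] _ : Fin d, B)) :=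
      Algebra.TensorProduct.congr AlgEquiv.refl (splitEquiv A B d)
    let e2 : (R' ⊗[A] B) ⊗[A] (⨂[A] _ : Fin d, B) ≃ₐ[A] R' ⊗[A] (B ⊗[A] (⨂[A] _ : Fin d, B)) :=
      Algebra.TensorProduct.assoc A A A R' B (⨂[A] _ : Fin d, B)
    exact isReduced_of_injective (e1.trans e2.symm).toAlgHom.toRingHom (e1.trans e2.symm).injective

end tens

/-- S13730: geometrically reduced fibres of the divided power algebra -/
theorem S13730_main {A : Type u} [CommRing A] {B : Type u} [CommRing B] [Algebra A B]
    {C : Type u} [CommRing C] [Algebra A C] {d : ℕ} (γ : PolLaw.MulLaw A B C d)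
    (hγ : PolLaw.IsGammaD γ) [Module.Flat A B]
    (hred : ∀ (K : Type u) [Field K] [Algebra A K], IsReduced (K ⊗[A] B)) :
    ∀ (K : Type u) [Field K] [Algebra A K], IsReduced (K ⊗[A] C) := by
  intro K _ _
  obtain ⟨e, -⟩ := algEquiv_of_isGammaD γ hγ (tau A B d) (tau_isGammaD_of_flat B d)
  haveI : IsReduced (K ⊗[A] (⨂[A] _ : Fin d, B)) := isReduced_tensor_tpow hred K d K
  -- `K ⊗ TS` embeds in `K ⊗ T^d`
  have hinj : Function.Injective
      (Algebra.TensorProduct.map (AlgHom.id A K) (SymTen.TS A B d).val) := by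
    have h := TS_pure (A := A) B d K
    intro z z' hz
    apply h
    rw [← map_id_eq_lTensor', ← map_id_eq_lTensor']
    exact hz
  haveI : IsReduced (K ⊗[A] (SymTen.TS A B d)) :=
    isReduced_of_injective
      (Algebra.TensorProduct.map (AlgHom.id A K) (SymTen.TS A B d).val).toRingHom hinj
  let e1 : K ⊗[A] C ≃ₐ[A] K ⊗[A] (SymTen.TS A B d) :=
    Algebra.TensorProduct.congr AlgEquiv.refl e
  exact isReduced_of_injective e1.toAlgHom.toRingHom e1.injective

end Groth.Agent.H9.TSK
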