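import Mathlib
import Groth.Prelude.Def_PolLaw
import Groth.Agent.Lib.Helper9.Misc.PLZ6

/-! Helper9: descent of a polynomial law along a surjective algebra map -/

set_option linter.style.haveILetI false
set_option linter.unusedSectionVars false

namespace Groth.Agent.H9.TSN
open scoped TensorProduct
open Groth.Agent.H9.PLR Groth.Agent.H9.PLZ

universe u
variable {A : Type u} [CommRing A]
variable {Q Q' C : Type u} [CommRing Q] [Algebra A Q] [CommRing Q'] [Algebra A Q']
  [CommRing C] [Algebra A C]

section descend
variable (F : Q →ₚₗ[A] C) (q : Q →ₐ[A] Q') (hq : Function.Surjective q)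
  (hker : ∀ k : Q, q k = 0 → k ∈ PolLaw.ker F)

include hq hker in
/-- adding an element killed by `S ⊗ q` does not change the value -/
lemma toFun'_add_of_lTensor_eq_zero (S : Type u) [CommSemiring S] [Algebra A S] (x k : S ⊗[A] Q)
    (hk : q.toLinearMap.lTensor S k = 0) : F.toFun' S (x + k) = F.toFun' S x := by
  let _ : CommRing S := commRingOfAlg A S
  have hex := lTensor_exact S (LinearMap.exact_subtype_ker_map q.toLinearMap)
    (show Function.Surjective q.toLinearMap from hq)
  obtain ⟨e, rfl⟩ := (hex k).mp hk
  have key : ∀ (e : S ⊗[A] ↥(LinearMap.ker q.toLinearMap)) (x : S ⊗[A] Q),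
      F.toFun' S (x + (LinearMap.ker q.toLinearMap).subtype.lTensor S e) = F.toFun' S x := by
    intro e
    induction e using TensorProduct.induction_on with
    | zero => intro x; rw [map_zero, add_zero]
    | tmul s k₀ =>
      intro x
      rw [LinearMap.lTensor_tmul]
      have h1 : (s ⊗ₜ[A] ((LinearMap.ker q.toLinearMap).subtype k₀) : S ⊗[A] Q) =
          (s ⊗ₜ[A] (1 : Q)) * ((1 : S) ⊗ₜ[A] (k₀ : Q)) := by
        rw [Algebra.TensorProduct.tmul_mul_tmul, mul_one, one_mul]
        rfl
      rw [h1]
      exact hker k₀.1 k₀.2 S x _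
    | add e₁ e₂ h₁ h₂ =>
      intro x
      rw [map_add, ← add_assoc, h₂, h₁]
  exact key e x

include hq hker in
lemma toFun'_eq_of_lTensor_eq (S : Type u) [CommSemiring S] [Algebra A S] (w w' : S ⊗[A] Q)
    (h : q.toLinearMap.lTensor S w = q.toLinearMap.lTensor S w') :
    F.toFun' S w = F.toFun' S w' := by
  let _ : CommRing S := commRingOfAlg A S
  have h1 : w = w' + (w - w') := by abel
  rw [h1]
  apply toFun'_add_of_lTensor_eq_zero F q hq hker
  rw [map_sub, h, sub_self]

/-- a chosen lift along `S ⊗ q` -/
noncomputable def liftQ (S : Type u) [CommSemiring S] [Algebra A S] (y : S ⊗[A] Q') : S ⊗[A] Q :=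
  Classical.choose (LinearMap.lTensor_surjective S
    (show Function.Surjective q.toLinearMap from hq) y)

lemma liftQ_spec (S : Type u) [CommSemiring S] [Algebra A S] (y : S ⊗[A] Q') :
    q.toLinearMap.lTensor S (liftQ q hq S y) = y :=
  Classical.choose_spec (LinearMap.lTensor_surjective S
    (show Function.Surjective q.toLinearMap from hq) y)

/-- the descent of a law along a surjective algebra map whose kernel lies in the kernel of the law -/
noncomputable def descend : Q' →ₚₗ[A] C where
  toFun' S _ _ := fun y => F.toFun' S (liftQ q hq S y)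
  isCompat' {S} _ _ {S'} _ _ φ := by
    funext y
    simp only [Function.comp_apply]
    rw [PolynomialLaw.isCompat_apply']
    apply toFun'_eq_of_lTensor_eq F q hq hker
    rw [liftQ_spec, ← LinearMap.comp_apply, LinearMap.lTensor_comp_rTensor,
      ← LinearMap.rTensor_comp_lTensor, LinearMap.comp_apply, liftQ_spec]

lemma descend_apply (S : Type u) [CommSemiring S] [Algebra A S] (w : S ⊗[A] Q) :
    (descend F q hq hker).toFun' S (q.toLinearMap.lTensor S w) = F.toFun' S w := by
  show F.toFun' S (liftQ q hq S _) = _
  apply toFun'_eq_of_lTensor_eq F q hq hker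
  rw [liftQ_spec]

lemma descend_isMult (hF : PolLaw.IsMult F) : PolLaw.IsMult (descend F q hq hker) := by
  intro S _ _
  constructor
  · have h1 : (1 : S ⊗[A] Q') = q.toLinearMap.lTensor S 1 := by
      rw [PolLaw.lTensor_algHom_apply, map_one]
    rw [h1, descend_apply, (hF S).1]
  · intro y y'
    have hy := liftQ_spec q hq S y
    have hy' := liftQ_spec q hq S y'
    have h1 : y * y' = q.toLinearMap.lTensor S (liftQ q hq S y * liftQ q hq S y') := by
      rw [PolLaw.lTensor_algHom_apply, map_mul, ← PolLaw.lTensor_algHom_apply,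
        ← PolLaw.lTensor_algHom_apply, hy, hy']
    rw [h1, descend_apply, (hF S).2]
    conv_rhs => rw [← hy, ← hy', descend_apply, descend_apply]

lemma descend_isHomog {n : ℕ} (hF : PolLaw.IsHomog F n) :
    PolLaw.IsHomog (descend F q hq hker) n := by
  intro S _ _ s y
  have hy := liftQ_spec q hq S y
  have h1 : s • y = q.toLinearMap.lTensor S (s • liftQ q hq S y) := by
    rw [Groth.Agent.H9.PLG.lTensor_smul', hy]
  rw [h1, descend_apply, hF]
  conv_rhs => rw [← hy, descend_apply]

end descend

end Groth.Agent.H9.TSN
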