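import Mathlib
import Groth.Prelude.Def_PolLaw
import Groth.Prelude.Def_SymTen
import Groth.Agent.Lib.Helper9.Misc.TSF1
import Groth.Agent.Lib.Helper9.Misc.TSN3
import Groth.Agent.Lib.Helper9.Misc.TSN4

/-! Helper9: the norm law T^d(B) → Gamma^d(B) of degree d! (S13396) -/

set_option linter.style.haveILetI false
set_option linter.unusedSectionVars false

namespace Groth.Agent.H9.TSN
open scoped TensorProduct
open Groth.Agent.H9.PLR Groth.Agent.H9.PLZ Groth.Agent.H9.TSG Groth.Agent.H9.TSC Groth.Agent.H9.TSF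
open PiTensorProduct

universe u
variable {A : Type u} [CommRing A]
variable {B B' : Type u} [CommRing B] [Algebra A B] [CommRing B'] [Algebra A B']
variable {C : Type u} [CommRing C] [Algebra A C]

section tmap
variable (d : ℕ) (f : B →ₐ[A] B')

lemma tmap_toLinearMap :
    (SymTen.tmap A d f).toLinearMap = PiTensorProduct.map (R := A) (fun _ : Fin d => f.toLinearMap) := by
  apply PiTensorProduct.ext
  ext g
  simp [SymTen.tmap_tprod, PiTensorProduct.map_tprod]

lemma tmap_surjective (hf : Function.Surjective f) : Function.Surjective (SymTen.tmap A d f) := by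
  intro z
  induction z using PiTensorProduct.induction_on with
  | smul_tprod r g =>
    choose g' hg' using fun i => hf (g i)
    exact ⟨r • tprod A g', by simp [hg']⟩
  | add x y hx hy =>
    obtain ⟨x', rfl⟩ := hx
    obtain ⟨y', rfl⟩ := hy
    exact ⟨x' + y', map_add _ _ _⟩

lemma tprod_eq_inj_mul (g : Fin d → B) (i : Fin d) :
    tprod A g = inj A B d i (g i) * tprod A (Function.update g i 1) := by
  classical
  rw [inj, PiTensorProduct.singleAlgHom_apply, PiTensorProduct.tprod_mul_tprod]
  congr 1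
  funext j
  by_cases h : j = i
  · subst h; simp
  · simp [h]

end tmap

section main
variable {d : ℕ} (γ : PolLaw.MulLaw A B C d)

lemma ker_tmap_le (k : ⨂[A] _ : Fin d, MvPolynomial B A)
    (hk : SymTen.tmap A d (piB (A := A) (B := B)) k = 0) :
    k ∈ PolLaw.ker (Ft γ (MvPolynomial B A) piB).law := by
  have h1 : k ∈ kerSpan d (piB (A := A) (B := B)).toLinearMap := by
    apply ker_map_le_kerSpan d _ piB_surjective
    rw [LinearMap.mem_ker, ← tmap_toLinearMap]
    exact hk
  unfold kerSpan at h1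
  clear hk
  induction h1 using Submodule.span_induction with
  | mem t ht =>
    obtain ⟨g, ⟨i, hi⟩, rfl⟩ := ht
    rw [tprod_eq_inj_mul d g i]
    exact Ideal.mul_mem_right _ _ (inj_mem_ker_Ft γ (g i) hi i)
  | zero => exact Ideal.zero_mem _
  | add _ _ _ _ hx hy => exact Ideal.add_mem _ hx hy
  | smul a x _ hx =>
    exact Submodule.smul_of_tower_mem _ a hx

/-- the norm law `T^d(B) → Γ^d(B)` -/
noncomputable def Fnorm : PolLaw.MulLaw A (⨂[A] _ : Fin d, B) C d.factorial where
  law := descend (Ft γ (MvPolynomial B A) piB).law (SymTen.tmap A d piB)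
    (tmap_surjective d _ piB_surjective) (ker_tmap_le γ)
  homog := descend_isHomog _ _ _ _ (Ft γ (MvPolynomial B A) piB).homog
  mult := descend_isMult _ _ _ _ (Ft γ (MvPolynomial B A) piB).mult

lemma Fnorm_apply (S : Type u) [CommSemiring S] [Algebra A S]
    (w : S ⊗[A] (⨂[A] _ : Fin d, MvPolynomial B A)) :
    (Fnorm γ).law.toFun' S ((SymTen.tmap A d piB).toLinearMap.lTensor S w) =
      (Ft γ (MvPolynomial B A) piB).law.toFun' S w :=
  descend_apply _ _ (tmap_surjective d _ piB_surjective) (ker_tmap_le γ) S w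

end main

section final
variable {d : ℕ} (γ : PolLaw.MulLaw A B C d) (φ : C →ₐ[A] SymTen.TS A B d)
  (hφ : ∀ (S : Type u) [CommSemiring S] [Algebra A S] (n : ℕ) (s : Fin n → S) (b : Fin n → B),
      ((SymTen.TS A B d).val.comp φ).toLinearMap.lTensor S (γ.law.toFun' S (∑ j, s j ⊗ₜ[A] b j)) =
        ∑ c : Fin d → Fin n, (∏ i, s (c i)) ⊗ₜ[A] PiTensorProduct.tprod A (fun i => b (c i)))

include hφ in
lemma phi_gamma : PolLaw.postcomp φ.toLinearMap γ.law = (tau A B d).law := by
  apply law_ext_inj (SymTen.TS A B d).val.toLinearMap (val_injective _)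
  intro σ p
  obtain ⟨n, s, b, rfl⟩ := exists_fin_rep _ p
  rw [tau_sum, ← hφ]
  change _ = ((SymTen.TS A B d).val.comp φ).toLinearMap.lTensor _ _
  rw [AlgHom.comp_toLinearMap, LinearMap.lTensor_comp, LinearMap.comp_apply]
  rfl

include hφ in
lemma phi_gamma_apply (S : Type u) [CommSemiring S] [Algebra A S] (y : S ⊗[A] B) :
    φ.toLinearMap.lTensor S (γ.law.toFun' S y) = (tau A B d).law.toFun' S y :=
  congrArg (fun L : B →ₚₗ[A] SymTen.TS A B d => L.toFun' S y) (phi_gamma γ φ hφ)

include hφ in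
lemma phi_comp_psi (P : Type u) [CommRing P] [Algebra A P] [Module.Flat A P] (π : P →ₐ[A] B) :
    φ.comp (psi γ P π) = SymTen.TSmap A d π := by
  have h1 : φ.comp (psi γ P π) = psi (tau A B d) P π := by
    apply psi_unique
    intro S _ _ x
    rw [AlgHom.comp_toLinearMap, LinearMap.lTensor_comp, LinearMap.comp_apply, psi_apply,
      phi_gamma_apply γ φ hφ]
  have h2 : SymTen.TSmap A d π = psi (tau A B d) P π := by
    apply psi_unique
    intro S _ _ x
    exact congrArg (fun L : P →ₚₗ[A] SymTen.TS A B d => L.toFun' S x) (TSmap_tau d π)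
  rw [h1, h2]

lemma lid_lTensor {M N : Type u} [AddCommGroup M] [Module A M] [AddCommGroup N] [Module A N]
    (f : M →ₗ[A] N) (w : A ⊗[A] M) :
    TensorProduct.lid A N (f.lTensor A w) = f (TensorProduct.lid A M w) := by
  induction w using TensorProduct.induction_on with
  | zero => simp
  | tmul a m => simp
  | add x y hx hy => simp only [map_add, hx, hy]

include hφ in
/-- `φ ∘ Fnorm` is the symmetric norm law -/
lemma phi_Fnorm (S : Type u) [CommSemiring S] [Algebra A S] (z : S ⊗[A] (⨂[A] _ : Fin d, B)) :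
    φ.toLinearMap.lTensor S ((Fnorm γ).law.toFun' S z) = (Gsym A B d).law.toFun' S z := by
  obtain ⟨w, rfl⟩ := LinearMap.lTensor_surjective S
    (show Function.Surjective (SymTen.tmap A d (piB (A := A) (B := B))).toLinearMap from
      tmap_surjective d _ piB_surjective) z
  rw [Fnorm_apply, Ft_apply, ← LinearMap.comp_apply, ← LinearMap.lTensor_comp,
    ← AlgHom.comp_toLinearMap, phi_comp_psi γ φ hφ]
  exact congrArg (fun L : (⨂[A] _ : Fin d, MvPolynomial B A) →ₚₗ[A] SymTen.TS A B d => L.toFun' S w)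
    (TSmap_Gsym d piB)

include hφ in
/-- S13396 -/
theorem S13396_main (_hγ : PolLaw.IsGammaD γ) :
    ∃ F : PolLaw.MulLaw A (⨂[A] _ : Fin d, B) C d.factorial,
      ∀ z : ⨂[A] _ : Fin d, B, ((SymTen.TS A B d).val (φ (F.law.ground z)) : ⨂[A] _ : Fin d, B) =
        ∏ σ : Equiv.Perm (Fin d), SymTen.perm A B d σ z := by
  refine ⟨Fnorm γ, fun z => ?_⟩
  rw [PolynomialLaw.ground_apply]
  change (SymTen.TS A B d).val.toLinearMap (φ.toLinearMap _) = _
  rw [← lid_lTensor, phi_Fnorm γ φ hφ, ← lid_lTensor, Gsym_spec]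
  unfold Glaw
  rw [prodLaw_apply]
  simp only [Algebra.TensorProduct.map_tmul, AlgHom.id_apply]
  rw [prod_tmul', TensorProduct.lid_tmul]
  simp

end final

end Groth.Agent.H9.TSN
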