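import Mathlib
import Groth.Prelude.Def_PolLaw
import Groth.Prelude.Def_SymTen
import Groth.Agent.Lib.Helper9.Misc.TSN5

/-! Helper9: the norm law on symmetric tensors; phi F = F phi = d!-th power (S13397, S13398) -/

set_option linter.style.haveILetI false
set_option linter.unusedSectionVars false

namespace Groth.Agent.H9.TSN
open scoped TensorProduct
open Groth.Agent.H9.PLR Groth.Agent.H9.PLZ Groth.Agent.H9.TSG Groth.Agent.H9.TSC Groth.Agent.H9.TSF
open PiTensorProduct

universe u
variable {A : Type u} [CommRing A]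
variable {B : Type u} [CommRing B] [Algebra A B]
variable {C : Type u} [CommRing C] [Algebra A C]

section sym
variable (A B) (d : ℕ)

lemma perm_comp_val (σ : Equiv.Perm (Fin d)) :
    (SymTen.perm A B d σ).comp (SymTen.TS A B d).val = (SymTen.TS A B d).val := by
  apply AlgHom.ext
  intro y
  simp only [AlgHom.comp_apply, SymTen.perm_apply]
  exact y.2 σ

/-- on symmetric tensors the norm law is the `d!`-th power -/
lemma Gsym_val (S : Type u) [CommSemiring S] [Algebra A S] (y : S ⊗[A] SymTen.TS A B d) :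
    (Gsym A B d).law.toFun' S ((SymTen.TS A B d).val.toLinearMap.lTensor S y) = y ^ d.factorial := by
  have key : PolLaw.precomp (Gsym A B d).law (SymTen.TS A B d).val.toLinearMap =
      PolLaw.powLaw d.factorial := by
    apply law_ext_inj (SymTen.TS A B d).val.toLinearMap (val_injective _)
    intro σ p
    change (SymTen.TS A B d).val.toLinearMap.lTensor _
      ((Gsym A B d).law.toFun' _ ((SymTen.TS A B d).val.toLinearMap.lTensor _ p)) =
      (SymTen.TS A B d).val.toLinearMap.lTensor _ (p ^ d.factorial)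
    rw [Gsym_spec]
    unfold Glaw
    rw [prodLaw_lTensor, prodLaw_apply]
    simp only [perm_comp_val]
    rw [Finset.prod_const, Finset.card_univ, Fintype.card_perm, Fintype.card_fin,
      PolLaw.lTensor_algHom_apply, map_pow]
  exact congrArg (fun L : SymTen.TS A B d →ₚₗ[A] SymTen.TS A B d => L.toFun' S y) key

end sym

section main
variable {d : ℕ} (γ : PolLaw.MulLaw A B C d) (φ : C →ₐ[A] SymTen.TS A B d)
  (hφ : ∀ (S : Type u) [CommSemiring S] [Algebra A S] (n : ℕ) (s : Fin n → S) (b : Fin n → B),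
      ((SymTen.TS A B d).val.comp φ).toLinearMap.lTensor S (γ.law.toFun' S (∑ j, s j ⊗ₜ[A] b j)) =
        ∑ c : Fin d → Fin n, (∏ i, s (c i)) ⊗ₜ[A] PiTensorProduct.tprod A (fun i => b (c i)))

/-- the norm law restricted to symmetric tensors -/
noncomputable def Fsym : PolLaw.MulLaw A (SymTen.TS A B d) C d.factorial :=
  (Fnorm γ).precomp (SymTen.TS A B d).val

lemma Fsym_apply (S : Type u) [CommSemiring S] [Algebra A S] (y : S ⊗[A] SymTen.TS A B d) :
    (Fsym γ).law.toFun' S y =
      (Fnorm γ).law.toFun' S ((SymTen.TS A B d).val.toLinearMap.lTensor S y) := rfl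

include hφ in
lemma phi_Fsym : PolLaw.MulLaw.postcomp φ (Fsym γ) = PolLaw.MulLaw.pow A (SymTen.TS A B d) d.factorial := by
  apply PolLaw.MulLaw.ext
  ext S _ _ y
  change φ.toLinearMap.lTensor S ((Fsym γ).law.toFun' S y) = y ^ d.factorial
  rw [Fsym_apply, phi_Fnorm γ φ hφ, Gsym_val]

include hφ in
lemma Fsym_phi (hγ : PolLaw.IsGammaD γ) :
    PolLaw.MulLaw.precomp (Fsym γ) φ = PolLaw.MulLaw.pow A C d.factorial := by
  apply PolLaw.MulLaw.ext
  ext S _ _ x
  change (Fsym γ).law.toFun' S (φ.toLinearMap.lTensor S x) = x ^ d.factorial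
  have hsurj : Function.Surjective (psi γ (MvPolynomial B A) piB) :=
    S13717_main (tau A (MvPolynomial B A) d) γ hγ piB piB_surjective _ (psi_spec γ _ piB)
  obtain ⟨x', rfl⟩ := LinearMap.lTensor_surjective S
    (show Function.Surjective (psi γ (MvPolynomial B A) piB).toLinearMap from hsurj) x
  have h1 : φ.toLinearMap.lTensor S
      ((psi γ (MvPolynomial B A) piB).toLinearMap.lTensor S x') =
      (SymTen.TSmap A d (piB (A := A) (B := B))).toLinearMap.lTensor S x' := by
    rw [← LinearMap.comp_apply, ← LinearMap.lTensor_comp, ← AlgHom.comp_toLinearMap,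
      phi_comp_psi γ φ hφ]
  have h2 : (SymTen.TS A B d).val.toLinearMap.lTensor S
      ((SymTen.TSmap A d (piB (A := A) (B := B))).toLinearMap.lTensor S x') =
      (SymTen.tmap A d (piB (A := A) (B := B))).toLinearMap.lTensor S
        ((SymTen.TS A (MvPolynomial B A) d).val.toLinearMap.lTensor S x') := by
    rw [← LinearMap.comp_apply, ← LinearMap.lTensor_comp, val_comp_TSmap, LinearMap.lTensor_comp,
      LinearMap.comp_apply]
  rw [Fsym_apply, h1, h2, Fnorm_apply, Ft_apply, Gsym_val, PolLaw.lTensor_algHom_apply, map_pow,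
    ← PolLaw.lTensor_algHom_apply]

include hφ in
/-- S13397 -/
theorem S13397_main (hγ : PolLaw.IsGammaD γ) :
    ∃ F : PolLaw.MulLaw A (SymTen.TS A B d) C d.factorial,
      PolLaw.MulLaw.postcomp φ F = PolLaw.MulLaw.pow A (SymTen.TS A B d) d.factorial ∧
      PolLaw.MulLaw.precomp F φ = PolLaw.MulLaw.pow A C d.factorial :=
  ⟨Fsym γ, phi_Fsym γ φ hφ, Fsym_phi γ φ hφ hγ⟩

include hφ in
/-- S13398 -/
theorem S13398_main (hγ : PolLaw.IsGammaD γ) :
    (∀ x : C, φ x = 0 → x ^ d.factorial = 0) ∧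
      (∀ y : SymTen.TS A B d, y ^ d.factorial ∈ φ.range) := by
  constructor
  · intro x hx
    have h1 := congrArg (fun L : PolLaw.MulLaw A C C d.factorial => L.law.toFun' A ((1 : A) ⊗ₜ[A] x))
      (Fsym_phi γ φ hφ hγ)
    change (Fsym γ).law.toFun' A (φ.toLinearMap.lTensor A ((1 : A) ⊗ₜ[A] x)) =
      ((1 : A) ⊗ₜ[A] x) ^ d.factorial at h1
    rw [LinearMap.lTensor_tmul, AlgHom.toLinearMap_apply, hx, TensorProduct.tmul_zero] at h1
    have h2 : (Fsym γ).law.toFun' A (0 : A ⊗[A] SymTen.TS A B d) = 0 := by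
      have := (Fsym γ).homog A (0 : A) (0 : A ⊗[A] SymTen.TS A B d)
      rw [zero_smul, zero_pow (Nat.factorial_ne_zero d), zero_smul] at this
      exact this
    rw [h2, Algebra.TensorProduct.tmul_pow, one_pow] at h1
    have h3 := congrArg (TensorProduct.lid A C) h1
    rw [map_zero, TensorProduct.lid_tmul, one_smul] at h3
    exact h3.symm
  · intro y
    have h1 := congrArg (fun L : PolLaw.MulLaw A (SymTen.TS A B d) (SymTen.TS A B d) d.factorial =>
      L.law.toFun' A ((1 : A) ⊗ₜ[A] y)) (phi_Fsym γ φ hφ)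
    change φ.toLinearMap.lTensor A ((Fsym γ).law.toFun' A ((1 : A) ⊗ₜ[A] y)) =
      ((1 : A) ⊗ₜ[A] y) ^ d.factorial at h1
    rw [Algebra.TensorProduct.tmul_pow, one_pow] at h1
    have h3 := congrArg (TensorProduct.lid A (SymTen.TS A B d)) h1
    rw [lid_lTensor, TensorProduct.lid_tmul, one_smul] at h3
    exact ⟨_, h3⟩

end main

end Groth.Agent.H9.TSN
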