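import Mathlib
import Groth.Prelude.Def_PolLaw
import Groth.Prelude.Def_SymTen
import Groth.Agent.Lib.Helper9.Misc.TSG1

/-! Helper9: base change of tensor powers to a K-algebra and the K-linear extension of a point -/

set_option linter.style.haveILetI false
set_option linter.unusedSectionVars false

namespace Groth.Agent.H9.TSU
open scoped TensorProduct
open Groth.Agent.H9.TSG
open PiTensorProduct

universe u
variable (A : Type u) [CommRing A] (K : Type u) [CommRing K] [Algebra A K]
variable (B : Type u) [CommRing B] [Algebra A B] (d : ℕ)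

/-- the base change map of tensor powers `T^d_A(B) → T^d_K(K ⊗_A B)` -/
noncomputable def jmap : (⨂[A] _ : Fin d, B) →ₗ[A] (⨂[K] _ : Fin d, (K ⊗[A] B)) :=
  PiTensorProduct.lift
    (((PiTensorProduct.tprod K (s := fun _ : Fin d => K ⊗[A] B)).restrictScalars A).compLinearMap
      (fun _ => (Algebra.TensorProduct.includeRight : B →ₐ[A] K ⊗[A] B).toLinearMap))

@[simp] lemma jmap_tprod (b : Fin d → B) :
    jmap A K B d (tprod A b) = tprod K (fun i => (1 : K) ⊗ₜ[A] b i) := by
  simp [jmap]

lemma jmap_reindex (σ : Equiv.Perm (Fin d)) (t : ⨂[A] _ : Fin d, B) :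
    PiTensorProduct.reindex K (fun _ : Fin d => K ⊗[A] B) σ (jmap A K B d t) =
      jmap A K B d (PiTensorProduct.reindex A (fun _ : Fin d => B) σ t) := by
  induction t using PiTensorProduct.induction_on with
  | smul_tprod r f =>
    have h1 : jmap A K B d (r • tprod A f) = (algebraMap A K r) • tprod K (fun i => (1 : K) ⊗ₜ[A] f i) := by
      rw [LinearMap.map_smul, jmap_tprod, algebraMap_smul]
    have h2 : PiTensorProduct.reindex A (fun _ : Fin d => B) σ (r • tprod A f) =
        r • tprod A (fun i => f (σ.symm i)) := by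
      rw [LinearEquiv.map_smul, PiTensorProduct.reindex_tprod]
    rw [h1, h2, LinearEquiv.map_smul, PiTensorProduct.reindex_tprod, LinearMap.map_smul, jmap_tprod,
      algebraMap_smul]
  | add x y hx hy => simp only [map_add, hx, hy]

lemma jmap_mem_TS {t : ⨂[A] _ : Fin d, B} (ht : t ∈ SymTen.TS A B d) :
    jmap A K B d t ∈ SymTen.TS K (K ⊗[A] B) d := by
  intro σ
  rw [jmap_reindex, ht σ]

variable {A K B d}
variable {Ω : Type u} [CommRing Ω] [Algebra K Ω] [Algebra A Ω] [IsScalarTower A K Ω]

/-- the `K`-linear extension of the `i`-th slot of `β` -/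
noncomputable def betaSlot (β : (⨂[A] _ : Fin d, B) →ₐ[A] Ω) (i : Fin d) : K ⊗[A] B →ₗ[K] Ω :=
  LinearMap.liftBaseChange K (β.toLinearMap ∘ₗ (inj A B d i).toLinearMap)

@[simp] lemma betaSlot_tmul (β : (⨂[A] _ : Fin d, B) →ₐ[A] Ω) (i : Fin d) (k : K) (b : B) :
    betaSlot β i (k ⊗ₜ[A] b) = k • β (inj A B d i b) := by
  simp [betaSlot]

/-- the `K`-linear extension of `β` to the tensor power over `K` -/
noncomputable def Theta (β : (⨂[A] _ : Fin d, B) →ₐ[A] Ω) :
    (⨂[K] _ : Fin d, (K ⊗[A] B)) →ₗ[K] Ω :=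
  PiTensorProduct.lift
    ((MultilinearMap.mkPiAlgebra K (Fin d) Ω).compLinearMap (fun i => betaSlot β i))

@[simp] lemma Theta_tprod (β : (⨂[A] _ : Fin d, B) →ₐ[A] Ω) (b' : Fin d → K ⊗[A] B) :
    Theta β (tprod K b') = ∏ i, betaSlot β i (b' i) := by
  simp [Theta]

lemma Theta_jmap (β : (⨂[A] _ : Fin d, B) →ₐ[A] Ω) (t : ⨂[A] _ : Fin d, B) :
    Theta (K := K) β (jmap A K B d t) = β t := by
  induction t using PiTensorProduct.induction_on with
  | smul_tprod r f =>
    have h1 : jmap A K B d (r • tprod A f) = (algebraMap A K r) • tprod K (fun i => (1 : K) ⊗ₜ[A] f i) := by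
      rw [LinearMap.map_smul, jmap_tprod, algebraMap_smul]
    rw [h1, LinearMap.map_smul, Theta_tprod, map_smul, algebraMap_smul]
    congr 1
    simp only [betaSlot_tmul, one_smul]
    rw [← map_prod, prod_inj]
  | add x y hx hy => simp only [map_add, hx, hy]

end Groth.Agent.H9.TSU
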