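import Mathlib
import Groth.Prelude.Def_PolLaw
import Groth.Prelude.Def_SymTen
import Groth.Agent.Lib.Helper9.Misc.TSU1
import Groth.Agent.Lib.Helper9.Misc.TSU2
import Groth.Agent.Lib.Helper9.Misc.TSU3

/-! Helper9: trivial residue field extensions for Spec TS^d → Spec Γ^d -/

set_option linter.style.haveILetI false
set_option linter.unusedSectionVars false

namespace Groth.Agent.H9.TSU
open scoped TensorProduct
open Groth.Agent.H9.PLR Groth.Agent.H9.PLZ Groth.Agent.H9.TSF Groth.Agent.H9.TSG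
open PiTensorProduct

universe u
variable {A : Type u} [CommRing A] {B : Type u} [CommRing B] [Algebra A B] {d : ℕ}
variable {C : Type u} [CommRing C] [Algebra A C]

lemma span_one_tmul (K : Type u) [CommRing K] [Algebra A K] :
    Submodule.span K (Set.range (fun b : B => (1 : K) ⊗ₜ[A] b)) = ⊤ := by
  rw [eq_top_iff]
  rintro x -
  induction x using TensorProduct.induction_on with
  | zero => exact Submodule.zero_mem _
  | tmul k b =>
    have : k ⊗ₜ[A] b = k • ((1 : K) ⊗ₜ[A] b) := by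
      rw [TensorProduct.smul_tmul', smul_eq_mul, mul_one]
    rw [this]
    exact Submodule.smul_mem _ _ (Submodule.subset_span ⟨b, rfl⟩)
  | add x y hx hy => exact Submodule.add_mem _ hx hy

/-- the value of a field-valued point of the tensor power at a symmetric tensor lies in the
fraction field of the image of `C` -/
theorem res_field (γ : PolLaw.MulLaw A B C d) (φ : C →ₐ[A] SymTen.TS A B d)
    (hφ : ∀ (S : Type u) [CommSemiring S] [Algebra A S] (n : ℕ) (s : Fin n → S) (b : Fin n → B),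
      ((SymTen.TS A B d).val.comp φ).toLinearMap.lTensor S (γ.law.toFun' S (∑ j, s j ⊗ₜ[A] b j)) =
        ∑ c : Fin d → Fin n, (∏ i, s (c i)) ⊗ₜ[A] PiTensorProduct.tprod A (fun i => b (c i)))
    {Kt : Type u} [Field Kt] [Algebra A Kt] (β : (⨂[A] _ : Fin d, B) →ₐ[A] Kt)
    (y : SymTen.TS A B d) :
    ∃ a s : C, β (φ s : SymTen.TS A B d) ≠ 0 ∧
      β (φ s : SymTen.TS A B d) * β y = β (φ a : SymTen.TS A B d) := by
  classical
  let f : C →+* Kt := β.toRingHom.comp ((SymTen.TS A B d).val.toRingHom.comp φ.toRingHom)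
  have hf : ∀ c, f c = β (φ c : SymTen.TS A B d) := fun c => rfl
  let R₀ : Subring Kt := f.range
  let K' : Subfield Kt := Subfield.closure (R₀ : Set Kt)
  have hR₀ : ∀ c, f c ∈ K' := fun c => Subfield.subset_closure ⟨c, rfl⟩
  -- it suffices to show `β y ∈ K'`
  suffices hmem : β y ∈ K' by
    obtain ⟨u, hu, v, hv, huv⟩ := Subfield.mem_closure_iff.1 hmem
    rw [Subring.closure_eq] at hu hv
    obtain ⟨a, rfl⟩ := hu
    obtain ⟨s, rfl⟩ := hv
    by_cases hs : f s = 0
    · refine ⟨0, 1, ?_, ?_⟩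
      · rw [← hf, map_one]; exact one_ne_zero
      · rw [← hf, ← hf, map_one, map_zero, one_mul, ← huv, hs, div_zero]
    · refine ⟨a, s, hs, ?_⟩
      rw [← hf, ← hf, ← huv, mul_div_cancel₀ _ hs]
  -- the algebra structure of `K'` over `A`
  let fA : A →+* K' := (algebraMap A Kt).codRestrict K' (fun a => by
    have : algebraMap A Kt a = f (algebraMap A C a) := by
      rw [hf, AlgHom.commutes]
      exact (β.commutes a).symm
    rw [this]
    exact hR₀ _)
  letI : Algebra A K' := fA.toAlgebra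
  haveI : IsScalarTower A K' Kt := IsScalarTower.of_algebraMap_eq (fun a => rfl)
  have hy' : jmap A K' B d y.1 ∈ SymTen.TS K' (K' ⊗[A] B) d := jmap_mem_TS A K' B d y.2
  obtain ⟨r, g, a, hg, hrep⟩ := exists_rep_span d (Set.range (fun b : B => (1 : K') ⊗ₜ[A] b))
    (span_one_tmul K') (jmap A K' B d y.1) hy'
  choose g₀ hg₀ using hg
  have h1 : β y = ∑ c : Fin d → Fin r, a (nu c) • β (tprod A (fun i => g₀ (c i))) := by
    have := congrArg (Theta (K := K') β) hrep
    rw [Theta_jmap, map_sum] at this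
    rw [show β y = β (y : ⨂[A] _ : Fin d, B) from rfl, this]
    refine Finset.sum_congr rfl fun c _ => ?_
    rw [LinearMap.map_smul]
    congr 1
    rw [← Theta_jmap (K := K') β, jmap_tprod]
    congr 2
    funext i
    exact (hg₀ (c i)).symm
  rw [h1, ← Finset.sum_fiberwise_of_maps_to (t := Finset.univ.image nu) (g := nu)
    (fun c _ => Finset.mem_image_of_mem _ (Finset.mem_univ c))]
  refine Subfield.sum_mem _ fun ν _ => ?_
  have h2 : ∀ c ∈ Finset.univ.filter (fun c : Fin d → Fin r => nu c = ν),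
      a (nu c) • β (tprod A (fun i => g₀ (c i))) = a ν • β (tprod A (fun i => g₀ (c i))) := by
    intro c hc
    rw [(Finset.mem_filter.1 hc).2]
  rw [Finset.sum_congr rfl h2, ← Finset.smul_sum, ← map_sum]
  obtain ⟨cν, hcν⟩ := orbit_mem_range γ φ hφ g₀ ν
  rw [← hcν, Subfield.smul_def]
  exact K'.mul_mem (a ν).2 (hR₀ cν)

/-- trivial residue field extensions for `Spec TS^d → Spec Γ^d` -/
theorem res_claim (γ : PolLaw.MulLaw A B C d) (φ : C →ₐ[A] SymTen.TS A B d)
    (hφ : ∀ (S : Type u) [CommSemiring S] [Algebra A S] (n : ℕ) (s : Fin n → S) (b : Fin n → B),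
      ((SymTen.TS A B d).val.comp φ).toLinearMap.lTensor S (γ.law.toFun' S (∑ j, s j ⊗ₜ[A] b j)) =
        ∑ c : Fin d → Fin n, (∏ i, s (c i)) ⊗ₜ[A] PiTensorProduct.tprod A (fun i => b (c i)))
    (q : Ideal (SymTen.TS A B d)) [q.IsPrime] (y : SymTen.TS A B d) :
    ∃ a s : C, φ s ∉ q ∧ φ s * y - φ a ∈ q := by
  obtain ⟨Q, hQ, hQq⟩ := exists_prime_over_TS q
  haveI := hQ
  let β : (⨂[A] _ : Fin d, B) →ₐ[A] FractionRing ((⨂[A] _ : Fin d, B) ⧸ Q) :=
    (IsScalarTower.toAlgHom A ((⨂[A] _ : Fin d, B) ⧸ Q)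
      (FractionRing ((⨂[A] _ : Fin d, B) ⧸ Q))).comp (Ideal.Quotient.mkₐ A Q)
  have hβ : ∀ t, β t = 0 ↔ t ∈ Q := by
    intro t
    show algebraMap ((⨂[A] _ : Fin d, B) ⧸ Q) (FractionRing ((⨂[A] _ : Fin d, B) ⧸ Q))
      (Ideal.Quotient.mk Q t) = 0 ↔ _
    rw [map_eq_zero_iff _ (IsFractionRing.injective _ _), Ideal.Quotient.eq_zero_iff_mem]
  obtain ⟨a, s, hs, heq⟩ := res_field γ φ hφ β y
  refine ⟨a, s, ?_, ?_⟩
  · rw [← hQq, ← hβ]
    exact hs
  · rw [← hQq, ← hβ]
    show β ((φ s : ⨂[A] _ : Fin d, B) * (y : ⨂[A] _ : Fin d, B) - (φ a : ⨂[A] _ : Fin d, B)) = 0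
    rw [map_sub, map_mul, sub_eq_zero]
    exact heq

end Groth.Agent.H9.TSU
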