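import Mathlib
import Groth.Prelude.Def_PolLaw

/-! Helper9: a diagonal criterion for universal injectivity from a law -/

set_option linter.style.haveILetI false
set_option linter.unusedSectionVars false

namespace Groth.Agent.H9.TSU
open scoped TensorProduct

universe u

/-- the diagonal criterion for universal injectivity from a law inverting `ι` up to `N`-th powers -/
theorem ui_of_law {A C E : Type u} [CommRing A] [CommRing C] [CommRing E] [Algebra A C]
    [Algebra A E] [Algebra C E] [IsScalarTower A C E] (N : ℕ) (hN : 0 < N)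
    (ι : C →ₐ[A] E) (hι : ∀ c, algebraMap C E c = ι c) (F : E →ₚₗ[A] C)
    (hF : ∀ x : E ⊗[A] E, ι.toLinearMap.lTensor E (F.toFun' E x) = x ^ N)
    (x : E ⊗[C] E) (hx : Algebra.TensorProduct.lmul' C (S := E) x = 0) : x ^ N = 0 := by
  let π : E ⊗[A] E →ₐ[A] E ⊗[C] E := Algebra.TensorProduct.mapOfCompatibleSMul C A A E E
  obtain ⟨x', rfl⟩ := Algebra.TensorProduct.mapOfCompatibleSMul_surjective C A A E E x
  let m : E ⊗[A] C →ₐ[A] E := Algebra.TensorProduct.productMap (AlgHom.id A E) ι
  have key : ∀ z : E ⊗[A] C, π (ι.toLinearMap.lTensor E z) = (m z) ⊗ₜ[C] (1 : E) := by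
    intro z
    induction z using TensorProduct.induction_on with
    | zero => simp
    | tmul e c =>
      show e ⊗ₜ[C] (ι c) = (e * ι c) ⊗ₜ[C] (1 : E)
      rw [← hι]
      have h0 : algebraMap C E c = c • (1 : E) := by rw [Algebra.smul_def, mul_one]
      rw [h0, TensorProduct.tmul_smul, TensorProduct.smul_tmul', Algebra.smul_def,
        Algebra.smul_def, mul_one, mul_comm]
    | add z w hz hw => simp only [map_add, hz, hw, TensorProduct.add_tmul]
  have h1 : (π x') ^ N = (m (F.toFun' E x')) ⊗ₜ[C] (1 : E) := by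
    rw [← map_pow, ← hF, key]
  have h2 : m (F.toFun' E x') = 0 := by
    have := congrArg (Algebra.TensorProduct.lmul' C (S := E)) h1
    rw [map_pow] at this
    change (Algebra.TensorProduct.lmul' C (S := E)) (π x') ^ N = _ at this
    rw [hx, zero_pow hN.ne', Algebra.TensorProduct.lmul'_apply_tmul, mul_one] at this
    exact this.symm
  change (π x') ^ N = 0
  rw [h1, h2, TensorProduct.zero_tmul]

end Groth.Agent.H9.TSU
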