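import Mathlib
import Groth.Prelude.Def_PolLaw
import Groth.Prelude.Def_SymTen
import Groth.Prelude.Def_Flat
import Groth.Agent.H4.UHCrit
import Groth.Agent.Lib.Helper9.Misc.TSN6
import Groth.Agent.Lib.Helper9.Misc.TSU4
import Groth.Agent.Lib.Helper9.Misc.TSU5

/-! Helper9: S13874: Spec TS^d → Spec Γ^d is a universal homeomorphism with trivial residue field extensions -/

set_option linter.style.haveILetI false
set_option linter.unusedSectionVars false

namespace Groth.Agent.H9.TSU
open scoped TensorProduct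
open CategoryTheory AlgebraicGeometry
open Groth.Agent.H9.TSN Groth.Agent.H4.UHCrit

universe u

theorem S13874_main {A B C : Type u} [CommRing A] [CommRing B] [Algebra A B] [CommRing C]
    [Algebra A C] (d : ℕ)
    (γ : PolLaw.MulLaw A B C d) (hγ : PolLaw.IsGammaD γ) (φ : C →ₐ[A] SymTen.TS A B d)
    (hφ : ∀ (S : Type u) [CommSemiring S] [Algebra A S] (n : ℕ) (s : Fin n → S) (b : Fin n → B),
      ((SymTen.TS A B d).val.comp φ).toLinearMap.lTensor S (γ.law.toFun' S (∑ j, s j ⊗ₜ[A] b j)) =
        ∑ c : Fin d → Fin n, (∏ i, s (c i)) ⊗ₜ[A] PiTensorProduct.tprod A (fun i => b (c i))) :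
    FlatMor.IsUnivHomeo (Spec.map (CommRingCat.ofHom φ.toRingHom)) ∧
      ∀ x : ↥(Spec (CommRingCat.of (SymTen.TS A B d))),
        Function.Surjective ((Spec.map (CommRingCat.ofHom φ.toRingHom)).residueFieldMap x).hom := by
  letI : Algebra C (SymTen.TS A B d) := φ.toRingHom.toAlgebra
  haveI : IsScalarTower A C (SymTen.TS A B d) :=
    IsScalarTower.of_algebraMap_eq (fun a => (φ.commutes a).symm)
  obtain ⟨h98a, h98b⟩ := S13398_main γ φ hφ hγ
  have hpos : 0 < d.factorial := Nat.factorial_pos d
  have hint : (algebraMap C (SymTen.TS A B d)).IsIntegral := by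
    intro y
    obtain ⟨c, hc⟩ := h98b y
    refine ⟨Polynomial.X ^ d.factorial - Polynomial.C c,
      Polynomial.monic_X_pow_sub_C c hpos.ne', ?_⟩
    rw [Polynomial.eval₂_sub, Polynomial.eval₂_pow, Polynomial.eval₂_X, Polynomial.eval₂_C,
      sub_eq_zero]
    exact hc.symm
  have hui : UI C (SymTen.TS A B d) := by
    intro x hx
    refine ⟨d.factorial, ui_of_law d.factorial hpos φ (fun c => rfl) (Fsym γ).law ?_ x hx⟩
    intro z
    have := congrArg (fun L : PolLaw.MulLaw A (SymTen.TS A B d) (SymTen.TS A B d) d.factorial =>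
      L.law.toFun' (SymTen.TS A B d) z) (phi_Fsym γ φ hφ)
    exact this
  have hker : RingHom.ker (algebraMap C (SymTen.TS A B d)) ≤ nilradical C := by
    intro x hx
    exact ⟨d.factorial, h98a x hx⟩
  refine ⟨uh_of_integral_ui hint hui hker, ?_⟩
  have hres : Res C (SymTen.TS A B d) := fun q _ b => res_claim γ φ hφ q b
  exact (res_alg_iff C (SymTen.TS A B d)).mpr hres

end Groth.Agent.H9.TSU
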