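import Mathlib
import Groth.Agent.Lib.Helper9.Misc.PLR4

/-! Helper9: type-sums of products in purely inseparable extensions are rational -/

set_option linter.style.haveILetI false
set_option linter.unusedSectionVars false

namespace Groth.Agent.H9.TSV
open Groth.Agent.H9.PLR

open MvPolynomial in
/-- expansion of the `d`-th power of a generic linear form -/
theorem generic_pow_expand {L : Type*} [CommRing L] (d r : ℕ) (β : Fin r → L) :
    (∑ l, X l * C (β l) : MvPolynomial (Fin r) L) ^ d =
      ∑ c : Fin d → Fin r, monomial (nu c) (∏ i, β (c i)) := by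
  classical
  have h0 : (∑ l, X l * C (β l) : MvPolynomial (Fin r) L) ^ d =
      ∏ _i : Fin d, ∑ l, X l * C (β l) := by
    rw [Finset.prod_const, Finset.card_univ, Fintype.card_fin]
  rw [h0, Finset.prod_univ_sum, Fintype.piFinset_univ]
  refine Finset.sum_congr rfl fun c _ => ?_
  have hX : (∏ i, X (c i) : MvPolynomial (Fin r) L) = monomial (nu c) 1 := by
    rw [nu, monomial_sum_one]
    rfl
  rw [Finset.prod_mul_distrib, ← map_prod, hX, mul_comm, C_mul_monomial, mul_one]

open MvPolynomial in
/-- in a purely inseparable extension of degree dividing `d`, the type-sums of products of `d`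
elements are rational -/
theorem orbit_prod_mem_range {F L : Type*} [Field F] [Field L] [Algebra F L]
    [IsPurelyInseparable F L] (d : ℕ) (hd : 0 < d) (hdeg : Module.finrank F L ∣ d) {r : ℕ}
    (β : Fin r → L) (ν : Fin r →₀ ℕ) :
    ∑ c ∈ Finset.univ.filter (fun c : Fin d → Fin r => nu c = ν), ∏ i, β (c i) ∈
      (algebraMap F L).range := by
  classical
  set q := ringExpChar F with hq
  haveI : ExpChar L q := expChar_of_injective_algebraMap (algebraMap F L).injective q
  haveI : FiniteDimensional F L :=
    Module.finite_of_finrank_pos (Nat.pos_of_dvd_of_pos hdeg hd)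
  have hmin := fun l => IsPurelyInseparable.minpoly_eq_X_pow_sub_C F q (β l)
  choose n y hmin using hmin
  have hpow : ∀ l, β l ^ q ^ n l = algebraMap F L (y l) := by
    intro l
    have := minpoly.aeval F (β l)
    rw [hmin l] at this
    simpa [sub_eq_zero] using this
  have hdvd : ∀ l, q ^ n l ∣ d := by
    intro l
    have h1 := minpoly.degree_dvd (K := F) (Algebra.IsIntegral.isIntegral (β l))
    rw [hmin l, Polynomial.natDegree_X_pow_sub_C] at h1
    exact h1.trans hdeg
  set e := Finset.univ.sup n with he
  have hqe : q ^ e ∣ d := by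
    by_cases hne : (Finset.univ : Finset (Fin r)).Nonempty
    · obtain ⟨l₀, -, hl₀⟩ := Finset.exists_mem_eq_sup Finset.univ hne n
      rw [he, hl₀]
      exact hdvd l₀
    · rw [Finset.not_nonempty_iff_eq_empty] at hne
      rw [he, hne, Finset.sup_empty]
      simp
  have hpe : ∀ l, ∃ z : F, algebraMap F L z = β l ^ q ^ e := by
    intro l
    have hle : n l ≤ e := Finset.le_sup (f := n) (Finset.mem_univ l)
    refine ⟨y l ^ q ^ (e - n l), ?_⟩
    rw [map_pow, ← hpow, ← pow_mul, ← pow_add, Nat.add_sub_cancel' hle]
  choose z hz using hpe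
  obtain ⟨d', hd'⟩ := hqe
  have h1 : (∑ l, X l * C (β l) : MvPolynomial (Fin r) L) ^ d =
      MvPolynomial.map (algebraMap F L) ((∑ l, X l ^ q ^ e * C (z l)) ^ d') := by
    rw [hd', pow_mul, sum_pow_char_pow, map_pow, map_sum]
    congr 1
    refine Finset.sum_congr rfl fun l _ => ?_
    rw [mul_pow, ← map_pow, ← hz, map_mul, map_pow, map_X, map_C]
  have h2 := congrArg (coeff ν) h1
  rw [generic_pow_expand, coeff_sum, coeff_map] at h2
  simp only [coeff_monomial] at h2
  rw [Finset.sum_filter]
  refine ⟨_, h2.symm.trans ?_⟩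
  exact Finset.sum_congr rfl fun c _ => rfl

end Groth.Agent.H9.TSV
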