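import Mathlib

/-! Helper9: residue fields: fractions, purely inseparable extensions from the pointwise criterion -/

set_option linter.style.haveILetI false
set_option linter.unusedSectionVars false

namespace Groth.Agent.H9.TSV

universe u

/-- elements of the residue field of a prime are fractions -/
theorem exists_frac {R : Type*} [CommRing R] (I : Ideal R) [I.IsPrime] (x : I.ResidueField) :
    ∃ b t : R, t ∉ I ∧ x * algebraMap R I.ResidueField t = algebraMap R I.ResidueField b := by
  obtain ⟨⟨y, s⟩, h⟩ := IsLocalization.surj (nonZeroDivisors (R ⧸ I)) x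
  obtain ⟨b, rfl⟩ := Ideal.Quotient.mk_surjective y
  obtain ⟨t, ht⟩ := Ideal.Quotient.mk_surjective (s : R ⧸ I)
  refine ⟨b, t, ?_, ?_⟩
  · intro htI
    have h0 : (s : R ⧸ I) = 0 := by
      rw [← ht]; exact Ideal.Quotient.eq_zero_iff_mem.2 htI
    exact nonZeroDivisors.ne_zero s.2 h0
  · simp only at h
    rw [← ht] at h
    exact h

variable {C C' : Type u} [CommRing C] [CommRing C'] (g : C →+* C')

/-- the residue field extension at a prime of a map satisfying the pointwise
purely-inseparable criterion is purely inseparable -/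
theorem purelyInsep_of_pi
    (hpi : ∀ (Q : Ideal C') [Q.IsPrime] (b : C'), ∃ ℓ n : ℕ,
      (ℓ = 1 ∨ (ℓ.Prime ∧ (ℓ : C') ∈ Q)) ∧
        ∃ a s : C, g s ∉ Q ∧ g s * b ^ (ℓ ^ n) - g a ∈ Q)
    (Q : Ideal C') [Q.IsPrime] :
    letI := (Ideal.ResidueField.map (Q.comap g) Q g rfl).toAlgebra
    IsPurelyInseparable (Q.comap g).ResidueField Q.ResidueField := by
  letI := (Ideal.ResidueField.map (Q.comap g) Q g rfl).toAlgebra
  have hmap : ∀ c : C, algebraMap (Q.comap g).ResidueField Q.ResidueField
      (algebraMap C (Q.comap g).ResidueField c) = algebraMap C' Q.ResidueField (g c) :=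
    fun c => Ideal.ResidueField.map_algebraMap (Q.comap g) Q g rfl c
  set q := ringExpChar (Q.comap g).ResidueField with hq
  haveI : ExpChar Q.ResidueField q :=
    expChar_of_injective_algebraMap
      (algebraMap (Q.comap g).ResidueField Q.ResidueField).injective q
  -- step A
  have stepA : ∀ b : C', ∃ n : ℕ, (algebraMap C' Q.ResidueField b) ^ q ^ n ∈
      (algebraMap (Q.comap g).ResidueField Q.ResidueField).fieldRange := by
    intro b
    obtain ⟨ℓ, n, hℓ, a, s, hs, hsa⟩ := hpi Q b
    have hs0 : algebraMap C' Q.ResidueField (g s) ≠ 0 := by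
      rw [Ne, Ideal.algebraMap_residueField_eq_zero]; exact hs
    have heq : algebraMap C' Q.ResidueField (g s) * (algebraMap C' Q.ResidueField b) ^ (ℓ ^ n) =
        algebraMap C' Q.ResidueField (g a) := by
      rw [← sub_eq_zero, ← map_pow, ← map_mul, ← map_sub, Ideal.algebraMap_residueField_eq_zero]
      exact hsa
    have hmem : (algebraMap C' Q.ResidueField b) ^ (ℓ ^ n) ∈
        (algebraMap (Q.comap g).ResidueField Q.ResidueField).fieldRange := by
      have : (algebraMap C' Q.ResidueField b) ^ (ℓ ^ n) =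
          algebraMap C' Q.ResidueField (g a) / algebraMap C' Q.ResidueField (g s) := by
        rw [eq_div_iff hs0, mul_comm]; exact heq
      rw [this, ← hmap, ← hmap]
      exact div_mem ⟨_, rfl⟩ ⟨_, rfl⟩
    rcases hℓ with rfl | ⟨hprime, hℓQ⟩
    · refine ⟨0, ?_⟩
      simpa using hmem
    · have h0 : ((ℓ : ℕ) : Q.ResidueField) = 0 := by
        have := (Ideal.algebraMap_residueField_eq_zero (I := Q)).2 hℓQ
        simpa using this
      haveI : CharP Q.ResidueField ℓ := (CharP.charP_iff_prime_eq_zero hprime).2 h0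
      have hqℓ : q = ℓ := ExpChar.eq ‹ExpChar Q.ResidueField q› (ExpChar.prime hprime)
      refine ⟨n, ?_⟩
      rw [hqℓ]
      exact hmem
  rw [isPurelyInseparable_iff_pow_mem (Q.comap g).ResidueField q]
  intro x
  obtain ⟨b, t, ht, hx⟩ := exists_frac Q x
  obtain ⟨nb, hnb⟩ := stepA b
  obtain ⟨nt, hnt⟩ := stepA t
  have ht0 : algebraMap C' Q.ResidueField t ≠ 0 := by
    rw [Ne, Ideal.algebraMap_residueField_eq_zero]; exact ht
  have hup : ∀ (y : Q.ResidueField) (n m : ℕ), n ≤ m →
      y ^ q ^ n ∈ (algebraMap (Q.comap g).ResidueField Q.ResidueField).fieldRange →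
      y ^ q ^ m ∈ (algebraMap (Q.comap g).ResidueField Q.ResidueField).fieldRange := by
    intro y n m hnm hy
    have : y ^ q ^ m = (y ^ q ^ n) ^ q ^ (m - n) := by
      rw [← pow_mul, ← pow_add, Nat.add_sub_cancel' hnm]
    rw [this]
    exact pow_mem hy _
  refine ⟨max nb nt, ?_⟩
  have h1 := hup _ nb (max nb nt) (le_max_left _ _) hnb
  have h2 := hup _ nt (max nb nt) (le_max_right _ _) hnt
  have h3 : x ^ q ^ max nb nt = (algebraMap C' Q.ResidueField b) ^ q ^ max nb nt /
      (algebraMap C' Q.ResidueField t) ^ q ^ max nb nt := by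
    rw [eq_div_iff (pow_ne_zero _ ht0), ← mul_pow, hx]
  rw [h3]
  have := div_mem h1 h2
  exact this

/-- a rational residue gives the pointwise criterion for trivial residue field extensions -/
theorem res_of_mem_range (Q : Ideal C') [Q.IsPrime] (c' : C')
    (h : letI := (Ideal.ResidueField.map (Q.comap g) Q g rfl).toAlgebra
      algebraMap C' Q.ResidueField c' ∈
        (algebraMap (Q.comap g).ResidueField Q.ResidueField).range) :
    ∃ a s : C, g s ∉ Q ∧ g s * c' - g a ∈ Q := by
  letI := (Ideal.ResidueField.map (Q.comap g) Q g rfl).toAlgebra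
  have hmap : ∀ c : C, algebraMap (Q.comap g).ResidueField Q.ResidueField
      (algebraMap C (Q.comap g).ResidueField c) = algebraMap C' Q.ResidueField (g c) :=
    fun c => Ideal.ResidueField.map_algebraMap (Q.comap g) Q g rfl c
  obtain ⟨z, hz⟩ := h
  obtain ⟨a, s, hs, hzs⟩ := exists_frac (Q.comap g) z
  refine ⟨a, s, hs, ?_⟩
  rw [← Ideal.algebraMap_residueField_eq_zero (I := Q), map_sub, map_mul, sub_eq_zero, ← hz,
    ← hmap, ← hmap, mul_comm, ← map_mul, hzs]

end Groth.Agent.H9.TSV
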