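import Mathlib
import Groth.Prelude.Def_SymTen
import Groth.Prelude.Def_Flat
import Groth.Prelude.Def_HTop2
import Groth.Agent.H4.UHTower
import Groth.Agent.H4.Seminormal
import Groth.Agent.Lib.Helper9.Misc.TSU1
import Groth.Agent.Lib.Helper9.Misc.TSV1
import Groth.Agent.Lib.Helper9.Misc.TSV2

/-! Helper9: S13839: multiplication of symmetric tensors lands in a seminormal subring -/

set_option linter.style.haveILetI false
set_option linter.unusedSectionVars false

namespace Groth.Agent.H9.TSV
open scoped TensorProduct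
open CategoryTheory AlgebraicGeometry
open Groth.Agent.H9.PLR Groth.Agent.H9.TSU
open Groth.Agent.H4.UHCrit Groth.Agent.H4.UHTower Groth.Agent.H4.SemiNormal
  Groth.Agent.H4.Seminormal

universe u

theorem S13839_main (A C C' B : Type u) [CommRing A] [CommRing C] [CommRing C'] [CommRing B]
    [Algebra A C] [Algebra A C'] [Algebra A B] (hC : HTop.IsSeminormalRing C)
    (g : C →ₐ[A] C') [IsReduced C']
    (hg : FlatMor.IsUnivHomeo (Spec.map (CommRingCat.ofHom g.toRingHom)))
    (d : ℕ) (hd : 0 < d)
    (hdeg : ∀ q : PrimeSpectrum C',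
      @Module.finrank (PrimeSpectrum.comap g.toRingHom q).asIdeal.ResidueField
          q.asIdeal.ResidueField _ _
          (Ideal.ResidueField.map (PrimeSpectrum.comap g.toRingHom q).asIdeal q.asIdeal g.toRingHom
            rfl).toAlgebra.toModule ∣ d)
    [Module.Flat A B] (φ : B →ₐ[A] C') (x : ⨂[A] _ : Fin d, B) (hx : x ∈ SymTen.TS A B d) :
    φ (PiTensorProduct.lift (MultilinearMap.mkPiAlgebra A (Fin d) B) x) ∈ g.range := by
  classical
  letI : Algebra C C' := g.toRingHom.toAlgebra
  have huhc : UHC C C' := (uhc_iff C C').mp hg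
  obtain ⟨hint, hbij, hpi⟩ := huhc
  -- Step 1: representation of the value
  obtain ⟨r, b, a, -, hrep⟩ := exists_rep_span d (Set.univ : Set B) (by simp) x hx
  set c' := φ (PiTensorProduct.lift (MultilinearMap.mkPiAlgebra A (Fin d) B) x) with hc'def
  have hc' : c' = ∑ c : Fin d → Fin r, g (algebraMap A C (a (nu c))) * ∏ i, φ (b (c i)) := by
    rw [hc'def, hrep, map_sum, map_sum]
    refine Finset.sum_congr rfl fun c _ => ?_
    rw [map_smul, map_smul, PiTensorProduct.lift.tprod, MultilinearMap.mkPiAlgebra_apply, map_prod,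
      Algebra.smul_def, AlgHom.commutes]
  -- Step 2: rationality at each prime
  have hrat : ∀ (Q : Ideal C') [Q.IsPrime], ∃ a s : C, g s ∉ Q ∧ g s * c' - g a ∈ Q := by
    intro Q _
    apply res_of_mem_range g.toRingHom Q c'
    letI := (Ideal.ResidueField.map (Q.comap g.toRingHom) Q g.toRingHom rfl).toAlgebra
    haveI : IsPurelyInseparable (Q.comap g.toRingHom).ResidueField Q.ResidueField :=
      purelyInsep_of_pi g.toRingHom hpi Q
    have hmap : ∀ c : C, algebraMap (Q.comap g.toRingHom).ResidueField Q.ResidueField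
        (algebraMap C (Q.comap g.toRingHom).ResidueField c) = algebraMap C' Q.ResidueField (g c) :=
      fun c => Ideal.ResidueField.map_algebraMap (Q.comap g.toRingHom) Q g.toRingHom rfl c
    rw [hc', map_sum]
    simp only [map_mul, map_prod]
    rw [← Finset.sum_fiberwise_of_maps_to (t := Finset.univ.image nu) (g := nu)
      (fun c _ => Finset.mem_image_of_mem _ (Finset.mem_univ c))]
    refine Subring.sum_mem _ fun ν _ => ?_
    have h2 : ∀ c ∈ Finset.univ.filter (fun c : Fin d → Fin r => nu c = ν),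
        algebraMap C' Q.ResidueField (g (algebraMap A C (a (nu c)))) *
          ∏ i, algebraMap C' Q.ResidueField (φ (b (c i))) =
        algebraMap C' Q.ResidueField (g (algebraMap A C (a ν))) *
          ∏ i, algebraMap C' Q.ResidueField (φ (b (c i))) := by
      intro c hc
      rw [(Finset.mem_filter.1 hc).2]
    rw [Finset.sum_congr rfl h2, ← Finset.mul_sum]
    refine Subring.mul_mem _ ?_ ?_
    · rw [← hmap]
      exact ⟨_, rfl⟩
    · have hdegQ : Module.finrank (Q.comap g.toRingHom).ResidueField Q.ResidueField ∣ d :=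
        hdeg ⟨Q, inferInstance⟩
      exact orbit_prod_mem_range d hd hdegQ
        (fun l => algebraMap C' Q.ResidueField (φ (b l))) ν
  -- Step 3: the subalgebra generated by `c'`
  let E : Subalgebra C C' := Algebra.adjoin C {c'}
  have hE : UHC C E := uhc_sub ⟨hint, hbij, hpi⟩ E
  have hresE : Res C E := by
    rw [res_iff_resAlg]
    intro q' _
    obtain ⟨Q, hQ, hQq⟩ := exists_prime_over_sub hint E q'
    haveI := hQ
    have hle : E ≤ (resAlg C E q').map E.val := by
      apply Algebra.adjoin_le
      rintro _ rfl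
      obtain ⟨a0, s0, hs0, hsa0⟩ := hrat Q
      refine ⟨⟨c', Algebra.subset_adjoin rfl⟩, ⟨a0, s0, ?_, ?_⟩, rfl⟩
      · intro hmem
        rw [← hQq, Ideal.mem_comap] at hmem
        exact hs0 hmem
      · rw [← hQq, Ideal.mem_comap, map_sub, map_mul]
        exact hsa0
    rw [eq_top_iff]
    intro e _
    obtain ⟨t, ht, hte⟩ := hle e.2
    have : t = e := Subtype.ext hte
    rw [← this]
    exact ht
  have hSN : SN C E := ⟨hE.1, hE.2.1, hresE⟩
  haveI : IsReduced C := isReduced_of_isSeminormalRing hC
  haveI : IsReduced E := isReduced_of_injective E.val Subtype.val_injective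
  have hinj : Function.Injective (algebraMap C E) := by
    rw [injective_iff_map_eq_zero]
    intro z hz
    apply IsReduced.eq_zero
    rw [← mem_nilradical, nilradical_eq_sInf, Ideal.mem_sInf]
    intro p hp
    obtain ⟨Q, hQ⟩ := hE.2.1.2 ⟨p, hp⟩
    have : p = Q.asIdeal.comap (algebraMap C E) := (congrArg PrimeSpectrum.asIdeal hQ).symm
    rw [this, Ideal.mem_comap, hz]
    exact zero_mem _
  have hsurj : Function.Surjective (algebraMap C E) := by
    by_contra hns
    obtain ⟨bb, hb, ⟨x2, hx2⟩, ⟨x3, hx3⟩⟩ := sn_exists_sq_cube hSN hns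
    have h32 : x2 ^ 3 = x3 ^ 2 := by
      apply hinj
      rw [map_pow, map_pow, hx2, hx3]
      ring
    obtain ⟨a0, ⟨ha2, ha3⟩, -⟩ := hC x2 x3 h32
    have : algebraMap C E a0 = bb := by
      apply eq_of_sq_eq_of_cube_eq
      · rw [← map_pow, ← ha2, hx2]
      · rw [← map_pow, ← ha3, hx3]
    exact hb ⟨a0, this⟩
  obtain ⟨c0, hc0⟩ := hsurj ⟨c', Algebra.subset_adjoin rfl⟩
  exact ⟨c0, congrArg Subtype.val hc0⟩

end Groth.Agent.H9.TSV
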