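import Mathlib

/-!
# A triangulated category with a bounded t-structure is idempotent complete
-/

set_option autoImplicit false
universe v u

namespace Groth.Agent.H9.TStrKaroubi

open CategoryTheory CategoryTheory.Limits CategoryTheory.Pretriangulated CategoryTheory.Triangulated

variable {C : Type u} [Category.{v} C] [Preadditive C] [HasZeroObject C] [HasShift C ℤ]
  [∀ n : ℤ, (shiftFunctor C n).Additive] [Pretriangulated C]

/-- An endomorphism splits. -/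
def Splits {X : C} (e : X ⟶ X) : Prop :=
  ∃ (Y : C) (i : Y ⟶ X) (r : X ⟶ Y), i ≫ r = 𝟙 Y ∧ r ≫ i = e

omit [HasZeroObject C] [HasShift C ℤ] [∀ n : ℤ, (shiftFunctor C n).Additive] [Pretriangulated C] in
/-- pure algebra: an idempotent `q` with `e q = q = q e`, `(q - e)² = 0` equals `e`. -/
theorem eq_of_sq_zero {X : C} (e q : X ⟶ X) (hq : q ≫ q = q) (he : e ≫ e = e) (heq : e ≫ q = q)
    (hqe : q ≫ e = q) (hd : (q - e) ≫ (q - e) = 0) : q = e := by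
  have h1 : (q - e) ≫ (q - e) = e - q := by
    simp only [Preadditive.sub_comp, Preadditive.comp_sub, hq, he, heq, hqe]
    abel
  rw [hd] at h1
  exact (sub_eq_zero.mp h1.symm).symm

theorem splits_of_triangle (T : Triangle C) (hT : T ∈ distTriang C) (φ : T ⟶ T)
    (h₂ : φ.hom₂ ≫ φ.hom₂ = φ.hom₂)
    (h1 : Splits φ.hom₁) (h3 : Splits φ.hom₃) : Splits φ.hom₂ := by
  obtain ⟨Y₁, i₁, r₁, hir₁, hri₁⟩ := h1
  obtain ⟨Y₃, i₃, r₃, hir₃, hri₃⟩ := h3
  have c1 := φ.comm₁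
  have c2 := φ.comm₂
  have c3 := φ.comm₃
  -- basic identities
  have hie₁ : i₁ ≫ φ.hom₁ = i₁ := by rw [← hri₁, reassoc_of% hir₁]
  have her₁ : φ.hom₁ ≫ r₁ = r₁ := by rw [← hri₁, Category.assoc, hir₁, Category.comp_id]
  have hie₃ : i₃ ≫ φ.hom₃ = i₃ := by rw [← hri₃, reassoc_of% hir₃]
  have her₃ : φ.hom₃ ≫ r₃ = r₃ := by rw [← hri₃, Category.assoc, hir₃, Category.comp_id]
  have hee₁ : φ.hom₁ ≫ φ.hom₁ = φ.hom₁ := by
    rw [← hri₁, Category.assoc, reassoc_of% hir₁]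
  have hee₃ : φ.hom₃ ≫ φ.hom₃ = φ.hom₃ := by
    rw [← hri₃, Category.assoc, reassoc_of% hir₃]
  -- the triangle on the `Y`'s
  let c : Y₃ ⟶ Y₁⟦(1 : ℤ)⟧ := i₃ ≫ T.mor₃ ≫ r₁⟦(1 : ℤ)⟧'
  obtain ⟨Y₂, a, b, hTY⟩ := distinguished_cocone_triangle₂ c
  have hcomm1 : c ≫ i₁⟦(1 : ℤ)⟧' = i₃ ≫ T.mor₃ := by
    dsimp only [c]
    simp only [Category.assoc, ← Functor.map_comp, hri₁]
    rw [c3, reassoc_of% hie₃]
  have hcomm2 : T.mor₃ ≫ r₁⟦(1 : ℤ)⟧' = r₃ ≫ c := by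
    dsimp only [c]
    rw [reassoc_of% hri₃, ← reassoc_of% c3, ← Functor.map_comp, her₁]
  obtain ⟨i₂, hi₂a, hi₂b⟩ : ∃ i₂ : Y₂ ⟶ T.obj₂, a ≫ i₂ = i₁ ≫ T.mor₁ ∧ b ≫ i₃ = i₂ ≫ T.mor₂ :=
    complete_distinguished_triangle_morphism₂ (Triangle.mk a b c) T hTY hT i₁ i₃ hcomm1
  obtain ⟨r₂, hr₂a, hr₂b⟩ : ∃ r₂ : T.obj₂ ⟶ Y₂, T.mor₁ ≫ r₂ = r₁ ≫ a ∧ T.mor₂ ≫ r₃ = r₂ ≫ b :=
    complete_distinguished_triangle_morphism₂ T (Triangle.mk a b c) hT hTY r₁ r₃ hcomm2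
  -- the endomorphism `s'` of `Y₂`
  let s : Y₂ ⟶ Y₂ := i₂ ≫ φ.hom₂ ≫ r₂
  have has : a ≫ s = a := by
    dsimp [s]
    rw [reassoc_of% hi₂a, reassoc_of% c1, hr₂a, reassoc_of% hie₁, reassoc_of% hir₁]
  have hsb : s ≫ b = b := by
    dsimp [s]
    simp only [Category.assoc]
    rw [← hr₂b, ← reassoc_of% c2, ← reassoc_of% hi₂b, reassoc_of% hie₃, hir₃, Category.comp_id]
  have hn1 : a ≫ (s - 𝟙 Y₂) = 0 := by rw [Preadditive.comp_sub, has, Category.comp_id, sub_self]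
  have hn2 : (s - 𝟙 Y₂) ≫ b = 0 := by rw [Preadditive.sub_comp, hsb, Category.id_comp, sub_self]
  obtain ⟨n', hn'⟩ : ∃ n' : Y₃ ⟶ Y₂, s - 𝟙 Y₂ = b ≫ n' :=
    Triangle.yoneda_exact₂ _ hTY (s - 𝟙 Y₂) hn1
  have hnn : (s - 𝟙 Y₂) ≫ (s - 𝟙 Y₂) = 0 := by
    have h : (s - 𝟙 Y₂) ≫ (s - 𝟙 Y₂) = ((s - 𝟙 Y₂) ≫ b) ≫ n' := by
      rw [Category.assoc, ← hn']
    rw [h, hn2, zero_comp]
  let t : Y₂ ⟶ Y₂ := 𝟙 Y₂ - (s - 𝟙 Y₂)
  have hst : s ≫ t = 𝟙 Y₂ := by
    have h : s ≫ t = (𝟙 Y₂ + (s - 𝟙 Y₂)) ≫ (𝟙 Y₂ - (s - 𝟙 Y₂)) := by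
      congr 1
      abel
    have key : ∀ n : Y₂ ⟶ Y₂, n ≫ n = 0 → (𝟙 Y₂ + n) ≫ (𝟙 Y₂ - n) = 𝟙 Y₂ := by
      intro n hn
      simp only [Preadditive.add_comp, Preadditive.comp_sub, hn,
        Category.id_comp, Category.comp_id]
      abel
    rw [h, key _ hnn]
  have hat : a ≫ t = a := by
    dsimp [t]
    rw [Preadditive.comp_sub, hn1, Category.comp_id, sub_zero]
  have htb : t ≫ b = b := by
    dsimp [t]
    rw [Preadditive.sub_comp, hn2, Category.id_comp, sub_zero]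
  -- the splitting
  refine ⟨Y₂, i₂ ≫ φ.hom₂, φ.hom₂ ≫ r₂ ≫ t, ?_, ?_⟩
  · simp only [Category.assoc]
    rw [reassoc_of% h₂]
    have : i₂ ≫ φ.hom₂ ≫ r₂ ≫ t = s ≫ t := by dsimp [s]; simp only [Category.assoc]
    rw [this, hst]
  · set q : T.obj₂ ⟶ T.obj₂ := (φ.hom₂ ≫ r₂ ≫ t) ≫ i₂ ≫ φ.hom₂ with hq
    have hir : (i₂ ≫ φ.hom₂) ≫ (φ.hom₂ ≫ r₂ ≫ t) = 𝟙 Y₂ := by
      simp only [Category.assoc]
      rw [reassoc_of% h₂]
      have : i₂ ≫ φ.hom₂ ≫ r₂ ≫ t = s ≫ t := by dsimp [s]; simp only [Category.assoc]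
      rw [this, hst]
    have hqq : q ≫ q = q := by
      rw [hq]
      simp only [Category.assoc]
      have := hir
      simp only [Category.assoc] at this
      rw [reassoc_of% this]
    have heq : φ.hom₂ ≫ q = q := by
      rw [hq]; simp only [Category.assoc]; rw [reassoc_of% h₂]
    have hqe : q ≫ φ.hom₂ = q := by
      rw [hq]; simp only [Category.assoc]; rw [h₂]
    have hu : T.mor₁ ≫ (q - φ.hom₂) = 0 := by
      rw [Preadditive.comp_sub, sub_eq_zero, hq]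
      simp only [Category.assoc]
      rw [reassoc_of% c1, reassoc_of% hr₂a, reassoc_of% hat, reassoc_of% hi₂a, c1,
        reassoc_of% her₁, reassoc_of% hri₁, reassoc_of% hee₁]
    have hv : (q - φ.hom₂) ≫ T.mor₂ = 0 := by
      rw [Preadditive.sub_comp, sub_eq_zero, hq]
      simp only [Category.assoc]
      rw [← c2, ← reassoc_of% hi₂b, reassoc_of% htb, ← reassoc_of% hr₂b, reassoc_of% hri₃,
        hee₃, c2, reassoc_of% h₂]
    obtain ⟨d'', hd''⟩ := Triangle.yoneda_exact₂ _ hT (q - φ.hom₂) hu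
    have hdd : (q - φ.hom₂) ≫ (q - φ.hom₂) = 0 := by
      have h : (q - φ.hom₂) ≫ (q - φ.hom₂) = ((q - φ.hom₂) ≫ T.mor₂) ≫ d'' := by
        rw [Category.assoc, ← hd'']
      rw [h, hv, zero_comp]
    exact eq_of_sq_zero φ.hom₂ q hqq h₂ heq hqe hdd

section Heart

variable [IsTriangulated C] (t : TStructure C)

/-- Objects concentrated in the single degree `a`. -/
def conc (a : ℤ) : ObjectProperty C := fun X => t.IsLE X a ∧ t.IsGE X a

omit [IsTriangulated C] in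
theorem hom_shift_eq_zero (a : ℤ) ⦃X Y : (conc t a).FullSubcategory⦄ ⦃n : ℤ⦄
    (f : (conc t a).ι.obj X ⟶ ((conc t a).ι.obj Y)⟦n⟧) (hn : n < 0) : f = 0 := by
  have h1 : t.IsLE ((conc t a).ι.obj X) a := X.property.1
  have h2 : t.IsGE ((conc t a).ι.obj Y) a := Y.property.2
  have h3 : t.IsGE (((conc t a).ι.obj Y)⟦n⟧) (a - n) := t.isGE_shift _ a n (a - n) (by lia)
  exact t.zero f a (a - n) (by lia)

theorem admissible (a : ℤ) {X₁ X₂ : (conc t a).FullSubcategory} (f : X₁ ⟶ X₂) :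
    AbelianSubcategory.admissibleMorphism (conc t a).ι f := by
  intro X₃ f₂ f₃ hT
  have hX₁le : t.IsLE X₁.obj a := X₁.property.1
  have hX₁ge : t.IsGE X₁.obj a := X₁.property.2
  have hX₂le : t.IsLE X₂.obj a := X₂.property.1
  have hX₂ge : t.IsGE X₂.obj a := X₂.property.2
  -- `X₃` is `≤ a` and `≥ a - 1`
  have hrot := rot_of_distTriang _ hT
  have hle3 : t.IsLE X₃ a := by
    refine t.isLE₂ _ hrot a hX₂le ?_
    have : t.IsLE (X₁.obj⟦(1 : ℤ)⟧) (a - 1) := t.isLE_shift X₁.obj a 1 (a - 1) (by lia)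
    exact t.isLE_of_le (X₁.obj⟦(1 : ℤ)⟧) (a - 1) a (by lia)
  have hge3 : t.IsGE X₃ (a - 1) := by
    refine t.isGE₂ _ hrot (a - 1) ?_ ?_
    · exact t.isGE_of_ge X₂.obj (a - 1) a (by lia)
    · exact t.isGE_shift X₁.obj a 1 (a - 1) (by lia)
  -- truncations
  have hK1 : t.IsLE ((t.truncLT a).obj X₃) (a - 1) := inferInstance
  have hK2 : t.IsGE ((t.truncLT a).obj X₃) (a - 1) := inferInstance
  have hQ1 : t.IsLE ((t.truncGE a).obj X₃) a := inferInstance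
  have hQ2 : t.IsGE ((t.truncGE a).obj X₃) a := inferInstance
  let K : (conc t a).FullSubcategory :=
    ⟨((t.truncLT a).obj X₃)⟦(-1 : ℤ)⟧,
      ⟨t.isLE_shift _ (a - 1) (-1) a (by lia), t.isGE_shift _ (a - 1) (-1) a (by lia)⟩⟩
  let Q : (conc t a).FullSubcategory := ⟨(t.truncGE a).obj X₃, ⟨hQ1, hQ2⟩⟩
  let e : (((t.truncLT a).obj X₃)⟦(-1 : ℤ)⟧)⟦(1 : ℤ)⟧ ≅ (t.truncLT a).obj X₃ :=
    (shiftEquiv C (1 : ℤ)).counitIso.app _
  refine ⟨K, Q, e.hom ≫ (t.truncLTι a).app X₃, (t.truncGEπ a).app X₃,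
    (t.truncGEδLT a).app X₃ ≫ e.inv⟦(1 : ℤ)⟧', ?_⟩
  have hT' : Triangle.mk ((t.truncLTι a).app X₃) ((t.truncGEπ a).app X₃)
      ((t.truncGEδLT a).app X₃) ∈ distTriang C := t.triangleLTGE_distinguished a X₃
  refine isomorphic_distinguished _ hT' _ ?_
  refine Triangle.isoMk _ _ e (Iso.refl _) (Iso.refl _) ?_ ?_ ?_
  · change (e.hom ≫ (t.truncLTι a).app X₃) ≫ 𝟙 _ = e.hom ≫ (t.truncLTι a).app X₃
    exact Category.comp_id _
  · change (t.truncGEπ a).app X₃ ≫ 𝟙 _ = 𝟙 _ ≫ (t.truncGEπ a).app X₃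
    exact (Category.comp_id _).trans (Category.id_comp _).symm
  · change ((t.truncGEδLT a).app X₃ ≫ e.inv⟦(1 : ℤ)⟧') ≫ e.hom⟦(1 : ℤ)⟧'
      = 𝟙 _ ≫ (t.truncGEδLT a).app X₃
    rw [Category.assoc, ← CategoryTheory.Functor.map_comp, e.inv_hom_id,
      CategoryTheory.Functor.map_id]
    exact (Category.comp_id _).trans (Category.id_comp _).symm

instance (a : ℤ) : IsIdempotentComplete (conc t a).FullSubcategory := by
  rw [Idempotents.isIdempotentComplete_iff_idempotents_have_kernels]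
  intro X p _
  exact AbelianSubcategory.hasKernel_of_admissibleMorphism (hom_shift_eq_zero t a) p
    (admissible t a p)

theorem splits_of_conc (a : ℤ) (X : C) (h1 : t.IsLE X a) (h2 : t.IsGE X a) (e : X ⟶ X)
    (he : e ≫ e = e) : Splits e := by
  let X' : (conc t a).FullSubcategory := ⟨X, ⟨h1, h2⟩⟩
  let p : X' ⟶ X' := ObjectProperty.homMk e
  have hp : p ≫ p = p := by
    ext
    exact he
  obtain ⟨Y, i, r, hir, hri⟩ := IsIdempotentComplete.idempotents_split X' p hp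
  refine ⟨Y.obj, i.hom, r.hom, ?_, ?_⟩
  · exact congrArg (fun f => f.hom) hir
  · exact congrArg (fun f => f.hom) hri

theorem splits_of_amplitude (N : ℕ) : ∀ (X : C) (a b : ℤ), t.IsGE X a → t.IsLE X b → b - a < N →
    ∀ e : X ⟶ X, e ≫ e = e → Splits e := by
  have hzero : ∀ (X : C) (a b : ℤ), t.IsGE X a → t.IsLE X b → b < a →
      ∀ e : X ⟶ X, Splits e := by
    intro X a b ha hb hab e
    have hX : IsZero X := t.isZero X b a hab
    exact ⟨X, 𝟙 X, 𝟙 X, by simp, hX.eq_of_src _ _⟩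
  induction N with
  | zero =>
    intro X a b ha hb hab e _
    exact hzero X a b ha hb (by lia) e
  | succ N ih =>
    intro X a b ha hb hab e he
    by_cases hlt : b < a
    · exact hzero X a b ha hb hlt e
    · have hT := t.triangleLTGE_distinguished (a + 1) X
      let φ := (t.triangleLTGE (a + 1)).map e
      have hφ : φ ≫ φ = φ := by
        dsimp only [φ]
        rw [← Functor.map_comp, he]
      have hφ1 : φ.hom₁ ≫ φ.hom₁ = φ.hom₁ := congrArg (fun ψ => ψ.hom₁) hφ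
      have hφ3 : φ.hom₃ ≫ φ.hom₃ = φ.hom₃ := congrArg (fun ψ => ψ.hom₃) hφ
      have h1 : Splits φ.hom₁ := by
        refine splits_of_conc t a _ ?_ ?_ _ hφ1
        · change t.IsLE ((t.truncLT (a + 1)).obj X) a
          infer_instance
        · change t.IsGE ((t.truncLT (a + 1)).obj X) a
          infer_instance
      have h3 : Splits φ.hom₃ := by
        refine ih _ (a + 1) b ?_ ?_ (by lia) _ hφ3
        · change t.IsGE ((t.truncGE (a + 1)).obj X) (a + 1)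
          infer_instance
        · change t.IsLE ((t.truncGE (a + 1)).obj X) b
          infer_instance
      exact splits_of_triangle _ hT φ he h1 h3

theorem isIdempotentComplete_of_bounded (hb : ∀ X : C, t.bounded X) : IsIdempotentComplete C := by
  refine ⟨fun X p hp => ?_⟩
  obtain ⟨⟨a, ha⟩, ⟨b, hb'⟩⟩ := hb X
  exact splits_of_amplitude t (b - a + 1).toNat X a b ha hb' (by lia) p hp

end Heart

end Groth.Agent.H9.TStrKaroubi
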