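import Mathlib

set_option autoImplicit false
set_option linter.style.haveILetI false
set_option linter.unusedSectionVars false
set_option linter.unusedVariables false

namespace Groth.Agent.H9.TWH

open Polynomial

universe u

section

variable (A : Type u) [CommRing A] (As : ℕ → Type u) [∀ k, CommRing (As k)]
    (t : ∀ k, As (k + 1) →+* As k)
    (hnil : ∀ k (x : As (k + 1)), t k x = 0 → IsNilpotent x)
    (p : ∀ k, A →+* As k) (hp : ∀ k, (t k).comp (p (k + 1)) = p k)

include hp in
lemma p_succ (k : ℕ) (a : A) : t k (p (k + 1) a) = p k a := by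
  rw [← hp k]; rfl

include hp in
lemma p_eq_zero_of_le {k : ℕ} {a : A} (ha : p k a = 0) : ∀ j, j ≤ k → p j a = 0 := by
  intro j hj
  induction k, hj using Nat.le_induction with
  | base => exact ha
  | succ n hn ih =>
    apply ih
    rw [← p_succ A As t p hp n a, ha, map_zero]

include hp hnil in
lemma nil_of_ker {k : ℕ} {a : A} (ha : p k a = 0) (m : ℕ) : IsNilpotent (p m a) := by
  rcases le_total m k with h | h
  · rw [p_eq_zero_of_le A As t p hp ha m h]
    exact IsNilpotent.zero
  · induction m, h using Nat.le_induction with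
    | base => rw [ha]; exact IsNilpotent.zero
    | succ n hn ih =>
      obtain ⟨N, hN⟩ := ih
      have h1 : t n ((p (n + 1) a) ^ N) = 0 := by
        rw [map_pow, p_succ A As t p hp n a, hN]
      obtain ⟨M, hM⟩ := hnil n _ h1
      exact ⟨N * M, by rw [pow_mul, hM]⟩

end

theorem main (A : Type u) [CommRing A] (As : ℕ → Type u) [∀ k, CommRing (As k)]
    (t : ∀ k, As (k + 1) →+* As k) (ht : ∀ k, Function.Surjective (t k))
    (hnil : ∀ k (x : As (k + 1)), t k x = 0 → IsNilpotent x)
    (p : ∀ k, A →+* As k) (hp : ∀ k, (t k).comp (p (k + 1)) = p k)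
    (hinj : ∀ a b : A, (∀ k, p k a = p k b) → a = b)
    (hsurj : ∀ x : ∀ k, As k, (∀ k, t k (x (k + 1)) = x k) → ∃ a : A, ∀ k, p k a = x k) (k : ℕ) :
    HenselianRing A (RingHom.ker (p k)) := by
  have hps := p_succ A As t p hp
  have hnk := fun {a : A} (ha : p k a = 0) => nil_of_ker A As t hnil p hp ha
  -- units: an element all of whose images are units is a unit
  have hunit : ∀ u : A, (∀ m, IsUnit (p m u)) → IsUnit u := by
    intro u hu
    choose v hv using fun m => (hu m).exists_right_inv
    have hcomp : ∀ m, t m (v (m + 1)) = v m := by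
      intro m
      have h1 : p m u * t m (v (m + 1)) = 1 := by
        rw [← hps m u, ← map_mul, hv, map_one]
      calc t m (v (m + 1)) = (v m * p m u) * t m (v (m + 1)) := by
            rw [mul_comm (v m), hv, one_mul]
        _ = v m := by rw [mul_assoc, h1, mul_one]
    obtain ⟨w, hw⟩ := hsurj v hcomp
    refine IsUnit.of_mul_eq_one w (hinj _ _ fun m => ?_)
    rw [map_mul, hw, hv, map_one]
  constructor
  · intro x hx
    rw [RingHom.mem_ker] at hx
    rw [Ideal.mem_jacobson_bot]
    intro y
    apply hunit
    intro m
    rw [map_add, map_mul, map_one]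
    exact IsNilpotent.isUnit_add_one ((Commute.all _ _).isNilpotent_mul_right (hnk hx m))
  · intro f hf a₀ h₀ h₁
    rw [RingHom.mem_ker] at h₀
    -- the derivative is a unit modulo ker, so its images are units
    obtain ⟨c', hc'⟩ := h₁.exists_right_inv
    obtain ⟨c, rfl⟩ := Ideal.Quotient.mk_surjective c'
    rw [← map_mul, ← map_one (Ideal.Quotient.mk (RingHom.ker (p k))), Ideal.Quotient.eq,
      RingHom.mem_ker] at hc'
    have hder : ∀ m, IsUnit (p m (f.derivative.eval a₀)) := by
      intro m
      have h2 : p m (f.derivative.eval a₀) * p m c = p m (f.derivative.eval a₀ * c - 1) + 1 := by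
        rw [map_sub, map_mul, map_one]; ring
      have h3 : IsUnit (p m (f.derivative.eval a₀) * p m c) := by
        rw [h2]
        exact IsNilpotent.isUnit_add_one (hnk hc' m)
      exact isUnit_of_mul_isUnit_left h3
    -- the roots at each level
    have hex : ∀ m, ∃! r : As m, IsNilpotent (p m a₀ - r) ∧ aeval r (f.map (p m)) = 0 := by
      intro m
      apply Polynomial.existsUnique_nilpotent_sub_and_aeval_eq_zero
      · rw [coe_aeval_eq_eval, eval_map_apply]
        exact hnk h₀ m
      · rw [coe_aeval_eq_eval, derivative_map, eval_map_apply]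
        exact hder m
    choose x hx hxu using hex
    have hcomp : ∀ m, t m (x (m + 1)) = x m := by
      intro m
      apply hxu m
      constructor
      · rw [← hps m a₀, ← map_sub]
        exact (hx (m + 1)).1.map (t m)
      · have h4 := (hx (m + 1)).2
        rw [coe_aeval_eq_eval] at h4 ⊢
        have h5 : f.map (p m) = (f.map (p (m + 1))).map (t m) := by
          rw [Polynomial.map_map, hp m]
        rw [h5, eval_map_apply, h4, map_zero]
    obtain ⟨a, ha⟩ := hsurj x hcomp
    refine ⟨a, ?_, ?_⟩
    · apply hinj
      intro m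
      rw [map_zero, ← eval_map_apply, ha]
      have h4 := (hx m).2
      rwa [coe_aeval_eq_eval] at h4
    · rw [RingHom.mem_ker, map_sub, ha, sub_eq_zero]
      symm
      apply hxu k
      constructor
      · rw [sub_self]; exact IsNilpotent.zero
      · rw [coe_aeval_eq_eval, eval_map_apply, h₀]

end Groth.Agent.H9.TWH
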