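import Mathlib
import Groth.Prelude.Def_W4c1tameactTame
import Groth.Prelude.Def_GLin
import Groth.Agent.Lib.Helper9.ComodHom

/-!
# Exactness of invariants gives a total integral (finite locally free Hopf algebras) (helper9)
-/

set_option autoImplicit false
set_option linter.style.haveILetI false
set_option linter.unusedSectionVars false
set_option linter.unusedVariables false

universe u

open TensorProduct

namespace Groth.Agent.H9.TameExact

open Groth.Agent.H9.ComodHom

variable {k : Type u} [CommRing k] {A : Type u} [CommRing A] [HopfAlgebra k A]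
  {B : Type u} [CommRing B] [Algebra k B] [HopfRep.Comod k A B] [GLin.IsCoactAlg k A B]

/-- the key identity making `B ⊗ V` a `(B, A)`-module for any comodule `V` -/
lemma hm_key {V : Type u} [AddCommGroup V] [Module k V] (y y' : B ⊗[k] A) (z : V ⊗[k] A) :
    TensorProduct.map LinearMap.id (LinearMap.mul' k A)
      (AlgebraTensorModule.tensorTensorTensorComm k k k k B A V A ((y * y') ⊗ₜ[k] z)) =
    TameAct.hmSMul k A B (B ⊗[k] V) y
      (TensorProduct.map LinearMap.id (LinearMap.mul' k A)
        (AlgebraTensorModule.tensorTensorTensorComm k k k k B A V A (y' ⊗ₜ[k] z))) := by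
  induction y using TensorProduct.induction_on with
  | zero => simp
  | add y₁ y₂ h₁ h₂ => simp only [add_mul, TensorProduct.add_tmul, map_add, h₁, h₂,
      LinearMap.add_apply]
  | tmul b₀ a₀ =>
    induction y' using TensorProduct.induction_on with
    | zero => simp
    | add y₁ y₂ h₁ h₂ => simp only [mul_add, TensorProduct.add_tmul, map_add, h₁, h₂]
    | tmul b₁ a₁ =>
      induction z using TensorProduct.induction_on with
      | zero => simp
      | add z₁ z₂ h₁ h₂ => simp only [TensorProduct.tmul_add, map_add, h₁, h₂]
      | tmul v a₂ =>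
        simp only [Algebra.TensorProduct.tmul_mul_tmul,
          AlgebraTensorModule.tensorTensorTensorComm_tmul, TensorProduct.map_tmul,
          LinearMap.id_apply, LinearMap.mul'_apply, TameAct.hmSMul_tmul,
          TensorProduct.smul_tmul', smul_eq_mul, mul_assoc]

/-- exactness of invariants on `(B, A)`-modules gives a total integral when `A` is finite locally
free -/
theorem exists_totalIntegral_of_exact [Module.Finite k A] [Module.Projective k A]
    (hexact : ∀ (M N : Type u) [AddCommGroup M] [Module k M] [Module B M] [IsScalarTower k B M]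
      [HopfRep.Comod k A M] [TameAct.IsHopfMod k A B M]
      [AddCommGroup N] [Module k N] [Module B N] [IsScalarTower k B N]
      [HopfRep.Comod k A N] [TameAct.IsHopfMod k A B N] (f : M →ₗ[B] N),
      Hoch.IsComodHom A (f.restrictScalars k) → Function.Surjective f →
      ∀ n ∈ HopfRep.fixedPts k A N, ∃ m ∈ HopfRep.fixedPts k A M, f m = n) :
    ∃ α : A →ₗ[k] B, Hoch.IsComodHom A α ∧ α 1 = 1 := by
  let cB : HopfRep.Comod k A B := inferInstance
  let cM : HopfRep.Comod k A A := HopfRep.Comod.regular k A
  obtain ⟨d, hd⟩ := Groth.Agent.H9.Dual.exists_isDual cM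
  letI instM : HopfRep.Comod k A (B ⊗[k] Module.Dual k A) := ComodTens.Comod.tensor cB d
  haveI hHM : TameAct.IsHopfMod k A B (B ⊗[k] Module.Dual k A) := by
    constructor
    intro b x
    induction x using TensorProduct.induction_on with
    | zero => simp
    | add x₁ x₂ h₁ h₂ => rw [smul_add, map_add, map_add, map_add, h₁, h₂]
    | tmul b' φ =>
      rw [TensorProduct.smul_tmul', smul_eq_mul]
      show (ComodTens.Comod.tensor cB d).coact ((b * b') ⊗ₜ[k] φ) =
        TameAct.hmSMul k A B (B ⊗[k] Module.Dual k A) (cB.coact b)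
          ((ComodTens.Comod.tensor cB d).coact (b' ⊗ₜ[k] φ))
      rw [ComodTens.tensor_coact_tmul, ComodTens.tensor_coact_tmul,
        GLin.IsCoactAlg.coact_mul (k := k) (A := A) b b']
      exact hm_key _ _ _
  haveI hHB : TameAct.IsHopfMod k A B B := by
    constructor
    intro b m
    rw [smul_eq_mul, GLin.IsCoactAlg.coact_mul]
    generalize HopfRep.Comod.coact (k := k) (A := A) b = x
    generalize HopfRep.Comod.coact (k := k) (A := A) m = y
    induction x using TensorProduct.induction_on with
    | zero => simp
    | add x₁ x₂ h₁ h₂ => rw [add_mul, map_add, LinearMap.add_apply, h₁, h₂]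
    | tmul b₀ a₀ =>
      induction y using TensorProduct.induction_on with
      | zero => simp
      | add y₁ y₂ h₁ h₂ => rw [mul_add, map_add, h₁, h₂]
      | tmul b₁ a₁ => simp
  -- the evaluation at 1 as a B-linear map
  let f : B ⊗[k] Module.Dual k A →ₗ[B] B :=
    { toFun := evB k B A (1 : A)
      map_add' := map_add _
      map_smul' := by
        intro b x
        induction x using TensorProduct.induction_on with
        | zero => simp
        | add x₁ x₂ h₁ h₂ => rw [smul_add, map_add, map_add, h₁, h₂, smul_add]
        | tmul b' φ =>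
          rw [TensorProduct.smul_tmul', evB_tmul, evB_tmul, RingHom.id_apply, smul_comm] }
  have hf1 : ∀ x, f x = evB k B A (1 : A) x := fun _ => rfl
  have hfcomod : Hoch.IsComodHom A (f.restrictScalars k) := by
    apply LinearMap.ext
    intro x
    show cB.coact (evB k B A 1 x) =
      LinearMap.rTensor A (f.restrictScalars k) ((ComodTens.Comod.tensor cB d).coact x)
    have h1 := rTensor_evB_tensor_coact cB cM d hd x (1 : A)
    have h2 : (f.restrictScalars k : B ⊗[k] Module.Dual k A →ₗ[k] B) = evB k B A (1 : A) := by
      apply LinearMap.ext; intro y; rfl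
    rw [h2, h1, Tw_apply]
    have h3 : cM.coact (1 : A) = (1 : A) ⊗ₜ[k] (1 : A) := by
      show CoalgebraStruct.comul (R := k) (1 : A) = _
      rw [Bialgebra.comul_one]
      rfl
    rw [h3, TensorProduct.map_tmul, HopfAlgebra.antipode_one, rmul_one, LinearMap.comp_apply,
      dualTensorHom_comm_apply]
  have hfsurj : Function.Surjective f := by
    intro b
    refine ⟨b ⊗ₜ[k] (CoalgebraStruct.counit (R := k) (A := A)), ?_⟩
    rw [hf1, evB_tmul]
    simp
  have h1fix : (1 : B) ∈ HopfRep.fixedPts k A B := by
    show HopfRep.Comod.coact (k := k) (A := A) (1 : B) = (1 : B) ⊗ₜ[k] (1 : A)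
    rw [GLin.IsCoactAlg.coact_one (k := k) (A := A) (R := B)]
    rfl
  obtain ⟨x, hx, hfx⟩ := hexact (B ⊗[k] Module.Dual k A) B f hfcomod hfsurj 1 h1fix
  refine ⟨dualTensorHom k A B (TensorProduct.comm k B (Module.Dual k A) x), ?_, ?_⟩
  · exact isComodHom_of_coact_eq cB cM d hd x hx
  · rw [dualTensorHom_comm_apply, ← hf1, hfx]

end Groth.Agent.H9.TameExact
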