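import Mathlib
import Groth.Prelude.Def_W4c3tautjacobianRel

/-! Helper9: sl2 commutation relation in the formal relation ring. -/

set_option linter.unusedSectionVars false
set_option linter.unusedVariables false
set_option linter.unusedSimpArgs false

namespace Groth.Agent.H9.TautSl2

open W4c3tautjacobian MvPolynomial

/-- first-degree weight, integer valued -/
def w1 (g : ℕ) (v : Var g) : ℤ := ((wt g v).1 : ℤ)

theorem dv_add (g : ℕ) (p : ℕ × ℕ) (P Q : RelRing g) : dv g p (P + Q) = dv g p P + dv g p Q := by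
  unfold dv
  split_ifs
  · rw [map_add]
  · simp

theorem dv_smul (g : ℕ) (p : ℕ × ℕ) (c : ℚ) (P : RelRing g) : dv g p (c • P) = c • dv g p P := by
  unfold dv
  split_ifs
  · exact Derivation.map_smul _ c P
  · simp

theorem dv_zero (g : ℕ) (p : ℕ × ℕ) : dv g p (0 : RelRing g) = 0 := by
  unfold dv
  split_ifs
  · rw [map_zero]
  · rfl

theorem dv_sum (g : ℕ) (p : ℕ × ℕ) {ι : Type*} (s : Finset ι) (f : ι → RelRing g) :
    dv g p (∑ i ∈ s, f i) = ∑ i ∈ s, dv g p (f i) := by
  classical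
  induction s using Finset.induction_on with
  | empty => simp [dv_zero]
  | insert a s ha ih => rw [Finset.sum_insert ha, Finset.sum_insert ha, dv_add, ih]

theorem F_add (g : ℕ) (P Q : RelRing g) : F g (P + Q) = F g P + F g Q := by
  unfold F
  simp only [dv_add, mul_add, Finset.sum_add_distrib, smul_add]
  abel

theorem F_smul (g : ℕ) (c : ℚ) (P : RelRing g) : F g (c • P) = c • F g P := by
  unfold F
  simp only [dv_smul, mul_smul_comm, ← Finset.smul_sum, smul_add]
  rw [smul_comm]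

theorem F_zero (g : ℕ) : F g (0 : RelRing g) = 0 := by
  have := F_smul g 0 (0 : RelRing g)
  simpa using this

theorem valid20 (g : ℕ) (hg : 1 ≤ g) : Valid g (2, 0) := by
  refine ⟨by simp, by simp; omega, by decide, by simp⟩

theorem xv20 (g : ℕ) (hg : 1 ≤ g) : xv g 2 0 = X (some ⟨(2, 0), valid20 g hg⟩) := by
  unfold xv
  rw [if_neg (by simp)]
  rw [dif_pos ⟨by norm_num, by norm_num, by simpa using valid20 g hg⟩]
  rfl

theorem xv_nat (g : ℕ) (p : ℕ × ℕ) (h : Valid g p) :
    xv g (p.1 : ℤ) (p.2 : ℤ) = X (some ⟨p, h⟩) := by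
  unfold xv
  have hne : ¬ ((p.1 : ℤ) = 0 ∧ (p.2 : ℤ) = 0) := by
    intro h0
    apply h.2.2.2
    ext
    · exact_mod_cast h0.1
    · exact_mod_cast h0.2
  rw [if_neg hne]
  rw [dif_pos ⟨by positivity, by positivity, by simpa using h⟩]
  congr 2

theorem xv_neg_snd (g : ℕ) (i j : ℤ) (hj : j < 0) : xv g i j = 0 := by
  unfold xv
  rw [if_neg (by omega), dif_neg (by omega)]

theorem dv_X_mul (g : ℕ) (a : ℕ × ℕ) (ha : Valid g a) (p : ℕ × ℕ) (P : RelRing g) :
    dv g p (X (some ⟨a, ha⟩) * P) = (if p = a then P else 0) + X (some ⟨a, ha⟩) * dv g p P := by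
  classical
  unfold dv
  by_cases hp : Valid g p
  · rw [dif_pos hp, dif_pos hp, pderiv_mul, pderiv_X]
    by_cases hpa : p = a
    · subst hpa
      simp
    · rw [if_neg hpa]
      have : (some ⟨p, hp⟩ : Var g) ≠ some ⟨a, ha⟩ := by
        intro h
        apply hpa
        have := Option.some.inj h
        exact congrArg Subtype.val this
      simp [Pi.single_apply, this.symm]
  · rw [dif_neg hp, dif_neg hp]
    have hpa : p ≠ a := fun h => hp (h ▸ ha)
    simp [hpa]

theorem dv_ite (g : ℕ) (p : ℕ × ℕ) (c : Prop) [Decidable c] (P : RelRing g) :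
    dv g p (if c then P else 0) = if c then dv g p P else 0 := by
  split_ifs
  · rfl
  · exact dv_zero g p

theorem mergeCoeff_two_right (i : ℕ) : mergeCoeff i 2 = i := by
  unfold mergeCoeff
  rcases i with _ | i
  · simp
  · rw [if_neg (by omega)]
    have : i + 1 + 2 - 2 = i + 1 := by omega
    rw [this]
    simp

theorem mergeCoeff_two_left (k : ℕ) : mergeCoeff 2 k = k := by
  unfold mergeCoeff
  rcases k with _ | k
  · simp
  · rw [if_neg (by omega)]
    have : 2 + (k + 1) - 2 = k + 1 := by omega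
    rw [this]
    simp

theorem mem_idx20 (g : ℕ) (hg : 1 ≤ g) : ((2, 0) : ℕ × ℕ) ∈ idx g := by
  unfold idx
  simp
  omega

/-- the commutation relation of `F` with multiplication by `x 2 0` -/
theorem comm_rel (g : ℕ) (hg : 1 ≤ g) (P : RelRing g) :
    F g (E g P) = E g (F g P) + (g : RelRing g) * P -
      ∑ p ∈ idx g, (p.1 : RelRing g) * xv g (p.1 : ℤ) (p.2 : ℤ) * dv g p P := by
  classical
  unfold E
  rw [xv20 g hg]
  set a : ℕ × ℕ := (2, 0) with ha
  set Xa : RelRing g := X (some ⟨a, valid20 g hg⟩) with hXa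
  have hdv : ∀ p Q, dv g p (Xa * Q) = (if p = a then Q else 0) + Xa * dv g p Q :=
    fun p Q => dv_X_mul g a (valid20 g hg) p Q
  have hdd : ∀ p q, dv g p (dv g q (Xa * P)) =
      (if q = a then dv g p P else 0) + ((if p = a then dv g q P else 0) + Xa * dv g p (dv g q P)) := by
    intro p q
    rw [hdv q P, dv_add, dv_ite, hdv p]
  set A : ℕ × ℕ → ℕ × ℕ → RelRing g := fun p q =>
    (X none * xv g ((p.1 : ℤ) - 1) ((p.2 : ℤ) - 1) * xv g ((q.1 : ℤ) - 1) ((q.2 : ℤ) - 1)
        - (mergeCoeff p.1 q.1 : RelRing g) * xv g ((p.1 : ℤ) + q.1 - 2) ((p.2 : ℤ) + q.2)) with hA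
  set B : ℕ × ℕ → RelRing g := fun p => xv g ((p.1 : ℤ) - 2) (p.2 : ℤ) with hB
  have hF : ∀ Q, F g Q = (1 / 2 : ℚ) • (∑ p ∈ idx g, ∑ q ∈ idx g, A p q * dv g p (dv g q Q))
      + ∑ p ∈ idx g, B p * dv g p Q := fun Q => rfl
  have hA1 : ∀ p : ℕ × ℕ, A p a = - ((p.1 : RelRing g) * xv g (p.1 : ℤ) (p.2 : ℤ)) := by
    intro p
    simp only [hA]
    have h0 : xv g (((a.1 : ℕ) : ℤ) - 1) (((a.2 : ℕ) : ℤ) - 1) = 0 := xv_neg_snd g _ _ (by simp [ha])
    rw [h0, mul_zero, zero_sub]
    have h1 : (p.1 : ℤ) + (a.1 : ℕ) - 2 = p.1 := by simp [ha]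
    have h2 : (p.2 : ℤ) + (a.2 : ℕ) = p.2 := by simp [ha]
    rw [h1, h2]
    have h3 : mergeCoeff p.1 a.1 = p.1 := mergeCoeff_two_right p.1
    rw [h3]
  have hA2 : ∀ q : ℕ × ℕ, A a q = - ((q.1 : RelRing g) * xv g (q.1 : ℤ) (q.2 : ℤ)) := by
    intro q
    simp only [hA]
    have h0 : xv g (((a.1 : ℕ) : ℤ) - 1) (((a.2 : ℕ) : ℤ) - 1) = 0 := xv_neg_snd g _ _ (by simp [ha])
    rw [h0, mul_zero, zero_mul, zero_sub]
    have h1 : ((a.1 : ℕ) : ℤ) + q.1 - 2 = q.1 := by simp [ha]
    have h2 : ((a.2 : ℕ) : ℤ) + q.2 = q.2 := by simp [ha]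
    rw [h1, h2]
    have h3 : mergeCoeff a.1 q.1 = q.1 := mergeCoeff_two_left q.1
    rw [h3]
  have hBa : B a = (g : RelRing g) := by
    simp only [hB]
    unfold xv
    rw [if_pos (by simp [ha])]
  set T : RelRing g := ∑ p ∈ idx g, (p.1 : RelRing g) * xv g (p.1 : ℤ) (p.2 : ℤ) * dv g p P with hT
  set S2 : RelRing g := ∑ p ∈ idx g, ∑ q ∈ idx g, A p q * dv g p (dv g q P) with hS2
  set S1 : RelRing g := ∑ p ∈ idx g, B p * dv g p P with hS1
  have e1 : ∑ p ∈ idx g, ∑ q ∈ idx g, (if q = a then A p q * dv g p P else 0) = - T := by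
    rw [hT, ← Finset.sum_neg_distrib]
    apply Finset.sum_congr rfl
    intro p _
    rw [Finset.sum_ite_eq' (idx g) a (fun q => A p q * dv g p P), if_pos (mem_idx20 g hg), hA1]
    ring
  have e2 : ∑ p ∈ idx g, ∑ q ∈ idx g, (if p = a then A p q * dv g q P else 0) = - T := by
    rw [Finset.sum_comm, hT, ← Finset.sum_neg_distrib]
    apply Finset.sum_congr rfl
    intro q _
    rw [Finset.sum_ite_eq' (idx g) a (fun p => A p q * dv g q P), if_pos (mem_idx20 g hg), hA2]
    ring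
  have e3 : ∑ p ∈ idx g, ∑ q ∈ idx g, A p q * dv g p (dv g q (Xa * P)) = - T + - T + Xa * S2 := by
    have e3' : ∑ p ∈ idx g, ∑ q ∈ idx g, A p q * dv g p (dv g q (Xa * P)) =
        (∑ p ∈ idx g, ∑ q ∈ idx g, (if q = a then A p q * dv g p P else 0)) +
        (∑ p ∈ idx g, ∑ q ∈ idx g, (if p = a then A p q * dv g q P else 0)) + Xa * S2 := by
      rw [hS2, Finset.mul_sum, ← Finset.sum_add_distrib, ← Finset.sum_add_distrib]
      apply Finset.sum_congr rfl
      intro p _
      rw [Finset.mul_sum, ← Finset.sum_add_distrib, ← Finset.sum_add_distrib]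
      apply Finset.sum_congr rfl
      intro q _
      rw [hdd]
      split_ifs <;> ring
    rw [e3', e1, e2]
  have e3old : True := by
    trivial
  have e4 : ∑ p ∈ idx g, B p * dv g p (Xa * P) = (g : RelRing g) * P + Xa * S1 := by
    rw [← hBa, hS1, Finset.mul_sum]
    have : B a * P = ∑ p ∈ idx g, (if p = a then B p * P else 0) := by
      rw [Finset.sum_ite_eq' (idx g) a (fun p => B p * P), if_pos (mem_idx20 g hg)]
    rw [this, ← Finset.sum_add_distrib]
    apply Finset.sum_congr rfl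
    intro p _
    rw [hdv]
    split_ifs <;> ring
  rw [hF, hF, e3, e4]
  have e5 : (1 / 2 : ℚ) • (- T + - T + Xa * S2) = - T + Xa * ((1 / 2 : ℚ) • S2) := by
    rw [smul_add, mul_smul_comm, ← two_smul ℚ (- T), smul_smul]
    norm_num
  rw [e5]
  ring

/-- first-degree homogeneity -/
def Hom (g : ℕ) (d : ℤ) (P : RelRing g) : Prop := IsWeightedHomogeneous (w1 g) P d

theorem hom_cast (g : ℕ) {d d' : ℤ} {P : RelRing g} (h : Hom g d P) (hd : d = d') : Hom g d' P :=
  hd ▸ h

theorem hom_smul (g : ℕ) {d : ℤ} {P : RelRing g} (c : ℚ) (h : Hom g d P) : Hom g d (c • P) :=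
  (weightedHomogeneousSubmodule ℚ (w1 g) d).smul_mem c h

theorem hom_natCast (g : ℕ) (n : ℕ) : Hom g 0 ((n : ℕ) : RelRing g) := by
  have : ((n : ℕ) : RelRing g) = C (n : ℚ) := by simp
  rw [this]
  exact isWeightedHomogeneous_C _ _

theorem hom_xv (g : ℕ) (i j : ℤ) : Hom g i (xv g i j) := by
  unfold xv
  split_ifs with h1 h2
  · rw [h1.1]
    exact hom_natCast g g
  · have h3 : w1 g (some ⟨(i.toNat, j.toNat), h2.2.2⟩) = i := by
      unfold w1 wt
      simp [Int.toNat_of_nonneg h2.1]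
    have := isWeightedHomogeneous_X (R := ℚ) (w1 g) (some ⟨(i.toNat, j.toNat), h2.2.2⟩)
    rw [h3] at this
    exact this
  · exact isWeightedHomogeneous_zero (R := ℚ) (w1 g) _

theorem hom_dv (g : ℕ) {d : ℤ} {P : RelRing g} (p : ℕ × ℕ) (h : Hom g d P) :
    Hom g (d - p.1) (dv g p P) := by
  unfold dv
  split_ifs with hp
  · exact IsWeightedHomogeneous.pderiv h (by simp [w1, wt])
  · exact isWeightedHomogeneous_zero (R := ℚ) (w1 g) _

theorem hom_F (g : ℕ) {d : ℤ} {P : RelRing g} (h : Hom g d P) : Hom g (d - 2) (F g P) := by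
  unfold F
  apply IsWeightedHomogeneous.add
  · apply hom_smul
    apply IsWeightedHomogeneous.sum
    intro p _
    apply IsWeightedHomogeneous.sum
    intro q _
    have h1 : Hom g ((p.1 : ℤ) + q.1 - 2)
        (X none * xv g ((p.1 : ℤ) - 1) ((p.2 : ℤ) - 1) * xv g ((q.1 : ℤ) - 1) ((q.2 : ℤ) - 1)) := by
      have hy : Hom g 0 (X none : RelRing g) := by
        have := isWeightedHomogeneous_X (R := ℚ) (w1 g) (none : Var g)
        exact this
      exact hom_cast g ((hy.mul (hom_xv g _ _)).mul (hom_xv g _ _)) (by ring)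
    have h2 : Hom g ((p.1 : ℤ) + q.1 - 2)
        ((mergeCoeff p.1 q.1 : RelRing g) * xv g ((p.1 : ℤ) + q.1 - 2) ((p.2 : ℤ) + q.2)) :=
      hom_cast g ((hom_natCast g _).mul (hom_xv g _ _)) (by ring)
    exact hom_cast g ((h1.sub h2).mul (hom_dv g p (hom_dv g q h))) (by ring)
  · apply IsWeightedHomogeneous.sum
    intro p _
    exact hom_cast g ((hom_xv g _ _).mul (hom_dv g p h)) (by ring)

theorem w1_nonneg (g : ℕ) (v : Var g) : 0 ≤ w1 g v := by
  unfold w1
  positivity

theorem hom_neg (g : ℕ) {d : ℤ} {P : RelRing g} (hd : d < 0) (h : Hom g d P) : P = 0 := by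
  by_contra hP
  obtain ⟨m, hm⟩ := MvPolynomial.ne_zero_iff.1 hP
  have h1 : Finsupp.weight (w1 g) m = d := h hm
  have h2 : 0 ≤ Finsupp.weight (w1 g) m := by
    rw [Finsupp.weight_apply]
    apply Finsupp.sum_nonneg
    intro i _
    exact smul_nonneg (Nat.zero_le _) (w1_nonneg g i)
  omega

/-- natural-number valued first weight -/
def w1n (g : ℕ) (v : Var g) : ℕ := (wt g v).1

theorem weight_cast (g : ℕ) (m : Var g →₀ ℕ) :
    Finsupp.weight (w1 g) m = ((Finsupp.weight (w1n g) m : ℕ) : ℤ) := by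
  rw [Finsupp.weight_apply, Finsupp.weight_apply]
  unfold Finsupp.sum
  push_cast
  apply Finset.sum_congr rfl
  intro i _
  simp [w1, w1n]

theorem valid_mem_idx (g : ℕ) (p : ℕ × ℕ) (h : Valid g p) : p ∈ idx g := by
  unfold idx
  obtain ⟨h1, h2, _, _⟩ := h
  simp only [Finset.mem_product, Finset.mem_range]
  omega

theorem euler_nat (g : ℕ) (n : ℕ) (P : RelRing g) (h : Hom g n P) :
    ∑ p ∈ idx g, (p.1 : RelRing g) * xv g (p.1 : ℤ) (p.2 : ℤ) * dv g p P = (n : ℚ) • P := by
  classical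
  let _ : Fintype {p : ℕ × ℕ // Valid g p} :=
    Fintype.subtype ((idx g).filter (Valid g)) (by
      intro p
      rw [Finset.mem_filter]
      exact ⟨fun h => h.2, fun h => ⟨valid_mem_idx g p h, h⟩⟩)
  have hn : IsWeightedHomogeneous (w1n g) P n := by
    intro m hm
    have := h hm
    rw [weight_cast] at this
    exact_mod_cast this
  have he := hn.sum_weight_X_mul_pderiv
  rw [Fintype.sum_option] at he
  have h0 : w1n g none = 0 := rfl
  rw [h0, zero_smul, zero_add] at he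
  have hT : ∑ p ∈ idx g, (p.1 : RelRing g) * xv g (p.1 : ℤ) (p.2 : ℤ) * dv g p P =
      ∑ p ∈ (idx g).filter (Valid g), (p.1 : RelRing g) * xv g (p.1 : ℤ) (p.2 : ℤ) * dv g p P := by
    rw [Finset.sum_filter]
    apply Finset.sum_congr rfl
    intro p _
    split_ifs with hp
    · rfl
    · unfold dv
      rw [dif_neg hp, mul_zero]
  rw [hT, Finset.sum_subtype ((idx g).filter (Valid g)) (p := Valid g) (by
      intro p
      rw [Finset.mem_filter]
      exact ⟨fun h => h.2, fun h => ⟨valid_mem_idx g p h, h⟩⟩)]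
  have : (n : ℚ) • P = n • P := by
    rw [← Nat.cast_smul_eq_nsmul ℚ]
  rw [this, ← he]
  apply Finset.sum_congr rfl
  intro s _
  rw [xv_nat g s.1 s.2]
  unfold dv
  rw [dif_pos s.2]
  have : w1n g (some s) = s.1.1 := rfl
  rw [this, nsmul_eq_mul]
  ring

theorem euler (g : ℕ) (d : ℤ) (P : RelRing g) (h : Hom g d P) :
    ∑ p ∈ idx g, (p.1 : RelRing g) * xv g (p.1 : ℤ) (p.2 : ℤ) * dv g p P = (d : ℚ) • P := by
  by_cases hd : d < 0
  · have := hom_neg g hd h
    subst this
    simp [dv_zero]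
  · obtain ⟨n, rfl⟩ := Int.eq_ofNat_of_zero_le (not_lt.1 hd)
    have := euler_nat g n P h
    rw [this]
    simp

/-- `F` as a linear map -/
noncomputable def Flin (g : ℕ) : RelRing g →ₗ[ℚ] RelRing g where
  toFun := F g
  map_add' := F_add g
  map_smul' := fun c P => F_smul g c P

noncomputable def Elin (g : ℕ) : RelRing g →ₗ[ℚ] RelRing g where
  toFun := E g
  map_add' := fun P Q => by unfold E; ring
  map_smul' := fun c P => by unfold E; simp

theorem F_iter (g : ℕ) (k : ℕ) (P : RelRing g) : (F g)^[k] P = (Flin g ^ k) P := by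
  rw [Module.End.pow_apply]
  rfl

theorem comm_rel' (g : ℕ) (hg : 1 ≤ g) (d : ℤ) (P : RelRing g) (h : Hom g d P) :
    Flin g (Elin g P) = Elin g (Flin g P) + ((g : ℚ) - d) • P := by
  show F g (E g P) = E g (F g P) + ((g : ℚ) - d) • P
  rw [comm_rel g hg, euler g d P h, sub_smul]
  have : (g : RelRing g) * P = (g : ℚ) • P := by
    rw [MvPolynomial.smul_eq_C_mul]
    simp
  rw [this]
  abel

theorem hom_iter (g : ℕ) {d : ℤ} {P : RelRing g} (h : Hom g d P) (k : ℕ) :
    Hom g (d - 2 * k) ((Flin g ^ k) P) := by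
  induction k with
  | zero => simpa using h
  | succ k ih =>
    rw [pow_succ', Module.End.mul_apply]
    exact hom_cast g (hom_F g ih) (by push_cast; ring)

theorem key (g : ℕ) (hg : 1 ≤ g) (k : ℕ) : ∀ (d : ℤ) (P : RelRing g), Hom g d P →
    (Flin g ^ (k + 1)) (Elin g P) = Elin g ((Flin g ^ (k + 1)) P) +
      (((k + 1 : ℕ) : ℚ) * ((g : ℚ) - d + k)) • (Flin g ^ k) P := by
  induction k with
  | zero =>
    intro d P h
    simp only [zero_add, pow_one, pow_zero, Module.End.one_apply]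
    rw [comm_rel' g hg d P h]
    congr 2
    push_cast
    ring
  | succ k ih =>
    intro d P h
    rw [pow_succ (Flin g) (k + 1), Module.End.mul_apply, comm_rel' g hg d P h, map_add, map_smul,
      ih (d - 2) (Flin g P) (hom_F g h)]
    rw [Module.End.mul_apply]
    have e1 : (Flin g ^ k) (Flin g P) = (Flin g ^ (k + 1)) P := by
      rw [pow_succ, Module.End.mul_apply]
    rw [e1, add_assoc, ← add_smul]
    congr 2
    push_cast
    ring

theorem hom_of_bihom (g : ℕ) (a n : ℕ) (β : RelRing g)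
    (hβ : IsWeightedHomogeneous (wt g) β ((a, n) : ℕ × ℕ)) : Hom g a β := by
  intro m hm
  have h1 := hβ hm
  rw [weight_cast]
  have h2 : Finsupp.weight (w1n g) m = (Finsupp.weight (wt g) m).1 := by
    rw [Finsupp.weight_apply, Finsupp.weight_apply]
    unfold Finsupp.sum
    rw [Prod.fst_sum]
    apply Finset.sum_congr rfl
    intro i _
    simp [w1n]
  rw [h2, h1]

theorem main (g : ℕ) (hg : 1 ≤ g) (n : ℕ) (β : W4c3tautjacobian.RelRing g)
    (hβ : MvPolynomial.IsWeightedHomogeneous (W4c3tautjacobian.wt g) β ((2 * g, n) : ℕ × ℕ)) :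
    (W4c3tautjacobian.F g)^[g + 1] (W4c3tautjacobian.E g β) = 0 := by
  have h := hom_of_bihom g (2 * g) n β hβ
  rw [F_iter]
  have hk := key g hg g ((2 * g : ℕ) : ℤ) β h
  have hE : Elin g β = E g β := rfl
  rw [← hE, hk]
  have h0 : (Flin g ^ (g + 1)) β = 0 := by
    apply hom_neg g (d := ((2 * g : ℕ) : ℤ) - 2 * ((g + 1 : ℕ) : ℤ)) (by push_cast; omega)
    exact hom_iter g h (g + 1)
  rw [h0, map_zero, zero_add]
  have : (((g + 1 : ℕ) : ℚ) * ((g : ℚ) - ((2 * g : ℕ) : ℤ) + g)) = 0 := by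
    push_cast
    ring
  rw [this, zero_smul]

end Groth.Agent.H9.TautSl2
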