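import Mathlib

/-! Helper9: p divides teichmuller(p^p) in W(R) -/

namespace Groth.Agent.H9.TeichDiv

open WittVector

theorem pow_split {A : Type*} [CommRing A] (w : A) (n : ℕ) (hn : 2 ≤ n) :
    (-w) ^ n = (-w) ^ (n - 2) * (w * w) := by
  obtain ⟨k, rfl⟩ : ∃ k, n = k + 2 := ⟨n - 2, by omega⟩
  rw [pow_add]
  simp
  ring

theorem main (p : ℕ) [hp : Fact p.Prime] (R : Type*) [CommRing R] :
    (p : WittVector p R) ∣ WittVector.teichmuller p ((p : R) ^ p) := by
  set x : WittVector p R := (p : WittVector p R) - teichmuller p (p : R) with hx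
  have hx0 : x.coeff 0 = 0 := by
    have h1 : constantCoeff x = 0 := by
      rw [hx, map_sub, map_natCast]
      simp [constantCoeff_apply]
    exact h1
  have hV : verschiebung (x.shift 1) = x := by
    have := verschiebung_shift x 0 (fun i hi => by
      have : i = 0 := by omega
      subst this; exact hx0)
    rw [this]
    ext i
    simp [shift_coeff]
  set u := x.shift 1 with hu
  set v := verschiebung u with hv
  have hT : teichmuller p (p : R) = (p : WittVector p R) - v := by rw [hV, hx]; ring
  have hvv : v * v = (p : WittVector p R) * verschiebung (u * u) := by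
    rw [hv, ← verschiebung_mul_frobenius, frobenius_verschiebung, ← mul_assoc,
      ← nsmul_eq_mul' (u * u) p, map_nsmul, nsmul_eq_mul]
  have hp2 : 2 ≤ p := hp.out.two_le
  have hdvd2 : (p : WittVector p R) ∣ (-v) ^ p := by
    rw [pow_split v p hp2, hvv]
    exact Dvd.intro ((-v) ^ (p - 2) * verschiebung (u * u)) (by ring)
  have hdvd1 : (p : WittVector p R) ∣ ((p : WittVector p R) - v) ^ p - (-v) ^ p := by
    have := sub_dvd_pow_sub_pow ((p : WittVector p R) - v) (-v) p
    have h2 : (p : WittVector p R) - v - -v = p := by ring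
    rwa [h2] at this
  rw [map_pow, hT]
  have := dvd_add hdvd1 hdvd2
  rwa [sub_add_cancel] at this

end Groth.Agent.H9.TeichDiv
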