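import Mathlib

set_option autoImplicit false
set_option linter.unusedSectionVars false
set_option linter.unusedVariables false

namespace Groth.Agent.H9.TenH

open CategoryTheory

universe u v

variable {R : Type u} [Ring R]

theorem quasiIso_iff_elementwise {S₁ S₂ : ShortComplex (ModuleCat.{v} R)} (ψ : S₁ ⟶ S₂) :
    ShortComplex.QuasiIso ψ ↔
      (∀ y : S₂.X₂, S₂.g.hom y = 0 → ∃ x : S₁.X₂, S₁.g.hom x = 0 ∧
        ∃ w : S₂.X₁, ψ.τ₂.hom x - y = S₂.f.hom w) ∧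
      (∀ x : S₁.X₂, S₁.g.hom x = 0 → (∃ w : S₂.X₁, ψ.τ₂.hom x = S₂.f.hom w) →
        ∃ v : S₁.X₁, S₁.f.hom v = x) := by
  let h₁ := S₁.moduleCatLeftHomologyData
  let h₂ := S₂.moduleCatLeftHomologyData
  let γ := ShortComplex.leftHomologyMapData ψ h₁ h₂
  rw [γ.quasiIso_iff, ConcreteCategory.isIso_iff_bijective]
  have hK : ∀ z : h₁.K, h₂.i.hom (γ.φK.hom z) = ψ.τ₂.hom (h₁.i.hom z) := by
    intro z
    have := congrArg (fun m => m.hom z) γ.commi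
    exact this
  have hH : ∀ z : h₁.K, γ.φH.hom (h₁.π.hom z) = h₂.π.hom (γ.φK.hom z) := by
    intro z
    have := congrArg (fun m => m.hom z) γ.commπ
    exact this.symm
  have hπ₁ : ∀ q : h₁.H, ∃ z : h₁.K, h₁.π.hom z = q := by
    intro q
    exact Submodule.mkQ_surjective _ q
  have hπ₂ : ∀ q : h₂.H, ∃ z : h₂.K, h₂.π.hom z = q := by
    intro q
    exact Submodule.mkQ_surjective _ q
  have hmk₁ : ∀ x : S₁.X₂, S₁.g.hom x = 0 → ∃ z : h₁.K, h₁.i.hom z = x := by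
    intro x hx
    exact ⟨(⟨x, LinearMap.mem_ker.mpr hx⟩ : LinearMap.ker S₁.g.hom), rfl⟩
  have hmk₂ : ∀ x : S₂.X₂, S₂.g.hom x = 0 → ∃ z : h₂.K, h₂.i.hom z = x := by
    intro x hx
    exact ⟨(⟨x, LinearMap.mem_ker.mpr hx⟩ : LinearMap.ker S₂.g.hom), rfl⟩
  have hi₁ : ∀ z : h₁.K, S₁.g.hom (h₁.i.hom z) = 0 := by
    intro z
    exact (z : LinearMap.ker S₁.g.hom).2
  have hi₂ : ∀ z : h₂.K, S₂.g.hom (h₂.i.hom z) = 0 := by
    intro z
    exact (z : LinearMap.ker S₂.g.hom).2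
  have hz₁ : ∀ z : h₁.K, h₁.π.hom z = 0 ↔ ∃ v : S₁.X₁, S₁.f.hom v = h₁.i.hom z := by
    intro z
    show Submodule.Quotient.mk (z : LinearMap.ker S₁.g.hom) = 0 ↔ _
    rw [Submodule.Quotient.mk_eq_zero]
    constructor
    · rintro ⟨v, hv⟩; exact ⟨v, congrArg Subtype.val hv⟩
    · rintro ⟨v, hv⟩; exact ⟨v, Subtype.ext hv⟩
  have hz₂ : ∀ z : h₂.K, h₂.π.hom z = 0 ↔ ∃ v : S₂.X₁, S₂.f.hom v = h₂.i.hom z := by
    intro z
    show Submodule.Quotient.mk (z : LinearMap.ker S₂.g.hom) = 0 ↔ _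
    rw [Submodule.Quotient.mk_eq_zero]
    constructor
    · rintro ⟨v, hv⟩; exact ⟨v, congrArg Subtype.val hv⟩
    · rintro ⟨v, hv⟩; exact ⟨v, Subtype.ext hv⟩
  constructor
  · rintro ⟨hinj, hsurj⟩
    constructor
    · intro y hy
      obtain ⟨zy, hzy⟩ := hmk₂ y hy
      obtain ⟨q, hq⟩ := hsurj (h₂.π.hom zy)
      obtain ⟨z, rfl⟩ := hπ₁ q
      change γ.φH.hom (h₁.π.hom z) = _ at hq
      rw [hH, ← sub_eq_zero, ← map_sub, hz₂] at hq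
      obtain ⟨w, hw⟩ := hq
      refine ⟨h₁.i.hom z, hi₁ z, w, ?_⟩
      rw [hw, map_sub, hK, hzy]
    · intro x hx ⟨w, hw⟩
      obtain ⟨z, hz⟩ := hmk₁ x hx
      have h0 : γ.φH.hom (h₁.π.hom z) = 0 := by
        rw [hH, hz₂]
        exact ⟨w, by rw [hK, hz, hw]⟩
      have h1 : h₁.π.hom z = 0 := hinj (by rw [map_zero]; exact h0)
      obtain ⟨v, hv⟩ := (hz₁ _).mp h1
      exact ⟨v, by rw [hv, hz]⟩
  · rintro ⟨hs, hi⟩
    constructor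
    · intro q q' hqq
      obtain ⟨z, rfl⟩ := hπ₁ q
      obtain ⟨z', rfl⟩ := hπ₁ q'
      change γ.φH.hom (h₁.π.hom z) = γ.φH.hom (h₁.π.hom z') at hqq
      rw [← sub_eq_zero, ← map_sub, ← map_sub, hH, hz₂] at hqq
      obtain ⟨w, hw⟩ := hqq
      rw [← sub_eq_zero, ← map_sub, hz₁]
      exact hi _ (hi₁ _) ⟨w, by rw [hw, hK]⟩
    · intro q
      obtain ⟨y, rfl⟩ := hπ₂ q
      obtain ⟨x, hx, w, hw⟩ := hs (h₂.i.hom y) (hi₂ y)
      obtain ⟨z, hz⟩ := hmk₁ x hx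
      refine ⟨h₁.π.hom z, ?_⟩
      change γ.φH.hom (h₁.π.hom z) = _
      rw [hH, ← sub_eq_zero, ← map_sub, hz₂]
      exact ⟨w, by rw [map_sub, hK, hz, hw]⟩

end Groth.Agent.H9.TenH
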