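import Mathlib

set_option autoImplicit false
set_option linter.unusedSectionVars false
set_option linter.unusedVariables false

namespace Groth.Agent.H9.TenH

open CategoryTheory MonoidalCategory HomologicalComplex

universe v

variable {R : Type v} [CommRing R]

section general

variable (K L : ChainComplex (ModuleCat.{v} R) ℕ)

example (π : K ⟶ L) (C : ChainComplex (ModuleCat.{v} R) ℕ) :
    C ◁ π = HomologicalComplex.tensorHom (𝟙 C) π := rfl

example : (K ⊗ L) = HomologicalComplex.tensorObj K L := rfl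

theorem mem_of_forall_ι (n : ℕ) (N : Submodule R ((HomologicalComplex.tensorObj K L).X n))
    (hN : ∀ (i j : ℕ) (h : i + j = n) (a : (K.X i ⊗ L.X j : ModuleCat.{v} R)),
      (ιTensorObj K L i j n h).hom a ∈ N) (x : (HomologicalComplex.tensorObj K L).X n) : x ∈ N := by
  let q : (HomologicalComplex.tensorObj K L).X n ⟶ ModuleCat.of R ((HomologicalComplex.tensorObj K L).X n ⧸ N) :=
    ModuleCat.ofHom N.mkQ
  have hq : q = 0 := by
    apply mapBifunctor.hom_ext
    intro i j h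
    ext a
    show N.mkQ _ = 0
    rw [Submodule.mkQ_apply, Submodule.Quotient.mk_eq_zero]
    exact hN i j h a
  have := congrArg (fun m => m.hom x) hq
  exact (Submodule.Quotient.mk_eq_zero N).mp this

noncomputable def proj (i₀ j₀ n : ℕ) : (HomologicalComplex.tensorObj K L).X n ⟶ K.X i₀ ⊗ L.X j₀ :=
  mapBifunctorDesc (fun i j _ => if h : i = i₀ ∧ j = j₀ then eqToHom (by rw [h.1, h.2]; rfl) else 0)

theorem ι_proj (i₀ j₀ n : ℕ) (h : i₀ + j₀ = n) :
    ιTensorObj K L i₀ j₀ n h ≫ proj K L i₀ j₀ n = 𝟙 _ := by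
  rw [proj, ι_mapBifunctorDesc, dif_pos ⟨rfl, rfl⟩, eqToHom_refl]
  rfl

theorem proj_ι_apply (i j n : ℕ) (h : i + j = n) (a : (K.X i ⊗ L.X j : ModuleCat.{v} R)) :
    (proj K L i j n).hom ((ιTensorObj K L i j n h).hom a) = a := by
  have := congrArg (fun m => m.hom a) (ι_proj K L i j n h)
  simpa using this

theorem ι_injective (i j n : ℕ) (h : i + j = n) :
    Function.Injective (ιTensorObj K L i j n h).hom := by
  intro a b hab
  rw [← proj_ι_apply K L i j n h a, hab, proj_ι_apply]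

theorem d_ι_succ_zero (i : ℕ) (a : (K.X (i+1) ⊗ L.X 0 : ModuleCat.{v} R)) :
    ((HomologicalComplex.tensorObj K L).d (i+1) i).hom ((ιTensorObj K L (i+1) 0 (i+1) rfl).hom a) =
      (ιTensorObj K L i 0 i rfl).hom ((K.d (i+1) i ▷ L.X 0).hom a) := by
  have h : ιTensorObj K L (i+1) 0 (i+1) rfl ≫ (HomologicalComplex.tensorObj K L).d (i+1) i =
      (K.d (i+1) i ▷ L.X 0) ≫ ιTensorObj K L i 0 i rfl := by
    rw [mapBifunctor.d_eq, Preadditive.comp_add, mapBifunctor.ι_D₁, mapBifunctor.ι_D₂,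
      mapBifunctor.d₁_eq K L _ _ (show (ComplexShape.down ℕ).Rel (i+1) i from rfl) 0 i rfl,
      mapBifunctor.d₂_eq_zero, add_zero]
    · simp
    · simp
  have := congrArg (fun m => m.hom a) h
  simpa using this

theorem d_ι_zero_succ (j : ℕ) (b : (K.X 0 ⊗ L.X (j+1) : ModuleCat.{v} R)) :
    ((HomologicalComplex.tensorObj K L).d (j+1) j).hom
        ((ιTensorObj K L 0 (j+1) (j+1) (zero_add _)).hom b) =
      (ιTensorObj K L 0 j j (zero_add _)).hom ((K.X 0 ◁ L.d (j+1) j).hom b) := by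
  have h : ιTensorObj K L 0 (j+1) (j+1) (zero_add _) ≫
      (HomologicalComplex.tensorObj K L).d (j+1) j =
      (K.X 0 ◁ L.d (j+1) j) ≫ ιTensorObj K L 0 j j (zero_add _) := by
    rw [mapBifunctor.d_eq, Preadditive.comp_add, mapBifunctor.ι_D₁, mapBifunctor.ι_D₂,
      mapBifunctor.d₂_eq K L _ _ 0 (show (ComplexShape.down ℕ).Rel (j+1) j from rfl) j
        (zero_add _),
      mapBifunctor.d₁_eq_zero, zero_add]
    · simp
    · simp
  have := congrArg (fun m => m.hom b) h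
  simpa using this

theorem d_ι_one_one (e : (K.X 1 ⊗ L.X 1 : ModuleCat.{v} R)) :
    ((HomologicalComplex.tensorObj K L).d 2 1).hom ((ιTensorObj K L 1 1 2 rfl).hom e) =
      (ιTensorObj K L 0 1 1 rfl).hom ((K.d 1 0 ▷ L.X 1).hom e)
      - (ιTensorObj K L 1 0 1 rfl).hom ((K.X 1 ◁ L.d 1 0).hom e) := by
  have h : ιTensorObj K L 1 1 2 rfl ≫ (HomologicalComplex.tensorObj K L).d 2 1 =
      (K.d 1 0 ▷ L.X 1) ≫ ιTensorObj K L 0 1 1 rfl
        - (K.X 1 ◁ L.d 1 0) ≫ ιTensorObj K L 1 0 1 rfl := by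
    rw [mapBifunctor.d_eq, Preadditive.comp_add, mapBifunctor.ι_D₁, mapBifunctor.ι_D₂,
      mapBifunctor.d₁_eq K L _ _ (show (ComplexShape.down ℕ).Rel 1 0 from rfl) 1 1 rfl,
      mapBifunctor.d₂_eq K L _ _ 1 (show (ComplexShape.down ℕ).Rel 1 0 from rfl) 1 rfl]
    simp [sub_eq_add_neg]
  have := congrArg (fun m => m.hom e) h
  simpa using this

theorem map_ι {L' : ChainComplex (ModuleCat.{v} R) ℕ} (π : L ⟶ L') (i j n : ℕ) (h : i + j = n)
    (a : (K.X i ⊗ L.X j : ModuleCat.{v} R)) :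
    ((HomologicalComplex.tensorHom (𝟙 K) π).f n).hom ((ιTensorObj K L i j n h).hom a) =
      (ιTensorObj K L' i j n h).hom ((K.X i ◁ π.f j).hom a) := by
  have h' : ιTensorObj K L i j n h ≫ (HomologicalComplex.tensorHom (𝟙 K) π).f n =
      (K.X i ◁ π.f j) ≫ ιTensorObj K L' i j n h :=
    (ι_mapBifunctorMap (𝟙 K) π (curriedTensor _) (ComplexShape.down ℕ) i j n h).trans (by simp)
  have := congrArg (fun m => m.hom a) h'
  exact this

end general

theorem wex {A B M N : ModuleCat.{v} R} (f : A ⟶ B) (g : M ⟶ N)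
    (a : (A ⊗ M : ModuleCat.{v} R)) :
    (f ▷ N).hom ((A ◁ g).hom a) = (B ◁ g).hom ((f ▷ M).hom a) := by
  have := congrArg (fun m => m.hom a) (whisker_exchange f g)
  simpa using this

end Groth.Agent.H9.TenH
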