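import Mathlib
import Groth.Agent.Lib.Helper9.Misc.TenHA
import Groth.Agent.Lib.Helper9.Misc.TenHB

set_option autoImplicit false
set_option linter.unusedSectionVars false
set_option linter.unusedVariables false

namespace Groth.Agent.H9.TenH

open CategoryTheory MonoidalCategory HomologicalComplex

universe v

variable {R : Type v} [CommRing R]

theorem main' (C P S : ChainComplex (ModuleCat.{v} R) ℕ)
    [Module.Flat R (C.X 0)]
    (hSsub : ∀ j : ℕ, ∀ s : S.X (j+1), s = 0)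
    (π : P ⟶ S) [QuasiIso π] :
    ShortComplex.QuasiIso ((shortComplexFunctor' _ _ 2 1 0).map
      (HomologicalComplex.tensorHom (𝟙 C) π)) := by
  -- facts from the quasi-isomorphism
  have q0 : QuasiIsoAt π 0 := inferInstance
  rw [quasiIsoAt_iff' π 1 0 0 (by simp) (by simp), quasiIso_iff_elementwise] at q0
  obtain ⟨q0s, q0i⟩ := q0
  have q1 : QuasiIsoAt π 1 := inferInstance
  rw [quasiIsoAt_iff' π 2 1 0 (by simp) (by simp), quasiIso_iff_elementwise] at q1
  obtain ⟨-, q1i⟩ := q1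
  have Q0 : ∀ s : S.X 0, ∃ p : P.X 0, (π.f 0).hom p = s := by
    intro s
    obtain ⟨x, -, w, hw⟩ := q0s s (by
      show (S.d 0 0).hom s = 0
      rw [S.shape 0 0 (by simp)]; rfl)
    refine ⟨x, ?_⟩
    have hw' : (π.f 0).hom x - s = (S.d 1 0).hom w := hw
    rw [hSsub 0 w, map_zero, sub_eq_zero] at hw'
    exact hw'
  have Q0' : ∀ p : P.X 0, (π.f 0).hom p = 0 → ∃ q : P.X 1, (P.d 1 0).hom q = p := by
    intro p hp
    exact q0i p (by
      show (P.d 0 0).hom p = 0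
      rw [P.shape 0 0 (by simp)]; rfl) ⟨0, by
      show (π.f 0).hom p = (S.d 1 0).hom 0
      rw [hp, map_zero]⟩
  have Q1 : ∀ q : P.X 1, (P.d 1 0).hom q = 0 → ∃ r : P.X 2, (P.d 2 1).hom r = q := by
    intro q hq
    exact q1i q hq ⟨0, by
      show (π.f 1).hom q = (S.d 2 1).hom 0
      rw [map_zero]; exact hSsub 0 _⟩
  have πd : ∀ q : P.X 1, (π.f 0).hom ((P.d 1 0).hom q) = 0 := by
    intro q
    have := congrArg (fun m => m.hom q) (π.comm 1 0)
    have h2 : (π.f 0).hom ((P.d 1 0).hom q) = (S.d 1 0).hom ((π.f 1).hom q) := this.symm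
    rw [h2, hSsub 0 ((π.f 1).hom q), map_zero]
  have hex0 : Function.Exact (P.d 1 0).hom (π.f 0).hom := by
    intro p
    constructor
    · exact Q0' p
    · rintro ⟨q, rfl⟩; exact πd q
  have hsurj0 : Function.Surjective (π.f 0).hom := Q0
  have hex1 : Function.Exact (P.d 2 1).hom (P.d 1 0).hom := by
    intro q
    constructor
    · exact Q1 q
    · rintro ⟨r, rfl⟩
      have := congrArg (fun m => m.hom r) (P.d_comp_d 2 1 0)
      exact this
  have TQ0 : ∀ M : ModuleCat.{v} R, Function.Surjective (M ◁ π.f 0).hom := fun M =>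
    LinearMap.lTensor_surjective M hsurj0
  have TQ0' : ∀ M : ModuleCat.{v} R, Function.Exact (M ◁ P.d 1 0).hom (M ◁ π.f 0).hom := fun M =>
    lTensor_exact M hex0 hsurj0
  have TQ1 : Function.Exact (C.X 0 ◁ P.d 2 1).hom (C.X 0 ◁ P.d 1 0).hom :=
    Module.Flat.lTensor_exact (C.X 0) hex1
  have hT0 : ∀ (i j : ℕ) (b : (C.X i ⊗ S.X (j+1) : ModuleCat.{v} R)), b = 0 := by
    intro i j b
    refine TensorProduct.induction_on (R := R) (M := C.X i) (N := S.X (j+1)) b ?_ ?_ ?_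
    · rfl
    · intro x y
      rw [hSsub j y, TensorProduct.tmul_zero]
    · intro x y hx hy
      rw [hx, hy, add_zero]
  rw [quasiIso_iff_elementwise]
  show (∀ y : (HomologicalComplex.tensorObj C S).X 1,
      ((HomologicalComplex.tensorObj C S).d 1 0).hom y = 0 →
      ∃ x : (HomologicalComplex.tensorObj C P).X 1,
        ((HomologicalComplex.tensorObj C P).d 1 0).hom x = 0 ∧
        ∃ w : (HomologicalComplex.tensorObj C S).X 2,
          ((HomologicalComplex.tensorHom (𝟙 C) π).f 1).hom x - y =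
            ((HomologicalComplex.tensorObj C S).d 2 1).hom w) ∧
    (∀ x : (HomologicalComplex.tensorObj C P).X 1,
      ((HomologicalComplex.tensorObj C P).d 1 0).hom x = 0 →
      (∃ w : (HomologicalComplex.tensorObj C S).X 2,
        ((HomologicalComplex.tensorHom (𝟙 C) π).f 1).hom x =
          ((HomologicalComplex.tensorObj C S).d 2 1).hom w) →
      ∃ v : (HomologicalComplex.tensorObj C P).X 2,
        ((HomologicalComplex.tensorObj C P).d 2 1).hom v = x)
  constructor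
  · intro y hy
    have hy' : y ∈ LinearMap.range (ιTensorObj C S 1 0 1 rfl).hom := by
      apply mem_of_forall_ι C S 1
      intro i j h a
      obtain ⟨rfl, rfl⟩ | ⟨rfl, rfl⟩ : (i = 1 ∧ j = 0) ∨ (i = 0 ∧ j = 1) := by omega
      · exact ⟨a, rfl⟩
      · rw [hT0 0 0 a, map_zero]; exact zero_mem _
    obtain ⟨a', rfl⟩ := hy'
    obtain ⟨a, rfl⟩ := TQ0 (C.X 1) a'
    rw [d_ι_succ_zero C S 0] at hy
    have h1 := ι_injective C S 0 0 0 rfl (hy.trans (map_zero _).symm)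
    rw [wex] at h1
    obtain ⟨b, hb⟩ := (TQ0' (C.X 0) _).mp h1
    refine ⟨(ιTensorObj C P 1 0 1 rfl).hom a - (ιTensorObj C P 0 1 1 rfl).hom b, ?_, 0, ?_⟩
    · rw [map_sub, d_ι_succ_zero C P 0, d_ι_zero_succ C P 0, hb, sub_self]
    · rw [map_zero, map_sub, map_ι, map_ι, hT0 0 0 ((C.X 0 ◁ π.f 1).hom b), map_zero, sub_zero,
        sub_self]
  · intro x hx ⟨w, hw⟩
    have hx' : x ∈ LinearMap.range (ιTensorObj C P 1 0 1 rfl).hom ⊔
        LinearMap.range (ιTensorObj C P 0 1 1 rfl).hom := by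
      apply mem_of_forall_ι C P 1
      intro i j h a
      obtain ⟨rfl, rfl⟩ | ⟨rfl, rfl⟩ : (i = 1 ∧ j = 0) ∨ (i = 0 ∧ j = 1) := by omega
      · exact Submodule.mem_sup_left ⟨a, rfl⟩
      · exact Submodule.mem_sup_right ⟨a, rfl⟩
    obtain ⟨_, ⟨a, rfl⟩, _, ⟨b, rfl⟩, rfl⟩ := Submodule.mem_sup.mp hx'
    have hw' : w ∈ LinearMap.range (ιTensorObj C S 2 0 2 rfl).hom := by
      apply mem_of_forall_ι C S 2
      intro i j h a
      obtain ⟨rfl, rfl⟩ | ⟨rfl, rfl⟩ | ⟨rfl, rfl⟩ :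
          (i = 2 ∧ j = 0) ∨ (i = 1 ∧ j = 1) ∨ (i = 0 ∧ j = 2) := by omega
      · exact ⟨a, rfl⟩
      · rw [hT0 1 0 a, map_zero]; exact zero_mem _
      · rw [hT0 0 1 a, map_zero]; exact zero_mem _
    obtain ⟨c', rfl⟩ := hw'
    obtain ⟨c, rfl⟩ := TQ0 (C.X 2) c'
    rw [map_add, map_ι, map_ι, hT0 0 0 ((C.X 0 ◁ π.f 1).hom b), map_zero, add_zero,
      d_ι_succ_zero C S 1, wex] at hw
    have h2 := ι_injective C S 1 0 1 rfl hw
    have h3 : (C.X 1 ◁ π.f 0).hom (a - (C.d 2 1 ▷ P.X 0).hom c) = 0 := by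
      rw [map_sub, h2, sub_self]
    obtain ⟨e, he⟩ := (TQ0' (C.X 1) _).mp h3
    have hdv₁ : ((HomologicalComplex.tensorObj C P).d 2 1).hom
        ((ιTensorObj C P 2 0 2 rfl).hom c - (ιTensorObj C P 1 1 2 rfl).hom e) =
        (ιTensorObj C P 1 0 1 rfl).hom a -
          (ιTensorObj C P 0 1 1 rfl).hom ((C.d 1 0 ▷ P.X 1).hom e) := by
      rw [map_sub, d_ι_succ_zero C P 1, d_ι_one_one, he, map_sub]
      abel
    have hb₂ : (ιTensorObj C P 1 0 1 rfl).hom a + (ιTensorObj C P 0 1 1 rfl).hom b -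
        ((HomologicalComplex.tensorObj C P).d 2 1).hom
          ((ιTensorObj C P 2 0 2 rfl).hom c - (ιTensorObj C P 1 1 2 rfl).hom e) =
        (ιTensorObj C P 0 1 1 rfl).hom (b + (C.d 1 0 ▷ P.X 1).hom e) := by
      rw [hdv₁, map_add]
      abel
    have hd0 : ((HomologicalComplex.tensorObj C P).d 1 0).hom
        ((ιTensorObj C P 0 1 1 rfl).hom (b + (C.d 1 0 ▷ P.X 1).hom e)) = 0 := by
      rw [← hb₂, map_sub, hx, zero_sub, neg_eq_zero]
      have := congrArg (fun m => m.hom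
        ((ιTensorObj C P 2 0 2 rfl).hom c - (ιTensorObj C P 1 1 2 rfl).hom e))
        ((HomologicalComplex.tensorObj C P).d_comp_d 2 1 0)
      exact this
    rw [d_ι_zero_succ C P 0] at hd0
    have h4 := ι_injective C P 0 0 0 rfl (hd0.trans (map_zero _).symm)
    obtain ⟨g, hg⟩ := (TQ1 _).mp h4
    refine ⟨(ιTensorObj C P 2 0 2 rfl).hom c - (ιTensorObj C P 1 1 2 rfl).hom e +
      (ιTensorObj C P 0 2 2 rfl).hom g, ?_⟩
    rw [map_add, d_ι_zero_succ C P 1, hg, ← hb₂]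
    abel

end Groth.Agent.H9.TenH
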