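import Mathlib

/-! Helper9: kernel of tensor product of evaluation families -/

namespace Groth.Agent.H9.TensKer

open TensorProduct

universe u

theorem main (k A A' : Type u) [Field k] [CommRing A] [Algebra k A]
    [CommRing A'] [Algebra k A']
    (S : Set (A →ₐ[k] k)) (S' : Set (A' →ₐ[k] k)) :
    (⨅ σ ∈ S, ⨅ σ' ∈ S', RingHom.ker ((Algebra.TensorProduct.lmul' (S := k) k).comp
        (Algebra.TensorProduct.map σ σ'))) =
      Ideal.map (Algebra.TensorProduct.includeLeft : A →ₐ[k] A ⊗[k] A') (⨅ σ ∈ S, RingHom.ker σ) ⊔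
        Ideal.map (Algebra.TensorProduct.includeRight : A' →ₐ[k] A ⊗[k] A') (⨅ σ' ∈ S', RingHom.ker σ') := by
  classical
  set I : Ideal A := ⨅ σ ∈ S, RingHom.ker σ with hI
  set I' : Ideal A' := ⨅ σ' ∈ S', RingHom.ker σ' with hI'
  have hIσ : ∀ σ ∈ S, ∀ a ∈ I, σ a = 0 := by
    intro σ hσ a ha
    have : a ∈ RingHom.ker σ := by
      have h1 := (Submodule.mem_iInf _).mp ha σ
      exact (Submodule.mem_iInf _).mp h1 hσ
    exact this
  have hIσ' : ∀ σ' ∈ S', ∀ a ∈ I', σ' a = 0 := by
    intro σ hσ a ha
    have : a ∈ RingHom.ker σ := by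
      have h1 := (Submodule.mem_iInf _).mp ha σ
      exact (Submodule.mem_iInf _).mp h1 hσ
    exact this
  apply le_antisymm
  · -- hard direction
    intro x hx
    have hx' : ∀ σ ∈ S, ∀ σ' ∈ S', (Algebra.TensorProduct.lmul' (S := k) k)
        (Algebra.TensorProduct.map σ σ' x) = 0 := by
      intro σ hσ σ' hσ'
      have h1 := (Submodule.mem_iInf _).mp hx σ
      have h2 := (Submodule.mem_iInf _).mp h1 hσ
      have h3 := (Submodule.mem_iInf _).mp h2 σ'
      have h4 := (Submodule.mem_iInf _).mp h3 hσ'
      exact h4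
    let qA : A →ₐ[k] A ⧸ I := Ideal.Quotient.mkₐ k I
    let qA' : A' →ₐ[k] A' ⧸ I' := Ideal.Quotient.mkₐ k I'
    have hqA : Function.Surjective qA := Ideal.Quotient.mkₐ_surjective k I
    have hqA' : Function.Surjective qA' := Ideal.Quotient.mkₐ_surjective k I'
    have hker := Algebra.TensorProduct.map_ker qA qA' hqA hqA'
    have hkA : RingHom.ker qA = I := Ideal.Quotient.mkₐ_ker k I
    have hkA' : RingHom.ker qA' = I' := Ideal.Quotient.mkₐ_ker k I'
    rw [hkA, hkA'] at hker
    rw [← hker, RingHom.mem_ker]
    -- now show q x = 0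
    let c := Module.Free.chooseBasis k (A' ⧸ I')
    obtain ⟨b, hb⟩ := TensorProduct.eq_repr_basis_right c (Algebra.TensorProduct.map qA qA' x)
    -- each coefficient vanishes
    have hb0 : ∀ i, b i = 0 := by
      intro i
      obtain ⟨a, ha⟩ := hqA (b i)
      have haI : a ∈ I := by
        rw [hI]
        refine (Submodule.mem_iInf _).mpr fun σ => (Submodule.mem_iInf _).mpr fun hσ => ?_
        rw [RingHom.mem_ker]
        let σb : A ⧸ I →ₐ[k] k := Ideal.Quotient.liftₐ I σ (hIσ σ hσ)
        have hσb : ∀ a, σb (qA a) = σ a := fun a => Ideal.Quotient.liftₐ_apply I σ (hIσ σ hσ) a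
        -- the vector y
        let y : A' ⧸ I' := b.sum (fun i m => σb m • c i)
        have hy : y = 0 := by
          obtain ⟨a', ha'⟩ := hqA' y
          have ha'I : a' ∈ I' := by
            rw [hI']
            refine (Submodule.mem_iInf _).mpr fun σ' => (Submodule.mem_iInf _).mpr fun hσ' => ?_
            rw [RingHom.mem_ker]
            let σb' : A' ⧸ I' →ₐ[k] k := Ideal.Quotient.liftₐ I' σ' (hIσ' σ' hσ')
            have hσb' : ∀ a, σb' (qA' a) = σ' a := fun a => Ideal.Quotient.liftₐ_apply I' σ' (hIσ' σ' hσ') a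
            have hcomp : (Algebra.TensorProduct.map σb σb').comp (Algebra.TensorProduct.map qA qA') =
                Algebra.TensorProduct.map σ σ' := by
              have e1 : σb.comp qA = σ := by ext a; exact hσb a
              have e2 : σb'.comp qA' = σ' := by ext a; exact hσb' a
              rw [← Algebra.TensorProduct.map_comp, e1, e2]
            have h0 := hx' σ hσ σ' hσ'
            rw [← hcomp, AlgHom.comp_apply, ← hb] at h0
            rw [← hσb', ha']
            simp only [y, map_finsuppSum, map_smul, smul_eq_mul]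
            simp only [map_finsuppSum, Algebra.TensorProduct.map_tmul, Algebra.TensorProduct.lmul'_apply_tmul] at h0
            exact h0
          rw [← ha']
          exact (Ideal.Quotient.eq_zero_iff_mem).mpr ha'I
        have hrep : c.repr y i = σb (b i) := by
          simp only [y, map_finsuppSum, map_smul, Module.Basis.repr_self]
          simp [Finsupp.sum, Finsupp.single_apply]
          intro h
          simp [h]
        rw [← hσb, ha, ← hrep, hy]
        simp
      rw [← ha]
      exact (Ideal.Quotient.eq_zero_iff_mem).mpr haI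
    rw [← hb]
    simp [Finsupp.sum, hb0]
  · rw [sup_le_iff]
    constructor
    · rw [Ideal.map_le_iff_le_comap]
      intro a ha
      refine (Submodule.mem_iInf _).mpr fun σ => (Submodule.mem_iInf _).mpr fun hσ =>
        (Submodule.mem_iInf _).mpr fun σ' => (Submodule.mem_iInf _).mpr fun hσ' => ?_
      rw [RingHom.mem_ker]
      simp [hIσ σ hσ a ha]
    · rw [Ideal.map_le_iff_le_comap]
      intro a ha
      refine (Submodule.mem_iInf _).mpr fun σ => (Submodule.mem_iInf _).mpr fun hσ =>
        (Submodule.mem_iInf _).mpr fun σ' => (Submodule.mem_iInf _).mpr fun hσ' => ?_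
      rw [RingHom.mem_ker]
      simp [hIσ' σ' hσ' a ha]

end Groth.Agent.H9.TensKer
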