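import Mathlib

/-! Helper9: K ⊗ R noetherian for f.g. field extension K/k (S6276). -/

namespace Groth.Agent.H9.TensNoeth
open TensorProduct

universe u

lemma gen (k : Type u) [Field k] (R : Type u) [CommRing R] [Algebra k R] [IsNoetherianRing R]
    (K : Type u) [Field K] [Algebra k K] (B : Type u) [CommRing B] [Algebra k B] [Algebra B K]
    [IsScalarTower k B K] [IsFractionRing B K] [Algebra.FiniteType k B] :
    IsNoetherianRing (K ⊗[k] R) := by
  have hRB : IsNoetherianRing (R ⊗[k] B) := Algebra.FiniteType.isNoetherianRing R (R ⊗[k] B)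
  have hBR : IsNoetherianRing (B ⊗[k] R) :=
    isNoetherianRing_of_ringEquiv _ (Algebra.TensorProduct.comm k R B).toRingEquiv
  let φ : B ⊗[k] R →ₐ[k] K ⊗[k] R :=
    Algebra.TensorProduct.map (IsScalarTower.toAlgHom k B K) (AlgHom.id k R)
  let _ : Algebra (B ⊗[k] R) (K ⊗[k] R) := φ.toRingHom.toAlgebra
  have hst : IsScalarTower B (B ⊗[k] R) (K ⊗[k] R) := by
    apply IsScalarTower.of_algebraMap_eq'
    ext x
    change algebraMap B (K ⊗[k] R) x = φ (algebraMap B (B ⊗[k] R) x)
    simp [φ, Algebra.TensorProduct.algebraMap_apply]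
  have hloc := IsLocalization.tensorProduct_tensorProduct k R (nonZeroDivisors B) K (by
    ext r
    change φ (1 ⊗ₜ r) = 1 ⊗ₜ r
    simp [φ])
  exact IsLocalization.isNoetherianRing
    (Algebra.algebraMapSubmonoid (B ⊗[k] R) (nonZeroDivisors B)) (K ⊗[k] R) hBR

theorem main (k : Type u) [Field k] (R : Type u) [CommRing R] [Algebra k R] [IsNoetherianRing R]
    (K : Type u) [Field K] [Algebra k K]
    (hK : ∃ s : Finset K, IntermediateField.adjoin k (s : Set K) = ⊤) :
    IsNoetherianRing (K ⊗[k] R) := by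
  obtain ⟨s, hs⟩ := hK
  let B : Subalgebra k K := Algebra.adjoin k (s : Set K)
  have hfrac : IsFractionRing B K := by
    apply IsFractionRing.of_field
    intro z
    have hz : z ∈ IntermediateField.adjoin k (s : Set K) := hs ▸ IntermediateField.mem_top
    obtain ⟨x, hx, y, hy, rfl⟩ := IntermediateField.mem_adjoin_iff_div.1 hz
    exact ⟨⟨x, hx⟩, ⟨y, hy⟩, rfl⟩
  have hft : Algebra.FiniteType k B :=
    (Subalgebra.fg_iff_finiteType _).1 (Subalgebra.fg_adjoin_finset s)
  exact gen k R K B

end Groth.Agent.H9.TensNoeth
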