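import Mathlib
import Groth.Agent.Lib.Helper9.Misc.FormHMss

/-!
# Stability and semistability of plane cubics (helper9)
-/

set_option autoImplicit false
set_option linter.unusedSectionVars false
set_option linter.unusedVariables false
set_option linter.style.haveILetI false

open TensorProduct CoordGrp WithConv IsLocalRing

noncomputable section

namespace Groth.Agent.H9.BinF

universe u

open Groth.Agent.H9 Groth.Agent.H9.Comod Groth.Agent.H9.GIT Groth.Agent.H9.CLO

attribute [local instance] cS hS finiteType_SLn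

section TC
variable (k : Type u) [Field k] [IsAlgClosed k] [CharZero k]

theorem s19421_main (a : FormIdx 3 3 → k) :
    GLin.IsStableVec k (SLn 3 k) a ↔
      ∀ w : Fin 3 → k, w ≠ 0 →
        ∃ i : Fin 3, MvPolynomial.eval w (MvPolynomial.pderiv i (formPoly a)) ≠ 0 := by
  constructor
  · intro hst w hw
    by_contra hcon
    rw [not_exists] at hcon
    have hsing : ∀ i, MvPolynomial.eval w (MvPolynomial.pderiv i (formPoly a)) = 0 :=
      fun i => not_not.mp (hcon i)
    obtain ⟨M, hM, hMw⟩ : ∃ M : Matrix (Fin 3) (Fin 3) k, M.det = 1 ∧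
        M.mulVec (Pi.single 0 1) = w := exists_move (n := 1) w hw
    set b := actV k M a with hb
    have hF : formPoly b = sigma k M (formPoly a) := formPoly_actV k M a
    have hs : ∀ i, MvPolynomial.eval (Pi.single 0 1 : Fin 3 → k)
        (MvPolynomial.pderiv i (formPoly b)) = 0 := by
      rw [hF]; apply sing_sigma_of_sing; rw [hMw]; exact hsing
    have hzero : ∀ e : FormIdx 3 3, 2 ≤ e.1 0 → b e = 0 :=
      zero_of_sing_e0 (n := 2) (m := 2) b hs
    refine not_st_of_weights a M hM ![-2, 1, 1] (by simp [Fin.sum_univ_three]) 1 (by simp) ?_ hst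
    intro e he
    have hd := deg3' e
    have h0 : ¬ 2 ≤ e.1 0 := fun h => he (hzero e h)
    unfold wt
    rw [Fin.sum_univ_three]
    simp only [Matrix.cons_val_zero, Matrix.cons_val_one, Matrix.cons_val_two, Matrix.head_cons,
      Matrix.tail_cons]
    omega
  · intro h
    exact s12548_main k 2 3 (by norm_num) a h

theorem s19420_main (a : FormIdx 3 3 → k) :
    GLin.IsSemistableVec k (SLn 3 k) a ↔
      ∀ w : Fin 3 → k, w ≠ 0 →
        (∀ i : Fin 3, MvPolynomial.eval w (MvPolynomial.pderiv i (formPoly a)) = 0) →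
          (Hess (formPoly a) w).rank = 2 := by
  constructor
  · intro hss w hw hsing
    by_contra hrank
    obtain ⟨M, hM, h1, h2⟩ : ∃ M : Matrix (Fin 3) (Fin 3) k, M.det = 1 ∧
        (∀ e : FormIdx 3 3, 2 ≤ e.1 0 → actV k M a e = 0) ∧
        (∀ e : FormIdx 3 3, 1 ≤ e.1 0 → 1 ≤ e.1 1 → actV k M a e = 0) :=
      exists_flag_transform (n := 1) (m := 1) a w hw hsing hrank
    refine null_of_weights a M hM ![-4, 1, 3] (by simp [Fin.sum_univ_three]) ?_ hss
    intro e he
    have hd := deg3' e
    have c1 : ¬ 2 ≤ e.1 0 := fun h => he (h1 e h)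
    have c2 : ¬ (1 ≤ e.1 0 ∧ 1 ≤ e.1 1) := fun h => he (h2 e h.1 h.2)
    unfold wt
    rw [Fin.sum_univ_three]
    simp only [Matrix.cons_val_zero, Matrix.cons_val_one, Matrix.cons_val_two, Matrix.head_cons,
      Matrix.tail_cons]
    omega
  · intro hcrit
    apply hm_sorted_ss k 2 3 a
    intro Γ _ _ _ g M hM hsum hmono hsup
    have hg01 : g 0 ≤ g 1 := hmono (by decide)
    have hg12 : g 1 ≤ g 2 := hmono (by decide)
    have hgsum : g 0 + g 1 + g 2 = 0 := by rw [← Fin.sum_univ_three]; exact hsum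
    set b := actV k M a with hb
    have hF : formPoly b = sigma k M (formPoly a) := formPoly_actV k M a
    have hz : ∀ e : FormIdx 3 3, (∑ t, e.1 t • g t) ≤ 0 → b e = 0 := by
      intro e he
      by_contra hne
      exact absurd (hsup e hne) (not_lt.mpr he)
    have hgl : ∀ j : Fin 3, g j ≤ g 2 := by
      intro j; fin_cases j
      · exact le_trans hg01 hg12
      · exact hg12
      · exact le_rfl
    have hgrad : ∀ j : Fin 3, b (shiftIdx j (pureIdx 2 2)) = 0 := by
      intro j
      apply hz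
      rw [wsum_shift, wsum_pure]
      have e1 : 2 • g 0 + g 2 = (g 0 - g 1) + (g 0 + g 1 + g 2) := by abel
      calc 2 • g 0 + g j ≤ 2 • g 0 + g 2 := by gcongr; exact hgl j
        _ = (g 0 - g 1) + (g 0 + g 1 + g 2) := e1
        _ = g 0 - g 1 := by rw [hgsum, add_zero]
        _ ≤ 0 := sub_nonpos.mpr hg01
    have hs : ∀ i, MvPolynomial.eval (Pi.single 0 1 : Fin 3 → k)
        (MvPolynomial.pderiv i (formPoly b)) = 0 := sing_e0_of_zero (n := 2) (m := 2) b hgrad
    have hH : ∀ i l : Fin 3, l ≠ 2 → Hess (formPoly b) (Pi.single 0 1) i l = 0 := by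
      intro i l hl
      have hzz : b (shiftIdx l (shiftIdx i (pureIdx 2 1))) = 0 := by
        apply hz
        rw [wsum_shift, wsum_shift, wsum_pure]
        have hl1 : g l ≤ g 1 := by
          fin_cases l
          · exact hg01
          · exact le_rfl
          · exact absurd rfl hl
        calc 1 • g 0 + g i + g l ≤ 1 • g 0 + g 2 + g 1 := by
              gcongr
              · exact hgl i
            _ = g 0 + g 1 + g 2 := by rw [one_smul]; abel
            _ = 0 := hgsum
            _ ≤ 0 := le_rfl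
      have := hess_e0_apply (n := 2) (m := 1) b i l
      rw [this, hzz, mul_zero, mul_zero]
    have hrk : (Hess (formPoly b) (Pi.single 0 1)).rank ≤ 1 :=
      rank_le_of_cols _ (fun _ : Fin 1 => (2 : Fin 3)) (Function.injective_of_subsingleton _)
        (fun i l h => hH i l (fun hl => h 0 hl.symm))
    have he0 : (Pi.single 0 1 : Fin 3 → k) ≠ 0 := by
      intro h
      have := congrFun h 0
      simp at this
    have hw : M.mulVec (Pi.single 0 1) ≠ 0 := mulVec_ne_zero M hM he0
    have hsing : ∀ j, MvPolynomial.eval (M.mulVec (Pi.single 0 1))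
        (MvPolynomial.pderiv j (formPoly a)) = 0 := by
      apply sing_of_sing_sigma M hM
      rw [← hF]; exact hs
    have h2 := hcrit _ hw hsing
    rw [← rank_hess_sigma M hM, ← hF] at h2
    omega

end TC

section Final

theorem s19421 (k : Type u) [Field k] [IsAlgClosed k] [CharZero k]
    (a : CoordGrp.FormIdx 3 3 → k) :
    @GLin.IsStableVec k _ (CoordGrp.SLn 3 k) _ _ (CoordGrp.FormIdx 3 3) (GLin.comodAlong ((CoordGrp.SLn.mkHom 3 k).comp (CoordGrp.Mat.toGLn 3 k)) (CoordGrp.formsCoact k 3 3))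
      (GLin.isCoactAlg_comodAlong ((CoordGrp.SLn.mkHom 3 k).comp (CoordGrp.Mat.toGLn 3 k)) (CoordGrp.formsCoact k 3 3)
        (CoordGrp.formsCoact_isCoactAlg k 3 3))
      a ↔
      ∀ w : Fin 3 → k, w ≠ 0 →
        ∃ i : Fin 3, MvPolynomial.eval w (MvPolynomial.pderiv i (CoordGrp.formPoly a)) ≠ 0 :=
  s19421_main k a

theorem s19420 (k : Type u) [Field k] [IsAlgClosed k] [CharZero k]
    (a : CoordGrp.FormIdx 3 3 → k) :
    @GLin.IsSemistableVec k _ (CoordGrp.SLn 3 k) _ _ (CoordGrp.FormIdx 3 3) (GLin.comodAlong ((CoordGrp.SLn.mkHom 3 k).comp (CoordGrp.Mat.toGLn 3 k)) (CoordGrp.formsCoact k 3 3))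
      (GLin.isCoactAlg_comodAlong ((CoordGrp.SLn.mkHom 3 k).comp (CoordGrp.Mat.toGLn 3 k)) (CoordGrp.formsCoact k 3 3)
        (CoordGrp.formsCoact_isCoactAlg k 3 3))
      a ↔
      ∀ w : Fin 3 → k, w ≠ 0 →
        (∀ i : Fin 3, MvPolynomial.eval w (MvPolynomial.pderiv i (CoordGrp.formPoly a)) = 0) →
          (Matrix.of fun i j : Fin 3 =>
            MvPolynomial.eval w (MvPolynomial.pderiv i (MvPolynomial.pderiv j (CoordGrp.formPoly a)))).rank = 2 :=
  s19420_main k a

end Final

end Groth.Agent.H9.BinF
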