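import Mathlib
import Groth.Agent.Lib.Helper2.NodeInv
import Groth.Agent.S0543
import Groth.Prelude.Def_DualGr

set_option autoImplicit false
set_option linter.style.haveILetI false
universe u

namespace Groth.Agent.H9.ThickNode

open IsLocalRing MvPowerSeries

section Dense

variable {R : Type u} [CommRing R] [IsLocalRing R] [IsNoetherianRing R]

local notation "Sc" => AdicCompletion (maximalIdeal R) R

theorem exists_sub_mem (s : AdicCompletion (maximalIdeal R) R) (n : ℕ) :
    ∃ r : R, s - algebraMap R (AdicCompletion (maximalIdeal R) R) r ∈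
      ((maximalIdeal R) ^ n).map (algebraMap R (AdicCompletion (maximalIdeal R) R)) := by
  obtain ⟨r, hr⟩ := Submodule.mkQ_surjective _ (AdicCompletion.eval (maximalIdeal R) R n s)
  refine ⟨r, ?_⟩
  have hker : s - algebraMap R (AdicCompletion (maximalIdeal R) R) r ∈
      LinearMap.ker (AdicCompletion.eval (maximalIdeal R) R n) := by
    rw [LinearMap.mem_ker, map_sub, AdicCompletion.algebraMap_apply, Algebra.algebraMap_self,
      RingHom.id_apply, AdicCompletion.eval_of, hr, sub_self]
  rw [← AdicCompletion.pow_smul_top_eq_ker_eval (IsNoetherian.noetherian _)] at hker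
  have hle : (maximalIdeal R ^ n • (⊤ : Submodule R (AdicCompletion (maximalIdeal R) R))) ≤
      (((maximalIdeal R) ^ n).map
        (algebraMap R (AdicCompletion (maximalIdeal R) R))).restrictScalars R := by
    rw [Submodule.smul_le]
    intro a ha t _
    rw [Submodule.restrictScalars_mem, Algebra.smul_def]
    exact Ideal.mul_mem_right _ _ (Ideal.mem_map_of_mem _ ha)
  exact hle hker

theorem mem_pow_of_map_mem (x : R) (n : ℕ)
    (h : algebraMap R (AdicCompletion (maximalIdeal R) R) x ∈
      ((maximalIdeal R) ^ n).map (algebraMap R (AdicCompletion (maximalIdeal R) R))) :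
    x ∈ (maximalIdeal R) ^ n := by
  have h2 : ((maximalIdeal R) ^ n).map (algebraMap R (AdicCompletion (maximalIdeal R) R)) ≤
      RingHom.ker (AdicCompletion.evalₐ (maximalIdeal R) n).toRingHom := by
    rw [Ideal.map_le_iff_le_comap]
    intro y hy
    rw [Ideal.mem_comap, RingHom.mem_ker]
    change (AdicCompletion.evalₐ (maximalIdeal R) n)
      (algebraMap R (AdicCompletion (maximalIdeal R) R) y) = 0
    rw [AlgHom.commutes, Ideal.Quotient.algebraMap_eq, Ideal.Quotient.eq_zero_iff_mem]
    exact hy
  have h3 := h2 h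
  rw [RingHom.mem_ker] at h3
  change (AdicCompletion.evalₐ (maximalIdeal R) n)
    (algebraMap R (AdicCompletion (maximalIdeal R) R) x) = 0 at h3
  rw [AlgHom.commutes, Ideal.Quotient.algebraMap_eq, Ideal.Quotient.eq_zero_iff_mem] at h3
  exact h3

theorem mem_span_of_map_mem (a b : R)
    (h : algebraMap R (AdicCompletion (maximalIdeal R) R) a ∈
      Ideal.span {algebraMap R (AdicCompletion (maximalIdeal R) R) b}) :
    a ∈ Ideal.span {b} := by
  obtain ⟨s, hs⟩ := Ideal.mem_span_singleton'.mp h
  have key : ∀ n, ∃ r : R, a - r * b ∈ (maximalIdeal R) ^ n := by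
    intro n
    obtain ⟨r, hr⟩ := exists_sub_mem s n
    refine ⟨r, mem_pow_of_map_mem _ n ?_⟩
    have e : algebraMap R (AdicCompletion (maximalIdeal R) R) (a - r * b) =
        (s - algebraMap R (AdicCompletion (maximalIdeal R) R) r) *
          algebraMap R (AdicCompletion (maximalIdeal R) R) b := by
      rw [map_sub, map_mul, ← hs]; ring
    rw [e]
    exact Ideal.mul_mem_right _ _ hr
  have hb0 : Ideal.Quotient.mk (Ideal.span {b}) b = 0 :=
    Ideal.Quotient.eq_zero_iff_mem.mpr (Ideal.mem_span_singleton_self b)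
  have hz : (Ideal.Quotient.mk (Ideal.span {b}) a) = 0 := by
    apply IsHausdorff.haus (inferInstance : IsHausdorff (maximalIdeal R) (R ⧸ Ideal.span {b}))
    intro n
    rw [SModEq.zero]
    obtain ⟨r, hr⟩ := key n
    have e : Ideal.Quotient.mk (Ideal.span {b}) a = (a - r * b) • (1 : R ⧸ Ideal.span {b}) := by
      rw [Algebra.smul_def, mul_one, Ideal.Quotient.algebraMap_eq, map_sub, map_mul, hb0,
        mul_zero, sub_zero]
    rw [e]
    exact Submodule.smul_mem_smul hr Submodule.mem_top
  exact Ideal.Quotient.eq_zero_iff_mem.mp hz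

theorem ringHom_ext_of_comp_eq {N : Type u} [CommRing N] [IsLocalRing N] [IsNoetherianRing N]
    (f g : AdicCompletion (maximalIdeal R) R →+* N)
    (hfg : f.comp (algebraMap R (AdicCompletion (maximalIdeal R) R)) =
      g.comp (algebraMap R (AdicCompletion (maximalIdeal R) R)))
    (hK : Ideal.map (g.comp (algebraMap R (AdicCompletion (maximalIdeal R) R)))
      (maximalIdeal R) ≠ ⊤) :
    f = g := by
  ext s
  have hmem : ∀ n, f s - g s ∈
      (Ideal.map (g.comp (algebraMap R (AdicCompletion (maximalIdeal R) R)))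
        (maximalIdeal R)) ^ n := by
    intro n
    obtain ⟨r, hr⟩ := exists_sub_mem s n
    have h1 : ∀ h : AdicCompletion (maximalIdeal R) R →+* N,
        h.comp (algebraMap R (AdicCompletion (maximalIdeal R) R)) =
          g.comp (algebraMap R (AdicCompletion (maximalIdeal R) R)) →
        h (s - algebraMap R (AdicCompletion (maximalIdeal R) R) r) ∈
          (Ideal.map (g.comp (algebraMap R (AdicCompletion (maximalIdeal R) R)))
            (maximalIdeal R)) ^ n := by
      intro h hh
      have hm : h (s - algebraMap R (AdicCompletion (maximalIdeal R) R) r) ∈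
          Ideal.map h (((maximalIdeal R) ^ n).map
            (algebraMap R (AdicCompletion (maximalIdeal R) R))) := Ideal.mem_map_of_mem _ hr
      rw [Ideal.map_map, hh, Ideal.map_pow] at hm
      exact hm
    have e : f s - g s = f (s - algebraMap R (AdicCompletion (maximalIdeal R) R) r) -
        g (s - algebraMap R (AdicCompletion (maximalIdeal R) R) r) := by
      have hc := RingHom.congr_fun hfg r
      simp only [RingHom.comp_apply] at hc
      rw [map_sub, map_sub, hc]; ring
    rw [e]
    exact Ideal.sub_mem _ (h1 f hfg) (h1 g rfl)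
  have hbot : f s - g s ∈ (⨅ n, (Ideal.map (g.comp
      (algebraMap R (AdicCompletion (maximalIdeal R) R))) (maximalIdeal R)) ^ n : Ideal N) := by
    rw [Ideal.mem_iInf]; exact hmem
  rw [Ideal.iInf_pow_eq_bot_of_isLocalRing _ hK, Ideal.mem_bot] at hbot
  exact sub_eq_zero.mp hbot

end Dense

section Main

variable {R : Type u} [CommRing R] [IsLocalRing R] [IsNoetherianRing R]

theorem span_eq_of_ringEquiv (a b : R) (ha : a ∈ maximalIdeal R) (hb : b ∈ maximalIdeal R)
    (ψ : DualGr.nodeRing R a ≃+* DualGr.nodeRing R b)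
    (hψ : ∀ r : R, ψ (Ideal.Quotient.mk _ (MvPowerSeries.C (algebraMap R (Curv2.cpl R) r))) =
      Ideal.Quotient.mk _ (MvPowerSeries.C (algebraMap R (Curv2.cpl R) r))) :
    algebraMap R (Curv2.cpl R) a ∈ Ideal.span {algebraMap R (Curv2.cpl R) b} := by
  haveI : IsNoetherianRing (AdicCompletion (maximalIdeal R) R) :=
    Groth.Agent.S0543.result R (maximalIdeal R)
  have ha' : algebraMap R (AdicCompletion (maximalIdeal R) R) a ∈
      maximalIdeal (AdicCompletion (maximalIdeal R) R) := by
    rw [AdicCompletion.maximalIdeal_eq_map]; exact Ideal.mem_map_of_mem _ ha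
  have hb' : algebraMap R (AdicCompletion (maximalIdeal R) R) b ∈
      maximalIdeal (AdicCompletion (maximalIdeal R) R) := by
    rw [AdicCompletion.maximalIdeal_eq_map]; exact Ideal.mem_map_of_mem _ hb
  haveI : Nontrivial (Groth.Agent.H2.NodeInv.Nd
      (algebraMap R (AdicCompletion (maximalIdeal R) R) b)) :=
    (Groth.Agent.H2.NodeInv.projN hb').toRingHom.domain_nontrivial
  haveI : IsLocalRing (Groth.Agent.H2.NodeInv.Nd
      (algebraMap R (AdicCompletion (maximalIdeal R) R) b)) :=
    IsLocalRing.of_surjective' (Ideal.Quotient.mk _) Ideal.Quotient.mk_surjective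
  have halg : ∀ (c : R) (s : AdicCompletion (maximalIdeal R) R),
      algebraMap (AdicCompletion (maximalIdeal R) R) (Groth.Agent.H2.NodeInv.Nd
        (algebraMap R (AdicCompletion (maximalIdeal R) R) c)) s =
      Ideal.Quotient.mk _ (MvPowerSeries.C s) := by
    intro c s
    rw [← Ideal.Quotient.mk_algebraMap, MvPowerSeries.algebraMap_apply, Algebra.algebraMap_self,
      RingHom.id_apply]
  have hfg : (ψ.toRingHom.comp (algebraMap (AdicCompletion (maximalIdeal R) R)
        (Groth.Agent.H2.NodeInv.Nd (algebraMap R (AdicCompletion (maximalIdeal R) R) a)))) =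
      algebraMap (AdicCompletion (maximalIdeal R) R)
        (Groth.Agent.H2.NodeInv.Nd (algebraMap R (AdicCompletion (maximalIdeal R) R) b)) := by
    apply ringHom_ext_of_comp_eq
    · ext r
      simp only [RingHom.comp_apply]
      rw [halg a, halg b]
      exact hψ r
    · refine ne_top_of_le_ne_top
        (RingHom.ker_ne_top (Groth.Agent.H2.NodeInv.projN hb').toRingHom) ?_
      rw [Ideal.map_le_iff_le_comap]
      intro r hr
      rw [Ideal.mem_comap, RingHom.mem_ker, RingHom.comp_apply, halg b]
      change (Groth.Agent.H2.NodeInv.projN hb') (Ideal.Quotient.mk _ (MvPowerSeries.C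
        (algebraMap R (AdicCompletion (maximalIdeal R) R) r))) = 0
      rw [Groth.Agent.H2.NodeInv.projN_mk, Groth.Agent.H2.NodeInv.proj₀_C]
      have : Ideal.Quotient.mk (maximalIdeal (AdicCompletion (maximalIdeal R) R))
          (algebraMap R (AdicCompletion (maximalIdeal R) R) r) = 0 := by
        rw [Ideal.Quotient.eq_zero_iff_mem, AdicCompletion.maximalIdeal_eq_map]
        exact Ideal.mem_map_of_mem _ hr
      rw [this, map_zero]
  have Ψ : Groth.Agent.H2.NodeInv.Nd (algebraMap R (AdicCompletion (maximalIdeal R) R) a)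
      ≃ₐ[AdicCompletion (maximalIdeal R) R]
      Groth.Agent.H2.NodeInv.Nd (algebraMap R (AdicCompletion (maximalIdeal R) R) b) :=
    AlgEquiv.ofRingEquiv (f := ψ) (fun s => RingHom.congr_fun hfg s)
  have := Groth.Agent.H2.NodeInv.span_eq_of_algEquiv _ _ ha' hb' Ψ
  rw [← this]
  exact Ideal.mem_span_singleton_self _

theorem main {A : Type u} [CommRing A] [IsLocalRing A]
    (φ : R →+* A) (a b : R) (ha : a ∈ maximalIdeal R) (hb : b ∈ maximalIdeal R)
    (h₁ : DualGr.IsThickNode φ a) (h₂ : DualGr.IsThickNode φ b) :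
    Ideal.span {a} = Ideal.span {b} := by
  obtain ⟨e₁, he₁⟩ := h₁
  obtain ⟨e₂, he₂⟩ := h₂
  have h12 : ∀ r : R, (e₁.symm.trans e₂) (Ideal.Quotient.mk _ (MvPowerSeries.C
      (algebraMap R (Curv2.cpl R) r))) =
      Ideal.Quotient.mk _ (MvPowerSeries.C (algebraMap R (Curv2.cpl R) r)) := by
    intro r
    rw [RingEquiv.trans_apply, ← he₁ r, RingEquiv.symm_apply_apply, he₂ r]
  have h21 : ∀ r : R, (e₂.symm.trans e₁) (Ideal.Quotient.mk _ (MvPowerSeries.C
      (algebraMap R (Curv2.cpl R) r))) =
      Ideal.Quotient.mk _ (MvPowerSeries.C (algebraMap R (Curv2.cpl R) r)) := by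
    intro r
    rw [RingEquiv.trans_apply, ← he₂ r, RingEquiv.symm_apply_apply, he₁ r]
  have hab := mem_span_of_map_mem a b (span_eq_of_ringEquiv a b ha hb _ h12)
  have hba := mem_span_of_map_mem b a (span_eq_of_ringEquiv b a hb ha _ h21)
  apply le_antisymm
  · rw [Ideal.span_singleton_le_iff_mem]; exact hab
  · rw [Ideal.span_singleton_le_iff_mem]; exact hba

end Main

end Groth.Agent.H9.ThickNode
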