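import Mathlib

/-! Helper9: the Todd series t/(1-e^{-t}) and binomial coefficients -/

set_option linter.style.haveILetI false

namespace Groth.Agent.H9.Todd
open PowerSeries

local notation "E" => PowerSeries.exp ℚ

/-- `e^{-t}` -/
noncomputable def G : PowerSeries ℚ := rescale (-1 : ℚ) E

lemma E_mul_G : E * G = 1 := by
  have := exp_mul_exp_eq_exp_add (A := ℚ) 1 (-1)
  simpa [G] using this

section
variable (f : PowerSeries ℚ) (hf : f * (E - 1) = X * E)
include hf

lemma f_mul_one_sub_G : f * (1 - G) = X := by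
  have h1 : f * (E - 1) * G = X * E * G := by rw [hf]
  have h2 : f * (E - 1) * G = f * (1 - G) := by
    calc f * (E - 1) * G = f * (E * G - G) := by ring
      _ = f * (1 - G) := by rw [E_mul_G]
  have h3 : X * E * G = (X : PowerSeries ℚ) := by
    rw [mul_assoc, E_mul_G, mul_one]
  rw [← h2, h1, h3]

lemma constCoeff_f : coeff 0 f = 1 := by
  have h := congrArg (coeff 1) hf
  rw [coeff_mul, coeff_succ_X_mul] at h
  simp [Finset.Nat.antidiagonal_succ, coeff_exp] at h
  simpa using h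

/-- the ODE `t f' = f + t f - f²` -/
lemma ode : X * d⁄dX ℚ f = f + X * f - f ^ 2 := by
  have h := congrArg (d⁄dX ℚ) hf
  rw [Derivation.leibniz, Derivation.leibniz, map_sub, derivative_exp, derivative_one, sub_zero,
    derivative_X] at h
  simp only [smul_eq_mul, mul_one] at h
  -- h : f * E + (E - 1) * f' = X * E + E
  have h2 : E * (X * d⁄dX ℚ f) = E * (f + X * f - f ^ 2) := by
    have : E * (X * d⁄dX ℚ f) = (X * E) * d⁄dX ℚ f := by ring
    rw [this, ← hf]
    have h3 : f * ((E - 1) * d⁄dX ℚ f) = f * (X * E + E - f * E) := by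
      congr 1
      linear_combination h
    calc f * (E - 1) * d⁄dX ℚ f = f * ((E - 1) * d⁄dX ℚ f) := by ring
      _ = f * (X * E + E - f * E) := h3
      _ = E * (f + X * f - f ^ 2) := by ring
  have hu : IsUnit E := isUnit_exp ℚ
  exact hu.mul_left_cancel h2

/-- `coeff_{k+1} f^{k+2} = coeff_k f^{k+1}` -/
lemma coeff_step (k : ℕ) : coeff (k + 1) (f ^ (k + 2)) = coeff k (f ^ (k + 1)) := by
  have h1 : X * d⁄dX ℚ (f ^ (k + 1)) =
      ((k + 1 : ℕ) : PowerSeries ℚ) * (f ^ (k + 1) + X * f ^ (k + 1) - f ^ (k + 2)) := by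
    rw [derivative_pow, Nat.add_sub_cancel]
    calc X * (((k + 1 : ℕ) : PowerSeries ℚ) * f ^ k * d⁄dX ℚ f)
        = ((k + 1 : ℕ) : PowerSeries ℚ) * f ^ k * (X * d⁄dX ℚ f) := by ring
      _ = ((k + 1 : ℕ) : PowerSeries ℚ) * f ^ k * (f + X * f - f ^ 2) := by rw [ode f hf]
      _ = _ := by ring
  have h2 := congrArg (coeff (k + 1)) h1
  rw [coeff_succ_X_mul, coeff_derivative] at h2
  have h3 : coeff (k + 1) (((k + 1 : ℕ) : PowerSeries ℚ) *
      (f ^ (k + 1) + X * f ^ (k + 1) - f ^ (k + 2))) =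
      ((k + 1 : ℕ) : ℚ) * (coeff (k + 1) (f ^ (k + 1)) + coeff k (f ^ (k + 1)) -
        coeff (k + 1) (f ^ (k + 2))) := by
    rw [← map_natCast (C (R := ℚ)), coeff_C_mul, map_sub, map_add, coeff_succ_X_mul]
  rw [h3] at h2
  have hk : ((k + 1 : ℕ) : ℚ) ≠ 0 := by positivity
  have h4 : ((k + 1 : ℕ) : ℚ) * (coeff (k + 1) (f ^ (k + 2)) - coeff k (f ^ (k + 1))) = 0 := by
    push_cast at h2 ⊢
    linear_combination h2
  have h5 := (mul_eq_zero.mp h4).resolve_left hk
  exact sub_eq_zero.mp h5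

lemma coeff_pow_succ (n : ℕ) : coeff n (f ^ (n + 1)) = 1 := by
  induction n with
  | zero => simpa using constCoeff_f f hf
  | succ k ih => rw [coeff_step f hf k, ih]

/-- `a(m, n)` -/
noncomputable def a (m : ℤ) (n : ℕ) : ℚ := coeff n (rescale (m : ℚ) E * f ^ (n + 1))

lemma a_zero (m : ℤ) : a f m 0 = 1 := by
  simp [a, coeff_mul, coeff_exp, constCoeff_f f hf]

lemma a_pascal (m : ℤ) (n : ℕ) : a f m (n + 1) - a f (m - 1) (n + 1) = a f m n := by
  unfold a
  rw [← map_sub]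
  have h1 : rescale (((m - 1 : ℤ)) : ℚ) E = rescale (m : ℚ) E * G := by
    rw [G, exp_mul_exp_eq_exp_add]
    congr 2
    push_cast
    ring
  have h2 : rescale (m : ℚ) E * f ^ (n + 1 + 1) - rescale (((m - 1 : ℤ)) : ℚ) E * f ^ (n + 1 + 1) =
      X * (rescale (m : ℚ) E * f ^ (n + 1)) := by
    rw [h1]
    calc rescale (m : ℚ) E * f ^ (n + 1 + 1) - rescale (m : ℚ) E * G * f ^ (n + 1 + 1)
        = rescale (m : ℚ) E * f ^ (n + 1) * (f * (1 - G)) := by ring
      _ = _ := by rw [f_mul_one_sub_G f hf]; ring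
  rw [h2, coeff_succ_X_mul]

lemma a_zero_left (n : ℕ) : a f 0 n = 1 := by
  unfold a
  have : rescale ((0 : ℤ) : ℚ) E = 1 := by
    simp
  rw [this, one_mul]
  exact coeff_pow_succ f hf n

theorem a_eq (n : ℕ) : ∀ m : ℤ, a f m n = ((Ring.choose (m + n : ℤ) n : ℤ) : ℚ) := by
  induction n with
  | zero =>
    intro m
    rw [a_zero f hf, Ring.choose_zero_right]
    simp
  | succ n ih =>
    intro m
    induction m using Int.induction_on with
    | zero =>
      rw [a_zero_left f hf]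
      have : ((0 : ℤ) + ((n + 1 : ℕ) : ℤ)) = ((n + 1 : ℕ) : ℤ) := by simp
      rw [this, Ring.choose_natCast]
      simp
    | succ i hi =>
      have hp := a_pascal f hf ((i : ℤ) + 1) n
      rw [add_sub_cancel_right, hi, ih] at hp
      have hc := Ring.choose_succ_succ ((i : ℤ) + ((n + 1 : ℕ) : ℤ)) n
      have e1 : ((i : ℤ) + 1 + ((n + 1 : ℕ) : ℤ)) = ((i : ℤ) + ((n + 1 : ℕ) : ℤ)) + 1 := by ring
      have e2 : ((i : ℤ) + 1 + (n : ℤ)) = (i : ℤ) + ((n + 1 : ℕ) : ℤ) := by push_cast; ring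
      rw [e1, hc]
      rw [e2] at hp
      push_cast at hp ⊢
      linear_combination hp
    | pred i hi =>
      have hp := a_pascal f hf (-(i : ℤ)) n
      rw [hi, ih] at hp
      have hc := Ring.choose_succ_succ (-(i : ℤ) - 1 + ((n + 1 : ℕ) : ℤ)) n
      have e1 : (-(i : ℤ) - 1 + ((n + 1 : ℕ) : ℤ)) + 1 = (-(i : ℤ) + ((n + 1 : ℕ) : ℤ)) := by ring
      have e2 : (-(i : ℤ) + (n : ℤ)) = (-(i : ℤ) - 1 + ((n + 1 : ℕ) : ℤ)) := by push_cast; ring
      rw [e1] at hc
      rw [hc, e2] at hp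
      push_cast at hp ⊢
      linear_combination -hp

end

end Groth.Agent.H9.Todd
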