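import Mathlib
import Groth.Agent.Lib.Helper9.Misc.Todd

/-! Helper9: characterisation of the Todd series by coefficient conditions -/

set_option linter.style.haveILetI false

namespace Groth.Agent.H9.Todd
open PowerSeries

local notation "E" => PowerSeries.exp ℚ

lemma dvd_step (f g : PowerSeries ℚ) (h0f : constantCoeff f = 1) (h0g : constantCoeff g = 1)
    (n : ℕ) (hn : X ^ n ∣ f - g) (hc : coeff n (f ^ (n + 1)) = coeff n (g ^ (n + 1))) :
    X ^ (n + 1) ∣ f - g := by
  obtain ⟨h, hh⟩ := hn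
  have geom := (Commute.all f g).geom_sum₂_mul (n + 1)
  rw [hh] at geom
  have h1 : f ^ (n + 1) - g ^ (n + 1) =
      X ^ n * ((∑ i ∈ Finset.range (n + 1), f ^ i * g ^ (n + 1 - 1 - i)) * h) := by
    rw [← geom]; ring
  have h2 := congrArg (coeff n) h1
  rw [map_sub, hc, sub_self] at h2
  have h3 : coeff n (X ^ n * ((∑ i ∈ Finset.range (n + 1), f ^ i * g ^ (n + 1 - 1 - i)) * h)) =
      coeff 0 ((∑ i ∈ Finset.range (n + 1), f ^ i * g ^ (n + 1 - 1 - i)) * h) := by
    have := coeff_X_pow_mul ((∑ i ∈ Finset.range (n + 1), f ^ i * g ^ (n + 1 - 1 - i)) * h) n 0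
    rwa [zero_add] at this
  rw [h3, coeff_zero_eq_constantCoeff_apply, map_mul, map_sum] at h2
  have h4 : ∑ i ∈ Finset.range (n + 1), constantCoeff (f ^ i * g ^ (n + 1 - 1 - i)) =
      ((n + 1 : ℕ) : ℚ) := by
    simp [h0f, h0g]
  rw [h4] at h2
  have hk : ((n + 1 : ℕ) : ℚ) ≠ 0 := by positivity
  have h5 : constantCoeff h = 0 := (mul_eq_zero.mp h2.symm).resolve_left hk
  obtain ⟨q, hq⟩ := X_dvd_iff.mpr h5
  refine ⟨q, ?_⟩
  rw [hh, hq, pow_succ]
  ring

lemma eq_of_coeff_pow (f g : PowerSeries ℚ)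
    (hf : ∀ n : ℕ, coeff n (f ^ (n + 1)) = 1) (hg : ∀ n : ℕ, coeff n (g ^ (n + 1)) = 1) :
    f = g := by
  have h0f : constantCoeff f = 1 := by simpa using hf 0
  have h0g : constantCoeff g = 1 := by simpa using hg 0
  have hdvd : ∀ n : ℕ, X ^ n ∣ f - g := by
    intro n
    induction n with
    | zero => simp
    | succ n ih => exact dvd_step f g h0f h0g n ih (by rw [hf, hg])
  rw [← sub_eq_zero]
  ext n
  rw [map_zero]
  exact (X_pow_dvd_iff.mp (hdvd (n + 1))) n (Nat.lt_succ_self n)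

/-- the Todd series exists -/
lemma exists_todd : ∃ f₀ : PowerSeries ℚ, f₀ * (E - 1) = X * E := by
  let u : PowerSeries ℚ := PowerSeries.mk fun k => (1 : ℚ) / ((k + 1).factorial : ℚ)
  have hu : E - 1 = X * u := by
    ext n
    cases n with
    | zero => simp [coeff_exp]
    | succ k =>
      rw [coeff_succ_X_mul, map_sub, coeff_exp, coeff_one, coeff_mk]
      simp
  have hu0 : constantCoeff u ≠ 0 := by
    simp [u]
  refine ⟨E * u⁻¹, ?_⟩
  rw [hu]
  calc E * u⁻¹ * (X * u) = X * E * (u * u⁻¹) := by ring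
    _ = X * E := by rw [PowerSeries.mul_inv_cancel u hu0, mul_one]

theorem todd_iff (f : PowerSeries ℚ) :
    (∀ n : ℕ, PowerSeries.coeff n (f ^ (n + 1)) = 1) ↔
      f * (PowerSeries.exp ℚ - 1) = PowerSeries.X * PowerSeries.exp ℚ := by
  constructor
  · intro h
    obtain ⟨f₀, hf₀⟩ := exists_todd
    have := eq_of_coeff_pow f f₀ h (coeff_pow_succ f₀ hf₀)
    rw [this]; exact hf₀
  · intro hf n
    exact coeff_pow_succ f hf n

end Groth.Agent.H9.Todd
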