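import Mathlib

/-!
# Verdier quotient by `S`-torsion objects localizes Hom modules

Helper library for S19190.
-/

open CategoryTheory Limits Pretriangulated Triangulated ZeroObject

set_option linter.unusedSectionVars false

namespace Groth.Agent.Lib.Helper9.TorsLoc

universe w v u v' u'

variable {A : Type w} [CommRing A] (S : Submonoid A)
    {T : Type u} [Category.{v} T] [Preadditive T] [Linear A T] [HasZeroObject T] [HasShift T ℤ]
    [∀ n : ℤ, (shiftFunctor T n).Additive] [∀ n : ℤ, (shiftFunctor T n).Linear A]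
    [Pretriangulated T]

/-- Objects whose identity is killed by some element of `S`. -/
def killed : ObjectProperty T := fun Z => ∃ f ∈ S, f • 𝟙 Z = 0

lemma killed_of_retract {X Y : T} (r : Retract X Y) (h : killed S Y) : killed S X := by
  obtain ⟨f, hf, hz⟩ := h
  refine ⟨f, hf, ?_⟩
  have h1 : f • 𝟙 X = r.i ≫ (f • 𝟙 Y) ≫ r.r := by
    rw [Linear.smul_comp, Linear.comp_smul, Category.id_comp, r.retract]
  rw [h1, hz]
  simp

instance : (killed S : ObjectProperty T).IsStableUnderRetracts where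
  of_retract r h := killed_of_retract S r h

instance : (killed S : ObjectProperty T).ContainsZero where
  exists_zero := ⟨0, isZero_zero _, 1, S.one_mem, (isZero_zero T).eq_of_src _ _⟩

instance : (killed S : ObjectProperty T).IsStableUnderShift ℤ where
  isStableUnderShiftBy n := ⟨by
    rintro X ⟨f, hf, hz⟩
    refine ⟨f, hf, ?_⟩
    have h1 : (shiftFunctor T n).map (f • 𝟙 X) = f • 𝟙 ((shiftFunctor T n).obj X) := by
      rw [Functor.map_smul, CategoryTheory.Functor.map_id]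
    rw [← h1, hz, Functor.map_zero]⟩

instance : (killed S : ObjectProperty T).IsTriangulatedClosed₂ :=
  .mk' (by
    rintro Tr hT ⟨f₁, hf₁, hz₁⟩ ⟨f₃, hf₃, hz₃⟩
    refine ⟨f₁ * f₃, S.mul_mem hf₁ hf₃, ?_⟩
    have h0 : (f₃ • 𝟙 Tr.obj₂) ≫ Tr.mor₂ = 0 := by
      have : (f₃ • 𝟙 Tr.obj₂) ≫ Tr.mor₂ = Tr.mor₂ ≫ (f₃ • 𝟙 Tr.obj₃) := by
        rw [Linear.smul_comp, Linear.comp_smul, Category.id_comp, Category.comp_id]
      rw [this, hz₃, comp_zero]
    obtain ⟨a, ha⟩ := Triangle.coyoneda_exact₂ Tr hT _ h0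
    have h1 : (f₁ * f₃) • 𝟙 Tr.obj₂ = (a ≫ (f₁ • 𝟙 Tr.obj₁)) ≫ Tr.mor₁ := by
      rw [mul_smul, ha, Linear.comp_smul, Linear.smul_comp, Category.comp_id]
    rw [h1, hz₁, comp_zero, zero_comp])

instance : (killed S : ObjectProperty T).IsTriangulated where

lemma killed_cone (X : T) (f : A) (hf : f ∈ S) (Z : T) (g : X ⟶ Z) (h : Z ⟶ X⟦(1 : ℤ)⟧)
    (hT : Triangle.mk (f • 𝟙 X) g h ∈ distTriang T) : killed S Z := by
  refine ⟨f * f, S.mul_mem hf hf, ?_⟩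
  have h0 : g ≫ (f • 𝟙 Z) = 0 := by
    have h1 : g ≫ (f • 𝟙 Z) = (f • 𝟙 X) ≫ g := by
      rw [Linear.smul_comp, Linear.comp_smul, Category.id_comp, Category.comp_id]
    rw [h1]
    exact comp_distTriang_mor_zero₁₂ _ hT
  obtain ⟨b, hb⟩ : ∃ b : X⟦(1 : ℤ)⟧ ⟶ Z, f • 𝟙 Z = h ≫ b :=
    Triangle.yoneda_exact₃ _ hT (f • 𝟙 Z) h0
  have h2 : h ≫ (f • 𝟙 (X⟦(1 : ℤ)⟧)) = 0 := by
    have h3 : h ≫ (f • 𝟙 X)⟦(1 : ℤ)⟧' = 0 := comp_distTriang_mor_zero₃₁ _ hT
    rw [Functor.map_smul, CategoryTheory.Functor.map_id] at h3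
    exact h3
  have h4 : (f * f) • 𝟙 Z = (h ≫ (f • 𝟙 (X⟦(1 : ℤ)⟧))) ≫ b := by
    rw [mul_smul, hb, Linear.comp_smul, Linear.smul_comp, Category.comp_id]
  rw [h4, h2, zero_comp]

variable [IsTriangulated T]

theorem main (U : ObjectProperty T) [U.IsTriangulated] [U.IsClosedUnderIsomorphisms]
    (hK : U ≤ killed S)
    (hU : ∀ (X : T) (f : A), f ∈ S → ∀ (Z : T) (g : X ⟶ Z) (h : Z ⟶ X⟦(1 : ℤ)⟧),
      Triangle.mk (f • 𝟙 X) g h ∈ distTriang T → U Z)
    {E : Type u'} [Category.{v'} E] [Preadditive E] [Linear A E]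
    (Q : T ⥤ E) [Q.Additive] [Q.Linear A] [Q.IsLocalization U.trW] (X Y : T) :
    IsLocalizedModule S (Q.mapLinearMap A : (X ⟶ Y) →ₗ[A] (Q.obj X ⟶ Q.obj Y)) := by
  refine ⟨?_, ?_, ?_⟩
  · rintro ⟨f, hf⟩
    obtain ⟨Z, g, h, hT⟩ := distinguished_cocone_triangle (f • 𝟙 Y)
    have hW : U.trW (f • 𝟙 Y) := ⟨Z, g, h, hT, hU Y f hf Z g h hT⟩
    have hiso : IsIso (Q.map (f • 𝟙 Y)) := Localization.inverts Q U.trW _ hW
    rw [Module.End.isUnit_iff]
    have key : ∀ φ : Q.obj X ⟶ Q.obj Y,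
        (algebraMap A (Module.End A (Q.obj X ⟶ Q.obj Y)) f) φ = φ ≫ Q.map (f • 𝟙 Y) := by
      intro φ
      rw [Module.algebraMap_end_apply, Functor.map_smul, CategoryTheory.Functor.map_id,
        Linear.comp_smul, Category.comp_id]
    constructor
    · intro φ₁ φ₂ h12
      change (algebraMap A (Module.End A (Q.obj X ⟶ Q.obj Y)) f) φ₁ =
        (algebraMap A (Module.End A (Q.obj X ⟶ Q.obj Y)) f) φ₂ at h12
      rw [key, key] at h12
      exact (cancel_mono _).1 h12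
    · intro ψ
      refine ⟨ψ ≫ inv (Q.map (f • 𝟙 Y)), ?_⟩
      change (algebraMap A (Module.End A (Q.obj X ⟶ Q.obj Y)) f) _ = _
      rw [key, Category.assoc, IsIso.inv_hom_id, Category.comp_id]
  · intro φ
    obtain ⟨fr, hφ⟩ := Localization.exists_leftFraction Q U.trW φ
    obtain ⟨Z, p, q, hT, hZ⟩ := (U.trW_iff fr.s).1 fr.hs
    obtain ⟨f, hf, hz⟩ := hK Z hZ
    have h0 : (f • 𝟙 fr.Y') ≫ p = 0 := by
      have : (f • 𝟙 fr.Y') ≫ p = p ≫ (f • 𝟙 Z) := by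
        rw [Linear.smul_comp, Linear.comp_smul, Category.id_comp, Category.comp_id]
      rw [this, hz, comp_zero]
    obtain ⟨a, ha⟩ : ∃ a : fr.Y' ⟶ Y, f • 𝟙 fr.Y' = a ≫ fr.s :=
      Triangle.coyoneda_exact₂ _ hT _ h0
    refine ⟨(fr.f ≫ a, ⟨f, hf⟩), ?_⟩
    have hiso : IsIso (Q.map fr.s) := Localization.inverts Q U.trW _ fr.hs
    have hφ' : φ = Q.map fr.f ≫ inv (Q.map fr.s) := hφ
    have ha' : Q.map a = f • inv (Q.map fr.s) := by
      have h1 : Q.map a ≫ Q.map fr.s = f • 𝟙 _ := by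
        rw [← Q.map_comp, ← ha, Functor.map_smul, CategoryTheory.Functor.map_id]
      rw [← cancel_mono (Q.map fr.s), h1, Linear.smul_comp, IsIso.inv_hom_id]
    change f • φ = Q.map (fr.f ≫ a)
    rw [Q.map_comp, ha', hφ', Linear.comp_smul]
  · intro g₁ g₂ h12
    change Q.map g₁ = Q.map g₂ at h12
    obtain ⟨Z, s, hs, fac⟩ := (MorphismProperty.map_eq_iff_postcomp Q U.trW g₁ g₂).1 h12
    obtain ⟨W, w, h, hT, hW⟩ := (U.trW_iff' s).1 hs
    obtain ⟨f, hf, hz⟩ := hK W hW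
    have h0 : (g₁ - g₂) ≫ s = 0 := by
      rw [Preadditive.sub_comp, fac, sub_self]
    obtain ⟨d, hd⟩ : ∃ d : X ⟶ W, g₁ - g₂ = d ≫ w :=
      Triangle.coyoneda_exact₂ _ hT _ h0
    refine ⟨⟨f, hf⟩, ?_⟩
    change f • g₁ = f • g₂
    have h1 : f • (g₁ - g₂) = (d ≫ (f • 𝟙 W)) ≫ w := by
      rw [hd, Linear.comp_smul, Linear.smul_comp, Category.comp_id]
    rw [hz, comp_zero, zero_comp, smul_sub] at h1
    exact sub_eq_zero.1 h1

end Groth.Agent.Lib.Helper9.TorsLoc
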