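import Mathlib

/-! Helper9: torsor of lifts of filtrations (S16420) -/

universe u v

namespace Groth.Agent.H9.Torsor

open TensorProduct

section basics
variable {R : Type*} [CommRing R] (𝔫 : Ideal R)
variable {M : Type*} [AddCommGroup M] [Module R M] {N : Type*} [AddCommGroup N] [Module R N]

lemma one_tmul_eq_zero_iff (x : M) :
    ((1 : R ⧸ 𝔫) ⊗ₜ[R] x = 0) ↔ x ∈ 𝔫 • (⊤ : Submodule R M) := by
  rw [← (quotTensorEquivQuotSMul M 𝔫).map_eq_zero_iff, quotTensorEquivQuotSMul_mk_one_tmul,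
    Submodule.Quotient.mk_eq_zero]

lemma exists_one_tmul (w : (R ⧸ 𝔫) ⊗[R] M) : ∃ y : M, w = (1 : R ⧸ 𝔫) ⊗ₜ[R] y := by
  obtain ⟨y, hy⟩ := Submodule.Quotient.mk_surjective _ (quotTensorEquivQuotSMul M 𝔫 w)
  refine ⟨y, ?_⟩
  have := congrArg (quotTensorEquivQuotSMul M 𝔫).symm hy
  rw [LinearEquiv.symm_apply_apply] at this
  rw [← this]
  rfl

lemma mem_baseChange_iff (F : Submodule R M) (z : (R ⧸ 𝔫) ⊗[R] M) :
    z ∈ F.baseChange (R ⧸ 𝔫) ↔ ∃ x ∈ F, (1 : R ⧸ 𝔫) ⊗ₜ[R] x = z := by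
  constructor
  · rintro ⟨w, rfl⟩
    obtain ⟨y, rfl⟩ := exists_one_tmul 𝔫 w
    exact ⟨y.1, y.2, by simp⟩
  · rintro ⟨x, hx, rfl⟩
    exact Submodule.tmul_mem_baseChange_of_mem _ hx

lemma map_mem_smul_top (p : M →ₗ[R] N) {x : M} (hx : x ∈ 𝔫 • (⊤ : Submodule R M)) :
    p x ∈ 𝔫 • (⊤ : Submodule R N) := by
  have := Submodule.mem_map_of_mem (f := p) hx
  rw [Submodule.map_smul''] at this
  exact Submodule.smul_mono le_rfl le_top this

lemma map_mem_smul_of_range (p : M →ₗ[R] N) (F : Submodule R N) (hp : ∀ x, p x ∈ F) {x : M}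
    (hx : x ∈ 𝔫 • (⊤ : Submodule R M)) : p x ∈ 𝔫 • F := by
  have := Submodule.mem_map_of_mem (f := p) hx
  rw [Submodule.map_smul''] at this
  refine Submodule.smul_mono le_rfl ?_ this
  rintro _ ⟨y, _, rfl⟩
  exact hp y

lemma exists_retraction (F : Submodule R M) [Module.Projective R (M ⧸ F)] :
    ∃ p : M →ₗ[R] M, (∀ x, p x ∈ F) ∧ (∀ x ∈ F, p x = x) := by
  obtain ⟨s, hs⟩ := Module.projective_lifting_property F.mkQ LinearMap.id
    (Submodule.mkQ_surjective F)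
  have hs' : ∀ z, F.mkQ (s z) = z := fun z => by
    have := LinearMap.congr_fun hs z
    simpa using this
  refine ⟨LinearMap.id - s ∘ₗ F.mkQ, ?_, ?_⟩
  · intro x
    rw [← Submodule.Quotient.mk_eq_zero F]
    have h1 := hs' (Submodule.Quotient.mk x)
    simp only [LinearMap.sub_apply, LinearMap.id_apply, LinearMap.comp_apply,
      Submodule.Quotient.mk_sub]
    rw [Submodule.mkQ_apply] at h1
    rw [Submodule.mkQ_apply, h1, sub_self]
  · intro x hx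
    have : F.mkQ x = 0 := by simpa using hx
    simp [this]

end basics

section main
variable {R : Type*} [CommRing R] {H₁ H H₂ : Type*}
  [AddCommGroup H₁] [Module R H₁] [AddCommGroup H] [Module R H] [AddCommGroup H₂] [Module R H₂]
  (f : H₁ →ₗ[R] H) (g : H →ₗ[R] H₂)

/-- the unipotent automorphism -/
def phi (u : H₂ →ₗ[R] H₁) : H →ₗ[R] H := LinearMap.id + f ∘ₗ u ∘ₗ g

lemma phi_apply (u : H₂ →ₗ[R] H₁) (x : H) : phi f g u x = x + f (u (g x)) := rfl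

variable {f g}

lemma g_phi (hgf : ∀ x, g (f x) = 0) (u : H₂ →ₗ[R] H₁) (x : H) : g (phi f g u x) = g x := by
  rw [phi_apply, map_add, hgf, add_zero]

lemma phi_of_ker (u : H₂ →ₗ[R] H₁) {x : H} (hx : g x = 0) : phi f g u x = x := by
  rw [phi_apply, hx, map_zero, map_zero, add_zero]

lemma phi_neg_phi (hgf : ∀ x, g (f x) = 0) (u : H₂ →ₗ[R] H₁) (x : H) :
    phi f g (-u) (phi f g u x) = x := by
  rw [phi_apply, g_phi hgf, phi_apply]
  simp

/-- the linear equivalence -/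
def phiEquiv (hgf : ∀ x, g (f x) = 0) (u : H₂ →ₗ[R] H₁) : H ≃ₗ[R] H :=
  LinearEquiv.ofLinearMap (phi f g u) (phi f g (-u))
    (by ext x; have := phi_neg_phi hgf (-u) x; rw [neg_neg] at this; simpa using this)
    (by ext x; simpa using phi_neg_phi hgf u x)

lemma isCompl_map (e : H ≃ₗ[R] H) {F C : Submodule R H} (h : IsCompl F C) :
    IsCompl (F.map (e : H →ₗ[R] H)) (C.map (e : H →ₗ[R] H)) := by
  rw [isCompl_iff, disjoint_iff, codisjoint_iff]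
  constructor
  · rw [← Submodule.map_inf _ e.injective, h.inf_eq_bot, Submodule.map_bot]
  · rw [← Submodule.map_sup, h.sup_eq_top, Submodule.map_top, LinearEquiv.range]

variable (𝔫 : Ideal R)

theorem part1 (hgf : ∀ x, g (f x) = 0) (hfg : Function.Exact f g)
    (F₁ : Submodule R H₁) (F₂ : Submodule R H₂)
    (Fb : Submodule (R ⧸ 𝔫) ((R ⧸ 𝔫) ⊗[R] H)) (F : Submodule R H)
    (hF : (∃ C : Submodule R H, IsCompl (F) C) ∧
      (F) ⊓ LinearMap.range f = Submodule.map f F₁ ∧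
      Submodule.baseChange (R ⧸ 𝔫) (F) = Fb ∧ Submodule.map g (F) = F₂)
    (u : H₂ →ₗ[R] H₁) (hu : ∀ y : H₂, u y ∈ 𝔫 • (⊤ : Submodule R H₁)) :
    (∃ C : Submodule R H, IsCompl (Submodule.map (phi f g u) F) C) ∧
      (Submodule.map (phi f g u) F) ⊓ LinearMap.range f = Submodule.map f F₁ ∧
      Submodule.baseChange (R ⧸ 𝔫) (Submodule.map (phi f g u) F) = Fb ∧
      Submodule.map g (Submodule.map (phi f g u) F) = F₂ := by
  obtain ⟨⟨C, hC⟩, hF1, hF2, hF3⟩ := hF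
  refine ⟨?_, ?_, ?_, ?_⟩
  · exact ⟨C.map (phi f g u), isCompl_map (phiEquiv hgf u) hC⟩
  · rw [← hF1]
    ext x
    simp only [Submodule.mem_inf, Submodule.mem_map, LinearMap.mem_range]
    constructor
    · rintro ⟨⟨a, ha, rfl⟩, ⟨h, hh⟩⟩
      have hga : g a = 0 := by
        rw [← g_phi hgf u a, ← hh, hgf]
      rw [phi_of_ker u hga] at hh ⊢
      exact ⟨ha, h, hh⟩
    · rintro ⟨hx, ⟨h, rfl⟩⟩
      exact ⟨⟨f h, hx, phi_of_ker u (hgf h)⟩, h, rfl⟩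
  · rw [← hF2]
    ext z
    rw [mem_baseChange_iff, mem_baseChange_iff]
    have key : ∀ x : H, (1 : R ⧸ 𝔫) ⊗ₜ[R] (phi f g u x) = (1 : R ⧸ 𝔫) ⊗ₜ[R] x := by
      intro x
      rw [phi_apply, TensorProduct.tmul_add]
      have : (1 : R ⧸ 𝔫) ⊗ₜ[R] (f (u (g x))) = 0 :=
        (one_tmul_eq_zero_iff 𝔫 _).mpr (map_mem_smul_top 𝔫 f (hu _))
      rw [this, add_zero]
    constructor
    · rintro ⟨_, ⟨a, ha, rfl⟩, rfl⟩
      exact ⟨a, ha, (key a).symm⟩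
    · rintro ⟨a, ha, rfl⟩
      exact ⟨phi f g u a, ⟨a, ha, rfl⟩, key a⟩
  · rw [← hF3]
    ext y
    simp only [Submodule.mem_map]
    constructor
    · rintro ⟨_, ⟨a, ha, rfl⟩, rfl⟩
      exact ⟨a, ha, (g_phi hgf u a).symm⟩
    · rintro ⟨a, ha, rfl⟩
      exact ⟨phi f g u a, ⟨a, ha, rfl⟩, g_phi hgf u a⟩

theorem part2 (hgf : ∀ x, g (f x) = 0) (hf : Function.Injective f)
    (F₁ : Submodule R H₁) (F₂ : Submodule R H₂) [Module.Projective R (H₁ ⧸ F₁)]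
    (F : Submodule R H)
    (hF1 : (F) ⊓ LinearMap.range f = Submodule.map f F₁) (hF3 : Submodule.map g (F) = F₂)
    (u : H₂ →ₗ[R] H₁) (hu : ∀ y : H₂, u y ∈ 𝔫 • (⊤ : Submodule R H₁)) :
    (Submodule.map (phi f g u) F = F ↔ ∀ y ∈ F₂, u y ∈ 𝔫 • F₁) := by
  have hF₁F : ∀ h ∈ F₁, f h ∈ F := by
    intro h hh
    have : f h ∈ Submodule.map f F₁ := Submodule.mem_map_of_mem hh
    rw [← hF1] at this
    exact this.1
  constructor
  · intro hEq y hy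
    rw [← hF3] at hy
    obtain ⟨x, hx, rfl⟩ := hy
    have h1 : phi f g u x ∈ F := by rw [← hEq]; exact Submodule.mem_map_of_mem hx
    have h2 : f (u (g x)) ∈ F := by
      have : f (u (g x)) = phi f g u x - x := by rw [phi_apply]; abel
      rw [this]; exact F.sub_mem h1 hx
    have h3 : f (u (g x)) ∈ Submodule.map f F₁ := by
      rw [← hF1]; exact ⟨h2, ⟨_, rfl⟩⟩
    obtain ⟨h₁, hh₁, hh₁'⟩ := h3
    have h4 : u (g x) ∈ F₁ := by rw [← hf hh₁']; exact hh₁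
    obtain ⟨p, hp1, hp2⟩ := exists_retraction F₁
    rw [← hp2 _ h4]
    exact map_mem_smul_of_range 𝔫 p F₁ hp1 (hu _)
  · intro hAll
    have hsub : ∀ (v : H₂ →ₗ[R] H₁), (∀ y ∈ F₂, v y ∈ 𝔫 • F₁) → ∀ x ∈ F, phi f g v x ∈ F := by
      intro v hv x hx
      rw [phi_apply]
      refine F.add_mem hx (hF₁F _ ?_)
      have : g x ∈ F₂ := by rw [← hF3]; exact Submodule.mem_map_of_mem hx
      exact Submodule.smul_le_right (hv _ this)
    apply le_antisymm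
    · rintro _ ⟨x, hx, rfl⟩
      exact hsub u hAll x hx
    · intro x hx
      refine ⟨phi f g (-u) x, hsub (-u) ?_ x hx, ?_⟩
      · intro y hy
        rw [LinearMap.neg_apply]
        exact Submodule.neg_mem _ (hAll y hy)
      · have := phi_neg_phi hgf (-u) x
        rwa [neg_neg] at this

theorem part3 (hf : Function.Injective f) (hg : Function.Surjective g)
    (hfg : Function.Exact f g) [Module.Projective R H₂]
    (F₁ : Submodule R H₁) (F₂ : Submodule R H₂) [Module.Projective R (H₁ ⧸ F₁)]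
    [Module.Projective R (H₂ ⧸ F₂)]
    (Fb : Submodule (R ⧸ 𝔫) ((R ⧸ 𝔫) ⊗[R] H))
    (h1 : Fb ⊓ LinearMap.range (f.baseChange (R ⧸ 𝔫)) =
      Submodule.map (f.baseChange (R ⧸ 𝔫)) (F₁.baseChange (R ⧸ 𝔫)))
    (F F' : Submodule R H)
    (hF : (F) ⊓ LinearMap.range f = Submodule.map f F₁ ∧
      Submodule.baseChange (R ⧸ 𝔫) (F) = Fb ∧ Submodule.map g (F) = F₂)
    (hF' : (F') ⊓ LinearMap.range f = Submodule.map f F₁ ∧
      Submodule.baseChange (R ⧸ 𝔫) (F') = Fb ∧ Submodule.map g (F') = F₂) :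
    ∃ u : H₂ →ₗ[R] H₁, (∀ y : H₂, u y ∈ 𝔫 • (⊤ : Submodule R H₁)) ∧
      F' = Submodule.map (phi f g u) F := by
  have hgf : ∀ x, g (f x) = 0 := fun x => (hfg (f x)).mpr ⟨x, rfl⟩
  obtain ⟨hF1, hF2, hF3⟩ := hF
  obtain ⟨hF'1, hF'2, hF'3⟩ := hF'
  -- retractions
  obtain ⟨p₁, hp₁a, hp₁b⟩ := exists_retraction F₁
  obtain ⟨p₂, hp₂a, hp₂b⟩ := exists_retraction F₂
  -- splitting of f
  obtain ⟨σ, hσ⟩ := Module.projective_lifting_property g LinearMap.id hg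
  have tf := (Function.Exact.split_tfae hfg hf hg).out 0 1
  obtain ⟨ρ, hρ⟩ := tf.mp ⟨σ, hσ⟩
  have hρ' : ∀ h, ρ (f h) = h := fun h => by
    have := LinearMap.congr_fun hρ h
    simpa using this
  -- sections into F and F'
  have hsec : ∀ (G : Submodule R H), Submodule.map g G = F₂ →
      ∃ s : H₂ →ₗ[R] H, (∀ y, s y ∈ G) ∧ (∀ y, g (s y) = p₂ y) := by
    intro G hG
    let gG : G →ₗ[R] F₂ := (g ∘ₗ G.subtype).codRestrict F₂ (fun x => by
      rw [← hG]; exact Submodule.mem_map_of_mem x.2)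
    have hgG : Function.Surjective gG := by
      rintro ⟨y, hy⟩
      rw [← hG] at hy
      obtain ⟨x, hx, rfl⟩ := hy
      exact ⟨⟨x, hx⟩, rfl⟩
    let p₂' : H₂ →ₗ[R] F₂ := p₂.codRestrict F₂ hp₂a
    obtain ⟨t, ht⟩ := Module.projective_lifting_property gG p₂' hgG
    refine ⟨G.subtype ∘ₗ t, fun y => (t y).2, fun y => ?_⟩
    have := congrArg (fun z : F₂ => (z : H₂)) (LinearMap.congr_fun ht y)
    exact this
  obtain ⟨s, hs1, hs2⟩ := hsec F hF3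
  obtain ⟨s', hs'1, hs'2⟩ := hsec F' hF'3
  -- the difference
  have hD : ∀ y, ∃ h, f h = s' y - s y := by
    intro y
    have : g (s' y - s y) = 0 := by rw [map_sub, hs2, hs'2, sub_self]
    exact (hfg _).mp this
  let w : H₂ →ₗ[R] H₁ := ρ ∘ₗ (s' - s)
  have hw : ∀ y, f (w y) = s' y - s y := by
    intro y
    obtain ⟨h, hh⟩ := hD y
    change f (ρ ((s' - s) y)) = _
    rw [LinearMap.sub_apply, ← hh, hρ']
  -- key claim: w y ∈ F₁ + 𝔫 H₁
  have hwmem : ∀ y, ∃ a ∈ F₁, w y - a ∈ 𝔫 • (⊤ : Submodule R H₁) := by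
    intro y
    have hA : (1 : R ⧸ 𝔫) ⊗ₜ[R] (f (w y)) ∈ Fb := by
      rw [hw, TensorProduct.tmul_sub]
      refine Fb.sub_mem ?_ ?_
      · rw [← hF'2]; exact Submodule.tmul_mem_baseChange_of_mem _ (hs'1 y)
      · rw [← hF2]; exact Submodule.tmul_mem_baseChange_of_mem _ (hs1 y)
    have hB : (1 : R ⧸ 𝔫) ⊗ₜ[R] (f (w y)) ∈ LinearMap.range (f.baseChange (R ⧸ 𝔫)) :=
      ⟨(1 : R ⧸ 𝔫) ⊗ₜ[R] (w y), by simp⟩
    have hC : (1 : R ⧸ 𝔫) ⊗ₜ[R] (f (w y)) ∈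
        Submodule.map (f.baseChange (R ⧸ 𝔫)) (F₁.baseChange (R ⧸ 𝔫)) := by
      rw [← h1]; exact ⟨hA, hB⟩
    obtain ⟨z, hz, hz'⟩ := hC
    obtain ⟨a, ha, rfl⟩ := (mem_baseChange_iff 𝔫 F₁ z).mp hz
    refine ⟨a, ha, ?_⟩
    rw [LinearMap.baseChange_tmul] at hz'
    have h0 : (1 : R ⧸ 𝔫) ⊗ₜ[R] (f (w y - a)) = 0 := by
      rw [map_sub, TensorProduct.tmul_sub, hz', sub_self]
    have h0' := (one_tmul_eq_zero_iff 𝔫 _).mp h0
    have := map_mem_smul_top 𝔫 ρ h0'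
    rwa [hρ'] at this
  -- define u
  let u : H₂ →ₗ[R] H₁ := (LinearMap.id - p₁) ∘ₗ w ∘ₗ p₂
  have hu_apply : ∀ y, u y = w (p₂ y) - p₁ (w (p₂ y)) := fun y => rfl
  have hu : ∀ y, u y ∈ 𝔫 • (⊤ : Submodule R H₁) := by
    intro y
    obtain ⟨a, ha, hmem⟩ := hwmem (p₂ y)
    have : u y = (LinearMap.id - p₁ : H₁ →ₗ[R] H₁) (w (p₂ y) - a) := by
      rw [hu_apply]
      simp only [LinearMap.sub_apply, LinearMap.id_apply, map_sub]
      rw [hp₁b a ha]; abel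
    rw [this]
    exact map_mem_smul_top 𝔫 _ hmem
  have hF₁F : ∀ (G : Submodule R H), G ⊓ LinearMap.range f = Submodule.map f F₁ →
      ∀ h ∈ F₁, f h ∈ G := by
    intro G hG h hh
    have : f h ∈ Submodule.map f F₁ := Submodule.mem_map_of_mem hh
    rw [← hG] at this
    exact this.1
  have hker : ∀ (G G' : Submodule R H), G ⊓ LinearMap.range f = Submodule.map f F₁ →
      G' ⊓ LinearMap.range f = Submodule.map f F₁ → ∀ x ∈ G, g x = 0 → x ∈ G' := by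
    intro G G' hG hG' x hx hgx
    have : x ∈ G ⊓ LinearMap.range f := ⟨hx, (hfg x).mp hgx⟩
    rw [hG, ← hG'] at this
    exact this.1
  refine ⟨u, hu, ?_⟩
  -- formula for phi on F
  have hphi : ∀ y ∈ F₂, ∀ x, g x = y → phi f g u x = (x - s y) + s' y - f (p₁ (w y)) := by
    intro y hy x hx
    rw [phi_apply, hx, hu_apply, hp₂b y hy, map_sub, hw]
    abel
  apply le_antisymm
  · intro x' hx'
    have hy : g x' ∈ F₂ := by rw [← hF'3]; exact Submodule.mem_map_of_mem hx'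
    set y := g x' with hydef
    -- e := x' - phi (s y)
    have hgs : g (s y) = y := by rw [hs2, hp₂b y hy]
    have hgs' : g (s' y) = y := by rw [hs'2, hp₂b y hy]
    have hφs : phi f g u (s y) = s' y - f (p₁ (w y)) := by
      rw [hphi y hy (s y) hgs]; abel
    have he1 : x' - s' y ∈ F := by
      apply hker F' F hF'1 hF1
      · exact F'.sub_mem hx' (hs'1 y)
      · rw [map_sub, hgs', sub_self]
    have he2 : f (p₁ (w y)) ∈ F := hF₁F F hF1 _ (hp₁a _)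
    have he : (x' - s' y) + f (p₁ (w y)) ∈ F := F.add_mem he1 he2
    have hge : g ((x' - s' y) + f (p₁ (w y))) = 0 := by
      rw [map_add, map_sub, hgs', hgf, sub_self, add_zero]
    refine ⟨s y + ((x' - s' y) + f (p₁ (w y))), F.add_mem (hs1 y) he, ?_⟩
    rw [map_add, phi_of_ker u hge, hφs]
    abel
  · rintro _ ⟨x, hx, rfl⟩
    have hy : g x ∈ F₂ := by rw [← hF3]; exact Submodule.mem_map_of_mem hx
    rw [hphi (g x) hy x rfl]
    have hgs : g (s (g x)) = g x := by rw [hs2, hp₂b _ hy]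
    have h1' : x - s (g x) ∈ F' := by
      apply hker F F' hF1 hF'1
      · exact F.sub_mem hx (hs1 _)
      · rw [map_sub, hgs, sub_self]
    refine F'.sub_mem (F'.add_mem h1' (hs'1 _)) (hF₁F F' hF'1 _ (hp₁a _))

end main

theorem main
    (R : Type u) [CommRing R] [IsArtinianRing R] [IsLocalRing R]
    (H₁ : Type v) (H : Type v) (H₂ : Type v)
    [AddCommGroup H₁] [Module R H₁] [AddCommGroup H] [Module R H] [AddCommGroup H₂] [Module R H₂]
    [Module.Free R H₁] [Module.Finite R H₁] [Module.Free R H] [Module.Finite R H]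
    [Module.Free R H₂] [Module.Finite R H₂]
    (f : H₁ →ₗ[R] H) (g : H →ₗ[R] H₂) (hf : Function.Injective f) (hg : Function.Surjective g)
    (hfg : Function.Exact f g)
    (F₁ : Submodule R H₁) (F₂ : Submodule R H₂) [Module.Free R (H₁ ⧸ F₁)] [Module.Free R (H₂ ⧸ F₂)]
    (𝔫 : Ideal R) (hn : 𝔫 * 𝔫 = ⊥)
    (Fb : Submodule (R ⧸ 𝔫) ((R ⧸ 𝔫) ⊗[R] H))
    [Module.Free (R ⧸ 𝔫) (((R ⧸ 𝔫) ⊗[R] H) ⧸ Fb)]
    (h1 : Fb ⊓ LinearMap.range (f.baseChange (R ⧸ 𝔫)) =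
      Submodule.map (f.baseChange (R ⧸ 𝔫)) (F₁.baseChange (R ⧸ 𝔫)))
    (h2 : Submodule.map (g.baseChange (R ⧸ 𝔫)) Fb = F₂.baseChange (R ⧸ 𝔫))
    (F F' : Submodule R H)
    (hF : (∃ C : Submodule R H, IsCompl (F) C) ∧
      (F) ⊓ LinearMap.range f = Submodule.map f F₁ ∧
      Submodule.baseChange (R ⧸ 𝔫) (F) = Fb ∧ Submodule.map g (F) = F₂)
    (hF' : (∃ C : Submodule R H, IsCompl (F') C) ∧
      (F') ⊓ LinearMap.range f = Submodule.map f F₁ ∧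
      Submodule.baseChange (R ⧸ 𝔫) (F') = Fb ∧ Submodule.map g (F') = F₂) :
    (∀ u : H₂ →ₗ[R] H₁, (∀ y : H₂, u y ∈ 𝔫 • (⊤ : Submodule R H₁)) →
      (∃ C : Submodule R H, IsCompl (Submodule.map (LinearMap.id + f ∘ₗ u ∘ₗ g) F) C) ∧
      (Submodule.map (LinearMap.id + f ∘ₗ u ∘ₗ g) F) ⊓ LinearMap.range f = Submodule.map f F₁ ∧
      Submodule.baseChange (R ⧸ 𝔫) (Submodule.map (LinearMap.id + f ∘ₗ u ∘ₗ g) F) = Fb ∧ Submodule.map g (Submodule.map (LinearMap.id + f ∘ₗ u ∘ₗ g) F) = F₂) ∧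
    (∀ u : H₂ →ₗ[R] H₁, (∀ y : H₂, u y ∈ 𝔫 • (⊤ : Submodule R H₁)) →
      (Submodule.map (LinearMap.id + f ∘ₗ u ∘ₗ g) F = F ↔ ∀ y ∈ F₂, u y ∈ 𝔫 • F₁)) ∧
    (∃ u : H₂ →ₗ[R] H₁, (∀ y : H₂, u y ∈ 𝔫 • (⊤ : Submodule R H₁)) ∧
      F' = Submodule.map (LinearMap.id + f ∘ₗ u ∘ₗ g) F) := by
  have hgf : ∀ x, g (f x) = 0 := fun x => (hfg (f x)).mpr ⟨x, rfl⟩
  refine ⟨fun u hu => part1 𝔫 hgf hfg F₁ F₂ Fb F hF u hu,
    fun u hu => part2 𝔫 hgf hf F₁ F₂ F hF.2.1 hF.2.2.2 u hu,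
    part3 𝔫 hf hg hfg F₁ F₂ Fb h1 F F' hF.2 hF'.2⟩

end Groth.Agent.H9.Torsor
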