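import Mathlib

/-! Helper9: total ring of fractions as product of localizations at minimal primes -/

namespace Groth.Agent.H9.TotFrac

variable {R : Type*} [CommRing R]

/-- an element of a minimal prime has a power killed in the localization -/
theorem exists_pow_map_eq_zero (q : Ideal R) [q.IsPrime] (hq : q ∈ minimalPrimes R) {x : R} (hx : x ∈ q) :
    ∃ N : ℕ, algebraMap R (Localization.AtPrime q) (x ^ N) = 0 := by
  have h := IsLocalization.AtPrime.radical_map_of_mem_minimalPrimes (A := Localization.AtPrime q) q ⊥ hq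
  have hmem : algebraMap R (Localization.AtPrime q) x ∈ q.map (algebraMap R (Localization.AtPrime q)) :=
    Ideal.mem_map_of_mem _ hx
  rw [← h, Ideal.map_bot] at hmem
  obtain ⟨N, hN⟩ := hmem
  refine ⟨N, ?_⟩
  rw [map_pow]
  simpa using hN

theorem main {ι : Type} [Fintype ι] (q : ι → Ideal R) [∀ i, (q i).IsPrime]
    (hinj : Function.Injective q) (hmin : ∀ P : Ideal R, P ∈ minimalPrimes R ↔ P ∈ Set.range q)
    (hzd : ∀ x : R, x ∈ nonZeroDivisors R ↔ ∀ i, x ∉ q i) :
    IsLocalization (nonZeroDivisors R) (∀ i, Localization.AtPrime (q i)) := by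
  classical
  have hqmin : ∀ i, q i ∈ minimalPrimes R := fun i => (hmin _).mpr ⟨i, rfl⟩
  -- separating elements
  have hb : ∀ i j : ι, j ≠ i → ∃ b : R, b ∉ q i ∧ algebraMap R (Localization.AtPrime (q j)) b = 0 := by
    intro i j hji
    have hnle : ¬ q j ≤ q i := by
      intro hle
      have : q i ≤ q j := (hqmin i).2 ⟨inferInstance, bot_le⟩ hle
      exact hji (hinj (le_antisymm hle this))
    obtain ⟨a, haj, hai⟩ := Set.not_subset.mp hnle
    obtain ⟨N, hN⟩ := exists_pow_map_eq_zero (q j) (hqmin j) haj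
    exact ⟨a ^ N, fun h => hai (Ideal.IsPrime.mem_of_pow_mem inferInstance _ h), hN⟩
  choose! b hb1 hb2 using hb
  let e : ι → R := fun i => ∏ j ∈ Finset.univ.erase i, b i j
  have he1 : ∀ i, e i ∉ q i := by
    intro i h
    obtain ⟨j, hj, hjm⟩ := (Ideal.IsPrime.prod_mem_iff (hp := (inferInstance : (q i).IsPrime))).mp h
    exact hb1 i j (Finset.ne_of_mem_erase hj) hjm
  have he2 : ∀ i j, j ≠ i → algebraMap R (Localization.AtPrime (q j)) (e i) = 0 := by
    intro i j hji
    simp only [e, map_prod]
    exact Finset.prod_eq_zero (Finset.mem_erase.mpr ⟨hji, Finset.mem_univ _⟩) (hb2 i j hji)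
  have he3 : ∀ i j, j ≠ i → e i ∈ q j := by
    intro i j hji
    by_contra hmem
    have hu : IsUnit (algebraMap R (Localization.AtPrime (q j)) (e i)) :=
      IsLocalization.map_units (Localization.AtPrime (q j)) (⟨e i, hmem⟩ : (q j).primeCompl)
    rw [he2 i j hji] at hu
    exact not_isUnit_zero hu
  -- combination lemma
  have hcomb : ∀ t : ι → R, (∀ i, t i ∉ q i) → (∑ i, e i * t i) ∈ nonZeroDivisors R := by
    intro t ht
    rw [hzd]
    intro j hmem
    rw [← Finset.add_sum_erase _ _ (Finset.mem_univ j)] at hmem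
    have h2 : ∑ i ∈ Finset.univ.erase j, e i * t i ∈ q j := by
      apply Ideal.sum_mem
      intro i hi
      exact Ideal.mul_mem_right _ _ (he3 i j (Finset.ne_of_mem_erase hi).symm)
    have h3 : e j * t j ∈ q j := (Ideal.add_mem_iff_left _ h2).mp hmem
    rcases Ideal.IsPrime.mem_or_mem inferInstance h3 with h | h
    · exact he1 j h
    · exact ht j h
  have hsum : ∀ (t : ι → R) (j : ι), algebraMap R (Localization.AtPrime (q j)) (∑ i, e i * t i) =
      algebraMap R (Localization.AtPrime (q j)) (e j) * algebraMap R (Localization.AtPrime (q j)) (t j) := by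
    intro t j
    rw [map_sum, Finset.sum_eq_single j]
    · rw [map_mul]
    · intro i _ hij
      rw [map_mul, he2 i j hij.symm, zero_mul]
    · intro h; exact absurd (Finset.mem_univ _) h
  refine ⟨?_, ?_, ?_⟩
  · rintro ⟨y, hy⟩
    rw [Pi.isUnit_iff]
    intro i
    have hyi : y ∉ q i := (hzd y).mp hy i
    exact IsLocalization.map_units (Localization.AtPrime (q i)) (⟨y, hyi⟩ : (q i).primeCompl)
  · intro z
    have hz : ∀ i, ∃ x : R × (q i).primeCompl, z i * algebraMap R _ (x.2 : R) = algebraMap R _ x.1 :=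
      fun i => IsLocalization.surj (q i).primeCompl (z i)
    choose x hx using hz
    refine ⟨(∑ i, e i * (x i).1, ⟨∑ i, e i * ((x i).2 : R), hcomb _ (fun i => (x i).2.2)⟩), ?_⟩
    funext j
    show z j * algebraMap R (Localization.AtPrime (q j)) (∑ i, e i * ((x i).2 : R)) =
      algebraMap R (Localization.AtPrime (q j)) (∑ i, e i * (x i).1)
    rw [hsum, hsum, ← hx j]
    ring
  · intro x y hxy
    have hc : ∀ i, ∃ c : (q i).primeCompl, (c : R) * x = (c : R) * y := by
      intro i
      have := congrFun hxy i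
      exact IsLocalization.exists_of_eq (M := (q i).primeCompl) (S := Localization.AtPrime (q i)) this
    choose c hc using hc
    refine ⟨⟨∑ i, e i * (c i : R), hcomb _ (fun i => (c i).2)⟩, ?_⟩
    show (∑ i, e i * (c i : R)) * x = (∑ i, e i * (c i : R)) * y
    rw [Finset.sum_mul, Finset.sum_mul]
    apply Finset.sum_congr rfl
    intro i _
    rw [mul_assoc, mul_assoc, hc i]

end Groth.Agent.H9.TotFrac
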