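import Mathlib
import Groth.Agent.Lib.Helper9.Misc.SubAlg3

/-! Helper9: triple étale crimps of splitting type (m,n), n ≤ 2m (S13886). -/

set_option autoImplicit false
set_option linter.unusedSectionVars false
set_option linter.unusedVariables false

namespace Groth.Agent.H9.TriCrimp

open PowerSeries

variable {k : Type*} [Field k]

theorem third : ∀ i j : Fin 3, i ≠ j →
    ∃ l, l ≠ i ∧ l ≠ j ∧ ∀ x : Fin 3, x = i ∨ x = j ∨ x = l := by decide

theorem mem_T (a : PowerSeries k) (w : Fin 3 → PowerSeries k) :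
    w ∈ Ideal.span {a} • (⊤ : Submodule (PowerSeries k) (Fin 3 → PowerSeries k)) ↔
      ∃ u : Fin 3 → PowerSeries k, w = a • u := by
  rw [Submodule.ideal_span_singleton_smul, Submodule.mem_smul_pointwise_iff_exists]
  constructor
  · rintro ⟨u, -, rfl⟩; exact ⟨u, rfl⟩
  · rintro ⟨u, rfl⟩; exact ⟨u, Submodule.mem_top, rfl⟩

theorem exists_ne (f : Fin 3 → PowerSeries k)
    (hf : f ∉ Submodule.span (PowerSeries k) {(1 : (Fin 3 → PowerSeries k))} ⊔
      Ideal.span {(X : PowerSeries k)} •
        (⊤ : Submodule (PowerSeries k) (Fin 3 → PowerSeries k))) :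
    ∃ i j : Fin 3, i ≠ j ∧ constantCoeff (f i) ≠ constantCoeff (f j) := by
  by_contra hne
  push Not at hne
  apply hf
  have hc : ∀ i, constantCoeff (f i) = constantCoeff (f 0) := by
    intro i
    by_cases hi : i = 0
    · rw [hi]
    · exact hne i 0 hi
  have hdvd : ∀ i, ∃ g, f i - C (constantCoeff (f 0)) = X * g := by
    intro i
    have : (X : PowerSeries k) ∣ f i - C (constantCoeff (f 0)) := by
      rw [X_dvd_iff]
      simp [hc i]
    exact this
  choose g hg using hdvd
  have : f = C (constantCoeff (f 0)) • (1 : Fin 3 → PowerSeries k) + (X : PowerSeries k) • g := by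
    funext i
    simp only [Pi.add_apply, Pi.smul_apply, Pi.one_apply, smul_eq_mul, mul_one]
    rw [← hg i]; ring
  rw [this]
  exact Submodule.add_mem_sup (Submodule.smul_mem _ _ (Submodule.subset_span rfl))
    ((mem_T _ _).2 ⟨g, rfl⟩)

theorem main (m n : ℕ) (hmn : m ≤ n) (hn : n ≤ 2 * m)
    (f : (Fin 3 → PowerSeries k))
    (hf : f ∉ Submodule.span (PowerSeries k) {(1 : (Fin 3 → PowerSeries k))} ⊔
      Ideal.span {(X : PowerSeries k)} •
        (⊤ : Submodule (PowerSeries k) (Fin 3 → PowerSeries k)))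
    (S : Submodule (PowerSeries k) (Fin 3 → PowerSeries k))
    (hS : S = Submodule.span (PowerSeries k)
        {(1 : (Fin 3 → PowerSeries k)), ((X : PowerSeries k) ^ m) • f} ⊔
        Ideal.span {(X : PowerSeries k) ^ n} •
          (⊤ : Submodule (PowerSeries k) (Fin 3 → PowerSeries k))) :
    (∀ x ∈ S, ∀ y ∈ S, x * y ∈ S) ∧
    Nonempty (((Fin 3 → PowerSeries k) ⧸ S) ≃ₗ[PowerSeries k]
      ((PowerSeries k ⧸ Ideal.span {(X : PowerSeries k) ^ m}) ×
        (PowerSeries k ⧸ Ideal.span {(X : PowerSeries k) ^ n}))) := by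
  have hTS : Ideal.span {(X : PowerSeries k) ^ n} •
      (⊤ : Submodule (PowerSeries k) (Fin 3 → PowerSeries k)) ≤ S := by
    rw [hS]; exact le_sup_right
  refine ⟨?_, ?_⟩
  · rw [SubAlg3.main m n f S hS]
    apply hTS
    rw [mem_T]
    refine ⟨(X : PowerSeries k) ^ (2 * m - n) • (f * f), ?_⟩
    rw [smul_smul, ← pow_add]
    congr 2
    omega
  · obtain ⟨i, j, hij, hc⟩ := exists_ne f hf
    obtain ⟨l, hli, hlj, hall⟩ := third i j hij
    have hu : IsUnit (f i - f j) := by
      rw [isUnit_iff_constantCoeff, map_sub, isUnit_iff_ne_zero]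
      exact sub_ne_zero.2 hc
    obtain ⟨v, huv⟩ := hu.exists_right_inv
    let β : (Fin 3 → PowerSeries k) →ₗ[PowerSeries k] PowerSeries k :=
      v • ((LinearMap.proj i : (Fin 3 → PowerSeries k) →ₗ[PowerSeries k] PowerSeries k) -
        (LinearMap.proj j : (Fin 3 → PowerSeries k) →ₗ[PowerSeries k] PowerSeries k))
    let γ : (Fin 3 → PowerSeries k) →ₗ[PowerSeries k] PowerSeries k :=
      (LinearMap.proj l : (Fin 3 → PowerSeries k) →ₗ[PowerSeries k] PowerSeries k) -
        (LinearMap.proj i : (Fin 3 → PowerSeries k) →ₗ[PowerSeries k] PowerSeries k) -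
        (f l - f i) • β
    have hβ : ∀ x, β x = v * (x i - x j) := fun x => rfl
    have hγ : ∀ x, γ x = x l - x i - (f l - f i) * (v * (x i - x j)) := fun x => rfl
    let ψ : (Fin 3 → PowerSeries k) →ₗ[PowerSeries k]
        ((PowerSeries k ⧸ Ideal.span {(X : PowerSeries k) ^ m}) ×
        (PowerSeries k ⧸ Ideal.span {(X : PowerSeries k) ^ n})) :=
      LinearMap.prod ((Submodule.mkQ (Ideal.span {(X : PowerSeries k) ^ m})).comp β)
        ((Submodule.mkQ (Ideal.span {(X : PowerSeries k) ^ n})).comp γ)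
    have hψa : ∀ x, ψ x = (Submodule.mkQ (Ideal.span {(X : PowerSeries k) ^ m}) (β x),
        Submodule.mkQ (Ideal.span {(X : PowerSeries k) ^ n}) (γ x)) := fun x => rfl
    have hψ : ∀ x, x ∈ LinearMap.ker ψ ↔
        (X : PowerSeries k) ^ m ∣ β x ∧ (X : PowerSeries k) ^ n ∣ γ x := by
      intro x
      rw [LinearMap.mem_ker, hψa, Prod.mk_eq_zero, Submodule.mkQ_apply, Submodule.mkQ_apply,
        Submodule.Quotient.mk_eq_zero, Submodule.Quotient.mk_eq_zero,
        Ideal.mem_span_singleton, Ideal.mem_span_singleton]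
    have hker : LinearMap.ker ψ = S := by
      apply le_antisymm
      · intro x hx
        rw [hψ] at hx
        obtain ⟨⟨b, hb⟩, ⟨c, hc'⟩⟩ := hx
        rw [hβ] at hb
        rw [hγ] at hc'
        have hx : x = (x i - b * X ^ m * f i) • (1 : Fin 3 → PowerSeries k) +
            b • ((X : PowerSeries k) ^ m • f) + (X : PowerSeries k) ^ n • Pi.single l c := by
          funext z
          simp only [Pi.add_apply, Pi.smul_apply, Pi.one_apply, smul_eq_mul, mul_one]
          rcases hall z with h | h | h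
          · rw [h, Pi.single_eq_of_ne hli.symm]; ring
          · rw [h, Pi.single_eq_of_ne hlj.symm]
            linear_combination (-(f i - f j)) * hb + (x i - x j) * huv
          · rw [h, Pi.single_eq_same]
            linear_combination hc' + (f l - f i) * hb
        rw [hx, hS]
        exact Submodule.add_mem_sup
          (Submodule.add_mem _ (Submodule.smul_mem _ _ (Submodule.subset_span (by simp)))
            (Submodule.smul_mem _ _ (Submodule.subset_span (by simp))))
          ((mem_T _ _).2 ⟨_, rfl⟩)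
      · rw [hS]
        refine sup_le (Submodule.span_le.2 ?_) ?_
        · rintro x (rfl | rfl)
          · rw [SetLike.mem_coe, hψ, hβ, hγ]
            simp
          · rw [SetLike.mem_coe, hψ, hβ, hγ]
            simp only [Pi.smul_apply, smul_eq_mul]
            refine ⟨⟨1, ?_⟩, ⟨0, ?_⟩⟩
            · linear_combination (X ^ m) * huv
            · linear_combination (-(X ^ m * (f l - f i))) * huv
        · intro w hw
          obtain ⟨u', rfl⟩ := (mem_T _ _).1 hw
          rw [hψ, hβ, hγ]
          simp only [Pi.smul_apply, smul_eq_mul]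
          exact ⟨(pow_dvd_pow _ hmn).trans ⟨v * (u' i - u' j), by ring⟩,
            ⟨u' l - u' i - (f l - f i) * (v * (u' i - u' j)), by ring⟩⟩
    have hsurj : Function.Surjective ψ := by
      rintro ⟨p', q'⟩
      obtain ⟨p, rfl⟩ := Submodule.mkQ_surjective _ p'
      obtain ⟨q, rfl⟩ := Submodule.mkQ_surjective _ q'
      obtain ⟨x, hx⟩ : ∃ x : Fin 3 → PowerSeries k, x = Pi.single i ((f i - f j) * p) +
          Pi.single l ((f i - f j) * p + p * (f l - f i) + q) := ⟨_, rfl⟩
      have hxi : x i = (f i - f j) * p := by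
        rw [hx, Pi.add_apply, Pi.single_eq_same, Pi.single_eq_of_ne hli.symm, add_zero]
      have hxj : x j = 0 := by
        rw [hx, Pi.add_apply, Pi.single_eq_of_ne hij.symm, Pi.single_eq_of_ne hlj.symm, add_zero]
      have hxl : x l = (f i - f j) * p + p * (f l - f i) + q := by
        rw [hx, Pi.add_apply, Pi.single_eq_same, Pi.single_eq_of_ne hli, zero_add]
      have h1 : β x = p := by
        rw [hβ, hxi, hxj]; linear_combination p * huv
      have h2 : γ x = q := by
        rw [hγ, hxl, hxi, hxj]; linear_combination (-(f l - f i) * p) * huv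
      exact ⟨x, by rw [hψa, h1, h2]⟩
    exact ⟨(Submodule.quotEquivOfEq _ _ hker.symm).trans (ψ.quotKerEquivOfSurjective hsurj)⟩

end Groth.Agent.H9.TriCrimp
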