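import Mathlib

/-! Helper9: arrows from a triangulated subcategory to an object form a filtered category -/

namespace Groth.Agent.H9.TriFilt

open CategoryTheory Limits Pretriangulated

universe v u

variable {D : Type u} [Category.{v} D] [Preadditive D] [HasZeroObject D] [HasShift D ℤ]
    [∀ n : ℤ, (shiftFunctor D n).Additive] [Pretriangulated D]

theorem main (P : ObjectProperty D) [P.IsTriangulated] (X : D) :
    IsFiltered (CostructuredArrow P.ι X) := by
  have hne : Nonempty (CostructuredArrow P.ι X) := by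
    obtain ⟨Z, hZ, hPZ⟩ := P.exists_prop_of_containsZero
    let ZZ : P.FullSubcategory := ⟨Z, hPZ⟩
    let t' : P.ι.obj ZZ ⟶ X := 0
    exact ⟨CostructuredArrow.mk (S := P.ι) (Y := ZZ) t'⟩
  refine { cocone_objs := ?_, cocone_maps := ?_, nonempty := hne }
  · intro A B
    obtain ⟨Y, hY, ⟨e0⟩⟩ := P.ext_of_isTriangulatedClosed₂' _
      (binaryBiproductTriangle_distinguished A.left.obj B.left.obj) A.left.property B.left.property
    let e : A.left.obj ⊞ B.left.obj ≅ Y := e0
    -- e : A ⊞ B ≅ Y
    let t : Y ⟶ X := e.inv ≫ biprod.desc A.hom B.hom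
    let YY : P.FullSubcategory := ⟨Y, hY⟩
    let t' : P.ι.obj YY ⟶ X := t
    refine ⟨CostructuredArrow.mk (S := P.ι) (Y := YY) t',
      CostructuredArrow.homMk (ObjectProperty.homMk (biprod.inl ≫ e.hom)) ?_,
      CostructuredArrow.homMk (ObjectProperty.homMk (biprod.inr ≫ e.hom)) ?_, trivial⟩
    · change (biprod.inl ≫ e.hom) ≫ (e.inv ≫ biprod.desc A.hom B.hom) = A.hom
      simp
    · change (biprod.inr ≫ e.hom) ≫ (e.inv ≫ biprod.desc A.hom B.hom) = B.hom
      simp
  · intro A B f g
    -- f, g : A ⟶ B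
    have hf := CostructuredArrow.w f
    have hg := CostructuredArrow.w g
    obtain ⟨Z, hZ, b, c, hT⟩ := P.distinguished_cocone_triangle (f.left.hom - g.left.hom)
      A.left.property B.left.property
    have h0 : (f.left.hom - g.left.hom) ≫ B.hom = 0 := by
      rw [Preadditive.sub_comp]
      have h1 : f.left.hom ≫ B.hom = A.hom := hf
      have h2 : g.left.hom ≫ B.hom = A.hom := hg
      rw [h1, h2, sub_self]
    obtain ⟨t, ht⟩ := Triangle.yoneda_exact₂ _ hT B.hom h0
    let ZZ : P.FullSubcategory := ⟨Z, hZ⟩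
    let t' : P.ι.obj ZZ ⟶ X := t
    refine ⟨CostructuredArrow.mk (S := P.ι) (Y := ZZ) t',
      CostructuredArrow.homMk (ObjectProperty.homMk b) ht.symm, ?_⟩
    ext
    have := comp_distTriang_mor_zero₁₂ _ hT
    have h2 : (f.left.hom - g.left.hom) ≫ b = 0 := this
    rw [Preadditive.sub_comp, sub_eq_zero] at h2
    exact h2

end Groth.Agent.H9.TriFilt
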