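import Mathlib

universe u

open CategoryTheory Simplicial MonoidalCategory CartesianMonoidalCategory Opposite

namespace Groth.Agent.H9.TrivKan

open SSet

variable {X Y : SSet.{u}}

/-- The two vertices as faces of `Δ[1]`. -/
noncomputable abbrev A₀ : (Δ[1] : SSet.{u}).Subcomplex := stdSimplex.face {0}

noncomputable abbrev A₁ : (Δ[1] : SSet.{u}).Subcomplex := stdSimplex.face {1}

theorem disjoint_A {n : SimplexCategoryᵒᵖ} (s : (Δ[1] : SSet.{u}).obj n)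
    (h0 : s ∈ A₀.obj n) (h1 : s ∈ A₁.obj n) : False := by
  have h : s ∈ (A₀ ⊓ A₁ : (Δ[1] : SSet.{u}).Subcomplex).obj n := ⟨h0, h1⟩
  rw [stdSimplex.face_inter_face] at h
  have he : (({0} : Finset (Fin (1 + 1))) ⊓ {1}) = ∅ := by decide
  rw [he, stdSimplex.face_empty] at h
  exact h

noncomputable def B (X : SSet.{u}) : (X ⊗ (Δ[1] : SSet.{u})).Subcomplex where
  obj n := {z | z.2 ∈ A₀.obj n ∨ z.2 ∈ A₁.obj n}
  map φ z hz := by
    rcases hz with h | h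
    · exact Or.inl (A₀.map φ h)
    · exact Or.inr (A₁.map φ h)

open Classical in
noncomputable def t (r₀ r₁ : X ⟶ X) : ((B X : (X ⊗ (Δ[1] : SSet.{u})).Subcomplex) : SSet.{u}) ⟶ X where
  app n := TypeCat.ofHom (fun z => if z.1.2 ∈ A₀.obj n then r₀.app n z.1.1 else r₁.app n z.1.1)
  naturality n m φ := by
    ext z
    dsimp
    have e1 : ((B X).toSSet.map φ z).1.1 = X.map φ z.1.1 := rfl
    have e2 : ((B X).toSSet.map φ z).1.2 = (Δ[1] : SSet.{u}).map φ z.1.2 := rfl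
    rw [e1, e2]
    by_cases h : z.1.2 ∈ A₀.obj n
    · have h2 : (Δ[1] : SSet.{u}).map φ z.1.2 ∈ A₀.obj m := A₀.map φ h
      rw [if_pos h, if_pos h2]
      exact NatTrans.naturality_apply r₀ φ z.1.1
    · have h1 : z.1.2 ∈ A₁.obj n := z.2.resolve_left h
      have h' : ¬ (Δ[1] : SSet.{u}).map φ z.1.2 ∈ A₀.obj m :=
        fun h0 => disjoint_A _ h0 (A₁.map φ h1)
      rw [if_neg h, if_neg h']
      exact NatTrans.naturality_apply r₁ φ z.1.1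

theorem mem_A₀_ι₀ {n : SimplexCategoryᵒᵖ} (x : X.obj n) :
    ((ι₀ : X ⟶ X ⊗ Δ[1]).app n x).2 ∈ A₀.obj n :=
  A₀.map (n.unop.const _ 0).op ((stdSimplex.obj₀Equiv_symm_mem_face_iff {0} 0).mpr (by simp))

theorem mem_A₁_ι₁ {n : SimplexCategoryᵒᵖ} (x : X.obj n) :
    ((ι₁ : X ⟶ X ⊗ Δ[1]).app n x).2 ∈ A₁.obj n :=
  A₁.map (n.unop.const _ 0).op ((stdSimplex.obj₀Equiv_symm_mem_face_iff {1} 1).mpr (by simp))

theorem range_ι₀_le : Subcomplex.range (ι₀ : X ⟶ X ⊗ Δ[1]) ≤ B X := by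
  rintro n _ ⟨x, rfl⟩
  exact Or.inl (mem_A₀_ι₀ x)

theorem range_ι₁_le : Subcomplex.range (ι₁ : X ⟶ X ⊗ Δ[1]) ≤ B X := by
  rintro n _ ⟨x, rfl⟩
  exact Or.inr (mem_A₁_ι₁ x)

theorem lift_ι₀_t (r₀ r₁ : X ⟶ X) : Subcomplex.lift ι₀ range_ι₀_le ≫ t r₀ r₁ = r₀ := by
  ext n x
  have h : ((Subcomplex.lift (ι₀ : X ⟶ X ⊗ Δ[1]) range_ι₀_le).app n x).1.2 ∈ A₀.obj n :=
    mem_A₀_ι₀ x
  exact if_pos h

theorem lift_ι₁_t (r₀ r₁ : X ⟶ X) : Subcomplex.lift ι₁ range_ι₁_le ≫ t r₀ r₁ = r₁ := by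
  ext n x
  have h : ¬ ((Subcomplex.lift (ι₁ : X ⟶ X ⊗ Δ[1]) range_ι₁_le).app n x).1.2 ∈ A₀.obj n :=
    fun h0 => disjoint_A _ h0 (mem_A₁_ι₁ x)
  exact if_neg h

noncomputable def mkHomotopy {f g : X ⟶ Y} (h : X ⊗ Δ[1] ⟶ Y) (h₀ : ι₀ ≫ h = f)
    (h₁ : ι₁ ≫ h = g) : SSet.Homotopy f g :=
  ({ h := h
     h₀ := h₀
     h₁ := h₁
     rel := by
      ext n ⟨⟨x, hx⟩, s⟩
      exact (Set.notMem_empty _ hx).elim } :
    (RelativeMorphism.botEquiv.symm f).Homotopy (RelativeMorphism.botEquiv.symm g))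

theorem exists_homotopy (f : X ⟶ Y) (hf : (MorphismProperty.monomorphisms SSet.{u}).rlp f)
    (r₀ r₁ : X ⟶ X) (h₀ : r₀ ≫ f = f) (h₁ : r₁ ≫ f = f) : Nonempty (SSet.Homotopy r₀ r₁) := by
  have sq : CommSq (t r₀ r₁) (B X).ι f (fst X Δ[1] ≫ f) := ⟨by
    ext n z
    show f.app n ((t r₀ r₁).app n z) = f.app n z.1.1
    by_cases h : z.1.2 ∈ A₀.obj n
    · rw [show (t r₀ r₁).app n z = r₀.app n z.1.1 from if_pos h]
      exact ConcreteCategory.congr_hom (NatTrans.congr_app h₀ n) z.1.1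
    · rw [show (t r₀ r₁).app n z = r₁.app n z.1.1 from if_neg h]
      exact ConcreteCategory.congr_hom (NatTrans.congr_app h₁ n) z.1.1⟩
  haveI : HasLiftingProperty (B X).ι f :=
    hf _ (MorphismProperty.monomorphisms.infer_property _)
  refine ⟨mkHomotopy sq.lift ?_ ?_⟩
  · rw [← Subcomplex.lift_ι ι₀ range_ι₀_le, Category.assoc, sq.fac_left, lift_ι₀_t]
  · rw [← Subcomplex.lift_ι ι₁ range_ι₁_le, Category.assoc, sq.fac_left, lift_ι₁_t]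

theorem exists_section (f : X ⟶ Y) (hf : (MorphismProperty.monomorphisms SSet.{u}).rlp f) :
    ∃ g : Y ⟶ X, g ≫ f = 𝟙 Y := by
  have sq : CommSq (Subcomplex.isInitialBot.to X) (⊥ : Y.Subcomplex).ι f (𝟙 Y) :=
    ⟨Subcomplex.isInitialBot.hom_ext _ _⟩
  haveI : HasLiftingProperty (⊥ : Y.Subcomplex).ι f :=
    hf _ (MorphismProperty.monomorphisms.infer_property _)
  exact ⟨sq.lift, sq.fac_right⟩

theorem main (f : X ⟶ Y) (hf : SSet.modelCategoryQuillen.I.rlp f) :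
    ∃ g : Y ⟶ X, g ≫ f = 𝟙 Y ∧ Nonempty (SSet.Homotopy (𝟙 X) (f ≫ g)) ∧
      Nonempty (SSet.Homotopy (f ≫ g) (𝟙 X)) := by
  have hf' : (MorphismProperty.monomorphisms SSet.{u}).rlp f := by
    rw [SSet.rlp_monomorphisms]; exact hf
  obtain ⟨g, hg⟩ := exists_section f hf'
  have h1 : (f ≫ g) ≫ f = f := by rw [Category.assoc, hg, Category.comp_id]
  exact ⟨g, hg, exists_homotopy f hf' _ _ (Category.id_comp f) h1,
    exists_homotopy f hf' _ _ h1 (Category.id_comp f)⟩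

end Groth.Agent.H9.TrivKan
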