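import Mathlib
import Groth.Agent.Lib.Helper9.Misc.TruncKan

/-! Helper9: skeleta (pointwise left Kan extensions along truncation) exist with finite colimits (S6810). -/

namespace Groth.Agent.H9.TruncKan

open CategoryTheory Limits Opposite

universe v u

theorem finite_costructuredArrow (m : ℕ) (X : SimplexCategoryᵒᵖ) :
    Finite (CostructuredArrow (SimplexCategory.Truncated.inclusion m).op X) := by
  apply Finite.of_injective
    (fun a : CostructuredArrow (SimplexCategory.Truncated.inclusion m).op X =>
      (⟨a.left, a.hom⟩ : Σ k : (SimplexCategory.Truncated m)ᵒᵖ,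
        ((SimplexCategory.Truncated.inclusion m).op.obj k ⟶ X)))
  intro a b h
  cases a with | mk al ar ah =>
  cases b with | mk bl br bh =>
  simp only [Sigma.mk.injEq] at h
  obtain ⟨h1, h2⟩ := h
  subst h1
  have h3 : ah = bh := eq_of_heq h2
  subst h3
  have h4 : ar = br := Subsingleton.elim _ _
  subst h4
  rfl

theorem finite_hom_costructuredArrow (m : ℕ) (X : SimplexCategoryᵒᵖ)
    (a b : CostructuredArrow (SimplexCategory.Truncated.inclusion m).op X) : Finite (a ⟶ b) := by
  apply Finite.of_injective (fun f : a ⟶ b => f.left.unop)
  intro f g h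
  apply CostructuredArrow.hom_ext
  exact Quiver.Hom.unop_inj h

theorem main_left {C : Type u} [Category.{v} C] [HasFiniteColimits C] (m : ℕ)
    (U : (SimplexCategory.Truncated m)ᵒᵖ ⥤ C) :
    (SimplexCategory.Truncated.inclusion m).op.HasPointwiseLeftKanExtension U := by
  intro X
  have h1 := finite_costructuredArrow m X
  have h2 := finite_hom_costructuredArrow m X
  let _ : FinCategory (CostructuredArrow (SimplexCategory.Truncated.inclusion m).op X) :=
    { fintypeObj := Fintype.ofFinite _
      fintypeHom := fun a b => Fintype.ofFinite _ }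
  infer_instance

end Groth.Agent.H9.TruncKan
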