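import Mathlib
set_option autoImplicit false
set_option linter.style.haveILetI false
set_option linter.unusedSectionVars false
set_option linter.unusedVariables false
namespace Groth.Agent.H9.TruncSub
universe u
open Polynomial

section Abs
variable {k : Type*} {T : Type*} [Field k] [CharZero k] [CommRing T] [Algebra k T]

theorem main_abs (u : T) (N : ℕ)
    (H1 : u ^ (N + 1) = 0) (H2 : ∀ m ≤ N, u ^ m ∉ Ideal.span {u ^ (m + 1)})
    (H3 : ∀ y : T, ∃ (c : k) (y' : T), y = algebraMap k T c + u * y')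
    (σ : T →ₐ[k] T) (hσ : σ u * (1 + u) = u) (A : Subalgebra k T) (hA : ∀ x ∈ A, σ x ∈ A) :
    ∃ n, 1 ≤ n ∧ n ≤ N + 1 ∧ Subalgebra.toSubmodule A =
      Submodule.span k {1} ⊔ (Ideal.span {u ^ n}).restrictScalars k := by
  classical
  set V : ℕ → Ideal T := fun m => Ideal.span {u ^ m} with hVdef
  have hV : ∀ m x, x ∈ V m ↔ ∃ y, x = u ^ m * y := by
    intro m x
    simp only [V, Ideal.mem_span_singleton']
    constructor
    · rintro ⟨a, rfl⟩; exact ⟨a, mul_comm _ _⟩
    · rintro ⟨a, rfl⟩; exact ⟨a, mul_comm _ _⟩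
  have anti : ∀ m, V (m + 1) ≤ V m := by
    intro m x hx
    obtain ⟨y, rfl⟩ := (hV _ _).mp hx
    exact (hV _ _).mpr ⟨u * y, by ring⟩
  have anti' : ∀ m m', m ≤ m' → V m' ≤ V m := by
    intro m m' h
    induction h with
    | refl => exact le_refl _
    | step h ih => exact (anti _).trans ih
  have VN : ∀ x ∈ V (N + 1), x = 0 := by
    intro x hx
    obtain ⟨y, rfl⟩ := (hV _ _).mp hx
    rw [H1, zero_mul]
  have smulV : ∀ m (c : k) x, x ∈ V m → c • x ∈ V m := by
    intro m c x hx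
    rw [Algebra.smul_def]
    exact Ideal.mul_mem_left _ _ hx
  have dec : ∀ m x, x ∈ V m → ∃ c : k, x - c • u ^ m ∈ V (m + 1) := by
    intro m x hx
    obtain ⟨y, rfl⟩ := (hV _ _).mp hx
    obtain ⟨c, y', rfl⟩ := H3 y
    refine ⟨c, (hV _ _).mpr ⟨y', ?_⟩⟩
    rw [Algebra.smul_def]; ring
  set w : T := 1 - σ u with hwdef
  have hw : w - 1 + u * w = 0 := by
    simp only [w]; linear_combination -hσ
  have hσu : σ u = u * w := by
    simp only [w]; linear_combination hσ
  have σV1 : ∀ y, σ y - y ∈ V 1 := by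
    intro y
    obtain ⟨c, y', rfl⟩ := H3 y
    refine (hV _ _).mpr ⟨w * σ y' - y', ?_⟩
    rw [map_add, map_mul, AlgHom.commutes, hσu]; ring
  have wpow : ∀ j : ℕ, w ^ j - 1 ∈ V 1 := by
    intro j
    obtain ⟨z, hz⟩ := sub_dvd_pow_sub_pow w 1 j
    rw [one_pow] at hz
    refine (hV _ _).mpr ⟨-w * z, ?_⟩
    rw [hz]; linear_combination z * hw
  have σV : ∀ j x, x ∈ V j → σ x - x ∈ V (j + 1) := by
    intro j x hx
    obtain ⟨y, rfl⟩ := (hV _ _).mp hx
    obtain ⟨z1, hz1⟩ := (hV _ _).mp (wpow j)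
    obtain ⟨z2, hz2⟩ := (hV _ _).mp (σV1 y)
    refine (hV _ _).mpr ⟨z1 * σ y + z2, ?_⟩
    rw [map_mul, map_pow, hσu, mul_pow]
    linear_combination (u ^ j * σ y) * hz1 + u ^ j * hz2
  have wpow2 : ∀ m : ℕ, ∃ z, w ^ m - 1 + (m : T) * u = u ^ 2 * z := by
    intro m
    induction m with
    | zero => exact ⟨0, by simp⟩
    | succ m ih =>
      obtain ⟨z, hz⟩ := ih
      refine ⟨((m : T) + 1) * w + w * z, ?_⟩
      push_cast
      rw [pow_succ]
      linear_combination w * hz + (1 - ((m : T) + 1) * u) * hw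
  have σpow : ∀ m : ℕ, σ (u ^ m) - u ^ m + (m : T) * u ^ (m + 1) ∈ V (m + 2) := by
    intro m
    obtain ⟨z, hz⟩ := wpow2 m
    refine (hV _ _).mpr ⟨z, ?_⟩
    rw [map_pow, hσu, mul_pow]
    linear_combination u ^ m * hz
  let P : ℕ → Prop := fun m => ∃ f ∈ A, f ∈ V m ∧ f ∉ V (m + 1)
  have step : ∀ m, 1 ≤ m → m + 1 ≤ N → P m → P (m + 1) := by
    rintro m hm1 hmN ⟨f, hfA, hfm, hfm1⟩
    obtain ⟨c, hc⟩ := dec m f hfm
    have hc0 : c ≠ 0 := by
      rintro rfl
      rw [zero_smul, sub_zero] at hc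
      exact hfm1 hc
    set x' := f - c • u ^ m with hx'
    have hf : f = c • u ^ m + x' := by simp [x']
    set g := σ f - f with hg
    have hgA : g ∈ A := A.sub_mem (hA f hfA) hfA
    have h1 : g + (c * (m : k)) • u ^ (m + 1) ∈ V (m + 2) := by
      have e : g + (c * (m : k)) • u ^ (m + 1) =
          c • (σ (u ^ m) - u ^ m + (m : T) * u ^ (m + 1)) + (σ x' - x') := by
        simp only [g]
        rw [hf, map_add, map_smul]
        simp only [Algebra.smul_def, map_mul, map_natCast]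
        ring
      rw [e]
      exact add_mem (smulV _ _ _ (σpow m)) (σV _ _ hc)
    refine ⟨g, hgA, ?_, ?_⟩
    · have : g = (g + (c * (m : k)) • u ^ (m + 1)) - (c * (m : k)) • u ^ (m + 1) := by ring
      rw [this]
      refine sub_mem (anti _ h1) (smulV _ _ _ ?_)
      exact (hV _ _).mpr ⟨1, by ring⟩
    · intro hg2
      have h2 : (c * (m : k)) • u ^ (m + 1) ∈ V (m + 2) := by
        have : (c * (m : k)) • u ^ (m + 1) = (g + (c * (m : k)) • u ^ (m + 1)) - g := by ring
        rw [this]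
        exact sub_mem h1 hg2
      have hcm : c * (m : k) ≠ 0 := mul_ne_zero hc0 (by exact_mod_cast (by omega : m ≠ 0))
      have h3 := smulV _ (c * (m : k))⁻¹ _ h2
      rw [smul_smul, inv_mul_cancel₀ hcm, one_smul] at h3
      exact H2 (m + 1) hmN h3
  -- choose n
  obtain ⟨n, hn1, hnN, hall, hnone⟩ : ∃ n, 1 ≤ n ∧ n ≤ N + 1 ∧ (∀ m, n ≤ m → m ≤ N → P m) ∧
      (∀ m, 1 ≤ m → m < n → ¬ P m) := by
    by_cases hex : ∃ m, 1 ≤ m ∧ m ≤ N ∧ P m
    · refine ⟨Nat.find hex, (Nat.find_spec hex).1, (Nat.find_spec hex).2.1.trans (Nat.le_succ _), ?_, ?_⟩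
      · intro m hm hmN
        induction m, hm using Nat.le_induction with
        | base => exact (Nat.find_spec hex).2.2
        | succ m hm ih =>
          exact step m ((Nat.find_spec hex).1.trans hm) hmN (ih (by omega))
      · intro m hm1 hmn hP
        exact Nat.find_min hex hmn ⟨hm1, by have := (Nat.find_spec hex).2.1; omega, hP⟩
    · push Not at hex
      refine ⟨N + 1, by omega, le_refl _, fun m h1 h2 => by omega, ?_⟩
      intro m hm1 hmn hP
      exact hex m hm1 (by omega) hP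
  refine ⟨n, hn1, hnN, ?_⟩
  -- V m ⊆ A for n ≤ m
  have C2 : ∀ j, j ≤ N + 1 - n → ∀ x ∈ V (N + 1 - j), x ∈ A := by
    intro j
    induction j with
    | zero =>
      intro _ x hx
      rw [Nat.sub_zero] at hx
      rw [VN x hx]; exact A.zero_mem
    | succ j ih =>
      intro hj x hx
      have ih' := ih (by omega)
      set m := N + 1 - (j + 1) with hm
      have hm1 : N + 1 - j = m + 1 := by omega
      rw [hm1] at ih'
      obtain ⟨f, hfA, hfm, hfm1⟩ := hall m (by omega) (by omega)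
      obtain ⟨c, hc⟩ := dec m f hfm
      have hc0 : c ≠ 0 := by
        rintro rfl
        rw [zero_smul, sub_zero] at hc
        exact hfm1 hc
      obtain ⟨c', hc'⟩ := dec m x hx
      have h1 : x - (c' / c) • f ∈ V (m + 1) := by
        have : x - (c' / c) • f = (x - c' • u ^ m) - (c' / c) • (f - c • u ^ m) := by
          rw [smul_sub, smul_smul, div_mul_cancel₀ _ hc0]; ring
        rw [this]
        exact sub_mem hc' (smulV _ _ _ hc)
      have h2 := ih' _ h1
      have : x = (x - (c' / c) • f) + (c' / c) • f := by ring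
      rw [this]
      exact A.add_mem h2 (A.smul_mem hfA _)
  have C3 : ∀ f ∈ A, ∃ c : k, f - algebraMap k T c ∈ V n := by
    intro f hfA
    obtain ⟨c, y', hf⟩ := H3 f
    refine ⟨c, ?_⟩
    set g := f - algebraMap k T c with hg
    have hgA : g ∈ A := A.sub_mem hfA (A.algebraMap_mem c)
    have hg1 : g ∈ V 1 := (hV _ _).mpr ⟨y', by simp only [g]; rw [hf]; ring⟩
    have : ∀ j, 1 ≤ j → j ≤ n → g ∈ V j := by
      intro j hj
      induction j, hj using Nat.le_induction with
      | base => intro _; exact hg1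
      | succ j hj ih =>
        intro hjn
        have hgj := ih (by omega)
        by_contra hcon
        exact hnone j hj (by omega) ⟨g, hgA, hgj, hcon⟩
    exact this n hn1 (le_refl _)
  apply le_antisymm
  · intro f hf
    obtain ⟨c, hc⟩ := C3 f hf
    have : f = c • (1 : T) + (f - algebraMap k T c) := by
      rw [Algebra.smul_def, mul_one]; ring
    rw [this]
    exact Submodule.add_mem_sup (Submodule.smul_mem _ _ (Submodule.subset_span rfl)) hc
  · refine sup_le ?_ ?_
    · rw [Submodule.span_le]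
      rintro _ rfl
      exact A.one_mem
    · intro x hx
      have := C2 (N + 1 - n) (le_refl _) x
      rw [show N + 1 - (N + 1 - n) = n by omega] at this
      exact this hx

end Abs

theorem main_f (k : Type u) [Field k] [CharZero k]
    (N : ℕ) (f : Polynomial k) (hf : f = (Polynomial.X : Polynomial k) ^ (N + 1))
    (A : Subalgebra k (AdjoinRoot f))
    (hA : ∀ (a : k) (σ : AdjoinRoot f →ₐ[k] AdjoinRoot f),
      σ (AdjoinRoot.root f) * (1 + algebraMap k (AdjoinRoot f) a * AdjoinRoot.root f) = AdjoinRoot.root f →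
        A.map σ ≤ A) :
    ∃ n : ℕ, 1 ≤ n ∧ n ≤ N + 1 ∧
      Subalgebra.toSubmodule A =
        Submodule.span k {1} ⊔ (Ideal.span {AdjoinRoot.root f ^ n}).restrictScalars k := by
  have H1 : (AdjoinRoot.root f) ^ (N + 1) = 0 := by
    have h : AdjoinRoot.mk f (X ^ (N + 1)) = 0 := by rw [← hf]; exact AdjoinRoot.mk_self
    rw [map_pow, AdjoinRoot.mk_X] at h
    exact h
  have hupow : ∀ m : ℕ, (AdjoinRoot.root f) ^ m = AdjoinRoot.mk f (X ^ m) := by
    intro m; rw [map_pow, AdjoinRoot.mk_X]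
  have H2 : ∀ m ≤ N, (AdjoinRoot.root f) ^ m ∉ Ideal.span {(AdjoinRoot.root f) ^ (m + 1)} := by
    intro m hm hmem
    obtain ⟨y, hy⟩ := Ideal.mem_span_singleton'.mp hmem
    have h1 : (AdjoinRoot.root f) ^ N = 0 := by
      have : (AdjoinRoot.root f) ^ N = (AdjoinRoot.root f) ^ (N - m) * (AdjoinRoot.root f) ^ m := by
        rw [← pow_add]; congr 1; omega
      rw [this, ← hy]
      have : (AdjoinRoot.root f) ^ (N - m) * (y * (AdjoinRoot.root f) ^ (m + 1)) =
          y * (AdjoinRoot.root f) ^ (N + 1) := by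
        rw [show N + 1 = (N - m) + (m + 1) by omega, pow_add]; ring
      rw [this, H1, mul_zero]
    rw [hupow, AdjoinRoot.mk_eq_zero] at h1
    have h2 : (X : Polynomial k) ^ (N + 1) ∣ X ^ N := by rw [← hf]; exact h1
    have := (pow_dvd_pow_iff (Polynomial.X_ne_zero (R := k)) Polynomial.not_isUnit_X).mp h2
    omega
  have H3 : ∀ y : AdjoinRoot f, ∃ (c : k) (y' : AdjoinRoot f),
      y = algebraMap k (AdjoinRoot f) c + AdjoinRoot.root f * y' := by
    intro y
    obtain ⟨p, rfl⟩ := AdjoinRoot.mk_surjective (g := f) y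
    refine ⟨p.coeff 0, AdjoinRoot.mk f p.divX, ?_⟩
    conv_lhs => rw [← Polynomial.divX_mul_X_add p]
    rw [map_add, map_mul, AdjoinRoot.mk_X, AdjoinRoot.mk_C, AdjoinRoot.algebraMap_eq]
    ring
  have hnil : IsNilpotent (AdjoinRoot.root f) := ⟨N + 1, H1⟩
  have hunit : IsUnit (1 + AdjoinRoot.root f) := hnil.isUnit_one_add
  obtain ⟨w₀, hw₀⟩ := hunit.exists_left_inv
  have h0 : Polynomial.eval₂ (Algebra.ofId k (AdjoinRoot f)) (AdjoinRoot.root f * w₀) f = 0 := by
    have key : ∀ p : Polynomial k, p = (X : Polynomial k) ^ (N + 1) →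
        Polynomial.eval₂ (Algebra.ofId k (AdjoinRoot f)) (AdjoinRoot.root f * w₀) p = 0 := by
      rintro p rfl
      rw [Polynomial.eval₂_X_pow, mul_pow, H1, zero_mul]
    exact key f hf
  let σ : AdjoinRoot f →ₐ[k] AdjoinRoot f :=
    AdjoinRoot.liftAlgHom f (Algebra.ofId k (AdjoinRoot f)) (AdjoinRoot.root f * w₀) h0
  have hσu : σ (AdjoinRoot.root f) = AdjoinRoot.root f * w₀ := AdjoinRoot.liftAlgHom_root f _ _ h0
  have hσ : σ (AdjoinRoot.root f) * (1 + AdjoinRoot.root f) = AdjoinRoot.root f := by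
    rw [hσu, mul_assoc, hw₀, mul_one]
  have hA' : ∀ x ∈ A, σ x ∈ A := by
    intro x hx
    refine hA 1 σ ?_ (Subalgebra.mem_map.mpr ⟨x, hx, rfl⟩)
    rw [map_one, one_mul]
    exact hσ
  exact main_abs (AdjoinRoot.root f) N H1 H2 H3 σ hσ A hA'

theorem main (k : Type u) [Field k] [CharZero k]
    (N : ℕ) (A : Subalgebra k (AdjoinRoot ((Polynomial.X : Polynomial k) ^ (N + 1))))
    (hA : ∀ (a : k) (σ : AdjoinRoot ((Polynomial.X : Polynomial k) ^ (N + 1)) →ₐ[k] AdjoinRoot ((Polynomial.X : Polynomial k) ^ (N + 1))),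
      σ (AdjoinRoot.root ((Polynomial.X : Polynomial k) ^ (N + 1))) * (1 + algebraMap k (AdjoinRoot ((Polynomial.X : Polynomial k) ^ (N + 1))) a * AdjoinRoot.root ((Polynomial.X : Polynomial k) ^ (N + 1))) = AdjoinRoot.root ((Polynomial.X : Polynomial k) ^ (N + 1)) →
        A.map σ ≤ A) :
    ∃ n : ℕ, 1 ≤ n ∧ n ≤ N + 1 ∧
      Subalgebra.toSubmodule A =
        Submodule.span k {1} ⊔ (Ideal.span {AdjoinRoot.root ((Polynomial.X : Polynomial k) ^ (N + 1)) ^ n}).restrictScalars k :=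
  main_f k N _ rfl A hA

end Groth.Agent.H9.TruncSub
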