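import Mathlib
import Groth.Prelude.Def_FibCat2

/-!
# Helper9: pasting of 2-cartesian squares of categories
-/

set_option autoImplicit false

universe v u

open CategoryTheory CategoryTheory.Limits CategoryTheory.Limits.CategoricalPullback

namespace Groth.Agent.H9.TwoCart

variable {A B A' B' A'' B'' : Type u} [Category.{v} A] [Category.{v} B] [Category.{v} A']
  [Category.{v} B'] [Category.{v} A''] [Category.{v} B'']

/-- the comparison functor of a 2-commutative square -/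
abbrev cmp {X P Q R : Type u} [Category.{v} X] [Category.{v} P] [Category.{v} Q] [Category.{v} R]
    (T : X ⥤ P) (L : X ⥤ Q) (F : P ⥤ R) (G : Q ⥤ R) (e : T ⋙ F ≅ L ⋙ G) : X ⥤ F ⊡ G :=
  (CatCommSqOver.toFunctorToCategoricalPullback F G X).obj ⟨T, L, e⟩

/-- The functor `r ⊡ t' ⥤ (r ⋙ r') ⊡ t''` induced by the lower square. -/
@[simps]
def Ψ (r : B ⥤ B') (t' : A' ⥤ B') (l' : A' ⥤ A'') (r' : B' ⥤ B'') (t'' : A'' ⥤ B'')
    (e₂ : t' ⋙ r' ≅ l' ⋙ t'') : r ⊡ t' ⥤ (r ⋙ r') ⊡ t'' where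
  obj x := { fst := x.fst, snd := l'.obj x.snd, iso := r'.mapIso x.iso ≪≫ e₂.app x.snd }
  map {x y} f :=
    { fst := f.fst
      snd := l'.map f.snd
      w := by
        have h1 := f.w
        have h2 := e₂.hom.naturality f.snd
        simp only [Functor.comp_map, Functor.comp_obj, Iso.trans_hom, Functor.mapIso_hom,
          Iso.app_hom, Category.assoc] at h2 ⊢
        rw [← h2, ← r'.map_comp_assoc, h1, r'.map_comp_assoc] }
  map_id x := by ext <;> simp
  map_comp f g := by ext <;> simp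


variable (r : B ⥤ B') (t' : A' ⥤ B') (l' : A' ⥤ A'') (r' : B' ⥤ B'') (t'' : A'' ⥤ B'')
    (e₂ : t' ⋙ r' ≅ l' ⋙ t'')

theorem Ψ_faithful [(cmp t' l' r' t'' e₂).Faithful] : (Ψ r t' l' r' t'' e₂).Faithful where
  map_injective {x y} f g h := by
    have h1 : f.fst = g.fst := by
      have := congrArg Hom.fst h
      exact this
    have h2 : l'.map f.snd = l'.map g.snd := by
      have := congrArg Hom.snd h
      exact this
    have h3 : t'.map f.snd = t'.map g.snd := by
      have hf : t'.map f.snd = x.iso.inv ≫ r.map f.fst ≫ y.iso.hom := by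
        rw [f.w, Iso.inv_hom_id_assoc]
      have hg : t'.map g.snd = x.iso.inv ≫ r.map g.fst ≫ y.iso.hom := by
        rw [g.w, Iso.inv_hom_id_assoc]
      rw [hf, hg, h1]
    have h4 : (cmp t' l' r' t'' e₂).map f.snd = (cmp t' l' r' t'' e₂).map g.snd := by
      ext
      · exact h3
      · exact h2
    have h5 := (cmp t' l' r' t'' e₂).map_injective h4
    ext
    · exact h1
    · exact h5

theorem Ψ_full [(cmp t' l' r' t'' e₂).Full] : (Ψ r t' l' r' t'' e₂).Full where
  map_surjective {x y} h := by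
    have key : ∀ (hf : x.fst ⟶ y.fst) (hs : l'.obj x.snd ⟶ l'.obj y.snd)
        (_ : r'.map (r.map hf) ≫ r'.map y.iso.hom ≫ e₂.hom.app y.snd =
          (r'.map x.iso.hom ≫ e₂.hom.app x.snd) ≫ t''.map hs),
        ∃ v : x.snd ⟶ y.snd, t'.map v = x.iso.inv ≫ r.map hf ≫ y.iso.hom ∧ l'.map v = hs := by
      intro hf hs hw
      have hm : r'.map (x.iso.inv ≫ r.map hf ≫ y.iso.hom) ≫ e₂.hom.app y.snd =
          e₂.hom.app x.snd ≫ t''.map hs := by
        rw [Functor.map_comp, Functor.map_comp, Category.assoc, Category.assoc, hw,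
          Category.assoc, ← r'.map_comp_assoc, Iso.inv_hom_id, r'.map_id, Category.id_comp]
      let m : (cmp t' l' r' t'' e₂).obj x.snd ⟶ (cmp t' l' r' t'' e₂).obj y.snd :=
        ⟨x.iso.inv ≫ r.map hf ≫ y.iso.hom, hs, hm⟩
      obtain ⟨v, hv⟩ := (cmp t' l' r' t'' e₂).map_surjective m
      refine ⟨v, ?_, ?_⟩
      · have := congrArg Hom.fst hv
        exact this
      · have := congrArg Hom.snd hv
        exact this
    obtain ⟨v, hv1, hv2⟩ := key h.fst h.snd h.w
    have hw2 : r.map h.fst ≫ y.iso.hom = x.iso.hom ≫ t'.map v := by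
      rw [hv1, Iso.hom_inv_id_assoc]
      rfl
    refine ⟨⟨h.fst, v, hw2⟩, ?_⟩
    ext
    · rfl
    · exact hv2

theorem Ψ_essSurj [(cmp t' l' r' t'' e₂).EssSurj] : (Ψ r t' l' r' t'' e₂).EssSurj where
  mem_essImage z := by
    have key : ∀ (a' : A') (f1 : t'.obj a' ≅ r.obj z.fst) (f2 : l'.obj a' ≅ z.snd)
        (_ : r'.map f1.hom ≫ z.iso.hom = e₂.hom.app a' ≫ t''.map f2.hom),
        (Ψ r t' l' r' t'' e₂).essImage z := by
      intro a' f1 f2 hiw
      refine ⟨⟨z.fst, a', f1.symm⟩, ⟨mkIso (Iso.refl _) f2 ?_⟩⟩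
      show (r ⋙ r').map (𝟙 z.fst) ≫ z.iso.hom =
        (r'.map f1.inv ≫ e₂.hom.app a') ≫ t''.map f2.hom
      rw [CategoryTheory.Functor.map_id, Category.id_comp, Category.assoc, ← hiw, ← r'.map_comp_assoc,
        f1.inv_hom_id, r'.map_id, Category.id_comp]
    let w : r' ⊡ t'' := ⟨r.obj z.fst, z.snd, z.iso⟩
    let a' := (cmp t' l' r' t'' e₂).objPreimage w
    let i : (cmp t' l' r' t'' e₂).obj a' ≅ w := (cmp t' l' r' t'' e₂).objObjPreimageIso w
    exact key a' ((π₁ r' t'').mapIso i) ((π₂ r' t'').mapIso i) i.hom.w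

theorem Ψ_isEquivalence (h : (cmp t' l' r' t'' e₂).IsEquivalence) :
    (Ψ r t' l' r' t'' e₂).IsEquivalence := by
  have := Ψ_faithful r t' l' r' t'' e₂
  have := Ψ_full r t' l' r' t'' e₂
  have := Ψ_essSurj r t' l' r' t'' e₂
  exact { }


variable (t : A ⥤ B) (l : A ⥤ A') (e₁ : t ⋙ r ≅ l ⋙ t')

/-- The comparison functor of the outer rectangle factors through `Ψ`. -/
def cmpOuterIso :
    cmp t (l ⋙ l') (r ⋙ r') t''
      ((Functor.associator t r r').symm ≪≫ Functor.isoWhiskerRight e₁ r' ≪≫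
        Functor.associator l t' r' ≪≫ Functor.isoWhiskerLeft l e₂ ≪≫
          (Functor.associator l l' t'').symm) ≅
    cmp t l r t' e₁ ⋙ Ψ r t' l' r' t'' e₂ :=
  NatIso.ofComponents
    (fun a => mkIso (Iso.refl _) (Iso.refl _) (by
      show (r ⋙ r').map (𝟙 (t.obj a)) ≫ (r'.map (e₁.hom.app a) ≫ e₂.hom.app (l.obj a)) =
        (𝟙 _ ≫ r'.map (e₁.hom.app a) ≫ 𝟙 _ ≫ e₂.hom.app (l.obj a) ≫ 𝟙 _) ≫
          t''.map (𝟙 (l'.obj (l.obj a)))
      simp))
    (by
      intro a b f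
      ext
      · show t.map f ≫ 𝟙 _ = 𝟙 _ ≫ t.map f
        simp
      · show l'.map (l.map f) ≫ 𝟙 _ = 𝟙 _ ≫ l'.map (l.map f)
        simp)

theorem paste_iff (h₂ : FibCat.IsTwoCart t' l' r' t'' e₂) :
    FibCat.IsTwoCart t l r t' e₁ ↔
      FibCat.IsTwoCart t (l ⋙ l') (r ⋙ r') t''
        ((Functor.associator t r r').symm ≪≫ Functor.isoWhiskerRight e₁ r' ≪≫
          Functor.associator l t' r' ≪≫ Functor.isoWhiskerLeft l e₂ ≪≫
            (Functor.associator l l' t'').symm) := by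
  have hΨ : (Ψ r t' l' r' t'' e₂).IsEquivalence := Ψ_isEquivalence r t' l' r' t'' e₂ h₂
  constructor
  · intro h₁
    have h₁' : (cmp t l r t' e₁).IsEquivalence := h₁
    have : (cmp t l r t' e₁ ⋙ Ψ r t' l' r' t'' e₂).IsEquivalence := inferInstance
    exact Functor.isEquivalence_of_iso (cmpOuterIso r t' l' r' t'' e₂ t l e₁).symm
  · intro h₃
    have h₃' : (cmp t (l ⋙ l') (r ⋙ r') t''
      ((Functor.associator t r r').symm ≪≫ Functor.isoWhiskerRight e₁ r' ≪≫
        Functor.associator l t' r' ≪≫ Functor.isoWhiskerLeft l e₂ ≪≫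
          (Functor.associator l l' t'').symm)).IsEquivalence := h₃
    have : (cmp t l r t' e₁ ⋙ Ψ r t' l' r' t'' e₂).IsEquivalence :=
      Functor.isEquivalence_of_iso (cmpOuterIso r t' l' r' t'' e₂ t l e₁)
    exact Functor.isEquivalence_of_comp_right (cmp t l r t' e₁) (Ψ r t' l' r' t'' e₂)

end Groth.Agent.H9.TwoCart
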