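import Mathlib

/-! Helper9: the object of units of a monoid object in a cartesian monoidal category with pullbacks. -/

set_option linter.style.haveILetI false
set_option linter.unusedSectionVars false

namespace Groth.Agent.H9.UNM

open CategoryTheory CategoryTheory.Limits MonoidalCategory CartesianMonoidalCategory MonObj

universe v₁ u₁

variable {C : Type u₁} [Category.{v₁} C] [CartesianMonoidalCategory C] [HasPullbacks C]
  (M : C) [MonObj M]

/-- `(x, y) ↦ (xy, yx)` -/
noncomputable def phi : M ⊗ M ⟶ M ⊗ M := lift μ[M] (lift (snd M M) (fst M M) ≫ μ[M])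

/-- `(1, 1)` -/
noncomputable def e2 : 𝟙_ C ⟶ M ⊗ M := lift η[M] η[M]

/-- The object of units of a monoid object. -/
noncomputable abbrev units : C := pullback (phi M) (e2 M)

/-- The inclusion of the units. -/
noncomputable abbrev unitsι : units M ⟶ M := pullback.fst (phi M) (e2 M) ≫ fst M M

variable {M}

theorem lift_phi {T : C} (a b : T ⟶ M) : lift a b ≫ phi M = lift (a * b) (b * a) := by
  unfold phi
  rw [comp_lift, ← Category.assoc, comp_lift, lift_snd, lift_fst, ← Hom.mul_def, ← Hom.mul_def]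

theorem toUnit_e2 {T : C} : toUnit T ≫ e2 M = lift (1 : T ⟶ M) 1 := by
  unfold e2
  rw [comp_lift, ← Hom.one_def]

theorem unitsι_factor_iff {T : C} (m : T ⟶ M) : (∃ g : T ⟶ units M, g ≫ unitsι M = m) ↔ IsUnit m := by
  constructor
  · rintro ⟨g, rfl⟩
    let p := g ≫ pullback.fst (phi M) (e2 M)
    have hp : p ≫ phi M = lift 1 1 := by
      show (g ≫ pullback.fst (phi M) (e2 M)) ≫ phi M = _
      rw [Category.assoc, pullback.condition, ← Category.assoc, ← toUnit_e2]
      congr 1
      exact toUnit_unique _ _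
    have hp' : lift (p ≫ fst M M) (p ≫ snd M M) ≫ phi M = lift 1 1 := by
      rw [← comp_lift, lift_fst_snd, Category.comp_id]; exact hp
    rw [lift_phi] at hp'
    have h1 : (p ≫ fst M M) * (p ≫ snd M M) = 1 := by
      have := congr($hp' ≫ fst M M); simpa using this
    have h2 : (p ≫ snd M M) * (p ≫ fst M M) = 1 := by
      have := congr($hp' ≫ snd M M); simpa using this
    have e : g ≫ unitsι M = p ≫ fst M M := by
      show g ≫ pullback.fst (phi M) (e2 M) ≫ fst M M = _
      rw [← Category.assoc]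
    rw [e]
    exact ⟨⟨p ≫ fst M M, p ≫ snd M M, h1, h2⟩, rfl⟩
  · rintro ⟨⟨a, b, hab, hba⟩, rfl⟩
    refine ⟨pullback.lift (lift a b) (toUnit T) ?_, ?_⟩
    · rw [lift_phi, toUnit_e2, hab, hba]
    · show pullback.lift _ _ _ ≫ pullback.fst (phi M) (e2 M) ≫ fst M M = a
      rw [← Category.assoc, pullback.lift_fst, lift_fst]

instance mono_unitsι : Mono (unitsι M) := by
  constructor
  intro T g₁ g₂ h
  have key : ∀ g : T ⟶ units M,
      (g ≫ pullback.fst (phi M) (e2 M) ≫ fst M M) * (g ≫ pullback.fst (phi M) (e2 M) ≫ snd M M) = 1 ∧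
      (g ≫ pullback.fst (phi M) (e2 M) ≫ snd M M) * (g ≫ pullback.fst (phi M) (e2 M) ≫ fst M M) = 1 := by
    intro g
    let p := g ≫ pullback.fst (phi M) (e2 M)
    have hp : p ≫ phi M = lift 1 1 := by
      show (g ≫ pullback.fst (phi M) (e2 M)) ≫ phi M = _
      rw [Category.assoc, pullback.condition, ← Category.assoc, ← toUnit_e2]
      congr 1
      exact toUnit_unique _ _
    have hp' : lift (p ≫ fst M M) (p ≫ snd M M) ≫ phi M = lift 1 1 := by
      rw [← comp_lift, lift_fst_snd, Category.comp_id]; exact hp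
    rw [lift_phi] at hp'
    have h1 : (p ≫ fst M M) * (p ≫ snd M M) = 1 := by
      have := congr($hp' ≫ fst M M); simpa using this
    have h2 : (p ≫ snd M M) * (p ≫ fst M M) = 1 := by
      have := congr($hp' ≫ snd M M); simpa using this
    simp only [p, Category.assoc] at h1 h2
    exact ⟨h1, h2⟩
  have hf : g₁ ≫ pullback.fst (phi M) (e2 M) ≫ fst M M =
      g₂ ≫ pullback.fst (phi M) (e2 M) ≫ fst M M := h
  have hs : g₁ ≫ pullback.fst (phi M) (e2 M) ≫ snd M M =
      g₂ ≫ pullback.fst (phi M) (e2 M) ≫ snd M M := by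
    obtain ⟨a1, a2⟩ := key g₁
    obtain ⟨b1, b2⟩ := key g₂
    rw [hf] at a1 a2
    exact left_inv_eq_right_inv a2 b1
  apply pullback.hom_ext
  · apply CartesianMonoidalCategory.hom_ext
    · simpa using hf
    · simpa using hs
  · exact toUnit_unique _ _

end Groth.Agent.H9.UNM
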