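import Mathlib
import Groth.Agent.Lib.Helper9.Misc.UNM1

/-! Helper9: the unit group of a monoid scheme is representable (S18821) and of finite type for algebraic monoids over a field (S18830). -/

set_option linter.style.haveILetI false
set_option linter.unusedSectionVars false

namespace Groth.Agent.H9.UNM

universe u

open CategoryTheory CategoryTheory.Limits AlgebraicGeometry MonoidalCategory
  CartesianMonoidalCategory MonObj

variable {S : Scheme.{u}} (M : Over S) [MonObj M]

theorem isPullback_units_left :
    IsPullback (pullback.fst (phi M) (e2 M)).left (pullback.snd (phi M) (e2 M)).left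
      (phi M).left (e2 M).left :=
  (IsPullback.of_hasPullback (phi M) (e2 M)).map (Over.forget S)

theorem isAffine_units [IsAffine S] (h : IsAffine M.left) : IsAffine (units M).left := by
  have h1 : IsAffine (M ⊗ M).left := by
    show IsAffine (pullback M.hom M.hom)
    infer_instance
  have h2 : IsAffine (𝟙_ (Over S)).left := by
    show IsAffine S
    infer_instance
  exact IsAffine.of_isIso (isPullback_units_left M).isoPullback.hom

theorem S18821_main (k : Type u) [CommRing k]
    (M : Over (Spec (CommRingCat.of k))) [MonObj M] :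
    ∃ (G : Over (Spec (CommRingCat.of k))) (i : G ⟶ M), Mono i ∧
      (∀ (T : Over (Spec (CommRingCat.of k))) (m : T ⟶ M), (∃ g : T ⟶ G, g ≫ i = m) ↔ IsUnit m) ∧
      (IsAffine M.left → IsAffine G.left) :=
  ⟨units M, unitsι M, inferInstance, fun _ m ↦ unitsι_factor_iff m, isAffine_units M⟩

/-- Any representing object of the unit functor is isomorphic to `units M`. -/
theorem exists_iso_units {G : Over S} (i : G ⟶ M) [Mono i]
    (hi : ∀ (T : Over S) (m : T ⟶ M), (∃ g : T ⟶ G, g ≫ i = m) ↔ IsUnit m) :
    ∃ a : G ≅ units M, a.hom ≫ unitsι M = i := by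
  obtain ⟨a, ha⟩ := (unitsι_factor_iff i).mpr ((hi G i).mp ⟨𝟙 G, Category.id_comp _⟩)
  obtain ⟨b, hb⟩ := (hi _ (unitsι M)).mpr
    ((unitsι_factor_iff (unitsι M)).mp ⟨𝟙 _, Category.id_comp _⟩)
  refine ⟨⟨a, b, ?_, ?_⟩, ha⟩
  · rw [← cancel_mono i, Category.assoc, hb, ha, Category.id_comp]
  · rw [← cancel_mono (unitsι M), Category.assoc, ha, hb, Category.id_comp]

theorem S18830_main (k : Type u) [Field k]
    (M G : Over (Spec (CommRingCat.of k))) [MonObj M] [LocallyOfFiniteType M.hom]
    [QuasiCompact M.hom]
    (i : G ⟶ M) [Mono i]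
    (hi : ∀ (T : Over (Spec (CommRingCat.of k))) (m : T ⟶ M), (∃ g : T ⟶ G, g ≫ i = m) ↔ IsUnit m) :
    LocallyOfFiniteType G.hom ∧ QuasiCompact G.hom := by
  obtain ⟨a, -⟩ := exists_iso_units M i hi
  have hMM1 : LocallyOfFiniteType (M ⊗ M).hom := by
    show LocallyOfFiniteType (pullback.fst M.hom M.hom ≫ M.hom)
    infer_instance
  have hMM2 : QuasiCompact (M ⊗ M).hom := by
    show QuasiCompact (pullback.fst M.hom M.hom ≫ M.hom)
    infer_instance
  have hn : IsLocallyNoetherian (M ⊗ M).left := LocallyOfFiniteType.isLocallyNoetherian (M ⊗ M).hom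
  have he1 : LocallyOfFiniteType (e2 M).left := by
    have : LocallyOfFiniteType ((e2 M).left ≫ (M ⊗ M).hom) := by
      rw [Over.w]
      show LocallyOfFiniteType (𝟙 _)
      infer_instance
    exact locallyOfFiniteType_of_comp (e2 M).left (M ⊗ M).hom
  have he2 : QuasiCompact (e2 M).left := by
    have : CompactSpace (𝟙_ (Over (Spec (CommRingCat.of k)))).left := by
      show CompactSpace (Spec (CommRingCat.of k))
      infer_instance
    infer_instance
  have hp1 : LocallyOfFiniteType (pullback.fst (phi M) (e2 M)).left :=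
    MorphismProperty.of_isPullback (P := @LocallyOfFiniteType) (isPullback_units_left M).flip he1
  have hp2 : QuasiCompact (pullback.fst (phi M) (e2 M)).left :=
    MorphismProperty.of_isPullback (P := @QuasiCompact) (isPullback_units_left M).flip he2
  have hu : (units M).hom = (pullback.fst (phi M) (e2 M)).left ≫ (M ⊗ M).hom :=
    (Over.w (pullback.fst (phi M) (e2 M))).symm
  have hG : G.hom = a.hom.left ≫ (units M).hom := (Over.w a.hom).symm
  have : IsIso a.hom.left := inferInstanceAs (IsIso ((Over.forget _).map a.hom))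
  rw [hG, hu]
  exact ⟨inferInstance, inferInstance⟩

end Groth.Agent.H9.UNM
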