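import Mathlib

/-! Helper9: centralizer of a regular upper triangular matrix -/

namespace Groth.Agent.H9.UTCent

open Matrix

variable {R : Type*} [CommRing R] {n : ℕ}

/-- `x` commutes with a strictly upper triangular `N` with regular superdiagonal: `x` is upper triangular. -/
theorem tri (x N : Matrix (Fin n) (Fin n) R)
    (hN : ∀ i j : Fin n, j ≤ i → N i j = 0)
    (hreg : ∀ (i j : Fin n), j.val = i.val + 1 → IsUnit (N i j))
    (hc : x * N = N * x) : ∀ i j : Fin n, j < i → x i j = 0 := by
  have key : ∀ m : ℕ, ∀ i j : Fin n, j < i → j.val * n + (n - 1 - i.val) = m → x i j = 0 := by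
    intro m
    induction m using Nat.strong_induction_on with
    | _ m ih =>
      intro i j hji hm
      have hi0 : 0 < i.val := lt_of_le_of_lt (Nat.zero_le _) hji
      -- predecessor of i
      let i' : Fin n := ⟨i.val - 1, by omega⟩
      have hi' : i.val = i'.val + 1 := by simp [i']; omega
      have hent := congrFun (congrFun hc i') j
      simp only [Matrix.mul_apply] at hent
      have hL : ∑ l, x i' l * N l j = 0 := by
        apply Finset.sum_eq_zero
        intro l _
        by_cases hlj : l < j
        · have : x i' l = 0 := by
            apply ih (l.val * n + (n - 1 - i'.val)) _ i' l _ rfl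
            · have h1 : l.val < j.val := hlj
              have h2 : j.val < i.val := hji
              have h3 : i.val < n := i.isLt
              have : l.val * n + n ≤ j.val * n := by nlinarith
              subst hm
              simp [i']
              omega
            · show l.val < i'.val
              have h1 : l.val < j.val := hlj
              have h2 : j.val < i.val := hji
              simp [i']; omega
          rw [this, zero_mul]
        · rw [hN l j (not_lt.mp hlj), mul_zero]
      have hRs : ∑ l, N i' l * x l j = N i' i * x i j := by
        apply Finset.sum_eq_single i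
        · intro l _ hli
          rcases lt_or_gt_of_ne hli with h | h
          · have : l ≤ i' := by
              show l.val ≤ i'.val
              have : l.val < i.val := h
              simp [i']; omega
            rw [hN i' l this, zero_mul]
          · have : x l j = 0 := by
              apply ih (j.val * n + (n - 1 - l.val)) _ l j (lt_trans hji h) rfl
              have h1 : i.val < l.val := h
              have h3 : l.val < n := l.isLt
              subst hm
              omega
            rw [this, mul_zero]
        · intro h; exact absurd (Finset.mem_univ _) h
      rw [hL, hRs] at hent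
      have hu := hreg i' i hi'
      exact (hu.mul_right_eq_zero).mp hent.symm
  intro i j hji
  exact key _ i j hji rfl

theorem diag (x N : Matrix (Fin n) (Fin n) R)
    (hN : ∀ i j : Fin n, j ≤ i → N i j = 0)
    (hreg : ∀ (i j : Fin n), j.val = i.val + 1 → IsUnit (N i j))
    (hc : x * N = N * x) : ∀ i j : Fin n, x i i = x j j := by
  have htri := tri x N hN hreg hc
  have step : ∀ i j : Fin n, j.val = i.val + 1 → x i i = x j j := by
    intro i j hij
    have hent := congrFun (congrFun hc i) j
    simp only [Matrix.mul_apply] at hent
    have hL : ∑ l, x i l * N l j = x i i * N i j := by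
      apply Finset.sum_eq_single i
      · intro l _ hli
        rcases lt_or_gt_of_ne hli with h | h
        · rw [htri i l h, zero_mul]
        · have : j ≤ l := by
            show j.val ≤ l.val
            have : i.val < l.val := h
            omega
          rw [hN l j this, mul_zero]
      · intro h; exact absurd (Finset.mem_univ _) h
    have hRs : ∑ l, N i l * x l j = N i j * x j j := by
      apply Finset.sum_eq_single j
      · intro l _ hlj
        rcases lt_or_gt_of_ne hlj with h | h
        · have : l ≤ i := by
            show l.val ≤ i.val
            have : l.val < j.val := h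
            omega
          rw [hN i l this, zero_mul]
        · rw [htri l j h, mul_zero]
      · intro h; exact absurd (Finset.mem_univ _) h
    rw [hL, hRs, mul_comm] at hent
    exact (hreg i j hij).mul_right_injective hent
  have all0 : ∀ m : ℕ, ∀ i j : Fin n, j.val = i.val + m → x i i = x j j := by
    intro m
    induction m with
    | zero => intro i j h; have : i = j := Fin.ext (by omega); rw [this]
    | succ m ih =>
      intro i j h
      let j' : Fin n := ⟨i.val + m, by omega⟩
      rw [ih i j' rfl]
      exact step j' j (by simp [j']; omega)
  intro i j
  rcases le_total i j with h | h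
  · exact all0 (j.val - i.val) i j (by have : i.val ≤ j.val := h; omega)
  · exact (all0 (i.val - j.val) j i (by have : j.val ≤ i.val := h; omega)).symm

theorem main (k : Type*) [Field k] (n : ℕ)
    (u : Matrix (Fin n) (Fin n) k) (htri : ∀ i j : Fin n, j < i → u i j = 0) (hdiag : ∀ i j : Fin n, u i i = u j j)
    (hreg : ∀ (i j : Fin n), j.val = i.val + 1 → u i j ≠ 0)
    (R : Type*) [CommRing R] [Algebra k R] (x : Matrix (Fin n) (Fin n) R)
    (hxu : x * u.map (algebraMap k R) = u.map (algebraMap k R) * x) :
    (∀ i j : Fin n, j < i → x i j = 0) ∧ (∀ i j : Fin n, x i i = x j j) := by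
  rcases Nat.eq_zero_or_pos n with hn | hn
  · subst hn
    exact ⟨fun i => i.elim0, fun i => i.elim0⟩
  let i0 : Fin n := ⟨0, hn⟩
  let c : R := algebraMap k R (u i0 i0)
  let N : Matrix (Fin n) (Fin n) R := u.map (algebraMap k R) - c • (1 : Matrix (Fin n) (Fin n) R)
  have hc : x * N = N * x := by
    simp only [N, mul_sub, sub_mul, Matrix.mul_smul, Matrix.smul_mul, mul_one, one_mul, hxu]
  have hN : ∀ i j : Fin n, j ≤ i → N i j = 0 := by
    intro i j hji
    rcases eq_or_lt_of_le hji with h | h
    · subst h
      show (u.map (algebraMap k R) - c • (1 : Matrix (Fin n) (Fin n) R)) j j = 0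
      rw [Matrix.sub_apply, Matrix.smul_apply, Matrix.one_apply_eq, Matrix.map_apply, smul_eq_mul, mul_one, hdiag j i0]
      exact sub_self _
    · have hne : i ≠ j := ne_of_gt h
      simp [N, htri i j h, hne]
  have hreg' : ∀ (i j : Fin n), j.val = i.val + 1 → IsUnit (N i j) := by
    intro i j hij
    have hne : i ≠ j := by
      intro h; rw [h] at hij; omega
    have : N i j = algebraMap k R (u i j) := by simp [N, hne]
    rw [this]
    exact (IsUnit.mk0 _ (hreg i j hij)).map _
  exact ⟨tri x N hN hreg' hc, diag x N hN hreg' hc⟩

end Groth.Agent.H9.UTCent
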