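import Mathlib
set_option autoImplicit false
set_option linter.unusedSectionVars false
set_option linter.unusedVariables false

namespace Groth.Agent.H9.Ufd

theorem L1 {R : Type*} [CommRing R] [IsDomain R] {x a : R} (hx : Prime x) (hxa : ¬ x ∣ a) :
    ∀ (k : ℕ) (r b : R), a * r = x ^ k * b → ∃ r', r = x ^ k * r' ∧ a * r' = b := by
  intro k
  induction k with
  | zero =>
    intro r b h
    exact ⟨r, by rw [pow_zero, one_mul], by rw [h, pow_zero, one_mul]⟩
  | succ k ih =>
    intro r b h
    have h1 : x ∣ a * r := ⟨x ^ k * b, by rw [h, pow_succ]; ring⟩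
    rcases hx.dvd_or_dvd h1 with h2 | h2
    · exact absurd h2 hxa
    · obtain ⟨r1, rfl⟩ := h2
      have h3 : a * r1 = x ^ k * b := by
        apply mul_left_cancel₀ hx.ne_zero
        rw [pow_succ] at h
        linear_combination h
      obtain ⟨r', rfl, hr'⟩ := ih r1 b h3
      exact ⟨r', by rw [pow_succ]; ring, hr'⟩

theorem L2 {R : Type*} [CommRing R] [IsDomain R] {x u v : R} (hx : Prime x) (hu : ¬ x ∣ u)
    (hv : ¬ x ∣ v) {m n : ℕ} (h : x ^ m * u = x ^ n * v) : u = v := by
  rcases le_total m n with hmn | hmn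
  · obtain ⟨e, rfl⟩ := Nat.exists_eq_add_of_le hmn
    rw [pow_add, mul_assoc] at h
    have h1 := mul_left_cancel₀ (pow_ne_zero m hx.ne_zero) h
    rcases Nat.eq_zero_or_pos e with he | he
    · rw [he, pow_zero, one_mul] at h1; exact h1
    · exfalso; apply hu; rw [h1]; exact Dvd.dvd.mul_right (dvd_pow_self x (by omega)) v
  · obtain ⟨e, rfl⟩ := Nat.exists_eq_add_of_le hmn
    rw [pow_add, mul_assoc] at h
    have h1 := mul_left_cancel₀ (pow_ne_zero n hx.ne_zero) h
    rcases Nat.eq_zero_or_pos e with he | he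
    · rw [he, pow_zero, one_mul] at h1; exact h1
    · exfalso; apply hv; rw [← h1]; exact Dvd.dvd.mul_right (dvd_pow_self x (by omega)) u

/-- Nagata-type criterion: `R ⊆ P ⊆ R[1/x]`, `P` factorial, `x` prime in `R` and in `P` -/
theorem ufd_of_embedding {R P : Type*} [CommRing R] [IsDomain R] [IsNoetherianRing R]
    [CommRing P] [IsDomain P] [UniqueFactorizationMonoid P]
    (φ : R →+* P) (hφ : Function.Injective φ) (x : R) (hx : Prime x) (hy : Prime (φ x))
    (hgen : ∀ p : P, ∃ (k : ℕ) (r : R), φ x ^ k * p = φ r) : UniqueFactorizationMonoid R := by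
  classical
  have hwf : WfDvdMonoid R := IsNoetherianRing.wfDvdMonoid
  refine { toIsWellFounded := hwf, irreducible_iff_prime := ?_ }
  intro a
  refine ⟨fun ha => ?_, Prime.irreducible⟩
  by_cases hxa : x ∣ a
  · obtain ⟨u, rfl⟩ := hxa
    rcases ha.isUnit_or_isUnit rfl with h | h
    · exact absurd h hx.not_isUnit
    · exact (associated_mul_unit_right x u h).prime hx
  · have hrep : ∀ p : P, ¬ φ x ∣ p → ∃ (l : ℕ) (r : R), φ x ^ l * p = φ r ∧ ¬ x ∣ r := by
      intro p hp
      have hex := hgen p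
      have hmin := @Nat.find_min _ _ hex
      obtain ⟨r, hr⟩ := Nat.find_spec hex
      generalize Nat.find hex = l at hmin hr
      refine ⟨l, r, hr, ?_⟩
      rintro ⟨r', rfl⟩
      rcases Nat.eq_zero_or_pos l with hl | hl
      · rw [hl, pow_zero, one_mul, map_mul] at hr
        exact hp ⟨φ r', hr⟩
      · apply hmin (m := l - 1) (by omega)
        refine ⟨r', ?_⟩
        apply mul_left_cancel₀ hy.ne_zero
        rw [← mul_assoc, ← pow_succ', show l - 1 + 1 = l by omega, hr, map_mul]
    have ha0 : φ a ≠ 0 := by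
      intro h0; apply ha.ne_zero; apply hφ; rw [h0, map_zero]
    obtain ⟨j, q, hyq, hAq⟩ := WfDvdMonoid.max_power_factor ha0 hy.irreducible
    have hkey : ∀ b : R, q ∣ φ b → a ∣ b := by
      rintro b ⟨e, he⟩
      obtain ⟨l, r, hlr⟩ := hgen e
      have h1 : a * r = x ^ (j + l) * b := by
        apply hφ
        rw [map_mul, map_mul, map_pow, hAq, he, ← hlr]; ring
      obtain ⟨r', -, hr'⟩ := L1 hx hxa (j + l) r b h1
      exact ⟨r', hr'.symm⟩
    have hq_irr : Irreducible q := by
      refine ⟨?_, ?_⟩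
      · intro hqu
        have : a ∣ 1 := hkey 1 (by rw [map_one]; exact hqu.dvd)
        exact ha.not_isUnit (isUnit_of_dvd_one this)
      · intro q1 q2 hq12
        have hy1 : ¬ φ x ∣ q1 := fun h => hyq (by rw [hq12]; exact Dvd.dvd.mul_right h q2)
        have hy2 : ¬ φ x ∣ q2 := fun h => hyq (by rw [hq12]; exact Dvd.dvd.mul_left h q1)
        obtain ⟨l1, r1, h1, hx1⟩ := hrep q1 hy1
        obtain ⟨l2, r2, h2, hx2⟩ := hrep q2 hy2
        have hx12 : ¬ x ∣ r1 * r2 := fun h => (hx.dvd_or_dvd h).elim hx1 hx2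
        have heq : x ^ j * (r1 * r2) = x ^ (l1 + l2) * a := by
          apply hφ
          rw [map_mul, map_mul, map_mul, map_pow, map_pow, ← h1, ← h2, hAq, hq12]; ring
        have h3 : r1 * r2 = a := L2 hx hx12 hxa heq
        rcases ha.isUnit_or_isUnit h3.symm with hu | hu
        · left
          have : IsUnit (φ x ^ l1 * q1) := by rw [h1]; exact hu.map φ
          exact isUnit_of_mul_isUnit_right this
        · right
          have : IsUnit (φ x ^ l2 * q2) := by rw [h2]; exact hu.map φ
          exact isUnit_of_mul_isUnit_right this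
    have hq_prime : Prime q := UniqueFactorizationMonoid.irreducible_iff_prime.1 hq_irr
    refine ⟨ha.ne_zero, ha.not_isUnit, ?_⟩
    intro b c hbc
    have h1 : q ∣ φ b * φ c := by
      rw [← map_mul]
      exact dvd_trans ⟨φ x ^ j, by rw [hAq]; ring⟩ (map_dvd φ hbc)
    rcases hq_prime.dvd_or_dvd h1 with h | h
    · exact Or.inl (hkey b h)
    · exact Or.inr (hkey c h)

theorem prime_mk_iff {S : Type*} [CommRing S] (J : Ideal S) (a : S) (ha : a ∉ J) :
    Prime (Ideal.Quotient.mk J a) ↔ (J ⊔ Ideal.span {a}).IsPrime := by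
  have hne : Ideal.Quotient.mk J a ≠ 0 := fun h => ha (Ideal.Quotient.eq_zero_iff_mem.1 h)
  have hmap : Ideal.span {Ideal.Quotient.mk J a} =
      Ideal.map (Ideal.Quotient.mk J) (J ⊔ Ideal.span {a}) := by
    rw [Ideal.map_sup, Ideal.map_quotient_self, bot_sup_eq, Ideal.map_span, Set.image_singleton]
  rw [← Ideal.span_singleton_prime hne, hmap]
  constructor
  · intro h
    haveI := h
    have h2 := Ideal.comap_isPrime (Ideal.Quotient.mk J)
      (Ideal.map (Ideal.Quotient.mk J) (J ⊔ Ideal.span {a}))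
    rw [Ideal.comap_map_of_surjective _ Ideal.Quotient.mk_surjective,
      ← RingHom.ker_eq_comap_bot, Ideal.mk_ker, sup_eq_left.2 le_sup_left] at h2
    exact h2
  · intro h
    haveI := h
    apply Ideal.map_isPrime_of_surjective Ideal.Quotient.mk_surjective
    rw [Ideal.mk_ker]
    exact le_sup_left

end Groth.Agent.H9.Ufd
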