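import Mathlib
import Groth.Prelude.Def_W4bk4grassmannianPl
import Groth.Agent.Lib.Helper9.Misc.LdtF
set_option autoImplicit false
set_option linter.unusedSectionVars false
set_option linter.unusedVariables false

namespace Groth.Agent.H9.Ufd

open W4bk4grassmannian
open Groth.Agent.H9

variable {d n : ℕ}

/-- position `t` of `τ` can be decreased by one -/
def Dec (τ : Idx d n) (t : Fin d) : Prop :=
  t.val < (τ.1 t).val ∧ ∀ t' : Fin d, t'.val + 1 = t.val → (τ.1 t').val + 1 < (τ.1 t).val

/-- `τ` with position `t` decreased by one -/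
def decFun (τ : Idx d n) (t : Fin d) : Fin d → Fin n :=
  Function.update τ.1 t ⟨(τ.1 t).val - 1, by have := (τ.1 t).2; omega⟩

theorem decFun_self (τ : Idx d n) (t : Fin d) : (decFun τ t t).val = (τ.1 t).val - 1 := by
  unfold decFun; rw [Function.update_self]

theorem decFun_ne (τ : Idx d n) (t c : Fin d) (h : c ≠ t) : decFun τ t c = τ.1 c := by
  unfold decFun; rw [Function.update_of_ne h]

theorem decFun_strictMono (τ : Idx d n) (t : Fin d) (h : Dec τ t) : StrictMono (decFun τ t) := by
  intro a b hab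
  rw [Fin.lt_def]
  have hτ : (τ.1 a).val < (τ.1 b).val := Fin.lt_def.1 (τ.2 hab)
  have hab' : a.val < b.val := Fin.lt_def.1 hab
  by_cases ha : a = t
  · have hb : b ≠ t := by
      intro hb
      rw [ha, hb] at hab'
      exact lt_irrefl _ hab'
    rw [ha, decFun_self, decFun_ne τ t b hb]
    rw [ha] at hτ
    omega
  · by_cases hb : b = t
    · rw [hb, decFun_self, decFun_ne τ t a ha]
      rw [hb] at hab' hτ
      by_cases h1 : a.val + 1 = t.val
      · have := h.2 a h1; omega
      · have h2 := Ldt.gap_of_strictMono τ.1 τ.2 a t (Fin.le_def.2 (by omega))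
        omega
    · rw [decFun_ne τ t a ha, decFun_ne τ t b hb]; exact hτ

def dec (τ : Idx d n) (t : Fin d) (h : Dec τ t) : Idx d n :=
  ⟨decFun τ t, decFun_strictMono τ t h⟩

theorem dec_mem (τ : Idx d n) (t : Fin d) (h : Dec τ t) : dec τ t h ∈ divisors τ := by
  show dec τ t h < τ ∧ codeg (dec τ t h) + 1 = codeg τ
  constructor
  · apply lt_of_le_of_ne
    · intro c
      show decFun τ t c ≤ τ.1 c
      by_cases hc : c = t
      · rw [hc, Fin.le_def, decFun_self]; omega
      · rw [decFun_ne τ t c hc]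
    · intro heq
      have h3 := congrArg (fun φ : Idx d n => (φ.1 t).val) heq
      have h2 : (decFun τ t t).val = (τ.1 t).val := h3
      rw [decFun_self] at h2
      have := h.1
      omega
  · unfold codeg
    rw [← Finset.add_sum_erase Finset.univ _ (Finset.mem_univ t),
      ← Finset.add_sum_erase Finset.univ (fun c => (τ.1 c).val - c.val) (Finset.mem_univ t)]
    have h1 : ∑ c ∈ Finset.univ.erase t, (((dec τ t h).1 c).val - c.val) =
        ∑ c ∈ Finset.univ.erase t, ((τ.1 c).val - c.val) := by
      apply Finset.sum_congr rfl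
      intro c hc
      have hne : c ≠ t := Finset.ne_of_mem_erase hc
      show (decFun τ t c).val - c.val = _
      rw [decFun_ne τ t c hne]
    rw [h1]
    have h2 : ((dec τ t h).1 t).val = (τ.1 t).val - 1 := decFun_self τ t
    rw [h2]
    have := h.1
    omega

theorem exists_dec_of_mem (τ φ : Idx d n) (hφ : φ ∈ divisors τ) :
    ∃ t, ∃ h : Dec τ t, φ = dec τ t h := by
  obtain ⟨hlt, hco⟩ := (show φ < τ ∧ codeg φ + 1 = codeg τ from hφ)
  have hle : ∀ c, (φ.1 c).val ≤ (τ.1 c).val := fun c => Fin.le_def.1 (hlt.le c)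
  have hφc : ∀ c : Fin d, c.val ≤ (φ.1 c).val := SMT.le_of_strictMono φ.1 φ.2
  have hsum : ∑ c : Fin d, ((τ.1 c).val - (φ.1 c).val) = 1 := by
    unfold codeg at hco
    have h1 : ∑ c : Fin d, ((τ.1 c).val - c.val) =
        ∑ c : Fin d, ((φ.1 c).val - c.val) + ∑ c : Fin d, ((τ.1 c).val - (φ.1 c).val) := by
      rw [← Finset.sum_add_distrib]
      apply Finset.sum_congr rfl
      intro c _
      have := hle c
      have := hφc c
      omega
    omega
  have hex : ∃ t ∈ Finset.univ, (τ.1 t).val - (φ.1 t).val ≠ 0 := by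
    apply Finset.exists_ne_zero_of_sum_ne_zero
    rw [hsum]; exact one_ne_zero
  obtain ⟨t, -, ht⟩ := hex
  have hsplit := Finset.add_sum_erase Finset.univ (fun c => (τ.1 c).val - (φ.1 c).val)
    (Finset.mem_univ t)
  rw [hsum] at hsplit
  have hsplit' : ((τ.1 t).val - (φ.1 t).val) +
      ∑ c ∈ Finset.univ.erase t, ((τ.1 c).val - (φ.1 c).val) = 1 := hsplit
  have hδt : (τ.1 t).val - (φ.1 t).val = 1 := by omega
  have hrest : ∑ c ∈ Finset.univ.erase t, ((τ.1 c).val - (φ.1 c).val) = 0 := by omega
  have hzero : ∀ c, c ≠ t → (φ.1 c).val = (τ.1 c).val := by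
    intro c hc
    have := (Finset.sum_eq_zero_iff.1 hrest) c (Finset.mem_erase.2 ⟨hc, Finset.mem_univ _⟩)
    have := hle c
    omega
  have hDec : Dec τ t := by
    constructor
    · have := hφc t; omega
    · intro t' ht'
      have h1 : (φ.1 t').val < (φ.1 t).val := Fin.lt_def.1 (φ.2 (Fin.lt_def.2 (by omega)))
      have h2 := hzero t' (by intro h; rw [h] at ht'; omega)
      omega
  refine ⟨t, hDec, ?_⟩
  apply Subtype.ext
  funext c
  apply Fin.ext
  show (φ.1 c).val = (decFun τ t c).val
  by_cases hc : c = t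
  · rw [hc, decFun_self]; omega
  · rw [decFun_ne τ t c hc]; exact hzero c hc

theorem subsingleton_iff (τ : Idx d n) :
    (divisors τ).Subsingleton ↔ ∀ t1 t2, Dec τ t1 → Dec τ t2 → t1 = t2 := by
  constructor
  · intro hs t1 t2 h1 h2
    have := hs (dec_mem τ t1 h1) (dec_mem τ t2 h2)
    by_contra hne
    have h3 := congrArg (fun φ : Idx d n => (φ.1 t1).val) this
    have h4 : (decFun τ t1 t1).val = (decFun τ t2 t1).val := h3
    rw [decFun_self, decFun_ne τ t2 t1 hne] at h4
    have := h1.1
    omega
  · intro h φ1 hφ1 φ2 hφ2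
    obtain ⟨t1, h1, rfl⟩ := exists_dec_of_mem τ φ1 hφ1
    obtain ⟨t2, h2, rfl⟩ := exists_dec_of_mem τ φ2 hφ2
    have := h t1 t2 h1 h2
    subst this
    rfl

theorem atMostOne_iff (hd : 0 < d) (τ : Idx d n) :
    (∀ t1 t2, Dec τ t1 → Dec τ t2 → t1 = t2) ↔
      ∃ s : ℕ, (∀ t : Fin d, t.val < s → (τ.1 t).val = t.val) ∧
        ∀ t t' : Fin d, s ≤ t.val → t.val + 1 = t'.val → (τ.1 t).val + 1 = (τ.1 t').val := by
  have hge : ∀ c : Fin d, c.val ≤ (τ.1 c).val := SMT.le_of_strictMono τ.1 τ.2
  constructor
  · intro h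
    obtain ⟨s, hs1, hs2⟩ : ∃ s : ℕ, (∀ t : Fin d, t.val < s → ¬ Dec τ t) ∧
        (∀ t : Fin d, s < t.val → ¬ Dec τ t) := by
      by_cases hex : ∃ t, Dec τ t
      · obtain ⟨t0, ht0⟩ := hex
        refine ⟨t0.val, ?_, ?_⟩
        · intro t ht hD
          have := h t t0 hD ht0
          rw [this] at ht
          exact lt_irrefl _ ht
        · intro t ht hD
          have := h t t0 hD ht0
          rw [this] at ht
          exact lt_irrefl _ ht
      · exact ⟨d, fun t _ hD => hex ⟨t, hD⟩, fun t _ hD => hex ⟨t, hD⟩⟩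
    refine ⟨s, ?_, ?_⟩
    · have key : ∀ m : ℕ, ∀ t : Fin d, t.val = m → t.val < s → (τ.1 t).val = t.val := by
        intro m
        induction m using Nat.strong_induction_on with
        | _ m ih =>
          intro t htm hts
          have hnD := hs1 t hts
          unfold Dec at hnD
          rw [not_and_or] at hnD
          rcases hnD with h1 | h1
          · have := hge t; omega
          · push Not at h1
            obtain ⟨t', ht', h2⟩ := h1
            have h3 := ih t'.val (by omega) t' rfl (by omega)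
            have := hge t
            omega
      intro t hts
      exact key t.val t rfl hts
    · intro t t' hst htt'
      have hnD := hs2 t' (by omega)
      unfold Dec at hnD
      rw [not_and_or] at hnD
      have hlt : (τ.1 t).val < (τ.1 t').val := Fin.lt_def.1 (τ.2 (Fin.lt_def.2 (by omega)))
      rcases hnD with h1 | h1
      · have := hge t'
        have := hge t
        omega
      · push Not at h1
        obtain ⟨t'', ht'', h2⟩ := h1
        have : t'' = t := Fin.ext (by omega)
        rw [this] at h2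
        omega
  · rintro ⟨s, hs1, hs2⟩ t1 t2 h1 h2
    have key : ∀ t, Dec τ t → t.val = s := by
      intro t hD
      by_contra hne
      rcases Nat.lt_or_gt_of_ne hne with h | h
      · have := hs1 t h
        have := hD.1
        omega
      · have hpos : 0 < t.val := by omega
        have h3 := hs2 ⟨t.val - 1, by have := t.2; omega⟩ t (by show s ≤ t.val - 1; omega)
          (by show t.val - 1 + 1 = t.val; omega)
        have h4 := hD.2 ⟨t.val - 1, by have := t.2; omega⟩ (by show t.val - 1 + 1 = t.val; omega)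
        omega
    exact Fin.ext (by rw [key t1 h1, key t2 h2])

theorem eq_of_le_of_codeg {φ ψ : Idx d n} (h : φ ≤ ψ) (hc : codeg φ = codeg ψ) : φ = ψ := by
  have hφc : ∀ c : Fin d, c.val ≤ (φ.1 c).val := SMT.le_of_strictMono φ.1 φ.2
  have hle : ∀ c, (φ.1 c).val - c.val ≤ (ψ.1 c).val - c.val := by
    intro c
    have : (φ.1 c).val ≤ (ψ.1 c).val := Fin.le_def.1 (h c)
    omega
  unfold codeg at hc
  have := (Finset.sum_eq_sum_iff_of_le (fun c _ => hle c)).1 hc
  apply Subtype.ext
  funext c
  apply Fin.ext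
  have h1 := this c (Finset.mem_univ c)
  have h2 := hφc c
  have h3 : (φ.1 c).val ≤ (ψ.1 c).val := Fin.le_def.1 (h c)
  omega

end Groth.Agent.H9.Ufd
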