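import Mathlib
import Groth.Prelude.Def_W4bk4grassmannianPl
import Groth.Agent.Lib.Helper9.Misc.UfdA
import Groth.Agent.Lib.Helper9.Misc.UfdB
import Groth.Agent.Lib.Helper9.Misc.NrmC
set_option autoImplicit false
set_option linter.unusedSectionVars false
set_option linter.unusedVariables false

universe u

namespace Groth.Agent.H9.Ufd

open MvPolynomial W4bk4grassmannian
open Groth.Agent.H9

variable (K : Type u) [Field K] {d n : ℕ}

/-- the embedding of the cone over `X(τ)` into the coordinate ring of the cone over its big cell -/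
theorem exists_embedding [Infinite K] (hd : 0 < d) (τ : Idx d n) :
    ∃ φ : (PlRing K d n ⧸ schubertVanishing K d n τ) →+* MvPolynomial (Option (Nrm.W τ)) K,
      Function.Injective φ ∧ φ (Ideal.Quotient.mk _ (X τ)) = X none ∧
      (∀ c : K, φ (algebraMap K _ c) = C c) ∧
      ∀ p, ∃ (k : ℕ) (r : PlRing K d n ⧸ schubertVanishing K d n τ), (X none) ^ k * p = φ r := by
  have hker : ∀ f ∈ schubertVanishing K d n τ, (Nrm.Nu K τ).toRingHom f = 0 :=
    fun f hf => Nrm.Nu_schubert K τ hd hf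
  refine ⟨Ideal.Quotient.lift _ (Nrm.Nu K τ).toRingHom hker, ?_, ?_, ?_, ?_⟩
  · rw [injective_iff_map_eq_zero]
    intro r hr
    obtain ⟨g, rfl⟩ := Ideal.Quotient.mk_surjective r
    rw [Ideal.Quotient.lift_mk] at hr
    rw [Ideal.Quotient.eq_zero_iff_mem, ← Nrm.ker_Nu K hd τ, RingHom.mem_ker]
    exact hr
  · rw [Ideal.Quotient.lift_mk]
    exact Nrm.Nu_X_tau K τ
  · intro c
    have h1 : algebraMap K (PlRing K d n ⧸ schubertVanishing K d n τ) c =
        Ideal.Quotient.mk _ (C c) := rfl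
    rw [h1, Ideal.Quotient.lift_mk]
    show Nrm.Nu K τ (C c) = C c
    unfold Nrm.Nu
    rw [aeval_C]
    rfl
  · intro p
    obtain ⟨k, g, hg⟩ := Nrm.Nu_gen K τ p
    exact ⟨k, Ideal.Quotient.mk _ g, by rw [Ideal.Quotient.lift_mk]; exact hg⟩

theorem ufd_iff_prime [Infinite K] (hd : 0 < d) (τ : Idx d n) :
    UniqueFactorizationMonoid (PlRing K d n ⧸ schubertVanishing K d n τ) ↔
      Prime (Ideal.Quotient.mk (schubertVanishing K d n τ) (X τ)) := by
  classical
  haveI hP := Nrm.schubert_isPrime K hd τ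
  haveI hdom : IsDomain (PlRing K d n ⧸ schubertVanishing K d n τ) := Ideal.Quotient.isDomain _
  obtain ⟨φ, hφ, hφx, hφc, hgen⟩ := exists_embedding K hd τ
  have hy : Prime (X none : MvPolynomial (Option (Nrm.W τ)) K) := MvPolynomial.X_prime
  have hunit : ∀ a, IsUnit (φ a) → IsUnit a := by
    intro a h
    obtain ⟨c, hc, hca⟩ := MvPolynomial.isUnit_iff_eq_C_of_isReduced.1 h
    have : a = algebraMap K _ c := hφ (by rw [hca, hφc])
    rw [this]
    exact hc.map (algebraMap K _)
  constructor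
  · intro hufd
    rw [← UniqueFactorizationMonoid.irreducible_iff_prime]
    refine ⟨?_, ?_⟩
    · intro hu
      have := hu.map φ
      rw [hφx] at this
      exact hy.not_isUnit this
    · intro a b hab
      have h1 : (X none : MvPolynomial (Option (Nrm.W τ)) K) = φ a * φ b := by
        rw [← map_mul, ← hab, hφx]
      rcases hy.irreducible.isUnit_or_isUnit h1 with h | h
      · exact Or.inl (hunit a h)
      · exact Or.inr (hunit b h)
  · intro hx
    exact ufd_of_embedding φ hφ _ hx (by rw [hφx]; exact hy)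
      (fun p => by rw [hφx]; exact hgen p)

theorem prime_iff_subsingleton [Infinite K] (hd : 0 < d) (hdn : d < n) (τ : Idx d n) :
    Prime (Ideal.Quotient.mk (schubertVanishing K d n τ) (X τ)) ↔ (divisors τ).Subsingleton := by
  classical
  rw [prime_mk_iff _ _ (Nrm.X_not_mem_schubert K hd τ τ le_rfl)]
  constructor
  · intro hQ φ1 hφ1 φ2 hφ2
    have hτ : ∃ φ : Idx d n, φ < τ := ⟨φ1, hφ1.1⟩
    rw [Ldt.divisor_inter K hd τ hτ] at hQ
    have hinf : (Finset.univ.filter (fun φ : Idx d n => φ ∈ divisors τ)).inf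
        (fun φ => schubertVanishing K d n φ) = ⨅ φ ∈ divisors τ, schubertVanishing K d n φ := by
      rw [Finset.inf_eq_iInf]
      apply iInf_congr
      intro φ
      refine iInf_congr_Prop ?_ ?_
      · simp
      · intro _; rfl
    obtain ⟨φ0, hφ0F, hφ0⟩ := (Ideal.IsPrime.inf_le' hQ).1 (le_of_eq hinf)
    have hφ0mem : φ0 ∈ divisors τ := (Finset.mem_filter.1 hφ0F).2
    have hle : ∀ φ ∈ divisors τ, φ ≤ φ0 := by
      intro φ hφ
      by_contra hn
      have h1 : (X φ : PlRing K d n) ∈ schubertVanishing K d n φ0 := Shf.X_mem_schubert K φ0 φ hn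
      have h2 := hφ0 h1
      have h3 : (⨅ φ ∈ divisors τ, schubertVanishing K d n φ) ≤ schubertVanishing K d n φ :=
        iInf₂_le φ hφ
      exact Nrm.X_not_mem_schubert K hd φ φ le_rfl (h3 h2)
    have hc : ∀ φ ∈ divisors τ, codeg φ = codeg φ0 := by
      intro φ hφ
      have h1 : codeg φ + 1 = codeg τ := hφ.2
      have h2 : codeg φ0 + 1 = codeg τ := hφ0mem.2
      omega
    rw [eq_of_le_of_codeg (hle φ1 hφ1) (hc φ1 hφ1), eq_of_le_of_codeg (hle φ2 hφ2) (hc φ2 hφ2)]
  · intro hs
    by_cases hτ : ∃ φ : Idx d n, φ < τ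
    · obtain ⟨φ', hφ'⟩ := hτ
      obtain ⟨φ0, hφ0, -⟩ := SchubDiv.S11268_main d n φ' τ hφ'
      rw [Ldt.divisor_inter K hd τ ⟨φ', hφ'⟩]
      have : (⨅ φ ∈ divisors τ, schubertVanishing K d n φ) = schubertVanishing K d n φ0 := by
        apply le_antisymm (iInf₂_le φ0 hφ0)
        apply le_iInf₂
        intro φ hφ
        rw [hs hφ hφ0]
      rw [this]
      exact Nrm.schubert_isPrime K hd φ0
    · have hτι : τ = Ldt.iota hdn := by
        by_contra hne
        apply hτ
        refine ⟨Ldt.iota hdn, lt_of_le_of_ne ?_ (Ne.symm hne)⟩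
        intro t
        exact Fin.le_def.2 (SMT.le_of_strictMono τ.1 τ.2 t)
      rw [hτι, Ldt.ker_Psi_iota K hd hdn]
      exact RingHom.ker_isPrime _

theorem main [Infinite K] (hd : 0 < d) (hdn : d < n) (τ : Idx d n) :
    (UniqueFactorizationMonoid (PlRing K d n ⧸ schubertVanishing K d n τ) ↔
        Prime (Ideal.Quotient.mk (schubertVanishing K d n τ) (MvPolynomial.X τ))) ∧
      (Prime (Ideal.Quotient.mk (schubertVanishing K d n τ) (MvPolynomial.X τ)) ↔
        (divisors τ).Subsingleton) ∧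
      ((divisors τ).Subsingleton ↔
        ∃ s : ℕ, (∀ t : Fin d, t.val < s → (τ.1 t).val = t.val) ∧
          ∀ t t' : Fin d, s ≤ t.val → t.val + 1 = t'.val → (τ.1 t).val + 1 = (τ.1 t').val) :=
  ⟨ufd_iff_prime K hd τ, prime_iff_subsingleton K hd hdn τ,
    (subsingleton_iff τ).trans (atMostOne_iff hd τ)⟩

end Groth.Agent.H9.Ufd
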