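import Mathlib
import Groth.Prelude.Def_SGA3b
import Groth.Prelude.Def_HopfRep
import Groth.Agent.Lib.Helper9.UnipFil.MultType
import Groth.Agent.Lib.Helper9.MultT.BCTriv
import Groth.Agent.Lib.Helper9.Misc.RosHopf
import Groth.Agent.Lib.Helper9.Misc.HopfDom
import Groth.Agent.Lib.Helper8.Hens.SmoothReduced
import Groth.Agent.Lib.Helper8.SchFin.Conn
import Groth.Agent.Lib.Helper3.RatConn

/-!
# Morphisms from a smooth connected unipotent group to a group of multiplicative type are constant
-/

set_option autoImplicit false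
set_option linter.unusedSectionVars false
set_option linter.unusedVariables false

universe u

open TensorProduct AlgebraicGeometry CategoryTheory CategoryTheory.Limits

namespace Groth.Agent.H9.UnipMT

/-- a ring with connected spectrum has only trivial idempotents -/
theorem idem_of_connectedSpace (T : Type u) [CommRing T] [ConnectedSpace (PrimeSpectrum T)]
    (e : T) (he : IsIdempotentElem e) : e = 0 ∨ e = 1 := by
  have hcl : IsClopen ((PrimeSpectrum.basicOpen e : TopologicalSpace.Opens (PrimeSpectrum T)) :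
      Set (PrimeSpectrum T)) := PrimeSpectrum.isClopen_iff.mpr ⟨e, he, rfl⟩
  rcases isClopen_iff.mp hcl with h | h
  · left
    refine PrimeSpectrum.basicOpen_injOn_isIdempotentElem he IsIdempotentElem.zero ?_
    apply TopologicalSpace.Opens.ext
    rw [h, PrimeSpectrum.basicOpen_zero]
    rfl
  · right
    refine PrimeSpectrum.basicOpen_injOn_isIdempotentElem he IsIdempotentElem.one ?_
    apply TopologicalSpace.Opens.ext
    rw [h, PrimeSpectrum.basicOpen_one]
    rfl

/-- geometric connectedness of an algebra with a rational point -/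
theorem idem_baseChange (k K : Type u) [Field k] [Field K] [Algebra k K]
    (C : Type u) [CommRing C] [Algebra k C] (ε : C →ₐ[k] k)
    (hconn : ∀ e : C, IsIdempotentElem e → e = 0 ∨ e = 1) :
    ∀ e : K ⊗[k] C, IsIdempotentElem e → e = 0 ∨ e = 1 := by
  haveI : Nontrivial C := ε.toRingHom.domain_nontrivial
  haveI h1 : ConnectedSpace (PrimeSpectrum C) := Groth.Agent.H8.SF.connectedSpace_of_idem C hconn
  haveI h1' : ConnectedSpace ↥(Spec (CommRingCat.of C)) := h1
  haveI h2 : ConnectedSpace (PrimeSpectrum K) :=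
    Groth.Agent.H8.SF.connectedSpace_of_idem K (fun e he => by
      rcases eq_or_ne e 0 with h | h
      · exact Or.inl h
      · right
        have h3 : e * e = e * 1 := by rw [mul_one]; exact he
        exact mul_left_cancel₀ h h3)
  haveI h2' : ConnectedSpace ↥(Spec (CommRingCat.of K)) := h2
  have hx : Spec.map (CommRingCat.ofHom ε.toRingHom) ≫
      Spec.map (CommRingCat.ofHom (algebraMap k C)) = 𝟙 _ := by
    rw [← Spec.map_comp, ← CommRingCat.ofHom_comp]
    have : ε.toRingHom.comp (algebraMap k C) = RingHom.id k := by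
      ext a
      simp
    rw [this]
    exact Spec.map_id _
  have h3 := Groth.Agent.H3.RatConn.connectedSpace_pullback_of_rational_point k
    (Spec (CommRingCat.of C)) (Spec (CommRingCat.of K))
    (Spec.map (CommRingCat.ofHom (algebraMap k C))) (Spec.map (CommRingCat.ofHom (algebraMap k K)))
    (Spec.map (CommRingCat.ofHom ε.toRingHom)) hx
  have h4 : ConnectedSpace ↥(Spec (CommRingCat.of (C ⊗[k] K))) :=
    (Scheme.homeoOfIso (pullbackSpecIso k C K)).connectedSpace_iff.mp h3
  haveI h5 : ConnectedSpace (PrimeSpectrum (C ⊗[k] K)) := h4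
  intro e he
  have h6 := idem_of_connectedSpace (C ⊗[k] K) (Algebra.TensorProduct.comm k K C e)
    (he.map (Algebra.TensorProduct.comm k K C))
  rcases h6 with h | h
  · left
    exact (map_eq_zero_iff _ (Algebra.TensorProduct.comm k K C).injective).mp h
  · right
    exact (map_eq_one_iff _ (Algebra.TensorProduct.comm k K C).injective).mp h

/-- base change of a smooth algebra over a field to a field is reduced -/
theorem isReduced_baseChange (k K : Type u) [Field k] [Field K] [Algebra k K]
    (C : Type u) [CommRing C] [Algebra k C] [Algebra.FiniteType k C] [Algebra.FormallySmooth k C] :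
    IsReduced (K ⊗[k] C) := by
  have hfp : Algebra.FinitePresentation k C := Algebra.FinitePresentation.of_finiteType.1 inferInstance
  have hsm : Algebra.Smooth k C := ⟨inferInstance, inferInstance⟩
  exact Groth.Agent.H8.Hens.isReduced_of_smooth K (K ⊗[k] C)

/-- main algebraic lemma: if `K ⊗ B` is spanned by units, every algebra map `B → C` into a smooth
connected unipotent Hopf algebra is constant -/
theorem const_of_span_units (k K : Type u) [Field k] [Field K] [Algebra k K] [IsAlgClosed K]
    (C B : Type u) [CommRing C] [HopfAlgebra k C] [Algebra.FiniteType k C]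
    [Algebra.FormallySmooth k C] (hconn : ∀ e : C, IsIdempotentElem e → e = 0 ∨ e = 1)
    (hU : HopfRep.IsUnipotent k C) [CommRing B] [Algebra k B]
    (hspan : Submodule.span K {u : K ⊗[k] B | IsUnit u} = ⊤) (f : B →ₐ[k] C) (b : B) :
    f b = algebraMap k C (Bialgebra.counitAlgHom k C (f b)) := by
  haveI : Algebra.FiniteType K (K ⊗[k] C) := inferInstance
  haveI : IsReduced (K ⊗[k] C) := isReduced_baseChange k K C
  have hconnK := idem_baseChange k K C (Bialgebra.counitAlgHom k C) hconn
  haveI : IsDomain (K ⊗[k] C) :=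
    Groth.Agent.H9.HopfDom.isDomain_of_reduced_connected K (K ⊗[k] C) hconnK
  have hUK : HopfRep.IsUnipotent K (K ⊗[k] C) := Groth.Agent.H9.UnipFil.isUnipotent_baseChange hU
  let fK : K ⊗[k] B →ₐ[K] K ⊗[k] C := Algebra.TensorProduct.map (AlgHom.id K K) f
  have hunit : ∀ u : K ⊗[k] B, IsUnit u →
      fK u = algebraMap K (K ⊗[k] C) (Coalgebra.counit (R := K) (fK u)) := by
    intro u hu
    have hv : IsUnit (fK u) := hu.map fK
    generalize fK u = v at hv ⊢
    set c : K := Coalgebra.counit (R := K) v with hcdef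
    have hc : IsUnit c := hv.map (Bialgebra.counitAlgHom K (K ⊗[k] C))
    have hc0 : c ≠ 0 := hc.ne_zero
    have hx : IsUnit (c⁻¹ • v) := by
      rw [Algebra.smul_def]
      exact ((hc.inv).map (algebraMap K (K ⊗[k] C))).mul hv
    have hεx : Coalgebra.counit (R := K) (c⁻¹ • v) = 1 := by
      rw [map_smul, smul_eq_mul, ← hcdef, inv_mul_cancel₀ hc0]
    have hgl : IsGroupLikeElem K (c⁻¹ • v) :=
      ⟨hεx, Groth.Agent.H9.RosHopf.comul_eq_tmul_self_of_isUnit K _ _ hx hεx⟩
    have h1 := Groth.Agent.H9.UnipFil.groupLike_eq_one hUK hgl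
    calc v = c • (c⁻¹ • v) := by rw [smul_smul, mul_inv_cancel₀ hc0, one_smul]
      _ = c • 1 := by rw [h1]
      _ = algebraMap K _ c := (Algebra.algebraMap_eq_smul_one c).symm
  have hall : ∀ z : K ⊗[k] B,
      fK z = algebraMap K (K ⊗[k] C) (Coalgebra.counit (R := K) (fK z)) := by
    intro z
    have hz : z ∈ Submodule.span K {u : K ⊗[k] B | IsUnit u} := by rw [hspan]; trivial
    induction hz using Submodule.span_induction with
    | mem u hu => exact hunit u hu
    | zero => simp
    | add x y _ _ hx hy => rw [map_add, map_add, map_add, ← hx, ← hy]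
    | smul a x _ hx => rw [map_smul, map_smul, smul_eq_mul, map_mul, ← Algebra.smul_def, ← hx]
  have h1 := hall ((1 : K) ⊗ₜ[k] b)
  have h2 : fK ((1 : K) ⊗ₜ[k] b) = (1 : K) ⊗ₜ[k] f b := by
    simp [fK]
  rw [h2, TensorProduct.counit_tmul, CommSemiring.counit_apply,
    Algebra.TensorProduct.algebraMap_apply] at h1
  apply Groth.Agent.H9.UnipFil.includeRight_inj (k := k) K
  rw [h1, Bialgebra.counitAlgHom_apply, Algebra.algebraMap_eq_smul_one (A := C),
    TensorProduct.tmul_smul, TensorProduct.smul_tmul']
  simp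

/-- a Hopf algebra of multiplicative type is spanned by units after base change to some
algebraically closed field -/
theorem span_units_of_multType (k : Type u) [Field k] (B : Type u) [CommRing B] [HopfAlgebra k B]
    (hB : SGA3b.IsMultTypeConst k B) :
    ∃ (K : Type u) (_ : Field K) (_ : Algebra k K), IsAlgClosed K ∧
      Submodule.span K {u : K ⊗[k] B | IsUnit u} = ⊤ := by
  obtain ⟨R', _, _, hff, M, _, ⟨e⟩⟩ := hB
  have hnt : Nontrivial R' := by
    by_contra hK
    rw [not_nontrivial_iff_subsingleton] at hK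
    have h1 : Subsingleton (R' ⊗[k] k) := inferInstance
    have h2 := (Module.FaithfullyFlat.subsingleton_tensorProduct_iff_right k R').1 h1
    exact not_subsingleton k h2
  obtain ⟨𝔪, h𝔪⟩ := Ideal.exists_maximal R'
  letI : Field (R' ⧸ 𝔪) := Ideal.Quotient.field 𝔪
  refine ⟨AlgebraicClosure (R' ⧸ 𝔪), inferInstance, inferInstance, inferInstance, ?_⟩
  let e' : AlgebraicClosure (R' ⧸ 𝔪) ⊗[k] B ≃ₐc[AlgebraicClosure (R' ⧸ 𝔪)]
      MonoidAlgebra (AlgebraicClosure (R' ⧸ 𝔪)) M :=
    Groth.Agent.H9.MultT.bcTriv (AlgebraicClosure (R' ⧸ 𝔪)) e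
  rw [eq_top_iff]
  intro z _
  obtain ⟨y, rfl⟩ : ∃ y, e'.symm y = z := ⟨e' z, e'.symm_apply_apply z⟩
  clear * - y
  induction y using MonoidAlgebra.induction_linear with
  | zero => rw [map_zero]; exact Submodule.zero_mem _
  | add x y hx hy => rw [map_add]; exact Submodule.add_mem _ hx hy
  | single m r =>
    have h1 : (MonoidAlgebra.single m r : MonoidAlgebra (AlgebraicClosure (R' ⧸ 𝔪)) M) =
        r • MonoidAlgebra.single m 1 := by
      rw [MonoidAlgebra.smul_single, smul_eq_mul, mul_one]
    rw [h1, map_smul]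
    refine Submodule.smul_mem _ _ (Submodule.subset_span ?_)
    have h2 : IsUnit (MonoidAlgebra.single m 1 : MonoidAlgebra (AlgebraicClosure (R' ⧸ 𝔪)) M) :=
      (Group.isUnit m).map (MonoidAlgebra.of (AlgebraicClosure (R' ⧸ 𝔪)) M)
    exact h2.map e'.symm

theorem main (k : Type u) [Field k] (C B : Type u) [CommRing C] [HopfAlgebra k C] [Algebra.FiniteType k C]
    [Algebra.FormallySmooth k C] (hconn : ∀ e : C, IsIdempotentElem e → e = 0 ∨ e = 1)
    (hU : HopfRep.IsUnipotent k C) [CommRing B] [HopfAlgebra k B]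
    (hB : SGA3b.IsMultTypeConst k B) (f : B →ₐ[k] C) :
    ∀ b : B, f b = algebraMap k C (Bialgebra.counitAlgHom k C (f b)) := by
  obtain ⟨K, _, _, hK, hspan⟩ := span_units_of_multType k B hB
  exact fun b => const_of_span_units k K C B hconn hU hspan f b

end Groth.Agent.H9.UnipMT
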