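import Mathlib

/-! Helper9: unramified algebras descend to a f.t. ℤ-subalgebra (S9474). -/

open MvPolynomial TensorProduct KaehlerDifferential

namespace Groth.Agent.H9.UnrDesc

universe u v w

section step3
variable {R₀ : Type u} {S : Type v} {M : Type w} [CommRing R₀] [CommRing S] [Algebra R₀ S]
  [AddCommGroup M] [Module R₀ M] [Module S M] [IsScalarTower R₀ S M] {n : ℕ}

theorem chain_rule (x : Fin n → S) (d : Derivation R₀ S M) (p : MvPolynomial (Fin n) R₀) :
    d (aeval x p) = ∑ k, (aeval x (pderiv k p)) • d (x k) := by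
  classical
  induction p using MvPolynomial.induction_on with
  | C a =>
    rw [aeval_C, Derivation.map_algebraMap]
    symm
    apply Finset.sum_eq_zero
    intro k _
    rw [pderiv_C, map_zero, zero_smul]
  | add p q hp hq =>
    rw [map_add, map_add, hp, hq, ← Finset.sum_add_distrib]
    refine Finset.sum_congr rfl fun k _ => ?_
    rw [map_add, map_add, add_smul]
  | mul_X p j hp =>
    rw [map_mul, Derivation.leibniz, hp, Finset.smul_sum, aeval_X]
    have : ∀ k, (aeval x (pderiv k (p * X j))) =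
        x j * aeval x (pderiv k p) + (if k = j then aeval x p else 0) := by
      intro k
      rw [Derivation.leibniz, pderiv_X, map_add, smul_eq_mul, smul_eq_mul, map_mul, map_mul, add_comm,
        aeval_X]
      congr 1
      by_cases hk : k = j
      · subst hk; simp
      · rw [Pi.single_eq_of_ne (Ne.symm hk)]; simp [hk]
    simp only [this, add_smul, Finset.sum_add_distrib, ite_smul, zero_smul, Finset.sum_ite_eq',
      Finset.mem_univ, if_true, mul_smul]
    rw [add_comm]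

theorem deriv_eq_zero (x : Fin n → S)
    (hx : Function.Surjective (aeval x : MvPolynomial (Fin n) R₀ →ₐ[R₀] S))
    (g : Fin n → MvPolynomial (Fin n) R₀) (hg : ∀ i, aeval x (g i) = 0)
    (hg' : ∀ i k, aeval x (pderiv k (g i)) = if i = k then 1 else 0)
    (d : Derivation R₀ S M) (s : S) : d s = 0 := by
  classical
  have hX : ∀ i, d (x i) = 0 := by
    intro i
    have h1 := chain_rule x d (g i)
    rw [hg i, map_zero] at h1
    simp only [hg', ite_smul, one_smul, zero_smul, Finset.sum_ite_eq, Finset.mem_univ, if_true] at h1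
    exact h1.symm
  obtain ⟨p, rfl⟩ := hx s
  rw [chain_rule]
  simp [hX]

theorem formallyUnramified_of (x : Fin n → S)
    (hx : Function.Surjective (aeval x : MvPolynomial (Fin n) R₀ →ₐ[R₀] S))
    (g : Fin n → MvPolynomial (Fin n) R₀) (hg : ∀ i, aeval x (g i) = 0)
    (hg' : ∀ i k, aeval x (pderiv k (g i)) = if i = k then 1 else 0) :
    Algebra.FormallyUnramified R₀ S := by
  constructor
  have htop := KaehlerDifferential.span_range_derivation R₀ S
  have hbot : Submodule.span S (Set.range (D R₀ S)) = ⊥ := by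
    rw [Submodule.span_eq_bot]
    rintro _ ⟨s, rfl⟩
    exact deriv_eq_zero x hx g hg hg' (D R₀ S) s
  rw [hbot] at htop
  exact ⟨fun a b => by
    have ha : a ∈ (⊥ : Submodule S Ω[S⁄R₀]) := htop ▸ Submodule.mem_top
    have hb : b ∈ (⊥ : Submodule S Ω[S⁄R₀]) := htop ▸ Submodule.mem_top
    rw [Submodule.mem_bot] at ha hb
    rw [ha, hb]⟩

end step3

section step1
variable {R S : Type u} [CommRing R] [CommRing S] [Algebra R S] {n : ℕ}

theorem exists_rel [Algebra.FormallyUnramified R S] (π : MvPolynomial (Fin n) R →ₐ[R] S)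
    (hπ : Function.Surjective π) :
    ∃ f : Fin n → MvPolynomial (Fin n) R, (∀ i, π (f i) = 0) ∧
      ∀ i k, π (pderiv k (f i)) = if i = k then 1 else 0 := by
  classical
  let P := MvPolynomial (Fin n) R
  let _ : Algebra P S := π.toRingHom.toAlgebra
  have : IsScalarTower R P S := IsScalarTower.of_algebraMap_eq' π.comp_algebraMap.symm
  have hsurj : Function.Surjective (algebraMap P S) := hπ
  have hex := KaehlerDifferential.exact_kerCotangentToTensor_mapBaseChange R P S hsurj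
  have key : ∀ i : Fin n, ∃ f : RingHom.ker (algebraMap P S),
      (1 : S) ⊗ₜ[P] D R P f.1 = (1 : S) ⊗ₜ[P] D R P (X i) := by
    intro i
    have h0 : KaehlerDifferential.mapBaseChange R P S ((1 : S) ⊗ₜ[P] D R P (X i)) = 0 :=
      Subsingleton.elim _ _
    obtain ⟨c, hc⟩ := (hex _).mp h0
    obtain ⟨f, rfl⟩ := Ideal.toCotangent_surjective _ c
    exact ⟨f, by rw [← hc]; rfl⟩
  choose f hf using key
  refine ⟨fun i => (f i).1, fun i => (f i).2, fun i k => ?_⟩
  let ℓ : Ω[P⁄R] →ₗ[P] S :=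
    (Algebra.linearMap P S) ∘ₗ (pderiv k : Derivation R P P).liftKaehlerDifferential
  have h1 := congrArg (ℓ.liftBaseChange S) (hf i)
  simp only [LinearMap.liftBaseChange_tmul, ℓ, LinearMap.coe_comp, Function.comp_apply,
    Algebra.linearMap_apply, one_smul] at h1
  rw [Derivation.liftKaehlerDifferential_comp_D, Derivation.liftKaehlerDifferential_comp_D,
    pderiv_X] at h1
  have hAM : ∀ q : P, algebraMap P S q = π q := fun q => rfl
  rw [← hAM, h1, hAM]
  by_cases hik : i = k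
  · subst hik; simp
  · rw [Pi.single_eq_of_ne hik]; simp [hik]

end step1

section main

theorem main_aux {R S : Type u} [CommRing R] [CommRing S] [Algebra R S] (R₀ : Type u) [CommRing R₀]
    [Algebra R₀ R] [Algebra R₀ S] [IsScalarTower R₀ R S] {n : ℕ}
    (π : MvPolynomial (Fin n) R →ₐ[R] S) (hπ : Function.Surjective π)
    (g : Fin n → MvPolynomial (Fin n) R₀)
    (hg0 : ∀ i, π (MvPolynomial.map (algebraMap R₀ R) (g i)) = 0)
    (hg1 : ∀ i k, π (pderiv k (MvPolynomial.map (algebraMap R₀ R) (g i))) = if i = k then 1 else 0) :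
    ∃ (S₀ : Type u) (_ : CommRing S₀) (_ : Algebra R₀ S₀) (_ : Algebra.Unramified R₀ S₀)
      (ψ : R ⊗[R₀] S₀ →ₐ[R] S), Function.Surjective ψ := by
  classical
  obtain ⟨J₀, hJ₀⟩ : ∃ J : Ideal (MvPolynomial (Fin n) R₀), J = Ideal.span (Set.range g ∪
    Set.range (fun ik : Fin n × Fin n => pderiv ik.2 (g ik.1) - (if ik.1 = ik.2 then 1 else 0))) :=
    ⟨_, rfl⟩
  have hJ1 : ∀ i, g i ∈ J₀ := fun i => hJ₀ ▸ Ideal.subset_span (Or.inl ⟨i, rfl⟩)
  have hJ2 : ∀ i k, pderiv k (g i) - (if i = k then 1 else 0) ∈ J₀ :=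
    fun i k => hJ₀ ▸ Ideal.subset_span (Or.inr ⟨(i, k), rfl⟩)
  let x : Fin n → MvPolynomial (Fin n) R₀ ⧸ J₀ := fun k => Ideal.Quotient.mk J₀ (X k)
  have haev : ∀ p, aeval x p = Ideal.Quotient.mk J₀ p := fun p => by
    have : (aeval x : MvPolynomial (Fin n) R₀ →ₐ[R₀] _) = Ideal.Quotient.mkₐ R₀ J₀ := by
      apply MvPolynomial.algHom_ext; intro i; simp [x]
    rw [this]; rfl
  have hunr : Algebra.FormallyUnramified R₀ (MvPolynomial (Fin n) R₀ ⧸ J₀) := by
    refine formallyUnramified_of x ?_ g ?_ ?_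
    · intro s
      obtain ⟨p, rfl⟩ := Ideal.Quotient.mk_surjective s
      exact ⟨p, haev p⟩
    · intro i
      rw [haev, Ideal.Quotient.eq_zero_iff_mem]
      exact hJ1 i
    · intro i k
      rw [haev, Ideal.Quotient.eq.mpr (hJ2 i k)]
      split_ifs <;> simp
  have hU : Algebra.Unramified R₀ (MvPolynomial (Fin n) R₀ ⧸ J₀) := ⟨hunr, inferInstance⟩
  -- the map θ
  let θ : MvPolynomial (Fin n) R₀ →ₐ[R₀] S :=
    { (π : MvPolynomial (Fin n) R →+* S).comp (MvPolynomial.map (algebraMap R₀ R)) with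
      commutes' := by
        intro a
        change π (MvPolynomial.map (algebraMap R₀ R) (algebraMap R₀ _ a)) = _
        rw [MvPolynomial.algebraMap_eq, MvPolynomial.map_C, ← MvPolynomial.algebraMap_eq,
          AlgHom.commutes, ← IsScalarTower.algebraMap_apply] }
  have hθ : ∀ q, θ q = π (MvPolynomial.map (algebraMap R₀ R) q) := fun q => rfl
  have hθJ : ∀ a ∈ J₀, θ a = 0 := by
    intro a ha
    have : J₀ ≤ RingHom.ker (θ : MvPolynomial (Fin n) R₀ →+* S) := by
      rw [hJ₀, Ideal.span_le]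
      rintro _ (⟨i, rfl⟩ | ⟨⟨i, k⟩, rfl⟩)
      · change θ (g i) = 0
        rw [hθ, hg0]
      · change θ _ = 0
        rw [hθ, map_sub, ← MvPolynomial.pderiv_map, map_sub, hg1]
        split_ifs <;> simp
    exact this ha
  let g' : (MvPolynomial (Fin n) R₀ ⧸ J₀) →ₐ[R₀] S := Ideal.Quotient.liftₐ J₀ θ hθJ
  have hg' : ∀ q, g' (Ideal.Quotient.mk J₀ q) = θ q := fun q => rfl
  let ψ : R ⊗[R₀] (MvPolynomial (Fin n) R₀ ⧸ J₀) →ₐ[R] S :=
    Algebra.TensorProduct.lift (Algebra.ofId R S) g' (fun _ _ => Commute.all _ _)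
  refine ⟨MvPolynomial (Fin n) R₀ ⧸ J₀, inferInstance, inferInstance, hU, ψ, ?_⟩
  have hcomp : π = ψ.comp (aeval (fun k => (1 : R) ⊗ₜ[R₀] x k)) := by
    apply MvPolynomial.algHom_ext
    intro k
    rw [AlgHom.comp_apply, aeval_X, Algebra.TensorProduct.lift_tmul, map_one, one_mul, hg', hθ,
      MvPolynomial.map_X]
  intro s
  obtain ⟨p, rfl⟩ := hπ s
  exact ⟨aeval (fun k => (1 : R) ⊗ₜ[R₀] x k) p, by rw [hcomp]; rfl⟩

theorem main (R S : Type u) [CommRing R] [CommRing S] [Algebra R S] [Algebra.Unramified R S] :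
    ∃ (R₀ : Type u) (_ : CommRing R₀) (_ : Algebra.FiniteType ℤ R₀) (S₀ : Type u) (_ : CommRing S₀)
      (_ : Algebra R₀ S₀) (_ : Algebra.Unramified R₀ S₀) (_ : Algebra R₀ R)
      (ψ : R ⊗[R₀] S₀ →ₐ[R] S), Function.Surjective ψ := by
  classical
  obtain ⟨n, π, hπ⟩ := Algebra.FiniteType.iff_quotient_mvPolynomial''.mp
    (inferInstance : Algebra.FiniteType R S)
  obtain ⟨f, hf, hf'⟩ := exists_rel π hπ
  obtain ⟨cs, hcs⟩ : ∃ cs : Set R, cs = ⋃ i, ((f i).coeffs : Set R) := ⟨_, rfl⟩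
  have hfin : cs.Finite := hcs ▸ Set.finite_iUnion fun i => Finset.finite_toSet _
  obtain ⟨R₀, hR₀⟩ : ∃ R₀ : Subalgebra ℤ R, R₀ = Algebra.adjoin ℤ cs := ⟨_, rfl⟩
  have hft : Algebra.FiniteType ℤ R₀ := hR₀ ▸ Algebra.FiniteType.adjoin_of_finite hfin
  have hmem : ∀ i, f i ∈ Set.range (MvPolynomial.map (algebraMap R₀ R)) := by
    intro i
    rw [MvPolynomial.mem_range_map_iff_coeffs_subset]
    intro c hc
    refine ⟨⟨c, ?_⟩, rfl⟩
    rw [hR₀]
    exact Algebra.subset_adjoin (hcs ▸ Set.mem_iUnion.mpr ⟨i, hc⟩)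
  choose g hg using hmem
  obtain ⟨S₀, i1, i2, i3, ψ, hψ⟩ := main_aux R₀ π hπ g (fun i => by rw [hg, hf])
    (fun i k => by rw [hg, hf'])
  exact ⟨R₀, inferInstance, hft, S₀, i1, i2, i3, inferInstance, ψ, hψ⟩

end main

end Groth.Agent.H9.UnrDesc
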