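import Mathlib
import Groth.Agent.Lib.Helper9.Misc.UnrDesc

/-! Helper9: G-unramified algebras descend to a f.t. ℤ-subalgebra with base-change iso (S12085). -/

open MvPolynomial TensorProduct

namespace Groth.Agent.H9.UnrDesc

universe u

theorem model_unramified {R S : Type u} [CommRing R] [CommRing S] [Algebra R S] {n m : ℕ}
    (P : Algebra.Presentation R S (Fin n) (Fin m)) (R₀ : Type u) [CommRing R₀] [Algebra R₀ R]
    [Algebra R₀ S] [IsScalarTower R₀ R S] [P.HasCoeffs R₀]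
    (c₀ : Fin n → Fin m → MvPolynomial (Fin n) R₀) (e₀ : Fin n → Fin n → Fin m → MvPolynomial (Fin n) R₀)
    (h : ∀ i k, pderiv k (∑ j, c₀ i j * P.relationOfHasCoeffs R₀ j) - (if i = k then 1 else 0) =
      ∑ j, e₀ i k j * P.relationOfHasCoeffs R₀ j) :
    Algebra.FormallyUnramified R₀ (P.ModelOfHasCoeffs R₀) := by
  classical
  obtain ⟨J₀, hJ₀⟩ : ∃ J : Ideal (MvPolynomial (Fin n) R₀),
    J = Ideal.span (Set.range (P.relationOfHasCoeffs R₀)) := ⟨_, rfl⟩
  have hrel : ∀ j, P.relationOfHasCoeffs R₀ j ∈ J₀ := fun j => hJ₀ ▸ Ideal.subset_span ⟨j, rfl⟩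
  change Algebra.FormallyUnramified R₀ (MvPolynomial (Fin n) R₀ ⧸ Ideal.span (Set.range (P.relationOfHasCoeffs R₀)))
  rw [← hJ₀]
  let x : Fin n → MvPolynomial (Fin n) R₀ ⧸ J₀ := fun k => Ideal.Quotient.mk J₀ (X k)
  have haev : ∀ p, aeval x p = Ideal.Quotient.mk J₀ p := fun p => by
    have : (aeval x : MvPolynomial (Fin n) R₀ →ₐ[R₀] _) = Ideal.Quotient.mkₐ R₀ J₀ := by
      apply MvPolynomial.algHom_ext; intro i; simp [x]
    rw [this]; rfl
  refine formallyUnramified_of x ?_ (fun i => ∑ j, c₀ i j * P.relationOfHasCoeffs R₀ j) ?_ ?_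
  · intro s
    obtain ⟨p, rfl⟩ := Ideal.Quotient.mk_surjective s
    exact ⟨p, haev p⟩
  · intro i
    rw [haev, Ideal.Quotient.eq_zero_iff_mem]
    exact J₀.sum_mem fun j _ => J₀.mul_mem_left _ (hrel j)
  · intro i k
    have hmem : pderiv k (∑ j, c₀ i j * P.relationOfHasCoeffs R₀ j) - (if i = k then 1 else 0) ∈ J₀ := by
      rw [h]
      exact J₀.sum_mem fun j _ => J₀.mul_mem_left _ (hrel j)
    rw [haev, Ideal.Quotient.eq.mpr hmem]
    split_ifs <;> simp

theorem main_fp (R : Type u) [CommRing R] (S : Type u) [CommRing S]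
    [Algebra R S] [Algebra.FinitePresentation R S] [Algebra.FormallyUnramified R S] :
    ∃ (R₀ : Type u) (_ : CommRing R₀) (_ : Algebra.FiniteType ℤ R₀) (S₀ : Type u) (_ : CommRing S₀)
      (_ : Algebra R₀ S₀) (_ : Algebra.FinitePresentation R₀ S₀) (_ : Algebra.FormallyUnramified R₀ S₀)
      (_ : Algebra R₀ R), Nonempty (R ⊗[R₀] S₀ ≃ₐ[R] S) := by
  classical
  obtain ⟨n, m, P⟩ : ∃ (n m : ℕ), Nonempty (Algebra.Presentation R S (Fin n) (Fin m)) :=
    ⟨_, _, ⟨Algebra.Presentation.ofFinitePresentation R S⟩⟩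
  obtain ⟨P⟩ := P
  let π : MvPolynomial (Fin n) R →ₐ[R] S := aeval P.val
  have hπ : Function.Surjective π := P.aeval_val_surjective
  obtain ⟨f, hf, hf'⟩ := exists_rel π hπ
  have hker : ∀ q, π q = 0 → ∃ c : Fin m → MvPolynomial (Fin n) R, ∑ j, c j * P.relation j = q := by
    intro q hq
    have : q ∈ Ideal.span (Set.range P.relation) := by
      rw [P.span_range_relation_eq_ker, P.ker_eq_ker_aeval_val]; exact hq
    exact (Ideal.mem_span_range_iff_exists_fun).mp this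
  choose c hc using fun i => hker (f i) (hf i)
  have hf'' : ∀ i k, π (pderiv k (f i) - (if i = k then 1 else 0)) = 0 := by
    intro i k; rw [map_sub, hf']; split_ifs <;> simp
  choose e he using fun i k => hker _ (hf'' i k)
  obtain ⟨cs, hcs⟩ : ∃ cs : Set R, cs = P.coeffs ∪ (⋃ i, ⋃ j, ((c i j).coeffs : Set R)) ∪
      (⋃ i, ⋃ k, ⋃ j, ((e i k j).coeffs : Set R)) := ⟨_, rfl⟩
  have hfin : cs.Finite := by
    rw [hcs]
    refine (P.finite_coeffs.union ?_).union ?_
    · exact Set.finite_iUnion fun i => Set.finite_iUnion fun j => Finset.finite_toSet _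
    · exact Set.finite_iUnion fun i => Set.finite_iUnion fun k => Set.finite_iUnion fun j =>
        Finset.finite_toSet _
  obtain ⟨R₀, hR₀⟩ : ∃ R₀ : Subalgebra ℤ R, R₀ = Algebra.adjoin ℤ cs := ⟨_, rfl⟩
  have hft : Algebra.FiniteType ℤ R₀ := hR₀ ▸ Algebra.FiniteType.adjoin_of_finite hfin
  have hsub : ∀ r ∈ cs, r ∈ Set.range (algebraMap R₀ R) := fun r hr =>
    ⟨⟨r, hR₀ ▸ Algebra.subset_adjoin hr⟩, rfl⟩
  have hP : P.HasCoeffs R₀ := ⟨fun r hr => hsub r (hcs ▸ Or.inl (Or.inl hr))⟩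
  have hcm : ∀ i j, c i j ∈ Set.range (MvPolynomial.map (algebraMap R₀ R)) := by
    intro i j
    rw [MvPolynomial.mem_range_map_iff_coeffs_subset]
    intro r hr
    exact hsub r (hcs ▸ Or.inl (Or.inr (Set.mem_iUnion.mpr ⟨i, Set.mem_iUnion.mpr ⟨j, hr⟩⟩)))
  have hem : ∀ i k j, e i k j ∈ Set.range (MvPolynomial.map (algebraMap R₀ R)) := by
    intro i k j
    rw [MvPolynomial.mem_range_map_iff_coeffs_subset]
    intro r hr
    exact hsub r (hcs ▸ Or.inr (Set.mem_iUnion.mpr ⟨i, Set.mem_iUnion.mpr ⟨k, Set.mem_iUnion.mpr ⟨j, hr⟩⟩⟩))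
  choose c₀ hc₀ using hcm
  choose e₀ he₀ using hem
  have hinj : Function.Injective (MvPolynomial.map (σ := Fin n) (algebraMap R₀ R)) :=
    MvPolynomial.map_injective _ Subtype.val_injective
  have h : ∀ i k, pderiv k (∑ j, c₀ i j * P.relationOfHasCoeffs R₀ j) - (if i = k then 1 else 0) =
      ∑ j, e₀ i k j * P.relationOfHasCoeffs R₀ j := by
    intro i k
    apply hinj
    have h1 : MvPolynomial.map (algebraMap R₀ R) (∑ j, c₀ i j * P.relationOfHasCoeffs R₀ j) = f i := by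
      rw [map_sum]; simp only [map_mul, hc₀, P.map_relationOfHasCoeffs R₀]; exact hc i
    have h2 : MvPolynomial.map (algebraMap R₀ R) (∑ j, e₀ i k j * P.relationOfHasCoeffs R₀ j) =
        pderiv k (f i) - (if i = k then 1 else 0) := by
      rw [map_sum]; simp only [map_mul, he₀, P.map_relationOfHasCoeffs R₀]; exact he i k
    rw [map_sub, ← MvPolynomial.pderiv_map, h1, h2]
    split_ifs <;> simp
  have hunr := model_unramified P R₀ c₀ e₀ h
  exact ⟨R₀, inferInstance, hft, P.ModelOfHasCoeffs R₀, inferInstance, inferInstance, inferInstance,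
    hunr, inferInstance, ⟨P.tensorModelOfHasCoeffsEquiv R₀⟩⟩

end Groth.Agent.H9.UnrDesc
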