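import Mathlib

/-! Helper9: f.t. algebra over a field: formally unramified iff finite and separable (S4998). -/

namespace Groth.Agent.H9.UnramField
open Polynomial

universe u

lemma isSeparable_pi (k : Type u) [Field k] {I : Type u} [Finite I] (Ai : I → Type u)
    [∀ i, Field (Ai i)] [∀ i, Algebra k (Ai i)] [∀ i, Algebra.IsSeparable k (Ai i)] :
    Algebra.IsSeparable k (Π i, Ai i) := by
  classical
  have := Fintype.ofFinite I
  refine ⟨fun x => ?_⟩
  let S : Finset k[X] := Finset.univ.image (fun i => minpoly k (x i))
  have hint : ∀ i, IsIntegral k (x i) :=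
    fun i => (Algebra.IsSeparable.isSeparable k (x i)).isIntegral
  have hP : aeval x (∏ q ∈ S, q) = 0 := by
    ext i
    have : (aeval x (∏ q ∈ S, q)) i = aeval (x i) (∏ q ∈ S, q) :=
      (Polynomial.aeval_algHom_apply (Pi.evalAlgHom k Ai i) x (∏ q ∈ S, q)).symm
    rw [this, Pi.zero_apply]
    obtain ⟨r, hr⟩ := Finset.dvd_prod_of_mem id
      (Finset.mem_image_of_mem _ (Finset.mem_univ i) : minpoly k (x i) ∈ S)
    simp only [id] at hr
    rw [hr, map_mul, minpoly.aeval, zero_mul]
  have hsep : (∏ q ∈ S, q).Separable := by
    apply separable_prod'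
    · intro p hp q hq hpq
      obtain ⟨i, -, rfl⟩ := Finset.mem_image.1 hp
      obtain ⟨j, -, rfl⟩ := Finset.mem_image.1 hq
      rw [(minpoly.irreducible (hint i)).coprime_iff_not_dvd]
      intro hdvd
      apply hpq
      exact eq_of_monic_of_associated (minpoly.monic (hint i)) (minpoly.monic (hint j))
        ((minpoly.irreducible (hint i)).associated_of_dvd (minpoly.irreducible (hint j)) hdvd)
    · intro p hp
      obtain ⟨i, -, rfl⟩ := Finset.mem_image.1 hp
      exact Algebra.IsSeparable.isSeparable k (x i)
  exact hsep.of_dvd (minpoly.dvd k x hP)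

theorem main (k A : Type u) [Field k] [CommRing A] [Algebra k A] [Algebra.FiniteType k A] :
    Algebra.FormallyUnramified k A ↔ Module.Finite k A ∧ Algebra.IsSeparable k A := by
  constructor
  · intro h
    have hfin := Algebra.FormallyUnramified.finite_of_free k A
    refine ⟨hfin, ?_⟩
    have het : Algebra.FormallyEtale k A :=
      Algebra.FormallyEtale.of_formallyUnramified_of_field k A
    obtain ⟨I, _, Ai, _, _, e, hsep⟩ :=
      (Algebra.FormallyEtale.iff_exists_algEquiv_prod k A).1 het
    have := isSeparable_pi k Ai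
    exact AlgEquiv.Algebra.isSeparable e.symm
  · rintro ⟨hfin, hsep⟩
    have : IsArtinianRing A := .of_finite k A
    have : IsReduced A := by
      refine ⟨fun x hx => ?_⟩
      obtain ⟨n, hn⟩ := hx
      have hn1 : x ^ (n + 1) = 0 := by rw [pow_succ, hn, zero_mul]
      have hs := Algebra.IsSeparable.isSeparable k x
      have hdvd : minpoly k x ∣ X ^ (n + 1) := minpoly.dvd k x (by simp [hn1])
      have hX : minpoly k x ∣ X :=
        (Squarefree.dvd_pow_iff_dvd hs.squarefree
          (Nat.succ_ne_zero n)).1 hdvd
      obtain ⟨r, hr⟩ := hX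
      have := congrArg (aeval x) hr
      rw [aeval_X, map_mul, minpoly.aeval, zero_mul] at this
      exact this
    have hq (m : MaximalSpectrum A) : Algebra.FormallyUnramified k (A ⧸ m.asIdeal) := by
      let _ := Ideal.Quotient.field m.asIdeal
      have : Algebra.IsSeparable k (A ⧸ m.asIdeal) := by
        refine ⟨fun y => ?_⟩
        obtain ⟨x, rfl⟩ := Ideal.Quotient.mk_surjective y
        have hs := Algebra.IsSeparable.isSeparable k x
        refine hs.of_dvd (minpoly.dvd k _ ?_)
        have := Polynomial.aeval_algHom_apply (Ideal.Quotient.mkₐ k m.asIdeal) x (minpoly k x)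
        rw [Ideal.Quotient.mkₐ_eq_mk] at this
        rw [this, minpoly.aeval, map_zero]
      exact Algebra.FormallyUnramified.of_isSeparable k _
    exact .of_equiv ((IsArtinianRing.equivPi A).restrictScalars k).symm

end Groth.Agent.H9.UnramField
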