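import Mathlib

set_option autoImplicit false
universe u

/-! # VB1: ring-theoretic lemmas on symmetric algebras (elements of `1 + R₊` are nonzerodivisors,
finite type, finitely generated kernels), and descent of linear maps along surjections. -/

namespace Groth.Agent.H9.VB

open Polynomial

section Descend

variable {R M N Q : Type*} [CommRing R] [AddCommGroup M] [AddCommGroup N] [AddCommGroup Q]
  [Module R M] [Module R N] [Module R Q]

/-- descend a linear map along a surjective linear map -/
noncomputable def descend (t : M →ₗ[R] N) (ht : Function.Surjective t) (f : M →ₗ[R] Q)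
    (h : LinearMap.ker t ≤ LinearMap.ker f) : N →ₗ[R] Q :=
  (Submodule.liftQ _ f h) ∘ₗ (LinearMap.quotKerEquivOfSurjective t ht).symm.toLinearMap

theorem descend_apply (t : M →ₗ[R] N) (ht : Function.Surjective t) (f : M →ₗ[R] Q)
    (h : LinearMap.ker t ≤ LinearMap.ker f) (x : M) : descend t ht f h (t x) = f x := by
  have : (LinearMap.quotKerEquivOfSurjective t ht).symm (t x) = Submodule.Quotient.mk x := by
    rw [LinearEquiv.symm_apply_eq]
    rfl
  simp [descend, this]

end Descend

theorem poly_nzd {A : Type*} [CommRing A] (p q : A[X]) (hp : p.coeff 0 = 1) (h : p * q = 0) :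
    q = 0 := by
  have hu : IsUnit (p : PowerSeries A) := by
    rw [PowerSeries.isUnit_iff_constantCoeff]
    simp [hp]
  have h2 : (p : PowerSeries A) * (q : PowerSeries A) = 0 := by
    rw [← Polynomial.coe_mul, h, Polynomial.coe_zero]
  have h3 := (hu.mul_right_eq_zero).mp h2
  exact Polynomial.coe_injective A (by simpa using h3)

section Sym

variable (B : Type u) [CommRing B] (P : Type u) [AddCommGroup P] [Module B P]

/-- the standard grading of the symmetric algebra, as a coaction map -/
noncomputable def symRho : SymmetricAlgebra B P →ₐ[B] (SymmetricAlgebra B P)[X] :=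
  SymmetricAlgebra.lift
    (((Polynomial.monomial 1 : SymmetricAlgebra B P →ₗ[SymmetricAlgebra B P] _).restrictScalars B)
      ∘ₗ (SymmetricAlgebra.ι B P))

theorem symRho_ι (p : P) : symRho B P (SymmetricAlgebra.ι B P p) =
    Polynomial.monomial 1 (SymmetricAlgebra.ι B P p) := by
  simp [symRho, SymmetricAlgebra.lift_ι_apply]

theorem symRho_eval (r : SymmetricAlgebra B P) : (symRho B P r).eval 1 = r := by
  induction r using SymmetricAlgebra.induction with
  | algebraMap b => simp [Polynomial.algebraMap_apply]
  | ι p => simp [symRho_ι]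
  | mul x y hx hy => simp [hx, hy]
  | add x y hx hy => simp [hx, hy]

theorem symRho_coeff_zero (r : SymmetricAlgebra B P) : (symRho B P r).coeff 0 =
    algebraMap B _ (SymmetricAlgebra.algebraMapInv r) := by
  induction r using SymmetricAlgebra.induction with
  | algebraMap b =>
    simp [Polynomial.algebraMap_apply, SymmetricAlgebra.algebraMap_leftInverse P b]
  | ι p => simp [symRho_ι, SymmetricAlgebra.algebraMapInv_ι]
  | mul x y hx hy => simp [hx, hy, Polynomial.mul_coeff_zero]
  | add x y hx hy => simp [hx, hy]

theorem sym_nzd (u k : SymmetricAlgebra B P) (hu : SymmetricAlgebra.algebraMapInv u = 1)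
    (h : u * k = 0) : k = 0 := by
  have h1 : symRho B P u * symRho B P k = 0 := by rw [← map_mul, h, map_zero]
  have h2 : (symRho B P u).coeff 0 = 1 := by rw [symRho_coeff_zero, hu, map_one]
  have h3 := poly_nzd _ _ h2 h1
  rw [← symRho_eval B P k, h3, Polynomial.eval_zero]

theorem sym_adjoin : Algebra.adjoin B (Set.range (SymmetricAlgebra.ι B P)) = ⊤ := by
  rw [eq_top_iff]
  intro r _
  clear * -
  induction r using SymmetricAlgebra.induction with
  | algebraMap b => exact Subalgebra.algebraMap_mem _ b
  | ι p => exact Algebra.subset_adjoin ⟨p, rfl⟩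
  | mul x y hx hy => exact Subalgebra.mul_mem _ hx hy
  | add x y hx hy => exact Subalgebra.add_mem _ hx hy

instance sym_finiteType [Module.Finite B P] : Algebra.FiniteType B (SymmetricAlgebra B P) := by
  classical
  obtain ⟨s, hs⟩ := (Module.Finite.fg_top : (⊤ : Submodule B P).FG)
  refine ⟨⟨s.image (SymmetricAlgebra.ι B P), ?_⟩⟩
  rw [eq_top_iff, ← sym_adjoin, Algebra.adjoin_le_iff]
  rintro _ ⟨p, rfl⟩
  have hp : p ∈ Submodule.span B (s : Set P) := by rw [hs]; trivial
  induction hp using Submodule.span_induction with
  | mem x hx => exact Algebra.subset_adjoin (by simpa using ⟨x, hx, rfl⟩)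
  | zero => simp
  | add x y _ _ hx hy => rw [map_add]; exact Subalgebra.add_mem _ hx hy
  | smul b x _ hx => rw [map_smul]; exact Subalgebra.smul_mem _ hx b

end Sym

theorem ker_fg_of_finiteType {B R C : Type u} [CommRing B] [CommRing R] [CommRing C] [Algebra B R]
    [Algebra B C] [Algebra.FiniteType B R] [Algebra.FinitePresentation B C] (σ : R →ₐ[B] C)
    (hσ : Function.Surjective σ) : (RingHom.ker σ.toRingHom).FG := by
  obtain ⟨n, g, hg⟩ := Algebra.FiniteType.iff_quotient_mvPolynomial''.mp ‹Algebra.FiniteType B R›
  have h1 := Algebra.FinitePresentation.ker_fg_of_mvPolynomial (σ.comp g) (hσ.comp hg)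
  have h2 : RingHom.ker σ.toRingHom = (RingHom.ker (σ.comp g).toRingHom).map g.toRingHom := by
    ext x
    constructor
    · intro hx
      obtain ⟨y, rfl⟩ := hg x
      exact Ideal.mem_map_of_mem _ (by simpa [RingHom.mem_ker] using hx)
    · intro hx
      rw [Ideal.mem_map_iff_of_surjective g.toRingHom hg] at hx
      obtain ⟨y, hy, rfl⟩ := hx
      simpa [RingHom.mem_ker] using hy
  rw [h2]
  exact h1.map _

end Groth.Agent.H9.VB
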