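import Mathlib
import Groth.Agent.Lib.Helper9.Misc.EBH4

set_option autoImplicit false
set_option linter.style.haveILetI false
universe u

/-! # VB10: on an affine chart of finite type over an affine open of the base, the attractor of a
magnet `N` is the attractor of a finitely generated submagnet with the same invertible elements. -/

namespace Groth.Agent.H9.VB

open CategoryTheory CategoryTheory.Limits AlgebraicGeometry MonoidalCategory
  CartesianMonoidalCategory MonObj Opposite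
open Magnet
open Groth.Agent.H9.MagKun Groth.Agent.H9.MagLoc

theorem exists_fg_magnet (S : Scheme.{u}) (M : Type) [AddCommGroup M] [AddGroup.FG M] {X : Over S}
    [IsAffine X.left] [LocallyOfFiniteType X.hom] (a : MonAct (AMonS S M) X) (U : S.Opens)
    (hU : IsAffineOpen U) (hX : X.hom ⁻¹ᵁ U = ⊤) (N : AddSubmonoid M) :
    ∃ (Nc : AddSubmonoid M) (hle : Nc ≤ N), Nc.FG ∧ IsFace Nc (unitFace N) ∧
      ∀ T : Over S, Function.Bijective ((attrMap a hle).app (op T)) := by
  classical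
  haveI : IsSeparated X.hom := inferInstance
  haveI : IsAffine (XU X U).left := by
    have h1 : IsAffineOpen (X.hom ⁻¹ᵁ U) := by
      rw [hX]
      exact isAffineOpen_top X.left
    exact h1
  obtain ⟨D, hD⟩ := MagPure.local_imp a U hU
  have hZ : (EB.unitSubgroup N).toAddSubmonoid = unitFace N :=
    EB.toAddSubmonoid_eq_unitFace _ (fun m => Iff.rfl)
  obtain ⟨Nc, hNc⟩ : ∃ Nc : AddSubmonoid M,
      Nc = AddSubmonoid.closure ((N : Set M) ∩ ↑D) ⊔ unitFace N := ⟨_, rfl⟩
  have h1 : AddSubmonoid.closure ((N : Set M) ∩ ↑D) ≤ N :=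
    AddSubmonoid.closure_le.mpr Set.inter_subset_left
  have hle : Nc ≤ N := hNc ▸ sup_le h1 (unitFace_le N)
  have hcl : AddSubmonoid.closure ((N : Set M) ∩ ↑D) ≤ Nc := hNc ▸ le_sup_left
  have hZc : unitFace N ≤ Nc := hNc ▸ le_sup_right
  have hfg : Nc.FG := by
    rw [hNc]
    refine AddSubmonoid.FG.sup ?_ (hZ ▸ EB.fg_toAddSubmonoid (EB.unitSubgroup N))
    rw [AddSubmonoid.fg_iff]
    exact ⟨(N : Set M) ∩ ↑D, rfl, Set.Finite.subset D.finite_toSet Set.inter_subset_right⟩
  have hface : IsFace Nc (unitFace N) :=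
    ⟨hZc, fun x hx y hy hxy => (isFace_unitFace N).mem_of_add_mem x (hle hx) y (hle hy) hxy⟩
  have hext : ∀ (T : Over S) (x : T ⟶ X), Ext N a x → Ext Nc a x := by
    intro T x h
    apply MagShf.ext_local Nc a x T.left.affineCover
    intro c
    obtain ⟨tc, htc⟩ : ∃ tc : Over.mk (T.left.affineCover.f c ≫ T.hom) ⟶ T,
        tc = Over.homMk (T.left.affineCover.f c) rfl := ⟨_, rfl⟩
    rw [← htc]
    haveI : IsAffine (Over.mk (T.left.affineCover.f c ≫ T.hom)).left :=
      inferInstanceAs (IsAffine (T.left.affineCover.X c))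
    have h2 : Ext N a (tc ≫ x) := Ext.comp N a tc h
    have hP : ∀ p : (Over.mk (T.left.affineCover.f c ≫ T.hom)).left,
        (Over.mk (T.left.affineCover.f c ≫ T.hom)).hom p ∈ U := by
      intro p
      have h3 : (tc ≫ x).left p ∈ X.hom ⁻¹ᵁ U := by rw [hX]; trivial
      have h4 : X.hom ((tc ≫ x).left p) ∈ U := h3
      rw [← Scheme.Hom.comp_apply, Over.w (tc ≫ x)] at h4
      exact h4
    obtain ⟨x', hx'⟩ := MagLoc.exists_factor hP (tc ≫ x)
    rw [← hx'] at h2 ⊢
    exact MagPure.ext_mono a hcl _ (hD N D (Finset.Subset.refl D) _ x' h2)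
  refine ⟨Nc, hle, hfg, hface, fun T => ⟨UDM.S18284_main X a hle T, fun φ => ?_⟩⟩
  have hE : Ext N a (MagRepB.ev φ.1) :=
    ⟨φ.1, MagRepB.restrict_eq (AMonS.map S N.subtype) a φ.1 φ.2⟩
  obtain ⟨φc, hφc⟩ := hext T _ hE
  have hφceq := MagRepB.equivariant_of_restrict (AMonS.map S Nc.subtype) a (MagShf.hD Nc)
    _ φc hφc
  refine ⟨⟨φc, hφceq⟩, ?_⟩
  apply Subtype.ext
  change (AMonS.map S (AddSubmonoid.inclusion hle) ▷ T) ≫ φc = φ.1
  apply MagShf.hD N
  rw [← comp_whiskerRight_assoc, ← AMonS.map_comp]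
  exact hφc.trans (MagRepB.restrict_eq (AMonS.map S N.subtype) a φ.1 φ.2).symm

end Groth.Agent.H9.VB
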