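import Mathlib
import Groth.Agent.Lib.Helper9.Misc.KZ1
import Groth.Agent.Lib.Helper9.Misc.VB1

set_option autoImplicit false
universe u

/-! # VB2: the cotangent module along a section of a smooth algebra is finite projective;
the induced grading on it and a graded section. -/

namespace Groth.Agent.H9.VB

open Polynomial TensorProduct

section Cot

variable {B C : Type u} [CommRing B] [CommRing C] [Algebra B C]

theorem cotangent_aux [Algebra.FormallySmooth B C] [Algebra.FiniteType B C] (ε : C →ₐ[B] B) :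
    Module.Projective B (RingHom.ker ε.toRingHom).Cotangent ∧
      Module.Finite B (RingHom.ker ε.toRingHom).Cotangent := by
  letI : Algebra C B := ε.toRingHom.toAlgebra
  haveI : IsScalarTower B C B := IsScalarTower.of_algebraMap_eq (fun b => by
    show b = ε (algebraMap B C b)
    rw [ε.commutes]; rfl)
  have hsurj : Function.Surjective (algebraMap C B) := fun b => ⟨algebraMap B C b, ε.commutes b⟩
  obtain ⟨l, hl⟩ := (Algebra.FormallySmooth.iff_split_injection (R := B) (P := C) (A := B)
    hsurj).mp inferInstance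
  haveI : Module.Projective B (B ⊗[C] Ω[C⁄B]) := inferInstance
  haveI : Module.Finite B (B ⊗[C] Ω[C⁄B]) := inferInstance
  have hl' : (l.restrictScalars B).comp
      ((KaehlerDifferential.kerCotangentToTensor B C B).restrictScalars B) = LinearMap.id := by
    ext x
    exact congr($hl x)
  refine ⟨Module.Projective.of_split _ _ hl', ?_⟩
  refine Module.Finite.of_surjective (l.restrictScalars B) (fun p => ⟨_, congr($hl' p)⟩)

end Cot

section Graded

variable {B C : Type u} [CommRing B] [CommRing C] [Algebra B C] (c : KZ.Coact C) (ε : C →ₐ[B] B)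
  (hρ : ∀ b, c.ρ (algebraMap B C b) = Polynomial.C (algebraMap B C b))
  (hε : ∀ x, c.π 0 x = algebraMap B C (ε x))

/-- the degree `d` projection as a `B`-linear map -/
noncomputable def piL (d : ℕ) : C →ₗ[B] C where
  toFun := c.π d
  map_add' := c.pi_add d
  map_smul' b x := by
    simp only [RingHom.id_apply, KZ.Coact.π, Algebra.smul_def, map_mul, hρ, coeff_C_mul]

include hε in
theorem mem_ker_iff (x : C) : x ∈ RingHom.ker ε.toRingHom ↔ c.π 0 x = 0 := by
  rw [RingHom.mem_ker, hε]
  constructor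
  · intro h
    have h' : ε x = 0 := h
    rw [h', map_zero]
  · intro h
    have := congr(ε $h)
    rw [ε.commutes, map_zero] at this
    exact this

include hε in
theorem pi_mem_ker (d : ℕ) (x : C) (hx : x ∈ RingHom.ker ε.toRingHom) :
    c.π d x ∈ RingHom.ker ε.toRingHom := by
  rw [mem_ker_iff c ε hε] at hx ⊢
  rw [c.pi_pi]
  split_ifs with h
  · subst h; exact hx
  · rfl

include hε in
theorem pi_mem_sq (d : ℕ) (x : C) (hx : x ∈ (RingHom.ker ε.toRingHom) ^ 2) :
    c.π d x ∈ (RingHom.ker ε.toRingHom) ^ 2 := by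
  rw [pow_two] at hx ⊢
  induction hx using Submodule.mul_induction_on' generalizing d with
  | mem_mul_mem u hu v hv =>
    rw [c.pi_mul]
    refine Ideal.sum_mem _ (fun p _ => ?_)
    exact Ideal.mul_mem_mul (pi_mem_ker c ε hε _ _ hu) (pi_mem_ker c ε hε _ _ hv)
  | add x _ y _ hx hy =>
    rw [c.pi_add]
    exact Ideal.add_mem _ (hx d) (hy d)

/-- the degree `d` projection on the augmentation ideal -/
noncomputable def piI (d : ℕ) : ↥(RingHom.ker ε.toRingHom) →ₗ[B] ↥(RingHom.ker ε.toRingHom) where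
  toFun x := ⟨c.π d x, pi_mem_ker c ε hε d x x.2⟩
  map_add' x y := Subtype.ext (c.pi_add d x y)
  map_smul' b x := Subtype.ext ((piL c hρ d).map_smul b x)

/-- the quotient map to the cotangent module, `B`-linear -/
noncomputable def tB : ↥(RingHom.ker ε.toRingHom) →ₗ[B] (RingHom.ker ε.toRingHom).Cotangent :=
  (RingHom.ker ε.toRingHom).toCotangent.restrictScalars B

theorem tB_surjective : Function.Surjective (tB ε) := Ideal.toCotangent_surjective _

theorem tB_eq_zero (x : ↥(RingHom.ker ε.toRingHom)) :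
    tB ε x = 0 ↔ (x : C) ∈ (RingHom.ker ε.toRingHom) ^ 2 := Ideal.toCotangent_eq_zero _ x

/-- the degree `d` projection on the cotangent module -/
noncomputable def piP (d : ℕ) :
    (RingHom.ker ε.toRingHom).Cotangent →ₗ[B] (RingHom.ker ε.toRingHom).Cotangent :=
  descend (tB ε) (tB_surjective ε) ((tB ε) ∘ₗ (piI c ε hρ hε d)) (by
    intro x hx
    rw [LinearMap.mem_ker, tB_eq_zero] at hx
    rw [LinearMap.mem_ker, LinearMap.comp_apply, tB_eq_zero]
    exact pi_mem_sq c ε hε d _ hx)

theorem piP_tB (d : ℕ) (x : ↥(RingHom.ker ε.toRingHom)) :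
    piP c ε hρ hε d (tB ε x) = tB ε (piI c ε hρ hε d x) :=
  descend_apply _ _ _ _ x

theorem piI_piI (m n : ℕ) (x : ↥(RingHom.ker ε.toRingHom)) :
    piI c ε hρ hε m (piI c ε hρ hε n x) = if n = m then piI c ε hρ hε n x else 0 := by
  apply Subtype.ext
  show c.π m (c.π n x) = _
  rw [c.pi_pi]
  split_ifs <;> rfl

theorem piP_piP (m n : ℕ) (p : (RingHom.ker ε.toRingHom).Cotangent) :
    piP c ε hρ hε m (piP c ε hρ hε n p) = if n = m then piP c ε hρ hε n p else 0 := by
  obtain ⟨x, rfl⟩ := tB_surjective ε p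
  rw [piP_tB, piP_tB, piI_piI]
  split_ifs
  · rfl
  · rw [map_zero]

theorem sum_pi_of_le (x : C) (D : ℕ) (hD : (c.ρ x).natDegree + 1 ≤ D) :
    ∑ d ∈ Finset.range D, c.π d x = x := by
  conv_rhs => rw [← c.sum_pi x]
  symm
  apply Finset.sum_subset (Finset.range_mono hD)
  intro d _ hd
  rw [Finset.mem_range, not_lt] at hd
  exact Polynomial.coeff_eq_zero_of_natDegree_lt (by omega)

theorem sum_piI_of_le (x : ↥(RingHom.ker ε.toRingHom)) (D : ℕ)
    (hD : (c.ρ x).natDegree + 1 ≤ D) :
    ∑ d ∈ Finset.range D, piI c ε hρ hε d x = x := by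
  apply Subtype.ext
  rw [AddSubmonoidClass.coe_finset_sum]
  exact sum_pi_of_le c x D hD

theorem piP_eventually_zero [Module.Finite B (RingHom.ker ε.toRingHom).Cotangent] :
    ∃ D : ℕ, ∀ d, D ≤ d → piP c ε hρ hε d = 0 := by
  classical
  obtain ⟨s, hs⟩ := (Module.Finite.fg_top :
    (⊤ : Submodule B (RingHom.ker ε.toRingHom).Cotangent).FG)
  have h1 : ∀ p : (RingHom.ker ε.toRingHom).Cotangent, ∃ D : ℕ, ∀ d, D ≤ d →
      piP c ε hρ hε d p = 0 := by
    intro p
    obtain ⟨x, rfl⟩ := tB_surjective ε p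
    refine ⟨(c.ρ x).natDegree + 1, fun d hd => ?_⟩
    rw [piP_tB]
    have : piI c ε hρ hε d x = 0 := by
      apply Subtype.ext
      show (c.ρ (x : C)).coeff d = 0
      exact Polynomial.coeff_eq_zero_of_natDegree_lt (by omega)
    rw [this, map_zero]
  choose Dp hDp using h1
  refine ⟨s.sup Dp, fun d hd => ?_⟩
  apply LinearMap.ext
  intro p
  have hp : p ∈ Submodule.span B (s : Set _) := by rw [hs]; trivial
  rw [LinearMap.zero_apply]
  induction hp using Submodule.span_induction with
  | mem x hx => exact hDp x d (le_trans (Finset.le_sup hx) hd)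
  | zero => exact map_zero _
  | add x y _ _ hx hy => rw [map_add, hx, hy]; exact add_zero 0
  | smul b x _ hx => rw [map_smul, hx]; exact smul_zero b

theorem sum_piP (D : ℕ) (hD : ∀ d, D ≤ d → piP c ε hρ hε d = 0)
    (p : (RingHom.ker ε.toRingHom).Cotangent) :
    ∑ d ∈ Finset.range D, piP c ε hρ hε d p = p := by
  obtain ⟨x, rfl⟩ := tB_surjective ε p
  have h1 : ∑ d ∈ Finset.range (max D ((c.ρ x).natDegree + 1)), piP c ε hρ hε d (tB ε x) =
      tB ε x := by
    simp_rw [piP_tB]
    rw [← map_sum, sum_piI_of_le c ε hρ hε x _ (le_max_right _ _)]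
  conv_rhs => rw [← h1]
  apply Finset.sum_subset (Finset.range_mono (le_max_left _ _))
  intro d _ hd
  rw [Finset.mem_range, not_lt] at hd
  rw [hD d hd]; rfl

/-- a graded section of the quotient map to the cotangent module -/
theorem exists_graded_section [Module.Finite B (RingHom.ker ε.toRingHom).Cotangent]
    [Module.Projective B (RingHom.ker ε.toRingHom).Cotangent] :
    ∃ s : (RingHom.ker ε.toRingHom).Cotangent →ₗ[B] ↥(RingHom.ker ε.toRingHom),
      (∀ p, tB ε (s p) = p) ∧ ∀ e p, piI c ε hρ hε e (s p) = s (piP c ε hρ hε e p) := by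
  obtain ⟨D, hD⟩ := piP_eventually_zero c ε hρ hε
  obtain ⟨s₀, hs₀⟩ := Module.projective_lifting_property (tB ε) LinearMap.id (tB_surjective ε)
  refine ⟨∑ d ∈ Finset.range D, (piI c ε hρ hε d) ∘ₗ s₀ ∘ₗ (piP c ε hρ hε d), ?_, ?_⟩
  · intro p
    rw [LinearMap.sum_apply, map_sum]
    conv_rhs => rw [← sum_piP c ε hρ hε D hD p]
    refine Finset.sum_congr rfl (fun d _ => ?_)
    rw [LinearMap.comp_apply, LinearMap.comp_apply, ← piP_tB]
    have := congr($hs₀ (piP c ε hρ hε d p))
    rw [LinearMap.comp_apply, LinearMap.id_apply] at this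
    rw [this, piP_piP, if_pos rfl]
  · intro e p
    rw [LinearMap.sum_apply, LinearMap.sum_apply, map_sum]
    refine Finset.sum_congr rfl (fun d _ => ?_)
    simp only [LinearMap.comp_apply]
    rw [piI_piI, piP_piP]
    by_cases h : d = e
    · subst h
      rw [if_pos rfl, if_pos rfl]
    · rw [if_neg h, if_neg (Ne.symm h), map_zero, map_zero]

end Graded

end Groth.Agent.H9.VB
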