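import Mathlib
import Groth.Agent.Lib.Helper9.Misc.KZ1
import Groth.Agent.Lib.Helper9.Misc.VB1
import Groth.Agent.Lib.Helper9.Misc.VB2

set_option autoImplicit false
universe u

/-! # VB3: a smooth algebra with a contracting `A¹`-coaction is the symmetric algebra of the
conormal module of its fixed locus. -/

namespace Groth.Agent.H9.VB

open Polynomial

section Aug

variable (B : Type u) [CommRing B] (P : Type u) [AddCommGroup P] [Module B P]

/-- the augmentation ideal of the symmetric algebra -/
noncomputable def aug : Ideal (SymmetricAlgebra B P) :=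
  RingHom.ker (SymmetricAlgebra.algebraMapInv (R := B) (M := P)).toRingHom

theorem mem_aug (r : SymmetricAlgebra B P) :
    r ∈ aug B P ↔ SymmetricAlgebra.algebraMapInv r = 0 := Iff.rfl

theorem ι_mem_aug (p : P) : SymmetricAlgebra.ι B P p ∈ aug B P := by
  rw [mem_aug, SymmetricAlgebra.algebraMapInv_ι]

theorem algebraMapInv_algebraMap (b : B) :
    SymmetricAlgebra.algebraMapInv (algebraMap B (SymmetricAlgebra B P) b) = b :=
  SymmetricAlgebra.algebraMap_leftInverse P b

theorem sub_mem_span (r : SymmetricAlgebra B P) :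
    r - algebraMap B _ (SymmetricAlgebra.algebraMapInv r) ∈
      Ideal.span (Set.range (SymmetricAlgebra.ι B P)) := by
  induction r using SymmetricAlgebra.induction with
  | algebraMap b => rw [algebraMapInv_algebraMap, sub_self]; exact zero_mem _
  | ι p =>
    rw [SymmetricAlgebra.algebraMapInv_ι, map_zero, sub_zero]
    exact Ideal.subset_span ⟨p, rfl⟩
  | mul x y hx hy =>
    have : x * y - algebraMap B _ (SymmetricAlgebra.algebraMapInv (x * y)) =
        (x - algebraMap B _ (SymmetricAlgebra.algebraMapInv x)) * y +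
        algebraMap B _ (SymmetricAlgebra.algebraMapInv x) *
          (y - algebraMap B _ (SymmetricAlgebra.algebraMapInv y)) := by
      rw [map_mul, map_mul]; ring
    rw [this]
    exact Ideal.add_mem _ (Ideal.mul_mem_right _ _ hx) (Ideal.mul_mem_left _ _ hy)
  | add x y hx hy =>
    have : x + y - algebraMap B _ (SymmetricAlgebra.algebraMapInv (x + y)) =
        (x - algebraMap B _ (SymmetricAlgebra.algebraMapInv x)) +
        (y - algebraMap B _ (SymmetricAlgebra.algebraMapInv y)) := by
      rw [map_add, map_add]; ring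
    rw [this]
    exact Ideal.add_mem _ hx hy

theorem aug_le_span : aug B P ≤ Ideal.span (Set.range (SymmetricAlgebra.ι B P)) := by
  intro r hr
  have := sub_mem_span B P r
  rw [(mem_aug B P r).mp hr, map_zero, sub_zero] at this
  exact this

theorem exists_linear_part (r : SymmetricAlgebra B P) (hr : r ∈ aug B P) :
    ∃ p : P, r - SymmetricAlgebra.ι B P p ∈ (aug B P) ^ 2 := by
  have hr' := aug_le_span B P hr
  clear hr
  induction hr' using Submodule.span_induction with
  | mem x hx =>
    obtain ⟨p, rfl⟩ := hx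
    exact ⟨p, by rw [sub_self]; exact zero_mem _⟩
  | zero => exact ⟨0, by rw [map_zero, sub_self]; exact zero_mem _⟩
  | add x y _ _ hx hy =>
    obtain ⟨p, hp⟩ := hx
    obtain ⟨q, hq⟩ := hy
    refine ⟨p + q, ?_⟩
    have : x + y - SymmetricAlgebra.ι B P (p + q) =
        (x - SymmetricAlgebra.ι B P p) + (y - SymmetricAlgebra.ι B P q) := by
      rw [map_add]; ring
    rw [this]
    exact Ideal.add_mem _ hp hq
  | smul a x _ hx =>
    obtain ⟨p, hp⟩ := hx
    refine ⟨(SymmetricAlgebra.algebraMapInv a) • p, ?_⟩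
    have : a • x - SymmetricAlgebra.ι B P (SymmetricAlgebra.algebraMapInv a • p) =
        a * (x - SymmetricAlgebra.ι B P p) +
        (a - algebraMap B _ (SymmetricAlgebra.algebraMapInv a)) * SymmetricAlgebra.ι B P p := by
      rw [map_smul, smul_eq_mul, Algebra.smul_def]; ring
    rw [this]
    refine Ideal.add_mem _ (Ideal.mul_mem_left _ _ hp) ?_
    rw [pow_two]
    refine Ideal.mul_mem_mul ?_ (ι_mem_aug B P p)
    rw [mem_aug, map_sub, algebraMapInv_algebraMap, sub_self]

end Aug

section Main

variable {B C : Type u} [CommRing B] [CommRing C] [Algebra B C] (c : KZ.Coact C) (ε : C →ₐ[B] B)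
  (hρ : ∀ b, c.ρ (algebraMap B C b) = Polynomial.C (algebraMap B C b))
  (hε : ∀ x, c.π 0 x = algebraMap B C (ε x))
  (s : (RingHom.ker ε.toRingHom).Cotangent →ₗ[B] ↥(RingHom.ker ε.toRingHom))
  (hs1 : ∀ p, tB ε (s p) = p)
  (hs2 : ∀ e p, piI c ε hρ hε e (s p) = s (piP c ε hρ hε e p))

/-- the comparison map from the symmetric algebra -/
noncomputable def sig : SymmetricAlgebra B (RingHom.ker ε.toRingHom).Cotangent →ₐ[B] C :=
  SymmetricAlgebra.lift (((Submodule.subtype (RingHom.ker ε.toRingHom)).restrictScalars B) ∘ₗ s)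

theorem sig_ι (p : (RingHom.ker ε.toRingHom).Cotangent) :
    sig ε s (SymmetricAlgebra.ι B _ p) = (s p : C) := by
  rw [sig, SymmetricAlgebra.lift_ι_apply]
  rfl

theorem eps_sig (r : SymmetricAlgebra B (RingHom.ker ε.toRingHom).Cotangent) :
    ε (sig ε s r) = SymmetricAlgebra.algebraMapInv r := by
  have : ε.comp (sig ε s) = SymmetricAlgebra.algebraMapInv := by
    apply SymmetricAlgebra.algHom_ext
    refine LinearMap.ext (fun p => ?_)
    show ε (sig ε s (SymmetricAlgebra.ι B _ p)) =
      SymmetricAlgebra.algebraMapInv (SymmetricAlgebra.ι B _ p)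
    rw [sig_ι, SymmetricAlgebra.algebraMapInv_ι]
    exact (s p).2
  exact congr($this r)

include hs1 hs2 in
theorem sig_surjective : Function.Surjective (sig ε s) := by
  have key : ∀ n x, c.π n x ∈ (sig ε s).range := by
    intro n
    induction n using Nat.strong_induction_on with
    | _ n ih =>
      intro x
      rcases Nat.eq_zero_or_pos n with rfl | hn
      · rw [hε]
        exact ⟨algebraMap B _ (ε x), AlgHom.commutes _ _⟩
      · have hyI : c.π n x ∈ RingHom.ker ε.toRingHom := by
          rw [mem_ker_iff c ε hε, c.pi_pi, if_neg (by omega)]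
        obtain ⟨y, hy⟩ : ∃ y : ↥(RingHom.ker ε.toRingHom), y = ⟨c.π n x, hyI⟩ := ⟨_, rfl⟩
        have hyc : (y : C) = c.π n x := by rw [hy]
        have hyn : c.π n (y : C) = y := by rw [hyc, c.pi_pi, if_pos rfl]
        have hw : (y : C) - (s (tB ε y) : C) ∈ (RingHom.ker ε.toRingHom) ^ 2 := by
          have h2 : tB ε (y - s (tB ε y)) = 0 := by rw [map_sub, hs1, sub_self]
          rw [tB_eq_zero] at h2
          exact h2
        have hpn : piP c ε hρ hε n (tB ε y) = tB ε y := by
          rw [piP_tB]
          congr 1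
          exact Subtype.ext hyn
        have hsn : c.π n (s (tB ε y) : C) = (s (tB ε y) : C) := by
          have := congr(($(hs2 n (tB ε y)) : C))
          rw [hpn] at this
          exact this
        have hfix : c.π n ((y : C) - (s (tB ε y) : C)) = (y : C) - (s (tB ε y) : C) := by
          have := (piL c hρ n).map_sub (y : C) (s (tB ε y) : C)
          have h' : c.π n ((y : C) - (s (tB ε y) : C)) =
              c.π n (y : C) - c.π n (s (tB ε y) : C) := this
          rw [h', hyn, hsn]
        have hsq : ∀ w ∈ (RingHom.ker ε.toRingHom) ^ 2, c.π n w ∈ (sig ε s).range := by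
          intro w hw
          rw [pow_two] at hw
          induction hw using Submodule.mul_induction_on' with
          | mem_mul_mem u hu v hv =>
            rw [c.pi_mul]
            refine Subalgebra.sum_mem _ (fun q hq => ?_)
            have hq := Finset.HasAntidiagonal.mem_antidiagonal.mp hq
            by_cases h1 : q.1 = 0
            · have : c.π q.1 u = 0 := by rw [h1]; exact (mem_ker_iff c ε hε u).mp hu
              rw [this, zero_mul]; exact Subalgebra.zero_mem _
            by_cases h2 : q.2 = 0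
            · have : c.π q.2 v = 0 := by rw [h2]; exact (mem_ker_iff c ε hε v).mp hv
              rw [this, mul_zero]; exact Subalgebra.zero_mem _
            exact Subalgebra.mul_mem _ (ih q.1 (by omega) u) (ih q.2 (by omega) v)
          | add x _ y _ hx hy => rw [c.pi_add]; exact Subalgebra.add_mem _ hx hy
        have h3 := hsq _ hw
        rw [hfix] at h3
        have h4 : (s (tB ε y) : C) ∈ (sig ε s).range :=
          ⟨SymmetricAlgebra.ι B _ (tB ε y), sig_ι ε s _⟩
        have : c.π n x = ((y : C) - (s (tB ε y) : C)) + (s (tB ε y) : C) := by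
          rw [hyc]; ring
        rw [this]
        exact Subalgebra.add_mem _ h3 h4
  intro x
  have : ∑ n ∈ Finset.range ((c.ρ x).natDegree + 1), c.π n x ∈ (sig ε s).range :=
    Subalgebra.sum_mem _ (fun n _ => key n x)
  rw [c.sum_pi x] at this
  exact this

include hs1 in
theorem sig_injective [Algebra.FormallySmooth B C] [Algebra.FinitePresentation B C]
    [Module.Finite B (RingHom.ker ε.toRingHom).Cotangent]
    (hsurj : Function.Surjective (sig ε s)) : Function.Injective (sig ε s) := by
  obtain ⟨K, hK⟩ : ∃ K : Ideal (SymmetricAlgebra B (RingHom.ker ε.toRingHom).Cotangent),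
    K = RingHom.ker (sig ε s).toRingHom := ⟨_, rfl⟩
  have hKmem : ∀ k, k ∈ K ↔ sig ε s k = 0 := fun k => by rw [hK]; exact Iff.rfl
  have hKaug : K ≤ aug B (RingHom.ker ε.toRingHom).Cotangent := by
    intro k hk
    rw [mem_aug, ← eps_sig ε s k, (hKmem k).mp hk, map_zero]
  have hσaug : ∀ r ∈ aug B (RingHom.ker ε.toRingHom).Cotangent,
      sig ε s r ∈ RingHom.ker ε.toRingHom := by
    intro r hr
    rw [RingHom.mem_ker]
    show ε (sig ε s r) = 0
    rw [eps_sig]
    exact hr
  have hσsq : ∀ m ∈ (aug B (RingHom.ker ε.toRingHom).Cotangent) ^ 2,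
      sig ε s m ∈ (RingHom.ker ε.toRingHom) ^ 2 := by
    intro m hm
    have := Ideal.mem_map_of_mem (sig ε s).toRingHom hm
    rw [Ideal.map_pow] at this
    exact Ideal.pow_right_mono (Ideal.map_le_iff_le_comap.mpr hσaug) 2 this
  have hKsq : K ≤ (aug B (RingHom.ker ε.toRingHom).Cotangent) ^ 2 := by
    intro k hk
    obtain ⟨p, hp⟩ := exists_linear_part B _ k (hKaug hk)
    have h1 := hσsq _ hp
    rw [map_sub, (hKmem k).mp hk, zero_sub, sig_ι, neg_mem_iff] at h1
    have h2 : tB ε (s p) = 0 := (tB_eq_zero ε _).mpr h1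
    rw [hs1] at h2
    rw [h2, map_zero, sub_zero] at hp
    exact hp
  have hKK : K ≤ aug B (RingHom.ker ε.toRingHom).Cotangent * K := by
    obtain ⟨J, hJ⟩ : ∃ J : Ideal (SymmetricAlgebra B (RingHom.ker ε.toRingHom).Cotangent),
      J = aug B (RingHom.ker ε.toRingHom).Cotangent * K := ⟨_, rfl⟩
    have hJK : J ≤ K := by
      rw [hJ]
      exact Ideal.mul_le.mpr (fun r _ s hs => K.mul_mem_left r hs)
    let σ' : (SymmetricAlgebra B (RingHom.ker ε.toRingHom).Cotangent ⧸ J) →ₐ[B] C :=
      Ideal.Quotient.liftₐ J (sig ε s) (fun a ha => (hKmem a).mp (hJK ha))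
    have hσ'mk : ∀ r, σ' (Ideal.Quotient.mk J r) = sig ε s r := fun r => rfl
    have hσ's : Function.Surjective σ' := fun x => by
      obtain ⟨r, rfl⟩ := hsurj x
      exact ⟨Ideal.Quotient.mk J r, hσ'mk r⟩
    have hker : ∀ y ∈ RingHom.ker (σ' : (SymmetricAlgebra B (RingHom.ker ε.toRingHom).Cotangent ⧸ J) →+* C), ∃ k ∈ K, Ideal.Quotient.mk J k = y := by
      intro y hy
      obtain ⟨r, rfl⟩ := Ideal.Quotient.mk_surjective y
      refine ⟨r, (hKmem r).mpr ?_, rfl⟩
      rw [← hσ'mk]
      exact hy
    have hkk : ∀ y ∈ RingHom.ker (σ' : (SymmetricAlgebra B (RingHom.ker ε.toRingHom).Cotangent ⧸ J) →+* C), ∀ z ∈ RingHom.ker (σ' : (SymmetricAlgebra B (RingHom.ker ε.toRingHom).Cotangent ⧸ J) →+* C),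
        y * z = 0 := by
      intro y hy z hz
      obtain ⟨k, hk, rfl⟩ := hker y hy
      obtain ⟨k', hk', rfl⟩ := hker z hz
      rw [← map_mul, Ideal.Quotient.eq_zero_iff_mem, hJ]
      exact Ideal.mul_mem_mul (hKaug hk) hk'
    have hak : ∀ x ∈ aug B (RingHom.ker ε.toRingHom).Cotangent,
        ∀ z ∈ RingHom.ker (σ' : (SymmetricAlgebra B (RingHom.ker ε.toRingHom).Cotangent ⧸ J) →+* C), Ideal.Quotient.mk J x * z = 0 := by
      intro x hx z hz
      obtain ⟨k', hk', rfl⟩ := hker z hz
      rw [← map_mul, Ideal.Quotient.eq_zero_iff_mem, hJ]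
      exact Ideal.mul_mem_mul hx hk'
    have hnil : IsNilpotent (RingHom.ker (σ' : (SymmetricAlgebra B (RingHom.ker ε.toRingHom).Cotangent ⧸ J) →+* C)) := by
      refine ⟨2, ?_⟩
      have h : (RingHom.ker (σ' : (SymmetricAlgebra B (RingHom.ker ε.toRingHom).Cotangent ⧸ J)
          →+* C)) ^ 2 = ⊥ := by
        rw [pow_two, eq_bot_iff, Ideal.mul_le]
        intro y hy z hz
        rw [Ideal.mem_bot]
        exact hkk y hy z hz
      exact h
    let τ := Algebra.FormallySmooth.liftOfSurjective (AlgHom.id B C) σ' hσ's hnil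
    have hτ : ∀ x, σ' (τ x) = x := fun x =>
      Algebra.FormallySmooth.liftOfSurjective_apply _ _ _ _ x
    have hθ : ∀ r', τ (σ' r') - r' ∈ RingHom.ker (σ' : (SymmetricAlgebra B (RingHom.ker ε.toRingHom).Cotangent ⧸ J) →+* C) := by
      intro r'
      rw [RingHom.mem_ker, map_sub]
      show σ' (τ (σ' r')) - σ' r' = 0
      rw [hτ, sub_self]
    have hfix : ∀ m ∈ (aug B (RingHom.ker ε.toRingHom).Cotangent) ^ 2,
        τ (sig ε s m) = Ideal.Quotient.mk J m := by
      intro m hm
      rw [pow_two] at hm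
      induction hm using Submodule.mul_induction_on' with
      | mem_mul_mem x hx y hy =>
        have h1 := hθ (Ideal.Quotient.mk J x)
        have h2 := hθ (Ideal.Quotient.mk J y)
        rw [hσ'mk] at h1 h2
        have e1 := hak x hx _ h2
        have e2 := hak y hy _ h1
        have e3 := hkk _ h1 _ h2
        rw [map_mul, map_mul, map_mul]
        linear_combination e1 + e2 + e3
      | add x _ y _ hx hy => rw [map_add, map_add, map_add, hx, hy]
    intro k hk
    have : Ideal.Quotient.mk J k = 0 := by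
      rw [← hfix k (hKsq hk), (hKmem k).mp hk, map_zero]
    rw [← hJ]
    exact Ideal.Quotient.eq_zero_iff_mem.mp this
  have hfg : K.FG := by
    rw [hK]
    exact ker_fg_of_finiteType (sig ε s) hsurj
  obtain ⟨u, hu1, hu2⟩ := Submodule.exists_sub_one_mem_and_smul_eq_zero_of_fg_of_le_smul
    (aug B (RingHom.ker ε.toRingHom).Cotangent) K hfg (by rwa [Ideal.smul_eq_mul])
  rw [injective_iff_map_eq_zero]
  intro k hk
  have hu : SymmetricAlgebra.algebraMapInv u = 1 := by
    have := (mem_aug _ _ _).mp hu1
    rw [map_sub, map_one, sub_eq_zero] at this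
    exact this
  exact sym_nzd B _ u k hu (hu2 k ((hKmem k).mpr hk))

end Main

/-- **Main algebra theorem**: a smooth `B`-algebra `C` with a coaction of the multiplicative monoid
`A¹` whose degree zero part is `B` (via a retraction `ε`) is the symmetric algebra of a finite
projective `B`-module. -/
theorem main {B C : Type u} [CommRing B] [CommRing C] [Algebra B C] [Algebra.FormallySmooth B C]
    [Algebra.FinitePresentation B C] (c : KZ.Coact C) (ε : C →ₐ[B] B)
    (hρ : ∀ b, c.ρ (algebraMap B C b) = Polynomial.C (algebraMap B C b))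
    (hε : ∀ x, c.π 0 x = algebraMap B C (ε x)) :
    ∃ (P : Type u) (_ : AddCommGroup P) (_ : Module B P), Module.Finite B P ∧
      Module.Projective B P ∧ Nonempty (SymmetricAlgebra B P ≃ₐ[B] C) := by
  obtain ⟨hproj, hfin⟩ := cotangent_aux ε
  obtain ⟨s, hs1, hs2⟩ := exists_graded_section c ε hρ hε
  have hsurj := sig_surjective c ε hρ hε s hs1 hs2
  have hinj := sig_injective ε s hs1 hsurj
  exact ⟨(RingHom.ker ε.toRingHom).Cotangent, inferInstance, inferInstance, hfin, hproj,
    ⟨AlgEquiv.ofBijective (sig ε s) ⟨hinj, hsurj⟩⟩⟩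

end Groth.Agent.H9.VB
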