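import Mathlib
import Groth.Agent.Lib.Helper9.Misc.KZ3
import Groth.Agent.Lib.Helper9.Misc.VB3

set_option autoImplicit false
universe u

/-! # VB4: an affine scheme with a contracting `A¹`-action, smooth over its fixed locus, is a vector
bundle over the fixed locus. -/

namespace Groth.Agent.H9.VB

open CategoryTheory CategoryTheory.Limits AlgebraicGeometry MonoidalCategory
  CartesianMonoidalCategory
open Magnet Groth.Agent.H9.KZ

variable {S : Scheme.{u}}

theorem rho_of_invariant {Y W : Over S} [IsAffine Y.left] (q : Y ⟶ W)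
    (act : MonAct (AMonS S ℕ) Y) (hq : act.act ≫ q = snd _ _ ≫ q) (b : Γ(W.left, ⊤)) :
    (coact Y act).ρ (pb q b) = Polynomial.C (pb q b) := by
  apply (KP_bijective Y).1
  rw [coact_ρ, KP_rho, KP_C, ← pb_comp, ← pb_comp, hq]

theorem vb_of_action {Y W : Over S} [IsAffine Y.left] [IsAffine W.left] (q : Y ⟶ W) (s : W ⟶ Y)
    (hs : s ≫ q = 𝟙 W) (act : MonAct (AMonS S ℕ) Y) (hq : act.act ≫ q = snd _ _ ≫ q)
    (hz : ze act = q ≫ s) [Smooth q.left] (B : CommRingCat.{u}) (eW : W.left ≅ Spec B) :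
    ∃ (P : Type u) (_ : AddCommGroup P) (_ : Module B P), Module.Finite B P ∧
      Module.Projective B P ∧
      ∃ e : Y.left ≅ Spec (CommRingCat.of (SymmetricAlgebra B P)),
        e.hom ≫ Spec.map (CommRingCat.ofHom (algebraMap B (SymmetricAlgebra B P))) =
          q.left ≫ eW.hom := by
  let ι : B ≅ Γ(W.left, ⊤) :=
    { hom := (Scheme.ΓSpecIso B).inv ≫ eW.hom.appTop
      inv := eW.inv.appTop ≫ (Scheme.ΓSpecIso B).hom
      hom_inv_id := by
        rw [Category.assoc, ← Category.assoc eW.hom.appTop, ← Scheme.Hom.comp_appTop,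
          eW.inv_hom_id, Scheme.Hom.id_appTop, Category.id_comp, Iso.inv_hom_id]
      inv_hom_id := by
        rw [Category.assoc, ← Category.assoc (Scheme.ΓSpecIso B).hom, Iso.hom_inv_id,
          Category.id_comp, ← Scheme.Hom.comp_appTop, eW.hom_inv_id, Scheme.Hom.id_appTop] }
  let φc : B ⟶ Γ(Y.left, ⊤) := ι.hom ≫ q.left.appTop
  have hkey : Y.left.isoSpec.hom ≫ Spec.map φc = q.left ≫ eW.hom := by
    show _ ≫ Spec.map (((Scheme.ΓSpecIso B).inv ≫ eW.hom.appTop) ≫ q.left.appTop) = _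
    rw [Spec.map_comp, Spec.map_comp, Scheme.isoSpec_hom_naturality_assoc,
      Scheme.isoSpec_hom_naturality_assoc, Scheme.isoSpec_Spec_hom, ← Spec.map_comp,
      Iso.inv_hom_id, Spec.map_id, Category.comp_id]
  have hsm : RingHom.Smooth φc.hom := by
    have h1 : Smooth (Spec.map φc) := by
      have : Spec.map φc = Y.left.isoSpec.inv ≫ q.left ≫ eW.hom := by
        rw [← hkey, Iso.inv_hom_id_assoc]
      rw [this]
      infer_instance
    exact (HasRingHomProperty.Spec_iff (P := @Smooth)).mp h1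
  letI : Algebra B Γ(Y.left, ⊤) := φc.hom.toAlgebra
  have halg : ∀ b : B, algebraMap B Γ(Y.left, ⊤) b = pb q (ι.hom.hom b) := fun b => rfl
  have hψφ : ∀ b : B, ι.inv.hom (pb s (algebraMap B Γ(Y.left, ⊤) b)) = b := by
    intro b
    rw [halg, ← pb_comp, hs, pb_id]
    exact congr($(ι.hom_inv_id).hom b)
  let ε : Γ(Y.left, ⊤) →ₐ[B] B :=
    { (ι.inv.hom.comp (pb s)) with commutes' := hψφ }
  have hεa : ∀ x, ε x = ι.inv.hom (pb s x) := fun x => rfl
  haveI : Algebra.Smooth B Γ(Y.left, ⊤) := hsm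
  haveI : Algebra.FormallySmooth B Γ(Y.left, ⊤) := Algebra.Smooth.formallySmooth
  haveI : Algebra.FinitePresentation B Γ(Y.left, ⊤) := Algebra.Smooth.finitePresentation
  have hρ : ∀ b : B, (coact Y act).ρ (algebraMap B Γ(Y.left, ⊤) b) =
      Polynomial.C (algebraMap B Γ(Y.left, ⊤) b) := fun b => by
    rw [halg]
    exact rho_of_invariant q act hq _
  have hε : ∀ x, (coact Y act).π 0 x = algebraMap B Γ(Y.left, ⊤) (ε x) := by
    intro x
    rw [halg, hεa, ← pb_ze, hz, pb_comp]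
    congr 1
    exact (congr($(ι.inv_hom_id).hom (pb s x))).symm
  obtain ⟨P, i1, i2, hfin, hproj, ⟨E⟩⟩ := VB.main (coact Y act) ε hρ hε
  refine ⟨P, i1, i2, hfin, hproj, ?_⟩
  let E' : CommRingCat.of (SymmetricAlgebra B P) ≅ Γ(Y.left, ⊤) :=
    E.toRingEquiv.toCommRingCatIso
  refine ⟨Y.left.isoSpec ≪≫ Scheme.Spec.mapIso E'.op, ?_⟩
  have h2 : CommRingCat.ofHom (algebraMap B (SymmetricAlgebra B P)) ≫ E'.hom = φc := by
    apply CommRingCat.hom_ext
    apply RingHom.ext
    intro b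
    show E (algebraMap B (SymmetricAlgebra B P) b) = algebraMap B Γ(Y.left, ⊤) b
    exact E.commutes b
  show (Y.left.isoSpec.hom ≫ Spec.map E'.hom) ≫ _ = _
  rw [Category.assoc, ← Spec.map_comp, h2, hkey]

end Groth.Agent.H9.VB
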