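import Mathlib
import Groth.Agent.Lib.Helper9.Misc.KZ3
import Groth.Agent.Lib.Helper9.Misc.MagOpen

set_option autoImplicit false
universe u

/-! # VB5: an `A¹`-monoid action from a natural multiplicative family of operations on points. -/

namespace Groth.Agent.H9.VB

open CategoryTheory CategoryTheory.Limits AlgebraicGeometry MonoidalCategory
  CartesianMonoidalCategory MonObj Opposite
open Magnet Groth.Agent.H9.KZ
open Groth.Agent.H9.MagKun Groth.Agent.H9.MagChr Groth.Agent.H9.MagPts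

variable {S : Scheme.{u}}

theorem exists_act {Y : Over S} (δ : ∀ T : Over S, (T ⟶ Y) → Γ(T.left, ⊤) → (T ⟶ Y))
    (hnat : ∀ (T T' : Over S) (t : T' ⟶ T) (x : T ⟶ Y) (c : Γ(T.left, ⊤)),
      δ T' (t ≫ x) (pb t c) = t ≫ δ T x c)
    (hone : ∀ (T : Over S) (x : T ⟶ Y), δ T x 1 = x)
    (hmul : ∀ (T : Over S) (x : T ⟶ Y) (c c' : Γ(T.left, ⊤)), δ T (δ T x c) c' = δ T x (c' * c)) :
    ∃ act : MonAct (AMonS S ℕ) Y, ∀ (T : Over S) (g : T ⟶ AMonS S ℕ) (x : T ⟶ Y),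
      lift g x ≫ act.act = δ T x (chr g (Multiplicative.ofAdd 1)) := by
  obtain ⟨α, hα⟩ : ∃ α : AMonS S ℕ ⊗ Y ⟶ Y,
      α = δ _ (snd (AMonS S ℕ) Y) (chr (fst (AMonS S ℕ) Y) (Multiplicative.ofAdd 1)) := ⟨_, rfl⟩
  have key : ∀ (T : Over S) (g : T ⟶ AMonS S ℕ) (x : T ⟶ Y),
      lift g x ≫ α = δ T x (chr g (Multiplicative.ofAdd 1)) := by
    intro T g x
    rw [hα, ← hnat, lift_snd, ← chr_precomp', lift_fst]
  refine ⟨MonAct.mk' α ?_ ?_, ?_⟩
  · intro T x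
    rw [key, MagOpen.chr_one', hone]
  · intro T g h x
    rw [key, key, key, chr_mul, hmul]
  · intro T g x
    exact key T g x

end Groth.Agent.H9.VB
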