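import Mathlib
import Groth.Agent.Lib.Helper9.Misc.MagConn
import Groth.Agent.Lib.Helper9.Misc.LFR5
import Groth.Agent.Lib.Helper9.Misc.VB4
import Groth.Agent.Lib.Helper9.Misc.VB5

set_option autoImplicit false
universe u

/-! # VB6: the local model: for affine representing objects, the face projection of attractors
`X^N → X^F` of a smooth `X` is a vector bundle. -/

namespace Groth.Agent.H9.VB

open CategoryTheory CategoryTheory.Limits AlgebraicGeometry MonoidalCategory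
  CartesianMonoidalCategory MonObj Opposite
open Magnet Groth.Agent.H9.KZ
open Groth.Agent.H9.MagKun Groth.Agent.H9.MagChr Groth.Agent.H9.MagPts Groth.Agent.H9.MagDef
  Groth.Agent.H9.MagConn

section MC

variable {S : Scheme.{u}} {M : Type} [AddCommMonoid M] {N : AddSubmonoid M} (ℓ : ↥N →+ ℕ)

theorem pcl_mul {T : Over S} (c c' : Γ(T.left, ⊤)) :
    MagDef.pc (S := S) ℓ (c * c') = MagDef.pc ℓ c * MagDef.pc ℓ c' := by
  apply chr_injective
  apply MonoidHom.ext
  intro n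
  rw [chr_mul, MagDef.chr_pc, MagDef.chr_pc, MagDef.chr_pc, mul_pow]

theorem mc_mc {T : Over S} (c c' : Γ(T.left, ⊤)) :
    mc (S := S) ℓ c' ≫ mc ℓ c = mc ℓ (c' * c) := by
  rw [← Category.id_comp (mc ℓ c' ≫ mc ℓ c), ← Category.id_comp (mc ℓ (c' * c)),
    ← lift_fst_snd, ← Category.assoc, lift_mc, lift_mc, lift_mc, pcl_mul, MonObj.comp_mul,
    ← _root_.mul_assoc, pt_mul_comm (snd _ _ ≫ MagDef.pc ℓ c)]

variable {X : Over S} (a : MonAct (AMonS S M) X)

theorem delta_delta (T : Over S) (x : (attr a N).obj (op T)) (c c' : Γ(T.left, ⊤)) :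
    delta ℓ a T (delta ℓ a T x c) c' = delta ℓ a T x (c' * c) := by
  apply Subtype.ext
  rw [delta_coe, delta_coe, delta_coe, ← Category.assoc, mc_mc]

end MC

theorem local_model (S : Scheme.{u}) (M : Type) [AddCommGroup M] [AddGroup.FG M] {X : Over S}
    [Smooth X.hom] (a : MonAct (AMonS S M) X) {N F : AddSubmonoid M}
    (hN : N.FG) (hF : IsFace N F) {ZN Z0 : Over S} [IsAffine ZN.left] [IsAffine Z0.left]
    (eN : (attr a N).RepresentableBy ZN) (e0 : (attr a F).RepresentableBy Z0) (j : ZN ⟶ Z0)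
    (hj : ∀ (T : Over S) (z : T ⟶ ZN),
      e0.homEquiv (z ≫ j) = (attrFace a hF).app (op T) (eN.homEquiv z))
    (B : CommRingCat.{u}) (eW : Z0.left ≅ Spec B) :
    ∃ (P : Type u) (_ : AddCommGroup P) (_ : Module B P), Module.Finite B P ∧
      Module.Projective B P ∧
      ∃ e : ZN.left ≅ Spec (CommRingCat.of (SymmetricAlgebra B P)),
        e.hom ≫ Spec.map (CommRingCat.ofHom (algebraMap B (SymmetricAlgebra B P))) =
          j.left ≫ eW.hom := by
  obtain ⟨ℓ, hℓ⟩ := exists_height hN hF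
  have hℓ' : ∀ n : ↥N, (n : M) ∈ F → ℓ n = 0 := fun n hn => (hℓ n).mpr hn
  obtain ⟨s, hs⟩ : ∃ s : Z0 ⟶ ZN, eN.homEquiv s =
      (attrMap a hF.le).app (op Z0) (e0.homEquiv (𝟙 Z0)) :=
    ⟨eN.homEquiv.symm _, Equiv.apply_symm_apply _ _⟩
  have hs' : ∀ (T : Over S) (w : T ⟶ Z0), eN.homEquiv (w ≫ s) =
      (attrMap a hF.le).app (op T) (e0.homEquiv w) := by
    intro T w
    have h1 : (eN.homEquiv (w ≫ s)).1 = (AMonS S ↥N ◁ w) ≫ (eN.homEquiv s).1 :=
      congrArg Subtype.val (eN.homEquiv_comp w s)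
    have h2 : (eN.homEquiv s).1 =
        (AMonS.map S (AddSubmonoid.inclusion hF.le) ▷ Z0) ≫
          (e0.homEquiv (𝟙 Z0)).1 := congrArg Subtype.val hs
    have h3 : (e0.homEquiv w).1 = (AMonS S ↥F ◁ w) ≫ (e0.homEquiv (𝟙 Z0)).1 := by
      have := congrArg Subtype.val (e0.homEquiv_comp w (𝟙 Z0))
      rwa [Category.comp_id] at this
    apply Subtype.ext
    change (eN.homEquiv (w ≫ s)).1 =
      (AMonS.map S (AddSubmonoid.inclusion hF.le) ▷ T) ≫ (e0.homEquiv w).1
    rw [h1, h2, h3, ← Category.assoc, whisker_exchange, Category.assoc]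
  have hsj : s ≫ j = 𝟙 Z0 := by
    apply e0.homEquiv.injective
    rw [hj, hs]
    apply Subtype.ext
    change (AMonS.faceMap S hF ▷ Z0) ≫
      (AMonS.map S (AddSubmonoid.inclusion hF.le) ▷ Z0) ≫
        (e0.homEquiv (𝟙 Z0)).1 = (e0.homEquiv (𝟙 Z0)).1
    rw [← Category.assoc, ← comp_whiskerRight, AMonS.faceMap_comp_map, id_whiskerRight,
      Category.id_comp]
  -- the operations on points
  obtain ⟨δ', hδ'⟩ : ∃ δ' : ∀ T : Over S, (T ⟶ ZN) → Γ(T.left, ⊤) → (T ⟶ ZN),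
      ∀ T x c, eN.homEquiv (δ' T x c) = delta ℓ a T (eN.homEquiv x) c :=
    ⟨fun T x c => eN.homEquiv.symm (delta ℓ a T (eN.homEquiv x) c),
      fun T x c => Equiv.apply_symm_apply _ _⟩
  have hnat : ∀ (T T' : Over S) (t : T' ⟶ T) (x : T ⟶ ZN) (c : Γ(T.left, ⊤)),
      δ' T' (t ≫ x) (pb t c) = t ≫ δ' T x c := by
    intro T T' t x c
    apply eN.homEquiv.injective
    rw [hδ', eN.homEquiv_comp, eN.homEquiv_comp, hδ']
    exact delta_nat ℓ a t (eN.homEquiv x) c
  have hone : ∀ (T : Over S) (x : T ⟶ ZN), δ' T x 1 = x := by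
    intro T x
    apply eN.homEquiv.injective
    rw [hδ', delta_one]
  have hmul : ∀ (T : Over S) (x : T ⟶ ZN) (c c' : Γ(T.left, ⊤)),
      δ' T (δ' T x c) c' = δ' T x (c' * c) := by
    intro T x c c'
    apply eN.homEquiv.injective
    rw [hδ', hδ', hδ', delta_delta]
  obtain ⟨act, hact⟩ := exists_act δ' hnat hone hmul
  have hδj : ∀ (T : Over S) (x : T ⟶ ZN) (c : Γ(T.left, ⊤)), δ' T x c ≫ j = x ≫ j := by
    intro T x c
    apply e0.homEquiv.injective
    rw [hj, hj, hδ', delta_face ℓ a hF hℓ']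
  have hq : act.act ≫ j = snd _ _ ≫ j := by
    have h1 : act.act = lift (fst _ _) (snd _ _) ≫ act.act := by
      rw [lift_fst_snd, Category.id_comp]
    rw [h1, hact, hδj]
  have hz : ze act = j ≫ s := by
    unfold ze
    rw [hact, KZ.chr_pc, toAdd_ofAdd, pow_one]
    apply eN.homEquiv.injective
    rw [hδ', delta_zero ℓ a hF hℓ, hs', ← hj, Category.id_comp]
  haveI : Smooth j.left := LFR.S18241_main S M hF a eN e0 j hj
  exact vb_of_action j s hsj act hq hz B eW

end Groth.Agent.H9.VB
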