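import Mathlib
import Groth.Agent.Lib.Helper9.Misc.MagAttr

set_option autoImplicit false
set_option linter.style.haveILetI false
universe u

/-! # VB7: the attractor of an action on an affine scheme lying over an affine open of the base is
represented by a closed subscheme. -/

namespace Groth.Agent.H9.VB

open CategoryTheory CategoryTheory.Limits AlgebraicGeometry MonoidalCategory
  CartesianMonoidalCategory MonObj Opposite
open Magnet
open Groth.Agent.H9.MagLoc Groth.Agent.H9.MagAttr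

variable {S : Scheme.{u}} {M : Type} [AddCommMonoid M] (N : AddSubmonoid M) {X : Over S}
  (a : MonAct (AMonS S M) X)

theorem main_affine (U : S.Opens) (hU : IsAffineOpen U) [IsAffine X.left]
    (hX : X.hom ⁻¹ᵁ U = ⊤) :
    ∃ (Z : Over S) (i : Z ⟶ X) (e : (Magnet.attr a N).RepresentableBy Z),
      IsClosedImmersion i.left ∧ IsAffine Z.left ∧
      ∀ (T : Over S) (z : T ⟶ Z), (Magnet.attrToX a N).app (op T) (e.homEquiv z) = z ≫ i := by
  haveI : IsSeparated X.hom := inferInstance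
  -- the cover
  have hcov : TopologicalSpace.IsOpenCover (fun _ : PUnit.{u + 1} => X.hom ⁻¹ᵁ U) := by
    rw [TopologicalSpace.IsOpenCover, hX]
    exact ciSup_const
  let 𝒱 : Scheme.OpenCover.{u} X.left :=
    X.left.openCoverOfIsOpenCover (fun _ : PUnit.{u + 1} => X.hom ⁻¹ᵁ U) hcov
  have hlocal : ∀ c : PUnit.{u + 1}, ∃ (Z : Scheme.{u}) (z : Z ⟶ 𝒱.X c), IsClosedImmersion z ∧
      ∀ {T : Scheme.{u}} (u : T ⟶ 𝒱.X c), P N a (u ≫ 𝒱.f c) ↔ ∃ w : T ⟶ Z, w ≫ z = u := by
    intro c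
    haveI : IsAffine (XU X U).left := by
      have h1 : IsAffineOpen (X.hom ⁻¹ᵁ U) := by
        rw [hX]
        exact isAffineOpen_top X.left
      exact h1
    obtain ⟨Z, z, hcl, hz⟩ := local_main N a U hU
    refine ⟨Z, z, hcl, fun {T} u => ?_⟩
    have h1 := hz (Over.mk (u ≫ (XU X U).hom)) (Over.homMk u rfl)
    have h2 : P N a (u ≫ 𝒱.f c) ↔ Ext N a ((Over.homMk u rfl :
        Over.mk (u ≫ (XU X U).hom) ⟶ XU X U) ≫ x₀ X U) := by
      rw [P_iff]; rfl
    exact h2.trans h1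
  choose Zl zl hzcl hzl using hlocal
  haveI : ∀ c, IsClosedImmersion (zl c) := hzcl
  obtain ⟨W₀, j₀, hj₀, hW⟩ := MagGlue.glue_closed (fun {T} x => P N a x) 𝒱 Zl zl
    (fun c {T} u => hzl c u) (fun x 𝒰 h => P_local N a x 𝒰 h) (fun t x h => P_comp N a t x h)
  -- the representing object
  obtain ⟨j, hj⟩ : ∃ j : Over.mk (j₀ ≫ X.hom) ⟶ X, j.left = j₀ := ⟨Over.homMk j₀ rfl, rfl⟩
  haveI : IsClosedImmersion j.left := by rw [hj]; exact hj₀
  haveI : Mono j := MEX.mono_of_closedImmersion j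
  have hPj : Ext N a j := by
    rw [P_iff, hj]
    exact (hW j₀).mpr ⟨𝟙 _, Category.id_comp _⟩
  obtain ⟨Φ, hΦ⟩ := hPj
  have hsurj : ∀ (T : Over S) (φ : AMonS S N ⊗ T ⟶ X),
      MonAct.IsEquivariant (((MonAct.regular (AMonS S N)).restrict (AMonS.map S N.subtype)).prod
        (MonAct.trivial (AMonS S M) T)) a φ →
        ∃ z : T ⟶ Over.mk (j₀ ≫ X.hom), z ≫ j = MagRepB.ev φ := by
    intro T φ hφ
    have h1 : Ext N a (MagRepB.ev φ) := ⟨φ, MagRepB.restrict_eq (AMonS.map S N.subtype) a φ hφ⟩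
    obtain ⟨d, hd⟩ := (hW (MagRepB.ev φ).left).mp ((P_iff N a _).mp h1)
    refine ⟨Over.homMk d ?_, ?_⟩
    · change d ≫ j₀ ≫ X.hom = T.hom
      rw [← Category.assoc, hd, Over.w]
    · apply Over.OverMorphism.ext
      rw [Over.comp_left, hj]
      exact hd
  obtain ⟨e, he⟩ := MagRepB.representable (AMonS.map S N.subtype) a (MagShf.hD N) j Φ hΦ hsurj
  have haff : IsAffine (Over.mk (j₀ ≫ X.hom)).left := by
    have : IsAffineHom j₀ := inferInstance
    exact isAffine_of_isAffineHom j₀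
  exact ⟨Over.mk (j₀ ≫ X.hom), j, e, inferInstance, haff, he⟩

end Groth.Agent.H9.VB
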