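import Mathlib
import Groth.Agent.Lib.Helper9.Misc.MagOpen

set_option autoImplicit false
set_option linter.style.haveILetI false
universe u

/-! # VB8: attractors of an equivariant open subscheme: the comparison map is an open immersion,
cartesian over the limit-point evaluation. -/

namespace Groth.Agent.H9.VB

open CategoryTheory CategoryTheory.Limits AlgebraicGeometry MonoidalCategory
  CartesianMonoidalCategory MonObj Opposite
open Magnet
open Groth.Agent.H9.MagKun Groth.Agent.H9.MagChr Groth.Agent.H9.MagPts Groth.Agent.H9.MagOpen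
  Groth.Agent.H9.MagDef

variable {S : Scheme.{u}} {M : Type} [AddCommGroup M] (N : AddSubmonoid M)

/-- limit-point evaluation -/
noncomputable def evp {X : Over S} (a : MonAct (AMonS S M) X) {Z : Over S}
    (e : (attr a N).RepresentableBy Z) : Z ⟶ X :=
  lift (ept N Z) (𝟙 Z) ≫ (e.homEquiv (𝟙 Z)).1

theorem homEquiv_coe {X : Over S} (a : MonAct (AMonS S M) X) {Z : Over S}
    (e : (attr a N).RepresentableBy Z) {T : Over S} (z : T ⟶ Z) :
    (e.homEquiv z).1 = (AMonS S ↥N ◁ z) ≫ (e.homEquiv (𝟙 Z)).1 := by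
  have := congrArg Subtype.val (e.homEquiv_comp z (𝟙 Z))
  rwa [Category.comp_id] at this

theorem evp_comp {X : Over S} (a : MonAct (AMonS S M) X) {Z : Over S}
    (e : (attr a N).RepresentableBy Z) {T : Over S} (z : T ⟶ Z) :
    lift (ept N T) (𝟙 T) ≫ (e.homEquiv z).1 = z ≫ evp N a e := by
  rw [homEquiv_coe, evp, lift_whiskerLeft_assoc, Category.id_comp, ← Category.assoc, comp_lift,
    Category.comp_id, ept_precomp]

section OP

variable {X Y : Over S} (aX : MonAct (AMonS S M) X) (aY : MonAct (AMonS S M) Y)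
  (f : X ⟶ Y) (hf : MonAct.IsEquivariant aX aY f) {ZX ZY : Over S}
  (eX : (attr aX N).RepresentableBy ZX) (eY : (attr aY N).RepresentableBy ZY)

theorem exists_o : ∃ j : ZX ⟶ ZY, ∀ (T : Over S) (z : T ⟶ ZX), eY.homEquiv (z ≫ j) =
    (MonAct.eqvHom.postcomp (subAct S M N) f hf).app (op T) (eX.homEquiv z) := by
  refine ⟨eY.homEquiv.symm ((MonAct.eqvHom.postcomp (subAct S M N) f hf).app (op ZX)
    (eX.homEquiv (𝟙 ZX))), fun T z => ?_⟩
  apply Subtype.ext
  rw [homEquiv_coe N aY eY]
  have h1 : (eY.homEquiv (z ≫ eY.homEquiv.symm ((MonAct.eqvHom.postcomp (subAct S M N) f hf).app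
      (op ZX) (eX.homEquiv (𝟙 ZX))))).1 = (AMonS S ↥N ◁ z) ≫ (eY.homEquiv (eY.homEquiv.symm
        ((MonAct.eqvHom.postcomp (subAct S M N) f hf).app (op ZX) (eX.homEquiv (𝟙 ZX))))).1 :=
    congrArg Subtype.val (eY.homEquiv_comp z _)
  rw [← homEquiv_coe N aY eY, h1, Equiv.apply_symm_apply]
  change (AMonS S ↥N ◁ z) ≫ (eX.homEquiv (𝟙 ZX)).1 ≫ f = (eX.homEquiv z).1 ≫ f
  rw [homEquiv_coe N aX eX z, Category.assoc]

variable [AddGroup.FG M] [IsOpenImmersion f.left] (j : ZX ⟶ ZY)
  (hj : ∀ (T : Over S) (z : T ⟶ ZX), eY.homEquiv (z ≫ j) =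
    (MonAct.eqvHom.postcomp (subAct S M N) f hf).app (op T) (eX.homEquiv z))

include hj in
theorem open_pullback : IsPullback (evp N aX eX) j f (evp N aY eY) := by
  haveI : Mono f.left := inferInstance
  haveI : Mono f := Over.mono_of_mono_left f
  have E3 : ∀ {T : Over S} (z : T ⟶ ZX), (eY.homEquiv (z ≫ j)).1 = (eX.homEquiv z).1 ≫ f :=
    fun z => congrArg Subtype.val (hj _ z)
  have hw : evp N aX eX ≫ f = j ≫ evp N aY eY := by
    have h0 := E3 (𝟙 ZX)
    rw [Category.id_comp] at h0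
    rw [← evp_comp N aY eY j, h0, evp, Category.assoc]
  have hjmono : ∀ {T : Over S} (l l' : T ⟶ ZX), l ≫ j = l' ≫ j → l = l' := by
    intro T l l' h
    apply eX.homEquiv.injective
    apply Subtype.ext
    rw [← cancel_mono f, ← E3, ← E3, h]
  have hex : ∀ s : PullbackCone f (evp N aY eY),
      ∃ l : s.pt ⟶ ZX, l ≫ evp N aX eX = s.fst ∧ l ≫ j = s.snd := by
    intro s
    have hcond : lift (ept N s.pt) (𝟙 s.pt) ≫ (eY.homEquiv s.snd).1 = s.fst ≫ f := by
      rw [evp_comp, s.condition]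
    obtain ⟨ψ, hψ⟩ := exists_factor hf (eY.homEquiv s.snd) s.fst hcond
    have hψe : MonAct.IsEquivariant ((subAct S M N).prod (MonAct.trivial (AMonS S M) s.pt)) aX ψ :=
      equivariant_of_comp hf _ ψ (by rw [hψ]; exact (eY.homEquiv s.snd).2)
    have hlj : eX.homEquiv.symm ⟨ψ, hψe⟩ ≫ j = s.snd := by
      apply eY.homEquiv.injective
      apply Subtype.ext
      rw [E3, Equiv.apply_symm_apply]
      exact hψ
    refine ⟨eX.homEquiv.symm ⟨ψ, hψe⟩, ?_, hlj⟩
    rw [← cancel_mono f, Category.assoc, hw, ← Category.assoc, hlj, s.condition]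
  refine ⟨⟨hw⟩, ⟨PullbackCone.IsLimit.mk _ (fun s => Classical.choose (hex s))
    (fun s => (Classical.choose_spec (hex s)).1) (fun s => (Classical.choose_spec (hex s)).2)
    (fun s m _ h2 => ?_)⟩⟩
  exact hjmono _ _ (h2.trans (Classical.choose_spec (hex s)).2.symm)

include hj in
theorem isOpenImmersion_o : IsOpenImmersion j.left :=
  MorphismProperty.of_isPullback (P := @IsOpenImmersion)
    ((open_pullback N aX aY f hf eX eY j hj).map (Over.forget S))
    (show IsOpenImmersion f.left from inferInstance)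

include hj in
theorem range_o : Set.range j.left = (evp N aY eY).left ⁻¹' (Set.range f.left) := by
  have hpb : IsPullback (evp N aX eX).left j.left f.left (evp N aY eY).left :=
    (open_pullback N aX aY f hf eX eY j hj).map (Over.forget S)
  ext z
  constructor
  · rintro ⟨w, rfl⟩
    refine ⟨(evp N aX eX).left w, ?_⟩
    rw [← Scheme.Hom.comp_apply, hpb.w, Scheme.Hom.comp_apply]
  · rintro ⟨x, hx⟩
    obtain ⟨w, hw1, hw2⟩ := Scheme.Pullback.exists_preimage_pullback x z hx
    refine ⟨hpb.isoPullback.inv w, ?_⟩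
    rw [← Scheme.Hom.comp_apply, hpb.isoPullback_inv_snd]
    exact hw2

end OP

section Face

variable {N}
variable {X : Over S} (a : MonAct (AMonS S M) X) {ZN Z0 : Over S}
  (eN : (attr a N).RepresentableBy ZN) (e0 : (attr a (unitFace N)).RepresentableBy Z0)
  (j : ZN ⟶ Z0)
  (hj : ∀ (T : Over S) (z : T ⟶ ZN),
    e0.homEquiv (z ≫ j) = (attrFace a (isFace_unitFace N)).app (op T) (eN.homEquiv z))

theorem ept_face (T : Over S) :
    ept (unitFace N) T ≫ AMonS.faceMap S (isFace_unitFace N) = ept (S := S) N T := by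
  apply chr_injective
  apply MonoidHom.ext
  intro n
  by_cases h : ((Multiplicative.toAdd n : ↥N) : M) ∈ unitFace N
  · rw [chr_faceMap_of_mem (isFace_unitFace N) _ n h, chr_ept_of_mem N _ n h]
    apply chr_ept_of_mem
    obtain ⟨h1, y, hy, hxy⟩ := h
    refine ⟨⟨h1, y, hy, hxy⟩, y, ⟨hy, _, h1, ?_⟩, hxy⟩
    rw [add_comm]; exact hxy
  · rw [chr_faceMap_of_not_mem (isFace_unitFace N) _ n h, chr_ept_of_not_mem N _ n h]

include hj in
theorem evp_face : evp N a eN = j ≫ evp (unitFace N) a e0 := by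
  rw [← evp_comp (unitFace N) a e0 j]
  have h1 : (e0.homEquiv j).1 = (AMonS.faceMap S (isFace_unitFace N) ▷ ZN) ≫
      (eN.homEquiv (𝟙 ZN)).1 := by
    have := congrArg Subtype.val (hj ZN (𝟙 ZN))
    rw [Category.id_comp] at this
    exact this
  rw [h1, lift_whiskerRight_assoc, ept_face, evp]

end Face

end Groth.Agent.H9.VB
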