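import Mathlib
import Groth.Prelude.Def_AlgSp2
import Groth.Agent.Lib.Helper7.AS3
import Groth.Agent.Lib.Helper5.AlgSp.LocalRep

/-! # ZGL1: `Type u`-valued sheaves on `Over S` as objects of `AlgSp.Sp S`, representability transfer -/

set_option autoImplicit false
set_option linter.style.haveILetI false
set_option linter.unusedSectionVars false
set_option linter.unusedVariables false

open CategoryTheory CategoryTheory.Limits AlgebraicGeometry Opposite

namespace Groth.Agent.H9.ZGL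
universe u

open AlgSp

variable {S : Scheme.{u}}

/-- fppf sheaf (valued one universe up) from a `Type u`-valued sheaf on `Over S`. -/
noncomputable def mkSp (P : (Over S)ᵒᵖ ⥤ Type u) (hP : Presheaf.IsSheaf (J S) P) : Sp S :=
  ⟨P ⋙ uliftFunctor.{u + 1, u}, by
    rw [isSheaf_iff_isSheaf_of_type, Presieve.isSheaf_comp_uliftFunctor_iff,
      ← isSheaf_iff_isSheaf_of_type]
    exact hP⟩

noncomputable def mkSpHom {P Q : (Over S)ᵒᵖ ⥤ Type u} (hP : Presheaf.IsSheaf (J S) P)
    (hQ : Presheaf.IsSheaf (J S) Q) (α : P ⟶ Q) : mkSp P hP ⟶ mkSp Q hQ :=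
  ⟨Functor.whiskerRight α uliftFunctor.{u + 1, u}⟩

theorem mkSpHom_app {P Q : (Over S)ᵒᵖ ⥤ Type u} (hP : Presheaf.IsSheaf (J S) P)
    (hQ : Presheaf.IsSheaf (J S) Q) (α : P ⟶ Q) (T : (Over S)ᵒᵖ) (x : P.obj T) :
    (mkSpHom hP hQ α).hom.app T ⟨x⟩ = ⟨α.app T x⟩ := rfl

theorem yon_isSheaf (X : Over S) : Presheaf.IsSheaf (J S) (yoneda.obj X) :=
  ((J S).yoneda.obj X).2

theorem mkSp_yoneda (X : Over S) : mkSp (yoneda.obj X) (yon_isSheaf X) = (yon S).obj X := rfl

theorem mkSpHom_yoneda_map {X Y : Over S} (f : X ⟶ Y) :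
    mkSpHom (yon_isSheaf X) (yon_isSheaf Y) (yoneda.map f) = (yon S).map f := rfl

/-- transfer of a representation to the lifted sheaf -/
def repUp {P : (Over S)ᵒᵖ ⥤ Type u} (hP : Presheaf.IsSheaf (J S) P) {Z : Over S}
    (e : P.RepresentableBy Z) : (mkSp P hP).obj.RepresentableBy Z where
  homEquiv := e.homEquiv.trans Equiv.ulift.symm
  homEquiv_comp f g := by
    apply ULift.ext
    exact e.homEquiv_comp f g

/-- transfer of a representation from the lifted sheaf -/
def repDown {P : (Over S)ᵒᵖ ⥤ Type u} (hP : Presheaf.IsSheaf (J S) P) {Z : Over S}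
    (e : (mkSp P hP).obj.RepresentableBy Z) : P.RepresentableBy Z where
  homEquiv := e.homEquiv.trans Equiv.ulift
  homEquiv_comp f g := congrArg ULift.down (e.homEquiv_comp f g)

theorem isPullback_mkSp {P Q R T : (Over S)ᵒᵖ ⥤ Type u} (hP : Presheaf.IsSheaf (J S) P)
    (hQ : Presheaf.IsSheaf (J S) Q) (hR : Presheaf.IsSheaf (J S) R)
    (hT : Presheaf.IsSheaf (J S) T) {a : P ⟶ Q} {b : P ⟶ R} {c : Q ⟶ T} {d : R ⟶ T}
    (sq : IsPullback a b c d) :
    IsPullback (mkSpHom hP hQ a) (mkSpHom hP hR b) (mkSpHom hQ hT c) (mkSpHom hR hT d) := by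
  rw [Groth.Agent.H7.AS.sheaf_isPullback_iff']
  refine ⟨?_, fun Y => ?_⟩
  · apply Sheaf.hom_ext
    ext Y ⟨x⟩
    apply ULift.ext
    exact congrArg (fun (φ : P ⟶ T) => φ.app Y x) sq.w
  · obtain ⟨-, h2, h3⟩ := (Types.isPullback_iff _ _ _ _).1 (sq.app Y)
    refine ⟨?_, ?_⟩
    · rintro ⟨x⟩ ⟨y⟩ h₁ h₂
      apply ULift.ext
      exact h2 x y ⟨congrArg ULift.down h₁, congrArg ULift.down h₂⟩
    · rintro ⟨x⟩ ⟨y⟩ hxy
      obtain ⟨z, hz1, hz2⟩ := h3 x y (congrArg ULift.down hxy)
      exact ⟨⟨z⟩, ULift.ext _ _ hz1, ULift.ext _ _ hz2⟩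

section Glue

variable {P : (Over S)ᵒᵖ ⥤ Type u} (hP : Presheaf.IsSheaf (J S) P)
  {X : Over S} (ev : P ⟶ yoneda.obj X)
  {ι : Type u} (U : ι → Over S) (jU : ∀ i, U i ⟶ X) [∀ i, IsOpenImmersion (jU i).left]
  (PU : ι → (Over S)ᵒᵖ ⥤ Type u) (hPU : ∀ i, Presheaf.IsSheaf (J S) (PU i))
  (incl : ∀ i, PU i ⟶ P) (evU : ∀ i, PU i ⟶ yoneda.obj (U i))
  (sq : ∀ i, IsPullback (incl i) (evU i) ev (yoneda.map (jU i)))
  (Z : ι → Over S) (e : ∀ i, (PU i).RepresentableBy (Z i))

/-- the chart maps -/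
noncomputable def chart (i : ι) : (yon S).obj (Z i) ⟶ mkSp P hP :=
  (isoOfRepresentableBy (repUp (hPU i) (e i))).hom ≫ mkSpHom (hPU i) hP (incl i)

include sq in
theorem repWith_chart (i : ι) : RepWith @IsOpenImmersion (chart hP PU hPU incl Z e i) := by
  unfold chart
  rw [MorphismProperty.cancel_left_of_respectsIso (RepWith @IsOpenImmersion)]
  have sqSp := isPullback_mkSp (hPU i) hP (yon_isSheaf (U i)) (yon_isSheaf X) (sq i)
  exact MorphismProperty.of_isPullback (P := RepWith @IsOpenImmersion) sqSp.flip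
    ((repWith_yon_map_iff @IsOpenImmersion (jU i)).2 inferInstance)

include hP hPU e sq in
theorem exists_rep
    (hcov : ∀ (K : Type u) [Field K] (str : Spec (.of K) ⟶ S) (x : P.obj (op (Over.mk str))),
      ∃ i, ∃ x' : Over.mk str ⟶ U i, x' ≫ jU i = ev.app _ x) :
    ∃ Z₀ : Over S, Nonempty (P.RepresentableBy Z₀) := by
  have hf := repWith_chart hP ev U jU PU hPU incl evU sq Z e
  have hsurj : ∀ x : Points (mkSp P hP), ∃ (i : ι) (u : ↥(Z i).left),
      Points.ofPt (chart hP PU hPU incl Z e i) u = x := by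
    intro x
    induction x using Points.ind with
    | h p =>
      obtain ⟨K, str, val⟩ := p
      obtain ⟨i, x', hx'⟩ := hcov K str val.down
      obtain ⟨-, -, h3⟩ := (Types.isPullback_iff _ _ _ _).1 ((sq i).app (op (Over.mk str)))
      obtain ⟨y, hy1, hy2⟩ := h3 val.down x' hx'.symm
      refine ⟨i, ((e i).homEquiv.symm y).left (IsLocalRing.closedPoint K), ?_⟩
      have h1 := Points.ofScheme_apply_eq_mk (Z i) ((e i).homEquiv.symm y).left
        (Over.w ((e i).homEquiv.symm y))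
      have h2 : Points.ofPt (chart hP PU hPU incl Z e i)
          (((e i).homEquiv.symm y).left (IsLocalRing.closedPoint K)) =
          Points.map (chart hP PU hPU incl Z e i)
            (Points.ofScheme (Z i) (((e i).homEquiv.symm y).left (IsLocalRing.closedPoint K))) := by
        rw [Points.map_ofPt, Category.id_comp]
      rw [h2, h1, Points.map_mk]
      congr 1
      change FieldPt.mk K str _ = FieldPt.mk K str _
      congr 1
      change (mkSpHom (hPU i) hP (incl i)).hom.app _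
        ((isoOfRepresentableBy (repUp (hPU i) (e i))).hom.hom.app _ _) = _
      rw [isoOfRepresentableBy_hom_app]
      change ULift.up ((incl i).app _ ((e i).homEquiv (Over.homMk ((e i).homEquiv.symm y).left _))) = _
      apply ULift.ext
      have h3 : (Over.homMk ((e i).homEquiv.symm y).left (Over.w ((e i).homEquiv.symm y)) :
          Over.mk str ⟶ Z i) = (e i).homEquiv.symm y := by
        ext : 1
        rfl
      rw [h3, Equiv.apply_symm_apply]
      exact hy1
  obtain ⟨X₀, e₀, -⟩ := Groth.Agent.H5.AlgSp.LocalRep.exists_iso hf hsurj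
  exact ⟨X₀, ⟨repDown hP (representableByOfIso e₀)⟩⟩

end Glue

end Groth.Agent.H9.ZGL
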