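import Mathlib
import Groth.Prelude.Def_Magnet3
import Groth.Agent.Lib.Helper9.Misc.ZGL1
import Groth.Agent.Lib.Helper9.Misc.FXS2
import Groth.Agent.Lib.Helper9.Misc.MEX2
import Groth.Agent.Lib.Helper9.Misc.MagRepC
import Groth.Agent.Lib.Helper9.Misc.KZ2

/-! # ZGL2: representability of the functor `D_X` of equivariant maps from a Kempf-type monoid
when the stable affine opens cover the fixed points (S18964). -/

set_option autoImplicit false
set_option linter.style.haveILetI false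
set_option linter.unusedSectionVars false
set_option linter.unusedVariables false

open CategoryTheory CategoryTheory.Limits AlgebraicGeometry MonoidalCategory
  CartesianMonoidalCategory MonObj Opposite

namespace Groth.Agent.H9.ZGL
universe u

open Magnet AlgSp

section RAct

variable {S : Scheme.{u}} {A X : Over S} [MonObj A] (a : MonAct A X)

theorem exists_rAct {U : X.left.Opens} (hU : (snd A X).left ⁻¹ᵁ U ≤ a.act.left ⁻¹ᵁ U) :
    ∃ α : A ⊗ KZ.XU X U ⟶ KZ.XU X U, α ≫ KZ.jU X U = (A ◁ KZ.jU X U) ≫ a.act := by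
  apply MagOpen.exists_factor_of_range
  rintro _ ⟨r, rfl⟩
  rw [KZ.range_jU]
  have h1 : (A ◁ KZ.jU X U).left r ∈ (snd A X).left ⁻¹ᵁ U := by
    change (snd A X).left ((A ◁ KZ.jU X U).left r) ∈ U
    rw [← Scheme.Hom.comp_apply, ← Over.comp_left, whiskerLeft_snd, Over.comp_left,
      Scheme.Hom.comp_apply]
    exact KZ.jU_mem U _
  have h2 : a.act.left ((A ◁ KZ.jU X U).left r) ∈ U := hU h1
  rw [Over.comp_left, Scheme.Hom.comp_apply]
  exact h2

/-- the restricted action on a stable open -/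
noncomputable def rAct {U : X.left.Opens} (hU : (snd A X).left ⁻¹ᵁ U ≤ a.act.left ⁻¹ᵁ U) :
    MonAct A (KZ.XU X U) :=
  EB.restrictAct a (KZ.jU X U) (exists_rAct a hU).choose (exists_rAct a hU).choose_spec

theorem rAct_equivariant {U : X.left.Opens} (hU : (snd A X).left ⁻¹ᵁ U ≤ a.act.left ⁻¹ᵁ U) :
    MonAct.IsEquivariant (rAct a hU) a (KZ.jU X U) :=
  EB.isEquivariant_restrictAct a (KZ.jU X U) _ (exists_rAct a hU).choose_spec

end RAct

section Main

variable {k : Type u} [Field k]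

theorem S18964_main
    (M G X : Over (Spec (CommRingCat.of k))) [MonObj M] [GrpObj G] [IsAffine M.left] [IsAffine G.left]
    (i : G ⟶ M) [IsMonHom i] [IsOpenImmersion i.left] [IsSchemeTheoreticallyDominant i.left]
    (o : 𝟙_ (Over (Spec (CommRingCat.of k))) ⟶ M)
    (ho : ∀ (T : Over (Spec (CommRingCat.of k))) (m : T ⟶ M),
      m * (toUnit T ≫ o) = toUnit T ≫ o ∧ (toUnit T ≫ o) * m = toUnit T ≫ o)
    (hM : ∀ (T : Over (Spec (CommRingCat.of k))) (K : Type u) [Field K]
      (eT : T.left ≅ Spec (CommRingCat.of K)) (W : (M ⊗ T).left.Opens),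
      (CartesianMonoidalCategory.snd G (M ⊗ T)).left ⁻¹ᵁ W ≤
          ((((Magnet.MonAct.regular M).restrict i).prod (Magnet.MonAct.trivial G T)).act).left ⁻¹ᵁ W →
      (CartesianMonoidalCategory.lift (toUnit T ≫ o) (𝟙 T)).left ⁻¹ᵁ W = ⊤ → W = ⊤)
    (aX : AlgGrp.Action G X)
    (hcov : ∀ (T : Over (Spec (CommRingCat.of k)))
      (x : (Magnet.MonAct.fixedPsh (Magnet.MonAct.ofAction aX)).obj (op T)),
      ⨆ (U : X.left.Opens) (_ : IsAffineOpen U ∧
        (CartesianMonoidalCategory.snd G X).left ⁻¹ᵁ U ≤ aX.act.left ⁻¹ᵁ U),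
        x.1.left ⁻¹ᵁ U = ⊤) :
    ∃ Z : Over (Spec (CommRingCat.of k)),
      Nonempty ((Magnet.MonAct.eqvHom ((Magnet.MonAct.regular M).restrict i)
        (Magnet.MonAct.ofAction aX)).RepresentableBy Z) := by
  -- index set
  let Idx : Type u := {U : X.left.Opens // IsAffineOpen U ∧
    (CartesianMonoidalCategory.snd G X).left ⁻¹ᵁ U ≤ aX.act.left ⁻¹ᵁ U}
  have hst : ∀ U : Idx, (snd G X).left ⁻¹ᵁ U.1 ≤ (MonAct.ofAction aX).act.left ⁻¹ᵁ U.1 :=
    fun U => U.2.2
  -- restricted actions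
  let aU : ∀ U : Idx, AlgGrp.Action G (KZ.XU X U.1) := fun U =>
    (rAct (MonAct.ofAction aX) (hst U)).toAction
  have hj : ∀ U : Idx, MonAct.IsEquivariant (MonAct.ofAction (aU U)) (MonAct.ofAction aX)
      (KZ.jU X U.1) := fun U => rAct_equivariant (MonAct.ofAction aX) (hst U)
  -- local representability
  have hloc : ∀ U : Idx, ∃ (Z : Over (Spec (CommRingCat.of k))),
      Nonempty ((MonAct.eqvHom ((MonAct.regular M).restrict i)
        (MonAct.ofAction (aU U))).RepresentableBy Z) := by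
    intro U
    haveI : IsAffine (KZ.XU X U.1).left := U.2.1
    obtain ⟨Z, j, e, -, -⟩ := MagRepC.main M G (KZ.XU X U.1) i (aU U)
    exact ⟨Z, ⟨e⟩⟩
  choose Z hZ using hloc
  have hJ : ∀ (Y : Over (Spec (CommRingCat.of k))) (a : MonAct G Y),
      Presheaf.IsSheaf (J (Spec (CommRingCat.of k)))
        (MonAct.eqvHom ((MonAct.regular M).restrict i) a) :=
    fun Y a => FXS.eqvHom_isSheaf' _ _ a
  refine exists_rep (hJ X _)
    (MonAct.eqvHom.evalAt ((MonAct.regular M).restrict i) (MonAct.ofAction aX) o)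
    (fun U : Idx => KZ.XU X U.1) (fun U => KZ.jU X U.1)
    (fun U => MonAct.eqvHom ((MonAct.regular M).restrict i) (MonAct.ofAction (aU U)))
    (fun U => hJ _ _)
    (fun U => MonAct.eqvHom.postcomp ((MonAct.regular M).restrict i) (KZ.jU X U.1) (hj U))
    (fun U => MonAct.eqvHom.evalAt ((MonAct.regular M).restrict i) (MonAct.ofAction (aU U)) o)
    (fun U => MEX.S18958_main M G X (KZ.XU X U.1) i o hM aX (aU U) (KZ.jU X U.1) (hj U))
    Z (fun U => (hZ U).some) ?_
  -- covering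
  intro K _ str x
  -- the fixed point
  have hfix : ∀ (T' : Over (Spec (CommRingCat.of k))) (t : T' ⟶ Over.mk str) (g : T' ⟶ G),
      lift g (t ≫ (lift (toUnit (Over.mk str) ≫ o) (𝟙 (Over.mk str)) ≫ x.1)) ≫
        (MonAct.ofAction aX).act =
      t ≫ (lift (toUnit (Over.mk str) ≫ o) (𝟙 (Over.mk str)) ≫ x.1) := by
    intro T' t g
    have hx := (MonAct.mem_eqvHom_iff x.1).1 x.2 T' g (toUnit T' ≫ o) t
    have h0 : lift g (toUnit T' ≫ o) ≫ ((MonAct.regular M).restrict i).act = toUnit T' ≫ o := by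
      rw [MonAct.lift_restrict_act, MonAct.lift_regular_act]
      exact (ho T' (g ≫ i)).1
    rw [h0] at hx
    have h1 : t ≫ lift (toUnit (Over.mk str) ≫ o) (𝟙 (Over.mk str)) =
        lift (toUnit T' ≫ o) t := by
      rw [comp_lift, Category.comp_id, ← Category.assoc, toUnit_unique (t ≫ toUnit _) (toUnit T')]
    rw [← Category.assoc t, h1, ← hx]
  obtain ⟨xx, hxx⟩ : ∃ xx : Over.mk str ⟶ X,
      xx = lift (toUnit (Over.mk str) ≫ o) (𝟙 (Over.mk str)) ≫ x.1 := ⟨_, rfl⟩
  have hc := hcov (Over.mk str) ⟨xx, by rw [hxx]; exact hfix⟩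
  have hmem : IsLocalRing.closedPoint K ∈ (⊤ : (Spec (CommRingCat.of K)).Opens) := trivial
  rw [← hc] at hmem
  obtain ⟨U, hmemU⟩ := TopologicalSpace.Opens.mem_iSup.1 hmem
  obtain ⟨hU, hmemU⟩ := TopologicalSpace.Opens.mem_iSup.1 hmemU
  have hall : ∀ t : (Over.mk str).left, xx.left t ∈ U := by
    intro t
    have : t = IsLocalRing.closedPoint K :=
      @Subsingleton.elim (PrimeSpectrum K) inferInstance t (IsLocalRing.closedPoint K)
    rw [this]
    exact hmemU
  obtain ⟨x', hx'⟩ := KZ.factor xx hall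
  refine ⟨⟨U, hU⟩, x', ?_⟩
  rw [hx', hxx]
  rfl

end Main

end Groth.Agent.H9.ZGL
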