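import Mathlib
import Groth.Agent.Lib.Helper9.Misc.ZGL2

set_option autoImplicit false
set_option linter.style.haveILetI false
universe u

/-! # VB9: a Zariski-locally linearizable action has stable affine open charts lying over affine
opens of the base. -/

namespace Groth.Agent.H9.VB

open CategoryTheory CategoryTheory.Limits AlgebraicGeometry MonoidalCategory
  CartesianMonoidalCategory MonObj Opposite
open Magnet

variable {S : Scheme.{u}} {A X : Over S} [MonObj A] (a : MonAct A X)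

theorem exists_local_chart
    (hlin : ∀ x : X.left, ∃ V : X.left.Opens, x ∈ V ∧ IsAffineHom (V.ι ≫ X.hom) ∧
      (snd A X).left ⁻¹ᵁ V ≤ a.act.left ⁻¹ᵁ V) (x₀ : X.left) :
    ∃ (U₁ : X.left.Opens) (S₁ : S.Opens), x₀ ∈ U₁ ∧ IsAffineOpen U₁ ∧ IsAffineOpen S₁ ∧
      (snd A X).left ⁻¹ᵁ U₁ ≤ a.act.left ⁻¹ᵁ U₁ ∧ U₁ ≤ X.hom ⁻¹ᵁ S₁ := by
  obtain ⟨V, hxV, hVaff, hVst⟩ := hlin x₀
  obtain ⟨_, ⟨S₁, hS₁, rfl⟩, hxS, -⟩ :=
    S.isBasis_affineOpens.exists_subset_of_mem_open (Set.mem_univ (X.hom x₀)) isOpen_univ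
  refine ⟨V ⊓ X.hom ⁻¹ᵁ S₁, S₁, ⟨hxV, hxS⟩, ?_, hS₁, ?_, inf_le_right⟩
  · have h1 : IsAffineOpen ((V.ι ≫ X.hom) ⁻¹ᵁ S₁) := hS₁.preimage (V.ι ≫ X.hom)
    have h2 := h1.image_of_isOpenImmersion V.ι
    have h3 : V.ι ''ᵁ ((V.ι ≫ X.hom) ⁻¹ᵁ S₁) = V ⊓ X.hom ⁻¹ᵁ S₁ := by
      ext y
      constructor
      · rintro ⟨w, hw, rfl⟩
        exact ⟨w.2, hw⟩
      · rintro ⟨hy1, hy2⟩
        exact ⟨⟨y, hy1⟩, hy2, rfl⟩
    rw [← h3]
    exact h2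
  · intro p hp
    refine ⟨hVst hp.1, ?_⟩
    have h1 : (a.act.left ≫ X.hom) p = ((snd A X).left ≫ X.hom) p := by
      rw [Over.w a.act, Over.w (snd A X)]
    have h2 : X.hom ((snd A X).left p) ∈ S₁ := hp.2
    show X.hom (a.act.left p) ∈ S₁
    rw [Scheme.Hom.comp_apply, Scheme.Hom.comp_apply] at h1
    rw [h1]
    exact h2

end Groth.Agent.H9.VB
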