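import Mathlib
import Groth.Agent.Lib.Helper9.Misc.VB6
import Groth.Agent.Lib.Helper9.Misc.VB7
import Groth.Agent.Lib.Helper9.Misc.VB8
import Groth.Agent.Lib.Helper9.Misc.VB9
import Groth.Agent.Lib.Helper9.Misc.VB10

set_option autoImplicit false
set_option linter.style.haveILetI false
universe u

/-! # VB11: the face projection `X^N → X^{N*}` of attractors of a smooth, Zariski-locally
linearizable `D(M)`-scheme is a vector bundle, Zariski-locally on `X^{N*}`. -/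

namespace Groth.Agent.H9.VB

open CategoryTheory CategoryTheory.Limits AlgebraicGeometry MonoidalCategory
  CartesianMonoidalCategory MonObj Opposite
open Magnet
open Groth.Agent.H9.MagKun Groth.Agent.H9.MagChr Groth.Agent.H9.MagPts Groth.Agent.H9.MagDef

section Gen

variable {C : Type*} [Category C] {F G : Cᵒᵖ ⥤ Type u} {ZF ZG : C}

theorem exists_rep_map (eF : F.RepresentableBy ZF) (eG : G.RepresentableBy ZG) (τ : F ⟶ G) :
    ∃ j : ZF ⟶ ZG, ∀ (T : C) (z : T ⟶ ZF),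
      eG.homEquiv (z ≫ j) = τ.app (op T) (eF.homEquiv z) := by
  refine ⟨eG.homEquiv.symm (τ.app (op ZF) (eF.homEquiv (𝟙 ZF))), fun T z => ?_⟩
  rw [eG.homEquiv_comp, Equiv.apply_symm_apply]
  have h1 := eF.homEquiv_comp z (𝟙 ZF)
  rw [Category.comp_id] at h1
  rw [h1]
  exact (NatTrans.naturality_apply τ z.op _).symm

end Gen

section Face

variable {S : Scheme.{u}} {M : Type} [AddCommMonoid M] {N Nc F : AddSubmonoid M}

theorem faceMap_comp_map_incl (hF : IsFace N F) (hle : Nc ≤ N) (hFc : IsFace Nc F) :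
    AMonS.faceMap S hF ≫ AMonS.map S (AddSubmonoid.inclusion hle) = AMonS.faceMap S hFc := by
  rw [← Category.id_comp (AMonS.faceMap S hF ≫ _), ← Category.id_comp (AMonS.faceMap S hFc)]
  apply chr_injective
  apply MonoidHom.ext
  intro n
  rw [← Category.assoc, chr_comp_map]
  by_cases h : ((Multiplicative.toAdd n : ↥Nc) : M) ∈ F
  · rw [chr_faceMap_of_mem hFc _ n h, chr_faceMap_of_mem hF _ _ h]
    rfl
  · rw [chr_faceMap_of_not_mem hFc _ n h, chr_faceMap_of_not_mem hF _ _ h]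

end Face

theorem S18245_main (S : Scheme.{u}) (M : Type) [AddCommGroup M] [AddGroup.FG M] {X : Over S}
    [LocallyOfFinitePresentation X.hom] [Smooth X.hom] (a : MonAct (AMonS S M) X)
    (hlin : ∀ x : X.left, ∃ V : X.left.Opens, x ∈ V ∧ IsAffineHom (V.ι ≫ X.hom) ∧
      (snd (AMonS S M) X).left ⁻¹ᵁ V ≤ a.act.left ⁻¹ᵁ V)
    (N : AddSubmonoid M) {ZN Z0 : Over S}
    (eN : (attr a N).RepresentableBy ZN) (e0 : (attr a (unitFace N)).RepresentableBy Z0)
    (j : ZN ⟶ Z0) (hj : ∀ (T : Over S) (z : T ⟶ ZN),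
      e0.homEquiv (z ≫ j) = (attrFace a (isFace_unitFace N)).app (op T) (eN.homEquiv z))
    (z : Z0.left) :
    ∃ (W : Z0.left.Opens) (hW : IsAffineOpen W), z ∈ W ∧
      ∃ (P : Type u) (_ : AddCommGroup P) (_ : Module Γ(Z0.left, W) P),
        Module.Finite Γ(Z0.left, W) P ∧ Module.Projective Γ(Z0.left, W) P ∧
        ∃ e : (↑(j.left ⁻¹ᵁ W) : Scheme.{u}) ≅
            Spec (CommRingCat.of (SymmetricAlgebra Γ(Z0.left, W) P)),
          e.hom ≫ Spec.map (CommRingCat.ofHom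
              (algebraMap Γ(Z0.left, W) (SymmetricAlgebra Γ(Z0.left, W) P))) =
            (j.left ∣_ W) ≫ hW.isoSpec.hom := by
  -- the chart
  obtain ⟨U₁, S₁, hx, hU₁aff, hS₁, hst, hle⟩ :=
    exists_local_chart a hlin ((evp (unitFace N) a e0).left z)
  obtain ⟨a₁, ha₁⟩ : ∃ a₁ : MonAct (AMonS S M) (KZ.XU X U₁), a₁ = ZGL.rAct a hst := ⟨_, rfl⟩
  have hf : MonAct.IsEquivariant a₁ a (KZ.jU X U₁) := ha₁ ▸ ZGL.rAct_equivariant a hst
  haveI : IsAffine (KZ.XU X U₁).left := hU₁aff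
  haveI : LocallyOfFinitePresentation (KZ.XU X U₁).hom :=
    inferInstanceAs (LocallyOfFinitePresentation (U₁.ι ≫ X.hom))
  haveI : Smooth (KZ.XU X U₁).hom := inferInstanceAs (Smooth (U₁.ι ≫ X.hom))
  haveI : LocallyOfFiniteType (KZ.XU X U₁).hom := inferInstance
  have hX₁ : (KZ.XU X U₁).hom ⁻¹ᵁ S₁ = ⊤ := by
    rw [eq_top_iff]
    intro y _
    exact hle (KZ.jU_mem U₁ y)
  -- the local attractors
  obtain ⟨Z₁N, iN, e₁N, -, haffN, -⟩ := main_affine N a₁ S₁ hS₁ hX₁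
  obtain ⟨Z₁0, i0, e₁0, -, haff0, -⟩ := main_affine (unitFace N) a₁ S₁ hS₁ hX₁
  obtain ⟨oN, hoN⟩ := exists_o N a₁ a (KZ.jU X U₁) hf e₁N eN
  obtain ⟨o0, ho0⟩ := exists_o (unitFace N) a₁ a (KZ.jU X U₁) hf e₁0 e0
  haveI : IsOpenImmersion oN.left := isOpenImmersion_o N a₁ a (KZ.jU X U₁) hf e₁N eN oN hoN
  haveI : IsOpenImmersion o0.left :=
    isOpenImmersion_o (unitFace N) a₁ a (KZ.jU X U₁) hf e₁0 e0 o0 ho0
  have hrN := range_o N a₁ a (KZ.jU X U₁) hf e₁N eN oN hoN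
  have hr0 := range_o (unitFace N) a₁ a (KZ.jU X U₁) hf e₁0 e0 o0 ho0
  obtain ⟨j₁, hj₁⟩ := exists_rep_map e₁N e₁0 (attrFace a₁ (isFace_unitFace N))
  have hcomm : oN ≫ j = j₁ ≫ o0 := by
    apply e0.homEquiv.injective
    rw [hj, ho0]
    have h1 := hoN _ (𝟙 Z₁N)
    rw [Category.id_comp] at h1
    have h2 := hj₁ _ (𝟙 Z₁N)
    rw [Category.id_comp] at h2
    rw [h1, h2]
    apply Subtype.ext
    change (AMonS.faceMap S (isFace_unitFace N) ▷ Z₁N) ≫ (e₁N.homEquiv (𝟙 Z₁N)).1 ≫ KZ.jU X U₁ =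
      ((AMonS.faceMap S (isFace_unitFace N) ▷ Z₁N) ≫ (e₁N.homEquiv (𝟙 Z₁N)).1) ≫ KZ.jU X U₁
    rw [Category.assoc]
  -- the finitely generated submagnet
  obtain ⟨Nc, hNcle, hfg, hface, hbij⟩ := exists_fg_magnet S M a₁ S₁ hS₁ hX₁ N
  let e₁Nc : (attr a₁ Nc).RepresentableBy Z₁N :=
    { homEquiv := fun {T} => (e₁N.homEquiv (X := T)).trans
        (Equiv.ofBijective _ (hbij T)).symm
      homEquiv_comp := by
        intro T T' t g
        apply (hbij T).1
        change (attrMap a₁ hNcle).app (op T) ((Equiv.ofBijective _ (hbij T)).symm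
          (e₁N.homEquiv (t ≫ g))) = (attrMap a₁ hNcle).app (op T) ((attr a₁ Nc).map t.op
            ((Equiv.ofBijective _ (hbij T')).symm (e₁N.homEquiv g)))
        rw [NatTrans.naturality_apply]
        have h1 := (Equiv.ofBijective _ (hbij T)).apply_symm_apply (e₁N.homEquiv (t ≫ g))
        have h2 := (Equiv.ofBijective _ (hbij T')).apply_symm_apply (e₁N.homEquiv g)
        rw [Equiv.ofBijective_apply] at h1 h2
        rw [h1, h2, e₁N.homEquiv_comp] }
  have hβ : ∀ (T : Over S) (w : T ⟶ Z₁N),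
      (attrMap a₁ hNcle).app (op T) (e₁Nc.homEquiv w) = e₁N.homEquiv w := by
    intro T w
    exact (Equiv.ofBijective _ (hbij T)).apply_symm_apply (e₁N.homEquiv w)
  have hj₁c : ∀ (T : Over S) (w : T ⟶ Z₁N),
      e₁0.homEquiv (w ≫ j₁) = (attrFace a₁ hface).app (op T) (e₁Nc.homEquiv w) := by
    intro T w
    rw [hj₁, ← hβ]
    apply Subtype.ext
    change (AMonS.faceMap S (isFace_unitFace N) ▷ T) ≫
      (AMonS.map S (AddSubmonoid.inclusion hNcle) ▷ T) ≫ (e₁Nc.homEquiv w).1 =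
        (AMonS.faceMap S hface ▷ T) ≫ (e₁Nc.homEquiv w).1
    rw [← Category.assoc, ← comp_whiskerRight, faceMap_comp_map_incl]
  -- the open
  have hWaff : IsAffineOpen o0.left.opensRange := isAffineOpen_opensRange o0.left
  have hzW : z ∈ o0.left.opensRange := by
    change z ∈ Set.range o0.left
    rw [hr0]
    change (evp (unitFace N) a e0).left z ∈ Set.range (KZ.jU X U₁).left
    rw [KZ.range_jU]
    exact hx
  refine ⟨o0.left.opensRange, hWaff, hzW, ?_⟩
  obtain ⟨P, i1, i2, hfin, hproj, e₁, he₁⟩ := local_model S M a₁ hfg hface e₁Nc e₁0 j₁ hj₁c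
    Γ(Z0.left, o0.left.opensRange) (o0.left.isoOpensRange ≪≫ hWaff.isoSpec)
  refine ⟨P, i1, i2, hfin, hproj, ?_⟩
  have hrange : Set.range (j.left ⁻¹ᵁ o0.left.opensRange).ι = Set.range oN.left := by
    rw [Scheme.Opens.range_ι, hrN, evp_face a eN e0 j hj]
    change j.left ⁻¹' (Set.range o0.left) = _
    rw [hr0]
    rfl
  refine ⟨IsOpenImmersion.isoOfRangeEq (j.left ⁻¹ᵁ o0.left.opensRange).ι oN.left hrange ≪≫ e₁, ?_⟩
  rw [Iso.trans_hom, Category.assoc, he₁, Iso.trans_hom, ← Category.assoc, ← Category.assoc]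
  congr 1
  rw [← cancel_mono o0.left.opensRange.ι, Category.assoc, Category.assoc,
    Scheme.Hom.isoOpensRange_hom_ι, morphismRestrict_ι, ← Over.comp_left, ← hcomm, Over.comp_left,
    IsOpenImmersion.isoOfRangeEq_hom_fac_assoc]

end Groth.Agent.H9.VB
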