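import Mathlib
import Groth.Prelude.Def_Versch

/-!
# A finite commutative group scheme over a field of char. `p` is multiplicative iff its
Verschiebung is an isomorphism (ring level)
-/

set_option autoImplicit false
set_option linter.style.haveILetI false
set_option linter.unusedSectionVars false
set_option linter.unusedVariables false

namespace Groth.Agent.H9.VET

open TensorProduct

universe u v

section Frob

variable (p : ℕ) [Fact p.Prime] (k : Type u) [Field k] [CharP k p]
  (B : Type*) [CommRing B] [Algebra k B] [CharP B p]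

theorem relFrob_tmul (b : B) (s : FrobAlg.Twist p k) :
    FrobAlg.relFrob p k B (b ⊗ₜ s) =
      b ^ p * algebraMap k B ((FrobAlg.toTwist p k).symm s) := by
  simp [FrobAlg.relFrob, FrobAlg.frobHom, FrobAlg.inclHom, Algebra.TensorProduct.lift_tmul]
  rfl

theorem pow_p_eq (z : FrobAlg.BaseChange p k B) :
    z ^ p = FrobAlg.relFrob p k B z ⊗ₜ[k] (1 : FrobAlg.Twist p k) := by
  haveI : Nontrivial (FrobAlg.Twist p k) := inferInstanceAs (Nontrivial k)
  haveI : CharP (B ⊗[k] FrobAlg.Twist p k) p :=
    charP_of_injective_ringHom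
      (f := (Algebra.TensorProduct.includeLeft : B →ₐ[k] B ⊗[k] FrobAlg.Twist p k).toRingHom)
      (Algebra.TensorProduct.includeLeft_injective (S := k)
        (algebraMap k (FrobAlg.Twist p k)).injective) p
  haveI : ExpChar (B ⊗[k] FrobAlg.Twist p k) p := ExpChar.prime Fact.out
  induction z using TensorProduct.induction_on with
  | zero => simp [zero_pow (Fact.out : p.Prime).ne_zero]
  | add w w' hw hw' => rw [add_pow_expChar, hw, hw', map_add, TensorProduct.add_tmul]
  | tmul b s =>
    rw [Algebra.TensorProduct.tmul_pow, relFrob_tmul, mul_comm, ← Algebra.smul_def,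
      TensorProduct.smul_tmul, Algebra.smul_def, mul_one, FrobAlg.algebraMap_twist, map_pow,
      RingEquiv.apply_symm_apply]

/-- Étale ⟹ the relative Frobenius is injective. -/
theorem relFrob_injective_of_etale [Algebra.Etale k B] :
    Function.Injective (FrobAlg.relFrob p k B) := by
  letI : Field (FrobAlg.Twist p k) := inferInstanceAs (Field k)
  haveI : IsReduced (FrobAlg.Twist p k ⊗[k] B) :=
    Algebra.FormallyUnramified.isReduced_of_field (FrobAlg.Twist p k) (FrobAlg.Twist p k ⊗[k] B)
  rw [injective_iff_map_eq_zero]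
  intro z hz
  have h1 : z ^ p = 0 := by rw [pow_p_eq p k B z, hz, TensorProduct.zero_tmul]
  have h2 : IsNilpotent (Algebra.TensorProduct.comm k B (FrobAlg.Twist p k) z) :=
    ⟨p, by rw [← map_pow, h1, map_zero]⟩
  have h3 := IsReduced.eq_zero _ h2
  exact (map_eq_zero_iff _ (Algebra.TensorProduct.comm k B (FrobAlg.Twist p k)).injective).1 h3

/-- Surjective relative Frobenius ⟹ formally unramified. -/
theorem formallyUnramified_of_relFrob_surjective
    (h : Function.Surjective (FrobAlg.relFrob p k B)) : Algebra.FormallyUnramified k B := by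
  have hD : ∀ x : B, KaehlerDifferential.D k B x = 0 := by
    intro x
    obtain ⟨z, rfl⟩ := h x
    induction z using TensorProduct.induction_on with
    | zero => simp
    | add z z' hz hz' => rw [map_add, map_add, hz, hz', add_zero]
    | tmul b s =>
      rw [relFrob_tmul, mul_comm, ← Algebra.smul_def, Derivation.map_smul, Derivation.leibniz_pow,
        ← Nat.cast_smul_eq_nsmul B, CharP.cast_eq_zero, zero_smul, smul_zero]
  refine ⟨subsingleton_of_forall_eq 0 fun ω => ?_⟩
  have hω : ω ∈ Submodule.span B (Set.range (KaehlerDifferential.D k B)) := by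
    rw [KaehlerDifferential.span_range_derivation]; trivial
  have hle : Submodule.span B (Set.range (KaehlerDifferential.D k B)) ≤ ⊥ := by
    rw [Submodule.span_le]
    rintro _ ⟨x, rfl⟩
    exact hD x
  exact (Submodule.mem_bot B).1 (hle hω)

end Frob

section Coords

variable (p : ℕ) [Fact p.Prime] (k : Type u) [Field k] [CharP k p]
variable {M : Type*} [AddCommGroup M] [Module k M] {n : ℕ}

/-- `t ↦ ∑ b_i ⊗ t_i`. -/
noncomputable def S (b : Fin n → M) (t : Fin n → FrobAlg.Twist p k) :
    M ⊗[k] FrobAlg.Twist p k :=
  ∑ i, b i ⊗ₜ[k] t i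

theorem S_surjective (b : Fin n → M) (φ : Fin n → (M →ₗ[k] k))
    (hexp : ∀ m : M, m = ∑ i, φ i m • b i) : Function.Surjective (S p k b) := by
  intro w
  induction w using TensorProduct.induction_on with
  | zero => exact ⟨0, by simp [S]⟩
  | add w w' hw hw' =>
    obtain ⟨t, rfl⟩ := hw
    obtain ⟨t', rfl⟩ := hw'
    refine ⟨t + t', ?_⟩
    simp only [S, Pi.add_apply, TensorProduct.tmul_add, Finset.sum_add_distrib]
  | tmul m s =>
    refine ⟨fun i => φ i m • s, ?_⟩
    simp only [S]
    conv_rhs => rw [hexp m, TensorProduct.sum_tmul]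
    apply Finset.sum_congr rfl
    intro i _
    rw [TensorProduct.smul_tmul]

theorem S_injective (b : Fin n → M) (φ : Fin n → (M →ₗ[k] k))
    (hδ : ∀ i j, φ i (b j) = if i = j then 1 else 0) : Function.Injective (S p k b) := by
  intro t t' h
  funext i
  have key : ∀ t : Fin n → FrobAlg.Twist p k,
      TensorProduct.lid k (FrobAlg.Twist p k)
        ((φ i).rTensor (FrobAlg.Twist p k) (S p k b t)) = t i := by
    intro t
    simp only [S, map_sum, LinearMap.rTensor_tmul, TensorProduct.lid_tmul, hδ]
    rw [Finset.sum_eq_single i]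
    · simp
    · intro j _ hj
      simp [Ne.symm hj]
    · intro hi
      exact absurd (Finset.mem_univ i) hi
  rw [← key t, ← key t', h]

end Coords

section Main

variable (p : ℕ) [Fact p.Prime] (k : Type u) [Field k] [CharP k p]
  (A : Type v) [CommRing A] [HopfAlgebra k A] [Coalgebra.IsCocomm k A] [FiniteDimensional k A]

variable {n : ℕ} (a : Module.Basis (Fin n) k A)

/-- The dual family. -/
noncomputable def xx (i : Fin n) : CartDual.D k A := WithConv.toConv (a.coord i)

theorem xx_apply (i j : Fin n) : xx k A a i (a j) = if j = i then 1 else 0 := by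
  rw [CartDual.coe_apply]
  change a.repr (a j) i = _
  rw [Module.Basis.repr_self, Finsupp.single_apply]

/-- The matrix of the `p`-th powers of the dual family. -/
noncomputable def UU : Matrix (Fin n) (Fin n) k := fun i j => (xx k A a i ^ p) (a j)

/-- Evaluation at a basis vector, as a functional on the dual. -/
noncomputable def evA (j : Fin n) : CartDual.D k A →ₗ[k] k :=
  LinearMap.applyₗ (a j) ∘ₗ (CartDual.toDual k A).toLinearMap

theorem evA_apply (j : Fin n) (y : CartDual.D k A) : evA k A a j y = y (a j) := rfl

theorem dual_expand (y : CartDual.D k A) : y = ∑ j, evA k A a j y • xx k A a j := by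
  apply (CartDual.toDual k A).injective
  rw [map_sum]
  simp only [map_smul]
  exact (a.sum_dual_apply_smul_coord (CartDual.toDual k A y)).symm

theorem a_expand (m : A) : m = ∑ i, a.coord i m • a i := (a.sum_repr m).symm

theorem evTw_S (t : Fin n → FrobAlg.Twist p k) (i : Fin n) :
    Versch.evTw p k A (xx k A a i) (S p k a t) = t i := by
  simp only [S, map_sum, Versch.evTw_tmul, xx_apply]
  rw [Finset.sum_eq_single i]
  · simp
  · intro j _ hj
    simp [hj]
  · intro hi
    exact absurd (Finset.mem_univ i) hi

theorem Phi_injective {w w' : FrobAlg.BaseChange p k A}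
    (h : ∀ i, Versch.evTw p k A (xx k A a i) w = Versch.evTw p k A (xx k A a i) w') :
    w = w' := by
  obtain ⟨t, rfl⟩ := S_surjective p k a (fun i => a.coord i) (a_expand k A a) w
  obtain ⟨t', rfl⟩ := S_surjective p k a (fun i => a.coord i) (a_expand k A a) w'
  congr 1
  funext i
  rw [← evTw_S p k A a t i, ← evTw_S p k A a t' i, h]

theorem evTw_v (v : A →+* FrobAlg.BaseChange p k A) (hv : Versch.IsVerschiebung p k A v)
    (c : Fin n → k) (i : Fin n) :
    Versch.evTw p k A (xx k A a i) (v (∑ j, c j • a j)) =
      FrobAlg.toTwist p k ((UU p k A a).mulVec c i) := by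
  rw [(Versch.isVerschiebung_iff p k A v).1 hv]
  congr 1
  rw [CartDual.coe_apply, map_sum]
  simp only [map_smul, smul_eq_mul, Matrix.mulVec, dotProduct, UU, CartDual.coe_apply]
  exact Finset.sum_congr rfl (fun j _ => mul_comm _ _)

theorem v_bijective_of_isUnit (v : A →+* FrobAlg.BaseChange p k A)
    (hv : Versch.IsVerschiebung p k A v) (hU : IsUnit (UU p k A a)) :
    Function.Bijective v := by
  have hinj := Matrix.mulVec_injective_iff_isUnit.2 hU
  have hsurj := Matrix.mulVec_surjective_iff_isUnit.2 hU
  constructor
  · intro a₁ a₂ h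
    have h1 : a.equivFun a₁ = a.equivFun a₂ := by
      apply hinj
      funext i
      apply (FrobAlg.toTwist p k).injective
      rw [← evTw_v p k A a v hv, ← evTw_v p k A a v hv, a.sum_equivFun, a.sum_equivFun, h]
    exact a.equivFun.injective h1
  · intro w
    obtain ⟨c, hc⟩ := hsurj (fun i => (FrobAlg.toTwist p k).symm
      (Versch.evTw p k A (xx k A a i) w))
    refine ⟨∑ j, c j • a j, Phi_injective p k A a (fun i => ?_)⟩
    rw [evTw_v p k A a v hv, hc, RingEquiv.apply_symm_apply]

theorem isUnit_of_v_injective (v : A →+* FrobAlg.BaseChange p k A)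
    (hv : Versch.IsVerschiebung p k A v) (h : Function.Injective v) :
    IsUnit (UU p k A a) := by
  rw [← Matrix.mulVec_injective_iff_isUnit]
  intro c c' hcc
  have h1 : v (∑ j, c j • a j) = v (∑ j, c' j • a j) := by
    apply Phi_injective p k A a
    intro i
    rw [evTw_v p k A a v hv, evTw_v p k A a v hv, hcc]
  have h2 := h h1
  rw [← a.equivFun_symm_apply, ← a.equivFun_symm_apply] at h2
  exact a.equivFun.symm.injective h2

theorem relFrob_S (t : Fin n → FrobAlg.Twist p k) :
    FrobAlg.relFrob p k (CartDual.D k A) (S p k (xx k A a) t) =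
      ∑ j, (Matrix.vecMul (fun i => (FrobAlg.toTwist p k).symm (t i)) (UU p k A a)) j •
        xx k A a j := by
  have hexp : ∀ i, xx k A a i ^ p = ∑ j, UU p k A a i j • xx k A a j :=
    fun i => dual_expand k A a (xx k A a i ^ p)
  simp only [S, map_sum, relFrob_tmul]
  calc ∑ i, xx k A a i ^ p * algebraMap k (CartDual.D k A) ((FrobAlg.toTwist p k).symm (t i))
      = ∑ i, ∑ j, ((FrobAlg.toTwist p k).symm (t i) * UU p k A a i j) • xx k A a j := by
        apply Finset.sum_congr rfl
        intro i _
        rw [hexp i, Finset.sum_mul]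
        apply Finset.sum_congr rfl
        intro j _
        rw [mul_comm, ← Algebra.smul_def, smul_smul]
    _ = ∑ j, ∑ i, ((FrobAlg.toTwist p k).symm (t i) * UU p k A a i j) • xx k A a j :=
        Finset.sum_comm
    _ = _ := by
        apply Finset.sum_congr rfl
        intro j _
        rw [← Finset.sum_smul]
        rfl

theorem evA_xx (i j : Fin n) : evA k A a i (xx k A a j) = if i = j then 1 else 0 := by
  rw [evA_apply, xx_apply]

theorem isUnit_of_relFrob_injective
    (h : Function.Injective (FrobAlg.relFrob p k (CartDual.D k A))) :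
    IsUnit (UU p k A a) := by
  rw [← Matrix.vecMul_injective_iff_isUnit]
  intro c c' hcc
  have hcc' : Matrix.vecMul c (UU p k A a) = Matrix.vecMul c' (UU p k A a) := hcc
  have h1 : S p k (xx k A a) (fun i => FrobAlg.toTwist p k (c i)) =
      S p k (xx k A a) (fun i => FrobAlg.toTwist p k (c' i)) := by
    apply h
    rw [relFrob_S, relFrob_S]
    simp only [RingEquiv.symm_apply_apply]
    exact congrArg (fun (w : Fin n → k) => ∑ j, w j • xx k A a j) hcc'
  have h2 := S_injective p k (xx k A a) (evA k A a) (evA_xx k A a) h1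
  funext i
  exact (FrobAlg.toTwist p k).injective (congrFun h2 i)

theorem relFrob_surjective_of_isUnit (hU : IsUnit (UU p k A a)) :
    Function.Surjective (FrobAlg.relFrob p k (CartDual.D k A)) := by
  have hs := Matrix.vecMul_surjective_iff_isUnit.2 hU
  intro y
  obtain ⟨c, hc⟩ := hs (fun j => evA k A a j y)
  have hc' : Matrix.vecMul c (UU p k A a) = fun j => evA k A a j y := hc
  refine ⟨S p k (xx k A a) (fun i => FrobAlg.toTwist p k (c i)), ?_⟩
  rw [relFrob_S]
  simp only [RingEquiv.symm_apply_apply]
  rw [dual_expand k A a y]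
  exact congrArg (fun (w : Fin n → k) => ∑ j, w j • xx k A a j) hc'

/-- **S15890**. -/
theorem S15890_main (v : A →+* FrobAlg.BaseChange p k A) (hv : Versch.IsVerschiebung p k A v) :
    Algebra.Etale k (CartDual.D k A) ↔ Function.Bijective v := by
  let a := Module.finBasis k A
  constructor
  · intro hE
    have h1 := relFrob_injective_of_etale p k (CartDual.D k A)
    exact v_bijective_of_isUnit p k A a v hv (isUnit_of_relFrob_injective p k A a h1)
  · intro hb
    have hU := isUnit_of_v_injective p k A a v hv hb.1
    have hs := relFrob_surjective_of_isUnit p k A a hU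
    haveI := formallyUnramified_of_relFrob_surjective p k (CartDual.D k A) hs
    haveI : Algebra.FormallyEtale k (CartDual.D k A) :=
      Algebra.FormallyEtale.of_formallyUnramified_of_field k _
    haveI : Algebra.FinitePresentation k (CartDual.D k A) :=
      Algebra.FinitePresentation.of_finiteType.1 inferInstance
    exact {}

end Main

end Groth.Agent.H9.VET
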