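import Mathlib

/-! Helper9: valuative criterion and base change along a surjective closed immersion -/

namespace Groth.Agent.H9.ValBC

open AlgebraicGeometry CategoryTheory Limits

universe u

/-- reformulation: unique lifts -/
theorem vc_iff {X Y : Scheme.{u}} (f : X ⟶ Y) :
    ValuativeCriterion f ↔ ∀ S : ValuativeCommSq f,
      ∃! l : Spec (.of S.R) ⟶ X,
        Spec.map (CommRingCat.ofHom (algebraMap S.R S.K)) ≫ l = S.i₁ ∧ l ≫ f = S.i₂ := by
  constructor
  · intro h S
    obtain ⟨u⟩ := h S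
    refine ⟨u.default.l, ⟨u.default.fac_left, u.default.fac_right⟩, ?_⟩
    rintro l ⟨h1, h2⟩
    have := u.uniq ⟨l, h1, h2⟩
    exact congrArg CommSq.LiftStruct.l this
  · intro h S
    obtain ⟨l, ⟨h1, h2⟩, huniq⟩ := h S
    refine ⟨⟨⟨⟨l, h1, h2⟩⟩, ?_⟩⟩
    intro l'
    ext
    exact huniq l'.l ⟨l'.fac_left, l'.fac_right⟩

theorem main {X X₀ Y : Scheme.{u}} (i : X₀ ⟶ X)
    [IsClosedImmersion i] [Surjective i] (f : Y ⟶ X) :
    ValuativeCriterion f ↔ ValuativeCriterion (pullback.snd f i) := by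
  rw [vc_iff, vc_iff]
  constructor
  · intro h S
    let S' : ValuativeCommSq f :=
      { R := S.R
        K := S.K
        i₁ := S.i₁ ≫ pullback.fst f i
        i₂ := S.i₂ ≫ i
        commSq := ⟨by simp only [Category.assoc, pullback.condition, reassoc_of% S.commSq.w]⟩ }
    obtain ⟨l₀, ⟨hl₁, hl₂⟩, huniq⟩ := h S'
    have hl₁' : Spec.map (CommRingCat.ofHom (algebraMap S.R S.K)) ≫ l₀ = S.i₁ ≫ pullback.fst f i := hl₁
    have hl₂' : l₀ ≫ f = S.i₂ ≫ i := hl₂
    have huniq' : ∀ y : Spec (.of S.R) ⟶ Y,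
        Spec.map (CommRingCat.ofHom (algebraMap S.R S.K)) ≫ y = S.i₁ ≫ pullback.fst f i →
        y ≫ f = S.i₂ ≫ i → y = l₀ := fun y h1 h2 => huniq y ⟨h1, h2⟩
    refine ⟨pullback.lift l₀ S.i₂ hl₂', ⟨?_, pullback.lift_snd _ _ _⟩, ?_⟩
    · apply pullback.hom_ext
      · rw [Category.assoc, pullback.lift_fst, hl₁']
      · rw [Category.assoc, pullback.lift_snd]
        exact S.commSq.w.symm
    · rintro l ⟨h1, h2⟩
      apply pullback.hom_ext
      · rw [pullback.lift_fst]
        apply huniq'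
        · rw [← Category.assoc, h1]
        · rw [Category.assoc, pullback.condition, ← Category.assoc, h2]
      · rw [pullback.lift_snd, h2]
  · intro h S
    -- factor the bottom map through X₀
    have : IsIso (pullback.fst S.i₂ i) := by
      have : IsReduced (Spec (CommRingCat.of S.R)) := inferInstance
      exact isIso_of_isClosedImmersion_of_surjective _
    let b : Spec (.of S.R) ⟶ X₀ := inv (pullback.fst S.i₂ i) ≫ pullback.snd S.i₂ i
    have hb : b ≫ i = S.i₂ := by
      simp only [b, Category.assoc, ← pullback.condition, IsIso.inv_hom_id_assoc]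
    have hcond : S.i₁ ≫ f = (Spec.map (CommRingCat.ofHom (algebraMap S.R S.K)) ≫ b) ≫ i := by
      rw [S.commSq.w, Category.assoc, hb]
    let S' : ValuativeCommSq (pullback.snd f i) :=
      { R := S.R
        K := S.K
        i₁ := pullback.lift S.i₁ (Spec.map (CommRingCat.ofHom (algebraMap S.R S.K)) ≫ b) hcond
        i₂ := b
        commSq := ⟨pullback.lift_snd _ _ _⟩ }
    obtain ⟨l₀, ⟨hl₁, hl₂⟩, huniq⟩ := h S'
    have hl₁' : Spec.map (CommRingCat.ofHom (algebraMap S.R S.K)) ≫ l₀ =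
        pullback.lift S.i₁ (Spec.map (CommRingCat.ofHom (algebraMap S.R S.K)) ≫ b) hcond := hl₁
    have hl₂' : l₀ ≫ pullback.snd f i = b := hl₂
    have huniq' : ∀ y : Spec (.of S.R) ⟶ pullback f i,
        Spec.map (CommRingCat.ofHom (algebraMap S.R S.K)) ≫ y =
          pullback.lift S.i₁ (Spec.map (CommRingCat.ofHom (algebraMap S.R S.K)) ≫ b) hcond →
        y ≫ pullback.snd f i = b → y = l₀ := fun y h1 h2 => huniq y ⟨h1, h2⟩
    refine ⟨l₀ ≫ pullback.fst f i, ⟨?_, ?_⟩, ?_⟩
    · rw [← Category.assoc, hl₁', pullback.lift_fst]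
    · rw [Category.assoc, pullback.condition, ← Category.assoc, hl₂', hb]
    · rintro l ⟨h1, h2⟩
      have := huniq' (pullback.lift l b (by rw [h2, hb])) ?_ (pullback.lift_snd _ _ _)
      · rw [← this, pullback.lift_fst]
      · apply pullback.hom_ext
        · rw [Category.assoc, pullback.lift_fst, pullback.lift_fst, h1]
        · rw [Category.assoc, pullback.lift_snd, pullback.lift_snd]

end Groth.Agent.H9.ValBC
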