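import Mathlib
import Groth.Agent.S11080

set_option linter.unusedSectionVars false
set_option linter.unusedVariables false
set_option linter.style.longLine false

namespace Groth.Agent.H9.ValFin

universe u

open IntermediateField
open scoped IntermediateField.algebraAdjoinAdjoin

theorem ringKrullDim_le_of_integral_injective {R S : Type*} [CommRing R] [CommRing S]
    [Algebra R S] [Algebra.IsIntegral R S] (hinj : Function.Injective (algebraMap R S)) :
    ringKrullDim R ≤ ringKrullDim S := by
  unfold ringKrullDim Order.krullDim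
  apply iSup_le
  intro l
  have hker : (⊥ : Ideal S).comap (algebraMap R S) ≤ (RelSeries.head l).asIdeal := by
    rw [← RingHom.ker_eq_comap_bot, (RingHom.injective_iff_ker_eq_bot _).1 hinj]
    exact bot_le
  obtain ⟨Q, -, hQp, hQc⟩ :=
    Ideal.exists_ideal_over_prime_of_isIntegral (RelSeries.head l).asIdeal (⊥ : Ideal S) hker
  haveI := hQp
  haveI : Q.LiesOver (RelSeries.head l).asIdeal := (Ideal.liesOver_iff _ _).mpr hQc.symm
  obtain ⟨L, hlen, -, -⟩ := Ideal.exists_ltSeries_of_hasGoingUp l Q
  rw [← hlen]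
  exact Order.LTSeries.length_le_krullDim L

theorem pow_mem_imp {F : Type*} [Field F] (O : ValuationSubring F) (x : F) (m : ℕ) (hm : m ≠ 0)
    (h : x ^ m ∈ O) : x ∈ O := by
  rw [← ValuationSubring.valuation_le_one_iff] at h ⊢
  rw [map_pow] at h
  exact (pow_le_one_iff hm).1 h

theorem comap_injective_of_purelyInsep (K F : Type*) [Field K] [Field F] [Algebra K F]
    [IsPurelyInseparable K F] :
    Function.Injective (fun O : ValuationSubring F => O.comap (algebraMap K F)) := by
  have key : ∀ (O₁ O₂ : ValuationSubring F),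
      O₁.comap (algebraMap K F) = O₂.comap (algebraMap K F) → ∀ x ∈ O₁, x ∈ O₂ := by
    intro O₁ O₂ h x hx
    obtain ⟨n, y, hy⟩ := IsPurelyInseparable.pow_mem K (ringExpChar K) x
    have h1 : y ∈ O₁.comap (algebraMap K F) := by
      rw [ValuationSubring.mem_comap, hy]; exact pow_mem hx _
    rw [h, ValuationSubring.mem_comap, hy] at h1
    exact pow_mem_imp O₂ x _ (pow_ne_zero _ (expChar_pos K (ringExpChar K)).ne') h1
  intro O O' h
  exact le_antisymm (fun x hx => key O O' h x hx) (fun x hx => key O' O h.symm x hx)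

theorem mem_of_isIntegral_of_le {R K : Type*} [CommRing R] [Field K] [Algebra R K]
    (O : ValuationSubring K) (hR : ∀ r : R, algebraMap R K r ∈ O) (x : K) (hx : IsIntegral R x) :
    x ∈ O := by
  let φ : R →+* O := (algebraMap R K).codRestrict O.toSubring hR
  have hc : (algebraMap O K).comp φ = algebraMap R K := RingHom.ext (fun r => rfl)
  obtain ⟨p, hp, hpx⟩ := hx
  have h1 : IsIntegral O x := ⟨p.map φ, hp.map φ, by rw [Polynomial.eval₂_map, hc]; exact hpx⟩
  obtain ⟨y, rfl⟩ := IsIntegrallyClosed.isIntegral_iff.1 h1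
  exact y.2

section Setup

variable (k F : Type u) [Field k] [Field F] [Algebra k F] (t : F)

/-- `k[t]` -/
abbrev D0 : Subalgebra k F := Algebra.adjoin k ({t} : Set F)
/-- `k(t)` -/
abbrev E0 : IntermediateField k F := IntermediateField.adjoin k ({t} : Set F)
/-- separable closure of `k(t)` in `F` -/
abbrev L0 : IntermediateField (E0 k F t) F := separableClosure (E0 k F t) F

noncomputable instance algD0L0 : Algebra (D0 k F t) (L0 k F t) :=
  ((algebraMap (E0 k F t) (L0 k F t)).comp (algebraMap (D0 k F t) (E0 k F t))).toAlgebra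

instance towerD0 : IsScalarTower (D0 k F t) (E0 k F t) (L0 k F t) :=
  IsScalarTower.of_algebraMap_eq (fun _ => rfl)

theorem D0_pid : IsPrincipalIdealRing (D0 k F t) := by
  have hD : Algebra.adjoin k ({t} : Set F) = (Polynomial.aeval t).range :=
    Algebra.adjoin_singleton_eq_range_aeval k t
  have hmem : ∀ p : Polynomial k, Polynomial.aeval t p ∈ D0 k F t := by
    intro p
    show Polynomial.aeval t p ∈ Algebra.adjoin k ({t} : Set F)
    rw [hD]; exact ⟨p, rfl⟩
  let f : Polynomial k →ₐ[k] D0 k F t := (Polynomial.aeval t).codRestrict (D0 k F t) hmem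
  have hf : Function.Surjective f := by
    rintro ⟨y, hy⟩
    have hy' : y ∈ (Polynomial.aeval t : Polynomial k →ₐ[k] F).range := hD ▸ hy
    obtain ⟨p, rfl⟩ := hy'
    exact ⟨p, Subtype.ext rfl⟩
  exact IsPrincipalIdealRing.of_surjective f.toRingHom hf

theorem finite_of_t (ht0 : t ≠ 0) [FiniteDimensional (E0 k F t) F] :
    {O : ValuationSubring F | (algebraMap k F).range ≤ O.toSubring ∧ t⁻¹ ∉ O}.Finite := by
  classical
  haveI : IsPrincipalIdealRing (D0 k F t) := D0_pid k F t
  haveI : IsDedekindDomain (integralClosure (D0 k F t) (L0 k F t)) :=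
    integralClosure.isDedekindDomain (D0 k F t) (E0 k F t) (L0 k F t)
  haveI : IsFractionRing (integralClosure (D0 k F t) (L0 k F t)) (L0 k F t) :=
    integralClosure.isFractionRing_of_finite_extension (A := D0 k F t) (E0 k F t) (L0 k F t)
  let tD : D0 k F t := ⟨t, Algebra.self_mem_adjoin_singleton k t⟩
  let tB : integralClosure (D0 k F t) (L0 k F t) :=
    ⟨algebraMap (D0 k F t) (L0 k F t) tD, isIntegral_algebraMap⟩
  have htB0 : tB ≠ 0 := by
    intro h
    apply ht0
    have h2 : ((tB : L0 k F t) : F) = 0 := by rw [h]; rfl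
    exact h2
  have hfin := Ideal.finite_factors (I := Ideal.span {tB})
    (by rw [Ne, Ideal.zero_eq_bot, Ideal.span_singleton_eq_bot]; exact htB0)
  have himg := hfin.image (fun v : IsDedekindDomain.HeightOneSpectrum
    (integralClosure (D0 k F t) (L0 k F t)) => (v.valuation (L0 k F t)).valuationSubring)
  have hinj : Function.Injective
      (fun O : ValuationSubring F => O.comap (algebraMap (L0 k F t) F)) :=
    comap_injective_of_purelyInsep (L0 k F t) F
  refine (himg.preimage (hinj.injOn)).subset ?_
  rintro O ⟨hk, hα⟩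
  have htO : t ∈ O := by
    rcases O.mem_or_inv_mem t with h | h
    · exact h
    · exact absurd h hα
  have hD : ∀ d : D0 k F t, (d : F) ∈ O := by
    rintro ⟨d, hd⟩
    refine Algebra.adjoin_induction (p := fun x _ => x ∈ O) ?_ ?_ ?_ ?_ hd
    · intro x hx; rw [Set.mem_singleton_iff.1 hx]; exact htO
    · intro r; exact hk ⟨r, rfl⟩
    · intro x y _ _ hx hy; exact O.add_mem _ _ hx hy
    · intro x y _ _ hx hy; exact O.mul_mem _ _ hx hy
  have hB : (algebraMap (integralClosure (D0 k F t) (L0 k F t)) (L0 k F t)).range ≤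
      (O.comap (algebraMap (L0 k F t) F)).toSubring := by
    rintro _ ⟨b, rfl⟩
    exact mem_of_isIntegral_of_le (R := D0 k F t) (O.comap (algebraMap (L0 k F t) F))
      (fun d => hD d) _ b.2
  have hne : O.comap (algebraMap (L0 k F t) F) ≠ ⊤ := by
    intro htop
    apply hα
    have h1 : ((tB : L0 k F t))⁻¹ ∈ O.comap (algebraMap (L0 k F t) F) := by rw [htop]; trivial
    rw [ValuationSubring.mem_comap, map_inv₀] at h1
    exact h1
  obtain ⟨v, hv⟩ := (Groth.Agent.S11080.result (integralClosure (D0 k F t) (L0 k F t))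
    (L0 k F t) (O.comap (algebraMap (L0 k F t) F))).1 ⟨hB, hne⟩
  refine ⟨v, ?_, hv.symm⟩
  show v.asIdeal ∣ Ideal.span {tB}
  rw [Ideal.dvd_iff_le, Ideal.span_singleton_le_iff_mem,
    ← IsDedekindDomain.HeightOneSpectrum.valuation_lt_one_iff_mem (K := L0 k F t)]
  by_contra hge
  have hge' := not_lt.1 hge
  apply hα
  have h1 : ((tB : L0 k F t))⁻¹ ∈ (v.valuation (L0 k F t)).valuationSubring := by
    rw [Valuation.mem_valuationSubring_iff, map_inv₀]
    exact inv_le_one_of_one_le₀ hge'
  rw [← hv, ValuationSubring.mem_comap, map_inv₀] at h1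
  exact h1

end Setup

theorem trdeg_le_one (k A F : Type u) [Field k] [CommRing A] [IsDomain A] [Algebra k A]
    [Algebra.FiniteType k A] (hA : ringKrullDim A = 1) [Field F] [Algebra A F]
    [IsFractionRing A F] [Algebra k F] [IsScalarTower k A F] : Algebra.trdeg k F ≤ 1 := by
  obtain ⟨s, g, hinj, hint⟩ := exists_integral_inj_algHom_of_fg k A
  letI : Algebra (MvPolynomial (Fin s) k) A := g.toRingHom.toAlgebra
  haveI : IsScalarTower k (MvPolynomial (Fin s) k) A :=
    IsScalarTower.of_algebraMap_eq (fun r => (g.commutes r).symm)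
  haveI : Algebra.IsIntegral (MvPolynomial (Fin s) k) A := ⟨hint⟩
  have h1 := ringKrullDim_le_of_integral_injective (R := MvPolynomial (Fin s) k) (S := A) hinj
  rw [hA, MvPolynomial.ringKrullDim_of_isNoetherianRing, ringKrullDim_eq_zero_of_field, zero_add,
    Nat.card_fin] at h1
  have hs : s ≤ 1 := by exact_mod_cast h1
  letI : Algebra (MvPolynomial (Fin s) k) F := ((algebraMap A F).comp g.toRingHom).toAlgebra
  haveI : IsScalarTower (MvPolynomial (Fin s) k) A F :=
    IsScalarTower.of_algebraMap_eq (fun _ => rfl)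
  haveI : IsScalarTower k (MvPolynomial (Fin s) k) F := IsScalarTower.of_algebraMap_eq (fun r => by
    rw [IsScalarTower.algebraMap_apply k A F,
      IsScalarTower.algebraMap_apply k (MvPolynomial (Fin s) k) A]; rfl)
  haveI : Algebra.IsAlgebraic A F := IsLocalization.isAlgebraic F (nonZeroDivisors A)
  haveI : Algebra.IsAlgebraic (MvPolynomial (Fin s) k) A := Algebra.IsIntegral.isAlgebraic
  haveI : Algebra.IsAlgebraic (MvPolynomial (Fin s) k) F :=
    Algebra.IsAlgebraic.trans (MvPolynomial (Fin s) k) A F
  haveI : FaithfulSMul (MvPolynomial (Fin s) k) F :=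
    (faithfulSMul_iff_algebraMap_injective _ _).mpr ((IsFractionRing.injective A F).comp hinj)
  have hTB := (IsTranscendenceBasis.mvPolynomial (Fin s) k).algebraMap_comp (A := F)
  have h2 := hTB.lift_cardinalMk_eq_trdeg
  simp only [Cardinal.mk_fin, Cardinal.lift_natCast, Cardinal.lift_id, Cardinal.lift_uzero] at h2
  rw [← h2]
  exact_mod_cast hs

theorem algebraic_finite (k A F : Type u) [Field k] [CommRing A] [IsDomain A] [Algebra k A]
    [Algebra.FiniteType k A] (hA : ringKrullDim A = 1) [Field F] [Algebra A F]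
    [IsFractionRing A F] [Algebra k F] [IsScalarTower k A F] (t : F) (ht : Transcendental k t) :
    FiniteDimensional (E0 k F t) F := by
  have htr := trdeg_le_one k A F hA
  have hAI : AlgebraicIndependent k (fun _ : PUnit.{u+1} => t) :=
    algebraicIndependent_unique_type_iff.mpr ht
  have hTB : IsTranscendenceBasis k (fun _ : PUnit.{u+1} => t) :=
    hAI.isTranscendenceBasis_of_trdeg_le_of_finite (by simpa using htr)
  have halg : Algebra.IsAlgebraic (E0 k F t) F := by
    have h := hTB.isAlgebraic_field
    rwa [Set.range_const] at h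
  haveI : Algebra.EssFiniteType A F := Algebra.EssFiniteType.of_isLocalization F (nonZeroDivisors A)
  haveI : Algebra.EssFiniteType k F := Algebra.EssFiniteType.comp k A F
  haveI : Algebra.EssFiniteType (E0 k F t) F := Algebra.EssFiniteType.of_comp k (E0 k F t) F
  obtain ⟨S, hS⟩ := IntermediateField.fg_top (E0 k F t) F
  have hfd : FiniteDimensional (E0 k F t) (IntermediateField.adjoin (E0 k F t) (S : Set F)) :=
    IntermediateField.finiteDimensional_adjoin
      (fun x _ => (Algebra.IsAlgebraic.isAlgebraic x).isIntegral)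
  rw [hS] at hfd
  exact Module.Finite.equiv (IntermediateField.topEquiv (F := E0 k F t) (E := F)).toLinearEquiv

end Groth.Agent.H9.ValFin
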