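import Mathlib

/-! Helper9: integral closure via valuation rings -/

set_option linter.style.haveILetI false

namespace Groth.Agent.H9.ValInt

universe u

theorem integral_of_valuative {A B : Type u} [CommRing A] [CommRing B] [Algebra A B] (x : B)
    (H : ∀ (K : Type u) [Field K] (R : ValuationSubring K) (φ : B →+* K),
        (∀ a : A, φ (algebraMap A B a) ∈ R) → φ x ∈ R) : IsIntegral A x := by
  -- Step 1: integral modulo every prime
  have step1 : ∀ q : Ideal B, q.IsPrime →
      ∃ p : Polynomial A, p.Monic ∧ Polynomial.aeval x p ∈ q := by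
    intro q hq
    let K := FractionRing (B ⧸ q)
    let φ : B →+* K := (algebraMap (B ⧸ q) K).comp (Ideal.Quotient.mk q)
    let f : A →+* K := φ.comp (algebraMap A B)
    have hmem : φ x ∈ (integralClosure (Subring.closure (f.range : Set K)) K).toSubring := by
      rw [← iInf_valuationSubring_superset, Subring.mem_iInf]
      intro V
      exact H K V.1 φ (fun a => V.2 ⟨a, rfl⟩)
    have hint : IsIntegral (Subring.closure (f.range : Set K)) (φ x) := hmem
    rw [Subring.closure_eq] at hint
    obtain ⟨p, hp, hpx⟩ := hint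
    have hsurj : Function.Surjective f.rangeRestrict := f.rangeRestrict_surjective
    obtain ⟨q₀, hq₀⟩ := Polynomial.map_surjective f.rangeRestrict hsurj p
    obtain ⟨r, hr, -, hrm⟩ := Polynomial.lifts_and_natDegree_eq_and_monic
      ((Polynomial.mem_lifts _).mpr ⟨q₀, hq₀⟩) hp
    refine ⟨r, hrm, ?_⟩
    have h1 : Polynomial.eval₂ f (φ x) r = 0 := by
      rw [← hr, Polynomial.eval₂_map] at hpx
      exact hpx
    have h2 : φ (Polynomial.aeval x r) = 0 := by
      rw [Polynomial.aeval_def, Polynomial.hom_eval₂]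
      exact h1
    have h3 : Ideal.Quotient.mk q (Polynomial.aeval x r) = 0 := by
      apply IsFractionRing.injective (B ⧸ q) K
      rw [map_zero]
      exact h2
    exact Ideal.Quotient.eq_zero_iff_mem.mp h3
  -- Step 2: the multiplicative set of monic values
  let S : Submonoid B :=
    { carrier := {b | ∃ p : Polynomial A, p.Monic ∧ Polynomial.aeval x p = b}
      one_mem' := ⟨1, Polynomial.monic_one, by simp⟩
      mul_mem' := by
        rintro _ _ ⟨p, hp, rfl⟩ ⟨q, hq, rfl⟩
        exact ⟨p * q, hp.mul hq, by simp⟩ }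
  by_contra hx
  have hdisj : Disjoint ((⊥ : Ideal B) : Set B) (S : Set B) := by
    rw [Set.disjoint_left]
    intro b hb hbS
    have hb0 : b = 0 := hb
    subst hb0
    obtain ⟨p, hp, hpx⟩ := hbS
    exact hx ⟨p, hp, by rw [← Polynomial.aeval_def]; exact hpx⟩
  obtain ⟨q, hq, -, hqS⟩ := Ideal.exists_le_prime_disjoint ⊥ S hdisj
  obtain ⟨p, hp, hpq⟩ := step1 q hq
  exact Set.disjoint_left.mp hqS hpq ⟨p, hp, rfl⟩

theorem valuative_of_integral {A B : Type u} [CommRing A] [CommRing B] [Algebra A B] (x : B)
    (hx : IsIntegral A x) (K : Type u) [Field K] (R : ValuationSubring K) (φ : B →+* K)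
    (h : ∀ a : A, φ (algebraMap A B a) ∈ R) : φ x ∈ R := by
  obtain ⟨p, hp, hpx⟩ := hx
  let g : A →+* R := (φ.comp (algebraMap A B)).codRestrict R.toSubring h
  have hint : IsIntegral R (φ x) := by
    refine ⟨p.map g, hp.map g, ?_⟩
    rw [Polynomial.eval₂_map]
    have : (algebraMap R K).comp g = φ.comp (algebraMap A B) := by
      ext a; rfl
    rw [this, ← Polynomial.hom_eval₂, hpx, map_zero]
  obtain ⟨y, hy⟩ := IsIntegrallyClosedIn.algebraMap_eq_of_integral hint
  rw [← hy]
  exact y.2

end Groth.Agent.H9.ValInt
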