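import Mathlib

/-! Helper9: coefficient of (t_1⋯t_n)^(n-1) in ∏_{i≠j}(t_i - t_j) is n! (S19004). -/

open MvPolynomial Matrix Finset Equiv

namespace Groth.Agent.H9.VdmCoeff

variable (n : ℕ)

/-- exponent vector of the `σ`-term of the Vandermonde determinant -/
noncomputable def eV (σ : Perm (Fin n)) : Fin n →₀ ℕ :=
  Finsupp.equivFunOnFinite.symm (fun k => ((σ⁻¹ k : Fin n) : ℕ))

/-- exponent vector of the `τ`-term of the reversed Vandermonde determinant -/
noncomputable def eW (τ : Perm (Fin n)) : Fin n →₀ ℕ :=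
  Finsupp.equivFunOnFinite.symm (fun k => (((τ⁻¹ k : Fin n).rev : Fin n) : ℕ))

theorem monomial_fun (f : Fin n → ℕ) :
    (∏ k : Fin n, (X k : MvPolynomial (Fin n) ℤ) ^ f k) =
      monomial (Finsupp.equivFunOnFinite.symm f) 1 := by
  rw [monomial_eq, map_one, one_mul, Finsupp.prod_fintype _ _ (fun _ => pow_zero _)]
  rfl

theorem termV (σ : Perm (Fin n)) :
    ∏ i, vandermonde (X : Fin n → MvPolynomial (Fin n) ℤ) (σ i) i = monomial (eV n σ) 1 := by
  rw [eV, ← monomial_fun]
  rw [← Equiv.prod_comp σ (fun k => (X k : MvPolynomial (Fin n) ℤ) ^ ((σ⁻¹ k : Fin n) : ℕ))]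
  simp

theorem termW (τ : Perm (Fin n)) :
    ∏ i, projVandermonde 1 (X : Fin n → MvPolynomial (Fin n) ℤ) (τ i) i = monomial (eW n τ) 1 := by
  rw [eW, ← monomial_fun]
  rw [← Equiv.prod_comp τ
    (fun k => (X k : MvPolynomial (Fin n) ℤ) ^ (((τ⁻¹ k : Fin n).rev : Fin n) : ℕ))]
  simp [projVandermonde_apply]

theorem exp_eq_iff (σ τ : Perm (Fin n)) :
    eW n τ + eV n σ = Finsupp.equivFunOnFinite.symm (fun _ : Fin n => n - 1) ↔ σ = τ := by
  constructor
  · intro h
    have key : ∀ k, σ⁻¹ k = τ⁻¹ k := by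
      intro k
      have hk := DFunLike.congr_fun h k
      simp only [eW, eV, Finsupp.coe_add, Pi.add_apply, Finsupp.equivFunOnFinite_symm_apply_apply,
        Fin.val_rev] at hk
      have h1 := (τ⁻¹ k).isLt
      have h2 := (σ⁻¹ k).isLt
      apply Fin.ext
      omega
    have : σ⁻¹ = τ⁻¹ := Equiv.ext key
    exact inv_injective this
  · rintro rfl
    ext k
    simp only [eW, eV, Finsupp.coe_add, Pi.add_apply, Finsupp.equivFunOnFinite_symm_apply_apply,
      Fin.val_rev]
    have h1 := (σ⁻¹ k).isLt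
    omega

theorem prod_eq :
    ∏ i : Fin n, ∏ j ∈ univ.erase i, (X i - X j : MvPolynomial (Fin n) ℤ) =
      (projVandermonde 1 (X : Fin n → MvPolynomial (Fin n) ℤ)).det *
        (vandermonde (X : Fin n → MvPolynomial (Fin n) ℤ)).det := by
  rw [det_projVandermonde, det_vandermonde]
  have h1 : ∀ i : Fin n, univ.erase i = Ioi i ∪ Iio i := by
    intro i
    ext j
    simp only [mem_erase, mem_univ, and_true, mem_union, mem_Ioi, mem_Iio]
    constructor
    · intro h; exact (lt_or_gt_of_ne h).symm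
    · rintro (h | h)
      · exact h.ne'
      · exact h.ne
  have hd : ∀ i : Fin n, Disjoint (Ioi i) (Iio i) := by
    intro i
    rw [Finset.disjoint_left]
    intro j hj hj'
    rw [mem_Ioi] at hj
    rw [mem_Iio] at hj'
    exact lt_asymm hj hj'
  simp_rw [h1, prod_union (hd _)]
  rw [prod_mul_distrib]
  congr 1
  · simp
  · rw [prod_comm' (s := univ) (t := fun i => Iio i) (t' := univ) (s' := fun j => Ioi j)]
    intro i j
    simp

theorem main :
    coeff (Finsupp.equivFunOnFinite.symm (fun _ : Fin n => n - 1))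
      (∏ i : Fin n, ∏ j ∈ univ.erase i, (X i - X j : MvPolynomial (Fin n) ℤ)) =
        (n.factorial : ℤ) := by
  rw [prod_eq, det_apply', det_apply', Finset.sum_mul_sum, coeff_sum]
  have hterm : ∀ τ σ : Perm (Fin n),
      coeff (Finsupp.equivFunOnFinite.symm (fun _ : Fin n => n - 1))
        ((((Perm.sign τ : ℤˣ) : ℤ) : MvPolynomial (Fin n) ℤ) *
            (∏ i, projVandermonde 1 (X : Fin n → MvPolynomial (Fin n) ℤ) (τ i) i) *
          ((((Perm.sign σ : ℤˣ) : ℤ) : MvPolynomial (Fin n) ℤ) *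
            (∏ i, vandermonde (X : Fin n → MvPolynomial (Fin n) ℤ) (σ i) i))) =
        if σ = τ then 1 else 0 := by
    intro τ σ
    rw [termV, termW]
    have hc : ∀ s : ℤ, ((s : ℤ) : MvPolynomial (Fin n) ℤ) = C s := fun s => by simp
    rw [hc, hc, C_mul_monomial, C_mul_monomial, monomial_mul, coeff_monomial, mul_one, mul_one]
    by_cases h : σ = τ
    · rw [if_pos h, if_pos ((exp_eq_iff n σ τ).2 h), h]
      exact Int.units_coe_mul_self _
    · rw [if_neg h, if_neg (fun h' => h ((exp_eq_iff n σ τ).1 h'))]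
  simp_rw [coeff_sum, hterm]
  simp [Fintype.card_perm]

end Groth.Agent.H9.VdmCoeff
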