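import Mathlib
import Groth.Agent.Lib.Helper1.GeomConn

/-!
# Functions vanishing on a very dense open subset of `Spec (R ⊗_k A)`

Semilinear action of `R ⊗ A` on `M ⊗ A`, Nakayama-type choice of a functional `N → R/q`, and the final
vanishing statement.
-/

set_option autoImplicit false
universe u

namespace Groth.Agent.H9.VeryDense

open TensorProduct

section Act

variable (k : Type u) [Field k] (A : Type u) [CommRing A] [Algebra k A]
  (R : Type u) [CommRing R] [Algebra k R]
  (M : Type u) [AddCommGroup M] [Module k M] [Module R M] [IsScalarTower k R M]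
  (M' : Type u) [AddCommGroup M'] [Module k M'] [Module R M'] [IsScalarTower k R M']

/-- The action of `R ⊗ A` on `M ⊗ A`. -/
noncomputable def act : R ⊗[k] A →ₗ[k] M ⊗[k] A →ₗ[k] M ⊗[k] A :=
  TensorProduct.map₂ (Algebra.lsmul k k M).toLinearMap (Algebra.lsmul k k A).toLinearMap

variable {k A R M M'}

theorem act_tmul (r : R) (a : A) (m : M) (b : A) :
    act k A R M (r ⊗ₜ[k] a) (m ⊗ₜ[k] b) = (r • m) ⊗ₜ[k] (a * b) := by
  simp [act, TensorProduct.map₂_apply_tmul]

theorem rTensor_act (ψ : M →ₗ[R] M') (b : R ⊗[k] A) (x : M ⊗[k] A) :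
    (ψ.restrictScalars k).rTensor A (act k A R M b x)
      = act k A R M' b ((ψ.restrictScalars k).rTensor A x) := by
  induction b using TensorProduct.induction_on with
  | zero => simp
  | add b₁ b₂ h₁ h₂ => simp only [map_add, LinearMap.add_apply, h₁, h₂]
  | tmul r a =>
    induction x using TensorProduct.induction_on with
    | zero => simp
    | add x₁ x₂ h₁ h₂ => simp only [map_add, h₁, h₂]
    | tmul m c =>
      simp only [act_tmul, LinearMap.rTensor_tmul, LinearMap.coe_restrictScalars, map_smul]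

theorem act_self (b x : R ⊗[k] A) : act k A R R b x = b * x := by
  induction b using TensorProduct.induction_on with
  | zero => simp
  | add b₁ b₂ h₁ h₂ => simp only [map_add, LinearMap.add_apply, h₁, h₂, add_mul]
  | tmul r a =>
    induction x using TensorProduct.induction_on with
    | zero => simp
    | add x₁ x₂ h₁ h₂ => simp only [map_add, h₁, h₂, mul_add]
    | tmul m c =>
      simp only [act_tmul, smul_eq_mul, Algebra.TensorProduct.tmul_mul_tmul]

theorem act_quot (q : Ideal R) (b : R ⊗[k] A) (x : (R ⧸ q) ⊗[k] A) :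
    act k A R (R ⧸ q) b x
      = Algebra.TensorProduct.map (Ideal.Quotient.mkₐ k q) (AlgHom.id k A) b * x := by
  induction b using TensorProduct.induction_on with
  | zero => simp
  | add b₁ b₂ h₁ h₂ => simp only [map_add, LinearMap.add_apply, h₁, h₂, add_mul]
  | tmul r a =>
    induction x using TensorProduct.induction_on with
    | zero => simp
    | add x₁ x₂ h₁ h₂ => simp only [map_add, h₁, h₂, mul_add]
    | tmul m c =>
      simp only [act_tmul, Algebra.TensorProduct.map_tmul, Algebra.TensorProduct.tmul_mul_tmul,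
        AlgHom.coe_id, id_eq, Ideal.Quotient.mkₐ_eq_mk]
      rw [Algebra.smul_def]
      rfl

end Act

section Functional

variable {R : Type u} [CommRing R]

/-- A nonzero finitely generated ideal admits a nonzero functional to some residue field. -/
theorem exists_functional (N : Ideal R) (hfg : N.FG) (hN : N ≠ ⊥) :
    ∃ (q : Ideal R) (_ : q.IsMaximal) (l : ↥N →ₗ[R] R ⧸ q) (x : ↥N), l x ≠ 0 := by
  have hann : (Submodule.annihilator N : Ideal R) ≠ ⊤ := by
    intro h
    exact hN (Submodule.annihilator_eq_top_iff.mp h)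
  obtain ⟨q, hq, hle⟩ := Ideal.exists_le_maximal _ hann
  have hnot : ¬ (N : Submodule R R) ≤ q • N := by
    intro hle'
    obtain ⟨r, hr1, hr2⟩ :=
      Submodule.exists_sub_one_mem_and_smul_eq_zero_of_fg_of_le_smul q N hfg hle'
    have hr : r ∈ Submodule.annihilator N := by
      rw [Submodule.mem_annihilator]
      exact hr2
    have h1 : (1 : R) ∈ q := by
      have := q.sub_mem (hle hr) hr1
      simpa using this
    exact hq.ne_top ((Ideal.eq_top_iff_one q).mpr h1)
  obtain ⟨x₀, hx₀N, hx₀⟩ := Set.not_subset.mp hnot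
  let _ := Ideal.Quotient.field q
  let V := ↥N ⧸ (q • (⊤ : Submodule R ↥N))
  have hv : (Submodule.Quotient.mk ⟨x₀, hx₀N⟩ : V) ≠ 0 := by
    intro h
    rw [Submodule.Quotient.mk_eq_zero] at h
    apply hx₀
    have h2 : N.subtype ⟨x₀, hx₀N⟩ ∈ (q • (⊤ : Submodule R ↥N)).map N.subtype :=
      Submodule.mem_map_of_mem h
    rw [Submodule.map_smul'', Submodule.map_subtype_top] at h2
    exact h2
  obtain ⟨l, hl⟩ : ∃ l : Module.Dual (R ⧸ q) V, l (Submodule.Quotient.mk ⟨x₀, hx₀N⟩) ≠ 0 := by
    by_contra hcon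
    push Not at hcon
    exact hv ((Module.forall_dual_apply_eq_zero_iff (R ⧸ q) _).mp hcon)
  refine ⟨q, hq, ?_, ⟨x₀, hx₀N⟩, ?_⟩
  · exact
      { toFun := fun x => l (Submodule.Quotient.mk x)
        map_add' := fun x y => by rw [Submodule.Quotient.mk_add, map_add]
        map_smul' := fun r x => by
          rw [← Module.Quotient.mk_smul_mk, map_smul,
            RingHom.id_apply, Algebra.smul_def]
          rfl }
  · exact hl

end Functional

section Main

variable {k : Type u} [Field k] {A : Type u} [CommRing A] [Algebra k A]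
  {R : Type u} [CommRing R] [Algebra k R]

/-- Killing by a power of `g` with nonzero image in `κ ⊗ A` forces the image under `l ⊗ A` to vanish. -/
theorem rTensor_eq_zero (q : Ideal R) (N : Ideal R) (l : ↥N →ₗ[R] R ⧸ q)
    (hdom : NoZeroDivisors ((R ⧸ q) ⊗[k] A))
    (g : R ⊗[k] A)
    (hg : Algebra.TensorProduct.map (Ideal.Quotient.mkₐ k q) (AlgHom.id k A) g ≠ 0) (n : ℕ)
    (f' : ↥N ⊗[k] A)
    (h : g ^ n * ((N.subtype.restrictScalars k).rTensor A f') = 0) :
    (l.restrictScalars k).rTensor A f' = 0 := by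
  have hinj : Function.Injective ((N.subtype.restrictScalars k).rTensor A) :=
    Module.Flat.rTensor_preserves_injective_linearMap _ N.subtype_injective
  have h1 : act k A R ↥N (g ^ n) f' = 0 := by
    apply hinj
    rw [map_zero]
    have := rTensor_act (k := k) (A := A) N.subtype (g ^ n) f'
    rw [this, act_self]
    exact h
  have h2 := rTensor_act (k := k) (A := A) l (g ^ n) f'
  rw [h1, map_zero, act_quot, map_pow] at h2
  rcases mul_eq_zero.mp h2.symm with h3 | h3
  · exact absurd h3 (pow_ne_zero n hg)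
  · exact h3

/-- Main statement: a function on `Spec (R ⊗ A)` vanishing on an open set meeting every fibre over
`Spec R` vanishes. -/
theorem eq_zero_of_very_dense [IsAlgClosed k] [IsDomain A]
    (U : TopologicalSpace.Opens (PrimeSpectrum (R ⊗[k] A)))
    (hsurj : ∀ q : PrimeSpectrum R, ∃ P ∈ U,
      PrimeSpectrum.comap (Algebra.TensorProduct.includeLeftRingHom : R →+* R ⊗[k] A) P = q)
    (f : R ⊗[k] A)
    (hf : ∀ g : R ⊗[k] A, (PrimeSpectrum.basicOpen g : Set (PrimeSpectrum (R ⊗[k] A))) ⊆ U →
      algebraMap (R ⊗[k] A) (Localization.Away g) f = 0) :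
    f = 0 := by
  classical
  by_contra hne
  let bA := Module.Basis.ofVectorSpace k A
  let bB := Algebra.TensorProduct.basis R bA
  set c := bB.repr f with hc
  let N : Ideal R := Ideal.span (c.support.image c : Set R)
  have hcN : ∀ i, c i ∈ N := by
    intro i
    by_cases hi : i ∈ c.support
    · exact Ideal.subset_span (Finset.mem_coe.mpr (Finset.mem_image_of_mem c hi))
    · rw [Finsupp.notMem_support_iff.mp hi]; exact N.zero_mem
  have hfg : N.FG := ⟨c.support.image c, rfl⟩
  have hN : N ≠ ⊥ := by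
    intro hbot
    apply hne
    have h0 : c = 0 := by
      ext i
      have := hcN i
      rw [hbot] at this
      simpa using this
    exact (bB.repr.map_eq_zero_iff).mp h0
  obtain ⟨q, hq, l, x₀, hl⟩ := exists_functional N hfg hN
  let _ := Ideal.Quotient.field q
  let φ := Algebra.TensorProduct.map (Ideal.Quotient.mkₐ k q) (AlgHom.id k A)
  have hdom : NoZeroDivisors ((R ⧸ q) ⊗[k] A) :=
    Groth.Agent.H1.GeomConn.noZeroDivisors_tensor
  have hnt : Nontrivial ((R ⧸ q) ⊗[k] A) := inferInstance
  have : IsDomain ((R ⧸ q) ⊗[k] A) := @NoZeroDivisors.to_isDomain _ _ hnt hdom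
  have hprime : (RingHom.ker φ.toRingHom).IsPrime := RingHom.ker_isPrime _
  let η : PrimeSpectrum (R ⊗[k] A) := ⟨RingHom.ker φ.toRingHom, hprime⟩
  obtain ⟨P, hPU, hPq⟩ := hsurj ⟨q, hq.isPrime⟩
  have hηP : η ≤ P := by
    change RingHom.ker φ.toRingHom ≤ P.asIdeal
    have hker : RingHom.ker φ.toRingHom
        = (RingHom.ker (Ideal.Quotient.mkₐ k q)).map
            (Algebra.TensorProduct.includeLeft : R →ₐ[k] R ⊗[k] A) :=
      Algebra.TensorProduct.rTensor_ker (Ideal.Quotient.mkₐ k q)
        (Ideal.Quotient.mkₐ_surjective k q)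
    rw [hker, Ideal.map_le_iff_le_comap]
    intro r hr
    rw [Ideal.mem_comap]
    have hr' : r ∈ q := by
      have := RingHom.mem_ker.mp hr
      rw [Ideal.Quotient.mkₐ_eq_mk] at this
      exact Ideal.Quotient.eq_zero_iff_mem.mp this
    have h1 : r ∈ (PrimeSpectrum.comap
        (Algebra.TensorProduct.includeLeftRingHom : R →+* R ⊗[k] A) P).asIdeal := by
      rw [hPq]
      exact hr'
    exact h1
  have hηU : η ∈ U :=
    ((PrimeSpectrum.le_iff_specializes η P).mp hηP).mem_open U.isOpen hPU
  obtain ⟨v, ⟨g, rfl⟩, hηg, hgU⟩ :=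
    PrimeSpectrum.isTopologicalBasis_basic_opens.exists_subset_of_mem_open hηU U.isOpen
  have hφg : φ g ≠ 0 := by
    intro h0
    exact hηg h0
  obtain ⟨⟨_, n, rfl⟩, hn⟩ :=
    (IsLocalization.map_eq_zero_iff (Submonoid.powers g) (Localization.Away g) f).mp (hf g hgU)
  -- lift `f` to `N ⊗ A`
  let f' : ↥N ⊗[k] A := ∑ i ∈ c.support, (⟨c i, hcN i⟩ : ↥N) ⊗ₜ[k] bA i
  have hf' : (N.subtype.restrictScalars k).rTensor A f' = f := by
    rw [map_sum]
    conv_rhs => rw [← bB.linearCombination_repr f, Finsupp.linearCombination_apply, Finsupp.sum]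
    refine Finset.sum_congr rfl fun i _ => ?_
    rw [LinearMap.rTensor_tmul, Algebra.TensorProduct.basis_apply, TensorProduct.smul_tmul',
      smul_eq_mul, mul_one]
    rfl
  have hΛ := rTensor_eq_zero q N l hdom g hφg n f' (by rw [hf']; exact hn)
  have hΛ' : ∑ i ∈ c.support, l ⟨c i, hcN i⟩ • (Algebra.TensorProduct.basis (R ⧸ q) bA) i = 0 := by
    rw [← hΛ, map_sum]
    refine Finset.sum_congr rfl fun i _ => ?_
    rw [LinearMap.rTensor_tmul, Algebra.TensorProduct.basis_apply, TensorProduct.smul_tmul',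
      smul_eq_mul, mul_one]
    rfl
  have hli := (Algebra.TensorProduct.basis (R ⧸ q) bA).linearIndependent
  rw [linearIndependent_iff'] at hli
  have hzero : ∀ i, l ⟨c i, hcN i⟩ = 0 := by
    intro i
    by_cases hi : i ∈ c.support
    · exact hli c.support (fun i => l ⟨c i, hcN i⟩) hΛ' i hi
    · have : (⟨c i, hcN i⟩ : ↥N) = 0 := Subtype.ext (Finsupp.notMem_support_iff.mp hi)
      rw [this, map_zero]
  have hall : ∀ (x : R) (hx : x ∈ N), l ⟨x, hx⟩ = 0 := by
    intro x hx
    induction hx using Submodule.span_induction with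
    | mem x hx =>
      obtain ⟨i, _, rfl⟩ := Finset.mem_image.mp (Finset.mem_coe.mp hx)
      exact hzero i
    | zero => exact map_zero l
    | add x y hx hy hx' hy' =>
      have : (⟨x + y, add_mem hx hy⟩ : ↥N) = ⟨x, hx⟩ + ⟨y, hy⟩ := rfl
      rw [this, map_add, hx', hy', add_zero]
    | smul r x hx hx' =>
      have : (⟨r • x, Submodule.smul_mem _ r hx⟩ : ↥N) = r • ⟨x, hx⟩ := rfl
      rw [this, map_smul, hx', smul_zero]
  exact hl (hall x₀.1 x₀.2)

end Main

end Groth.Agent.H9.VeryDense
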