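import Mathlib
import Groth.Prelude.Def_WeilCoh
import Groth.Agent.Lib.Helper9.Misc.WeilCohC

/-!
# Helper9: Weil cohomology, part D: sections (graphs) and their classes
-/

set_option autoImplicit false

universe u v w

open AlgebraicGeometry CategoryTheory CategoryTheory.Limits

namespace Groth.Agent.H9.WeilD

open WeilCoh Groth.Agent.H9.WeilA Groth.Agent.H9.WeilB Groth.Agent.H9.WeilC

theorem isSeparated_toBase (n : ℕ) (S : Scheme.{u}) :
    IsSeparated (CohB1.ProjSpaceOver.toBase n S) := by
  unfold CohB1.ProjSpaceOver.toBase CohB1.ProjSpaceOver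
  have h1 : IsSeparated (Proj.toSpecZero (CohB1.polyGrading n (ULift.{u} ℤ))) :=
    Proj.isSeparated _
  have : IsSeparated (CohB1.ProjSpace.toSpec n (ULift.{u} ℤ)) := by
    unfold CohB1.ProjSpace.toSpec
    exact MorphismProperty.comp_mem _ _ _ h1 inferInstance
  exact MorphismProperty.of_isPullback (P := @IsSeparated) (IsPullback.of_hasPullback _ _) this

variable {k : Type u} [Field k]

theorem isSeparated_of_isVar (X : Var k) : IsSeparated X.obj.hom := by
  obtain ⟨n, i, hi, hcomp⟩ := X.property.2.1
  rw [← hcomp]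
  have := isSeparated_toBase n (Spec (CommRingCat.of k))
  infer_instance

theorem isSeparated_sm {X Y : Var k} (f : X ⟶ Y) : IsSeparated (sm f) := by
  have h : sm f ≫ Y.obj.hom = X.obj.hom := Over.w f.hom
  have : IsSeparated (sm f ≫ Y.obj.hom) := by rw [h]; exact isSeparated_of_isVar X
  exact IsSeparated.of_comp (sm f) Y.obj.hom

theorem sm_comp {X Y Z : Var k} (f : X ⟶ Y) (g : Y ⟶ Z) : sm (f ≫ g) = sm f ≫ sm g := rfl

theorem sm_id (X : Var k) : sm (𝟙 X) = 𝟙 X.obj.left := rfl

theorem isClosedImmersion_of_section {X P : Var k} (j : X ⟶ P) (p : P ⟶ X) (h : j ≫ p = 𝟙 X) :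
    IsClosedImmersion (sm j) := by
  have h' : sm j ≫ sm p = 𝟙 X.obj.left := by rw [← sm_comp, h, sm_id]
  have := isSeparated_sm p
  have : IsClosedImmersion (sm j ≫ sm p) := by rw [h']; infer_instance
  exact IsClosedImmersion.of_comp (sm j) (sm p)

theorem natDim_of_homeomorph {A B : Type u} [TopologicalSpace A] [TopologicalSpace B]
    (e : A ≃ₜ B) : natDim A = natDim B := by
  unfold natDim
  rw [IsHomeomorph.topologicalKrullDim_eq _ e.isHomeomorph]

theorem pdim_section {X P : Var k} [IrreducibleSpace ↥X.obj.left] (j : X ⟶ P) (p : P ⟶ X)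
    (h : j ≫ p = 𝟙 X) :
    pdim P.obj.left (sm j (genericPoint ↥X.obj.left)) = dim X.obj.left := by
  have hj := isClosedImmersion_of_section j p h
  have hemb : Topology.IsClosedEmbedding (sm j) := (sm j).isClosedEmbedding
  have hcl : closure ({sm j (genericPoint ↥X.obj.left)} : Set P.obj.left) = Set.range (sm j) := by
    have := hemb.closure_image_eq ({genericPoint ↥X.obj.left} : Set X.obj.left)
    rw [Set.image_singleton] at this
    rw [this, show closure {genericPoint ↥X.obj.left} = Set.univ from
      genericPoint_spec ↥X.obj.left, Set.image_univ]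
  unfold pdim dim
  rw [natDim_congr hcl]
  exact (natDim_of_homeomorph hemb.isEmbedding.toHomeomorph).symm

theorem residueDegree_section {X P : Scheme.{u}} (j : X ⟶ P) (p : P ⟶ X) (h : j ≫ p = 𝟙 X)
    (x : X) : j.residueDegree x = 1 := by
  unfold Scheme.Hom.residueDegree
  let _ := (j.residueFieldMap x).hom.toAlgebra
  have hcomp : (p.residueFieldMap (j x) ≫ j.residueFieldMap x).hom =
      ((j ≫ p).residueFieldMap x).hom := by
    rw [Scheme.residueFieldMap_comp]
    rfl
  have hsurj : Function.Surjective (j.residueFieldMap x).hom := by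
    intro b
    have h2 : Function.Surjective ((j ≫ p).residueFieldMap x).hom := by
      have : IsIso ((j ≫ p).residueFieldMap x) := by
        have hx : IsIso (j ≫ p) := by rw [h]; infer_instance
        infer_instance
      exact ((ConcreteCategory.isIso_iff_bijective _).1 this).2
    obtain ⟨a, ha⟩ := h2 b
    refine ⟨(p.residueFieldMap (j x)).hom a, ?_⟩
    rw [← ha, ← hcomp]
    rfl
  have hbij2 : Function.Bijective (algebraMap (P.residueField (j x)) (X.residueField x)) :=
    ⟨(j.residueFieldMap x).hom.injective, hsurj⟩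
  rw [(LinearEquiv.ofBijective (Algebra.linearMap (P.residueField (j x)) (X.residueField x))
    hbij2).symm.finrank_eq]
  exact Module.finrank_self _

variable {K : Type v} [Field K] (T : TheoryOn.{u, v, w} k (IsVar k) K)

/-- The class of the image of a section computes traces of pull-backs. -/
theorem tr_cl_section {X P : Var k} [IrreducibleSpace ↥X.obj.left] (j : X ⟶ P) (p : P ⟶ X)
    (h : j ≫ p = 𝟙 X) (a : T.H P) (ha : a ∈ T.gr P (2 * (dim X.obj.left : ℤ))) :
    T.tr P (T.cl P (sm j (genericPoint ↥X.obj.left)) * a) = T.tr X (T.pull j a) := by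
  have ha' : a ∈ T.gr P (2 * (pdim X.obj.left (genericPoint ↥X.obj.left) : ℤ)) := by
    rw [pdim_genericPoint]; exact ha
  have h1 := T.cl_push j (genericPoint ↥X.obj.left) a ha'
  have h' : sm j ≫ sm p = 𝟙 X.obj.left := by rw [← sm_comp, h, sm_id]
  rw [cl_generic T X, one_mul, residueDegree_section (sm j) (sm p) h'] at h1
  simpa using h1.symm

end Groth.Agent.H9.WeilD
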