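import Mathlib
import Groth.Prelude.Def_WeilCoh
import Groth.Agent.Lib.Helper9.Misc.WeilCohA

/-!
# Helper9: Weil cohomology, part E: Künneth reductions
-/

set_option autoImplicit false

universe u v w

open AlgebraicGeometry CategoryTheory

namespace Groth.Agent.H9.WeilE

open WeilCoh Groth.Agent.H9.WeilA

variable {k : Type u} [Field k] {P : ObjectProperty (Over (Spec (CommRingCat.of k)))}
variable {K : Type v} [Field K] (T : TheoryOn.{u, v, w} k P K)

/-- Induction on homogeneous components. -/
theorem hom_induction (X : P.FullSubcategory) {C : T.H X → Prop} (x : T.H X) (h0 : C 0)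
    (hadd : ∀ a b, C a → C b → C (a + b)) (hhom : ∀ i, ∀ a ∈ T.gr X i, C a) : C x := by
  have : x ∈ ⨆ i, T.gr X i := by rw [(T.decomp X).submodule_iSup_eq_top]; trivial
  exact Submodule.iSup_induction _ (motive := C) this hhom h0 hadd

theorem eq_zero_of_mem_of_lt {X : P.FullSubcategory} {i : ℤ} {a : T.H X} (ha : a ∈ T.gr X i)
    (h : i < 0 ∨ 2 * (dim X.obj.left : ℤ) < i) : a = 0 := by
  have := T.vanish X i h
  rw [this] at ha
  simpa using ha

/-- The trace of a product class is the product of traces, for all classes. -/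
theorem tr_prod_hom {X Y Q : P.FullSubcategory} (p : Q ⟶ X) (q : Q ⟶ Y) (hQ : IsProd p q)
    {α β : ℤ} {a : T.H X} {b : T.H Y} (ha : a ∈ T.gr X α) (hb : b ∈ T.gr Y β) :
    T.tr Q (T.pull p a * T.pull q b) = T.tr X a * T.tr Y b := by
  have hdim := dim_prod T p q hQ
  by_cases h1 : α = 2 * (dim X.obj.left : ℤ)
  · by_cases h2 : β = 2 * (dim Y.obj.left : ℤ)
    · subst h1 h2
      exact T.tr_prod p q hQ a b ha hb
    · rw [T.tr_vanish Y β b hb h2, mul_zero]
      refine T.tr_vanish Q (α + β) _ (mul_mem T (T.pull_mem p _ a ha) (T.pull_mem q _ b hb)) ?_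
      omega
  · rw [T.tr_vanish X α a ha h1, zero_mul]
    by_cases h2 : α + β = 2 * (dim Q.obj.left : ℤ)
    · rcases lt_or_gt_of_ne h1 with h | h
      · have : b = 0 := eq_zero_of_mem_of_lt T hb (Or.inr (by omega))
        rw [this, map_zero, mul_zero, map_zero]
      · have : a = 0 := eq_zero_of_mem_of_lt T ha (Or.inr (by omega))
        rw [this, map_zero, zero_mul, map_zero]
    · exact T.tr_vanish Q (α + β) _ (mul_mem T (T.pull_mem p _ a ha) (T.pull_mem q _ b hb)) h2

theorem tr_prod_all {X Y Q : P.FullSubcategory} (p : Q ⟶ X) (q : Q ⟶ Y) (hQ : IsProd p q)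
    (a : T.H X) (b : T.H Y) :
    T.tr Q (T.pull p a * T.pull q b) = T.tr X a * T.tr Y b := by
  refine hom_induction T X (C := fun a => T.tr Q (T.pull p a * T.pull q b) = T.tr X a * T.tr Y b)
    a ?_ ?_ ?_
  · simp
  · intro a a' h h'
    simp only [map_add, add_mul, h, h']
  · intro α a ha
    refine hom_induction T Y
      (C := fun b => T.tr Q (T.pull p a * T.pull q b) = T.tr X a * T.tr Y b) b ?_ ?_ ?_
    · simp
    · intro b b' h h'
      simp only [map_add, mul_add, h, h']
    · intro β b hb
      exact tr_prod_hom T p q hQ ha hb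

/-- Two classes on a product with the same traces against all products of homogeneous classes
have the same traces against everything. -/
theorem tr_ext_kunneth {X Y Q : P.FullSubcategory} (p : Q ⟶ X) (q : Q ⟶ Y) (hQ : IsProd p q)
    (c c' : T.H Q)
    (h : ∀ (s t : ℤ) (x : T.H X) (y : T.H Y), x ∈ T.gr X s → y ∈ T.gr Y t →
      T.tr Q (c * (T.pull p x * T.pull q y)) = T.tr Q (c' * (T.pull p x * T.pull q y)))
    (b : T.H Q) : T.tr Q (c * b) = T.tr Q (c' * b) := by
  obtain ⟨z, rfl⟩ := (T.kunneth p q hQ).2 b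
  induction z using TensorProduct.induction_on with
  | zero => simp
  | add z z' hz hz' => simp only [map_add, mul_add, hz, hz']
  | tmul x y =>
    have hk : kunnethMap K (T.pull p) (T.pull q) (x ⊗ₜ[K] y) = T.pull p x * T.pull q y := rfl
    rw [hk]
    refine hom_induction T X (C := fun x => T.tr Q (c * (T.pull p x * T.pull q y)) =
      T.tr Q (c' * (T.pull p x * T.pull q y))) x ?_ ?_ ?_
    · simp
    · intro a a' h1 h2
      simp only [map_add, add_mul, mul_add, h1, h2]
    · intro s x hx
      refine hom_induction T Y (C := fun y => T.tr Q (c * (T.pull p x * T.pull q y)) =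
        T.tr Q (c' * (T.pull p x * T.pull q y))) y ?_ ?_ ?_
      · simp
      · intro a a' h1 h2
        simp only [map_add, mul_add, h1, h2]
      · intro t y hy
        exact h s t x y hx hy

/-- Reordering a product of four pulled back classes. -/
theorem four_mul {X Y Q : P.FullSubcategory} (p : Q ⟶ X) (q : Q ⟶ Y)
    {r' s : ℤ} (a x : T.H X) (f y : T.H Y) (hf : f ∈ T.gr Y r') (hx : x ∈ T.gr X s) :
    T.pull p a * T.pull q f * (T.pull p x * T.pull q y) =
      ((-1 : K) ^ (r'.natAbs * s.natAbs)) • (T.pull p (a * x) * T.pull q (f * y)) := by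
  have hc := T.gradedComm Q r' s (T.pull q f) (T.pull p x) (T.pull_mem q _ f hf)
    (T.pull_mem p _ x hx)
  calc T.pull p a * T.pull q f * (T.pull p x * T.pull q y)
      = T.pull p a * (T.pull q f * T.pull p x) * T.pull q y := by noncomm_ring
    _ = T.pull p a * (((-1 : K) ^ (r'.natAbs * s.natAbs)) • (T.pull p x * T.pull q f)) *
          T.pull q y := by rw [hc]
    _ = ((-1 : K) ^ (r'.natAbs * s.natAbs)) • (T.pull p (a * x) * T.pull q (f * y)) := by
        rw [map_mul (T.pull p), map_mul (T.pull q), mul_smul_comm, smul_mul_assoc]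
        congr 1
        noncomm_ring

end Groth.Agent.H9.WeilE
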