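import Mathlib
import Groth.Prelude.Def_WeilCoh
import Groth.Agent.Lib.Helper9.Misc.WeilCohA

/-!
# Helper9: Weil cohomology, part F: dual bases for Poincaré duality
-/

set_option autoImplicit false

universe u v w

open AlgebraicGeometry CategoryTheory

namespace Groth.Agent.H9.WeilF

open WeilCoh Groth.Agent.H9.WeilA

variable {k : Type u} [Field k] {P : ObjectProperty (Over (Spec (CommRingCat.of k)))}
variable {K : Type v} [Field K] (T : TheoryOn.{u, v, w} k P K)

theorem neg_one_pow_eq_of_even_add {a b : ℕ} (h : Even (a + b)) : (-1 : K) ^ a = (-1 : K) ^ b := by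
  have h1 : (-1 : K) ^ a * (-1 : K) ^ b = 1 := by rw [← pow_add, h.neg_one_pow]
  have h2 : (-1 : K) ^ b * (-1 : K) ^ b = 1 := by rw [← pow_add, (Even.add_self _).neg_one_pow]
  calc (-1 : K) ^ a = (-1 : K) ^ a * ((-1 : K) ^ b * (-1 : K) ^ b) := by rw [h2, mul_one]
    _ = ((-1 : K) ^ a * (-1 : K) ^ b) * (-1 : K) ^ b := by ring
    _ = (-1 : K) ^ b := by rw [h1, one_mul]

theorem pull_pull {X Y Z : P.FullSubcategory} (f : X ⟶ Y) (g : Y ⟶ Z) (a : T.H Z) :
    T.pull f (T.pull g a) = T.pull (f ≫ g) a := by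
  rw [T.pull_comp]; rfl

theorem pull_id_apply {X : P.FullSubcategory} (a : T.H X) : T.pull (𝟙 X) a = a := by
  rw [T.pull_id]; rfl

/-- Pairing against a dual family computes coordinates. -/
theorem tr_dual_mul {X : P.FullSubcategory} {r r' : ℤ} {ι : Type*} [Fintype ι] [DecidableEq ι]
    (e : Module.Basis ι K ↥(T.gr X r)) (f : ι → ↥(T.gr X r'))
    (hef : ∀ i l : ι, T.tr X ((f l : T.H X) * (e i : T.H X)) = if i = l then 1 else 0)
    (y : ↥(T.gr X r)) (i : ι) : T.tr X ((f i : T.H X) * (y : T.H X)) = e.repr y i := by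
  have hy_eq : (y : T.H X) = ∑ l : ι, e.repr y l • (e l : T.H X) := by
    have := congrArg Subtype.val (e.sum_repr y)
    rw [Submodule.coe_sum] at this
    simpa using this.symm
  rw [hy_eq, Finset.mul_sum, map_sum]
  rw [Finset.sum_eq_single i]
  · rw [mul_smul_comm, map_smul, hef i i, if_pos rfl, smul_eq_mul, mul_one]
  · intro l _ hne
    rw [mul_smul_comm, map_smul, hef l i, if_neg hne, smul_zero]
  · intro h; exact absurd (Finset.mem_univ i) h

/-- Existence of a dual family to a basis, for Poincaré duality. -/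
theorem exists_dual_family {X : P.FullSubcategory} (r r' : ℤ)
    (h : r' + r = 2 * (dim X.obj.left : ℤ)) {ι : Type*} [Fintype ι] [DecidableEq ι]
    (e : Module.Basis ι K ↥(T.gr X r)) :
    ∃ f : ι → ↥(T.gr X r'), ∀ i l : ι,
      T.tr X ((f l : T.H X) * (e i : T.H X)) = if i = l then 1 else 0 := by
  have hperf := T.duality X r' r h
  refine ⟨fun l => (pairing K (T.gr X r') (T.gr X r) (T.tr X)).toPerfPair.symm (e.coord l), ?_⟩
  intro i l
  have h1 := LinearMap.apply_symm_toPerfPair_self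
    (pairing K (T.gr X r') (T.gr X r) (T.tr X)) (e.coord l)
  have h2 := congrArg (fun ψ => ψ (e i)) h1
  simp only [Module.Basis.coord_apply, Module.Basis.repr_self, Finsupp.single_apply] at h2
  exact h2

/-- Σ_i tr (f_i · ψ(e_i)) is the trace of ψ. -/
theorem sum_tr_dual_eq_trace {X : P.FullSubcategory} {r r' : ℤ} {ι : Type*} [Fintype ι]
    [DecidableEq ι] (e : Module.Basis ι K ↥(T.gr X r)) (f : ι → ↥(T.gr X r'))
    (hef : ∀ i l : ι, T.tr X ((f l : T.H X) * (e i : T.H X)) = if i = l then 1 else 0)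
    (ψ : ↥(T.gr X r) →ₗ[K] ↥(T.gr X r)) :
    ∑ i : ι, T.tr X ((f i : T.H X) * (ψ (e i) : T.H X)) = LinearMap.trace K _ ψ := by
  rw [LinearMap.trace_eq_matrix_trace K e ψ, Matrix.trace]
  refine Finset.sum_congr rfl (fun i _ => ?_)
  rw [tr_dual_mul T e f hef, Matrix.diag_apply, LinearMap.toMatrix_apply]

end Groth.Agent.H9.WeilF
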