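import Mathlib
import Groth.Prelude.Def_WeilCoh
import Groth.Agent.Lib.Helper9.Misc.WeilCohD
import Groth.Agent.Lib.Helper9.Misc.WeilCohE
import Groth.Agent.Lib.Helper9.Misc.WeilCohF
import Groth.Agent.Lib.Helper9.Misc.FrobDegD

/-!
# Helper9: Weil cohomology, part H: dimension bounds, classes commute, diagonal correspondences
-/

set_option autoImplicit false

universe u v w

open AlgebraicGeometry CategoryTheory CategoryTheory.Limits

namespace Groth.Agent.H9.WeilH

open WeilCoh Groth.Agent.H9.WeilA Groth.Agent.H9.WeilB Groth.Agent.H9.WeilC Groth.Agent.H9.WeilD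
  Groth.Agent.H9.WeilE Groth.Agent.H9.WeilF

variable {k : Type u} [Field k]

/-- A variety has finite Krull dimension. -/
theorem exists_krullDim_eq (X : Var k) : ∃ n : ℕ, topologicalKrullDim ↥X.obj.left = n := by
  have := isIntegral_of_isVar X
  have : Smooth X.obj.hom := X.property.1
  have : LocallyOfFiniteType X.obj.hom := inferInstance
  obtain ⟨n, hn, -⟩ := Groth.Agent.H9.FrobDegD.exists_transcendence_data X.obj.hom
  exact ⟨n, hn⟩

theorem natDim_le_of_krullDim_le {A B : Type u} [TopologicalSpace A] [TopologicalSpace B]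
    (n : ℕ) (hB : topologicalKrullDim B = n) (h : topologicalKrullDim A ≤ topologicalKrullDim B) :
    natDim A ≤ natDim B := by
  unfold natDim
  rw [hB] at h ⊢
  show _ ≤ n
  induction hA : topologicalKrullDim A using WithBot.recBotCoe with
  | bot => simp
  | coe a =>
    rw [hA] at h
    have h' : a ≤ (n : ℕ∞) := by exact_mod_cast h
    show (a : ℕ∞).toNat ≤ n
    exact ENat.toNat_le_of_le_natCast h'

theorem pdim_le_dim (X : Var k) (ξ : X.obj.left) : pdim X.obj.left ξ ≤ dim X.obj.left := by
  obtain ⟨n, hn⟩ := exists_krullDim_eq X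
  exact natDim_le_of_krullDim_le n hn (topologicalKrullDim_subspace_le _ _)

theorem codim_add_pdim (X : Var k) (ξ : X.obj.left) :
    (codim X.obj.left ξ : ℤ) + pdim X.obj.left ξ = dim X.obj.left := by
  have := pdim_le_dim X ξ
  unfold codim
  omega

/-- closed immersions preserve the dimension of the closure of a point -/
theorem pdim_of_isClosedImmersion {X P : Scheme.{u}} (j : X ⟶ P) [IsClosedImmersion j] (ξ : X) :
    pdim P (j ξ) = pdim X ξ := by
  have hemb : Topology.IsClosedEmbedding j := j.isClosedEmbedding
  have hcl : closure ({j ξ} : Set P) = j '' closure ({ξ} : Set X) := by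
    have := hemb.closure_image_eq ({ξ} : Set X)
    rw [Set.image_singleton] at this
    exact this
  unfold pdim
  rw [natDim_congr hcl]
  exact (natDim_of_homeomorph (hemb.isEmbedding.homeomorphImage (closure {ξ}))).symm

variable {K : Type v} [Field K] (T : TheoryOn.{u, v, w} k (IsVar k) K)

/-- even-degree classes are central -/
theorem even_comm {X : Var k} {c : T.H X} {m : ℤ} (hc : c ∈ T.gr X (2 * m)) (a : T.H X) :
    c * a = a * c := by
  refine hom_induction T X (C := fun a => c * a = a * c) a (by simp) ?_ ?_
  · intro a b ha hb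
    rw [mul_add, add_mul, ha, hb]
  · intro i a ha
    have := T.gradedComm X (2 * m) i c a hc ha
    rw [this]
    have he : Even ((2 * m).natAbs * i.natAbs) := by
      apply Even.mul_right
      rw [Int.natAbs_mul]
      exact Even.mul_right (by decide) _
    rw [he.neg_one_pow, one_smul]

theorem cl_comm {X : Var k} (ξ : X.obj.left) (a : T.H X) : T.cl X ξ * a = a * T.cl X ξ :=
  even_comm T (T.cl_mem X ξ) a

end Groth.Agent.H9.WeilH
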