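import Mathlib
import Groth.Prelude.Def_WeilCoh
import Groth.Agent.Lib.Helper1.ClosureDim
import Groth.Agent.Lib.Helper1.DimFormula2
import Groth.Agent.Lib.Helper9.Misc.WeilCohH

set_option autoImplicit false
set_option linter.style.haveILetI false
set_option linter.unusedSectionVars false
set_option linter.unusedVariables false

universe u v w

open AlgebraicGeometry CategoryTheory CategoryTheory.Limits

namespace Groth.Agent.H9.WCP

open WeilCoh Groth.Agent.H9.WeilA Groth.Agent.H9.WeilB Groth.Agent.H9.WeilC Groth.Agent.H9.WeilD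
  Groth.Agent.H9.WeilH

variable {k : Type u} [Field k]

theorem trdeg_eq_of_residueDegree_ne_zero {X Y : Scheme.{u}} (f : X ⟶ Y)
    (g : Y ⟶ Spec (CommRingCat.of k)) (h : X ⟶ Spec (CommRingCat.of k)) (hw : f ≫ g = h) (x : X)
    (hdeg : f.residueDegree x ≠ 0) :
    @Algebra.trdeg k (X.residueField x) _ _
        (Groth.Agent.H1.DimFormula.toResidueField h x).hom.toAlgebra =
      @Algebra.trdeg k (Y.residueField (f x)) _ _
        (Groth.Agent.H1.DimFormula.toResidueField g (f x)).hom.toAlgebra := by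
  subst hw
  rw [Groth.Agent.H1.ClosureDim.trdeg_toResidueField_eq,
    Groth.Agent.H1.ClosureDim.trdeg_toResidueField_eq,
    ← Groth.Agent.H1.DimFormula.trdeg_residueField_comp f g x]
  letI a2 := (f.residueFieldMap x).hom.toAlgebra
  have hfin : Module.Finite (Y.residueField (f x)) (X.residueField x) :=
    Module.finite_of_finrank_pos (Nat.pos_of_ne_zero hdeg)
  haveI : Algebra.IsAlgebraic (Y.residueField (f x)) (X.residueField x) :=
    Algebra.IsAlgebraic.of_finite _ _
  have hz : Algebra.trdeg (Y.residueField (f x)) (X.residueField x) = 0 := _root_.trdeg_eq_zero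
  rw [hz, add_zero]

theorem lft' (X : Var k) : LocallyOfFiniteType X.obj.hom := by
  have : Smooth X.obj.hom := X.property.1
  infer_instance

theorem pdim_eq_of_residueDegree_ne_zero {X Y : Var k} (f : X ⟶ Y) (ξ : X.obj.left)
    (hdeg : (sm f).residueDegree ξ ≠ 0) :
    pdim Y.obj.left (sm f ξ) = pdim X.obj.left ξ := by
  haveI := lft' X
  haveI := lft' Y
  obtain ⟨t, ht1, ht2⟩ := Groth.Agent.H1.ClosureDim.exists_trdeg_eq_dim_closure X.obj.hom ξ
  obtain ⟨t', ht1', ht2'⟩ :=
    Groth.Agent.H1.ClosureDim.exists_trdeg_eq_dim_closure Y.obj.hom (sm f ξ)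
  have hw : sm f ≫ Y.obj.hom = X.obj.hom := Over.w f.hom
  have := trdeg_eq_of_residueDegree_ne_zero (sm f) Y.obj.hom X.obj.hom hw ξ hdeg
  rw [ht1, ht1'] at this
  have htt : t = t' := by exact_mod_cast this
  unfold pdim natDim
  rw [ht2, ht2', htt]

variable [IsAlgClosed k] {K : Type v} [Field K] [CharZero K] (T : Theory k K)

theorem push_cl {X Y : Var k} (f : X ⟶ Y) (ξ : X.obj.left) :
    (T.push f (2 * (codim X.obj.left ξ : ℤ)) ⟨T.cl X ξ, T.cl_mem X ξ⟩ : T.H Y) =
      ((sm f).residueDegree ξ : K) • T.cl Y (sm f ξ) := by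
  have hcp := codim_add_pdim X ξ
  have hcpY := codim_add_pdim Y (sm f ξ)
  set m : ℤ := 2 * (codim X.obj.left ξ : ℤ) + 2 * (dim Y.obj.left : ℤ) - 2 * (dim X.obj.left : ℤ)
    with hm
  have hpush := push_mem T f (2 * (codim X.obj.left ξ : ℤ)) ⟨T.cl X ξ, T.cl_mem X ξ⟩
  have key : ∀ b ∈ T.gr Y (2 * (dim Y.obj.left : ℤ) - m),
      T.tr Y ((T.push f (2 * (codim X.obj.left ξ : ℤ)) ⟨T.cl X ξ, T.cl_mem X ξ⟩ : T.H Y) * b) =
        T.tr Y ((((sm f).residueDegree ξ : K) • T.cl Y (sm f ξ)) * b) := by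
    intro b hb
    rw [tr_push_mul' T f _ _ b (by rw [hm]; ring) hb]
    have hb' : b ∈ T.gr Y (2 * (pdim X.obj.left ξ : ℤ)) := mem_of_eq T (by rw [hm]; omega) hb
    have := T.cl_push f ξ b hb'
    rw [smul_mul_assoc, map_smul, smul_eq_mul]
    exact this
  by_cases hdeg : (sm f).residueDegree ξ = 0
  · rw [hdeg, Nat.cast_zero, zero_smul]
    refine eq_of_forall_tr T m hpush (Submodule.zero_mem _) (fun b hb => ?_)
    rw [key b hb, hdeg, Nat.cast_zero, zero_smul, zero_mul]
  · have hp := pdim_eq_of_residueDegree_ne_zero f ξ hdeg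
    have hcl : T.cl Y (sm f ξ) ∈ T.gr Y m :=
      mem_of_eq T (by rw [hm]; omega) (T.cl_mem Y (sm f ξ))
    exact eq_of_forall_tr T m hpush (Submodule.smul_mem _ _ hcl) key

end Groth.Agent.H9.WCP
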