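import Mathlib
import Groth.Prelude.Def_WeilCoh
import Groth.Agent.Lib.Helper9.Misc.WCP1
import Groth.Agent.Lib.Helper5.AG.ProjProper

set_option autoImplicit false
set_option linter.style.haveILetI false
set_option linter.unusedSectionVars false
set_option linter.unusedVariables false

universe u v w

open AlgebraicGeometry CategoryTheory CategoryTheory.Limits

namespace Groth.Agent.H9.WCP

open WeilCoh Groth.Agent.H9.WeilA Groth.Agent.H9.WeilB Groth.Agent.H9.WeilC Groth.Agent.H9.WeilD
  Groth.Agent.H9.WeilH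

variable {k : Type u} [Field k] [IsAlgClosed k] {K : Type v} [Field K] [CharZero K]
  (T : Theory k K)

theorem linear_ext_homogeneous (X : Var k) (L R : T.H X →ₗ[K] K)
    (h : ∀ i, ∀ b ∈ T.gr X i, L b = R b) : L = R := by
  apply LinearMap.ext
  intro b
  have hb : b ∈ ⨆ i, T.gr X i := by
    rw [(T.decomp X).submodule_iSup_eq_top]; trivial
  induction hb using Submodule.iSup_induction' with
  | mem i x hx => exact h i x hx
  | zero => rw [map_zero, map_zero]
  | add x y _ _ hx hy => rw [map_add, map_add, hx, hy]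

theorem tr_cl_pull_general {X Y : Var k} (f : X ⟶ Y) (x : X.obj.left) (b : T.H Y) :
    T.tr X (T.cl X x * T.pull f b) =
      ((sm f).residueDegree x : K) * T.tr Y (T.cl Y (sm f x) * b) := by
  let L : T.H Y →ₗ[K] K :=
    (T.tr X) ∘ₗ (LinearMap.mulLeft K (T.cl X x)) ∘ₗ (T.pull f).toLinearMap
  let R : T.H Y →ₗ[K] K :=
    ((sm f).residueDegree x : K) • ((T.tr Y) ∘ₗ (LinearMap.mulLeft K (T.cl Y (sm f x))))
  have hLR : L = R := by
    apply linear_ext_homogeneous
    intro i b hb
    show T.tr X (T.cl X x * T.pull f b) =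
      ((sm f).residueDegree x : K) * T.tr Y (T.cl Y (sm f x) * b)
    by_cases hi : i = 2 * (pdim X.obj.left x : ℤ)
    · exact T.cl_push f x b (mem_of_eq T hi hb)
    · have hcp := codim_add_pdim X x
      have hcpY := codim_add_pdim Y (sm f x)
      have h1 : T.tr X (T.cl X x * T.pull f b) = 0 := by
        refine T.tr_vanish X (2 * (codim X.obj.left x : ℤ) + i) _
          (mul_mem T (T.cl_mem X x) (T.pull_mem f i b hb)) ?_
        omega
      rw [h1]
      by_cases hdeg : (sm f).residueDegree x = 0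
      · rw [hdeg, Nat.cast_zero, zero_mul]
      · have hp := pdim_eq_of_residueDegree_ne_zero f x hdeg
        have h2 : T.tr Y (T.cl Y (sm f x) * b) = 0 := by
          refine T.tr_vanish Y (2 * (codim Y.obj.left (sm f x) : ℤ) + i) _
            (mul_mem T (T.cl_mem Y (sm f x)) hb) ?_
          omega
        rw [h2, mul_zero]
  exact congrArg (fun φ => φ b) hLR

theorem mapCoeff_eq {X Y : Var k} (f : X ⟶ Y)
    (δX : ↥X.obj.left → ℤ) (hδX : Cyc.DeltaCompat X.obj.hom δX (fun _ => 0))
    (δY : ↥Y.obj.left → ℤ) (hδY : Cyc.DeltaCompat Y.obj.hom δY (fun _ => 0)) (x : X.obj.left) :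
    AlgebraicCycle.mapCoeff (sm f) δX δY x = (sm f).residueDegree x := by
  unfold AlgebraicCycle.mapCoeff
  split_ifs with h
  · rfl
  · by_contra hne
    have hdeg : (sm f).residueDegree x ≠ 0 := fun h0 => hne h0.symm
    apply h
    have hw : sm f ≫ Y.obj.hom = X.obj.hom := Over.w f.hom
    have ht := trdeg_eq_of_residueDegree_ne_zero (sm f) Y.obj.hom X.obj.hom hw x hdeg
    rw [Groth.Agent.H1.ClosureDim.trdeg_toResidueField_eq,
      Groth.Agent.H1.ClosureDim.trdeg_toResidueField_eq] at ht
    obtain ⟨n, hn1, hn2⟩ := hδX x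
    obtain ⟨n', hn1', hn2'⟩ := hδY (sm f x)
    rw [hn1] at ht
    have ht' : (n : Cardinal) = n' := ht.trans hn1'
    have : n = n' := by exact_mod_cast ht'
    rw [hn2, hn2', this]

theorem tr_clCyc_map {X Y : Var k} (f : X ⟶ Y) [QuasiCompact (sm f)]
    (δX : ↥X.obj.left → ℤ) (hδX : Cyc.DeltaCompat X.obj.hom δX (fun _ => 0))
    (δY : ↥Y.obj.left → ℤ) (hδY : Cyc.DeltaCompat Y.obj.hom δY (fun _ => 0))
    (α : AlgebraicCycle X.obj.left ℤ) (b : T.H Y) :
    T.tr Y (T.clCyc Y (AlgebraicCycle.map (sm f) δX δY α) * b) =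
      T.tr X (T.clCyc X α * T.pull f b) := by
  classical
  -- finiteness of the support
  haveI : CompactSpace ↥X.obj.left := by
    obtain ⟨n, i, hi, hcomp⟩ := X.property.2.1
    haveI := hi
    haveI := Groth.Agent.H5.AG.isProper_toBase n (Spec (CommRingCat.of k))
    have hprop : IsProper X.obj.hom := by
      rw [← hcomp]; infer_instance
    exact QuasiCompact.compactSpace_of_compactSpace X.obj.hom
  have hfin : (Function.support (α : X.obj.left → ℤ)).Finite := by
    have := α.locallyFiniteSupport.finite_inter_support_of_isCompact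
      (isCompact_univ : IsCompact (Set.univ : Set X.obj.left))
    rwa [Set.univ_inter] at this
  set sX : Finset X.obj.left := hfin.toFinset with hsX
  have hX : T.clCyc X α = ∑ ξ ∈ sX, ((α ξ : ℤ) : K) • T.cl X ξ := by
    unfold TheoryOn.clCyc
    apply finsum_eq_sum_of_support_subset
    intro ξ hξ
    rw [Function.mem_support] at hξ
    rw [hsX, Set.Finite.coe_toFinset, Function.mem_support]
    intro h0
    apply hξ
    rw [h0, Int.cast_zero, zero_smul]
  set β := AlgebraicCycle.map (sm f) δX δY α with hβ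
  have hβy : ∀ y : Y.obj.left, β y = ∑ x ∈ sX.filter (fun x => sm f x = y),
      α x * ((sm f).residueDegree x : ℤ) := by
    intro y
    have h1 : β y = ∑ᶠ x ∈ (sm f) ⁻¹' {y},
        α x * ((AlgebraicCycle.mapCoeff (sm f) δX δY x : ℕ) : ℤ) := rfl
    rw [h1]
    rw [finsum_mem_eq_sum_of_subset (t := sX.filter (fun x => sm f x = y))]
    · refine Finset.sum_congr rfl (fun x _ => ?_)
      rw [mapCoeff_eq f δX hδX δY hδY]
    · rintro x ⟨h1, h2⟩
      rw [Function.mem_support] at h2
      simp only [Finset.coe_filter, Set.mem_ofPred_eq, hsX, Set.Finite.mem_toFinset,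
        Function.mem_support]
      exact ⟨fun h0 => h2 (by rw [h0, zero_mul]), h1⟩
    · intro x hx
      simp only [Finset.coe_filter, Set.mem_ofPred_eq] at hx
      exact hx.2
  set sY : Finset Y.obj.left := sX.image (sm f) with hsY
  have hY : T.clCyc Y β = ∑ y ∈ sY, ((β y : ℤ) : K) • T.cl Y y := by
    unfold TheoryOn.clCyc
    apply finsum_eq_sum_of_support_subset
    intro y hy
    rw [Function.mem_support] at hy
    by_contra hny
    apply hy
    have : sX.filter (fun x => sm f x = y) = ∅ := by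
      rw [Finset.filter_eq_empty_iff]
      intro x hx hxy
      exact hny (by rw [hsY, Finset.coe_image]; exact ⟨x, hx, hxy⟩)
    rw [hβy y, this, Finset.sum_empty, Int.cast_zero, zero_smul]
  rw [hX, hY, Finset.sum_mul, Finset.sum_mul, map_sum, map_sum]
  have e1 : ∀ ξ ∈ sX, T.tr X (((α ξ : ℤ) : K) • T.cl X ξ * T.pull f b) =
      ((α ξ : ℤ) : K) * (((sm f).residueDegree ξ : K) * T.tr Y (T.cl Y (sm f ξ) * b)) := by
    intro ξ _
    rw [smul_mul_assoc, map_smul, smul_eq_mul, tr_cl_pull_general]
  rw [Finset.sum_congr rfl e1]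
  have e2 : ∀ y ∈ sY, T.tr Y (((β y : ℤ) : K) • T.cl Y y * b) =
      ∑ x ∈ sX.filter (fun x => sm f x = y),
        ((α x : ℤ) : K) * (((sm f).residueDegree x : K) * T.tr Y (T.cl Y (sm f x) * b)) := by
    intro y _
    rw [smul_mul_assoc, map_smul, smul_eq_mul, hβy y, Int.cast_sum, Finset.sum_mul]
    refine Finset.sum_congr rfl (fun x hx => ?_)
    have hxy : sm f x = y := (Finset.mem_filter.1 hx).2
    rw [hxy]
    push_cast
    ring
  rw [Finset.sum_congr rfl e2]
  exact Finset.sum_fiberwise_of_maps_to (fun x hx => Finset.mem_image_of_mem _ hx) _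

end Groth.Agent.H9.WCP
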