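import Mathlib
import Groth.Prelude.Def_W4c3severiratdpLat

/-! Helper9: Weyl reflections and the descent lemma on the DP lattice. -/

namespace Groth.Agent.H9.WD

open W4c3severiratdp

variable {δ : ℕ}

theorem form_add_left (x y z : DP δ) : form (x + y) z = form x z + form y z := by
  unfold form
  simp only [Pi.add_apply, add_mul, Finset.sum_add_distrib]
  ring

theorem form_smul_left (c : ℤ) (x z : DP δ) : form (c • x) z = c * form x z := by
  unfold form
  simp only [Pi.smul_apply, smul_eq_mul, mul_assoc, ← Finset.mul_sum]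
  ring

theorem form_comm (x y : DP δ) : form x y = form y x := by
  unfold form
  rw [mul_comm]
  congr 1
  exact Finset.sum_congr rfl fun i _ => mul_comm _ _

theorem form_add_right (x y z : DP δ) : form x (y + z) = form x y + form x z := by
  rw [form_comm, form_add_left, form_comm y, form_comm z]

theorem form_smul_right (c : ℤ) (x z : DP δ) : form x (c • z) = c * form x z := by
  rw [form_comm, form_smul_left, form_comm]

/-- reflection in a root -/
def reflLin (α : DP δ) : DP δ →ₗ[ℤ] DP δ where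
  toFun x := x + form x α • α
  map_add' x y := by
    rw [form_add_left, add_smul]; abel
  map_smul' c x := by
    rw [form_smul_left, RingHom.id_apply, smul_add, smul_smul]

theorem reflLin_apply (α x : DP δ) : reflLin α x = x + form x α • α := rfl

theorem reflLin_invol (α : DP δ) (hα : form α α = -2) : Function.Involutive (reflLin α) := by
  intro x
  rw [reflLin_apply, reflLin_apply, form_add_left, form_smul_left, hα]
  rw [add_smul, add_assoc, ← add_smul, ← add_smul]
  have : form x α + (form x α + form x α * -2) = 0 := by ring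
  rw [this, zero_smul, add_zero]

/-- reflection as a linear equivalence -/
def refl (α : DP δ) (hα : form α α = -2) : DP δ ≃ₗ[ℤ] DP δ :=
  LinearEquiv.ofInvolutive (reflLin α) (reflLin_invol α hα)

theorem refl_apply (α : DP δ) (hα : form α α = -2) (x : DP δ) :
    refl α hα x = x + form x α • α := rfl

theorem isWeyl_refl (α : DP δ) (hα : form α α = -2) (hK : form (canon δ) α = 0) :
    IsWeyl (refl α hα) := by
  constructor
  · intro v w
    rw [refl_apply, refl_apply, form_add_left, form_add_right, form_add_right, form_smul_left,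
      form_smul_left, form_smul_right, form_smul_right, hα, form_comm α w]
    ring
  · rw [refl_apply, hK, zero_smul, add_zero]

theorem isWeyl_one : IsWeyl (LinearEquiv.refl ℤ (DP δ)) := ⟨fun _ _ => rfl, rfl⟩

theorem isWeyl_trans {g h : DP δ ≃ₗ[ℤ] DP δ} (hg : IsWeyl g) (hh : IsWeyl h) :
    IsWeyl (g.trans h) := by
  constructor
  · intro v w
    rw [LinearEquiv.trans_apply, LinearEquiv.trans_apply, hh.1, hg.1]
  · rw [LinearEquiv.trans_apply, hg.2, hh.2]

theorem isWeyl_symm {g : DP δ ≃ₗ[ℤ] DP δ} (hg : IsWeyl g) : IsWeyl g.symm := by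
  constructor
  · intro v w
    have := hg.1 (g.symm v) (g.symm w)
    rw [LinearEquiv.apply_symm_apply, LinearEquiv.apply_symm_apply] at this
    exact this.symm
  · have := congrArg g.symm hg.2
    rw [LinearEquiv.symm_apply_apply] at this
    exact this.symm

theorem isExc_map {g : DP δ ≃ₗ[ℤ] DP δ} (hg : IsWeyl g) {x : DP δ} (hx : IsExc x) : IsExc (g x) := by
  constructor
  · rw [hg.1]; exact hx.1
  · have := hg.1 (canon δ) x
    rw [hg.2] at this
    rw [this]; exact hx.2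

theorem isConic_map {g : DP δ ≃ₗ[ℤ] DP δ} (hg : IsWeyl g) {x : DP δ} (hx : IsConic x) :
    IsConic (g x) := by
  constructor
  · rw [hg.1]; exact hx.1
  · have := hg.1 (canon δ) x
    rw [hg.2] at this
    rw [this]; exact hx.2

/-- the descent lemma -/
theorem descent (R : DP δ → Prop) (hR : ∀ α, R α → form α α = -2 ∧ form (canon δ) α = 0)
    (ρ : DP δ) (hρ : ∀ α, R α → 0 < form α ρ)
    (L : DP δ) (hL : ∀ α, R α → form L α = 0)
    (X : DP δ → Prop) (hX : ∀ g : DP δ ≃ₗ[ℤ] DP δ, IsWeyl g → ∀ x, X x → X (g x))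
    (C : ℤ) (hC : ∀ x, X x → -C ≤ form x ρ) :
    ∀ x, X x → ∃ g : DP δ ≃ₗ[ℤ] DP δ, IsWeyl g ∧ g L = L ∧ ∀ α, R α → 0 ≤ form (g x) α := by
  intro x hx
  induction' hn : (form x ρ + C).toNat using Nat.strong_induction_on with n ih generalizing x
  by_cases hdom : ∀ α, R α → 0 ≤ form x α
  · exact ⟨LinearEquiv.refl ℤ _, isWeyl_one, rfl, hdom⟩
  · push Not at hdom
    obtain ⟨α, hα, hneg⟩ := hdom
    obtain ⟨h1, h2⟩ := hR α hα
    have hw := isWeyl_refl α h1 h2
    have hx' : X (refl α h1 x) := hX _ hw x hx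
    have hφ : form (refl α h1 x) ρ = form x ρ + form x α * form α ρ := by
      rw [refl_apply, form_add_left, form_smul_left]
    have hpos := hρ α hα
    have hlt : form (refl α h1 x) ρ < form x ρ := by
      rw [hφ]; nlinarith
    have hb1 := hC x hx
    have hb2 := hC _ hx'
    obtain ⟨g, hg1, hg2, hg3⟩ := ih (form (refl α h1 x) ρ + C).toNat (by omega) _ hx' rfl
    refine ⟨(refl α h1).trans g, isWeyl_trans hw hg1, ?_, ?_⟩
    · rw [LinearEquiv.trans_apply, refl_apply, hL α hα, zero_smul, add_zero, hg2]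
    · intro β hβ
      rw [LinearEquiv.trans_apply]
      exact hg3 β hβ

/-- orbit statement for pairs -/
theorem pair_orbit (R₁ R₂ : DP δ → Prop)
    (hR₁ : ∀ α, R₁ α → form α α = -2 ∧ form (canon δ) α = 0)
    (hR₂ : ∀ α, R₂ α → form α α = -2 ∧ form (canon δ) α = 0)
    (ρ : DP δ) (hρ₁ : ∀ α, R₁ α → 0 < form α ρ) (hρ₂ : ∀ α, R₂ α → 0 < form α ρ)
    (X Y : DP δ → Prop) (hX : ∀ g : DP δ ≃ₗ[ℤ] DP δ, IsWeyl g → ∀ x, X x → X (g x))
    (hY : ∀ g : DP δ ≃ₗ[ℤ] DP δ, IsWeyl g → ∀ x, Y x → Y (g x))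
    (C : ℤ) (hCX : ∀ x, X x → -C ≤ form x ρ) (hCY : ∀ x, Y x → -C ≤ form x ρ)
    (Q : DP δ) (hQ : ∀ α, R₂ α → form Q α = 0)
    (hC1 : ∀ x, X x → (∀ α, R₁ α → 0 ≤ form x α) → x = Q)
    (v₁ v₂ : DP δ) (hv₁ : X v₁) (hv₂ : Y v₂) :
    ∃ g : DP δ ≃ₗ[ℤ] DP δ, IsWeyl g ∧ g v₁ = Q ∧ Y (g v₂) ∧ ∀ α, R₂ α → 0 ≤ form (g v₂) α := by
  obtain ⟨g₁, hg₁, -, hdom₁⟩ := descent R₁ hR₁ ρ hρ₁ (canon δ) (fun α hα => (hR₁ α hα).2)
    X hX C hCX v₁ hv₁
  have e1 : g₁ v₁ = Q := hC1 _ (hX _ hg₁ _ hv₁) hdom₁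
  obtain ⟨g₂, hg₂, hfix, hdom₂⟩ := descent R₂ hR₂ ρ hρ₂ Q hQ Y hY C hCY (g₁ v₂) (hY _ hg₁ _ hv₂)
  refine ⟨g₁.trans g₂, isWeyl_trans hg₁ hg₂, ?_, ?_, ?_⟩
  · rw [LinearEquiv.trans_apply, e1, hfix]
  · exact hY _ hg₂ _ (hY _ hg₁ _ hv₂)
  · exact hdom₂

end Groth.Agent.H9.WD
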