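import Mathlib
import Groth.Prelude.Def_W4c3severiratdpLat
import Groth.Agent.Lib.Helper9.Misc.WD1

/-! Helper9: roots of the DP lattice and dominance. -/

namespace Groth.Agent.H9.WD

open W4c3severiratdp

variable {δ : ℕ}

/-- the root `e_i - e_j` -/
def E (i j : Fin δ) : DP δ := Fin.cases 0 (fun l => if l = i then -1 else if l = j then 1 else 0)

/-- the root `ℓ - e_i - e_j - e_k` -/
def A₀ (i j k : Fin δ) : DP δ := Fin.cases 1 (fun l => if l = i ∨ l = j ∨ l = k then 1 else 0)

theorem form_E (x : DP δ) (i j : Fin δ) (hij : i ≠ j) :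
    form x (E i j) = x i.succ - x j.succ := by
  classical
  unfold form E
  simp only [Fin.cases_zero, Fin.cases_succ, mul_zero, zero_sub]
  have : ∀ l : Fin δ, x l.succ * (if l = i then (-1:ℤ) else if l = j then 1 else 0)
      = (if l = i then -(x l.succ) else 0) + (if l = j then x l.succ else 0) := by
    intro l
    by_cases h1 : l = i
    · have h2 : l ≠ j := fun h => hij (h1.symm.trans h)
      simp [h1, hij]
    · by_cases h2 : l = j
      · simp [h2, Ne.symm hij]
      · simp [h1, h2]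
  rw [Finset.sum_congr rfl fun l _ => this l, Finset.sum_add_distrib,
    Finset.sum_ite_eq' Finset.univ i, Finset.sum_ite_eq' Finset.univ j]
  simp only [Finset.mem_univ, if_true]
  ring

theorem form_A₀ (x : DP δ) (i j k : Fin δ) (hij : i ≠ j) (hjk : j ≠ k) (hik : i ≠ k) :
    form x (A₀ i j k) = x 0 - (x i.succ + x j.succ + x k.succ) := by
  classical
  unfold form A₀
  simp only [Fin.cases_zero, Fin.cases_succ, mul_one]
  have : ∀ l : Fin δ, x l.succ * (if l = i ∨ l = j ∨ l = k then (1:ℤ) else 0)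
      = (if l = i then x l.succ else 0) + (if l = j then x l.succ else 0)
        + (if l = k then x l.succ else 0) := by
    intro l
    by_cases h1 : l = i
    · subst h1; simp [hij, hik]
    · by_cases h2 : l = j
      · subst h2; simp [Ne.symm hij, hjk]
      · by_cases h3 : l = k
        · subst h3; simp [Ne.symm hik, Ne.symm hjk]
        · simp [h1, h2, h3]
  rw [Finset.sum_congr rfl fun l _ => this l, Finset.sum_add_distrib, Finset.sum_add_distrib,
    Finset.sum_ite_eq' Finset.univ i, Finset.sum_ite_eq' Finset.univ j,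
    Finset.sum_ite_eq' Finset.univ k]
  simp only [Finset.mem_univ, if_true]

theorem E_succ (i j l : Fin δ) : E i j l.succ = if l = i then -1 else if l = j then 1 else 0 := rfl
theorem E_zero (i j : Fin δ) : E i j 0 = 0 := rfl
theorem A₀_succ (i j k l : Fin δ) : A₀ i j k l.succ = if l = i ∨ l = j ∨ l = k then 1 else 0 := rfl
theorem A₀_zero (i j k : Fin δ) : A₀ i j k 0 = 1 := rfl

theorem root_E (i j : Fin δ) (hij : i ≠ j) :
    form (E i j) (E i j) = -2 ∧ form (canon δ) (E i j) = 0 := by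
  rw [form_E _ i j hij, form_E _ i j hij]
  simp only [E_succ, canon, Fin.cases_succ, if_true, if_neg (Ne.symm hij)]
  constructor <;> norm_num

theorem root_A₀ (i j k : Fin δ) (hij : i ≠ j) (hjk : j ≠ k) (hik : i ≠ k) :
    form (A₀ i j k) (A₀ i j k) = -2 ∧ form (canon δ) (A₀ i j k) = 0 := by
  rw [form_A₀ _ i j k hij hjk hik, form_A₀ _ i j k hij hjk hik]
  simp only [A₀_succ, A₀_zero, canon, Fin.cases_succ, Fin.cases_zero, true_or, or_true, if_true]
  constructor <;> norm_num

/-- the positive functional -/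
def rho (δ : ℕ) : DP δ := Fin.cases (3 * (δ:ℤ)) (fun l => (δ:ℤ) - (l.val : ℤ))

/-- the family of roots determined by predicates on index pairs and triples -/
def RR (PE : Fin δ → Fin δ → Prop) (PA : Fin δ → Fin δ → Fin δ → Prop) (α : DP δ) : Prop :=
  (∃ i j : Fin δ, i < j ∧ PE i j ∧ α = E i j) ∨
    (∃ i j k : Fin δ, i < j ∧ j < k ∧ PA i j k ∧ α = A₀ i j k)

theorem RR_root (PE : Fin δ → Fin δ → Prop) (PA : Fin δ → Fin δ → Fin δ → Prop) (α : DP δ)
    (h : RR PE PA α) : form α α = -2 ∧ form (canon δ) α = 0 := by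
  rcases h with ⟨i, j, hij, _, rfl⟩ | ⟨i, j, k, hij, hjk, _, rfl⟩
  · exact root_E i j (ne_of_lt hij)
  · exact root_A₀ i j k (ne_of_lt hij) (ne_of_lt hjk) (ne_of_lt (hij.trans hjk))

theorem RR_rho (PE : Fin δ → Fin δ → Prop) (PA : Fin δ → Fin δ → Fin δ → Prop) (α : DP δ)
    (h : RR PE PA α) : 0 < form α (rho δ) := by
  rcases h with ⟨i, j, hij, _, rfl⟩ | ⟨i, j, k, hij, hjk, _, rfl⟩
  · rw [form_comm, form_E _ i j (ne_of_lt hij)]
    simp only [rho, Fin.cases_succ]
    have : (i.val : ℤ) < j.val := by exact_mod_cast hij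
    linarith
  · rw [form_comm, form_A₀ _ i j k (ne_of_lt hij) (ne_of_lt hjk) (ne_of_lt (hij.trans hjk))]
    simp only [rho, Fin.cases_succ, Fin.cases_zero]
    have h1 : (i.val : ℤ) < j.val := by exact_mod_cast hij
    have h2 : (j.val : ℤ) < k.val := by exact_mod_cast hjk
    have h3 : (0:ℤ) ≤ i.val := by positivity
    linarith

/-- dominance in coordinates -/
def Dom (PE : Fin δ → Fin δ → Prop) (PA : Fin δ → Fin δ → Fin δ → Prop) (x : DP δ) : Prop :=
  (∀ i j : Fin δ, i < j → PE i j → x j.succ ≤ x i.succ) ∧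
    (∀ i j k : Fin δ, i < j → j < k → PA i j k → x i.succ + x j.succ + x k.succ ≤ x 0)

theorem dom_of (PE : Fin δ → Fin δ → Prop) (PA : Fin δ → Fin δ → Fin δ → Prop) (x : DP δ)
    (h : ∀ α, RR PE PA α → 0 ≤ form x α) : Dom PE PA x := by
  constructor
  · intro i j hij hP
    have := h (E i j) (Or.inl ⟨i, j, hij, hP, rfl⟩)
    rw [form_E _ i j (ne_of_lt hij)] at this
    linarith
  · intro i j k hij hjk hP
    have := h (A₀ i j k) (Or.inr ⟨i, j, k, hij, hjk, hP, rfl⟩)
    rw [form_A₀ _ i j k (ne_of_lt hij) (ne_of_lt hjk) (ne_of_lt (hij.trans hjk))] at this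
    linarith

theorem RR_orth (PE : Fin δ → Fin δ → Prop) (PA : Fin δ → Fin δ → Fin δ → Prop) (Q : DP δ)
    (h1 : ∀ i j : Fin δ, i < j → PE i j → Q i.succ = Q j.succ)
    (h2 : ∀ i j k : Fin δ, i < j → j < k → PA i j k → Q i.succ + Q j.succ + Q k.succ = Q 0) :
    ∀ α, RR PE PA α → form Q α = 0 := by
  intro α h
  rcases h with ⟨i, j, hij, hP, rfl⟩ | ⟨i, j, k, hij, hjk, hP, rfl⟩
  · rw [form_E _ i j (ne_of_lt hij), h1 i j hij hP, sub_self]
  · rw [form_A₀ _ i j k (ne_of_lt hij) (ne_of_lt hjk) (ne_of_lt (hij.trans hjk)),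
      h2 i j k hij hjk hP, sub_self]

end Groth.Agent.H9.WD
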