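import Mathlib
import Groth.Prelude.Def_W4c3severiratdpLat
import Groth.Agent.Lib.Helper9.Misc.WD2
import Groth.Agent.Lib.Helper9.Misc.DPL4

/-! Helper9: conic classes and dominance (DP lattice). -/

namespace Groth.Agent.H9.WD

open W4c3severiratdp Groth.Agent.H9.DPL

variable {δ : ℕ}

theorem conic_mem_allSols (hδ : δ ≤ 8) (v : DP δ) (hv : IsConic v) :
    ∃ L ∈ allSols δ, vecOf δ L = v := by
  obtain ⟨ha1, ha11, hb⟩ := conic_bounds hδ v hv
  obtain ⟨h1, h2⟩ := conic_eqs v hv
  set A := (v 0).toNat with hA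
  have hAz : (A : ℤ) = v 0 := Int.toNat_of_nonneg (by linarith)
  set l := List.ofFn (fun i : Fin δ => (v i.succ).toNat) with hl
  have hcast : ∀ i : Fin δ, (((v i.succ).toNat : ℕ) : ℤ) = v i.succ :=
    fun i => Int.toNat_of_nonneg (hb i).1
  refine ⟨A :: l, ?_, ?_⟩
  · rw [allSols_mem]
    refine ⟨A, by omega, by omega, l, ?_, rfl⟩
    apply completeA
    · simp [hl]
    · intro x hx
      rw [hl, List.mem_ofFn] at hx
      obtain ⟨i, rfl⟩ := hx
      have := (hb i).2
      omega
    · rw [hl, List.sum_ofFn]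
      have : ((∑ i : Fin δ, (v i.succ).toNat : ℕ) : ℤ) = 3 * (A:ℤ) - 2 := by
        push_cast
        rw [Finset.sum_congr rfl fun i _ => hcast i, h2, hAz]
      omega
    · have : sqsum l = ∑ i : Fin δ, (v i.succ).toNat * (v i.succ).toNat := by
        rw [hl, sqsum, List.map_ofFn, List.sum_ofFn]
        rfl
      rw [this]
      have : ((∑ i : Fin δ, (v i.succ).toNat * (v i.succ).toNat : ℕ) : ℤ) = (A:ℤ) * A := by
        push_cast
        rw [Finset.sum_congr rfl fun i _ => by rw [hcast i], ← h1, hAz]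
      exact_mod_cast this
  · funext i
    induction i using Fin.cases with
    | zero => simp [vecOf, hAz]
    | succ j =>
      simp only [vecOf, Fin.val_succ, List.getD_cons_succ]
      have hlen : j.val < l.length := by simp [hl]
      rw [List.getD_eq_getElem l 0 hlen]
      have : l[j.val] = (v j.succ).toNat := by
        simp only [hl, List.getElem_ofFn, Fin.eta]
      rw [this, hcast]

theorem form_rho (x : DP δ) :
    form x (rho δ) = x 0 * (3 * (δ:ℤ)) - ∑ l : Fin δ, x l.succ * ((δ:ℤ) - (l.val:ℤ)) := rfl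

theorem conic_rho_bound (hδ : δ ≤ 8) (x : DP δ) (hx : IsConic x) : -(704:ℤ) ≤ form x (rho δ) := by
  obtain ⟨ha1, ha11, hb⟩ := conic_bounds hδ x hx
  rw [form_rho]
  have hsum : ∑ l : Fin δ, x l.succ * ((δ:ℤ) - (l.val:ℤ)) ≤ ∑ _l : Fin δ, (88:ℤ) := by
    refine Finset.sum_le_sum fun l _ => ?_
    have h1 := (hb l).1
    have h2 := (hb l).2
    have h3 : (0:ℤ) ≤ (δ:ℤ) - (l.val:ℤ) := by
      have : l.val < δ := l.2
      omega
    have h4 : (δ:ℤ) - (l.val:ℤ) ≤ 8 := by
      have : (0:ℤ) ≤ l.val := by positivity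
      have : (δ:ℤ) ≤ 8 := by exact_mod_cast hδ
      omega
    nlinarith
  rw [Finset.sum_const, Finset.card_univ, Fintype.card_fin] at hsum
  have hδ' : (δ:ℤ) ≤ 8 := by exact_mod_cast hδ
  have hδ0 : (0:ℤ) ≤ δ := by positivity
  simp only [nsmul_eq_mul] at hsum
  nlinarith

instance (PE : Fin δ → Fin δ → Prop) (PA : Fin δ → Fin δ → Fin δ → Prop)
    [∀ i j, Decidable (PE i j)] [∀ i j k, Decidable (PA i j k)] (x : DP δ) :
    Decidable (Dom PE PA x) := by
  unfold Dom; infer_instance

/-- the canonical conic `(1; 1, 0, …, 0)` -/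
def Q0 (δ : ℕ) : DP δ := Fin.cases 1 (fun l => if l.val = 0 then 1 else 0)

/-- all positive roots -/
abbrev PE1 : Fin δ → Fin δ → Prop := fun _ _ => True
abbrev PA1 : Fin δ → Fin δ → Fin δ → Prop := fun _ _ _ => True
/-- the roots orthogonal to `Q0` -/
abbrev PE2 : Fin δ → Fin δ → Prop := fun i _ => i.val ≠ 0
abbrev PA2 : Fin δ → Fin δ → Fin δ → Prop := fun i _ _ => i.val = 0

theorem Q0_orth : ∀ α, RR (PE2 (δ := δ)) PA2 α → form (Q0 δ) α = 0 := by
  apply RR_orth
  · intro i j hij hP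
    have hj : j.val ≠ 0 := by
      have : i.val < j.val := hij
      omega
    simp [Q0, hP, hj]
  · intro i j k hij hjk hP
    have hj : j.val ≠ 0 := by
      have : i.val < j.val := hij
      omega
    have hk : k.val ≠ 0 := by
      have : j.val < k.val := hjk
      omega
    simp [Q0, hP, hj, hk]

/-- the intersection number with `Q0` on lists -/
def nn (L : List ℕ) : ℤ := (L.getD 0 0 : ℤ) - (L.getD 1 0 : ℤ)

theorem form_Q0 (hδ : 0 < δ) (x : DP δ) : form (Q0 δ) x = x 0 - x 1 := by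
  classical
  unfold form Q0
  simp only [Fin.cases_zero, Fin.cases_succ, one_mul]
  have : ∀ l : Fin δ, (if l.val = 0 then (1:ℤ) else 0) * x l.succ
      = if l = ⟨0, hδ⟩ then x l.succ else 0 := by
    intro l
    by_cases h : l.val = 0
    · have : l = ⟨0, hδ⟩ := Fin.ext h
      simp [this]
    · have : l ≠ ⟨0, hδ⟩ := fun h' => h (by rw [h'])
      simp [h, this]
  rw [Finset.sum_congr rfl fun l _ => this l, Finset.sum_ite_eq' Finset.univ]
  simp only [Finset.mem_univ, if_true]
  congr 2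
  apply Fin.ext
  rw [Fin.val_succ, Fin.val_one', Nat.mod_eq_of_lt (by omega)]

end Groth.Agent.H9.WD
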