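import Mathlib
import Groth.Prelude.Def_W4c3severiratdpLat
import Groth.Agent.Lib.Helper9.Misc.WD3

/-! Helper9: Weyl orbits of pairs of conic classes (S15907). -/

namespace Groth.Agent.H9.WD

open W4c3severiratdp Groth.Agent.H9.DPL

set_option maxRecDepth 100000

theorem c1_8 : ∀ L ∈ allSols 8, Dom PE1 PA1 (vecOf 8 L) → vecOf 8 L = Q0 8 := by decide +kernel
theorem c1_7 : ∀ L ∈ allSols 7, Dom PE1 PA1 (vecOf 7 L) → vecOf 7 L = Q0 7 := by decide +kernel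
theorem c1_6 : ∀ L ∈ allSols 6, Dom PE1 PA1 (vecOf 6 L) → vecOf 6 L = Q0 6 := by decide +kernel
theorem c1_5 : ∀ L ∈ allSols 5, Dom PE1 PA1 (vecOf 5 L) → vecOf 5 L = Q0 5 := by decide +kernel
theorem c1_4 : ∀ L ∈ allSols 4, Dom PE1 PA1 (vecOf 4 L) → vecOf 4 L = Q0 4 := by decide +kernel
theorem c1_3 : ∀ L ∈ allSols 3, Dom PE1 PA1 (vecOf 3 L) → vecOf 3 L = Q0 3 := by decide +kernel
theorem c1_2 : ∀ L ∈ allSols 2, Dom PE1 PA1 (vecOf 2 L) → vecOf 2 L = Q0 2 := by decide +kernel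

theorem c2_8 : ∀ L ∈ allSols 8, Dom PE2 PA2 (vecOf 8 L) → ∀ L' ∈ allSols 8, Dom PE2 PA2 (vecOf 8 L') →
    nn L = nn L' → nn L ≠ 4 → L = L' := by decide +kernel
theorem c2_7 : ∀ L ∈ allSols 7, Dom PE2 PA2 (vecOf 7 L) → ∀ L' ∈ allSols 7, Dom PE2 PA2 (vecOf 7 L') →
    nn L = nn L' → L = L' := by decide +kernel
theorem c2_6 : ∀ L ∈ allSols 6, Dom PE2 PA2 (vecOf 6 L) → ∀ L' ∈ allSols 6, Dom PE2 PA2 (vecOf 6 L') →
    nn L = nn L' → L = L' := by decide +kernel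
theorem c2_5 : ∀ L ∈ allSols 5, Dom PE2 PA2 (vecOf 5 L) → ∀ L' ∈ allSols 5, Dom PE2 PA2 (vecOf 5 L') →
    nn L = nn L' → L = L' := by decide +kernel
theorem c2_4 : ∀ L ∈ allSols 4, Dom PE2 PA2 (vecOf 4 L) → ∀ L' ∈ allSols 4, Dom PE2 PA2 (vecOf 4 L') →
    nn L = nn L' → L = L' := by decide +kernel
theorem c2_3 : ∀ L ∈ allSols 3, Dom PE2 PA2 (vecOf 3 L) → ∀ L' ∈ allSols 3, Dom PE2 PA2 (vecOf 3 L') →
    nn L = nn L' → L = L' := by decide +kernel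
theorem c2_2 : ∀ L ∈ allSols 2, Dom PE2 PA2 (vecOf 2 L) → ∀ L' ∈ allSols 2, Dom PE2 PA2 (vecOf 2 L') →
    nn L = nn L' → L = L' := by decide +kernel

theorem nn_eq {δ : ℕ} (hδ : 0 < δ) (L : List ℕ) : form (Q0 δ) (vecOf δ L) = nn L := by
  rw [form_Q0 hδ]
  simp only [vecOf, nn, Fin.val_zero]
  congr 3
  rw [Fin.val_one', Nat.mod_eq_of_lt (by omega)]

/-- generic assembly for pairs of conics -/
theorem conic_pairs {δ : ℕ} (h2 : 2 ≤ δ) (h8 : δ ≤ 8) (P : ℤ → Prop)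
    (c1 : ∀ L ∈ allSols δ, Dom PE1 PA1 (vecOf δ L) → vecOf δ L = Q0 δ)
    (c2 : ∀ L ∈ allSols δ, Dom PE2 PA2 (vecOf δ L) → ∀ L' ∈ allSols δ, Dom PE2 PA2 (vecOf δ L') →
      nn L = nn L' → P (nn L) → L = L')
    (v₁ v₂ w₁ w₂ : DP δ) (hv₁ : IsConic v₁) (hv₂ : IsConic v₂) (hw₁ : IsConic w₁) (hw₂ : IsConic w₂)
    (heq : form v₁ v₂ = form w₁ w₂) (hP : P (form v₁ v₂)) :
    ∃ g : DP δ ≃ₗ[ℤ] DP δ, IsWeyl g ∧ g v₁ = w₁ ∧ g v₂ = w₂ := by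
  have hδ0 : 0 < δ := by omega
  have hC1 : ∀ x, IsConic x → (∀ α, RR (PE1 (δ := δ)) PA1 α → 0 ≤ form x α) → x = Q0 δ := by
    intro x hx hdom
    obtain ⟨L, hL, rfl⟩ := conic_mem_allSols h8 x hx
    exact c1 L hL (dom_of _ _ _ hdom)
  have key := fun a b ha hb => pair_orbit (RR (PE1 (δ := δ)) PA1) (RR (PE2 (δ := δ)) PA2)
    (RR_root _ _) (RR_root _ _) (rho δ) (RR_rho _ _) (RR_rho _ _) IsConic IsConic
    (fun g hg x hx => isConic_map hg hx) (fun g hg x hx => isConic_map hg hx) 704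
    (conic_rho_bound h8) (conic_rho_bound h8) (Q0 δ) Q0_orth hC1 a b ha hb
  obtain ⟨gv, hgv, ev1, hcv, hdv⟩ := key v₁ v₂ hv₁ hv₂
  obtain ⟨gw, hgw, ew1, hcw, hdw⟩ := key w₁ w₂ hw₁ hw₂
  obtain ⟨L, hL, eL⟩ := conic_mem_allSols h8 _ hcv
  obtain ⟨L', hL', eL'⟩ := conic_mem_allSols h8 _ hcw
  have n1 : nn L = form v₁ v₂ := by
    rw [← nn_eq hδ0, eL, ← ev1, hgv.1]
  have n2 : nn L' = form w₁ w₂ := by
    rw [← nn_eq hδ0, eL', ← ew1, hgw.1]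
  have hLL : L = L' := by
    apply c2 L hL _ L' hL' _ _ _
    · rw [eL]; exact dom_of _ _ _ hdv
    · rw [eL']; exact dom_of _ _ _ hdw
    · rw [n1, n2, heq]
    · rw [n1]; exact hP
  have e2 : gv v₂ = gw w₂ := by rw [← eL, ← eL', hLL]
  refine ⟨gv.trans gw.symm, isWeyl_trans hgv (isWeyl_symm hgw), ?_, ?_⟩
  · rw [LinearEquiv.trans_apply, ev1, ← ew1, LinearEquiv.symm_apply_apply]
  · rw [LinearEquiv.trans_apply, e2, LinearEquiv.symm_apply_apply]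

theorem main7 (δ : ℕ) (h2 : 2 ≤ δ) (h8 : δ ≤ 8)
    (v₁ v₂ w₁ w₂ : DP δ) (hv₁ : IsConic v₁) (hv₂ : IsConic v₂) (hw₁ : IsConic w₁) (hw₂ : IsConic w₂)
    (heq : form v₁ v₂ = form w₁ w₂) (hexc : ¬ (δ = 8 ∧ form v₁ v₂ = 4)) :
    ∃ g : DP δ ≃ₗ[ℤ] DP δ, IsWeyl g ∧ g v₁ = w₁ ∧ g v₂ = w₂ := by
  interval_cases δ
  · exact conic_pairs (by norm_num) (by norm_num) (fun _ => True) c1_2
      (fun L hL hd L' hL' hd' hn _ => c2_2 L hL hd L' hL' hd' hn) v₁ v₂ w₁ w₂ hv₁ hv₂ hw₁ hw₂ heq trivial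
  · exact conic_pairs (by norm_num) (by norm_num) (fun _ => True) c1_3
      (fun L hL hd L' hL' hd' hn _ => c2_3 L hL hd L' hL' hd' hn) v₁ v₂ w₁ w₂ hv₁ hv₂ hw₁ hw₂ heq trivial
  · exact conic_pairs (by norm_num) (by norm_num) (fun _ => True) c1_4
      (fun L hL hd L' hL' hd' hn _ => c2_4 L hL hd L' hL' hd' hn) v₁ v₂ w₁ w₂ hv₁ hv₂ hw₁ hw₂ heq trivial
  · exact conic_pairs (by norm_num) (by norm_num) (fun _ => True) c1_5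
      (fun L hL hd L' hL' hd' hn _ => c2_5 L hL hd L' hL' hd' hn) v₁ v₂ w₁ w₂ hv₁ hv₂ hw₁ hw₂ heq trivial
  · exact conic_pairs (by norm_num) (by norm_num) (fun _ => True) c1_6
      (fun L hL hd L' hL' hd' hn _ => c2_6 L hL hd L' hL' hd' hn) v₁ v₂ w₁ w₂ hv₁ hv₂ hw₁ hw₂ heq trivial
  · exact conic_pairs (by norm_num) (by norm_num) (fun _ => True) c1_7
      (fun L hL hd L' hL' hd' hn _ => c2_7 L hL hd L' hL' hd' hn) v₁ v₂ w₁ w₂ hv₁ hv₂ hw₁ hw₂ heq trivial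
  · exact conic_pairs (by norm_num) (by norm_num) (fun n => n ≠ 4) c1_8 c2_8
      v₁ v₂ w₁ w₂ hv₁ hv₂ hw₁ hw₂ heq (fun h => hexc ⟨rfl, h⟩)

end Groth.Agent.H9.WD
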