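import Mathlib
import Groth.Prelude.Def_W4c3severiratdpLat
import Groth.Agent.Lib.Helper9.Misc.WD4

/-! Helper9: two Weyl orbits of conic pairs with product 4 (S15908). -/

namespace Groth.Agent.H9.WD

open W4c3severiratdp Groth.Agent.H9.DPL

set_option maxRecDepth 100000

theorem c3_8 : ∀ L ∈ allSols 8, Dom PE2 PA2 (vecOf 8 L) → nn L = 4 →
    L = [4,0,2,2,2,1,1,1,1] ∨ L = [5,1,2,2,2,2,2,2,0] := by decide +kernel

theorem conic_Q0 : IsConic (Q0 8) := by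
  apply conic_of_eqs <;> decide +kernel

theorem conic_p2 : IsConic (vecOf 8 [4,0,2,2,2,1,1,1,1]) := by
  apply conic_of_eqs <;> decide +kernel

theorem conic_q2 : IsConic (vecOf 8 [5,1,2,2,2,2,2,2,0]) := by
  apply conic_of_eqs <;> decide +kernel

theorem main8 :
    ∃ p₁ p₂ q₁ q₂ : DP 8, IsConic p₁ ∧ IsConic p₂ ∧ IsConic q₁ ∧ IsConic q₂ ∧ form p₁ p₂ = 4 ∧
      form q₁ q₂ = 4 ∧
      (¬ ∃ g : DP 8 ≃ₗ[ℤ] DP 8, IsWeyl g ∧ g p₁ = q₁ ∧ g p₂ = q₂) ∧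
      ∀ v₁ v₂ : DP 8, IsConic v₁ → IsConic v₂ → form v₁ v₂ = 4 →
        ∃ g : DP 8 ≃ₗ[ℤ] DP 8, IsWeyl g ∧ ((g v₁ = p₁ ∧ g v₂ = p₂) ∨ (g v₁ = q₁ ∧ g v₂ = q₂)) := by
  refine ⟨Q0 8, vecOf 8 [4,0,2,2,2,1,1,1,1], Q0 8, vecOf 8 [5,1,2,2,2,2,2,2,0],
    conic_Q0, conic_p2, conic_Q0, conic_q2, ?_, ?_, ?_, ?_⟩
  · rw [nn_eq (by norm_num)]; decide +kernel
  · rw [nn_eq (by norm_num)]; decide +kernel
  · rintro ⟨g, hg, e1, e2⟩
    have hsum : g (Q0 8 + vecOf 8 [4,0,2,2,2,1,1,1,1])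
        = (2:ℤ) • vecOf 8 [3,1,1,1,1,1,1,1,0] := by
      rw [map_add, e1, e2]
      decide +kernel
    have := congrArg g.symm hsum
    rw [LinearEquiv.symm_apply_apply, map_smul] at this
    have h0 := congrFun this 0
    simp only [Pi.add_apply, Pi.smul_apply, smul_eq_mul] at h0
    have h5 : (Q0 8 + vecOf 8 [4,0,2,2,2,1,1,1,1]) 0 = 5 := by decide +kernel
    simp only [Pi.add_apply] at h5
    omega
  · intro v₁ v₂ hv₁ hv₂ h4
    have hC1 : ∀ x, IsConic x → (∀ α, RR (PE1 (δ := 8)) PA1 α → 0 ≤ form x α) → x = Q0 8 := by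
      intro x hx hdom
      obtain ⟨L, hL, rfl⟩ := conic_mem_allSols (le_refl 8) x hx
      exact c1_8 L hL (dom_of _ _ _ hdom)
    obtain ⟨g, hg, e1, hc, hd⟩ := pair_orbit (RR (PE1 (δ := 8)) PA1) (RR (PE2 (δ := 8)) PA2)
      (RR_root _ _) (RR_root _ _) (rho 8) (RR_rho _ _) (RR_rho _ _) IsConic IsConic
      (fun g hg x hx => isConic_map hg hx) (fun g hg x hx => isConic_map hg hx) 704
      (conic_rho_bound (le_refl 8)) (conic_rho_bound (le_refl 8)) (Q0 8) Q0_orth hC1 v₁ v₂ hv₁ hv₂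
    obtain ⟨L, hL, eL⟩ := conic_mem_allSols (le_refl 8) _ hc
    have n1 : nn L = 4 := by
      rw [← nn_eq (by norm_num : 0 < 8), eL, ← e1, hg.1, h4]
    have := c3_8 L hL (by rw [eL]; exact dom_of _ _ _ hd) n1
    refine ⟨g, hg, ?_⟩
    rcases this with h | h
    · left; exact ⟨e1, by rw [← eL, h]⟩
    · right; exact ⟨e1, by rw [← eL, h]⟩

end Groth.Agent.H9.WD
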