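import Mathlib
import Groth.Prelude.Def_W4c3severiratdpLat
import Groth.Agent.Lib.Helper9.Misc.WD3

/-! Helper9: exceptional classes of the DP 8 lattice. -/

namespace Groth.Agent.H9.WD

open W4c3severiratdp Groth.Agent.H9.DPL

variable {δ : ℕ}

theorem exc_eqs (v : DP δ) (h : IsExc v) :
    ∑ i : Fin δ, v i.succ * v i.succ = v 0 * v 0 + 1 ∧ ∑ i : Fin δ, v i.succ = 3 * v 0 - 1 := by
  obtain ⟨h1, h2⟩ := h
  unfold form at h1 h2
  constructor
  · linarith
  · simp only [canon, Fin.cases_zero, Fin.cases_succ, neg_mul, one_mul, Finset.sum_neg_distrib] at h2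
    linarith

theorem exc_of_eqs (v : DP δ)
    (h1 : ∑ i : Fin δ, v i.succ * v i.succ = v 0 * v 0 + 1)
    (h2 : ∑ i : Fin δ, v i.succ = 3 * v 0 - 1) : IsExc v := by
  constructor
  · unfold form; linarith
  · unfold form
    simp only [canon, Fin.cases_zero, Fin.cases_succ, neg_mul, one_mul, Finset.sum_neg_distrib]
    linarith

theorem exc_bounds (hδ : δ ≤ 8) (v : DP δ) (h : IsExc v) :
    0 ≤ v 0 ∧ v 0 ≤ 7 ∧ ∀ j : Fin δ, -1 ≤ v j.succ ∧ v j.succ ≤ v 0 + 1 := by
  classical
  obtain ⟨h1, h2⟩ := exc_eqs v h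
  set a := v 0 with ha
  have hcs : (∑ i : Fin δ, v i.succ) ^ 2 ≤ (δ : ℤ) * ∑ i : Fin δ, v i.succ ^ 2 := by
    have := sq_sum_le_card_mul_sum_sq (s := (Finset.univ : Finset (Fin δ)))
      (f := fun i => v i.succ)
    simpa using this
  have hsq : ∑ i : Fin δ, v i.succ ^ 2 = a * a + 1 := by
    rw [← h1]; exact Finset.sum_congr rfl fun i _ => by ring
  rw [h2, hsq] at hcs
  have hδ' : (δ : ℤ) ≤ 8 := by exact_mod_cast hδ
  have hδ0 : (0 : ℤ) ≤ δ := by positivity
  have hcs8 : (3 * a - 1) ^ 2 ≤ 8 * (a * a + 1) := by nlinarith [mul_self_nonneg a]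
  -- b^2 + b ≥ 0
  have hbb : 0 ≤ ∑ i : Fin δ, (v i.succ * v i.succ + v i.succ) := by
    refine Finset.sum_nonneg fun i _ => ?_
    have : 0 ≤ v i.succ * (v i.succ + 1) := by
      rcases le_or_gt 0 (v i.succ) with h | h
      · exact mul_nonneg h (by linarith)
      · exact mul_nonneg_of_nonpos_of_nonpos (by linarith) (by omega)
    nlinarith
  rw [Finset.sum_add_distrib, h1, h2] at hbb
  have ha0 : 0 ≤ a := by nlinarith
  have ha7 : a ≤ 7 := by nlinarith
  refine ⟨ha0, ha7, ?_⟩
  intro j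
  set x := v j.succ with hx
  have hsplit1 : ∑ i : Fin δ, v i.succ = x + ∑ i ∈ Finset.univ.erase j, v i.succ :=
    (Finset.add_sum_erase _ _ (Finset.mem_univ j)).symm
  have hsplit2 : ∑ i : Fin δ, v i.succ ^ 2 = x ^ 2 + ∑ i ∈ Finset.univ.erase j, v i.succ ^ 2 :=
    (Finset.add_sum_erase _ (fun i => v i.succ ^ 2) (Finset.mem_univ j)).symm
  have hcs' := sq_sum_le_card_mul_sum_sq (s := (Finset.univ.erase j : Finset (Fin δ)))
      (f := fun i => v i.succ)
  have hcard : ((Finset.univ.erase j : Finset (Fin δ)).card : ℤ) ≤ 7 := by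
    rw [Finset.card_erase_of_mem (Finset.mem_univ j), Finset.card_univ, Fintype.card_fin]
    have : δ - 1 ≤ 7 := by omega
    exact_mod_cast this
  have hcard0 : (0 : ℤ) ≤ ((Finset.univ.erase j : Finset (Fin δ)).card : ℤ) := by positivity
  set T := ∑ i ∈ Finset.univ.erase j, v i.succ
  set U := ∑ i ∈ Finset.univ.erase j, v i.succ ^ 2
  have hU : 0 ≤ U := Finset.sum_nonneg fun i _ => sq_nonneg _
  have hT : T = 3 * a - 1 - x := by linarith
  have hU' : U = a * a + 1 - x ^ 2 := by linarith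
  have h7 : T ^ 2 ≤ 7 * U := by
    calc T ^ 2 ≤ _ := hcs'
      _ ≤ 7 * U := by nlinarith
  rw [hT, hU'] at h7
  rw [hU'] at hU
  constructor
  · by_contra hneg
    push Not at hneg
    have hx1 : x ≤ -2 := by omega
    nlinarith [mul_nonneg (by linarith : (0:ℤ) ≤ -x - 2) ha0,
      mul_nonneg (by linarith : (0:ℤ) ≤ -x - 2) (by linarith : (0:ℤ) ≤ -x - 2)]
  · nlinarith

/-- all exceptional classes for `δ = 8`, shifted by one in the `b`-coordinates -/
def allExc : List (List ℕ) :=
  (List.range 8).flatMap fun a => (goA 8 (a + 2) (3 * a + 7) (a * a + 6 * a + 7)).map (a :: ·)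

/-- vector of a shifted list -/
def vecOfE (L : List ℕ) : DP 8 := Fin.cases (L.getD 0 0 : ℤ) (fun l => (L.getD (l.val + 1) 0 : ℤ) - 1)

theorem allExc_mem (L : List ℕ) :
    L ∈ allExc ↔ ∃ A, A ≤ 7 ∧ ∃ l ∈ goA 8 (A + 2) (3 * A + 7) (A * A + 6 * A + 7), L = A :: l := by
  unfold allExc
  rw [List.mem_flatMap]
  constructor
  · rintro ⟨A, hA, hL⟩
    rw [List.mem_range] at hA
    obtain ⟨l, hl, rfl⟩ := List.mem_map.1 hL
    exact ⟨A, by omega, l, hl, rfl⟩
  · rintro ⟨A, h1, l, hl, rfl⟩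
    exact ⟨A, List.mem_range.2 (by omega), List.mem_map.2 ⟨l, hl, rfl⟩⟩

theorem exc_mem_allExc (v : DP 8) (hv : IsExc v) : ∃ L ∈ allExc, vecOfE L = v := by
  obtain ⟨ha0, ha7, hb⟩ := exc_bounds (le_refl 8) v hv
  obtain ⟨h1, h2⟩ := exc_eqs v hv
  set A := (v 0).toNat with hA
  have hAz : (A : ℤ) = v 0 := Int.toNat_of_nonneg ha0
  set l := List.ofFn (fun i : Fin 8 => (v i.succ + 1).toNat) with hl
  have hcast : ∀ i : Fin 8, (((v i.succ + 1).toNat : ℕ) : ℤ) = v i.succ + 1 :=
    fun i => Int.toNat_of_nonneg (by linarith [(hb i).1])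
  refine ⟨A :: l, ?_, ?_⟩
  · rw [allExc_mem]
    refine ⟨A, by omega, l, ?_, rfl⟩
    apply completeA
    · simp [hl]
    · intro x hx
      rw [hl, List.mem_ofFn] at hx
      obtain ⟨i, rfl⟩ := hx
      have := (hb i).2
      have := (hb i).1
      omega
    · rw [hl, List.sum_ofFn]
      have : ((∑ i : Fin 8, (v i.succ + 1).toNat : ℕ) : ℤ) = 3 * (A:ℤ) + 7 := by
        push_cast
        rw [Finset.sum_congr rfl fun i _ => hcast i, Finset.sum_add_distrib, h2, hAz]
        simp
        ring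
      exact_mod_cast this
    · have : sqsum l = ∑ i : Fin 8, (v i.succ + 1).toNat * (v i.succ + 1).toNat := by
        rw [hl, sqsum, List.map_ofFn, List.sum_ofFn]
        rfl
      rw [this]
      have : ((∑ i : Fin 8, (v i.succ + 1).toNat * (v i.succ + 1).toNat : ℕ) : ℤ)
          = (A:ℤ) * A + 6 * A + 7 := by
        push_cast
        rw [Finset.sum_congr rfl fun i _ => by rw [hcast i]]
        have : ∀ i : Fin 8, (v i.succ + 1) * (v i.succ + 1)
            = v i.succ * v i.succ + 2 * v i.succ + 1 := fun i => by ring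
        rw [Finset.sum_congr rfl fun i _ => this i, Finset.sum_add_distrib,
          Finset.sum_add_distrib, ← Finset.mul_sum, h1, h2, hAz]
        simp
        ring
      exact_mod_cast this
  · funext i
    induction i using Fin.cases with
    | zero => simp [vecOfE, hAz]
    | succ j =>
      simp only [vecOfE, Fin.cases_succ, List.getD_cons_succ]
      have hlen : j.val < l.length := by simp [hl]
      rw [List.getD_eq_getElem l 0 hlen]
      have : l[j.val] = (v j.succ + 1).toNat := by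
        simp only [hl, List.getElem_ofFn, Fin.eta]
      rw [this, hcast]
      ring

theorem exc_rho_bound (x : DP 8) (hx : IsExc x) : -(704:ℤ) ≤ form x (rho 8) := by
  obtain ⟨ha0, ha7, hb⟩ := exc_bounds (le_refl 8) x hx
  rw [form_rho]
  have hsum : ∑ l : Fin 8, x l.succ * (((8:ℕ):ℤ) - (l.val:ℤ)) ≤ ∑ _l : Fin 8, (88:ℤ) := by
    refine Finset.sum_le_sum fun l _ => ?_
    have h1 := (hb l).1
    have h2 := (hb l).2
    have h3 : (0:ℤ) ≤ ((8:ℕ):ℤ) - (l.val:ℤ) := by
      have : l.val < 8 := l.2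
      omega
    have h4 : ((8:ℕ):ℤ) - (l.val:ℤ) ≤ 8 := by
      have : (0:ℤ) ≤ l.val := by positivity
      omega
    rcases le_or_gt 0 (x l.succ) with h | h
    · nlinarith
    · nlinarith
  rw [Finset.sum_const, Finset.card_univ, Fintype.card_fin] at hsum
  simp only [nsmul_eq_mul] at hsum
  push_cast at hsum ⊢
  nlinarith

/-- the canonical exceptional class `e_8` -/
def L0 : DP 8 := Fin.cases 0 (fun l => if l.val = 7 then -1 else 0)

abbrev PE3 : Fin 8 → Fin 8 → Prop := fun _ j => j.val ≠ 7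
abbrev PA3 : Fin 8 → Fin 8 → Fin 8 → Prop := fun _ _ k => k.val ≠ 7

theorem L0_orth : ∀ α, RR PE3 PA3 α → form L0 α = 0 := by
  apply RR_orth
  · intro i j hij hP
    have hi : i.val ≠ 7 := by
      have : i.val < j.val := hij
      have := j.2
      omega
    simp [L0, hP, hi]
  · intro i j k hij hjk hP
    have hj : j.val ≠ 7 := by
      have : j.val < k.val := hjk
      have := k.2
      omega
    have hi : i.val ≠ 7 := by
      have : i.val < j.val := hij
      have := j.2
      omega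
    simp [L0, hP, hi, hj]

theorem form_L0 (x : DP 8) : form L0 x = x 8 := by
  unfold form L0
  simp [Fin.sum_univ_succ]

end Groth.Agent.H9.WD
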