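import Mathlib
import Groth.Prelude.Def_W4c3severiratdpLat
import Groth.Agent.Lib.Helper9.Misc.WD6

/-! Helper9: stabilizer orbits on exceptional classes (S15909). -/

namespace Groth.Agent.H9.WD

open W4c3severiratdp Groth.Agent.H9.DPL

set_option maxRecDepth 100000

theorem lenExc : allExc.length = 240 := by decide +kernel

theorem c1e : ∀ L ∈ allExc, Dom PE1 PA1 (vecOfE L) → vecOfE L = L0 := by decide +kernel

theorem c2e : ∀ L ∈ allExc, Dom PE3 PA3 (vecOfE L) → ∀ L' ∈ allExc, Dom PE3 PA3 (vecOfE L') →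
    L.getD 8 0 = L'.getD 8 0 → L = L' := by decide +kernel

theorem ne_eq (L : List ℕ) : form L0 (vecOfE L) = (L.getD 8 0 : ℤ) - 1 := by
  rw [form_L0]
  rfl

theorem main9 (L L₁ L₂ : DP 8) (hL : IsExc L) (hL₁ : IsExc L₁)
    (hL₂ : IsExc L₂) (h : form L₁ L = form L₂ L) :
    ∃ g : DP 8 ≃ₗ[ℤ] DP 8, IsWeyl g ∧ g L = L ∧ g L₁ = L₂ := by
  have hC1 : ∀ x, IsExc x → (∀ α, RR (PE1 (δ := 8)) PA1 α → 0 ≤ form x α) → x = L0 := by
    intro x hx hdom
    obtain ⟨M, hM, rfl⟩ := exc_mem_allExc x hx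
    exact c1e M hM (dom_of _ _ _ hdom)
  have key := fun a b ha hb => pair_orbit (RR (PE1 (δ := 8)) PA1) (RR PE3 PA3)
    (RR_root _ _) (RR_root _ _) (rho 8) (RR_rho _ _) (RR_rho _ _) IsExc IsExc
    (fun g hg x hx => isExc_map hg hx) (fun g hg x hx => isExc_map hg hx) 704
    exc_rho_bound exc_rho_bound L0 L0_orth hC1 a b ha hb
  obtain ⟨gv, hgv, ev1, hcv, hdv⟩ := key L L₁ hL hL₁
  obtain ⟨gw, hgw, ew1, hcw, hdw⟩ := key L L₂ hL hL₂
  obtain ⟨M, hM, eM⟩ := exc_mem_allExc _ hcv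
  obtain ⟨M', hM', eM'⟩ := exc_mem_allExc _ hcw
  have n1 : (M.getD 8 0 : ℤ) - 1 = form L L₁ := by
    rw [← ne_eq, eM, ← ev1, hgv.1]
  have n2 : (M'.getD 8 0 : ℤ) - 1 = form L L₂ := by
    rw [← ne_eq, eM', ← ew1, hgw.1]
  have hMM : M = M' := by
    apply c2e M hM _ M' hM' _ _
    · rw [eM]; exact dom_of _ _ _ hdv
    · rw [eM']; exact dom_of _ _ _ hdw
    · rw [form_comm L L₁, h, form_comm L₂ L] at n1
      have : (M.getD 8 0 : ℤ) = (M'.getD 8 0 : ℤ) := by linarith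
      exact_mod_cast this
  have e2 : gv L₁ = gw L₂ := by rw [← eM, ← eM', hMM]
  refine ⟨gv.trans gw.symm, isWeyl_trans hgv (isWeyl_symm hgw), ?_, ?_⟩
  · rw [LinearEquiv.trans_apply, ev1, ← ew1, LinearEquiv.symm_apply_apply]
  · rw [LinearEquiv.trans_apply, e2, LinearEquiv.symm_apply_apply]

end Groth.Agent.H9.WD
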