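import Mathlib
import Groth.Prelude.Def_W4c3severiratdpLat
import Groth.Agent.Lib.Helper9.Misc.WD7

/-! Helper9: canonical triples of exceptional classes (towards S15910). -/

namespace Groth.Agent.H9.WD

open W4c3severiratdp Groth.Agent.H9.DPL

set_option maxRecDepth 100000

/-- the descent lemma, fixing every vector orthogonal to the roots used -/
theorem descent' {δ : ℕ} (R : DP δ → Prop)
    (hR : ∀ α, R α → form α α = -2 ∧ form (canon δ) α = 0)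
    (ρ : DP δ) (hρ : ∀ α, R α → 0 < form α ρ)
    (X : DP δ → Prop) (hX : ∀ g : DP δ ≃ₗ[ℤ] DP δ, IsWeyl g → ∀ x, X x → X (g x))
    (C : ℤ) (hC : ∀ x, X x → -C ≤ form x ρ) :
    ∀ x, X x → ∃ g : DP δ ≃ₗ[ℤ] DP δ, IsWeyl g ∧
      (∀ L, (∀ α, R α → form L α = 0) → g L = L) ∧ ∀ α, R α → 0 ≤ form (g x) α := by
  intro x hx
  induction' hn : (form x ρ + C).toNat using Nat.strong_induction_on with n ih generalizing x
  by_cases hdom : ∀ α, R α → 0 ≤ form x α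
  · exact ⟨LinearEquiv.refl ℤ _, isWeyl_one, fun _ _ => rfl, hdom⟩
  · push Not at hdom
    obtain ⟨α, hα, hneg⟩ := hdom
    obtain ⟨h1, h2⟩ := hR α hα
    have hw := isWeyl_refl α h1 h2
    have hx' : X (refl α h1 x) := hX _ hw x hx
    have hφ : form (refl α h1 x) ρ = form x ρ + form x α * form α ρ := by
      rw [refl_apply, form_add_left, form_smul_left]
    have hpos := hρ α hα
    have hlt : form (refl α h1 x) ρ < form x ρ := by
      rw [hφ]; nlinarith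
    have hb1 := hC x hx
    have hb2 := hC _ hx'
    obtain ⟨g, hg1, hg2, hg3⟩ := ih (form (refl α h1 x) ρ + C).toNat (by omega) _ hx' rfl
    refine ⟨(refl α h1).trans g, isWeyl_trans hw hg1, ?_, ?_⟩
    · intro L hL
      rw [LinearEquiv.trans_apply, refl_apply, hL α hα, zero_smul, add_zero, hg2 L hL]
    · intro β hβ
      rw [LinearEquiv.trans_apply]
      exact hg3 β hβ

/-- roots orthogonal to `L0` and to `Q` -/
abbrev PEQ (Q : DP 8) : Fin 8 → Fin 8 → Prop := fun i j => j.val ≠ 7 ∧ Q i.succ = Q j.succ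
abbrev PAQ (Q : DP 8) : Fin 8 → Fin 8 → Fin 8 → Prop :=
  fun i j k => k.val ≠ 7 ∧ Q i.succ + Q j.succ + Q k.succ = Q 0

theorem PEQ_orth_L0 (Q : DP 8) : ∀ α, RR (PEQ Q) (PAQ Q) α → form L0 α = 0 := by
  intro α h
  apply L0_orth
  rcases h with ⟨i, j, hij, hP, rfl⟩ | ⟨i, j, k, hij, hjk, hP, rfl⟩
  · exact Or.inl ⟨i, j, hij, hP.1, rfl⟩
  · exact Or.inr ⟨i, j, k, hij, hjk, hP.1, rfl⟩

theorem PEQ_orth_Q (Q : DP 8) : ∀ α, RR (PEQ Q) (PAQ Q) α → form Q α = 0 := by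
  apply RR_orth
  · intro i j _ hP; exact hP.2
  · intro i j k _ _ hP; exact hP.2

/-- the target sum `L0 - 2K` -/
def S0 : DP 8 := L0 - 2 • canon 8

/-- the four canonical triples -/
def r0 : Fin 4 → Fin 3 → DP 8 :=
  ![![vecOfE [0,1,1,1,1,1,1,1,0], vecOfE [0,1,1,1,1,1,1,1,0], vecOfE [6,3,3,3,3,3,3,3,4]],
    ![vecOfE [0,1,1,1,1,1,1,1,0], vecOfE [0,1,1,1,1,1,1,0,1], vecOfE [6,3,3,3,3,3,3,4,3]],
    ![vecOfE [0,1,1,1,1,1,1,1,0], vecOfE [1,2,1,1,1,1,1,1,2], vecOfE [5,2,3,3,3,3,3,3,2]],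
    ![vecOfE [0,1,1,1,1,1,1,0,1], vecOfE [1,2,1,1,1,1,1,2,1], vecOfE [5,2,3,3,3,3,3,3,2]]]

theorem c4e : ∀ M0 ∈ allExc, Dom PE3 PA3 (vecOfE M0) →
    ∀ M1 ∈ allExc, Dom (PEQ (vecOfE M0)) (PAQ (vecOfE M0)) (vecOfE M1) →
    ∀ M2 ∈ allExc, vecOfE M0 + vecOfE M1 + vecOfE M2 = S0 →
      M0.getD 8 0 ≤ M1.getD 8 0 → M1.getD 8 0 ≤ M2.getD 8 0 →
      ∃ j : Fin 4, vecOfE M0 = r0 j 0 ∧ vecOfE M1 = r0 j 1 ∧ vecOfE M2 = r0 j 2 := by
  decide +kernel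

theorem r0_exc : ∀ j i, IsExc (r0 j i) := by
  intro j i
  apply exc_of_eqs <;> revert j i <;> decide +kernel

theorem r0_sum : ∀ j, r0 j 0 + r0 j 1 + r0 j 2 = S0 := by decide +kernel

/-- the invariant: sum of squares of the intersection numbers with `L0` -/
theorem r0_inv : ∀ j j' : Fin 4, ∑ i, (r0 j i 8) ^ 2 = ∑ i, (r0 j' i 8) ^ 2 → j = j' := by
  decide +kernel

end Groth.Agent.H9.WD
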