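import Mathlib
import Groth.Prelude.Def_W4c3severiratdpLat
import Groth.Agent.Lib.Helper9.Misc.WD8

/-! Helper9: four stabilizer orbits on triples of exceptional classes (S15910). -/

namespace Groth.Agent.H9.WD

open W4c3severiratdp Groth.Agent.H9.DPL

theorem weyl_S0 {g : DP 8 ≃ₗ[ℤ] DP 8} (hg : IsWeyl g) (h0 : g L0 = L0) : g S0 = S0 := by
  unfold S0
  rw [map_sub, map_nsmul, h0, hg.2]

theorem cover0 (t : Fin 3 → DP 8) (ht : ∀ i, IsExc (t i)) (hs : t 0 + t 1 + t 2 = S0) :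
    ∃ j, ∃ g : DP 8 ≃ₗ[ℤ] DP 8, IsWeyl g ∧ g L0 = L0 ∧
      ∃ σ : Equiv.Perm (Fin 3), ∀ i, g (t (σ i)) = r0 j i := by
  let n : Fin 3 → ℤ := fun i => form (t i) L0
  let σ : Equiv.Perm (Fin 3) := Tuple.sort n
  have hmono : Monotone (n ∘ σ) := Tuple.monotone_sort n
  obtain ⟨g₁, hg₁, hfix₁, hdom₁⟩ := descent' (RR PE3 PA3) (RR_root _ _) (rho 8) (RR_rho _ _)
    IsExc (fun g hg x hx => isExc_map hg hx) 704 exc_rho_bound (t (σ 0)) (ht _)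
  set Q := g₁ (t (σ 0)) with hQ
  obtain ⟨g₂, hg₂, hfix₂, hdom₂⟩ := descent' (RR (PEQ Q) (PAQ Q)) (RR_root _ _) (rho 8)
    (RR_rho _ _) IsExc (fun g hg x hx => isExc_map hg hx) 704 exc_rho_bound (g₁ (t (σ 1)))
    (isExc_map hg₁ (ht _))
  have hg : IsWeyl (g₁.trans g₂) := isWeyl_trans hg₁ hg₂
  have hgL : (g₁.trans g₂) L0 = L0 := by
    rw [LinearEquiv.trans_apply, hfix₁ L0 L0_orth, hfix₂ L0 (PEQ_orth_L0 Q)]
  have hw0 : (g₁.trans g₂) (t (σ 0)) = Q := by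
    rw [LinearEquiv.trans_apply, ← hQ, hfix₂ Q (PEQ_orth_Q Q)]
  have hsum : (g₁.trans g₂) (t (σ 0)) + (g₁.trans g₂) (t (σ 1)) + (g₁.trans g₂) (t (σ 2)) = S0 := by
    rw [← map_add, ← map_add]
    have : t (σ 0) + t (σ 1) + t (σ 2) = t 0 + t 1 + t 2 := by
      have := Equiv.sum_comp σ t
      rw [Fin.sum_univ_three, Fin.sum_univ_three] at this
      exact this
    rw [this, hs, weyl_S0 hg hgL]
  obtain ⟨M0, hM0, e0⟩ := exc_mem_allExc _ (isExc_map hg (ht (σ 0)))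
  obtain ⟨M1, hM1, e1⟩ := exc_mem_allExc _ (isExc_map hg (ht (σ 1)))
  obtain ⟨M2, hM2, e2⟩ := exc_mem_allExc _ (isExc_map hg (ht (σ 2)))
  have hn : ∀ (M : List ℕ) (i : Fin 3), vecOfE M = (g₁.trans g₂) (t (σ i)) →
      (M.getD 8 0 : ℤ) - 1 = n (σ i) := by
    intro M i e
    rw [← ne_eq, e]
    conv_lhs => rw [← hgL]
    rw [hg.1, form_comm]
  have h01 : n (σ 0) ≤ n (σ 1) := hmono (by decide)
  have h12 : n (σ 1) ≤ n (σ 2) := hmono (by decide)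
  have d0 : Dom PE3 PA3 (vecOfE M0) := by
    rw [e0, hw0]; exact dom_of _ _ _ hdom₁
  have d1 : Dom (PEQ (vecOfE M0)) (PAQ (vecOfE M0)) (vecOfE M1) := by
    rw [e0, hw0, e1]; exact dom_of _ _ _ hdom₂
  have hs' : vecOfE M0 + vecOfE M1 + vecOfE M2 = S0 := by rw [e0, e1, e2]; exact hsum
  have l01 : M0.getD 8 0 ≤ M1.getD 8 0 := by
    have a := hn M0 0 e0
    have b := hn M1 1 e1
    have : (M0.getD 8 0 : ℤ) ≤ (M1.getD 8 0 : ℤ) := by linarith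
    exact_mod_cast this
  have l12 : M1.getD 8 0 ≤ M2.getD 8 0 := by
    have a := hn M1 1 e1
    have b := hn M2 2 e2
    have : (M1.getD 8 0 : ℤ) ≤ (M2.getD 8 0 : ℤ) := by linarith
    exact_mod_cast this
  obtain ⟨j, f0, f1, f2⟩ := c4e M0 hM0 d0 M1 hM1 d1 M2 hM2 hs' l01 l12
  refine ⟨j, g₁.trans g₂, hg, hgL, σ, ?_⟩
  intro i
  fin_cases i
  · exact e0.symm.trans f0
  · exact e1.symm.trans f1
  · exact e2.symm.trans f2

theorem main10 (L : DP 8) (hL : IsExc L) :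
    ∃ r : Fin 4 → (Fin 3 → DP 8),
      (∀ j, (∀ i, IsExc (r j i)) ∧ r j 0 + r j 1 + r j 2 = L - 2 • canon 8) ∧
      (∀ j j', (∃ g : DP 8 ≃ₗ[ℤ] DP 8, IsWeyl g ∧ g L = L ∧
        ∃ σ : Equiv.Perm (Fin 3), ∀ i, g (r j (σ i)) = r j' i) → j = j') ∧
      ∀ t : Fin 3 → DP 8, (∀ i, IsExc (t i)) → t 0 + t 1 + t 2 = L - 2 • canon 8 →
        ∃ j, ∃ g : DP 8 ≃ₗ[ℤ] DP 8, IsWeyl g ∧ g L = L ∧
          ∃ σ : Equiv.Perm (Fin 3), ∀ i, g (t (σ i)) = r j i := by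
  -- move `L` to `L0`
  obtain ⟨g₀, hg₀, -, hdom₀⟩ := descent (RR (PE1 (δ := 8)) PA1) (RR_root _ _) (rho 8) (RR_rho _ _)
    (canon 8) (fun α hα => (RR_root _ _ α hα).2) IsExc (fun g hg x hx => isExc_map hg hx) 704
    exc_rho_bound L hL
  have e0 : g₀ L = L0 := by
    obtain ⟨M, hM, eM⟩ := exc_mem_allExc _ (isExc_map hg₀ hL)
    rw [← eM]
    exact c1e M hM (by rw [eM]; exact dom_of _ _ _ hdom₀)
  have e0' : g₀.symm L0 = L := by rw [← e0, LinearEquiv.symm_apply_apply]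
  have hs₀ := isWeyl_symm hg₀
  refine ⟨fun j i => g₀.symm (r0 j i), ?_, ?_, ?_⟩
  · intro j
    refine ⟨fun i => isExc_map hs₀ (r0_exc j i), ?_⟩
    rw [← map_add, ← map_add, r0_sum, S0, map_sub, map_nsmul, e0', hs₀.2]
  · rintro j j' ⟨g, hg, hgL, σ, hσ⟩
    apply r0_inv
    have hval : ∀ j i, form (g₀.symm (r0 j i)) L = r0 j i 8 := by
      intro j i
      conv_lhs => rw [← e0']
      rw [hs₀.1, form_comm, form_L0]
    have hperm : ∀ i, r0 j' i 8 = r0 j (σ i) 8 := by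
      intro i
      have hσi : g (g₀.symm (r0 j (σ i))) = g₀.symm (r0 j' i) := hσ i
      rw [← hval j' i, ← hval j (σ i), ← hσi]
      conv_lhs => rw [← hgL]
      rw [hg.1]
    have : ∑ i, (r0 j' i 8) ^ 2 = ∑ i, (r0 j (σ i) 8) ^ 2 :=
      Finset.sum_congr rfl fun i _ => by rw [hperm i]
    rw [this]
    exact (Equiv.sum_comp σ (fun i => (r0 j i 8) ^ 2)).symm
  · intro t ht hsum
    have ht' : ∀ i, IsExc (g₀ (t i)) := fun i => isExc_map hg₀ (ht i)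
    have hsum' : g₀ (t 0) + g₀ (t 1) + g₀ (t 2) = S0 := by
      rw [← map_add, ← map_add, hsum, S0, map_sub, map_nsmul, e0, hg₀.2]
    obtain ⟨j, g', hg', hgL', σ, hσ⟩ := cover0 (fun i => g₀ (t i)) ht' hsum'
    refine ⟨j, g₀.trans (g'.trans g₀.symm), isWeyl_trans hg₀ (isWeyl_trans hg' hs₀), ?_, σ, ?_⟩
    · rw [LinearEquiv.trans_apply, LinearEquiv.trans_apply, e0, hgL', e0']
    · intro i
      rw [LinearEquiv.trans_apply, LinearEquiv.trans_apply]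
      exact congrArg g₀.symm (hσ i)

end Groth.Agent.H9.WD
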