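import Mathlib
import Groth.Agent.Lib.Helper1.CMQF
import Groth.Agent.Lib.Helper1.CMFlat
import Groth.Agent.Lib.Helper2.FinFlat
import Groth.Agent.Lib.Helper9.Misc.ValFinA
import Groth.Agent.Lib.Helper9.Misc.FinComp

set_option autoImplicit false
universe u v w

namespace Groth.Agent.H9.WQCop

open IsLocalRing

attribute [local instance] ULift.algebra'

/-- Miracle flatness across universes: a regular local ring finite and injective over a regular
local ring is a free module. -/
theorem free_of_regular_finite (R : Type u) [CommRing R] [IsRegularLocalRing R] (A : Type v)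
    [CommRing A] [IsRegularLocalRing A] [Algebra R A] [Module.Finite R A]
    (hinj : Function.Injective (algebraMap R A)) : Module.Free R A := by
  haveI : IsRegularLocalRing (ULift.{v} R) := IsRegularLocalRing.of_ringEquiv ULift.ringEquiv.symm
  haveI : IsRegularLocalRing (ULift.{u} A) := IsRegularLocalRing.of_ringEquiv ULift.ringEquiv.symm
  haveI : Algebra.IsIntegral R A := Algebra.IsIntegral.of_finite R A
  haveI : IsScalarTower R (ULift.{v} R) A := ⟨fun r x a => by
    rcases x with ⟨x⟩
    exact smul_assoc r x a⟩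
  haveI : Module.Finite (ULift.{v} R) A := Module.Finite.of_restrictScalars_finite R (ULift.{v} R) A
  haveI : Module.Finite (ULift.{v} R) (ULift.{u} A) :=
    Module.Finite.equiv (ULift.moduleEquiv.symm : A ≃ₗ[ULift.{v} R] ULift.{u} A)
  haveI : IsLocalHom (algebraMap (ULift.{v} R) (ULift.{u} A)) :=
    Groth.Agent.H2.FinFlat.isLocalHom_of_finite _ _
  have h0 := Groth.Agent.H2.FinFlat.ringKrullDim_quotient_map_maximalIdeal
    (ULift.{v} R) (ULift.{u} A)
  have hCM : LocCoh.IsCohenMacaulayLocalRing (ULift.{u} A) :=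
    Groth.Agent.H1.CMFlat.isCohenMacaulayLocalRing_of_isRegularLocalRing _
  have hdim : ringKrullDim (ULift.{u} A) = ringKrullDim (ULift.{v} R) := by
    rw [ringKrullDim_eq_of_ringEquiv (ULift.ringEquiv : ULift.{u} A ≃+* A),
      ringKrullDim_eq_of_ringEquiv (ULift.ringEquiv : ULift.{v} R ≃+* R)]
    exact le_antisymm (Groth.Agent.H9.FinComp.ringKrullDim_le_of_isIntegral R A)
      (Groth.Agent.H9.ValFin.ringKrullDim_le_of_integral_injective hinj)
  have hflat' : (algebraMap (ULift.{v} R) (ULift.{u} A)).Flat :=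
    (Groth.Agent.H1.CMQF.flat_iff_cm_of_fiber_dim_zero _ h0).mpr ⟨hCM, hdim⟩
  have hflat1 : Module.Flat (ULift.{v} R) (ULift.{u} A) := RingHom.flat_algebraMap_iff.mp hflat'
  have hflat2 : Module.Flat (ULift.{v} R) A := Module.Flat.ulift_right_iff.mp hflat1
  have hflat3 : Module.Flat R A := Module.Flat.ulift_left_iff.mp hflat2
  exact Module.free_of_flat_of_isLocalRing

end Groth.Agent.H9.WQCop
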