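import Mathlib

set_option autoImplicit false
universe u v w

namespace Groth.Agent.H9.WQCop

open IsLocalRing TensorProduct

/-- Over a local ring, if `M ⊗ N` is free with `M`, `N` finitely generated and `N ≠ 0`, then `M`
is free. -/
theorem free_of_tensorProduct_free (R : Type u) [CommRing R] [IsLocalRing R] (M : Type v)
    (N : Type w) [AddCommGroup M] [Module R M] [Module.Finite R M] [AddCommGroup N] [Module R N]
    [Module.Finite R N] [Nontrivial N] [Module.Free R (M ⊗[R] N)] : Module.Free R M := by
  classical
  have hsurjk : Function.Surjective (algebraMap R (ResidueField R)) :=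
    IsLocalRing.residue_surjective
  -- generators of M
  obtain ⟨bM, -⟩ : ∃ bM : Module.Basis
      (Fin (Module.finrank (ResidueField R) (ResidueField R ⊗[R] M)))
      (ResidueField R) (ResidueField R ⊗[R] M), True :=
    ⟨Module.finBasis _ _, trivial⟩
  choose m hm using fun i => TensorProduct.mk_surjective R M (ResidueField R) hsurjk (bM i)
  have hspanM : Submodule.span R (Set.range m) = ⊤ :=
    IsLocalRing.span_eq_top_of_tmul_eq_basis m bM hm
  obtain ⟨bN, -⟩ : ∃ bN : Module.Basis
      (Fin (Module.finrank (ResidueField R) (ResidueField R ⊗[R] N)))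
      (ResidueField R) (ResidueField R ⊗[R] N), True :=
    ⟨Module.finBasis _ _, trivial⟩
  choose n hn using fun i => TensorProduct.mk_surjective R N (ResidueField R) hsurjk (bN i)
  have hspanN : Submodule.span R (Set.range n) = ⊤ :=
    IsLocalRing.span_eq_top_of_tmul_eq_basis n bN hn
  have hf : Function.Surjective (Fintype.linearCombination R m) :=
    LinearMap.range_eq_top.mp (by rw [Fintype.range_linearCombination, hspanM])
  have hg : Function.Surjective (Fintype.linearCombination R n) :=
    LinearMap.range_eq_top.mp (by rw [Fintype.range_linearCombination, hspanN])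
  have hT : Function.Surjective
      (TensorProduct.map (Fintype.linearCombination R m) (Fintype.linearCombination R n)) :=
    TensorProduct.map_surjective hf hg
  -- ranks
  have hrank : Module.finrank R
      ((Fin (Module.finrank (ResidueField R) (ResidueField R ⊗[R] M)) → R) ⊗[R]
        (Fin (Module.finrank (ResidueField R) (ResidueField R ⊗[R] N)) → R)) =
      Module.finrank R (M ⊗[R] N) := by
    rw [Module.finrank_tensorProduct, Module.finrank_fin_fun, Module.finrank_fin_fun,
      ← Module.finrank_baseChange (R := ResidueField R) (S := R) (M' := M ⊗[R] N),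
      LinearEquiv.finrank_eq
        (TensorProduct.AlgebraTensorModule.distribBaseChange R (ResidueField R) M N),
      Module.finrank_tensorProduct (R := ResidueField R) (S := ResidueField R)
        (M := ResidueField R ⊗[R] M) (M' := ResidueField R ⊗[R] N)]
  obtain ⟨e⟩ : Nonempty ((M ⊗[R] N) ≃ₗ[R]
      ((Fin (Module.finrank (ResidueField R) (ResidueField R ⊗[R] M)) → R) ⊗[R]
        (Fin (Module.finrank (ResidueField R) (ResidueField R ⊗[R] N)) → R))) :=
    ⟨LinearEquiv.ofFinrankEq _ _ hrank.symm⟩
  have hTinj : Function.Injective
      (TensorProduct.map (Fintype.linearCombination R m) (Fintype.linearCombination R n)) := by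
    have h1 : Function.Injective (e.toLinearMap ∘ₗ
        (TensorProduct.map (Fintype.linearCombination R m) (Fintype.linearCombination R n))) :=
      OrzechProperty.injective_of_surjective_endomorphism _ (e.surjective.comp hT)
    exact Function.Injective.of_comp h1
  -- an index for N
  have hb : Nonempty (Fin (Module.finrank (ResidueField R) (ResidueField R ⊗[R] N))) := by
    by_contra hne
    rw [not_nonempty_iff] at hne
    have h1 : (⊤ : Submodule R N) = ⊥ := by
      rw [← hspanN, Set.range_eq_empty, Submodule.span_empty]
    haveI : Subsingleton (Submodule R N) := subsingleton_of_bot_eq_top h1.symm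
    exact not_subsingleton N ((Submodule.subsingleton_iff R).mp inferInstance)
  obtain ⟨j₀⟩ := hb
  have hfinj : Function.Injective (Fintype.linearCombination R m) := by
    rw [← LinearMap.ker_eq_bot, LinearMap.ker_eq_bot']
    intro x hx
    have h1 : (TensorProduct.map (Fintype.linearCombination R m)
        (Fintype.linearCombination R n)) (x ⊗ₜ[R] Pi.single j₀ 1) = 0 := by
      rw [TensorProduct.map_tmul, hx, TensorProduct.zero_tmul]
    have h2 : x ⊗ₜ[R] (Pi.single j₀ (1 : R) :
        Fin (Module.finrank (ResidueField R) (ResidueField R ⊗[R] N)) → R) = 0 :=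
      hTinj (by rw [h1, map_zero])
    have h3 := congrArg ((TensorProduct.rid R _).toLinearMap ∘ₗ
      LinearMap.lTensor _ (LinearMap.proj (R := R)
        (φ := fun _ : Fin (Module.finrank (ResidueField R) (ResidueField R ⊗[R] N)) => R)
        j₀)) h2
    simpa using h3
  exact Module.Free.of_equiv (LinearEquiv.ofBijective _ ⟨hfinj, hf⟩)

end Groth.Agent.H9.WQCop
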