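import Mathlib

set_option autoImplicit false
universe u v w

namespace Groth.Agent.H9.WQCop

open TensorProduct

/-- If `A` is the coproduct of the subalgebras `S_j`, then `A` is the tensor product of `S_i` and
the subalgebra generated by the other `S_j`. -/
theorem productMap_bijective_of_coprod (R : Type u) (A : Type v) [CommRing R] [CommRing A]
    [Algebra R A] {n : ℕ} (Sj : Fin n → Subalgebra R A) (i : Fin n)
    (hcoprod : ∀ (C : Type (max u v)) [CommRing C] [Algebra R C] (φ : ∀ j : Fin n, Sj j →ₐ[R] C),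
      ∃! ψ : A →ₐ[R] C, ∀ j (x : Sj j), ψ x = φ j x) :
    Function.Bijective (Algebra.TensorProduct.productMap (Sj i).val
      (Algebra.adjoin R (⋃ j : {j : Fin n // j ≠ i}, (Sj j.1 : Set A))).val) := by
  classical
  have hle : ∀ j, j ≠ i → Sj j ≤ Algebra.adjoin R (⋃ j : {j : Fin n // j ≠ i}, (Sj j.1 : Set A)) :=
    fun j h x hx => Algebra.subset_adjoin (Set.mem_iUnion.mpr ⟨⟨j, h⟩, hx⟩)
  obtain ⟨φ, hφi, hφj⟩ : ∃ φ : ∀ j : Fin n, Sj j →ₐ[R]
      ULift.{u} ((Sj i) ⊗[R] (Algebra.adjoin R (⋃ j : {j : Fin n // j ≠ i}, (Sj j.1 : Set A)))),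
      (∀ b : Sj i, (φ i b).down = b ⊗ₜ[R] 1) ∧
      (∀ j (h : j ≠ i) (b : Sj j), (φ j b).down = 1 ⊗ₜ[R] ⟨b, hle j h b.2⟩) := by
    refine ⟨fun j => (ULift.algEquiv.symm : _ ≃ₐ[R] ULift.{u} ((Sj i) ⊗[R]
        (Algebra.adjoin R (⋃ j : {j : Fin n // j ≠ i}, (Sj j.1 : Set A))))).toAlgHom.comp
      (if h : j = i then Algebra.TensorProduct.includeLeft.comp
          (Subalgebra.inclusion (show Sj j ≤ Sj i by rw [h]))
        else Algebra.TensorProduct.includeRight.comp (Subalgebra.inclusion (hle j h))), ?_, ?_⟩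
    · intro b
      simp only [dif_pos rfl]
      rfl
    · intro j h b
      simp only [dif_neg h]
      rfl
  obtain ⟨ψ, hψ, -⟩ := hcoprod _ φ
  obtain ⟨ψ', hψ'⟩ : ∃ ψ' : A →ₐ[R] (Sj i) ⊗[R]
      (Algebra.adjoin R (⋃ j : {j : Fin n // j ≠ i}, (Sj j.1 : Set A))),
      ∀ a, ψ' a = (ψ a).down :=
    ⟨(ULift.algEquiv : ULift.{u} _ ≃ₐ[R] _).toAlgHom.comp ψ, fun a => rfl⟩
  have hψ'i : ∀ b : Sj i, ψ' b = b ⊗ₜ[R] 1 := fun b => by rw [hψ', hψ, hφi]
  have hψ'j : ∀ j (h : j ≠ i) (b : Sj j), ψ' b = 1 ⊗ₜ[R] ⟨b, hle j h b.2⟩ :=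
    fun j h b => by rw [hψ', hψ, hφj j h]
  have hψ'adj : ∀ x (hx : x ∈ Algebra.adjoin R (⋃ j : {j : Fin n // j ≠ i}, (Sj j.1 : Set A))),
      ψ' x = 1 ⊗ₜ[R] ⟨x, hx⟩ := by
    intro x hx
    induction hx using Algebra.adjoin_induction with
    | mem x hx =>
      obtain ⟨⟨j, hj⟩, hxj⟩ := Set.mem_iUnion.mp hx
      exact hψ'j j hj ⟨x, hxj⟩
    | algebraMap r =>
      rw [AlgHom.commutes, Algebra.TensorProduct.algebraMap_apply,
        Algebra.algebraMap_eq_smul_one, TensorProduct.smul_tmul]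
      congr 1
      apply Subtype.ext
      show r • (1 : A) = algebraMap R A r
      exact (Algebra.algebraMap_eq_smul_one (A := A) r).symm
    | add x y hx hy ihx ihy =>
      rw [map_add, ihx, ihy, ← TensorProduct.tmul_add]
      rfl
    | mul x y hx hy ihx ihy =>
      rw [map_mul, ihx, ihy, Algebra.TensorProduct.tmul_mul_tmul, one_mul]
      rfl
  -- μ ∘ ψ' = id
  have hμψ : ∀ a : A, (Algebra.TensorProduct.productMap (Sj i).val
      (Algebra.adjoin R (⋃ j : {j : Fin n // j ≠ i}, (Sj j.1 : Set A))).val) (ψ' a) = a := by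
    obtain ⟨ψ₂, -, huniq⟩ := hcoprod (ULift.{u} A)
      (fun j => (ULift.algEquiv.symm : A ≃ₐ[R] ULift.{u} A).toAlgHom.comp (Sj j).val)
    have h1 := huniq ((ULift.algEquiv.symm : A ≃ₐ[R] ULift.{u} A).toAlgHom.comp
      ((Algebra.TensorProduct.productMap (Sj i).val
        (Algebra.adjoin R (⋃ j : {j : Fin n // j ≠ i}, (Sj j.1 : Set A))).val).comp ψ')) (by
      intro j x
      have hx : (Algebra.TensorProduct.productMap (Sj i).val
          (Algebra.adjoin R (⋃ j : {j : Fin n // j ≠ i}, (Sj j.1 : Set A))).val) (ψ' x) =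
          (x : A) := by
        by_cases h : j = i
        · subst h
          rw [hψ'i, Algebra.TensorProduct.productMap_apply_tmul, map_one, mul_one]
          rfl
        · rw [hψ'j j h, Algebra.TensorProduct.productMap_apply_tmul, map_one, one_mul]
          rfl
      show (ULift.algEquiv.symm : A ≃ₐ[R] ULift.{u} A) ((Algebra.TensorProduct.productMap
        (Sj i).val (Algebra.adjoin R (⋃ j : {j : Fin n // j ≠ i}, (Sj j.1 : Set A))).val)
          (ψ' x)) = (ULift.algEquiv.symm : A ≃ₐ[R] ULift.{u} A) (x : A)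
      rw [hx])
    have h2 := huniq (ULift.algEquiv.symm : A ≃ₐ[R] ULift.{u} A).toAlgHom (by
      intro j x
      rfl)
    intro a
    have h3 := congrArg (fun g : A →ₐ[R] ULift.{u} A => (g a).down) (h1.trans h2.symm)
    exact h3
  -- ψ' ∘ μ = id
  have hψμ : ∀ t : (Sj i) ⊗[R] (Algebra.adjoin R (⋃ j : {j : Fin n // j ≠ i}, (Sj j.1 : Set A))),
      ψ' ((Algebra.TensorProduct.productMap (Sj i).val
        (Algebra.adjoin R (⋃ j : {j : Fin n // j ≠ i}, (Sj j.1 : Set A))).val) t) = t := by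
    intro t
    induction t using TensorProduct.induction_on with
    | zero => rw [map_zero, map_zero]
    | tmul b b' =>
      rw [Algebra.TensorProduct.productMap_apply_tmul, map_mul]
      have h1 : ψ' ((Sj i).val b) = b ⊗ₜ[R] 1 := hψ'i b
      have h2 : ψ' ((Algebra.adjoin R (⋃ j : {j : Fin n // j ≠ i}, (Sj j.1 : Set A))).val b') =
          1 ⊗ₜ[R] b' := hψ'adj b'.1 b'.2
      rw [h1, h2, Algebra.TensorProduct.tmul_mul_tmul, mul_one, one_mul]
    | add x y hx hy => rw [map_add, map_add, hx, hy]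
  exact ⟨Function.LeftInverse.injective hψμ, Function.RightInverse.surjective hμψ⟩

end Groth.Agent.H9.WQCop
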