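import Mathlib
import Groth.Agent.Lib.Helper6.InertiaH2
import Groth.Agent.Lib.Helper6.QFNorm2

set_option autoImplicit false
universe u v w

namespace Groth.Agent.H9.WQIn

open IsLocalRing Groth.Agent.H6

section fixed

variable (R : Type u) (A : Type v) (G : Type w) [CommRing R] [CommRing A] [Algebra R A]
  [Group G] [MulSemiringAction G A] [SMulCommClass G R A]

theorem isUnit_fixed_iff (c : FixedPoints.subalgebra R A G) : IsUnit c ↔ IsUnit (c : A) := by
  constructor
  · intro h
    exact h.map (FixedPoints.subalgebra R A G).val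
  · intro h
    obtain ⟨b, hb⟩ := h.exists_right_inv
    have hbfix : ∀ g : G, g • b = b := by
      intro g
      have hcg : g • (c : A) = c := c.2 g
      have h1 : (c : A) * (g • b) = 1 := by
        have h2 : g • ((c : A) * b) = g • (1 : A) := congrArg (g • ·) hb
        rwa [smul_mul', smul_one, hcg] at h2
      calc g • b = ((c : A) * b) * (g • b) := by rw [hb, one_mul]
        _ = b * ((c : A) * (g • b)) := by ring
        _ = b := by rw [h1, mul_one]
    exact isUnit_iff_exists_inv.mpr ⟨⟨b, hbfix⟩, Subtype.ext hb⟩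

theorem isLocalRing_fixed [IsDomain A] [IsLocalRing A] :
    IsLocalRing (FixedPoints.subalgebra R A G) := by
  apply IsLocalRing.of_nonunits_add
  intro a b ha hb
  rw [mem_nonunits_iff, isUnit_fixed_iff] at ha hb ⊢
  have ha' : (a : A) ∈ maximalIdeal A := (mem_maximalIdeal _).mpr ha
  have hb' : (b : A) ∈ maximalIdeal A := (mem_maximalIdeal _).mpr hb
  exact (mem_maximalIdeal _).mp ((maximalIdeal A).add_mem ha' hb')

theorem isIntegrallyClosed_fixed [IsDomain A] [IsIntegrallyClosed A] :
    IsIntegrallyClosed (FixedPoints.subalgebra R A G) := by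
  rw [isIntegrallyClosed_iff (FractionRing (FixedPoints.subalgebra R A G))]
  intro x hx
  have hinjCL : Function.Injective
      (Algebra.ofId (FixedPoints.subalgebra R A G) (FractionRing A)) := by
    intro a b hab
    have h1 : algebraMap A (FractionRing A) (a : A) = algebraMap A (FractionRing A) (b : A) := hab
    exact Subtype.ext (IsFractionRing.injective A (FractionRing A) h1)
  obtain ⟨φ, -⟩ : ∃ φ : FractionRing (FixedPoints.subalgebra R A G)
      →ₐ[FixedPoints.subalgebra R A G] FractionRing A, True :=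
    ⟨IsFractionRing.liftAlgHom hinjCL, trivial⟩
  have e : ∀ c : FixedPoints.subalgebra R A G,
      algebraMap (FixedPoints.subalgebra R A G) (FractionRing A) c =
        algebraMap A (FractionRing A) (c : A) := fun c => rfl
  obtain ⟨c₁, c₂, hc₂, rfl⟩ := IsFractionRing.div_surjective (FixedPoints.subalgebra R A G) x
  have hc₂0 : c₂ ≠ 0 := nonZeroDivisors.ne_zero hc₂
  have hc₂A : (c₂ : A) ≠ 0 := fun h => hc₂0 (Subtype.ext h)
  have hφ : IsIntegral A (φ (algebraMap _ _ c₁ / algebraMap _ _ c₂)) := (hx.map φ).tower_top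
  obtain ⟨a, ha⟩ := IsIntegrallyClosed.isIntegral_iff.mp hφ
  rw [map_div₀, AlgHom.commutes, AlgHom.commutes, e, e] at ha
  have hL : algebraMap A (FractionRing A) (c₂ : A) ≠ 0 := fun h =>
    hc₂A (IsFractionRing.injective A (FractionRing A) (h.trans (map_zero _).symm))
  have hac : a * (c₂ : A) = c₁ := by
    apply IsFractionRing.injective A (FractionRing A)
    rw [map_mul, ha, div_mul_cancel₀ _ hL]
  have hafix : ∀ g : G, g • a = a := by
    intro g
    have hc1g : g • (c₁ : A) = c₁ := c₁.2 g
    have hc2g : g • (c₂ : A) = c₂ := c₂.2 g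
    have h1 : g • a * (c₂ : A) = a * c₂ := by
      have h2 : g • (a * (c₂ : A)) = a * c₂ := by rw [hac]; exact hc1g
      rwa [smul_mul', hc2g] at h2
    exact mul_right_cancel₀ hc₂A h1
  refine ⟨⟨a, hafix⟩, ?_⟩
  have hK : algebraMap (FixedPoints.subalgebra R A G)
      (FractionRing (FixedPoints.subalgebra R A G)) c₂ ≠ 0 := fun h =>
    hc₂0 (IsFractionRing.injective _ _ (h.trans (map_zero _).symm))
  rw [eq_div_iff hK, ← map_mul]
  congr 1
  exact Subtype.ext hac

end fixed

theorem exists_height_one_over {C : Type u} {A : Type v} [CommRing C] [IsDomain C] [CommRing A]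
    [IsDomain A] [Algebra C A] [Algebra.IsIntegral C A]
    (hinj : Function.Injective (algebraMap C A))
    (Q : Ideal C) [hQ : Q.IsPrime] (hh : Q.height = 1) :
    ∃ P : Ideal A, P.IsPrime ∧ P.comap (algebraMap C A) = Q ∧ P.height = 1 := by
  obtain ⟨P, -, hPp, hPQ⟩ := Ideal.exists_ideal_over_prime_of_isIntegral Q (⊥ : Ideal A)
    (by rw [Ideal.comap_bot_of_injective _ hinj]; exact bot_le)
  haveI := hPp
  refine ⟨P, hPp, hPQ, le_antisymm ?_ ?_⟩
  · have h1 : P.height ≤ ((1 : ℕ) : ℕ∞) := by
      rw [Ideal.height_le_iff]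
      intro P' hP' hlt
      haveI := hP'
      have hP'bot : P' = ⊥ := by
        by_contra hne
        obtain ⟨x, hxP, hxP'⟩ := SetLike.exists_of_lt hlt
        have hlt' : P'.comap (algebraMap C A) < P.comap (algebraMap C A) :=
          Ideal.comap_lt_comap_of_integral_mem_sdiff hlt.le ⟨hxP, hxP'⟩
            (Algebra.IsIntegral.isIntegral x)
        rw [hPQ] at hlt'
        have hQ'ne : P'.comap (algebraMap C A) ≠ ⊥ := fun h =>
          hne (Ideal.eq_bot_of_comap_eq_bot h)
        have hQ1 : Q.height ≤ ((1 : ℕ) : ℕ∞) := by rw [hh]; simp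
        have h2 := (Ideal.height_le_iff.mp hQ1) _ inferInstance hlt'
        rw [Nat.cast_one, ENat.lt_one_iff_eq_zero, Ideal.height_eq_zero_iff,
          IsDomain.minimalPrimes_eq_singleton_bot] at h2
        exact hQ'ne h2
      rw [hP'bot, Ideal.height_bot]
      simp
    simpa using h1
  · apply QFNorm.one_le_height_of_ne_bot P
    rintro rfl
    rw [Ideal.comap_bot_of_injective _ hinj] at hPQ
    rw [← hPQ, Ideal.height_bot] at hh
    exact zero_ne_one hh

end Groth.Agent.H9.WQIn
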