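import Mathlib
import Groth.Agent.Lib.Helper7.Reg1
import Groth.Agent.Lib.Helper1.RegLoc
import Groth.Agent.Lib.Helper2.FinFlat
import Groth.Agent.Lib.Helper9.Misc.WQInA
import Groth.Agent.Lib.Helper9.Misc.WQCopA
import Groth.Agent.Lib.Helper9.Misc.WQCopB
import Groth.Agent.Lib.Helper9.Misc.WQCopC

set_option autoImplicit false
universe u v w

namespace Groth.Agent.H9.WQCop

open TensorProduct IsLocalRing

theorem core (R : Type u) [CommRing R] [IsRegularLocalRing R] (A : Type v) [CommRing A]
    [IsRegularLocalRing A] [Algebra R A] [Module.Finite R A]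
    (hinj : Function.Injective (algebraMap R A))
    {n : ℕ} (Sj : Fin n → Subalgebra R A) (i : Fin n) [IsLocalRing (Sj i)]
    (hcoprod : ∀ (C : Type (max u v)) [CommRing C] [Algebra R C] (φ : ∀ j : Fin n, Sj j →ₐ[R] C),
      ∃! ψ : A →ₐ[R] C, ∀ j (x : Sj j), ψ x = φ j x) :
    Module.Free R (Sj i) ∧ IsRegularLocalRing (Sj i) := by
  classical
  haveI : IsDomain A := Groth.Agent.H7.Reg.isDomain A
  haveI : IsNoetherian R A := isNoetherian_of_isNoetherianRing_of_finite R A
  haveI hfreeA : Module.Free R A := free_of_regular_finite R A hinj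
  have hbij := productMap_bijective_of_coprod R A Sj i hcoprod
  obtain ⟨M', hM'⟩ : ∃ M' : Subalgebra R A,
      M' = Algebra.adjoin R (⋃ j : {j : Fin n // j ≠ i}, (Sj j.1 : Set A)) := ⟨_, rfl⟩
  rw [← hM'] at hbij
  haveI : Module.Finite R (Sj i) :=
    Module.Finite.of_injective (Sj i).val.toLinearMap Subtype.val_injective
  haveI : Module.Finite R M' :=
    Module.Finite.of_injective M'.val.toLinearMap Subtype.val_injective
  haveI : Nontrivial M' := ⟨⟨0, 1, fun h => zero_ne_one (α := A) (congrArg Subtype.val h)⟩⟩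
  haveI : Nontrivial (Sj i) := ⟨⟨0, 1, fun h => zero_ne_one (α := A) (congrArg Subtype.val h)⟩⟩
  obtain ⟨e⟩ : Nonempty (((Sj i) ⊗[R] M') ≃ₗ[R] A) :=
    ⟨LinearEquiv.ofBijective
      (Algebra.TensorProduct.productMap (Sj i).val M'.val).toLinearMap hbij⟩
  haveI : Module.Free R ((Sj i) ⊗[R] M') := Module.Free.of_equiv e.symm
  haveI : Module.Free R (M' ⊗[R] (Sj i)) := Module.Free.of_equiv (TensorProduct.comm R (Sj i) M')
  haveI hfreeB : Module.Free R (Sj i) := free_of_tensorProduct_free R (Sj i) M'
  haveI hfreeM' : Module.Free R M' := free_of_tensorProduct_free R M' (Sj i)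
  refine ⟨hfreeB, ?_⟩
  obtain ⟨μB, hμB⟩ : ∃ μB : ((Sj i) ⊗[R] M') →ₗ[Sj i] A,
      ∀ t, μB t = Algebra.TensorProduct.productMap (Sj i).val M'.val t :=
    ⟨{ toFun := fun t => Algebra.TensorProduct.productMap (Sj i).val M'.val t
       map_add' := fun x y => map_add _ x y
       map_smul' := fun b t => by
         show Algebra.TensorProduct.productMap (Sj i).val M'.val (b • t) =
           b • Algebra.TensorProduct.productMap (Sj i).val M'.val t
         induction t using TensorProduct.induction_on with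
         | zero => rw [smul_zero, map_zero, smul_zero]
         | tmul x y =>
           rw [TensorProduct.smul_tmul', Algebra.TensorProduct.productMap_apply_tmul,
             Algebra.TensorProduct.productMap_apply_tmul, smul_eq_mul, map_mul, mul_assoc]
           exact (Algebra.smul_def b _).symm
         | add x y hx hy => rw [smul_add, map_add, hx, hy, map_add, smul_add] }, fun t => rfl⟩
  obtain ⟨eB⟩ : Nonempty (((Sj i) ⊗[R] M') ≃ₗ[Sj i] A) :=
    ⟨LinearEquiv.ofBijective μB (by
      have h1 : (⇑μB) = ⇑(Algebra.TensorProduct.productMap (Sj i).val M'.val) := funext hμB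
      rw [h1]; exact hbij)⟩
  haveI : Module.Free (Sj i) ((Sj i) ⊗[R] M') := inferInstance
  haveI : Module.Free (Sj i) A := Module.Free.of_equiv eB
  haveI : Module.Flat (Sj i) A := inferInstance
  haveI : IsNoetherianRing (Sj i) := IsNoetherianRing.of_finite R (Sj i)
  haveI : Module.Finite (Sj i) A := Module.Finite.of_restrictScalars_finite R (Sj i) A
  haveI : IsLocalHom (algebraMap (Sj i) A) :=
    Groth.Agent.H2.FinFlat.isLocalHom_of_finite (Sj i) A
  exact Groth.Agent.H1.Reg.isRegularLocalRing_of_flat (Sj i) A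

theorem main (R : Type u) [CommRing R] [IsRegularLocalRing R]
    (A : Type v) [CommRing A] [IsRegularLocalRing A]
    [Algebra R A] [Module.Finite R A] (hinj : Function.Injective (algebraMap R A))
    (H : Type w) [Group H] [MulSemiringAction H A] [SMulCommClass H R A]
    (n : ℕ) (Gi : Fin n → Subgroup H)
    (hcoprod : ∀ (C : Type (max u v)) [CommRing C] [Algebra R C]
      (φ : ∀ i : Fin n,
        FixedPoints.subalgebra R A ↥(⨆ j ∈ (Finset.univ.erase i : Finset (Fin n)), Gi j : Subgroup H) →ₐ[R] C),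
      ∃! ψ : A →ₐ[R] C, ∀ i
        (x : FixedPoints.subalgebra R A ↥(⨆ j ∈ (Finset.univ.erase i : Finset (Fin n)), Gi j : Subgroup H)),
        ψ x = φ i x) :
    ∀ i, Module.Free R
        (FixedPoints.subalgebra R A ↥(⨆ j ∈ (Finset.univ.erase i : Finset (Fin n)), Gi j : Subgroup H)) ∧
      IsRegularLocalRing
        (FixedPoints.subalgebra R A ↥(⨆ j ∈ (Finset.univ.erase i : Finset (Fin n)), Gi j : Subgroup H)) := by
  classical
  intro i
  haveI : IsDomain A := Groth.Agent.H7.Reg.isDomain A
  haveI : IsLocalRing (FixedPoints.subalgebra R A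
      ↥(⨆ j ∈ (Finset.univ.erase i : Finset (Fin n)), Gi j : Subgroup H)) :=
    Groth.Agent.H9.WQIn.isLocalRing_fixed R A _
  exact core R A hinj (fun i => FixedPoints.subalgebra R A
    ↥(⨆ j ∈ (Finset.univ.erase i : Finset (Fin n)), Gi j : Subgroup H)) i hcoprod

end Groth.Agent.H9.WQCop
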