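import Mathlib
import Groth.Agent.Lib.Helper6.InertiaH2
import Groth.Agent.Lib.Helper6.QFNorm2
import Groth.Agent.Lib.Helper9.Misc.WQInA

set_option autoImplicit false
universe u v w

namespace Groth.Agent.H9.WQIn

open IsLocalRing Groth.Agent.H6

theorem core_aux (R A : Type v) [CommRing R] [IsRegularLocalRing R] [CommRing A] [IsDomain A]
    [IsIntegrallyClosed A] [IsLocalRing A] [Algebra R A] [Module.Finite R A]
    (hinj : Function.Injective (algebraMap R A))
    (hres : Function.Surjective (IsLocalRing.residue A ∘ algebraMap R A))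
    (H : Type w) [Group H] [Finite H] [MulSemiringAction H A] [SMulCommClass H R A]
    [FaithfulSMul H A]
    (hfix : ∀ a : A, (∀ h : H, h • a = a) → a ∈ Set.range (algebraMap R A))
    (H' : Subgroup H)
    (hle : ∀ P : Ideal A, P.IsPrime → P.height = 1 → P.inertia H ≤ H') : H' = ⊤ := by
  classical
  haveI : IsDomain R := Function.Injective.isDomain (algebraMap R A) hinj
  haveI hInv : Algebra.IsInvariant R A H := ⟨hfix⟩
  have hsurj : Function.Surjective (algebraMap R (FixedPoints.subalgebra R A H')) := by
    by_cases hm : maximalIdeal R = ⊥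
    · have hRf : IsField R := IsLocalRing.isField_iff_maximalIdeal_eq.mpr hm
      have hAf : IsField A := isField_of_isIntegral_of_isField' hRf
      have hmA : maximalIdeal A = ⊥ := IsLocalRing.isField_iff_maximalIdeal_eq.mp hAf
      intro c
      obtain ⟨r, hr⟩ := hres (IsLocalRing.residue A (c : A))
      have hr' : IsLocalRing.residue A (algebraMap R A r) = IsLocalRing.residue A (c : A) := hr
      have h1 : algebraMap R A r - (c : A) ∈ maximalIdeal A := Ideal.Quotient.eq.mp hr'
      rw [hmA, Ideal.mem_bot, sub_eq_zero] at h1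
      exact ⟨r, Subtype.ext h1⟩
    · have h1R : 1 ≤ ringKrullDim R := by
        have h1 : (1 : ℕ∞) ≤ (maximalIdeal R).height := QFNorm.one_le_height_of_ne_bot _ hm
        rw [← IsLocalRing.maximalIdeal_height_eq_ringKrullDim]
        exact_mod_cast h1
      haveI : IsNoetherian R A := isNoetherian_of_isNoetherianRing_of_finite R A
      haveI hfinC : Module.Finite R (FixedPoints.subalgebra R A H') :=
        Module.Finite.of_injective (FixedPoints.subalgebra R A H').val.toLinearMap
          (fun x y hxy => Subtype.ext hxy)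
      haveI : Module.Finite (FixedPoints.subalgebra R A H') A :=
        Module.Finite.of_restrictScalars_finite R (FixedPoints.subalgebra R A H') A
      haveI : IsIntegrallyClosed (FixedPoints.subalgebra R A H') := isIntegrallyClosed_fixed R A H'
      haveI : IsLocalRing (FixedPoints.subalgebra R A H') := isLocalRing_fixed R A H'
      haveI : Algebra.IsIntegral (FixedPoints.subalgebra R A H') A := Algebra.IsIntegral.of_finite _ _
      have hinjRC : Function.Injective (algebraMap R (FixedPoints.subalgebra R A H')) := by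
        intro x y hxy
        exact hinj (congrArg Subtype.val hxy)
      haveI hloc : IsLocalHom (algebraMap R (FixedPoints.subalgebra R A H')) := by
        constructor
        intro r hr
        by_contra hnr
        have hrm : r ∈ maximalIdeal R := (mem_maximalIdeal r).mpr hnr
        obtain ⟨Q, hQmax, hQ⟩ := Ideal.exists_ideal_over_maximal_of_isIntegral
          (S := FixedPoints.subalgebra R A H') (maximalIdeal R)
          (by rw [(RingHom.injective_iff_ker_eq_bot _).mp hinjRC]; exact bot_le)
        have hQeq : Q = maximalIdeal (FixedPoints.subalgebra R A H') :=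
          IsLocalRing.eq_maximalIdeal hQmax
        have hmem : r ∈ Q.comap (algebraMap R (FixedPoints.subalgebra R A H')) := by
          rw [hQ]; exact hrm
        rw [Ideal.mem_comap, hQeq] at hmem
        exact (mem_nonunits_iff.mp ((mem_maximalIdeal _).mp hmem)) hr
      have hunr : ∀ (Q : Ideal (FixedPoints.subalgebra R A H')) [Q.IsPrime], Q.height = 1 →
          Algebra.IsUnramifiedAt R Q := by
        intro Q hQ hh
        obtain ⟨P, hP, hPQ, hPh⟩ := exists_height_one_over
          (C := FixedPoints.subalgebra R A H') (A := A) (fun x y hxy => Subtype.ext hxy) Q hh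
        haveI := hP
        obtain ⟨g, hgP, hEt⟩ := InertiaH.exists_etale_fixedPoints R hinj P H' (hle P hP hPh)
        haveI := hEt
        have hgQ : g ∉ Q := by
          intro hg
          apply hgP
          rw [← hPQ] at hg
          exact hg
        have hsub := (Algebra.basicOpen_subset_unramifiedLocus_iff (R := R) (f := g)).mpr
          inferInstance
        have hmem : (⟨Q, hQ⟩ : PrimeSpectrum (FixedPoints.subalgebra R A H')) ∈
            PrimeSpectrum.basicOpen g := (PrimeSpectrum.mem_basicOpen _ _).mpr hgQ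
        exact hsub (SetLike.mem_coe.mpr hmem)
      haveI hEtC : Algebra.Etale R (FixedPoints.subalgebra R A H') :=
        QFNorm.etale_of_normal R (FixedPoints.subalgebra R A H') h1R hinjRC hunr
      have hmap : (maximalIdeal R).map (algebraMap R (FixedPoints.subalgebra R A H')) =
          maximalIdeal (FixedPoints.subalgebra R A H') :=
        Algebra.FormallyUnramified.map_maximalIdeal
      have hNak : (⊤ : Submodule R (FixedPoints.subalgebra R A H')) ≤
          LinearMap.range (Algebra.linearMap R (FixedPoints.subalgebra R A H')) := by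
        apply Submodule.le_of_le_smul_of_le_jacobson_bot (I := maximalIdeal R)
          Module.Finite.fg_top (IsLocalRing.jacobson_eq_maximalIdeal ⊥ bot_ne_top).ge
        intro c _
        obtain ⟨r, hr⟩ := hres (IsLocalRing.residue A (c : A))
        have hr' : IsLocalRing.residue A (algebraMap R A r) = IsLocalRing.residue A (c : A) := hr
        have h1 : algebraMap R A r - (c : A) ∈ maximalIdeal A := Ideal.Quotient.eq.mp hr'
        have h3 : (c : A) - algebraMap R A r ∈ maximalIdeal A := by
          have h3' := (maximalIdeal A).neg_mem h1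
          rwa [neg_sub] at h3'
        have hcoe : ((c - algebraMap R (FixedPoints.subalgebra R A H') r :
            FixedPoints.subalgebra R A H') : A) = (c : A) - algebraMap R A r := rfl
        have h2 : c - algebraMap R (FixedPoints.subalgebra R A H') r ∈
            maximalIdeal (FixedPoints.subalgebra R A H') := by
          rw [mem_maximalIdeal, mem_nonunits_iff, isUnit_fixed_iff, hcoe]
          exact mem_nonunits_iff.mp ((mem_maximalIdeal _).mp h3)
        have h4 : c - algebraMap R (FixedPoints.subalgebra R A H') r ∈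
            (maximalIdeal R) • (⊤ : Submodule R (FixedPoints.subalgebra R A H')) := by
          rw [Ideal.smul_top_eq_map, hmap]
          exact h2
        have h5 : algebraMap R (FixedPoints.subalgebra R A H') r ∈
            LinearMap.range (Algebra.linearMap R (FixedPoints.subalgebra R A H')) := ⟨r, rfl⟩
        have hdec : c = algebraMap R (FixedPoints.subalgebra R A H') r +
            (c - algebraMap R (FixedPoints.subalgebra R A H') r) := by ring
        rw [hdec]
        exact Submodule.add_mem_sup h5 h4
      intro c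
      obtain ⟨r, hr⟩ := hNak (Submodule.mem_top : c ∈ ⊤)
      exact ⟨r, hr⟩
  haveI : (⊥ : Ideal A).IsPrime := Ideal.isPrime_bot
  have hbot : Ideal.inertia H (⊥ : Ideal A) ≤ H' := by
    intro σ hσ
    have hσ1 : σ = 1 := by
      apply FaithfulSMul.eq_of_smul_eq_smul (α := A)
      intro a
      have h1 : σ • a - a ∈ (⊥ : Ideal A) := hσ a
      rw [Ideal.mem_bot, sub_eq_zero] at h1
      rw [h1, one_smul]
    rw [hσ1]
    exact H'.one_mem
  obtain ⟨θ, hθ1, hθ2⟩ := InertiaH.exists_theta_H R (⊥ : Ideal A) H' hbot
  have hθfix : ∀ g : H', g • θ = θ := fun g => hθ1 g.1 g.2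
  obtain ⟨r, hr⟩ := hsurj ⟨θ, hθfix⟩
  have hθr : algebraMap R A r = θ := congrArg Subtype.val hr
  rw [Subgroup.eq_top_iff']
  intro τ
  by_contra hτ
  apply hθ2 τ hτ
  rw [Ideal.mem_bot, ← hθr, smul_algebraMap, sub_self]

theorem core (R A : Type v) [CommRing R] [IsRegularLocalRing R] [CommRing A] [IsDomain A]
    [IsIntegrallyClosed A] [IsLocalRing A] [Algebra R A] [Module.Finite R A]
    (hinj : Function.Injective (algebraMap R A))
    (hres : Function.Surjective (IsLocalRing.residue A ∘ algebraMap R A))
    (H : Type w) [Group H] [Finite H] [MulSemiringAction H A] [SMulCommClass H R A]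
    [FaithfulSMul H A]
    (hfix : ∀ a : A, (∀ h : H, h • a = a) → a ∈ Set.range (algebraMap R A)) :
    (⨆ P : {P : Ideal A // P.IsPrime ∧ P.height = 1}, P.1.inertia H) = ⊤ := by
  apply core_aux R A hinj hres H hfix
  intro P hP hh
  exact le_iSup (fun P : {P : Ideal A // P.IsPrime ∧ P.height = 1} => P.1.inertia H) ⟨P, hP, hh⟩

theorem iSup_inertia_eq_top (R : Type u) [CommRing R] [IsRegularLocalRing R] (A : Type v)
    [CommRing A] [IsDomain A] [IsIntegrallyClosed A] [IsLocalRing A] [Algebra R A]
    [Module.Finite R A]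
    (hinj : Function.Injective (algebraMap R A))
    (hres : Function.Surjective (IsLocalRing.residue A ∘ algebraMap R A))
    (H : Type w) [Group H] [Finite H] [MulSemiringAction H A] [SMulCommClass H R A]
    [FaithfulSMul H A]
    (hfix : ∀ a : A, (∀ h : H, h • a = a) → a ∈ Set.range (algebraMap R A)) :
    (⨆ P : {P : Ideal A // P.IsPrime ∧ P.height = 1}, P.1.inertia H) = ⊤ := by
  haveI : IsRegularLocalRing (⊥ : Subalgebra R A) :=
    IsRegularLocalRing.of_ringEquiv (Algebra.botEquivOfInjective hinj).symm.toRingEquiv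
  haveI : Module.Finite (⊥ : Subalgebra R A) A := Module.Finite.of_restrictScalars_finite R _ A
  haveI : SMulCommClass H (⊥ : Subalgebra R A) A := by
    constructor
    intro h c a
    obtain ⟨r, hr⟩ := Algebra.mem_bot.mp c.2
    have e1 : ∀ b : A, c • b = algebraMap R A r * b := by
      intro b
      rw [hr]
      first
      | rfl
      | exact Algebra.smul_def c b
    rw [e1, e1, smul_mul', smul_algebraMap]
  refine core (⊥ : Subalgebra R A) A (fun x y hxy => Subtype.ext hxy) ?_ H ?_
  · intro x
    obtain ⟨r, hr⟩ := hres x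
    exact ⟨algebraMap R _ r, hr⟩
  · intro a ha
    obtain ⟨r, hr⟩ := hfix a ha
    exact ⟨algebraMap R _ r, hr⟩

section grp

variable {H : Type*} [Group H]

theorem pow_prime_eq_one_of_mem {p : ℕ} (N : Subgroup H) (hN : Nat.card N = p) {g : H}
    (hg : g ∈ N) : g ^ p = 1 := by
  have h1 : (⟨g, hg⟩ : N) ^ Nat.card N = 1 := pow_card_eq_one'
  rw [hN] at h1
  have h2 := congrArg Subtype.val h1
  simpa using h2

theorem commute_of_prime_normal [Finite H] {p : ℕ} [hp : Fact p.Prime] (N₁ N₂ : Subgroup H)
    (h₁ : Nat.card N₁ = p) (h₂ : Nat.card N₂ = p) (n₁ : N₁.Normal) (n₂ : N₂.Normal)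
    (x y : H) (hx : x ∈ N₁) (hy : y ∈ N₂) : x * y = y * x := by
  by_cases hd : Disjoint N₁ N₂
  · exact (Subgroup.commute_of_normal_of_disjoint N₁ N₂ n₁ n₂ hd x y hx hy).eq
  · have hd' : ∃ g : H, g ∈ N₁ ∧ g ∈ N₂ ∧ g ≠ 1 := by
      by_contra hcon
      apply hd
      rw [Subgroup.disjoint_def]
      intro g hg1 hg2
      by_contra hne
      exact hcon ⟨g, hg1, hg2, hne⟩
    obtain ⟨g, hg₁, hg₂, hg⟩ := hd'
    have key : ∀ N : Subgroup H, Nat.card N = p → g ∈ N → N = Subgroup.zpowers g := by
      intro N hN hgN
      have hle : Subgroup.zpowers g ≤ N := Subgroup.zpowers_le.mpr hgN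
      have hcard : Nat.card (Subgroup.zpowers g) = p := by
        rw [Nat.card_zpowers]
        have hdvd : orderOf g ∣ p :=
          orderOf_dvd_of_pow_eq_one (pow_prime_eq_one_of_mem N hN hgN)
        rcases (Nat.dvd_prime hp.out).mp hdvd with h | h
        · exact absurd (orderOf_eq_one_iff.mp h) hg
        · exact h
      exact (Subgroup.eq_of_le_of_card_ge hle (le_of_eq (by rw [hcard, hN]))).symm
    rw [key N₁ h₁ hg₁] at hx
    rw [key N₂ h₂ hg₂] at hy
    obtain ⟨i, rfl⟩ := Subgroup.mem_zpowers_iff.mp hx
    obtain ⟨j, rfl⟩ := Subgroup.mem_zpowers_iff.mp hy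
    exact (Commute.zpow_zpow_self g i j).eq

theorem exp_of_iSup {ι : Sort*} (N : ι → Subgroup H) (p : ℕ)
    (hc : ∀ g h : H, g * h = h * g) (hsup : (⨆ i, N i) = ⊤)
    (hN : ∀ i, N i ≠ ⊥ → Nat.card (N i) = p) (h : H) : h ^ p = 1 := by
  obtain ⟨K, hK⟩ : ∃ K : Subgroup H, ∀ x, x ∈ K ↔ x ^ p = 1 := by
    refine ⟨{ carrier := {x | x ^ p = 1}, mul_mem' := ?_, one_mem' := ?_, inv_mem' := ?_ },
      fun x => Iff.rfl⟩
    · intro a b ha hb
      show (a * b) ^ p = 1
      have ha' : a ^ p = 1 := ha
      have hb' : b ^ p = 1 := hb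
      rw [(show Commute a b from hc a b).mul_pow, ha', hb', one_mul]
    · show (1 : H) ^ p = 1
      exact one_pow p
    · intro a ha
      show a⁻¹ ^ p = 1
      have ha' : a ^ p = 1 := ha
      rw [inv_pow, ha', inv_one]
  have hle : (⨆ i, N i) ≤ K := by
    apply iSup_le
    intro i x hx
    rw [hK]
    by_cases hb : N i = ⊥
    · rw [hb, Subgroup.mem_bot] at hx
      rw [hx, one_pow]
    · exact pow_prime_eq_one_of_mem (N i) (hN i hb) hx
  rw [hsup] at hle
  exact (hK h).mp (hle (Subgroup.mem_top h))

theorem comm_of_iSup [Finite H] {ι : Sort*} (N : ι → Subgroup H) (p : ℕ) [Fact p.Prime]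
    (hsup : (⨆ i, N i) = ⊤)
    (hN : ∀ i, N i ≠ ⊥ → Nat.card (N i) = p ∧ (N i).Normal) (g h : H) : g * h = h * g := by
  have hpair : ∀ i j, ∀ x ∈ N i, ∀ y ∈ N j, x * y = y * x := by
    intro i j x hx y hy
    by_cases hi : N i = ⊥
    · rw [hi, Subgroup.mem_bot] at hx
      rw [hx, one_mul, mul_one]
    by_cases hj : N j = ⊥
    · rw [hj, Subgroup.mem_bot] at hy
      rw [hy, one_mul, mul_one]
    exact commute_of_prime_normal (N i) (N j) (hN i hi).1 (hN j hj).1 (hN i hi).2 (hN j hj).2
      x y hx hy
  have h1 : ∀ j, ∀ y ∈ N j, ∀ z : H, z * y = y * z := by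
    intro j y hy z
    have hle : (⨆ i, N i) ≤ Subgroup.centralizer ({y} : Set H) := by
      apply iSup_le
      intro i x hx
      rw [Subgroup.mem_centralizer_iff]
      intro w hw
      rw [Set.mem_singleton_iff] at hw
      rw [hw]
      exact (hpair i j x hx y hy).symm
    rw [hsup] at hle
    exact (Subgroup.mem_centralizer_iff.mp (hle (Subgroup.mem_top z)) y
      (Set.mem_singleton y)).symm
  have hle : (⨆ i, N i) ≤ Subgroup.centralizer ({g} : Set H) := by
    apply iSup_le
    intro j y hy
    rw [Subgroup.mem_centralizer_iff]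
    intro w hw
    rw [Set.mem_singleton_iff] at hw
    rw [hw]
    exact h1 j y hy g
  rw [hsup] at hle
  exact Subgroup.mem_centralizer_iff.mp (hle (Subgroup.mem_top h)) g (Set.mem_singleton g)

end grp

end Groth.Agent.H9.WQIn
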