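import Mathlib
import Groth.Agent.Lib.Helper1.RegNormal
import Groth.Agent.Lib.Helper7.Reg1
import Groth.Agent.Lib.Helper6.InertiaH2
import Groth.Agent.Lib.Helper6.QFNorm2
import Groth.Agent.Lib.Helper9.Misc.WQInB
import Groth.Agent.Lib.Helper9.Misc.EllIsoA

set_option autoImplicit false
universe u v w

namespace Groth.Agent.H9.WQExt

open IsLocalRing
open scoped Pointwise

attribute [local instance] Ideal.Quotient.field

theorem eq_one_of_inertia_unramified (A D : Type u) [CommRing A] [CommRing D] [IsLocalRing D]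
    [IsNoetherianRing D] [Algebra A D] [Algebra.FormallyUnramified A D]
    (Γ : Type w) [Group Γ] [MulSemiringAction Γ D] [SMulCommClass Γ A D] [FaithfulSMul Γ D]
    (σ : Γ) (hσ : ∀ d : D, σ • d - d ∈ maximalIdeal D) : σ = 1 := by
  have key : ∀ (n : ℕ) (d : D), σ • d - d ∈ maximalIdeal D ^ n := by
    intro n d
    have hnil : IsNilpotent ((maximalIdeal D).map (Ideal.Quotient.mk (maximalIdeal D ^ n))) := by
      refine ⟨n, ?_⟩
      rw [← Ideal.map_pow, Ideal.map_quotient_self]
      rfl
    have heq : ((Ideal.Quotient.mkₐ A (maximalIdeal D ^ n)).comp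
        (MulSemiringAction.toAlgHom A D σ)) = Ideal.Quotient.mkₐ A (maximalIdeal D ^ n) := by
      apply Algebra.FormallyUnramified.ext
        ((maximalIdeal D).map (Ideal.Quotient.mk (maximalIdeal D ^ n))) hnil
      intro x
      apply Ideal.Quotient.eq.mpr
      have h1 : Ideal.Quotient.mk (maximalIdeal D ^ n) (σ • x - x) ∈
          (maximalIdeal D).map (Ideal.Quotient.mk (maximalIdeal D ^ n)) :=
        Ideal.mem_map_of_mem _ (hσ x)
      rw [map_sub] at h1
      exact h1
    have h2 := congrArg (fun f => f d) heq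
    exact Ideal.Quotient.eq.mp h2
  apply FaithfulSMul.eq_of_smul_eq_smul (α := D)
  intro d
  rw [one_smul]
  have h3 : σ • d - d ∈ (⨅ i, maximalIdeal D ^ i : Ideal D) :=
    (Ideal.mem_iInf).mpr (fun n => key n d)
  rw [Ideal.iInf_pow_eq_bot_of_isLocalRing (maximalIdeal D) Ideal.IsPrime.ne_top', Ideal.mem_bot,
    sub_eq_zero] at h3
  exact h3

theorem etale_of_inertia (A D : Type u) [CommRing A] [IsRegularLocalRing A]
    (hA : (1 : WithBot ℕ∞) ≤ ringKrullDim A)
    [CommRing D] [IsDomain D] [IsIntegrallyClosed D] [Algebra A D] [Module.Finite A D]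
    (hinj : Function.Injective (algebraMap A D))
    (Γ : Type w) [Group Γ] [Finite Γ] [MulSemiringAction Γ D] [SMulCommClass Γ A D]
    [Algebra.IsInvariant A D Γ]
    (hin : ∀ Q : Ideal D, Q.IsPrime → Q.height = 1 → Q.inertia Γ = ⊥) : Algebra.Etale A D := by
  classical
  haveI : IsDomain A := Function.Injective.isDomain (algebraMap A D) hinj
  haveI : IsNoetherian A D := isNoetherian_of_isNoetherianRing_of_finite A D
  haveI hfinT : Module.Finite A (FixedPoints.subalgebra A D (⊥ : Subgroup Γ)) :=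
    Module.Finite.of_injective (FixedPoints.subalgebra A D (⊥ : Subgroup Γ)).val.toLinearMap
      (fun x y hxy => Subtype.ext hxy)
  haveI : Module.Finite (FixedPoints.subalgebra A D (⊥ : Subgroup Γ)) D :=
    Module.Finite.of_restrictScalars_finite A (FixedPoints.subalgebra A D (⊥ : Subgroup Γ)) D
  haveI : IsIntegrallyClosed (FixedPoints.subalgebra A D (⊥ : Subgroup Γ)) :=
    Groth.Agent.H9.WQIn.isIntegrallyClosed_fixed A D (⊥ : Subgroup Γ)
  haveI : Algebra.IsIntegral (FixedPoints.subalgebra A D (⊥ : Subgroup Γ)) D :=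
    Algebra.IsIntegral.of_finite _ _
  have hinjT : Function.Injective
      (algebraMap A (FixedPoints.subalgebra A D (⊥ : Subgroup Γ))) :=
    fun x y hxy => hinj (congrArg Subtype.val hxy)
  have hunr : ∀ (Q : Ideal (FixedPoints.subalgebra A D (⊥ : Subgroup Γ))) [Q.IsPrime],
      Q.height = 1 → Algebra.IsUnramifiedAt A Q := by
    intro Q hQ hh
    obtain ⟨P, hP, hPQ, hPh⟩ := Groth.Agent.H9.WQIn.exists_height_one_over
      (C := FixedPoints.subalgebra A D (⊥ : Subgroup Γ)) (A := D)
      (fun x y hxy => Subtype.ext hxy) Q hh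
    haveI := hP
    obtain ⟨g, hgP, hEt⟩ := Groth.Agent.H6.InertiaH.exists_etale_fixedPoints A hinj P
      (⊥ : Subgroup Γ) (le_of_eq (hin P hP hPh))
    haveI := hEt
    have hgQ : g ∉ Q := by
      intro hg
      apply hgP
      rw [← hPQ] at hg
      exact hg
    have hsub := (Algebra.basicOpen_subset_unramifiedLocus_iff (R := A) (f := g)).mpr
      inferInstance
    have hmem : (⟨Q, hQ⟩ : PrimeSpectrum (FixedPoints.subalgebra A D (⊥ : Subgroup Γ))) ∈
        PrimeSpectrum.basicOpen g := (PrimeSpectrum.mem_basicOpen _ _).mpr hgQ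
    exact hsub (SetLike.mem_coe.mpr hmem)
  haveI hEtT : Algebra.Etale A (FixedPoints.subalgebra A D (⊥ : Subgroup Γ)) :=
    Groth.Agent.H6.QFNorm.etale_of_normal A (FixedPoints.subalgebra A D (⊥ : Subgroup Γ)) hA
      hinjT hunr
  have hmemT : ∀ d : D, d ∈ FixedPoints.subalgebra A D (⊥ : Subgroup Γ) := by
    intro d
    show ∀ σ : (⊥ : Subgroup Γ), σ • d = d
    rintro ⟨σ, hσ⟩
    have h1 : σ = 1 := Subgroup.mem_bot.mp hσ
    subst h1
    exact one_smul Γ d
  exact Algebra.Etale.of_equiv (AlgEquiv.ofBijective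
    (FixedPoints.subalgebra A D (⊥ : Subgroup Γ)).val
    ⟨Subtype.val_injective, fun d => ⟨⟨d, hmemT d⟩, rfl⟩⟩)

theorem residue_galois (A D : Type u) [CommRing A] [IsLocalRing A] [CommRing D] [IsLocalRing D]
    [IsNoetherianRing D] [Algebra A D] [Module.Finite A D] [Algebra.Etale A D]
    [IsLocalHom (algebraMap A D)]
    (Γ : Type w) [Group Γ] [Finite Γ] [MulSemiringAction Γ D] [SMulCommClass Γ A D]
    [FaithfulSMul Γ D] [Algebra.IsInvariant A D Γ] :
    ∃ (F : Type u) (_ : Field F) (_ : Algebra (A ⧸ maximalIdeal A) F),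
      IsGalois (A ⧸ maximalIdeal A) F ∧
        Module.finrank (A ⧸ maximalIdeal A) F = Nat.card Γ := by
  classical
  haveI : Algebra.IsIntegral A D := Algebra.IsIntegral.of_finite A D
  haveI hLO : (maximalIdeal D).LiesOver (maximalIdeal A) :=
    ⟨(IsLocalRing.eq_maximalIdeal
      (Ideal.isMaximal_comap_of_isIntegral_of_isMaximal (R := A) (maximalIdeal D))).symm⟩
  haveI hnorm : Normal (A ⧸ maximalIdeal A) (D ⧸ maximalIdeal D) :=
    Ideal.Quotient.normal Γ (maximalIdeal A) (maximalIdeal D)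
  haveI hsep : Algebra.IsSeparable (A ⧸ maximalIdeal A) (D ⧸ maximalIdeal D) :=
    (inferInstance : Algebra.IsSeparable (ResidueField A) (ResidueField D))
  haveI hgal : IsGalois (A ⧸ maximalIdeal A) (D ⧸ maximalIdeal D) :=
    isGalois_iff.mpr ⟨hsep, hnorm⟩
  haveI hfd : FiniteDimensional (A ⧸ maximalIdeal A) (D ⧸ maximalIdeal D) :=
    (inferInstance : Module.Finite (ResidueField A) (ResidueField D))
  have hstab : ∀ σ : Γ, σ • maximalIdeal D = maximalIdeal D := by
    intro σ
    rw [Ideal.pointwise_smul_eq_comap]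
    exact IsLocalRing.eq_maximalIdeal
      (Ideal.comap_isMaximal_of_equiv ((MulSemiringAction.toRingAut Γ D σ).symm))
  have hinjS : Function.Injective
      (Ideal.Quotient.stabilizerHom (maximalIdeal D) (maximalIdeal A) Γ) := by
    rw [← MonoidHom.ker_eq_bot_iff, Ideal.Quotient.ker_stabilizerHom, eq_bot_iff]
    intro σ hσ
    rw [Subgroup.mem_bot]
    have h1 : ∀ d : D, (σ : Γ) • d - d ∈ maximalIdeal D := fun d => hσ d
    exact Subtype.ext (eq_one_of_inertia_unramified A D Γ σ.1 h1)
  have hsurjS := Ideal.Quotient.stabilizerHom_surjective Γ (maximalIdeal A) (maximalIdeal D)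
  have hcard1 : Nat.card (MulAction.stabilizer Γ (maximalIdeal D)) =
      Nat.card ((D ⧸ maximalIdeal D) ≃ₐ[A ⧸ maximalIdeal A] (D ⧸ maximalIdeal D)) :=
    Nat.card_congr (Equiv.ofBijective _ ⟨hinjS, hsurjS⟩)
  have hcard2 : Nat.card (MulAction.stabilizer Γ (maximalIdeal D)) = Nat.card Γ := by
    have htop : MulAction.stabilizer Γ (maximalIdeal D) = ⊤ := by
      ext σ
      simp only [MulAction.mem_stabilizer_iff, hstab σ, Subgroup.mem_top]
    rw [htop]
    exact Subgroup.card_top
  have hcard3 := IsGalois.card_aut_eq_finrank (A ⧸ maximalIdeal A) (D ⧸ maximalIdeal D)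
  exact ⟨D ⧸ maximalIdeal D, inferInstance, inferInstance, hgal,
    by rw [← hcard3, ← hcard1, hcard2]⟩

theorem exists_galois_shrink (A : Type u) [CommRing A] [IsLocalRing A] (k : Type v) [Field k]
    [Algebra k A] (hk : Function.Surjective (IsLocalRing.residue A ∘ algebraMap k A))
    (F : Type u) [Field F] [Algebra (A ⧸ maximalIdeal A) F] [IsGalois (A ⧸ maximalIdeal A) F]
    (n : ℕ) (hn0 : 0 < n) (hn : Module.finrank (A ⧸ maximalIdeal A) F = n) :
    ∃ (L : Type v) (_ : Field L) (_ : Algebra k L), IsGalois k L ∧ Module.finrank k L = n := by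
  classical
  obtain ⟨r, hr⟩ : ∃ r : k →+* (A ⧸ maximalIdeal A),
      r = (Ideal.Quotient.mk (maximalIdeal A)).comp (algebraMap k A) := ⟨_, rfl⟩
  have hrsurj : Function.Surjective r := by
    rw [hr]
    exact hk
  have hrbij : Function.Bijective r := ⟨r.injective, hrsurj⟩
  obtain ⟨e, he⟩ : ∃ e : k ≃+* (A ⧸ maximalIdeal A), ∀ x, e x = r x :=
    ⟨RingEquiv.ofBijective r hrbij, fun x => rfl⟩
  letI algkF : Algebra k F := ((algebraMap (A ⧸ maximalIdeal A) F).comp r).toAlgebra
  have hcomp : (algebraMap k F).comp (e.symm : (A ⧸ maximalIdeal A) →+* k) =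
      ((RingEquiv.refl F : F ≃+* F) : F →+* F).comp (algebraMap (A ⧸ maximalIdeal A) F) := by
    ext x
    show algebraMap (A ⧸ maximalIdeal A) F (r (e.symm x)) = algebraMap (A ⧸ maximalIdeal A) F x
    rw [← he, e.apply_symm_apply]
  haveI hgalk : IsGalois k F :=
    IsGalois.of_equiv_equiv (f := e.symm) (g := RingEquiv.refl F) hcomp
  have hfr : Module.finrank k F = n := by
    rw [← hn]
    refine Algebra.finrank_eq_of_equiv_equiv e (RingEquiv.refl F) ?_
    ext x
    show algebraMap (A ⧸ maximalIdeal A) F (e x) = algebraMap (A ⧸ maximalIdeal A) F (r x)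
    rw [he]
  haveI : Module.Finite k F := Module.finite_of_finrank_pos (by rw [hfr]; exact hn0)
  haveI : Small.{v} F := Module.Finite.small k F
  refine ⟨Shrink.{v} F, inferInstance, inferInstance,
    IsGalois.of_algEquiv (Shrink.algEquiv k F).symm, ?_⟩
  rw [← hfr]
  exact (Shrink.algEquiv k F).toLinearEquiv.finrank_eq

theorem no_cover (p : ℕ) [Fact p.Prime] (A : Type u) [CommRing A] [IsRegularLocalRing A]
    [IsAdicComplete (maximalIdeal A) A] (hdim : 2 ≤ ringKrullDim A)
    (k : Type v) [Field k] [Algebra k A]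
    (hk : Function.Surjective (IsLocalRing.residue A ∘ algebraMap k A))
    (hkp : ∀ (L : Type v) [Field L] [Algebra k L], IsGalois k L → Module.finrank k L ≠ p)
    (D : Type u) [CommRing D] [IsDomain D] [IsIntegrallyClosed D] [Algebra A D]
    [Module.Finite A D] (hinj : Function.Injective (algebraMap A D))
    (Γ : Type w) [Group Γ] [Finite Γ] [MulSemiringAction Γ D] [SMulCommClass Γ A D]
    [FaithfulSMul Γ D] [Algebra.IsInvariant A D Γ] (hcard : Nat.card Γ = p)
    (hin : ∀ Q : Ideal D, Q.IsPrime → Q.height = 1 → Q.inertia Γ = ⊥) : False := by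
  classical
  have hp : p.Prime := Fact.out
  have hA : (1 : WithBot ℕ∞) ≤ ringKrullDim A := le_trans (by norm_num) hdim
  haveI hEt : Algebra.Etale A D := etale_of_inertia A D hA hinj Γ hin
  haveI : IsLocalRing D := Groth.Agent.H9.EllIso.isLocalRing_of_finite_domain A D
  haveI : IsNoetherianRing D := IsNoetherianRing.of_finite A D
  haveI : Algebra.IsIntegral A D := Algebra.IsIntegral.of_finite A D
  haveI : IsLocalHom (algebraMap A D) :=
    RingHom.IsIntegral.isLocalHom (algebraMap_isIntegral_iff.mpr inferInstance) hinj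
  obtain ⟨F, iF, iA, hgal, hfr⟩ := residue_galois A D Γ
  letI := iF
  letI := iA
  haveI := hgal
  obtain ⟨L, iL, iAL, hgalL, hfrL⟩ := exists_galois_shrink A k hk F p hp.pos
    (by rw [hfr, hcard])
  exact @hkp L iL iAL hgalL hfrL

end Groth.Agent.H9.WQExt
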