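import Mathlib

set_option autoImplicit false
universe u

namespace Groth.Agent.H9.WQExt

open Polynomial

theorem exists_algEquiv_comp {K L E : Type*} [Field K] [Field L] [Field E] [Algebra K L]
    [Algebra K E] [Normal K L] (α β : L →ₐ[K] E) : ∃ τ : L ≃ₐ[K] L, ∀ x, α x = β (τ x) := by
  letI : Algebra L E := β.toRingHom.toAlgebra
  haveI : IsScalarTower K L E := IsScalarTower.of_algebraMap_eq (fun x => (β.commutes x).symm)
  refine ⟨AlgEquiv.ofBijective (α.restrictNormal L)
    (Algebra.IsAlgebraic.algHom_bijective _), fun x => ?_⟩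
  exact (AlgHom.restrictNormal_commutes α L x).symm

section

variable (K L : Type u) [Field K] [Field L] [Algebra K L] [FiniteDimensional K L] [IsGalois K L]
  (φ : K ≃+* K)

noncomputable def twPoly : L[X] :=
  ((minpoly K (Field.powerBasisOfFiniteOfSeparable K L).gen).map φ.toRingHom).map
    (algebraMap K L)

theorem twPoly_separable : (twPoly K L φ).Separable := by
  unfold twPoly
  have h0 : (minpoly K (Field.powerBasisOfFiniteOfSeparable K L).gen).Separable :=
    Algebra.IsSeparable.isSeparable K _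
  exact Polynomial.Separable.map (Polynomial.Separable.map h0)

theorem part1 (E : Type u) [Field E] [Algebra L E] [IsSplittingField L E (twPoly K L φ)] :
    ∃ ι : L →+* E,
      (∀ x : K, ι (algebraMap K L x) = algebraMap L E (algebraMap K L (φ x))) ∧
      (∀ σ : E ≃ₐ[L] E, ∃ τ : L ≃ₐ[K] L, ∀ x, σ (ι x) = ι (τ x)) ∧
      (∀ σ : E ≃ₐ[L] E, (∀ x, σ (ι x) = ι x) → σ = 1) := by
  classical
  letI algKE : Algebra K E :=
    ((algebraMap L E).comp ((algebraMap K L).comp φ.toRingHom)).toAlgebra
  have hKE : ∀ x : K, algebraMap K E x = algebraMap L E (algebraMap K L (φ x)) := fun x => rfl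
  obtain ⟨pb, hpb⟩ : ∃ pb : PowerBasis K L, pb = Field.powerBasisOfFiniteOfSeparable K L :=
    ⟨_, rfl⟩
  have hmapeq : (minpoly K pb.gen).map (algebraMap K E) =
      (twPoly K L φ).map (algebraMap L E) := by
    unfold twPoly
    rw [Polynomial.map_map, Polynomial.map_map, hpb]
    rfl
  have haeval : ∀ y : E, aeval y (minpoly K pb.gen) =
      eval y ((twPoly K L φ).map (algebraMap L E)) := by
    intro y
    rw [aeval_def, eval₂_eq_eval_map, hmapeq]
  have haeval' : ∀ y : E, aeval y (twPoly K L φ) =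
      eval y ((twPoly K L φ).map (algebraMap L E)) := by
    intro y
    rw [aeval_def, eval₂_eq_eval_map]
  have hsplit : ((twPoly K L φ).map (algebraMap L E)).Splits :=
    IsSplittingField.splits E (twPoly K L φ)
  have hint : IsIntegral K pb.gen := Algebra.IsIntegral.isIntegral pb.gen
  have hdeg : ((twPoly K L φ).map (algebraMap L E)).degree ≠ 0 := by
    rw [← hmapeq, degree_map]
    exact ne_of_gt (minpoly.degree_pos hint)
  obtain ⟨y, hy⟩ := hsplit.exists_eval_eq_zero hdeg
  have hy' : aeval y (minpoly K pb.gen) = 0 := by rw [haeval]; exact hy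
  obtain ⟨ιa, hιa⟩ : ∃ ιa : L →ₐ[K] E, ιa = pb.lift y hy' := ⟨_, rfl⟩
  have hcomp : ∀ (σ : E ≃ₐ[L] E), ∃ α : L →ₐ[K] E, ∀ x, α x = σ (ιa x) := by
    intro σ
    refine ⟨{ toRingHom := (σ : E →+* E).comp ιa.toRingHom
              commutes' := fun x => ?_ }, fun x => rfl⟩
    show σ (ιa (algebraMap K L x)) = algebraMap K E x
    rw [ιa.commutes, hKE]
    exact σ.commutes (algebraMap K L (φ x))
  refine ⟨ιa.toRingHom, fun x => ?_, fun σ => ?_, fun σ hσ => ?_⟩
  · show ιa (algebraMap K L x) = _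
    rw [ιa.commutes, hKE]
  · obtain ⟨α, hα⟩ := hcomp σ
    obtain ⟨τ, hτ⟩ := exists_algEquiv_comp α ιa
    refine ⟨τ, fun x => ?_⟩
    show σ (ιa x) = ιa (τ x)
    rw [← hα, hτ]
  · have hσ' : ∀ x, σ (ιa x) = ιa x := hσ
    have hroot : ∀ r ∈ (twPoly K L φ).rootSet E, σ r = r := by
      intro r hr
      have hr2 := (mem_rootSet.mp hr).2
      rw [haeval'] at hr2
      have hr3 : aeval r (minpoly K pb.gen) = 0 := by rw [haeval]; exact hr2
      obtain ⟨τ, hτ⟩ := exists_algEquiv_comp (pb.lift r hr3) ιa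
      have h1 : r = ιa (τ pb.gen) := by rw [← hτ, pb.lift_gen]
      rw [h1, hσ']
    have hle : Algebra.adjoin L ((twPoly K L φ).rootSet E) ≤
        AlgHom.equalizer (σ : E →ₐ[L] E) (AlgHom.id L E) := by
      apply Algebra.adjoin_le
      intro r hr
      exact (AlgHom.mem_equalizer _ _ r).mpr (hroot r hr)
    rw [IsSplittingField.adjoin_rootSet E (twPoly K L φ)] at hle
    ext e
    exact (AlgHom.mem_equalizer _ _ e).mp (hle Algebra.mem_top)

end

end Groth.Agent.H9.WQExt
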