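import Mathlib
import Groth.Agent.Lib.Helper1.RegNormal
import Groth.Agent.Lib.Helper7.Reg1
import Groth.Agent.Lib.Helper9.Misc.ValFinA
import Groth.Agent.Lib.Helper9.Misc.FinComp
import Groth.Agent.Lib.Helper9.Misc.WQExtA
import Groth.Agent.Lib.Helper9.Misc.WQExtB

set_option autoImplicit false
universe u v w

namespace Groth.Agent.H9.WQExt

open IsLocalRing Polynomial

theorem partC_aux (p : ℕ) [Fact p.Prime] (A : Type u) [CommRing A] [IsRegularLocalRing A]
    [IsAdicComplete (maximalIdeal A) A] (hdim : 2 ≤ ringKrullDim A)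
    (k : Type v) [Field k] [Algebra k A]
    (hk : Function.Surjective (IsLocalRing.residue A ∘ algebraMap k A))
    (hkp : ∀ (L : Type v) [Field L] [Algebra k L], IsGalois k L → Module.finrank k L ≠ p)
    (G : Type w) [Group G] [Finite G] [MulSemiringAction G A] (hcard : Nat.card G = p)
    (hram : ∀ P : Ideal A, P.IsPrime → P ≠ maximalIdeal A → P.inertia G = ⊥)
    (B : Type u) [CommRing B] [IsDomain B] [IsIntegrallyClosed B] [Algebra B A]
    [Module.Finite B A] [IsGaloisGroup G B A]
    (K L : Type u) [Field K] [Field L] [Algebra B K] [IsFractionRing B K] [Algebra A L]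
    [IsFractionRing A L] [Algebra K L] [Algebra B L] [IsScalarTower B K L] [IsScalarTower B A L]
    [MulSemiringAction G L] [SMulDistribClass G A L]
    (φ : B ≃+* B) (φK : K ≃+* K) (hφK : ∀ b, φK (algebraMap B K b) = algebraMap B K (φ b))
    (E : Type u) [Field E] [Algebra L E] [FiniteDimensional L E] [IsGalois L E]
    (ι : L →+* E)
    (h1 : ∀ x : K, ι (algebraMap K L x) = algebraMap L E (algebraMap K L (φK x)))
    (h2 : ∀ σ : E ≃ₐ[L] E, ∃ τ : L ≃ₐ[K] L, ∀ x, σ (ι x) = ι (τ x))
    (h3 : ∀ σ : E ≃ₐ[L] E, (∀ x, σ (ι x) = ι x) → σ = 1) :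
    ∃ ψ₀ : L →+* L, ∀ b : B, ψ₀ (algebraMap B L b) = algebraMap B L (φ b) := by
  classical
  have hp : p.Prime := Fact.out
  haveI : IsDomain A := Groth.Agent.H7.Reg.isDomain A
  haveI : IsIntegrallyClosed A := Groth.Agent.H1.Reg.isIntegrallyClosed A
  haveI hGKL : IsGaloisGroup G K L := IsGaloisGroup.to_isFractionRing G B A K L
  haveI : FiniteDimensional K L := IsGaloisGroup.finiteDimensional G K L
  haveI : IsGalois K L := IsGaloisGroup.isGalois G K L
  have hfin : Module.finrank K L = p := by rw [← IsGaloisGroup.card_eq_finrank G K L, hcard]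
  have hcardAut : Nat.card (L ≃ₐ[K] L) = p := by rw [IsGalois.card_aut_eq_finrank, hfin]
  have hBL : ∀ b : B, ι (algebraMap B L b) = algebraMap L E (algebraMap B L (φ b)) := by
    intro b
    rw [IsScalarTower.algebraMap_apply B K L b, h1, hφK, ← IsScalarTower.algebraMap_apply B K L]
  have hsm : ∀ (g : G) (a : A), algebraMap A L (g • a) = g • algebraMap A L a :=
    fun g a => algebraMap.coe_smul' g a L
  have eBAL : ∀ b : B, algebraMap A L (algebraMap B A b) = algebraMap B L b :=
    fun b => (IsScalarTower.algebraMap_apply B A L b).symm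
  choose τf hτf using h2
  -- algebra structures on E
  letI algAE : Algebra A E := ((algebraMap L E).comp (algebraMap A L)).toAlgebra
  haveI : IsScalarTower A L E := IsScalarTower.of_algebraMap_eq (fun _ => rfl)
  letI algBE : Algebra B E := ((algebraMap L E).comp (algebraMap B L)).toAlgebra
  haveI : IsScalarTower B L E := IsScalarTower.of_algebraMap_eq (fun _ => rfl)
  haveI : IsScalarTower B A E := IsScalarTower.of_algebraMap_eq (fun b => by
    show algebraMap L E (algebraMap B L b) = algebraMap L E (algebraMap A L (algebraMap B A b))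
    rw [eBAL])
  haveI : Algebra.IsIntegral B A := Algebra.IsIntegral.of_finite B A
  -- D
  haveI hDfrac : IsFractionRing (integralClosure A E) E :=
    integralClosure.isFractionRing_of_finite_extension L E
  haveI hDic : IsIntegrallyClosed (integralClosure A E) :=
    integralClosure.isIntegrallyClosedOfFiniteExtension L
  haveI hDfin : Module.Finite A (integralClosure A E) :=
    IsIntegralClosure.finite A L E (integralClosure A E)
  haveI : Algebra.IsIntegral A (integralClosure A E) := Algebra.IsIntegral.of_finite A _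
  have hinjAD : Function.Injective (algebraMap A (integralClosure A E)) := by
    intro x y hxy
    have h : algebraMap L E (algebraMap A L x) = algebraMap L E (algebraMap A L y) :=
      congrArg Subtype.val hxy
    exact (IsFractionRing.injective A L) ((algebraMap L E).injective h)
  haveI hΓfin : Finite ((integralClosure A E) ≃ₐ[A] (integralClosure A E)) :=
    Finite.of_equiv _ (galRestrict A L E (integralClosure A E)).toEquiv
  haveI hInv : Algebra.IsInvariant A (integralClosure A E)
      ((integralClosure A E) ≃ₐ[A] (integralClosure A E)) :=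
    Algebra.isInvariant_of_isGalois' A L E (integralClosure A E)
  -- twisted map A → D
  have hιint : ∀ a : A, IsIntegral A (ι (algebraMap A L a)) := by
    intro a
    have hcompB : (algebraMap B E).comp (φ : B →+* B) = ι.comp (algebraMap B L) := by
      ext b
      show algebraMap L E (algebraMap B L (φ b)) = ι (algebraMap B L b)
      rw [hBL]
    have ha : IsIntegral B (algebraMap A L a) :=
      (Algebra.IsIntegral.isIntegral (R := B) a).algebraMap
    have h4 : IsIntegral B (ι (algebraMap A L a)) :=
      IsIntegral.map_of_comp_eq (φ : B →+* B) ι hcompB ha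
    exact h4.tower_top
  obtain ⟨ιD, hιD⟩ : ∃ ιD : A →+* integralClosure A E,
      ∀ a, ((ιD a : integralClosure A E) : E) = ι (algebraMap A L a) :=
    ⟨(ι.comp (algebraMap A L)).codRestrict (integralClosure A E) (fun a => hιint a),
      fun a => rfl⟩
  have hιDint : ιD.IsIntegral := by
    have hc : (ιD.comp ((algebraMap B A).comp (φ.symm : B →+* B))) =
        (algebraMap A (integralClosure A E)).comp (algebraMap B A) := by
      ext b
      show ((ιD (algebraMap B A (φ.symm b)) : integralClosure A E) : E) =
        algebraMap L E (algebraMap A L (algebraMap B A b))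
      rw [hιD, eBAL (φ.symm b), eBAL b, hBL, RingEquiv.apply_symm_apply]
    have hint2 : ((algebraMap A (integralClosure A E)).comp (algebraMap B A)).IsIntegral :=
      RingHom.IsIntegral.trans _ _ (algebraMap_isIntegral_iff.mpr inferInstance)
        (algebraMap_isIntegral_iff.mpr inferInstance)
    rw [← hc] at hint2
    exact RingHom.IsIntegral.tower_top _ _ hint2
  -- D is local of dimension ≥ 2
  haveI hDloc : IsLocalRing (integralClosure A E) :=
    Groth.Agent.H9.EllIso.isLocalRing_of_finite_domain A (integralClosure A E)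
  have hdimD : ringKrullDim (integralClosure A E) = ringKrullDim A :=
    le_antisymm (Groth.Agent.H9.FinComp.ringKrullDim_le_of_isIntegral A (integralClosure A E))
      (Groth.Agent.H9.ValFin.ringKrullDim_le_of_integral_injective hinjAD)
  have hneD : ∀ Q : Ideal (integralClosure A E), Q.height = 1 →
      Q ≠ maximalIdeal (integralClosure A E) := by
    intro Q hQ hQm
    have hh2 : ((maximalIdeal (integralClosure A E)).height : WithBot ℕ∞) =
        ringKrullDim (integralClosure A E) :=
      IsLocalRing.maximalIdeal_height_eq_ringKrullDim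
    rw [← hQm, hQ, hdimD] at hh2
    rw [← hh2] at hdim
    have e : (2 : WithBot ℕ∞) = ((2 : ℕ∞) : WithBot ℕ∞) := rfl
    rw [e, WithBot.coe_le_coe] at hdim
    exact absurd hdim (by decide)
  have hinD : ∀ Q : Ideal (integralClosure A E), Q.IsPrime → Q.height = 1 →
      Q.inertia ((integralClosure A E) ≃ₐ[A] (integralClosure A E)) = ⊥ := by
    intro Q hQ hQh
    haveI := hQ
    have hQnm : ¬ Q.IsMaximal := fun h => hneD Q hQh (IsLocalRing.eq_maximalIdeal h)
    have hQA : (Q.comap ιD) ≠ maximalIdeal A := by
      intro hQm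
      apply hQnm
      apply Ideal.isMaximal_of_isIntegral_of_isMaximal_comap' ιD hιDint Q
      rw [hQm]
      exact IsLocalRing.maximalIdeal.isMaximal A
    have hinA := hram (Q.comap ιD) (Ideal.comap_isPrime ιD Q) hQA
    rw [eq_bot_iff]
    intro σ' hσ'
    rw [Subgroup.mem_bot]
    obtain ⟨σ, hσ⟩ : ∃ σ : E ≃ₐ[L] E, galRestrict A L E (integralClosure A E) σ = σ' :=
      ⟨(galRestrict A L E (integralClosure A E)).symm σ', MulEquiv.apply_symm_apply _ _⟩
    have hσE : ∀ d : integralClosure A E, ((σ' d : integralClosure A E) : E) = σ (d : E) := by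
      intro d
      rw [← hσ]
      exact algebraMap_galRestrict_apply A σ d
    obtain ⟨g, hg⟩ : ∃ g : G, ∀ x : L, τf σ x = g • x := by
      obtain ⟨g, hg'⟩ := (IsGaloisGroup.mulEquivAlgEquiv G K L).surjective (τf σ)
      exact ⟨g, fun x => by rw [← hg']; rfl⟩
    have hσι : ∀ a : A, σ' (ιD a) = ιD (g • a) := by
      intro a
      apply Subtype.ext
      rw [hσE, hιD, hιD, hτf, hg, hsm]
    have hgin : g ∈ (Q.comap ιD).inertia G := by
      show ∀ a : A, g • a - a ∈ Q.comap ιD
      intro a
      rw [Ideal.mem_comap, map_sub, ← hσι]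
      exact hσ' (ιD a)
    rw [hinA, Subgroup.mem_bot] at hgin
    have hσ1 : σ = 1 := h3 σ (fun x => by rw [hτf, hg, hgin, one_smul])
    rw [← hσ, hσ1, map_one]
  -- the group hom Gal(E/L) → Gal(L/K)
  have hmul : ∀ σ₁ σ₂ : E ≃ₐ[L] E, τf (σ₁ * σ₂) = τf σ₁ * τf σ₂ := by
    intro σ₁ σ₂
    ext x
    apply ι.injective
    rw [← hτf, AlgEquiv.mul_apply, hτf σ₂, hτf σ₁]
    rfl
  have hfinj : Function.Injective (MonoidHom.mk' τf hmul) := by
    rw [injective_iff_map_eq_one]
    intro σ hσ
    apply h3
    intro x
    have h5 : τf σ = 1 := hσ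
    rw [hτf, h5]
    rfl
  have hdvd : Nat.card (E ≃ₐ[L] E) ∣ p := by
    have h6 := Subgroup.card_dvd_of_injective (MonoidHom.mk' τf hmul) hfinj
    rwa [hcardAut] at h6
  rcases (Nat.dvd_prime hp).mp hdvd with hone | hpc
  · have hfr : Module.finrank L E = 1 := by rw [← IsGalois.card_aut_eq_finrank, hone]
    have hbot : (⊥ : Subalgebra L E) = ⊤ := Subalgebra.bot_eq_top_of_finrank_eq_one hfr
    have hsurj : Function.Surjective (algebraMap L E) := by
      intro e
      have h7 : e ∈ (⊥ : Subalgebra L E) := by rw [hbot]; exact Algebra.mem_top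
      exact Algebra.mem_bot.mp h7
    obtain ⟨eq, heq⟩ : ∃ eq : L ≃+* E, ∀ x, eq x = algebraMap L E x :=
      ⟨RingEquiv.ofBijective (algebraMap L E) ⟨(algebraMap L E).injective, hsurj⟩,
        fun x => rfl⟩
    refine ⟨(eq.symm : E →+* L).comp ι, fun b => ?_⟩
    show eq.symm (ι (algebraMap B L b)) = algebraMap B L (φ b)
    rw [hBL, ← heq, eq.symm_apply_apply]
  · exfalso
    have hcardΓ : Nat.card ((integralClosure A E) ≃ₐ[A] (integralClosure A E)) = p := by
      rw [← hpc]
      exact (Nat.card_congr (galRestrict A L E (integralClosure A E)).toEquiv).symm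
    exact no_cover p A hdim k hk hkp (integralClosure A E) hinjAD
      ((integralClosure A E) ≃ₐ[A] (integralClosure A E)) hcardΓ hinD

end Groth.Agent.H9.WQExt
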