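import Mathlib

set_option autoImplicit false
universe u v w

namespace Groth.Agent.H9.WQFix

open IsLocalRing

lemma mem_pow_smul_top_iff {A : Type*} [CommRing A] (m : Ideal A) (n : ℕ) (x : A) :
    x ∈ (m ^ n • ⊤ : Submodule A A) ↔ x ∈ m ^ n := by
  rw [smul_eq_mul, Ideal.mul_top]

section div

variable (B : Type u) (A : Type v) [CommRing B] [CommRing A] [IsDomain A] [Algebra B A]

theorem isUnit_iff_of_div (hinj : Function.Injective (algebraMap B A))
    (hdiv : ∀ (a : A) (c₁ c₂ : B), c₂ ≠ 0 → a * algebraMap B A c₂ = algebraMap B A c₁ →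
      a ∈ Set.range (algebraMap B A)) (c : B) :
    IsUnit c ↔ IsUnit (algebraMap B A c) := by
  constructor
  · intro h
    exact h.map (algebraMap B A)
  · intro h
    obtain ⟨b, hb⟩ := h.exists_right_inv
    have hc0 : c ≠ 0 := by
      rintro rfl
      rw [map_zero] at h
      exact not_isUnit_zero h
    obtain ⟨b', hb'⟩ := hdiv b 1 c hc0 (by rw [map_one, mul_comm]; exact hb)
    refine isUnit_iff_exists_inv.mpr ⟨b', ?_⟩
    apply hinj
    rw [map_mul, hb', hb, map_one]

theorem isLocalRing_of_div [IsLocalRing A] (hinj : Function.Injective (algebraMap B A))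
    (hdiv : ∀ (a : A) (c₁ c₂ : B), c₂ ≠ 0 → a * algebraMap B A c₂ = algebraMap B A c₁ →
      a ∈ Set.range (algebraMap B A)) : IsLocalRing B := by
  haveI : IsDomain B := Function.Injective.isDomain (algebraMap B A) hinj
  apply IsLocalRing.of_nonunits_add
  intro a b ha hb
  rw [mem_nonunits_iff, isUnit_iff_of_div B A hinj hdiv] at ha hb ⊢
  have ha' : algebraMap B A a ∈ maximalIdeal A := (mem_maximalIdeal _).mpr ha
  have hb' : algebraMap B A b ∈ maximalIdeal A := (mem_maximalIdeal _).mpr hb
  rw [map_add]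
  exact (mem_maximalIdeal _).mp ((maximalIdeal A).add_mem ha' hb')

theorem isIntegrallyClosed_of_div [IsIntegrallyClosed A]
    (hinj : Function.Injective (algebraMap B A))
    (hdiv : ∀ (a : A) (c₁ c₂ : B), c₂ ≠ 0 → a * algebraMap B A c₂ = algebraMap B A c₁ →
      a ∈ Set.range (algebraMap B A)) : IsIntegrallyClosed B := by
  haveI : IsDomain B := Function.Injective.isDomain (algebraMap B A) hinj
  rw [isIntegrallyClosed_iff (FractionRing B)]
  intro x hx
  have e : ∀ c : B, algebraMap B (FractionRing A) c =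
      algebraMap A (FractionRing A) (algebraMap B A c) :=
    fun c => IsScalarTower.algebraMap_apply B A (FractionRing A) c
  have hinjBL : Function.Injective (Algebra.ofId B (FractionRing A)) := by
    intro a b hab
    have hab' : algebraMap B (FractionRing A) a = algebraMap B (FractionRing A) b := hab
    rw [e, e] at hab'
    exact hinj (IsFractionRing.injective A (FractionRing A) hab')
  obtain ⟨φ, -⟩ : ∃ φ : FractionRing B →ₐ[B] FractionRing A, True :=
    ⟨IsFractionRing.liftAlgHom hinjBL, trivial⟩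
  obtain ⟨c₁, c₂, hc₂, rfl⟩ := IsFractionRing.div_surjective B x
  have hc₂0 : c₂ ≠ 0 := nonZeroDivisors.ne_zero hc₂
  have hc₂A : algebraMap B A c₂ ≠ 0 := fun h => hc₂0 (hinj (h.trans (map_zero _).symm))
  have hφ : IsIntegral A (φ (algebraMap _ _ c₁ / algebraMap _ _ c₂)) := (hx.map φ).tower_top
  obtain ⟨a, ha⟩ := IsIntegrallyClosed.isIntegral_iff.mp hφ
  rw [map_div₀, AlgHom.commutes, AlgHom.commutes, e, e] at ha
  have hL : algebraMap A (FractionRing A) (algebraMap B A c₂) ≠ 0 := fun h =>
    hc₂A (IsFractionRing.injective A (FractionRing A) (h.trans (map_zero _).symm))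
  have hac : a * algebraMap B A c₂ = algebraMap B A c₁ := by
    apply IsFractionRing.injective A (FractionRing A)
    rw [map_mul, ha, div_mul_cancel₀ _ hL]
  obtain ⟨b, hb⟩ := hdiv a c₁ c₂ hc₂0 hac
  refine ⟨b, ?_⟩
  have hK : algebraMap B (FractionRing B) c₂ ≠ 0 := fun h =>
    hc₂0 (IsFractionRing.injective _ _ (h.trans (map_zero _).symm))
  rw [eq_div_iff hK, ← map_mul]
  congr 1
  apply hinj
  rw [map_mul, hb, hac]

end div

theorem top_le_of_complete {B : Type u} {A : Type v} [CommRing B] [CommRing A] [Algebra B A]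
    (m : Ideal A) [IsAdicComplete m A]
    (hclosed : ∀ (f : ℕ → B) (L : A), (∀ n, algebraMap B A (f n) - L ∈ m ^ n) →
      L ∈ Set.range (algebraMap B A))
    (I : Ideal B) (hI : ∀ y ∈ I, algebraMap B A y ∈ m)
    {s : ℕ} (a : Fin s → A)
    (hgen : (⊤ : Submodule B A) ≤ Submodule.span B (Set.range a) ⊔ I • ⊤) :
    (⊤ : Submodule B A) ≤ Submodule.span B (Set.range a) := by
  classical
  have hIpow : ∀ t, ∀ y ∈ I ^ t, algebraMap B A y ∈ m ^ t := by
    intro t y hy
    have h1 : I.map (algebraMap B A) ≤ m := Ideal.map_le_iff_le_comap.mpr (fun y hy => hI y hy)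
    have h2 : algebraMap B A y ∈ (I ^ t).map (algebraMap B A) := Ideal.mem_map_of_mem _ hy
    rw [Ideal.map_pow] at h2
    exact Ideal.pow_right_mono h1 t h2
  have hsm : ∀ t, ∀ x ∈ (I ^ t • ⊤ : Submodule B A), x ∈ m ^ t := by
    intro t x hx
    refine Submodule.smul_induction_on hx (fun r hr n _ => ?_)
      (fun x y hx hy => (m ^ t).add_mem hx hy)
    rw [Algebra.smul_def]
    exact Ideal.mul_mem_right _ _ (hIpow t r hr)
  have hstep : ∀ t : ℕ, (I ^ t • ⊤ : Submodule B A) ≤
      I ^ t • Submodule.span B (Set.range a) ⊔ (I ^ (t + 1) • ⊤ : Submodule B A) := by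
    intro t
    have h1 : (I ^ t • ⊤ : Submodule B A) ≤
        I ^ t • (Submodule.span B (Set.range a) ⊔ I • ⊤) :=
      Submodule.smul_mono le_rfl hgen
    rw [Submodule.smul_sup, ← Submodule.mul_smul, ← pow_succ] at h1
    exact h1
  have hstep' : ∀ (t : ℕ) (x : A), ∃ c : Fin s → B, x ∈ (I ^ t • ⊤ : Submodule B A) →
      (∀ j, c j ∈ I ^ t) ∧ x - ∑ j, c j • a j ∈ (I ^ (t + 1) • ⊤ : Submodule B A) := by
    intro t x
    by_cases hx : x ∈ (I ^ t • ⊤ : Submodule B A)
    · obtain ⟨n, hn, x', hx', rfl⟩ := Submodule.mem_sup.mp (hstep t hx)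
      obtain ⟨c, hc, rfl⟩ := (Submodule.mem_ideal_smul_span_iff_exists_sum (I ^ t) a n).mp hn
      refine ⟨fun j => c j, fun _ => ⟨fun j => hc j, ?_⟩⟩
      have e1 : (c.sum fun i r => r • a i) = ∑ j, c j • a j :=
        Finsupp.sum_fintype _ _ (fun i => zero_smul _ _)
      rw [e1, add_sub_cancel_left]
      exact hx'
    · exact ⟨fun _ => 0, fun h => absurd h hx⟩
  choose cf hcf using hstep'
  intro x₀ _
  obtain ⟨xs, hxs0, hxsS⟩ : ∃ xs : ℕ → A, xs 0 = x₀ ∧
      ∀ t, xs (t + 1) = xs t - ∑ j, cf t (xs t) j • a j :=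
    ⟨fun t => Nat.rec x₀ (fun t xt => xt - ∑ j, cf t xt j • a j) t, rfl, fun t => rfl⟩
  have hxs_mem : ∀ t, xs t ∈ (I ^ t • ⊤ : Submodule B A) := by
    intro t
    induction t with
    | zero =>
      rw [pow_zero, Ideal.one_eq_top, Submodule.top_smul]
      exact Submodule.mem_top
    | succ t ih =>
      rw [hxsS t]
      exact (hcf t (xs t) ih).2
  have hcmem : ∀ t j, cf t (xs t) j ∈ I ^ t := fun t j => (hcf t (xs t) (hxs_mem t)).1 j
  have hsum : ∀ T, x₀ - ∑ j, (∑ t ∈ Finset.range T, cf t (xs t) j) • a j = xs T := by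
    intro T
    induction T with
    | zero => simp [hxs0]
    | succ T ih =>
      have e1 : ∀ j, (∑ t ∈ Finset.range (T + 1), cf t (xs t) j) • a j =
          (∑ t ∈ Finset.range T, cf t (xs t) j) • a j + cf T (xs T) j • a j := by
        intro j
        rw [Finset.sum_range_succ, add_smul]
      rw [hxsS T]
      simp only [e1, Finset.sum_add_distrib]
      rw [← sub_sub, ih]
  have hCdiff : ∀ j, ∀ {k n : ℕ}, k ≤ n → (∑ t ∈ Finset.range n, cf t (xs t) j) -
      (∑ t ∈ Finset.range k, cf t (xs t) j) ∈ I ^ k := by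
    intro j k n hkn
    rw [← Finset.sum_Ico_eq_sub _ hkn]
    exact Ideal.sum_mem _ (fun t ht =>
      Ideal.pow_le_pow_right (Finset.mem_Ico.mp ht).1 (hcmem t j))
  have hlim : ∀ j, ∃ L : A, ∀ n,
      algebraMap B A (∑ t ∈ Finset.range n, cf t (xs t) j) - L ∈ m ^ n := by
    intro j
    obtain ⟨L, hL⟩ := IsPrecomplete.prec (I := m) (M := A) IsAdicComplete.toIsPrecomplete
      (f := fun n => algebraMap B A (∑ t ∈ Finset.range n, cf t (xs t) j)) (by
        intro k n hkn
        have h1 := hIpow k _ (hCdiff j hkn)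
        have h2 := (m ^ k).neg_mem h1
        rw [← map_neg, neg_sub, map_sub] at h2
        exact (SModEq.sub_mem.mpr ((mem_pow_smul_top_iff m k _).mpr h2)))
    refine ⟨L, fun n => ?_⟩
    have h3 := hL n
    rwa [SModEq.sub_mem, mem_pow_smul_top_iff] at h3
  choose L hL using hlim
  have hLB : ∀ j, ∃ b : B, algebraMap B A b = L j := fun j =>
    hclosed (fun n => ∑ t ∈ Finset.range n, cf t (xs t) j) (L j) (hL j)
  choose bL hbL using hLB
  have hfin : x₀ - ∑ j, bL j • a j = 0 := by
    apply IsHausdorff.haus (I := m) IsAdicComplete.toIsHausdorff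
    intro n
    rw [SModEq.zero, mem_pow_smul_top_iff]
    have h1 : xs n ∈ m ^ n := hsm n (xs n) (hxs_mem n)
    have h2 : x₀ - ∑ j, bL j • a j = xs n +
        ∑ j, (algebraMap B A (∑ t ∈ Finset.range n, cf t (xs t) j) - L j) * a j := by
      rw [← hsum n]
      simp only [Algebra.smul_def, hbL, sub_mul, Finset.sum_sub_distrib]
      abel
    rw [h2]
    exact (m ^ n).add_mem h1 (Ideal.sum_mem _ (fun j _ => Ideal.mul_mem_right _ _ (hL j n)))
  rw [sub_eq_zero.mp hfin]
  exact Submodule.sum_mem _ (fun j _ => Submodule.smul_mem _ _ (Submodule.subset_span ⟨j, rfl⟩))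

theorem exists_fg_sup_pow {B : Type u} {A : Type v} [CommRing B] [CommRing A] [Algebra B A]
    [IsNoetherianRing A] (m : Ideal A)
    (h1 : ∀ x : A, ∃ b : B, x - algebraMap B A b ∈ m) (M : ℕ) :
    ∃ N : Submodule B A, N.FG ∧ ∀ x : A, x ∈ N ⊔ (m ^ M).restrictScalars B := by
  induction M with
  | zero =>
    refine ⟨⊥, Submodule.fg_bot, fun x => Submodule.mem_sup_right ?_⟩
    rw [pow_zero, Ideal.one_eq_top]
    exact (Submodule.restrictScalars_mem B _ x).mpr Submodule.mem_top
  | succ M ih =>
    obtain ⟨N, hN, hN2⟩ := ih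
    obtain ⟨s, hs⟩ : (m ^ M).FG := IsNoetherian.noetherian _
    have key : ∀ y ∈ m ^ M,
        y ∈ Submodule.span B (s : Set A) ⊔ (m ^ (M + 1)).restrictScalars B := by
      intro y hy
      rw [← hs] at hy
      induction hy using Submodule.span_induction with
      | mem v hv => exact Submodule.mem_sup_left (Submodule.subset_span hv)
      | zero => exact Submodule.zero_mem _
      | add u v _ _ hu hv => exact Submodule.add_mem _ hu hv
      | smul r v hv ih =>
        obtain ⟨b, hb⟩ := h1 r
        have hvM : v ∈ m ^ M := by rw [← hs]; exact hv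
        have e1 : r • v = b • v + (r - algebraMap B A b) * v := by
          rw [Algebra.smul_def b v, smul_eq_mul]; ring
        rw [e1]
        refine Submodule.add_mem _ (Submodule.smul_mem _ b ih) (Submodule.mem_sup_right ?_)
        show (r - algebraMap B A b) * v ∈ m ^ (M + 1)
        rw [pow_succ']
        exact Ideal.mul_mem_mul hb hvM
    refine ⟨N ⊔ Submodule.span B (s : Set A), hN.sup (Submodule.fg_span s.finite_toSet),
      fun x => ?_⟩
    obtain ⟨n, hn, y, hy, rfl⟩ := Submodule.mem_sup.mp (hN2 x)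
    rw [sup_assoc]
    exact Submodule.add_mem_sup hn (key y hy)

theorem exists_pow_le_map (B : Type u) (A : Type v) [CommRing B] [CommRing A] [Algebra B A]
    [IsNoetherianRing A] [IsLocalRing A] [IsLocalRing B] [Algebra.IsIntegral B A] :
    ∃ M : ℕ, maximalIdeal A ^ M ≤ (maximalIdeal B).map (algebraMap B A) := by
  have hle : maximalIdeal A ≤ ((maximalIdeal B).map (algebraMap B A)).radical := by
    rw [Ideal.radical_eq_sInf]
    apply le_sInf
    rintro P ⟨hJP, hP⟩
    haveI := hP
    have h1 : maximalIdeal B ≤ P.comap (algebraMap B A) := Ideal.map_le_iff_le_comap.mp hJP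
    have h2 : maximalIdeal B = P.comap (algebraMap B A) :=
      (IsLocalRing.maximalIdeal.isMaximal B).eq_of_le
        (inferInstance : (P.comap (algebraMap B A)).IsPrime).ne_top h1
    have h3 : (P.comap (algebraMap B A)).IsMaximal := h2 ▸ IsLocalRing.maximalIdeal.isMaximal B
    have h4 : P.IsMaximal := Ideal.isMaximal_of_isIntegral_of_isMaximal_comap P h3
    exact (IsLocalRing.eq_maximalIdeal h4).ge
  obtain ⟨n, hn⟩ := Ideal.exists_radical_pow_le_of_fg ((maximalIdeal B).map (algebraMap B A))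
    (IsNoetherian.noetherian _)
  exact ⟨n, le_trans (Ideal.pow_right_mono hle n) hn⟩

theorem finite_of_complete {B : Type u} {A : Type v} [CommRing B] [CommRing A] [Algebra B A]
    [IsNoetherianRing A] [IsLocalRing A] [IsLocalRing B] [Algebra.IsIntegral B A]
    [IsAdicComplete (maximalIdeal A) A]
    (hclosed : ∀ (f : ℕ → B) (L : A), (∀ n, algebraMap B A (f n) - L ∈ maximalIdeal A ^ n) →
      L ∈ Set.range (algebraMap B A))
    (hmB : ∀ y ∈ maximalIdeal B, algebraMap B A y ∈ maximalIdeal A)
    (h1 : ∀ x : A, ∃ b : B, x - algebraMap B A b ∈ maximalIdeal A) : Module.Finite B A := by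
  obtain ⟨M, hM⟩ := exists_pow_le_map B A
  obtain ⟨N, hN, hN2⟩ := exists_fg_sup_pow (maximalIdeal A) h1 M
  obtain ⟨s, a, ha⟩ := Submodule.fg_iff_exists_fin_generating_family.mp hN
  have hgen : (⊤ : Submodule B A) ≤ Submodule.span B (Set.range a) ⊔ (maximalIdeal B) • ⊤ := by
    intro x _
    have hx := hN2 x
    rw [← ha] at hx
    have hle : ((maximalIdeal A ^ M).restrictScalars B) ≤
        (maximalIdeal B • ⊤ : Submodule B A) := by
      rw [Ideal.smul_top_eq_map]
      exact fun y hy => hM hy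
    have hle2 := sup_le_sup_left hle (Submodule.span B (Set.range a))
    exact hle2 hx
  have htop := top_le_of_complete (maximalIdeal A) hclosed (maximalIdeal B) hmB a hgen
  rw [Module.finite_def, ← eq_top_iff.mpr htop]
  exact Submodule.fg_span (Set.finite_range a)

theorem isAdicComplete_of_closed {B : Type u} {A : Type v} [CommRing B] [CommRing A]
    [Algebra B A] [IsNoetherianRing B] [Module.Finite B A]
    (hinj : Function.Injective (algebraMap B A))
    (m : Ideal A) [IsAdicComplete m A] (I : Ideal B)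
    (hI : ∀ y ∈ I, algebraMap B A y ∈ m)
    (M : ℕ) (hM : m ^ M ≤ I.map (algebraMap B A))
    (hclosed : ∀ (f : ℕ → B) (L : A), (∀ n, algebraMap B A (f n) - L ∈ m ^ n) →
      L ∈ Set.range (algebraMap B A)) :
    IsAdicComplete I B := by
  have hIpow : ∀ t, ∀ y ∈ I ^ t, algebraMap B A y ∈ m ^ t := by
    intro t y hy
    have h1 : I.map (algebraMap B A) ≤ m := Ideal.map_le_iff_le_comap.mpr (fun y hy => hI y hy)
    have h2 : algebraMap B A y ∈ (I ^ t).map (algebraMap B A) := Ideal.mem_map_of_mem _ hy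
    rw [Ideal.map_pow] at h2
    exact Ideal.pow_right_mono h1 t h2
  have hH : IsHausdorff I B := by
    refine ⟨fun x hx => ?_⟩
    apply hinj
    rw [map_zero]
    apply IsHausdorff.haus (I := m) IsAdicComplete.toIsHausdorff
    intro n
    rw [SModEq.zero, mem_pow_smul_top_iff]
    apply hIpow n
    have h1 := hx n
    rwa [SModEq.zero, mem_pow_smul_top_iff] at h1
  obtain ⟨c, hc⟩ := Ideal.exists_pow_inf_eq_pow_smul I (Submodule.span B {(1 : A)})
  have hP : IsPrecomplete I B := by
    refine ⟨fun {f} hf => ?_⟩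
    have hf' : ∀ {k n : ℕ}, k ≤ n → f k - f n ∈ I ^ k := by
      intro k n hkn
      have h1 := hf hkn
      rwa [SModEq.sub_mem, mem_pow_smul_top_iff] at h1
    obtain ⟨L, hL⟩ := IsPrecomplete.prec (I := m) (M := A) IsAdicComplete.toIsPrecomplete
      (f := fun n => algebraMap B A (f n)) (by
        intro k n hkn
        have h1 := hIpow k _ (hf' hkn)
        rw [map_sub] at h1
        exact (SModEq.sub_mem.mpr ((mem_pow_smul_top_iff m k _).mpr h1)))
    have hL' : ∀ n, algebraMap B A (f n) - L ∈ m ^ n := by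
      intro n
      have h1 := hL n
      rwa [SModEq.sub_mem, mem_pow_smul_top_iff] at h1
    obtain ⟨b, rfl⟩ := hclosed f L hL'
    refine ⟨b, fun n => ?_⟩
    rw [SModEq.sub_mem, mem_pow_smul_top_iff]
    obtain ⟨k, hk1, hk2⟩ : ∃ k, n ≤ k ∧ M * (n + c) ≤ k :=
      ⟨max n (M * (n + c)), le_max_left _ _, le_max_right _ _⟩
    have h1 : f n - f k ∈ I ^ n := hf' hk1
    have h2 : f k - b ∈ I ^ n := by
      have h3 : algebraMap B A (f k - b) ∈ m ^ (M * (n + c)) := by
        rw [map_sub]
        exact Ideal.pow_le_pow_right hk2 (hL' k)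
      have h4 : algebraMap B A (f k - b) ∈ (I ^ (n + c) • ⊤ : Submodule B A) := by
        rw [Ideal.smul_top_eq_map, Ideal.map_pow]
        rw [pow_mul] at h3
        exact Ideal.pow_right_mono hM (n + c) h3
      have h5 : algebraMap B A (f k - b) ∈
          ((I ^ (n + c) • ⊤ : Submodule B A) ⊓ Submodule.span B {(1 : A)}) := by
        refine ⟨h4, ?_⟩
        rw [Algebra.algebraMap_eq_smul_one]
        exact Submodule.smul_mem _ _ (Submodule.subset_span rfl)
      rw [hc (n + c) (Nat.le_add_left c n), Nat.add_sub_cancel] at h5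
      have h6 : algebraMap B A (f k - b) ∈ (I ^ n • Submodule.span B {(1 : A)} : Submodule B A) :=
        Submodule.smul_mono le_rfl inf_le_right h5
      obtain ⟨y, hy, hy1⟩ := Submodule.mem_smul_span_singleton.mp h6
      have h7 : y = f k - b := by
        apply hinj
        rw [← hy1, Algebra.algebraMap_eq_smul_one]
      rw [← h7]
      exact hy
    have h8 : f n - b = (f n - f k) + (f k - b) := by ring
    rw [h8]
    exact (I ^ n).add_mem h1 h2
  exact { toIsHausdorff := hH, toIsPrecomplete := hP }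

theorem closed_fixed {A : Type u} [CommRing A] [IsLocalRing A] [IsHausdorff (maximalIdeal A) A]
    (G : Type w) [Group G] [MulSemiringAction G A]
    (f : ℕ → A) (L : A) (hf : ∀ n (g : G), g • f n = f n)
    (hL : ∀ n, f n - L ∈ maximalIdeal A ^ n) : ∀ g : G, g • L = L := by
  have hsm : ∀ (g : G) (n : ℕ) (x : A), x ∈ maximalIdeal A ^ n → g • x ∈ maximalIdeal A ^ n := by
    intro g n x hx
    have h1 : (maximalIdeal A).map (MulSemiringAction.toRingHom G A g) ≤ maximalIdeal A := by
      rw [Ideal.map_le_iff_le_comap]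
      intro y hy
      show g • y ∈ maximalIdeal A
      rw [mem_maximalIdeal, mem_nonunits_iff] at hy ⊢
      intro hu
      apply hy
      have h3 : IsUnit (g⁻¹ • (g • y)) := hu.map (MulSemiringAction.toRingHom G A g⁻¹)
      rwa [inv_smul_smul] at h3
    have h2 : MulSemiringAction.toRingHom G A g x ∈
        (maximalIdeal A ^ n).map (MulSemiringAction.toRingHom G A g) :=
      Ideal.mem_map_of_mem _ hx
    rw [Ideal.map_pow] at h2
    exact Ideal.pow_right_mono h1 n h2
  intro g
  rw [← sub_eq_zero]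
  apply IsHausdorff.haus (I := maximalIdeal A) inferInstance
  intro n
  rw [SModEq.zero, mem_pow_smul_top_iff]
  have h1 : L - f n ∈ maximalIdeal A ^ n := by
    have h0 := (maximalIdeal A ^ n).neg_mem (hL n)
    rwa [neg_sub] at h0
  have h2 := hsm g n _ h1
  rw [smul_sub, hf n g] at h2
  have h3 : g • L - L = (g • L - f n) + (f n - L) := by ring
  rw [h3]
  exact (maximalIdeal A ^ n).add_mem h2 (hL n)

end Groth.Agent.H9.WQFix
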