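import Mathlib
import Groth.Agent.Lib.Helper1.RegNormal
import Groth.Agent.Lib.Helper7.Reg1
import Groth.Agent.Lib.Helper3.EakinNagata
import Groth.Agent.Lib.Helper9.Misc.ValFinA
import Groth.Agent.Lib.Helper9.Misc.FinComp
import Groth.Agent.Lib.Helper9.Misc.WQInB
import Groth.Agent.Lib.Helper9.Misc.WQFixA

set_option autoImplicit false
universe u v w

namespace Groth.Agent.H9.WQFix

open IsLocalRing

theorem main_general (p : ℕ) [Fact p.Prime] (A : Type u) [CommRing A] [IsRegularLocalRing A]
    [IsAdicComplete (maximalIdeal A) A] (hdim : 2 ≤ ringKrullDim A)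
    (k : Type v) [Field k] [Algebra k A]
    (hk : Function.Surjective (IsLocalRing.residue A ∘ algebraMap k A))
    (G : Type w) [Group G] [Finite G] [MulSemiringAction G A] (hcard : Nat.card G = p)
    (hGk : ∀ (σ : G) (c : k), σ • algebraMap k A c = algebraMap k A c)
    (hram : ∀ P : Ideal A, P.IsPrime → P ≠ maximalIdeal A → P.inertia G = ⊥)
    (B : Type u) [CommRing B] [Algebra B A] (hinj : Function.Injective (algebraMap B A))
    [SMulCommClass G B A]
    (hfix : ∀ a : A, (∀ g : G, g • a = a) → a ∈ Set.range (algebraMap B A)) :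
    IsNoetherianRing B ∧ Module.Finite B A ∧ IsIntegrallyClosed B ∧
      ringKrullDim B = ringKrullDim A ∧
      IsAdicComplete ((maximalIdeal A).comap (algebraMap B A)) B ∧
      ¬ IsRegularLocalRing B ∧ ¬ Module.Flat B A := by
  classical
  haveI : IsDomain A := Groth.Agent.H7.Reg.isDomain A
  haveI : IsIntegrallyClosed A := Groth.Agent.H1.Reg.isIntegrallyClosed A
  have hp : p.Prime := Fact.out
  have hdiv : ∀ (a : A) (c₁ c₂ : B), c₂ ≠ 0 → a * algebraMap B A c₂ = algebraMap B A c₁ →
      a ∈ Set.range (algebraMap B A) := by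
    intro a c₁ c₂ hc₂ hac
    apply hfix
    intro g
    have hc₂A : algebraMap B A c₂ ≠ 0 := fun h => hc₂ (hinj (h.trans (map_zero _).symm))
    have h1 : g • a * algebraMap B A c₂ = a * algebraMap B A c₂ := by
      have h2 : g • (a * algebraMap B A c₂) = a * algebraMap B A c₂ := by
        rw [hac, smul_algebraMap]
      rwa [smul_mul', smul_algebraMap] at h2
    exact mul_right_cancel₀ hc₂A h1
  haveI : IsDomain B := Function.Injective.isDomain (algebraMap B A) hinj
  haveI hlocB : IsLocalRing B := isLocalRing_of_div B A hinj hdiv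
  haveI hicB : IsIntegrallyClosed B := isIntegrallyClosed_of_div B A hinj hdiv
  have hunit : ∀ c : B, IsUnit c ↔ IsUnit (algebraMap B A c) := isUnit_iff_of_div B A hinj hdiv
  haveI : Algebra.IsInvariant B A G := ⟨hfix⟩
  haveI : Algebra.IsIntegral B A := Algebra.IsInvariant.isIntegral B A G
  have hmB : ∀ y ∈ maximalIdeal B, algebraMap B A y ∈ maximalIdeal A := by
    intro y hy
    rw [mem_maximalIdeal, mem_nonunits_iff] at hy ⊢
    rwa [← hunit]
  have hcomap : (maximalIdeal A).comap (algebraMap B A) = maximalIdeal B := by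
    ext y
    rw [Ideal.mem_comap, mem_maximalIdeal, mem_maximalIdeal, mem_nonunits_iff, mem_nonunits_iff,
      hunit]
  have h1 : ∀ x : A, ∃ b : B, x - algebraMap B A b ∈ maximalIdeal A := by
    intro x
    obtain ⟨c, hc⟩ := hk (IsLocalRing.residue A x)
    have hc' : IsLocalRing.residue A (algebraMap k A c) = IsLocalRing.residue A x := hc
    obtain ⟨b, hb⟩ := hfix (algebraMap k A c) (fun g => hGk g c)
    refine ⟨b, ?_⟩
    rw [hb]
    exact Ideal.Quotient.eq.mp hc'.symm
  have hclosed : ∀ (f : ℕ → B) (L : A),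
      (∀ n, algebraMap B A (f n) - L ∈ maximalIdeal A ^ n) →
      L ∈ Set.range (algebraMap B A) := by
    intro f L hL
    apply hfix
    exact closed_fixed G (fun n => algebraMap B A (f n)) L
      (fun n g => smul_algebraMap g (f n)) hL
  haveI hfin : Module.Finite B A := finite_of_complete hclosed hmB h1
  haveI hnoeth : IsNoetherianRing B := Groth.Agent.H3.EN.isNoetherianRing_of_finite B A hinj
  have hdimeq : ringKrullDim B = ringKrullDim A :=
    le_antisymm (Groth.Agent.H9.ValFin.ringKrullDim_le_of_integral_injective hinj)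
      (Groth.Agent.H9.FinComp.ringKrullDim_le_of_isIntegral B A)
  have hcompl : IsAdicComplete ((maximalIdeal A).comap (algebraMap B A)) B := by
    rw [hcomap]
    obtain ⟨M, hM⟩ := exists_pow_le_map B A
    exact isAdicComplete_of_closed hinj (maximalIdeal A) (maximalIdeal B) hmB M hM hclosed
  have hne : ∀ P : Ideal A, P.height ≤ 1 → P ≠ maximalIdeal A := by
    intro P hP hPm
    have h2 : ((maximalIdeal A).height : WithBot ℕ∞) = ringKrullDim A :=
      IsLocalRing.maximalIdeal_height_eq_ringKrullDim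
    rw [← hPm] at h2
    have h3 : (2 : WithBot ℕ∞) ≤ (P.height : WithBot ℕ∞) := by rw [h2]; exact hdim
    have e : (2 : WithBot ℕ∞) = ((2 : ℕ∞) : WithBot ℕ∞) := rfl
    rw [e, WithBot.coe_le_coe] at h3
    exact absurd (le_trans h3 hP) (by decide)
  haveI hfaith : FaithfulSMul G A := by
    refine ⟨fun {g₁ g₂} h => ?_⟩
    have hbot : (⊥ : Ideal A).inertia G = ⊥ :=
      hram ⊥ Ideal.isPrime_bot (hne ⊥ (by rw [Ideal.height_bot]; simp))
    have hmem : g₂⁻¹ * g₁ ∈ (⊥ : Ideal A).inertia G := by
      show ∀ x : A, (g₂⁻¹ * g₁) • x - x ∈ (⊥ : Ideal A)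
      intro x
      rw [mul_smul, h x, inv_smul_smul, sub_self]
      exact Ideal.zero_mem _
    rw [hbot, Subgroup.mem_bot] at hmem
    calc g₁ = g₂ * (g₂⁻¹ * g₁) := by group
      _ = g₂ := by rw [hmem, mul_one]
  have hres : Function.Surjective (IsLocalRing.residue A ∘ algebraMap B A) := by
    intro xbar
    obtain ⟨x, rfl⟩ := Ideal.Quotient.mk_surjective xbar
    obtain ⟨b, hb⟩ := h1 x
    refine ⟨b, ?_⟩
    show Ideal.Quotient.mk (maximalIdeal A) (algebraMap B A b) =
      Ideal.Quotient.mk (maximalIdeal A) x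
    apply Ideal.Quotient.eq.mpr
    have h0 := (maximalIdeal A).neg_mem hb
    rwa [neg_sub] at h0
  have hnotreg : ¬ IsRegularLocalRing B := by
    intro hreg
    haveI := hreg
    have hsup := Groth.Agent.H9.WQIn.iSup_inertia_eq_top B A hinj hres G hfix
    have hbot : (⨆ P : {P : Ideal A // P.IsPrime ∧ P.height = 1}, P.1.inertia G) = ⊥ := by
      rw [iSup_eq_bot]
      intro P
      exact hram P.1 P.2.1 (hne P.1 (le_of_eq P.2.2))
    rw [hbot] at hsup
    have h3 : Nat.card (⊥ : Subgroup G) = Nat.card (⊤ : Subgroup G) := by rw [hsup]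
    rw [Subgroup.card_bot, Subgroup.card_top, hcard] at h3
    exact hp.one_lt.ne h3
  have hloch : IsLocalHom (algebraMap B A) := ⟨fun b hb => (hunit b).mpr hb⟩
  have hnotflat : ¬ Module.Flat B A := by
    intro hflat
    haveI := hflat
    haveI := hloch
    exact hnotreg (Groth.Agent.H1.Reg.isRegularLocalRing_of_flat B A)
  exact ⟨hnoeth, hfin, hicB, hdimeq, hcompl, hnotreg, hnotflat⟩

end Groth.Agent.H9.WQFix
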