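import Mathlib
import Groth.Agent.Lib.Helper1.RegNormal
import Groth.Agent.Lib.Helper7.Reg1
import Groth.Agent.Lib.Helper9.Misc.WQFixB
import Groth.Agent.Lib.Helper9.Misc.WQExtC

set_option autoImplicit false
universe u v w

namespace Groth.Agent.H9.WQExt

open IsLocalRing Polynomial

attribute [local instance] FractionRing.liftAlgebra

theorem exists_ringHom_ext (p : ℕ) [Fact p.Prime] (A : Type u) [CommRing A]
    [IsRegularLocalRing A] [IsAdicComplete (maximalIdeal A) A] (hdim : 2 ≤ ringKrullDim A)
    (k : Type v) [Field k] [Algebra k A]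
    (hk : Function.Surjective (IsLocalRing.residue A ∘ algebraMap k A))
    (hkp : ∀ (L : Type v) [Field L] [Algebra k L], IsGalois k L → Module.finrank k L ≠ p)
    (G : Type w) [Group G] [Finite G] [MulSemiringAction G A] (hcard : Nat.card G = p)
    (hram : ∀ P : Ideal A, P.IsPrime → P ≠ maximalIdeal A → P.inertia G = ⊥)
    (B : Type u) [CommRing B] [IsDomain B] [IsIntegrallyClosed B] [Algebra B A]
    [Module.Finite B A] [IsGaloisGroup G B A] [FaithfulSMul B A]
    (φ : B ≃+* B) :
    ∃ ψ₀ : FractionRing A →+* FractionRing A, ∀ b : B,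
      ψ₀ (algebraMap B (FractionRing A) b) = algebraMap B (FractionRing A) (φ b) := by
  classical
  haveI : IsDomain A := Groth.Agent.H7.Reg.isDomain A
  letI actL : MulSemiringAction G (FractionRing A) :=
    IsFractionRing.mulSemiringAction G A (FractionRing A)
  haveI : SMulDistribClass G A (FractionRing A) :=
    IsFractionRing.smulDistribClass G A (FractionRing A)
  haveI hGKL : IsGaloisGroup G (FractionRing B) (FractionRing A) :=
    IsGaloisGroup.to_isFractionRing G B A (FractionRing B) (FractionRing A)
  haveI : FiniteDimensional (FractionRing B) (FractionRing A) :=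
    IsGaloisGroup.finiteDimensional G (FractionRing B) (FractionRing A)
  haveI : IsGalois (FractionRing B) (FractionRing A) :=
    IsGaloisGroup.isGalois G (FractionRing B) (FractionRing A)
  obtain ⟨φK, hφK⟩ : ∃ φK : FractionRing B ≃+* FractionRing B,
      ∀ b, φK (algebraMap B (FractionRing B) b) = algebraMap B (FractionRing B) (φ b) :=
    ⟨IsFractionRing.ringEquivOfRingEquiv φ,
      fun b => IsFractionRing.ringEquivOfRingEquiv_algebraMap φ b⟩
  haveI : FiniteDimensional (FractionRing A)
      (twPoly (FractionRing B) (FractionRing A) φK).SplittingField :=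
    IsSplittingField.finiteDimensional _ (twPoly (FractionRing B) (FractionRing A) φK)
  haveI : IsGalois (FractionRing A)
      (twPoly (FractionRing B) (FractionRing A) φK).SplittingField :=
    IsGalois.of_separable_splitting_field (twPoly_separable (FractionRing B) (FractionRing A) φK)
  obtain ⟨ι, h1, h2, h3⟩ := part1 (FractionRing B) (FractionRing A) φK
    (twPoly (FractionRing B) (FractionRing A) φK).SplittingField
  exact partC_aux p A hdim k hk hkp G hcard hram B (FractionRing B) (FractionRing A) φ φK hφK
    (twPoly (FractionRing B) (FractionRing A) φK).SplittingField ι h1 h2 h3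

theorem exists_ringEquiv_restrict (A B : Type u) [CommRing A] [IsDomain A] [IsIntegrallyClosed A]
    [CommRing B] [IsDomain B] [Algebra B A] [Algebra.IsIntegral B A] [FaithfulSMul B A]
    (φ : B ≃+* B) (ψ₀ ψ₀' : FractionRing A →+* FractionRing A)
    (h : ∀ b : B, ψ₀ (algebraMap B (FractionRing A) b) = algebraMap B (FractionRing A) (φ b))
    (h' : ∀ b : B, ψ₀' (algebraMap B (FractionRing A) b) =
      algebraMap B (FractionRing A) (φ.symm b)) :
    ∃ ψA : A ≃+* A, ∀ b : B, ψA (algebraMap B A b) = algebraMap B A (φ b) := by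
  classical
  have hinjAL := IsFractionRing.injective A (FractionRing A)
  haveI : Algebra.IsAlgebraic (FractionRing B) (FractionRing A) :=
    isAlgebraic_of_isFractionRing B A (FractionRing B) (FractionRing A)
  have hcK : ∀ x : FractionRing B,
      ψ₀ (ψ₀' (algebraMap (FractionRing B) (FractionRing A) x)) =
        algebraMap (FractionRing B) (FractionRing A) x := by
    have heq : ((ψ₀.comp ψ₀').comp (algebraMap (FractionRing B) (FractionRing A))) =
        algebraMap (FractionRing B) (FractionRing A) := by
      apply IsLocalization.ringHom_ext (nonZeroDivisors B)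
      ext b
      show ψ₀ (ψ₀' (algebraMap (FractionRing B) (FractionRing A)
        (algebraMap B (FractionRing B) b))) =
        algebraMap (FractionRing B) (FractionRing A) (algebraMap B (FractionRing B) b)
      rw [← IsScalarTower.algebraMap_apply B (FractionRing B) (FractionRing A), h', h,
        φ.apply_symm_apply]
    intro x
    exact congrArg (fun f => f x) heq
  obtain ⟨cK, hcKdef⟩ : ∃ cK : FractionRing A →ₐ[FractionRing B] FractionRing A,
      ∀ y, cK y = ψ₀ (ψ₀' y) :=
    ⟨{ toRingHom := ψ₀.comp ψ₀', commutes' := hcK }, fun y => rfl⟩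
  have hcbij := Algebra.IsAlgebraic.algHom_bijective cK
  have hsurj : Function.Surjective ψ₀ := by
    intro y
    obtain ⟨z, hz⟩ := hcbij.2 y
    exact ⟨ψ₀' z, by rw [← hcKdef, hz]⟩
  obtain ⟨eL, heL⟩ : ∃ eL : FractionRing A ≃+* FractionRing A, ∀ y, eL y = ψ₀ y :=
    ⟨RingEquiv.ofBijective ψ₀ ⟨ψ₀.injective, hsurj⟩, fun y => rfl⟩
  have hfwd : ∀ a : A, ∃ a' : A,
      algebraMap A (FractionRing A) a' = ψ₀ (algebraMap A (FractionRing A) a) := by
    intro a
    have hc : (algebraMap B (FractionRing A)).comp (φ : B →+* B) =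
        ψ₀.comp (algebraMap B (FractionRing A)) := by
      ext b
      exact (h b).symm
    have ha : IsIntegral B (algebraMap A (FractionRing A) a) :=
      (Algebra.IsIntegral.isIntegral (R := B) a).algebraMap
    have h4 : IsIntegral B (ψ₀ (algebraMap A (FractionRing A) a)) :=
      IsIntegral.map_of_comp_eq (φ : B →+* B) ψ₀ hc ha
    exact IsIntegrallyClosed.isIntegral_iff.mp h4.tower_top
  have hbwd : ∀ a : A, ∃ a' : A,
      algebraMap A (FractionRing A) a' = eL.symm (algebraMap A (FractionRing A) a) := by
    intro a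
    have hc : (algebraMap B (FractionRing A)).comp (φ.symm : B →+* B) =
        (eL.symm : FractionRing A →+* FractionRing A).comp (algebraMap B (FractionRing A)) := by
      ext b
      show algebraMap B (FractionRing A) (φ.symm b) =
        eL.symm (algebraMap B (FractionRing A) b)
      rw [RingEquiv.eq_symm_apply, heL, h, φ.apply_symm_apply]
    have ha : IsIntegral B (algebraMap A (FractionRing A) a) :=
      (Algebra.IsIntegral.isIntegral (R := B) a).algebraMap
    have h4 : IsIntegral B ((eL.symm : FractionRing A →+* FractionRing A)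
        (algebraMap A (FractionRing A) a)) :=
      IsIntegral.map_of_comp_eq (φ.symm : B →+* B)
        (eL.symm : FractionRing A →+* FractionRing A) hc ha
    exact IsIntegrallyClosed.isIntegral_iff.mp h4.tower_top
  choose f hf using hfwd
  choose g hg using hbwd
  refine ⟨{ toFun := f, invFun := g, left_inv := ?_, right_inv := ?_, map_mul' := ?_,
            map_add' := ?_ }, ?_⟩
  · intro a
    apply hinjAL
    rw [hg, hf, ← heL, eL.symm_apply_apply]
  · intro a
    apply hinjAL
    rw [hf, hg, ← heL, eL.apply_symm_apply]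
  · intro a b
    apply hinjAL
    show algebraMap A (FractionRing A) (f (a * b)) = algebraMap A (FractionRing A) (f a * f b)
    simp only [map_mul, hf]
  · intro a b
    apply hinjAL
    show algebraMap A (FractionRing A) (f (a + b)) = algebraMap A (FractionRing A) (f a + f b)
    simp only [map_add, hf]
  · intro b
    apply hinjAL
    show algebraMap A (FractionRing A) (f (algebraMap B A b)) =
      algebraMap A (FractionRing A) (algebraMap B A (φ b))
    rw [hf, ← IsScalarTower.algebraMap_apply B A (FractionRing A), h,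
      ← IsScalarTower.algebraMap_apply B A (FractionRing A)]

theorem main (p : ℕ) [Fact p.Prime] (A : Type u) [CommRing A] [IsRegularLocalRing A]
    [IsAdicComplete (IsLocalRing.maximalIdeal A) A] (hdim : 2 ≤ ringKrullDim A)
    (k : Type v) [Field k] [Algebra k A]
    (hk : Function.Surjective (IsLocalRing.residue A ∘ algebraMap k A))
    (hkp : ∀ (L : Type v) [Field L] [Algebra k L], IsGalois k L → Module.finrank k L ≠ p)
    (G : Type w) [Group G] [Finite G] [MulSemiringAction G A] (hcard : Nat.card G = p)
    [SMulCommClass G k A]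
    (hram : ∀ P : Ideal A, P.IsPrime → P ≠ IsLocalRing.maximalIdeal A → P.inertia G = ⊥)
    (φ : FixedPoints.subalgebra k A G ≃ₐ[k] FixedPoints.subalgebra k A G) :
    ∃ ψ : A ≃ₐ[k] A, ∀ x : FixedPoints.subalgebra k A G, ψ x = φ x := by
  classical
  haveI : IsDomain A := Groth.Agent.H7.Reg.isDomain A
  haveI : IsIntegrallyClosed A := Groth.Agent.H1.Reg.isIntegrallyClosed A
  have hGk : ∀ (σ : G) (c : k), σ • algebraMap k A c = algebraMap k A c := by
    intro σ c
    rw [Algebra.algebraMap_eq_smul_one, smul_comm, smul_one]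
  haveI hcommBA : SMulCommClass G (FixedPoints.subalgebra k A G) A := by
    refine ⟨fun g b a => ?_⟩
    rw [Algebra.smul_def, Algebra.smul_def, smul_mul']
    congr 1
    exact b.2 g
  have hinjBA : Function.Injective (algebraMap (FixedPoints.subalgebra k A G) A) :=
    fun x y hxy => Subtype.ext hxy
  obtain ⟨-, hfinBA, hicB, -, -, -, -⟩ := Groth.Agent.H9.WQFix.main_general p A hdim k hk G
    hcard hGk hram (FixedPoints.subalgebra k A G) hinjBA (fun a ha => ⟨⟨a, ha⟩, rfl⟩)
  haveI := hfinBA
  haveI := hicB
  haveI : FaithfulSMul (FixedPoints.subalgebra k A G) A :=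
    (faithfulSMul_iff_algebraMap_injective _ _).mpr hinjBA
  have hbotne : (⊥ : Ideal A) ≠ maximalIdeal A := by
    intro hb
    have hh : ((maximalIdeal A).height : WithBot ℕ∞) = ringKrullDim A :=
      IsLocalRing.maximalIdeal_height_eq_ringKrullDim
    rw [← hb, Ideal.height_bot] at hh
    rw [← hh] at hdim
    have e : (2 : WithBot ℕ∞) = ((2 : ℕ∞) : WithBot ℕ∞) := rfl
    rw [e, WithBot.coe_le_coe] at hdim
    exact absurd hdim (by decide)
  haveI hfaithA : FaithfulSMul G A := by
    refine ⟨fun {g₁ g₂} h => ?_⟩
    have hbot : (⊥ : Ideal A).inertia G = ⊥ := hram ⊥ Ideal.isPrime_bot hbotne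
    have hmem : g₂⁻¹ * g₁ ∈ (⊥ : Ideal A).inertia G := by
      show ∀ x : A, (g₂⁻¹ * g₁) • x - x ∈ (⊥ : Ideal A)
      intro x
      rw [mul_smul, h x, inv_smul_smul, sub_self]
      exact Ideal.zero_mem _
    rw [hbot, Subgroup.mem_bot] at hmem
    calc g₁ = g₂ * (g₂⁻¹ * g₁) := by group
      _ = g₂ := by rw [hmem, mul_one]
  haveI : IsGaloisGroup G (FixedPoints.subalgebra k A G) A :=
    ⟨hfaithA, hcommBA, ⟨fun a ha => ⟨⟨a, ha⟩, rfl⟩⟩⟩
  haveI : Algebra.IsIntegral (FixedPoints.subalgebra k A G) A := Algebra.IsIntegral.of_finite _ _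
  obtain ⟨ψ₀, hψ₀⟩ := exists_ringHom_ext p A hdim k hk hkp G hcard hram
    (FixedPoints.subalgebra k A G) φ.toRingEquiv
  obtain ⟨ψ₀', hψ₀'⟩ := exists_ringHom_ext p A hdim k hk hkp G hcard hram
    (FixedPoints.subalgebra k A G) φ.symm.toRingEquiv
  obtain ⟨ψA, hψA⟩ := exists_ringEquiv_restrict A (FixedPoints.subalgebra k A G) φ.toRingEquiv
    ψ₀ ψ₀' hψ₀ (fun b => hψ₀' b)
  have hk' : ∀ c : k, ψA (algebraMap k A c) = algebraMap k A c := by
    intro c
    have h1 := hψA (algebraMap k (FixedPoints.subalgebra k A G) c)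
    have h2 : φ.toRingEquiv (algebraMap k (FixedPoints.subalgebra k A G) c) =
        algebraMap k (FixedPoints.subalgebra k A G) c := φ.commutes c
    rw [h2] at h1
    exact h1
  refine ⟨AlgEquiv.ofRingEquiv (f := ψA) hk', fun x => ?_⟩
  exact hψA x

end Groth.Agent.H9.WQExt
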