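import Mathlib
import Groth.Agent.Lib.Helper9.Misc.WQExtD

set_option autoImplicit false
universe u v w

namespace Groth.Agent.H9.WQCount

open IsLocalRing

attribute [local instance] FractionRing.liftAlgebra

/-- For a domain `A` finite over a subring `R`, the `R`-automorphisms of `A` form a finite group
of order at most the rank. -/
theorem card_algEquiv_le (R : Type v) (A : Type u) [CommRing R] [CommRing A] [IsDomain A]
    [Algebra R A] [Module.Finite R A] (hinj : Function.Injective (algebraMap R A)) :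
    Finite (A ≃ₐ[R] A) ∧ Nat.card (A ≃ₐ[R] A) ≤ Module.finrank R A := by
  classical
  haveI : IsDomain R := hinj.isDomain (algebraMap R A)
  haveI : FaithfulSMul R A := (faithfulSMul_iff_algebraMap_injective R A).mpr hinj
  have hpos : 0 < Module.finrank R A := Module.finrank_pos
  have hfr : Module.finrank (FractionRing R) (FractionRing A) = Module.finrank R A :=
    IsFractionRing.finrank_eq R (FractionRing R) A (FractionRing A)
  haveI : FiniteDimensional (FractionRing R) (FractionRing A) :=
    FiniteDimensional.of_finrank_pos (by rw [hfr]; exact hpos)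
  have hinj' := IsFractionRing.fieldEquivOfAlgEquivHom_injective R A (FractionRing R)
    (FractionRing A)
  haveI hfin : Finite (A ≃ₐ[R] A) := Finite.of_injective _ hinj'
  refine ⟨hfin, ?_⟩
  have h2 : Nat.card (FractionRing A ≃ₐ[FractionRing R] FractionRing A) ≤
      Module.finrank (FractionRing R) (FractionRing A) := by
    rw [Nat.card_eq_fintype_card]
    exact AlgEquiv.card_le
  calc Nat.card (A ≃ₐ[R] A)
      ≤ Nat.card (FractionRing A ≃ₐ[FractionRing R] FractionRing A) :=
        Nat.card_le_card_of_injective _ hinj'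
    _ ≤ Module.finrank (FractionRing R) (FractionRing A) := h2
    _ = Module.finrank R A := hfr

theorem main (p : ℕ) [Fact p.Prime] (A : Type u) [CommRing A] [IsRegularLocalRing A]
    [IsAdicComplete (IsLocalRing.maximalIdeal A) A] (hdim : 2 ≤ ringKrullDim A)
    (k : Type v) [Field k] [Algebra k A]
    (hk : Function.Surjective (IsLocalRing.residue A ∘ algebraMap k A))
    (hkp : ∀ (L : Type v) [Field L] [Algebra k L], IsGalois k L → Module.finrank k L ≠ p)
    (G : Type w) [Group G] [Finite G] [MulSemiringAction G A] (hcard : Nat.card G = p)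
    [SMulCommClass G k A]
    (hram : ∀ P : Ideal A, P.IsPrime → P ≠ IsLocalRing.maximalIdeal A → P.inertia G = ⊥)
    (R : Type v) [CommRing R] [Algebra k R] [Algebra R A] [IsScalarTower k R A] [Module.Finite R A]
    (hRinj : Function.Injective (algebraMap R A))
    (hRG : ∀ (σ : G) (r : R), σ • algebraMap R A r = algebraMap R A r)
    (hgal : p * Nat.card {φ : FixedPoints.subalgebra k A G ≃ₐ[k] FixedPoints.subalgebra k A G //
        ∀ b : FixedPoints.subalgebra k A G, (b : A) ∈ Set.range (algebraMap R A) → (φ b : A) = b} =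
      Module.finrank R A) :
    Nat.card (A ≃ₐ[R] A) = Module.finrank R A := by
  classical
  haveI : IsDomain A := Groth.Agent.H7.Reg.isDomain A
  obtain ⟨hfin, hle⟩ := card_algEquiv_le R A hRinj
  haveI := hfin
  refine le_antisymm hle ?_
  have hbotne : (⊥ : Ideal A) ≠ maximalIdeal A := by
    intro hb
    have hh : ((maximalIdeal A).height : WithBot ℕ∞) = ringKrullDim A :=
      IsLocalRing.maximalIdeal_height_eq_ringKrullDim
    rw [← hb, Ideal.height_bot] at hh
    rw [← hh] at hdim
    have e : (2 : WithBot ℕ∞) = ((2 : ℕ∞) : WithBot ℕ∞) := rfl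
    rw [e, WithBot.coe_le_coe] at hdim
    exact absurd hdim (by decide)
  have hfaithA : ∀ g₁ g₂ : G, (∀ x : A, g₁ • x = g₂ • x) → g₁ = g₂ := by
    intro g₁ g₂ h
    have hbot : (⊥ : Ideal A).inertia G = ⊥ := hram ⊥ Ideal.isPrime_bot hbotne
    have hmem : g₂⁻¹ * g₁ ∈ (⊥ : Ideal A).inertia G := by
      show ∀ x : A, (g₂⁻¹ * g₁) • x - x ∈ (⊥ : Ideal A)
      intro x
      rw [mul_smul, h x, inv_smul_smul, sub_self]
      exact Ideal.zero_mem _
    rw [hbot, Subgroup.mem_bot] at hmem
    calc g₁ = g₂ * (g₂⁻¹ * g₁) := by group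
      _ = g₂ := by rw [hmem, mul_one]
  choose ψ hψ using
    fun φ : FixedPoints.subalgebra k A G ≃ₐ[k] FixedPoints.subalgebra k A G =>
      Groth.Agent.H9.WQExt.main p A hdim k hk hkp G hcard hram φ
  have hlin : ∀ (φ : {φ : FixedPoints.subalgebra k A G ≃ₐ[k] FixedPoints.subalgebra k A G //
        ∀ b : FixedPoints.subalgebra k A G, (b : A) ∈ Set.range (algebraMap R A) → (φ b : A) = b})
      (g : G) (r : R),
      ((MulSemiringAction.toRingEquiv G A g).trans (ψ φ.1).toRingEquiv) (algebraMap R A r) =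
        algebraMap R A r := by
    intro φ g r
    show ψ φ.1 (g • algebraMap R A r) = algebraMap R A r
    rw [hRG]
    have hmem : algebraMap R A r ∈ FixedPoints.subalgebra k A G := by
      show ∀ σ : G, σ • algebraMap R A r = algebraMap R A r
      exact fun σ => hRG σ r
    have h1 := hψ φ.1 ⟨algebraMap R A r, hmem⟩
    have h2 := φ.2 ⟨algebraMap R A r, hmem⟩ ⟨r, rfl⟩
    exact h1.trans h2
  obtain ⟨F, hF⟩ : ∃ F : {φ : FixedPoints.subalgebra k A G ≃ₐ[k] FixedPoints.subalgebra k A G //
        ∀ b : FixedPoints.subalgebra k A G, (b : A) ∈ Set.range (algebraMap R A) →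
          (φ b : A) = b} × G → (A ≃ₐ[R] A),
      ∀ x a, F x a = ψ x.1.1 (x.2 • a) :=
    ⟨fun x => AlgEquiv.ofRingEquiv
      (f := (MulSemiringAction.toRingEquiv G A x.2).trans (ψ x.1.1).toRingEquiv) (hlin x.1 x.2),
      fun x a => rfl⟩
  have hFinj : Function.Injective F := by
    rintro ⟨φ₁, g₁⟩ ⟨φ₂, g₂⟩ h
    have hx : ∀ a : A, ψ φ₁.1 (g₁ • a) = ψ φ₂.1 (g₂ • a) := by
      intro a
      have h1 := hF (φ₁, g₁) a
      have h2 := hF (φ₂, g₂) a
      rw [h] at h1
      exact h1.symm.trans h2
    have hφ : φ₁ = φ₂ := by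
      apply Subtype.ext
      apply AlgEquiv.ext
      intro b
      apply Subtype.ext
      have h3 := hx (b : A)
      have hb1 : g₁ • (b : A) = b := b.2 g₁
      have hb2 : g₂ • (b : A) = b := b.2 g₂
      rw [hb1, hb2, hψ φ₁.1 b, hψ φ₂.1 b] at h3
      exact h3
    subst hφ
    have hg : g₁ = g₂ :=
      hfaithA g₁ g₂ (fun a => (ψ φ₁.1).injective (hx a))
    rw [hg]
  have h1 := Nat.card_le_card_of_injective F hFinj
  rw [Nat.card_prod, hcard] at h1
  calc Module.finrank R A = p * Nat.card _ := hgal.symm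
    _ = Nat.card _ * p := mul_comm _ _
    _ ≤ Nat.card (A ≃ₐ[R] A) := h1

end Groth.Agent.H9.WQCount
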