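import Mathlib
import Groth.Agent.Lib.Helper6.QFNorm2

set_option autoImplicit false
universe u v w

namespace Groth.Agent.H9.WQGen

open IsLocalRing Groth.Agent.H6

section grp

variable {H : Type*} [Group H]

theorem normal_of_comm (hcomm : ∀ g h : H, g * h = h * g) (N : Subgroup H) : N.Normal :=
  ⟨fun x hx g => by rw [hcomm g x, mul_inv_cancel_right]; exact hx⟩

theorem card_le_mul_card_compl [Finite H] (hcomm : ∀ g h : H, g * h = h * g) {n : ℕ}
    (Gi : Fin n → Subgroup H) (hsup : (⨆ i, Gi i) = ⊤) (i : Fin n) :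
    Nat.card H ≤ Nat.card (Gi i) *
      Nat.card (⨆ j ∈ (Finset.univ.erase i : Finset (Fin n)), Gi j : Subgroup H) := by
  classical
  obtain ⟨N, hN⟩ : ∃ N : Subgroup H,
      N = ⨆ j ∈ (Finset.univ.erase i : Finset (Fin n)), Gi j := ⟨_, rfl⟩
  rw [← hN]
  haveI : N.Normal := normal_of_comm hcomm N
  have htop : Gi i ⊔ N = ⊤ := by
    rw [eq_top_iff, ← hsup]
    refine iSup_le fun j => ?_
    by_cases hji : j = i
    · rw [hji]; exact le_sup_left
    · refine le_trans ?_ le_sup_right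
      rw [hN]
      exact le_iSup₂_of_le j (Finset.mem_erase.mpr ⟨hji, Finset.mem_univ j⟩) le_rfl
  have hsurj : Function.Surjective (fun x : Gi i × N => (x.1 : H) * (x.2 : H)) := by
    intro h
    have hmem : h ∈ (↑(Gi i ⊔ N) : Set H) := by
      rw [htop, Subgroup.coe_top]; exact Set.mem_univ h
    rw [Subgroup.mul_normal] at hmem
    obtain ⟨a, ha, b, hb, hab⟩ := Set.mem_mul.mp hmem
    exact ⟨(⟨a, ha⟩, ⟨b, hb⟩), hab⟩
  have h1 := Nat.card_le_card_of_surjective _ hsurj
  rwa [Nat.card_prod] at h1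

theorem iInf_compl_eq_bot [Finite H] (hcomm : ∀ g h : H, g * h = h * g) {p n : ℕ}
    (hcard : Nat.card H = p ^ n) (Gi : Fin n → Subgroup H) (hGi : ∀ i, Nat.card (Gi i) = p)
    (hsup : (⨆ i, Gi i) = ⊤) :
    (⨅ i, (⨆ j ∈ (Finset.univ.erase i : Finset (Fin n)), Gi j : Subgroup H)) = ⊥ := by
  classical
  have hc : Pairwise fun i j : Fin n => ∀ x y : H, x ∈ Gi i → y ∈ Gi j → Commute x y :=
    fun i j _ x y _ _ => hcomm x y
  obtain ⟨φ, hφ⟩ : ∃ φ : (∀ i, Gi i) →* H, φ = Subgroup.noncommPiCoprod hc := ⟨_, rfl⟩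
  have hrange : φ.range = ⊤ := by rw [hφ, Subgroup.noncommPiCoprod_range, hsup]
  have hsurj : Function.Surjective φ := MonoidHom.range_eq_top.mp hrange
  have hcardpi : Nat.card (∀ i, Gi i) = p ^ n := by
    rw [Nat.card_pi]; simp [hGi]
  have hbij : Function.Bijective φ :=
    hsurj.bijective_of_nat_card_le (by rw [hcardpi, hcard])
  rw [eq_bot_iff]
  intro h hh
  rw [Subgroup.mem_iInf] at hh
  obtain ⟨x, rfl⟩ := hsurj h
  have hx : ∀ i, x i = 1 := by
    intro i
    have hi := hh i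
    have hle : (⨆ j ∈ (Finset.univ.erase i : Finset (Fin n)), Gi j : Subgroup H) ≤
        ((Pi.evalMonoidHom (fun i => Gi i) i).ker).map φ := by
      refine iSup₂_le fun j hj y hy => ?_
      have hji : j ≠ i := (Finset.mem_erase.mp hj).1
      refine Subgroup.mem_map.mpr ⟨Pi.mulSingle j ⟨y, hy⟩, ?_, ?_⟩
      · exact MonoidHom.mem_ker.mpr (Pi.mulSingle_eq_of_ne hji.symm _)
      · rw [hφ, Subgroup.noncommPiCoprod_mulSingle]
    obtain ⟨x', hx'ker, hx'⟩ := Subgroup.mem_map.mp (hle hi)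
    have hxx : x' = x := hbij.1 hx'
    rw [← hxx]
    exact MonoidHom.mem_ker.mp hx'ker
  have hx1 : x = 1 := funext hx
  rw [hx1, map_one]
  exact Subgroup.one_mem _

end grp

section height

theorem eq_bot_of_lt_height_one {C : Type*} [CommRing C] [IsDomain C] (Q P' : Ideal C)
    [Q.IsPrime] [P'.IsPrime] (hh : Q.height = 1) (hlt : P' < Q) : P' = ⊥ := by
  have hQ1 : Q.height ≤ ((1 : ℕ) : ℕ∞) := by rw [hh]; simp
  have h2 := (Ideal.height_le_iff.mp hQ1) _ inferInstance hlt
  rw [Nat.cast_one, ENat.lt_one_iff_eq_zero, Ideal.height_eq_zero_iff,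
    IsDomain.minimalPrimes_eq_singleton_bot] at h2
  exact h2

theorem eq_of_le_of_height_one {C : Type*} [CommRing C] [IsDomain C] (Q P' : Ideal C)
    [Q.IsPrime] [P'.IsPrime] (hh : Q.height = 1) (hle : P' ≤ Q) (hne : P' ≠ ⊥) : P' = Q := by
  by_contra hne'
  exact hne (eq_bot_of_lt_height_one Q P' hh (lt_of_le_of_ne hle hne'))

theorem eq_of_le_of_comap_eq {C : Type*} {A : Type*} [CommRing C] [CommRing A]
    [Algebra C A] [Algebra.IsIntegral C A] (P₁ P₂ : Ideal A) [P₁.IsPrime] (hle : P₁ ≤ P₂)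
    (h : P₁.comap (algebraMap C A) = P₂.comap (algebraMap C A)) : P₁ = P₂ := by
  by_contra hne
  obtain ⟨x, hx2, hx1⟩ := SetLike.exists_of_lt (lt_of_le_of_ne hle hne)
  have hlt := Ideal.comap_lt_comap_of_integral_mem_sdiff hle ⟨hx2, hx1⟩
    (Algebra.IsIntegral.isIntegral (R := C) x)
  rw [h] at hlt
  exact lt_irrefl _ hlt

theorem height_eq_one_of_comap {C : Type*} {A : Type*} [CommRing C] [IsDomain C] [CommRing A]
    [IsDomain A] [Algebra C A] [Algebra.IsIntegral C A]
    (hinj : Function.Injective (algebraMap C A))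
    (Q : Ideal C) [hQ : Q.IsPrime] (hh : Q.height = 1) (P : Ideal A) [hPp : P.IsPrime]
    (hPQ : P.comap (algebraMap C A) = Q) : P.height = 1 := by
  refine le_antisymm ?_ ?_
  · have h1 : P.height ≤ ((1 : ℕ) : ℕ∞) := by
      rw [Ideal.height_le_iff]
      intro P' hP' hlt
      haveI := hP'
      have hP'bot : P' = ⊥ := by
        by_contra hne
        obtain ⟨x, hxP, hxP'⟩ := SetLike.exists_of_lt hlt
        have hlt' : P'.comap (algebraMap C A) < P.comap (algebraMap C A) :=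
          Ideal.comap_lt_comap_of_integral_mem_sdiff hlt.le ⟨hxP, hxP'⟩
            (Algebra.IsIntegral.isIntegral x)
        rw [hPQ] at hlt'
        have hQ'ne : P'.comap (algebraMap C A) ≠ ⊥ := fun h =>
          hne (Ideal.eq_bot_of_comap_eq_bot h)
        exact hQ'ne (eq_bot_of_lt_height_one Q _ hh hlt')
      rw [hP'bot, Ideal.height_bot]
      simp
    simpa using h1
  · apply QFNorm.one_le_height_of_ne_bot P
    rintro rfl
    rw [Ideal.comap_bot_of_injective _ hinj] at hPQ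
    rw [← hPQ, Ideal.height_bot] at hh
    exact zero_ne_one hh

end height

end Groth.Agent.H9.WQGen
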