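import Mathlib
import Groth.Agent.Lib.Helper9.Misc.WQGenA

set_option autoImplicit false
universe u v w

namespace Groth.Agent.H9.WQGen

open IsLocalRing

theorem isIntegrallyClosed_atPrime_aux
    (D : Type u) (M : Type v) [CommRing D] [IsDomain D] [IsIntegrallyClosed D] [IsNoetherianRing D]
    [CommRing M] [IsDomain M] [IsNoetherianRing M] [Algebra D M] [Algebra.EssFiniteType D M]
    (n : Ideal M) [n.IsPrime] (m : Ideal D) [hmp : m.IsPrime] [n.LiesOver m]
    (hm : ∀ P₁ : Ideal D, P₁.IsPrime → P₁ ≠ ⊥ → P₁ ≤ m → P₁ = m)
    [Algebra.IsUnramifiedAt D n] :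
    IsIntegrallyClosed (Localization.AtPrime n) := by
  letI := Localization.AtPrime.algebraOfLiesOver m n
  have hmap : m.map (algebraMap D (Localization.AtPrime n)) =
      maximalIdeal (Localization.AtPrime n) :=
    ((Algebra.isUnramifiedAt_iff_map_eq D m n).mp inferInstance).2
  haveI : IsIntegrallyClosed (Localization.AtPrime m) :=
    isIntegrallyClosed_of_isLocalization (Localization.AtPrime m) m.primeCompl
      m.primeCompl_le_nonZeroDivisors
  haveI : IsNoetherianRing (Localization.AtPrime m) :=
    IsLocalization.isNoetherianRing m.primeCompl _ inferInstance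
  haveI : IsNoetherianRing (Localization.AtPrime n) :=
    IsLocalization.isNoetherianRing n.primeCompl _ inferInstance
  have hprimes : ∀ P : Ideal (Localization.AtPrime m), P ≠ ⊥ → P.IsPrime →
      P = maximalIdeal (Localization.AtPrime m) := by
    intro P hPne hPp
    have hmc := IsLocalization.map_comap m.primeCompl (Localization.AtPrime m) P
    have hP1 : (P.under D) = m := by
      refine hm _ (Ideal.comap_isPrime _ _) ?_ ?_
      · intro hbot
        apply hPne
        rw [← hmc, hbot, Ideal.map_bot]
      · have h1 : P ≤ maximalIdeal (Localization.AtPrime m) :=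
          IsLocalRing.le_maximalIdeal hPp.ne_top
        have h2 := Ideal.comap_mono (f := algebraMap D (Localization.AtPrime m)) h1
        have h3 := IsLocalization.AtPrime.comap_maximalIdeal (Localization.AtPrime m) m
        exact le_trans h2 (le_of_eq h3)
    rw [← hmc, hP1, Localization.AtPrime.map_eq_maximalIdeal]
  have h34 : (IsIntegrallyClosed (Localization.AtPrime m) ∧
      ∀ P : Ideal (Localization.AtPrime m), P ≠ ⊥ → P.IsPrime →
        P = maximalIdeal (Localization.AtPrime m)) ↔
      (maximalIdeal (Localization.AtPrime m)).IsPrincipal :=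
    (tfae_of_isNoetherianRing_of_isLocalRing_of_isDomain (Localization.AtPrime m)).out 3 4
  have hprin : (maximalIdeal (Localization.AtPrime m)).IsPrincipal :=
    h34.mp ⟨inferInstance, hprimes⟩
  obtain ⟨x, hx⟩ := hprin.principal
  have hprinM : (maximalIdeal (Localization.AtPrime n)).IsPrincipal := by
    refine ⟨⟨algebraMap (Localization.AtPrime m) (Localization.AtPrime n) x, ?_⟩⟩
    rw [← hmap, IsScalarTower.algebraMap_eq D (Localization.AtPrime m) (Localization.AtPrime n),
      ← Ideal.map_map, Localization.AtPrime.map_eq_maximalIdeal]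
    have hx' : maximalIdeal (Localization.AtPrime m) = Ideal.span {x} := hx
    rw [hx', Ideal.map_span, Set.image_singleton]
  have h43 : (maximalIdeal (Localization.AtPrime n)).IsPrincipal ↔
      (IsIntegrallyClosed (Localization.AtPrime n) ∧
      ∀ P : Ideal (Localization.AtPrime n), P ≠ ⊥ → P.IsPrime →
        P = maximalIdeal (Localization.AtPrime n)) :=
    (tfae_of_isNoetherianRing_of_isLocalRing_of_isDomain (Localization.AtPrime n)).out 4 3
  exact (h43.mp hprinM).1

/-- A localization of a Noetherian domain `M` at a prime `n` unramified over a one-dimensional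
normal Noetherian base is integrally closed. -/
theorem isIntegrallyClosed_atPrime_of_unramified
    (D : Type u) (M : Type v) [CommRing D] [IsDomain D] [IsIntegrallyClosed D] [IsNoetherianRing D]
    [CommRing M] [IsDomain M] [IsNoetherianRing M] [Algebra D M] [Algebra.EssFiniteType D M]
    (n : Ideal M) [n.IsPrime]
    (hm : ∀ P₁ : Ideal D, P₁.IsPrime → P₁ ≠ ⊥ → P₁ ≤ n.under D → P₁ = n.under D)
    [Algebra.IsUnramifiedAt D n] :
    IsIntegrallyClosed (Localization.AtPrime n) :=
  isIntegrallyClosed_atPrime_aux D M n (n.under D) hm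

/-- Formal unramifiedness of `S` over `T` when `S` is generated, up to inverting units, by the
images of formally unramified `R`-algebras. -/
theorem formallyUnramified_of_generated
    (R : Type u) (T : Type v) (S : Type w) [CommRing R] [CommRing T] [CommRing S]
    [Algebra R T] [Algebra T S] [Algebra R S] [IsScalarTower R T S]
    {ι : Type*} (B : ι → Type*) [∀ j, CommRing (B j)] [∀ j, Algebra R (B j)]
    [∀ j, Algebra.FormallyUnramified R (B j)]
    (f : ∀ j, B j →ₐ[R] S)
    (hgen : ∀ s : S, ∃ x ∈ Algebra.adjoin T (⋃ j, Set.range (f j)),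
      ∃ y ∈ Algebra.adjoin T (⋃ j, Set.range (f j)), IsUnit y ∧ s * y = x) :
    Algebra.FormallyUnramified T S := by
  rw [Algebra.FormallyUnramified.iff_comp_injective]
  intro C _ _ I hI u v huv
  have huv' : ∀ s : S, Ideal.Quotient.mk I (u s) = Ideal.Quotient.mk I (v s) := fun s =>
    congrArg (fun g : S →ₐ[T] C ⧸ I => g s) huv
  letI algRC : Algebra R C := ((algebraMap T C).comp (algebraMap R T)).toAlgebra
  have htow : IsScalarTower R T C := IsScalarTower.of_algebraMap_eq' rfl
  have hQ : Algebra.adjoin T (⋃ j, Set.range (f j)) ≤ AlgHom.equalizer u v := by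
    refine Algebra.adjoin_le ?_
    intro z hz
    obtain ⟨j, hj⟩ := Set.mem_iUnion.mp hz
    obtain ⟨b, rfl⟩ := hj
    obtain ⟨uj, huj⟩ : ∃ uj : B j →ₐ[R] C, ∀ b, uj b = u (f j b) :=
      ⟨{ toRingHom := (u : S →+* C).comp (f j : B j →+* S)
         commutes' := fun r => by
           show u (f j (algebraMap R (B j) r)) = algebraMap R C r
           rw [(f j).commutes, IsScalarTower.algebraMap_apply R T S, u.commutes]
           rfl }, fun b => rfl⟩
    obtain ⟨vj, hvj⟩ : ∃ vj : B j →ₐ[R] C, ∀ b, vj b = v (f j b) :=
      ⟨{ toRingHom := (v : S →+* C).comp (f j : B j →+* S)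
         commutes' := fun r => by
           show v (f j (algebraMap R (B j) r)) = algebraMap R C r
           rw [(f j).commutes, IsScalarTower.algebraMap_apply R T S, v.commutes]
           rfl }, fun b => rfl⟩
    have heq : uj = vj := by
      apply Algebra.FormallyUnramified.comp_injective I hI
      ext b
      show Ideal.Quotient.mk I (uj b) = Ideal.Quotient.mk I (vj b)
      rw [huj, hvj]
      exact huv' _
    show u (f j b) = v (f j b)
    rw [← huj, ← hvj, heq]
  ext s
  obtain ⟨x, hx, y, hy, hyu, hsy⟩ := hgen s
  have h1 : u x = v x := hQ hx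
  have h2 : u y = v y := hQ hy
  have h3 : u s * u y = v s * u y := by
    rw [← map_mul, hsy, h1, ← hsy, map_mul, h2]
  exact (hyu.map u).mul_left_injective h3

end Groth.Agent.H9.WQGen
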