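import Mathlib
import Groth.Agent.Lib.Helper9.Misc.WQGenB

set_option autoImplicit false
universe u v w

namespace Groth.Agent.H9.WQGen

open IsLocalRing

theorem isUnramifiedAt_of_generated
    (R : Type u) (D : Type w) (M : Type v) [CommRing R] [CommRing D] [CommRing M]
    [Algebra R D] [Algebra D M] [Algebra R M] [IsScalarTower R D M]
    (n : Ideal M) [n.IsPrime]
    {ι : Type*} (B : ι → Type v) [∀ j, CommRing (B j)] [∀ j, Algebra R (B j)]
    (σ : ∀ j, B j →ₐ[R] M) (g : ∀ j, B j) (hg : ∀ j, σ j (g j) ∉ n)
    [hfu : ∀ j, Algebra.FormallyUnramified R (Localization.Away (g j))]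
    (hgen : Algebra.adjoin D (⋃ j, Set.range (σ j)) = ⊤) :
    Algebra.IsUnramifiedAt D n := by
  show Algebra.FormallyUnramified D (Localization.AtPrime n)
  haveI : IsScalarTower R D (Localization.AtPrime n) :=
    IsScalarTower.of_algebraMap_eq (fun r => by
      rw [IsScalarTower.algebraMap_apply R M (Localization.AtPrime n),
        IsScalarTower.algebraMap_apply D M (Localization.AtPrime n),
        ← IsScalarTower.algebraMap_apply R D M])
  have hunit : ∀ j (y : Submonoid.powers (g j)),
      IsUnit (((IsScalarTower.toAlgHom R M (Localization.AtPrime n)).comp (σ j)) (y : B j)) := by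
    rintro j ⟨y, k, rfl⟩
    show IsUnit (algebraMap M (Localization.AtPrime n) (σ j (g j ^ k)))
    rw [map_pow, map_pow]
    exact (IsLocalization.map_units (Localization.AtPrime n)
      (⟨σ j (g j), hg j⟩ : n.primeCompl)).pow k
  obtain ⟨f, hf⟩ : ∃ f : ∀ j, Localization.Away (g j) →ₐ[R] Localization.AtPrime n,
      ∀ j b, f j (algebraMap (B j) (Localization.Away (g j)) b) =
        algebraMap M (Localization.AtPrime n) (σ j b) :=
    ⟨fun j => IsLocalization.liftAlgHom (M := Submonoid.powers (g j)) (hunit j), fun j b => by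
      rw [IsLocalization.liftAlgHom_apply, IsLocalization.lift_eq]
      rfl⟩
  refine formallyUnramified_of_generated R D (Localization.AtPrime n)
    (fun j => Localization.Away (g j)) f ?_
  have hmem : ∀ m : M, algebraMap M (Localization.AtPrime n) m ∈
      Algebra.adjoin D (⋃ j, Set.range (f j)) := by
    have hle : (⊤ : Subalgebra D M) ≤ (Algebra.adjoin D (⋃ j, Set.range (f j))).comap
        (IsScalarTower.toAlgHom D M (Localization.AtPrime n)) := by
      rw [← hgen]
      refine Algebra.adjoin_le ?_
      intro z hz
      obtain ⟨j, hj⟩ := Set.mem_iUnion.mp hz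
      obtain ⟨b, rfl⟩ := hj
      show algebraMap M (Localization.AtPrime n) (σ j b) ∈
        Algebra.adjoin D (⋃ j, Set.range (f j))
      exact Algebra.subset_adjoin (Set.mem_iUnion.mpr
        ⟨j, ⟨algebraMap (B j) (Localization.Away (g j)) b, hf j b⟩⟩)
    intro m
    exact hle (Algebra.mem_top (x := m))
  intro s
  obtain ⟨m, t, rfl⟩ := IsLocalization.exists_mk'_eq n.primeCompl s
  exact ⟨algebraMap M _ m, hmem m, algebraMap M _ t, hmem t,
    IsLocalization.map_units _ t, IsLocalization.mk'_spec _ m t⟩

theorem exists_mul_eq_of_isIntegrallyClosed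
    (M : Type u) (A : Type v) [CommRing M] [IsDomain M] [CommRing A] [IsDomain A] [Algebra M A]
    [Algebra.IsIntegral M A] (hinj : Function.Injective (algebraMap M A))
    (hfrac : ∀ a : A, ∃ m₂ : M, m₂ ≠ 0 ∧ ∃ m₁ : M, algebraMap M A m₂ * a = algebraMap M A m₁)
    (n : Ideal M) [n.IsPrime] [IsIntegrallyClosed (Localization.AtPrime n)] (a : A) :
    ∃ t : M, t ∉ n ∧ ∃ m₁ : M, algebraMap M A t * a = algebraMap M A m₁ := by
  have hinjL : Function.Injective (algebraMap A (FractionRing A)) :=
    IsFractionRing.injective A _
  have hinjML : Function.Injective (algebraMap M (FractionRing A)) := by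
    rw [IsScalarTower.algebraMap_eq M A (FractionRing A)]
    exact hinjL.comp hinj
  haveI : FaithfulSMul M (FractionRing A) :=
    (faithfulSMul_iff_algebraMap_injective M (FractionRing A)).mpr hinjML
  haveI : IsFractionRing M (FractionRing A) := by
    apply IsFractionRing.of_field
    intro z
    obtain ⟨a', b', hb', rfl⟩ := IsFractionRing.div_surjective A z
    obtain ⟨x₂, hx₂, x₁, hx⟩ := hfrac a'
    obtain ⟨y₂, hy₂, y₁, hy⟩ := hfrac b'
    have hb'0 : algebraMap A (FractionRing A) b' ≠ 0 := by
      intro h0
      rw [← map_zero (algebraMap A (FractionRing A))] at h0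
      exact (nonZeroDivisors.ne_zero hb') (hinjL h0)
    have hX₂ : algebraMap M (FractionRing A) x₂ ≠ 0 := by
      intro h0
      rw [← map_zero (algebraMap M (FractionRing A))] at h0
      exact hx₂ (hinjML h0)
    have hY₂ : algebraMap M (FractionRing A) y₂ ≠ 0 := by
      intro h0
      rw [← map_zero (algebraMap M (FractionRing A))] at h0
      exact hy₂ (hinjML h0)
    have hX' : algebraMap M (FractionRing A) x₂ * algebraMap A (FractionRing A) a' =
        algebraMap M (FractionRing A) x₁ := by
      rw [IsScalarTower.algebraMap_apply M A (FractionRing A),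
        IsScalarTower.algebraMap_apply M A (FractionRing A), ← map_mul, hx]
    have hY' : algebraMap M (FractionRing A) y₂ * algebraMap A (FractionRing A) b' =
        algebraMap M (FractionRing A) y₁ := by
      rw [IsScalarTower.algebraMap_apply M A (FractionRing A),
        IsScalarTower.algebraMap_apply M A (FractionRing A), ← map_mul, hy]
    have hY₁ : algebraMap M (FractionRing A) y₁ ≠ 0 := by
      rw [← hY']; exact mul_ne_zero hY₂ hb'0
    refine ⟨x₁ * y₂, x₂ * y₁, ?_⟩
    rw [map_mul, map_mul, div_eq_div_iff hb'0 (mul_ne_zero hX₂ hY₁)]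
    linear_combination (algebraMap M (FractionRing A) y₁) * hX' -
      (algebraMap M (FractionRing A) x₁) * hY'
  have hunits : ∀ y : n.primeCompl, IsUnit (algebraMap M (FractionRing A) y) := by
    intro y
    refine IsUnit.mk0 _ ?_
    intro h0
    rw [← map_zero (algebraMap M (FractionRing A))] at h0
    have hy0 : (y : M) = 0 := hinjML h0
    exact y.2 (by rw [hy0]; exact Ideal.zero_mem n)
  letI algL : Algebra (Localization.AtPrime n) (FractionRing A) :=
    (IsLocalization.lift (M := n.primeCompl) (g := algebraMap M (FractionRing A))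
      hunits).toAlgebra
  haveI : IsScalarTower M (Localization.AtPrime n) (FractionRing A) :=
    IsScalarTower.of_algebraMap_eq (fun x => (IsLocalization.lift_eq hunits x).symm)
  haveI : IsFractionRing (Localization.AtPrime n) (FractionRing A) :=
    IsFractionRing.isFractionRing_of_isDomain_of_isLocalization n.primeCompl _ _
  have hint : IsIntegral (Localization.AtPrime n) (algebraMap A (FractionRing A) a) :=
    ((Algebra.IsIntegral.isIntegral (R := M) a).algebraMap).tower_top
  obtain ⟨y, hy⟩ := IsIntegrallyClosed.isIntegral_iff.mp hint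
  obtain ⟨m₁, t, rfl⟩ := IsLocalization.exists_mk'_eq n.primeCompl y
  refine ⟨t, t.2, m₁, ?_⟩
  apply hinjL
  have h := congrArg (algebraMap (Localization.AtPrime n) (FractionRing A))
    (IsLocalization.mk'_spec (Localization.AtPrime n) m₁ t)
  rw [map_mul, ← IsScalarTower.algebraMap_apply, ← IsScalarTower.algebraMap_apply] at h
  rw [map_mul, ← hy, ← IsScalarTower.algebraMap_apply M A (FractionRing A),
    ← IsScalarTower.algebraMap_apply M A (FractionRing A), mul_comm]
  exact h

end Groth.Agent.H9.WQGen
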