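import Mathlib
import Groth.Agent.Lib.Helper9.Misc.WQGenC

set_option autoImplicit false
universe u v w

namespace Groth.Agent.H9.WQGen

open IsLocalRing

theorem step2 {R : Type u} {A : Type v} [CommRing R] [IsDomain R] [IsNoetherianRing R]
    [CommRing A] [IsDomain A] [Algebra R A] [Module.Finite R A]
    (hinj : Function.Injective (algebraMap R A))
    (D : Type w) [CommRing D] [IsDomain D] [IsIntegrallyClosed D] [Algebra R D] [Algebra D A]
    [IsScalarTower R D A] (hDinj : Function.Injective (algebraMap D A))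
    {ι : Type} (Sj : ι → Subalgebra R A) (M : Subalgebra R A)
    (hDM : ∀ d : D, algebraMap D A d ∈ M) (hSM : ∀ j, Sj j ≤ M)
    (hgen : ∀ m ∈ M, m ∈ Algebra.adjoin R (Set.range (algebraMap D A) ∪ ⋃ j, (Sj j : Set A)))
    (hfrac : ∀ a : A, ∃ r : R, r ≠ 0 ∧ r • a ∈ M)
    (q : Ideal R) [hqp : q.IsPrime] (hq : q.height = 1)
    (hunr : ∀ P : Ideal A, P.IsPrime → P.comap (algebraMap R A) = q → ∀ j,
      ∃ g : Sj j, (g : A) ∉ P ∧ Algebra.FormallyUnramified R (Localization.Away g))
    (a : A) : ∃ s : R, s ∉ q ∧ s • a ∈ M := by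
  classical
  haveI : IsNoetherian R A := isNoetherian_of_isNoetherianRing_of_finite R A
  haveI hfinM : Module.Finite R M :=
    Module.Finite.of_injective M.val.toLinearMap Subtype.val_injective
  haveI : IsNoetherianRing M := IsNoetherianRing.of_finite R M
  haveI hfinD : Module.Finite R D :=
    Module.Finite.of_injective (IsScalarTower.toAlgHom R D A).toLinearMap hDinj
  haveI : IsNoetherianRing D := IsNoetherianRing.of_finite R D
  haveI : Algebra.IsIntegral R A := Algebra.IsIntegral.of_finite R A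
  haveI : Algebra.IsIntegral R M := Algebra.IsIntegral.of_finite R M
  haveI : Algebra.IsIntegral R D := Algebra.IsIntegral.of_finite R D
  haveI : Algebra.IsIntegral M A := Algebra.IsIntegral.tower_top (R := R)
  have hinjM : Function.Injective (algebraMap R M) :=
    fun x y hxy => hinj (congrArg Subtype.val hxy)
  letI algDM : Algebra D M := ((algebraMap D A).codRestrict M hDM).toAlgebra
  haveI : IsScalarTower D M A := IsScalarTower.of_algebraMap_eq (fun d => rfl)
  haveI : IsScalarTower R D M :=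
    IsScalarTower.of_algebraMap_eq (fun r => Subtype.ext (IsScalarTower.algebraMap_apply R D A r))
  haveI : Algebra.FiniteType D M := Algebra.FiniteType.of_restrictScalars_finiteType R D M
  by_contra hcon
  push Not at hcon
  obtain ⟨Ia, hIa⟩ : ∃ Ia : Ideal M, ∀ m : M, m ∈ Ia ↔ (m : A) * a ∈ M :=
    ⟨{ carrier := {m : M | (m : A) * a ∈ M}
       add_mem' := fun {x y} hx hy => by
         show ((x + y : M) : A) * a ∈ M
         rw [Subalgebra.coe_add, add_mul]; exact M.add_mem hx hy
       zero_mem' := by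
         show ((0 : M) : A) * a ∈ M
         rw [Subalgebra.coe_zero, zero_mul]; exact M.zero_mem
       smul_mem' := fun c x hx => by
         show ((c • x : M) : A) * a ∈ M
         rw [smul_eq_mul, Subalgebra.coe_mul, mul_assoc]; exact M.mul_mem c.2 hx },
      fun m => Iff.rfl⟩
  have hIq : Ia.comap (algebraMap R M) ≤ q := by
    intro r hr
    by_contra hrq
    apply hcon r hrq
    have h1 := (hIa _).mp (Ideal.mem_comap.mp hr)
    rwa [Subalgebra.coe_algebraMap, ← Algebra.smul_def] at h1
  obtain ⟨n, hIn, hnp, hnq⟩ := Ideal.exists_ideal_over_prime_of_isIntegral q Ia hIq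
  haveI := hnp
  obtain ⟨P', -, hP'p, hP'n⟩ := Ideal.exists_ideal_over_prime_of_isIntegral n (⊥ : Ideal A)
    (by rw [Ideal.comap_bot_of_injective _ Subtype.val_injective]; exact bot_le)
  haveI := hP'p
  have hP'q : P'.comap (algebraMap R A) = q := by
    rw [IsScalarTower.algebraMap_eq R M A, ← Ideal.comap_comap, hP'n, hnq]
  choose g hg hfu using hunr P' hP'p hP'q
  haveI : ∀ j, Algebra.FormallyUnramified R (Localization.Away (g j)) := hfu
  have hσg : ∀ j, (Subalgebra.inclusion (hSM j)) (g j) ∉ n := by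
    intro j hmem
    apply hg j
    rw [← hP'n] at hmem
    exact hmem
  have hgenM : Algebra.adjoin D (⋃ j, Set.range (Subalgebra.inclusion (hSM j))) =
      (⊤ : Subalgebra D M) := by
    rw [eq_top_iff]
    rintro ⟨m, hm⟩ -
    have key : ∀ x ∈ Algebra.adjoin R (Set.range (algebraMap D A) ∪ ⋃ j, (Sj j : Set A)),
        ∃ hx : x ∈ M, (⟨x, hx⟩ : M) ∈
          Algebra.adjoin D (⋃ j, Set.range (Subalgebra.inclusion (hSM j))) := by
      intro x hx
      induction hx using Algebra.adjoin_induction with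
      | mem x hx =>
        rcases hx with ⟨d, rfl⟩ | hx
        · exact ⟨hDM d, Subalgebra.algebraMap_mem _ d⟩
        · obtain ⟨j, hj⟩ := Set.mem_iUnion.mp hx
          exact ⟨hSM j hj, Algebra.subset_adjoin (Set.mem_iUnion.mpr ⟨j, ⟨⟨x, hj⟩, rfl⟩⟩)⟩
      | algebraMap r =>
        refine ⟨M.algebraMap_mem r, ?_⟩
        have h1 : (⟨algebraMap R A r, M.algebraMap_mem r⟩ : M) =
            algebraMap D M (algebraMap R D r) :=
          Subtype.ext (IsScalarTower.algebraMap_apply R D A r)
        rw [h1]; exact Subalgebra.algebraMap_mem _ _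
      | add x y _ _ hx hy =>
        obtain ⟨hx1, hx2⟩ := hx
        obtain ⟨hy1, hy2⟩ := hy
        exact ⟨M.add_mem hx1 hy1, Subalgebra.add_mem _ hx2 hy2⟩
      | mul x y _ _ hx hy =>
        obtain ⟨hx1, hx2⟩ := hx
        obtain ⟨hy1, hy2⟩ := hy
        exact ⟨M.mul_mem hx1 hy1, Subalgebra.mul_mem _ hx2 hy2⟩
    obtain ⟨_, h2⟩ := key m (hgen m hm)
    exact h2
  haveI hunrn : Algebra.IsUnramifiedAt D n :=
    isUnramifiedAt_of_generated R D M n (fun j => Sj j)
      (fun j => Subalgebra.inclusion (hSM j)) g hσg hgenM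
  have hm : ∀ P₁ : Ideal D, P₁.IsPrime → P₁ ≠ ⊥ → P₁ ≤ n.under D → P₁ = n.under D := by
    intro P₁ hP₁ hne hle
    haveI := hP₁
    haveI : (n.under D).IsPrime := Ideal.comap_isPrime _ _
    have hund : (n.under D).comap (algebraMap R D) = q := by
      show (n.comap (algebraMap D M)).comap (algebraMap R D) = q
      rw [Ideal.comap_comap, ← IsScalarTower.algebraMap_eq R D M, hnq]
    have h1 : P₁.comap (algebraMap R D) = q := by
      refine eq_of_le_of_height_one q _ hq ?_ ?_
      · rw [← hund]; exact Ideal.comap_mono hle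
      · intro hbot; exact hne (Ideal.eq_bot_of_comap_eq_bot hbot)
    exact eq_of_le_of_comap_eq (C := R) P₁ _ hle (h1.trans hund.symm)
  haveI : IsIntegrallyClosed (Localization.AtPrime n) :=
    isIntegrallyClosed_atPrime_of_unramified D M n hm
  have hfracM : ∀ a : A, ∃ m₂ : M, m₂ ≠ 0 ∧ ∃ m₁ : M,
      algebraMap M A m₂ * a = algebraMap M A m₁ := by
    intro a
    obtain ⟨r, hr, hra⟩ := hfrac a
    refine ⟨algebraMap R M r, fun h => hr (hinjM (by rw [h, map_zero])), ⟨r • a, hra⟩, ?_⟩
    show algebraMap R A r * a = r • a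
    rw [Algebra.smul_def]
  obtain ⟨t, htn, m₁, htm⟩ :=
    exists_mul_eq_of_isIntegrallyClosed M A Subtype.val_injective hfracM n a
  apply htn
  apply hIn
  rw [hIa]
  have h3 : (t : A) * a = m₁ := htm
  rw [h3]; exact m₁.2

end Groth.Agent.H9.WQGen
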