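import Mathlib
import Groth.Agent.Lib.Helper9.Misc.WQGenA

set_option autoImplicit false
universe u v w

namespace Groth.Agent.H9.WQGen

open IsLocalRing

attribute [local instance] FractionRing.liftAlgebra

/-- If no nontrivial element of the Galois group fixes the subalgebra `M` pointwise, then `M` has
the same fraction field as `A`. -/
theorem exists_smul_mem_of_fixing_bot
    (R : Type u) (A : Type v) [CommRing R] [CommRing A] [IsDomain A] [Algebra R A]
    (hinj : Function.Injective (algebraMap R A))
    (H : Type w) [Group H] [Finite H] [MulSemiringAction H A] [IsGaloisGroup H R A]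
    (M : Subalgebra R A)
    (hfixM : ∀ h : H, (∀ m ∈ M, h • m = m) → h = 1)
    (a : A) : ∃ r : R, r ≠ 0 ∧ r • a ∈ M := by
  classical
  haveI : IsDomain R := hinj.isDomain (algebraMap R A)
  haveI : FaithfulSMul R A := (faithfulSMul_iff_algebraMap_injective R A).mpr hinj
  letI actL : MulSemiringAction H (FractionRing A) :=
    IsFractionRing.mulSemiringAction H A (FractionRing A)
  haveI : SMulDistribClass H A (FractionRing A) :=
    IsFractionRing.smulDistribClass H A (FractionRing A)
  haveI hGKL : IsGaloisGroup H (FractionRing R) (FractionRing A) :=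
    IsGaloisGroup.to_isFractionRing H R A (FractionRing R) (FractionRing A)
  haveI : SMulCommClass H (FractionRing R) (FractionRing A) := hGKL.commutes
  haveI : FiniteDimensional (FractionRing R) (FractionRing A) :=
    IsGaloisGroup.finiteDimensional H (FractionRing R) (FractionRing A)
  haveI : Algebra.IsAlgebraic (FractionRing R) (FractionRing A) :=
    Algebra.IsAlgebraic.of_finite _ _
  have hinjL : Function.Injective (algebraMap A (FractionRing A)) :=
    IsFractionRing.injective A _
  have hinjRL : Function.Injective (algebraMap R (FractionRing A)) := by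
    rw [IsScalarTower.algebraMap_eq R A (FractionRing A)]
    exact hinjL.comp hinj
  obtain ⟨S, hS⟩ : ∃ S : Set (FractionRing A),
      S = (algebraMap A (FractionRing A)) '' (M : Set A) := ⟨_, rfl⟩
  obtain ⟨F, hF⟩ : ∃ F : IntermediateField (FractionRing R) (FractionRing A),
      F = IntermediateField.adjoin (FractionRing R) S := ⟨_, rfl⟩
  have hFtop : ∀ x : FractionRing A, x ∈ F := by
    intro x
    have hx : x ∈ (FixedPoints.intermediateField (fixingSubgroup H (F : Set (FractionRing A))) :
        IntermediateField (FractionRing R) (FractionRing A)) := by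
      rw [FixedPoints.mem_intermediateField_iff]
      rintro ⟨h, hh⟩
      have h1 : h = 1 := by
        apply hfixM
        intro m hm
        have hmF : algebraMap A (FractionRing A) m ∈ (F : Set (FractionRing A)) := by
          rw [hF]
          exact IntermediateField.subset_adjoin _ S (by rw [hS]; exact ⟨m, hm, rfl⟩)
        have h2 : h • algebraMap A (FractionRing A) m = algebraMap A (FractionRing A) m :=
          (mem_fixingSubgroup_iff H).mp hh _ hmF
        apply hinjL
        rw [← h2]
        exact algebraMap.coe_smul' h m (FractionRing A)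
      rw [Subgroup.mk_smul, h1, one_smul]
    rwa [IsGaloisGroup.fixedPoints_fixingSubgroup] at hx
  -- the subalgebra of fractions with denominators in `R` and numerators in `M`
  obtain ⟨T, hT⟩ : ∃ T : Subalgebra (FractionRing R) (FractionRing A), ∀ x, x ∈ T ↔
      ∃ r : R, r ≠ 0 ∧ ∃ m ∈ M, algebraMap R (FractionRing A) r * x =
        algebraMap A (FractionRing A) m := by
    refine ⟨{ carrier := {x | ∃ r : R, r ≠ 0 ∧ ∃ m ∈ M,
                algebraMap R (FractionRing A) r * x = algebraMap A (FractionRing A) m}
              mul_mem' := ?_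
              one_mem' := ?_
              add_mem' := ?_
              zero_mem' := ?_
              algebraMap_mem' := ?_ }, fun x => Iff.rfl⟩
    · rintro x y ⟨r₁, hr₁, m₁, hm₁, hx⟩ ⟨r₂, hr₂, m₂, hm₂, hy⟩
      refine ⟨r₁ * r₂, mul_ne_zero hr₁ hr₂, m₁ * m₂, M.mul_mem hm₁ hm₂, ?_⟩
      rw [map_mul, map_mul]
      linear_combination (algebraMap R (FractionRing A) r₂ * y) * hx +
        algebraMap A (FractionRing A) m₁ * hy
    · refine ⟨1, one_ne_zero, 1, M.one_mem, ?_⟩
      rw [map_one, map_one, one_mul]
    · rintro x y ⟨r₁, hr₁, m₁, hm₁, hx⟩ ⟨r₂, hr₂, m₂, hm₂, hy⟩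
      refine ⟨r₁ * r₂, mul_ne_zero hr₁ hr₂, r₂ • m₁ + r₁ • m₂,
        M.add_mem (M.smul_mem hm₁ r₂) (M.smul_mem hm₂ r₁), ?_⟩
      rw [map_mul, map_add, Algebra.smul_def, Algebra.smul_def, map_mul, map_mul,
        ← IsScalarTower.algebraMap_apply R A (FractionRing A),
        ← IsScalarTower.algebraMap_apply R A (FractionRing A)]
      linear_combination (algebraMap R (FractionRing A) r₂) * hx +
        (algebraMap R (FractionRing A) r₁) * hy
    · refine ⟨1, one_ne_zero, 0, M.zero_mem, ?_⟩
      rw [map_zero, mul_zero]
    · intro c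
      obtain ⟨c₁, c₂, hc₂, rfl⟩ := IsFractionRing.div_surjective R c
      have hc₂0 : c₂ ≠ 0 := nonZeroDivisors.ne_zero hc₂
      refine ⟨c₂, hc₂0, algebraMap R A c₁, M.algebraMap_mem c₁, ?_⟩
      have hne : algebraMap R (FractionRing A) c₂ ≠ 0 := by
        intro h0
        rw [← map_zero (algebraMap R (FractionRing A))] at h0
        exact hc₂0 (hinjRL h0)
      rw [map_div₀, ← IsScalarTower.algebraMap_apply R (FractionRing R) (FractionRing A),
        ← IsScalarTower.algebraMap_apply R (FractionRing R) (FractionRing A),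
        ← IsScalarTower.algebraMap_apply R A (FractionRing A)]
      field_simp
  have hST : Algebra.adjoin (FractionRing R) S ≤ T := by
    refine Algebra.adjoin_le ?_
    intro x hx
    rw [hS] at hx
    obtain ⟨m, hm, rfl⟩ := hx
    exact (hT _).mpr ⟨1, one_ne_zero, m, hm, by rw [map_one, one_mul]⟩
  have haT : algebraMap A (FractionRing A) a ∈ T := by
    apply hST
    rw [← IntermediateField.adjoin_toSubalgebra, ← hF]
    exact hFtop _
  obtain ⟨r, hr, m, hm, hrm⟩ := (hT _).mp haT
  refine ⟨r, hr, ?_⟩
  have h3 : r • a = m := by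
    apply hinjL
    rw [← hrm, Algebra.smul_def, map_mul, ← IsScalarTower.algebraMap_apply R A (FractionRing A)]
  rw [h3]
  exact hm

theorem mem_of_isRelPrime_smul_mem (R : Type u) (A : Type v) [CommRing R] [IsDomain R]
    [UniqueFactorizationMonoid R] [CommRing A] [IsDomain A] [Algebra R A]
    (hinj : Function.Injective (algebraMap R A))
    (M : Subalgebra R A) {ι : Type} [Fintype ι] (v : ι → A)
    (hspan : Submodule.span R (Set.range v) = Subalgebra.toSubmodule M)
    (hli : LinearIndependent R v)
    (r s : R) (hr : r ≠ 0) (hrs : IsRelPrime r s) (a : A) (hra : r • a ∈ M) (hsa : s • a ∈ M) :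
    a ∈ M := by
  have hra' : r • a ∈ Submodule.span R (Set.range v) := by rw [hspan]; exact hra
  have hsa' : s • a ∈ Submodule.span R (Set.range v) := by rw [hspan]; exact hsa
  obtain ⟨c, hc⟩ := (Submodule.mem_span_range_iff_exists_fun R).mp hra'
  obtain ⟨d, hd⟩ := (Submodule.mem_span_range_iff_exists_fun R).mp hsa'
  have hzero : ∑ i, (s * c i - r * d i) • v i = 0 := by
    simp only [sub_smul, mul_smul, Finset.sum_sub_distrib, ← Finset.smul_sum, hc, hd]
    rw [smul_comm, sub_self]
  have hcoef := Fintype.linearIndependent_iff.mp hli _ hzero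
  have hdvd : ∀ i, r ∣ c i := by
    intro i
    have h1 : s * c i = r * d i := sub_eq_zero.mp (hcoef i)
    exact hrs.dvd_of_dvd_mul_left ⟨d i, h1⟩
  choose c' hc' using hdvd
  have hfinal : r • (a - ∑ i, c' i • v i) = 0 := by
    rw [smul_sub, Finset.smul_sum, ← hc]
    simp only [smul_smul, ← hc']
    rw [sub_self]
  have h0 : a - ∑ i, c' i • v i = 0 := by
    rw [Algebra.smul_def, mul_eq_zero] at hfinal
    rcases hfinal with h | h
    · rw [← map_zero (algebraMap R A)] at h
      exact absurd (hinj h) hr
    · exact h
  have ha : a = ∑ i, c' i • v i := sub_eq_zero.mp h0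
  rw [ha]
  have hmem : ∑ i, c' i • v i ∈ Submodule.span R (Set.range v) :=
    Submodule.sum_mem _ (fun i _ => Submodule.smul_mem _ _ (Submodule.subset_span ⟨i, rfl⟩))
  rw [hspan] at hmem
  exact hmem

end Groth.Agent.H9.WQGen
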