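import Mathlib
import Groth.Agent.Lib.Helper9.Misc.WQGenA

set_option autoImplicit false
universe u v w

namespace Groth.Agent.H9.WQGen

open IsLocalRing

attribute [local instance] FractionRing.liftAlgebra

/-- Products of basis elements of free subalgebras `S_i` form a basis of the subalgebra they
generate, provided it has full rank and the ranks multiply to at most the rank of `A`. -/
theorem exists_products_basis
    (R : Type u) (A : Type v) [CommRing R] [IsNoetherianRing R] [CommRing A] [IsDomain A]
    [Algebra R A] [Module.Finite R A]
    (hinj : Function.Injective (algebraMap R A))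
    {n : ℕ} (Sj : Fin n → Subalgebra R A) [hfree : ∀ i, Module.Free R (Sj i)]
    (hfrac : ∀ a : A, ∃ r : R, r ≠ 0 ∧ r • a ∈ (⨆ i, Sj i))
    (hrank : ∏ i, Module.finrank R (Sj i) ≤ Module.finrank R A) :
    ∃ (ι : Type) (_ : Fintype ι) (v : ι → A),
      Submodule.span R (Set.range v) = Subalgebra.toSubmodule (⨆ i, Sj i) ∧
        LinearIndependent R v := by
  classical
  haveI : IsDomain R := hinj.isDomain (algebraMap R A)
  haveI : FaithfulSMul R A := (faithfulSMul_iff_algebraMap_injective R A).mpr hinj
  haveI : IsNoetherian R A := isNoetherian_of_isNoetherianRing_of_finite R A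
  haveI : Algebra.IsIntegral R A := Algebra.IsIntegral.of_finite R A
  haveI : ∀ i, Module.Finite R (Sj i) := fun i =>
    Module.Finite.of_injective (Sj i).val.toLinearMap Subtype.val_injective
  obtain ⟨b, hbspan⟩ : ∃ b : ∀ i, Fin (Module.finrank R (Sj i)) → Sj i,
      ∀ i, ⊤ ≤ Submodule.span R (Set.range (b i)) :=
    ⟨fun i => Module.finBasis R (Sj i), fun i => (Module.finBasis R (Sj i)).span_eq.ge⟩
  obtain ⟨v, hv⟩ : ∃ v : (∀ i : Fin n, Fin (Module.finrank R (Sj i))) → A,
      ∀ f, v f = ∏ i, ((b i (f i) : Sj i) : A) := ⟨_, fun f => rfl⟩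
  have hprod : ∀ a : ∀ i, Sj i, ∏ i, (a i : A) ∈ Submodule.span R (Set.range v) := by
    intro a
    choose c hc using fun i =>
      (Submodule.mem_span_range_iff_exists_fun R).mp (hbspan i (Submodule.mem_top : a i ∈ ⊤))
    have h1 : ∀ i, (a i : A) = ∑ t, c i t • ((b i t : Sj i) : A) := by
      intro i
      have h := congrArg (Sj i).val (hc i)
      rw [map_sum] at h
      simp only [map_smul] at h
      exact h.symm
    have h2 : ∏ i, (a i : A) = ∑ f ∈ Fintype.piFinset
        (fun i : Fin n => (Finset.univ : Finset (Fin (Module.finrank R (Sj i))))),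
        ∏ i, c i (f i) • ((b i (f i) : Sj i) : A) := by
      calc ∏ i, (a i : A) = ∏ i, ∑ t ∈ (Finset.univ : Finset (Fin (Module.finrank R (Sj i)))),
            c i t • ((b i t : Sj i) : A) := Finset.prod_congr rfl (fun i _ => h1 i)
        _ = _ := Finset.prod_univ_sum (fun i => Finset.univ)
            (fun i t => c i t • ((b i t : Sj i) : A))
    rw [h2]
    refine Submodule.sum_mem _ (fun f _ => ?_)
    have h3 : ∏ i, c i (f i) • ((b i (f i) : Sj i) : A) = (∏ i, c i (f i)) • v f := by
      simp only [Algebra.smul_def]
      rw [Finset.prod_mul_distrib, ← map_prod, hv]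
    rw [h3]
    exact Submodule.smul_mem _ _ (Submodule.subset_span ⟨f, rfl⟩)
  have hspan1 : Submodule.span R (Set.range v) = Subalgebra.toSubmodule (⨆ i, Sj i) := by
    refine le_antisymm ?_ ?_
    · rw [Submodule.span_le]
      rintro _ ⟨f, rfl⟩
      rw [hv]
      show ∏ i, ((b i (f i) : Sj i) : A) ∈ (⨆ i, Sj i)
      exact Subalgebra.prod_mem _ (fun i _ => (le_iSup Sj i) (b i (f i)).2)
    · have hmul : ∀ x ∈ Submodule.span R (Set.range v), ∀ y ∈ Submodule.span R (Set.range v),
          x * y ∈ Submodule.span R (Set.range v) := by
        intro x hx y hy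
        have h1 : x * y ∈ Submodule.span R (Set.range v) * Submodule.span R (Set.range v) :=
          Submodule.mul_mem_mul hx hy
        rw [Submodule.span_mul_span] at h1
        refine Submodule.span_le.mpr ?_ h1
        rintro _ ⟨_, ⟨f, rfl⟩, _, ⟨g, rfl⟩, rfl⟩
        show v f * v g ∈ Submodule.span R (Set.range v)
        rw [hv, hv, ← Finset.prod_mul_distrib]
        exact hprod (fun i => b i (f i) * b i (g i))
      have hone : (1 : A) ∈ Submodule.span R (Set.range v) := by
        have h1 := hprod (fun i => (1 : Sj i))
        simpa using h1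
      obtain ⟨T', hT'⟩ : ∃ T' : Subalgebra R A,
          ∀ x, x ∈ T' ↔ x ∈ Submodule.span R (Set.range v) :=
        ⟨{ carrier := (Submodule.span R (Set.range v) : Set A)
           mul_mem' := fun {x y} hx hy => hmul x hx y hy
           one_mem' := hone
           add_mem' := fun hx hy => Submodule.add_mem _ hx hy
           zero_mem' := Submodule.zero_mem _
           algebraMap_mem' := fun r => by
             rw [Algebra.algebraMap_eq_smul_one]
             exact Submodule.smul_mem _ r hone }, fun x => Iff.rfl⟩
      have hle : (⨆ i, Sj i) ≤ T' := by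
        refine iSup_le (fun i x hx => ?_)
        rw [hT']
        have h1 := hprod (Function.update (fun j => (1 : Sj j)) i ⟨x, hx⟩)
        rwa [Fintype.prod_eq_single i (fun j hj => by rw [Function.update_of_ne hj]; rfl),
          Function.update_self] at h1
      intro x hx
      exact (hT' x).mp (hle hx)
  refine ⟨∀ i : Fin n, Fin (Module.finrank R (Sj i)), inferInstance, v, hspan1, ?_⟩
  have hinjL : Function.Injective (algebraMap A (FractionRing A)) :=
    IsFractionRing.injective A _
  have hinjRL : Function.Injective (algebraMap R (FractionRing A)) := by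
    rw [IsScalarTower.algebraMap_eq R A (FractionRing A)]
    exact hinjL.comp hinj
  obtain ⟨w, hw⟩ : ∃ w : (∀ i : Fin n, Fin (Module.finrank R (Sj i))) → FractionRing A,
      ∀ f, w f = algebraMap A (FractionRing A) (v f) := ⟨_, fun f => rfl⟩
  have hMspan : ∀ m ∈ (⨆ i, Sj i), algebraMap A (FractionRing A) m ∈
      Submodule.span (FractionRing R) (Set.range w) := by
    intro m hm
    have hm' : m ∈ Submodule.span R (Set.range v) := by rw [hspan1]; exact hm
    obtain ⟨c, rfl⟩ := (Submodule.mem_span_range_iff_exists_fun R).mp hm'
    rw [map_sum]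
    refine Submodule.sum_mem _ (fun f _ => ?_)
    have h1 : algebraMap A (FractionRing A) (c f • v f) =
        (algebraMap R (FractionRing R) (c f)) • w f := by
      rw [hw, Algebra.smul_def, map_mul, ← IsScalarTower.algebraMap_apply R A (FractionRing A),
        Algebra.smul_def, ← IsScalarTower.algebraMap_apply R (FractionRing R) (FractionRing A)]
    rw [h1]
    exact Submodule.smul_mem _ _ (Submodule.subset_span ⟨f, rfl⟩)
  have hspanK : ⊤ ≤ Submodule.span (FractionRing R) (Set.range w) := by
    intro x _
    obtain ⟨a', b', hb', rfl⟩ := IsFractionRing.div_surjective A x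
    have hb'0 : b' ≠ 0 := nonZeroDivisors.ne_zero hb'
    have hcomap : (Ideal.span {b'}).comap (algebraMap R A) ≠ ⊥ :=
      Ideal.comap_ne_bot_of_integral_mem hb'0 (Ideal.mem_span_singleton_self b')
        (Algebra.IsIntegral.isIntegral b')
    obtain ⟨r₁, hr₁mem, hr₁⟩ := Submodule.exists_mem_ne_zero_of_ne_bot hcomap
    obtain ⟨b'', hb''⟩ := Ideal.mem_span_singleton'.mp (Ideal.mem_comap.mp hr₁mem)
    obtain ⟨r₂, hr₂, hm⟩ := hfrac (a' * b'')
    have hmem := hMspan _ hm
    have hαb' : algebraMap A (FractionRing A) b' ≠ 0 := by
      intro h0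
      rw [← map_zero (algebraMap A (FractionRing A))] at h0
      exact hb'0 (hinjL h0)
    have hρ12 : algebraMap R (FractionRing A) r₁ * algebraMap R (FractionRing A) r₂ ≠ 0 := by
      refine mul_ne_zero ?_ ?_
      · intro h0
        rw [← map_zero (algebraMap R (FractionRing A))] at h0
        exact hr₁ (hinjRL h0)
      · intro h0
        rw [← map_zero (algebraMap R (FractionRing A))] at h0
        exact hr₂ (hinjRL h0)
    have hkey : algebraMap A (FractionRing A) b'' * algebraMap A (FractionRing A) b' =
        algebraMap R (FractionRing A) r₁ := by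
      rw [← map_mul, hb'', ← IsScalarTower.algebraMap_apply R A (FractionRing A)]
    have hx : algebraMap A (FractionRing A) a' / algebraMap A (FractionRing A) b' =
        (algebraMap R (FractionRing R) (r₁ * r₂))⁻¹ •
          algebraMap A (FractionRing A) (r₂ • (a' * b'')) := by
      rw [Algebra.smul_def, map_inv₀,
        ← IsScalarTower.algebraMap_apply R (FractionRing R) (FractionRing A), map_mul,
        Algebra.smul_def, map_mul, map_mul,
        ← IsScalarTower.algebraMap_apply R A (FractionRing A), div_eq_iff hαb', eq_comm]
      calc (algebraMap R (FractionRing A) r₁ * algebraMap R (FractionRing A) r₂)⁻¹ *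
            (algebraMap R (FractionRing A) r₂ * (algebraMap A (FractionRing A) a' *
              algebraMap A (FractionRing A) b'')) * algebraMap A (FractionRing A) b'
          = (algebraMap R (FractionRing A) r₁ * algebraMap R (FractionRing A) r₂)⁻¹ *
            (algebraMap R (FractionRing A) r₂ * algebraMap A (FractionRing A) a' *
              (algebraMap A (FractionRing A) b'' * algebraMap A (FractionRing A) b')) := by ring
        _ = (algebraMap R (FractionRing A) r₁ * algebraMap R (FractionRing A) r₂)⁻¹ *
            ((algebraMap R (FractionRing A) r₁ * algebraMap R (FractionRing A) r₂) *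
              algebraMap A (FractionRing A) a') := by rw [hkey]; ring
        _ = algebraMap A (FractionRing A) a' := inv_mul_cancel_left₀ hρ12 _
    rw [hx]
    exact Submodule.smul_mem _ _ hmem
  have hcard : Fintype.card (∀ i : Fin n, Fin (Module.finrank R (Sj i))) =
      Module.finrank (FractionRing R) (FractionRing A) := by
    have hfr : Module.finrank (FractionRing R) (FractionRing A) = Module.finrank R A :=
      IsFractionRing.finrank_eq R (FractionRing R) A (FractionRing A)
    refine le_antisymm ?_ ?_
    · rw [hfr, Fintype.card_pi]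
      simpa using hrank
    · have h1 := finrank_range_le_card (R := FractionRing R) w
      have h2 : Set.finrank (FractionRing R) (Set.range w) =
          Module.finrank (FractionRing R) (FractionRing A) := by
        show Module.finrank (FractionRing R)
          (Submodule.span (FractionRing R) (Set.range w)) = _
        rw [eq_top_iff.mpr hspanK, finrank_top]
      rw [← h2]
      exact h1
  have hliK := linearIndependent_of_top_le_span_of_card_eq_finrank hspanK hcard
  have hliR : LinearIndependent R w := hliK.restrict_scalars' R
  have hwv : (⇑(IsScalarTower.toAlgHom R A (FractionRing A)).toLinearMap ∘ v) = w :=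
    funext (fun f => (hw f).symm)
  rw [← hwv] at hliR
  exact LinearIndependent.of_comp _ hliR

end Groth.Agent.H9.WQGen
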