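import Mathlib
import Groth.Agent.Lib.Helper1.RegNormal
import Groth.Agent.Lib.Helper7.Reg1
import Groth.Agent.Lib.Helper3.CA.ABufd2
import Groth.Agent.Lib.Helper6.InertiaH2
import Groth.Agent.Lib.Helper9.Misc.WQInA
import Groth.Agent.Lib.Helper9.Misc.WQGenD
import Groth.Agent.Lib.Helper9.Misc.WQGenE
import Groth.Agent.Lib.Helper9.Misc.WQGenF

set_option autoImplicit false
universe u v w

namespace Groth.Agent.H9.WQGen

open IsLocalRing Pointwise

theorem inertia_eq_of_under_eq (R : Type u) (A : Type v) [CommRing R] [CommRing A] [Algebra R A]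
    (H : Type w) [Group H] [Finite H] [MulSemiringAction H A] [SMulCommClass H R A]
    [Algebra.IsInvariant R A H] (hcomm : ∀ g h : H, g * h = h * g)
    (P P' : Ideal A) [P.IsPrime] [P'.IsPrime]
    (h : P.comap (algebraMap R A) = P'.comap (algebraMap R A)) :
    P'.inertia H = P.inertia H := by
  obtain ⟨g, rfl⟩ := Algebra.IsInvariant.exists_smul_of_under_eq R A H P P' h
  ext σ
  show (∀ x : A, σ • x - x ∈ g • P) ↔ (∀ x : A, σ • x - x ∈ P)
  have hc : g⁻¹ * σ = σ * g⁻¹ := hcomm _ _
  constructor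
  · intro hσ x
    have h1 := hσ (g • x)
    rw [Ideal.mem_pointwise_smul_iff_inv_smul_mem, smul_sub, inv_smul_smul, smul_smul, hc,
      mul_smul, inv_smul_smul] at h1
    exact h1
  · intro hσ x
    rw [Ideal.mem_pointwise_smul_iff_inv_smul_mem, smul_sub, smul_smul, hc, mul_smul]
    exact hσ (g⁻¹ • x)

theorem main_aux (p : ℕ) (R : Type u) [CommRing R] [IsRegularLocalRing R]
    (A : Type v) [CommRing A] [IsDomain A] [IsIntegrallyClosed A]
    [Algebra R A] [Module.Finite R A] (hinj : Function.Injective (algebraMap R A))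
    (H : Type w) [Group H] [Finite H] [MulSemiringAction H A] [SMulCommClass H R A]
    [FaithfulSMul H A]
    (hfix : ∀ a : A, (∀ h : H, h • a = a) → a ∈ Set.range (algebraMap R A))
    (hcomm : ∀ g h : H, g * h = h * g)
    (n : ℕ) (hcard : Nat.card H = p ^ n) (Gi : Fin n → Subgroup H) (N : Fin n → Subgroup H)
    (hN1 : (⨅ i, N i) = ⊥) (hN2 : ∀ i, Nat.card H ≤ p * Nat.card (N i))
    (hN3 : ∀ i j, j ≠ i → Gi j ≤ N i)
    (hMR3 : ∀ P : Ideal A, P.IsPrime → P.height = 1 → P.inertia H ≠ ⊥ → ∃ i, P.inertia H = Gi i)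
    (hMR4 : ∀ i, Module.Free R (FixedPoints.subalgebra R A ↥(N i))) :
    (⨆ i, FixedPoints.subalgebra R A ↥(N i)) = ⊤ := by
  classical
  haveI : IsDomain R := Groth.Agent.H7.Reg.isDomain R
  haveI : IsIntegrallyClosed R := Groth.Agent.H1.Reg.isIntegrallyClosed R
  haveI : UniqueFactorizationMonoid R := (Groth.Agent.H3.ABufd.main R).2
  haveI : FaithfulSMul R A := (faithfulSMul_iff_algebraMap_injective R A).mpr hinj
  haveI hinv : Algebra.IsInvariant R A H := ⟨fun a ha => hfix a ha⟩
  haveI hgal : IsGaloisGroup H R A := ⟨inferInstance, inferInstance, hinv⟩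
  haveI : Algebra.IsIntegral R A := Algebra.IsIntegral.of_finite R A
  haveI hfreeI : ∀ i, Module.Free R (FixedPoints.subalgebra R A ↥(N i)) := hMR4
  have hinjS : ∀ i, Function.Injective (algebraMap (FixedPoints.subalgebra R A ↥(N i)) A) :=
    fun i => Subtype.val_injective
  haveI : ∀ i, FaithfulSMul (FixedPoints.subalgebra R A ↥(N i)) A := fun i =>
    (faithfulSMul_iff_algebraMap_injective _ _).mpr (hinjS i)
  have hfixN : ∀ i, fixingSubgroup H
      (Set.range (algebraMap (FixedPoints.subalgebra R A ↥(N i)) A)) = N i :=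
    fun i => IsGaloisGroup.fixingSubgroup_range_algebraMap H R
      (FixedPoints.subalgebra R A ↥(N i)) A (N i)
  have hfixM : ∀ h : H, (∀ m ∈ (⨆ i, FixedPoints.subalgebra R A ↥(N i)), h • m = m) →
      h = 1 := by
    intro h hh
    have hmem : h ∈ ⨅ i, N i := by
      rw [Subgroup.mem_iInf]
      intro i
      rw [← hfixN i, mem_fixingSubgroup_iff]
      rintro _ ⟨z, rfl⟩
      exact hh _ ((le_iSup (fun i => FixedPoints.subalgebra R A ↥(N i)) i) z.2)
    rw [hN1, Subgroup.mem_bot] at hmem
    exact hmem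
  have hfrac := exists_smul_mem_of_fixing_bot R A hinj H
    (⨆ i, FixedPoints.subalgebra R A ↥(N i)) hfixM
  have hrkA : Module.finrank R A = p ^ n := by
    rw [← hcard]; exact (IsGaloisGroup.card_eq_finrank' H R A).symm
  have hrk : ∀ i, Module.finrank R (FixedPoints.subalgebra R A ↥(N i)) ≤ p := by
    intro i
    haveI : (N i).Normal := normal_of_comm hcomm (N i)
    have hinjRS : Function.Injective (algebraMap R (FixedPoints.subalgebra R A ↥(N i))) :=
      fun x y hxy => hinj (congrArg Subtype.val hxy)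
    haveI : FaithfulSMul R (FixedPoints.subalgebra R A ↥(N i)) :=
      (faithfulSMul_iff_algebraMap_injective _ _).mpr hinjRS
    letI := IsGaloisGroup.mulSemiringActionOfNormal H (FixedPoints.subalgebra R A ↥(N i)) A (N i)
    letI := IsGaloisGroup.mulSemiringActionQuotient H (FixedPoints.subalgebra R A ↥(N i)) A (N i)
    haveI := IsGaloisGroup.smulCommClassQuotient H R (FixedPoints.subalgebra R A ↥(N i)) A (N i)
    haveI := IsGaloisGroup.quotient H R (FixedPoints.subalgebra R A ↥(N i)) A (N i)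
    have h1 := IsGaloisGroup.card_eq_finrank' (H ⧸ N i) R (FixedPoints.subalgebra R A ↥(N i))
    have h2 := Subgroup.card_eq_card_quotient_mul_card_subgroup (N i)
    have h3 := hN2 i
    rw [h2] at h3
    have hpos : 0 < Nat.card (N i) := Nat.card_pos
    rw [← h1]
    exact Nat.le_of_mul_le_mul_right h3 hpos
  have hrank : ∏ i, Module.finrank R (FixedPoints.subalgebra R A ↥(N i)) ≤
      Module.finrank R A := by
    rw [hrkA]
    calc ∏ i, Module.finrank R (FixedPoints.subalgebra R A ↥(N i))
        ≤ ∏ _i : Fin n, p :=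
          Finset.prod_le_prod (fun _ _ => Nat.zero_le _) (fun i _ => hrk i)
      _ = p ^ n := by simp
  obtain ⟨ι, hι, v, hspan, hli⟩ := exists_products_basis R A hinj
    (fun i => FixedPoints.subalgebra R A ↥(N i)) hfrac hrank
  haveI := hι
  have hstep2 : ∀ (q : Ideal R), q.IsPrime → q.height = 1 → ∀ a : A,
      ∃ s : R, s ∉ q ∧ s • a ∈ (⨆ i, FixedPoints.subalgebra R A ↥(N i)) := by
    intro q hqp hq a
    haveI := hqp
    obtain ⟨P, -, hPp, hPq⟩ := Ideal.exists_ideal_over_prime_of_isIntegral q (⊥ : Ideal A)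
      (by rw [Ideal.comap_bot_of_injective _ hinj]; exact bot_le)
    haveI := hPp
    have hPh : P.height = 1 := height_eq_one_of_comap hinj q hq P hPq
    have hinert : ∀ P' : Ideal A, P'.IsPrime → P'.comap (algebraMap R A) = q →
        P'.inertia H = P.inertia H := by
      intro P' hP'p hP'q
      haveI := hP'p
      exact inertia_eq_of_under_eq R A H hcomm P P' (hPq.trans hP'q.symm)
    by_cases hin : P.inertia H = ⊥
    · refine step2 hinj R hinj (fun i : Fin n => FixedPoints.subalgebra R A ↥(N i)) _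
        (fun d => Subalgebra.algebraMap_mem _ d)
        (fun j => le_iSup (fun i => FixedPoints.subalgebra R A ↥(N i)) j) ?_ hfrac q hq ?_ a
      · intro m hm
        have hle : (⨆ i, FixedPoints.subalgebra R A ↥(N i)) ≤
            Algebra.adjoin R (Set.range (algebraMap R A) ∪
              ⋃ j, ((FixedPoints.subalgebra R A ↥(N j) : Subalgebra R A) : Set A)) :=
          iSup_le (fun j x hx => Algebra.subset_adjoin (Or.inr (Set.mem_iUnion.mpr ⟨j, hx⟩)))
        exact hle hm
      · intro P' hP'p hP'q j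
        haveI := hP'p
        have hle : P'.inertia H ≤ N j := by
          rw [hinert P' hP'p hP'q, hin]; exact bot_le
        obtain ⟨g, hg, hget⟩ :=
          Groth.Agent.H6.InertiaH.exists_etale_fixedPoints R hinj P' (N j) hle
        exact ⟨g, hg, by haveI := hget; infer_instance⟩
    · obtain ⟨i0, hi0⟩ := hMR3 P hPp hPh hin
      haveI : IsIntegrallyClosed (FixedPoints.subalgebra R A ↥(N i0)) :=
        Groth.Agent.H9.WQIn.isIntegrallyClosed_fixed R A ↥(N i0)
      refine step2 hinj (FixedPoints.subalgebra R A ↥(N i0)) (hinjS i0)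
        (fun j : {j : Fin n // j ≠ i0} => FixedPoints.subalgebra R A ↥(N j.1)) _
        (fun d => (le_iSup (fun i => FixedPoints.subalgebra R A ↥(N i)) i0) d.2)
        (fun j => le_iSup (fun i => FixedPoints.subalgebra R A ↥(N i)) j.1) ?_ hfrac q hq ?_ a
      · intro m hm
        have hle : (⨆ i, FixedPoints.subalgebra R A ↥(N i)) ≤
            Algebra.adjoin R (Set.range (algebraMap (FixedPoints.subalgebra R A ↥(N i0)) A) ∪
              ⋃ j : {j : Fin n // j ≠ i0},
                ((FixedPoints.subalgebra R A ↥(N j.1) : Subalgebra R A) : Set A)) := by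
          refine iSup_le (fun j x hx => Algebra.subset_adjoin ?_)
          by_cases hj : j = i0
          · subst hj
            exact Or.inl ⟨⟨x, hx⟩, rfl⟩
          · exact Or.inr (Set.mem_iUnion.mpr ⟨⟨j, hj⟩, hx⟩)
        exact hle hm
      · intro P' hP'p hP'q j
        haveI := hP'p
        have hle : P'.inertia H ≤ N j.1 := by
          rw [hinert P' hP'p hP'q, hi0]; exact hN3 j.1 i0 (Ne.symm j.2)
        obtain ⟨g, hg, hget⟩ :=
          Groth.Agent.H6.InertiaH.exists_etale_fixedPoints R hinj P' (N j.1) hle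
        exact ⟨g, hg, by haveI := hget; infer_instance⟩
  rw [eq_top_iff]
  intro a _
  obtain ⟨r₀, hr₀, hr₀a⟩ := hfrac a
  obtain ⟨cI, hcI⟩ : ∃ cI : Ideal R, ∀ r, r ∈ cI ↔
      r • a ∈ (⨆ i, FixedPoints.subalgebra R A ↥(N i)) :=
    ⟨{ carrier := {r | r • a ∈ (⨆ i, FixedPoints.subalgebra R A ↥(N i))}
       add_mem' := fun {x y} hx hy => by
         show (x + y) • a ∈ (⨆ i, FixedPoints.subalgebra R A ↥(N i))
         rw [add_smul]; exact Subalgebra.add_mem _ hx hy
       zero_mem' := by
         show (0 : R) • a ∈ (⨆ i, FixedPoints.subalgebra R A ↥(N i))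
         rw [zero_smul]; exact Subalgebra.zero_mem _
       smul_mem' := fun c x hx => by
         show (c • x) • a ∈ (⨆ i, FixedPoints.subalgebra R A ↥(N i))
         rw [smul_eq_mul, mul_smul]; exact Subalgebra.smul_mem _ hx c }, fun r => Iff.rfl⟩
  have hprime : ∀ d ∈ (UniqueFactorizationMonoid.factors r₀).toFinset,
      (Ideal.span {d}).IsPrime := by
    intro d hd
    have hd' := UniqueFactorizationMonoid.prime_of_factor d (Multiset.mem_toFinset.mp hd)
    exact (Ideal.span_singleton_prime hd'.ne_zero).mpr hd'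
  have hno : ¬ ∃ d ∈ (UniqueFactorizationMonoid.factors r₀).toFinset,
      cI ≤ Ideal.span {d} := by
    rintro ⟨d, hd, hle⟩
    haveI := hprime d hd
    have hd' := UniqueFactorizationMonoid.prime_of_factor d (Multiset.mem_toFinset.mp hd)
    have hh : (Ideal.span {d}).height = 1 := by
      refine le_antisymm ?_ ?_
      · exact Ideal.height_le_one_of_isPrincipal_of_mem_minimalPrimes (Ideal.span {d}) _
          (by rw [Ideal.minimalPrimes_eq_subsingleton_self]; exact Set.mem_singleton _)
      · apply Groth.Agent.H6.QFNorm.one_le_height_of_ne_bot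
        intro hbot
        exact hd'.ne_zero (Ideal.span_singleton_eq_bot.mp hbot)
    obtain ⟨s, hs, hsa⟩ := hstep2 _ inferInstance hh a
    exact hs (hle ((hcI s).mpr hsa))
  have hnsub := mt (Ideal.subset_union_prime
    (s := (UniqueFactorizationMonoid.factors r₀).toFinset)
    (f := fun d : R => Ideal.span {d}) (0 : R) (0 : R)
    (fun d hd _ _ => hprime d hd) (I := cI)).mp hno
  obtain ⟨s₀, hs₀c, hs₀⟩ := Set.not_subset.mp hnsub
  have hrel : IsRelPrime r₀ s₀ := by
    rw [UniqueFactorizationMonoid.isRelPrime_iff_no_prime_factors hr₀]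
    intro d hdr hds hprimed
    obtain ⟨d', hd'mem, hassoc⟩ :=
      UniqueFactorizationMonoid.exists_mem_factors_of_dvd hr₀ hprimed.irreducible hdr
    apply hs₀
    refine Set.mem_iUnion₂.mpr ⟨d', Finset.mem_coe.mpr (Multiset.mem_toFinset.mpr hd'mem), ?_⟩
    show s₀ ∈ Ideal.span {d'}
    rw [Ideal.mem_span_singleton]
    exact hassoc.symm.dvd.trans hds
  exact mem_of_isRelPrime_smul_mem R A hinj _ v hspan hli r₀ s₀ hr₀ hrel a hr₀a
    ((hcI s₀).mp hs₀c)

theorem main (p : ℕ) (R : Type u) [CommRing R] [IsRegularLocalRing R]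
    (A : Type v) [CommRing A] [IsDomain A] [IsIntegrallyClosed A]
    [Algebra R A] [Module.Finite R A] (hinj : Function.Injective (algebraMap R A))
    (H : Type w) [Group H] [Finite H] [MulSemiringAction H A] [SMulCommClass H R A]
    [FaithfulSMul H A]
    (hfix : ∀ a : A, (∀ h : H, h • a = a) → a ∈ Set.range (algebraMap R A))
    (hcomm : ∀ g h : H, g * h = h * g)
    (n : ℕ) (hcard : Nat.card H = p ^ n) (Gi : Fin n → Subgroup H)
    (hGi : ∀ i, Nat.card (Gi i) = p) (hsup : (⨆ i, Gi i) = ⊤)
    (hMR3 : ∀ P : Ideal A, P.IsPrime → P.height = 1 → P.inertia H ≠ ⊥ → ∃ i, P.inertia H = Gi i)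
    (hMR4 : ∀ i, Module.Free R (FixedPoints.subalgebra R A
      ↥(⨆ j ∈ (Finset.univ.erase i : Finset (Fin n)), Gi j : Subgroup H))) :
    (⨆ i, FixedPoints.subalgebra R A
      ↥(⨆ j ∈ (Finset.univ.erase i : Finset (Fin n)), Gi j : Subgroup H)) = ⊤ := by
  classical
  exact main_aux p R A hinj H hfix hcomm n hcard Gi
    (fun i => ⨆ j ∈ (Finset.univ.erase i : Finset (Fin n)), Gi j)
    (iInf_compl_eq_bot hcomm hcard Gi hGi hsup)
    (fun i => by
      have h1 := card_le_mul_card_compl hcomm Gi hsup i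
      rwa [hGi i] at h1)
    (fun i j hji => le_iSup₂_of_le j (Finset.mem_erase.mpr ⟨hji, Finset.mem_univ j⟩) le_rfl)
    hMR3 hMR4

end Groth.Agent.H9.WQGen
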