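import Mathlib
import Groth.Agent.Lib.Helper9.Misc.WildFrobA

set_option autoImplicit false

namespace Groth.Agent.H9.WQOrt

open Polynomial Groth.Agent.H9.WildFrob

theorem aeval_fp_eq_zero {R A : Type*} [CommRing R] [CommRing A] [Algebra R A] (p : ℕ) (z : A)
    (c e : R) (hz : z ^ p = algebraMap R A c * z + algebraMap R A e) :
    Polynomial.aeval z (fp p c e) = 0 := by
  unfold fp
  rw [map_sub, map_sub, map_mul, map_pow, aeval_X, aeval_C, aeval_C, hz]
  ring

theorem aeval_eq_sum_fin {R A : Type*} [CommRing R] [CommRing A] [Algebra R A] (p : ℕ) (z : A)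
    (q : R[X]) (hq : q.natDegree < p) :
    Polynomial.aeval z q = ∑ j : Fin p, q.coeff (j : ℕ) • z ^ (j : ℕ) := by
  rw [Polynomial.aeval_eq_sum_range' hq, Finset.sum_range]

theorem ker_eq {R A : Type*} [CommRing R] [Nontrivial R] [CommRing A] [Algebra R A] (p : ℕ)
    (hp2 : 2 ≤ p) (z : A) (c e : R) (hz : z ^ p = algebraMap R A c * z + algebraMap R A e)
    (hli : ∀ c' : Fin p → R, ∑ j : Fin p, c' j • z ^ (j : ℕ) = 0 → ∀ j, c' j = 0) :
    RingHom.ker (Polynomial.aeval z : R[X] →ₐ[R] A) = Ideal.span {fp p c e} := by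
  have hmonic := fp_monic hp2 c e
  have hf0 := aeval_fp_eq_zero p z c e hz
  apply le_antisymm
  · intro q hq
    have hq' : Polynomial.aeval z q = 0 := RingHom.mem_ker.mp hq
    have hdiv := Polynomial.modByMonic_add_div q (fp p c e)
    have hr0 : Polynomial.aeval z (q %ₘ fp p c e) = 0 := by
      have h := congrArg (Polynomial.aeval z) hdiv
      rw [map_add, map_mul, hf0, zero_mul, add_zero] at h
      rw [h]
      exact hq'
    have hdeg : (q %ₘ fp p c e).natDegree < p := by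
      have h := Polynomial.natDegree_modByMonic_lt q hmonic (fp_ne_one hp2 c e)
      rwa [fp_natDegree hp2] at h
    have hzero : q %ₘ fp p c e = 0 := by
      have hc := hli (fun j => (q %ₘ fp p c e).coeff (j : ℕ))
        ((aeval_eq_sum_fin p z _ hdeg).symm.trans hr0)
      ext m
      rw [Polynomial.coeff_zero]
      by_cases hm : m < p
      · exact hc ⟨m, hm⟩
      · exact Polynomial.coeff_eq_zero_of_natDegree_lt (by omega)
    rw [Ideal.mem_span_singleton]
    refine ⟨q /ₘ fp p c e, ?_⟩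
    rw [hzero, zero_add] at hdiv
    exact hdiv.symm
  · rw [Ideal.span_le]
    intro q hq
    rw [Set.mem_singleton_iff] at hq
    rw [hq, SetLike.mem_coe, RingHom.mem_ker]
    exact hf0

theorem fixed_of_mem_range {R A : Type*} [CommRing R] [CommRing A] [Algebra R A]
    (g : A ≃ₐ[R] A) (z : A) (hgz : g z = z) (t : A)
    (ht : t ∈ (Polynomial.aeval z : R[X] →ₐ[R] A).range) : g t = t := by
  obtain ⟨q, rfl⟩ := (AlgHom.mem_range _).mp ht
  have h := Polynomial.aeval_algHom_apply g z q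
  rw [hgz] at h
  exact h.symm

theorem prod_ofFn_hom {V M : Type*} [AddCommMonoid V] [Monoid M] (G : V → M) (hG0 : G 0 = 1)
    (hGadd : ∀ ν ν', G (ν + ν') = G ν * G ν') :
    ∀ (m : ℕ) (w : Fin m → V), (List.ofFn fun i => G (w i)).prod = G (∑ i, w i) := by
  intro m
  induction m with
  | zero =>
    intro w
    simp [hG0]
  | succ m ih =>
    intro w
    rw [List.ofFn_succ, List.prod_cons, Fin.sum_univ_succ, hGadd, ih (fun i => w i.succ)]

theorem mem_range_of_fixed {R A : Type*} [CommRing R] [IsDomain R] [CommRing A] [IsDomain A]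
    [Algebra R A] (p : ℕ) [hpp : Fact p.Prime] [CharP A p]
    {V : Type*} [AddCommGroup V] [Module (ZMod p) V]
    (ℓ : V →ₗ[ZMod p] ZMod p) (ν₀ : V) (hν₀ : ℓ ν₀ = 1)
    (G : V → (A ≃ₐ[R] A)) (hG0 : G 0 = 1) (hGadd : ∀ ν ν', G (ν + ν') = G ν * G ν')
    (hfix : ∀ b : A, (∀ ν, G ν b = b) → b ∈ Set.range (algebraMap R A))
    (hinj : Function.Injective (algebraMap R A))
    (z : A) (D : R) (hD : D ≠ 0)
    (hGz : ∀ ν, G ν z = z + (ZMod.castHom (dvd_refl p) A (ℓ ν)) * algebraMap R A D)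
    (E : R) (hz : z ^ p = algebraMap R A (D ^ (p - 1)) * z + algebraMap R A E)
    (hsat : ∀ (c : Fin p → R) (t : A),
      ∑ j : Fin p, c j • z ^ (j : ℕ) = algebraMap R A (D ^ (p - 1)) * t →
        ∀ j, D ^ (p - 1) ∣ c j)
    (t : A) (ht : ∀ ν, ℓ ν = 0 → G ν t = t) :
    t ∈ (Polynomial.aeval z : R[X] →ₐ[R] A).range := by
  classical
  have hp2 : 2 ≤ p := hpp.out.two_le
  have hzfix : ∀ ν, ℓ ν = 0 → G ν z = z := by
    intro ν h
    rw [hGz, h, map_zero, zero_mul, add_zero]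
  have hg_add : ∀ (ν : V) (m : ZMod p) (y : A), (∀ ν', ℓ ν' = 0 → G ν' y = y) →
      G ν (G (m • ν₀) y) = G ((m + ℓ ν) • ν₀) y := by
    intro ν m y hy
    have h1 : ν + m • ν₀ = (m + ℓ ν) • ν₀ + (ν - ℓ ν • ν₀) := by
      rw [add_smul]
      abel
    have h2 : ℓ (ν - ℓ ν • ν₀) = 0 := by
      rw [map_sub, map_smul, hν₀, smul_eq_mul, mul_one, sub_self]
    calc G ν (G (m • ν₀) y) = (G ν * G (m • ν₀)) y := rfl
      _ = G (ν + m • ν₀) y := by rw [hGadd]
      _ = G ((m + ℓ ν) • ν₀ + (ν - ℓ ν • ν₀)) y := by rw [h1]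
      _ = (G ((m + ℓ ν) • ν₀) * G (ν - ℓ ν • ν₀)) y := by rw [hGadd]
      _ = G ((m + ℓ ν) • ν₀) (G (ν - ℓ ν • ν₀) y) := rfl
      _ = G ((m + ℓ ν) • ν₀) y := by rw [hy _ h2]
  obtain ⟨Qt, hQt⟩ : ∃ Qt : A[X], Qt = ∑ m : ZMod p, C (G (m • ν₀) t) *
      ((X - C (G (m • ν₀) z)) ^ (p - 1) - C (algebraMap R A D ^ (p - 1))) := ⟨_, rfl⟩
  have hmap : ∀ ν, Qt.map ((G ν : A ≃ₐ[R] A) : A →+* A) = Qt := by
    intro ν
    rw [hQt, Polynomial.map_sum]
    refine Fintype.sum_equiv (Equiv.addRight (ℓ ν)) _ _ (fun m => ?_)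
    rw [Polynomial.map_mul, Polynomial.map_sub, Polynomial.map_pow, Polynomial.map_sub,
      Polynomial.map_X, Polynomial.map_C, Polynomial.map_C, Polynomial.map_C]
    have e1 : ((G ν : A ≃ₐ[R] A) : A →+* A) (G (m • ν₀) t) = G ((m + ℓ ν) • ν₀) t :=
      hg_add ν m t ht
    have e2 : ((G ν : A ≃ₐ[R] A) : A →+* A) (G (m • ν₀) z) = G ((m + ℓ ν) • ν₀) z :=
      hg_add ν m z hzfix
    have e3 : ((G ν : A ≃ₐ[R] A) : A →+* A) (algebraMap R A D ^ (p - 1)) =
        algebraMap R A D ^ (p - 1) := by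
      rw [map_pow]
      congr 1
      exact (G ν).commutes D
    rw [e1, e2, e3]
    rfl
  have hcoef : ∀ j, Qt.coeff j ∈ Set.range (algebraMap R A) := by
    intro j
    apply hfix
    intro ν
    have h := congrArg (fun P => Polynomial.coeff P j) (hmap ν)
    simp only [Polynomial.coeff_map] at h
    exact h
  obtain ⟨Q, hQ⟩ := (Polynomial.mem_lifts Qt).mp ((Polynomial.lifts_iff_coeff_lifts Qt).mpr hcoef)
  have hδ : algebraMap R A D ≠ 0 := fun h => hD (hinj (by rw [h, map_zero]))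
  have heval : Polynomial.eval z Qt = - (algebraMap R A D ^ (p - 1)) * t := by
    rw [hQt, Polynomial.eval_finsetSum]
    rw [Finset.sum_eq_single (0 : ZMod p)]
    · rw [zero_smul, hG0]
      simp only [Polynomial.eval_mul, Polynomial.eval_sub, Polynomial.eval_pow, Polynomial.eval_C,
        Polynomial.eval_X, AlgEquiv.one_apply, sub_self]
      rw [zero_pow (by omega : p - 1 ≠ 0)]
      ring
    · intro m _ hm
      have h1 : z - G (m • ν₀) z = ZMod.castHom (dvd_refl p) A (-m) * algebraMap R A D := by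
        rw [hGz, map_smul, hν₀, smul_eq_mul, mul_one, map_neg]
        ring
      have h2 : (-m) ^ (p - 1) = 1 := ZMod.pow_card_sub_one_eq_one (neg_ne_zero.mpr hm)
      simp only [Polynomial.eval_mul, Polynomial.eval_sub, Polynomial.eval_pow, Polynomial.eval_C,
        Polynomial.eval_X]
      rw [h1, mul_pow, ← map_pow, h2, map_one, one_mul, sub_self, mul_zero]
    · intro h
      exact absurd (Finset.mem_univ _) h
  have hf0 := aeval_fp_eq_zero p z (D ^ (p - 1)) E hz
  have hQz : Polynomial.aeval z Q = - (algebraMap R A D ^ (p - 1)) * t := by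
    rw [Polynomial.aeval_def, Polynomial.eval₂_eq_eval_map, hQ, heval]
  have hdiv := Polynomial.modByMonic_add_div Q (fp p (D ^ (p - 1)) E)
  have hr : Polynomial.aeval z (Q %ₘ fp p (D ^ (p - 1)) E) =
      - (algebraMap R A D ^ (p - 1)) * t := by
    have h := congrArg (Polynomial.aeval z) hdiv
    rw [map_add, map_mul, hf0, zero_mul, add_zero] at h
    rw [h, hQz]
  have hdeg : (Q %ₘ fp p (D ^ (p - 1)) E).natDegree < p := by
    have h := Polynomial.natDegree_modByMonic_lt Q (fp_monic hp2 (D ^ (p - 1)) E)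
      (fp_ne_one hp2 _ _)
    rwa [fp_natDegree hp2] at h
  rw [aeval_eq_sum_fin p z _ hdeg] at hr
  have hdvd := hsat (fun j => (Q %ₘ fp p (D ^ (p - 1)) E).coeff (j : ℕ)) (-t)
    (hr.trans (by rw [map_pow]; ring))
  have hdvd' : ∀ j : Fin p, ∃ c' : R,
      (Q %ₘ fp p (D ^ (p - 1)) E).coeff (j : ℕ) = D ^ (p - 1) * c' := fun j => hdvd j
  choose c' hc' using hdvd'
  have hne : algebraMap R A (D ^ (p - 1)) ≠ 0 := by
    rw [map_pow]
    exact pow_ne_zero _ hδ
  have hS : ∑ j : Fin p, c' j • z ^ (j : ℕ) = -t := by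
    apply mul_left_cancel₀ hne
    calc algebraMap R A (D ^ (p - 1)) * ∑ j : Fin p, c' j • z ^ (j : ℕ)
        = ∑ j : Fin p, (Q %ₘ fp p (D ^ (p - 1)) E).coeff (j : ℕ) • z ^ (j : ℕ) := by
          rw [Finset.mul_sum]
          refine Finset.sum_congr rfl fun j _ => ?_
          rw [hc' j, Algebra.smul_def, Algebra.smul_def, map_mul]
          ring
      _ = - (algebraMap R A D ^ (p - 1)) * t := hr
      _ = algebraMap R A (D ^ (p - 1)) * -t := by
          rw [map_pow]
          ring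
  refine (AlgHom.mem_range _).mpr ⟨∑ j : Fin p, C (- c' j) * X ^ (j : ℕ), ?_⟩
  have ht' : t = ∑ j : Fin p, -(c' j • z ^ (j : ℕ)) := by
    rw [Finset.sum_neg_distrib, hS, neg_neg]
  rw [map_sum]
  conv_rhs => rw [ht']
  refine Finset.sum_congr rfl fun j _ => ?_
  rw [map_mul, map_pow, Polynomial.aeval_C, Polynomial.aeval_X, Algebra.smul_def, map_neg,
    neg_mul]

end Groth.Agent.H9.WQOrt
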