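import Mathlib
import Groth.Agent.Lib.Helper9.Misc.WildFrobA

set_option autoImplicit false

namespace Groth.Agent.H9.WQOrt

open Groth.Agent.H9.WildFrob

section NT

theorem dvd_of_forall_dvd_mul {R : Type*} [CommRing R] [DecompositionMonoid R]
    {ι : Type*} [DecidableEq ι] (S : Finset ι) (hS : S.Nonempty) (a : ι → R) (μ : R) (u : ι → R)
    (hu : ∀ i ∈ S, IsUnit (u i))
    (hcop : ∀ i ∈ S, ∀ j ∈ S, i ≠ j → IsRelPrime (a i) (a j)) (hμa : ∀ i ∈ S, IsRelPrime μ (a i))
    (N l : ℕ) (r : R)
    (h : ∀ i ∈ S, (μ * ∏ j ∈ S, a j) ^ N ∣ r * (u i * ∏ j ∈ S.erase i, a j) ^ l) :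
    (μ * ∏ j ∈ S, a j) ^ N ∣ r := by
  have hai : ∀ i ∈ S, IsRelPrime (a i) (u i * ∏ j ∈ S.erase i, a j) := by
    intro i hi
    refine IsRelPrime.mul_right (hu i hi).isRelPrime_right (IsRelPrime.prod_right fun j hj => ?_)
    exact hcop i hi j (Finset.mem_of_mem_erase hj) (Finset.ne_of_mem_erase hj).symm
  have hμi : ∀ i ∈ S, IsRelPrime μ (u i * ∏ j ∈ S.erase i, a j) := by
    intro i hi
    refine IsRelPrime.mul_right (hu i hi).isRelPrime_right (IsRelPrime.prod_right fun j hj => ?_)
    exact hμa j (Finset.mem_of_mem_erase hj)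
  have h1 : ∀ i ∈ S, a i ^ N ∣ r := by
    intro i hi
    have hd : a i ^ N ∣ (μ * ∏ j ∈ S, a j) ^ N :=
      pow_dvd_pow_of_dvd ((Finset.dvd_prod_of_mem a hi).trans (dvd_mul_left _ _)) N
    exact ((hai i hi).pow (m := N) (n := l)).dvd_of_dvd_mul_right (hd.trans (h i hi))
  have h2 : μ ^ N ∣ r := by
    obtain ⟨i, hi⟩ := hS
    have hd : μ ^ N ∣ (μ * ∏ j ∈ S, a j) ^ N := pow_dvd_pow_of_dvd (dvd_mul_right _ _) N
    exact ((hμi i hi).pow (m := N) (n := l)).dvd_of_dvd_mul_right (hd.trans (h i hi))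
  rw [mul_pow, ← Finset.prod_pow]
  refine IsRelPrime.mul_dvd (IsRelPrime.prod_right fun i hi => ((hμa i hi).pow)) h2 ?_
  refine Finset.prod_dvd_of_isRelPrime ?_ (fun i hi => h1 i hi)
  intro i hi j hj hij
  exact (hcop i hi j hj hij).pow

end NT

section Coord

variable {R : Type*} [CommRing R] [Nontrivial R] {n p : ℕ}

theorem rho_eq_coeff (hp : 2 ≤ p) (c x : Fin n → R) (q : MvPolynomial (Fin n) R)
    (hq : ∀ m ∈ q.support, ∀ i, m i < p) (β : Fin n → Fin p) (m₀ : Fin n →₀ ℕ)
    (h₀ : ∀ i, m₀ i = (β i : ℕ)) : rho p c x q β = MvPolynomial.coeff m₀ q := by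
  classical
  have hw : ∀ m ∈ q.support, w p c x m β = if m = m₀ then 1 else 0 := by
    intro m hm
    unfold w
    have hfac : ∀ j, ((Polynomial.X ^ (m j) : Polynomial R) %ₘ fp p (c j) (x j)).coeff (β j) =
        if ((β j : ℕ)) = m j then 1 else 0 := by
      intro j
      rw [mod_self_of_lt hp (c j) (x j)
        (by rw [Polynomial.degree_X_pow]; exact_mod_cast hq m hm j), Polynomial.coeff_X_pow]
    by_cases h : m = m₀
    · rw [if_pos h]
      apply Finset.prod_eq_one
      intro j _
      rw [hfac j, if_pos (by rw [h, h₀ j])]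
    · rw [if_neg h]
      obtain ⟨j, hj⟩ : ∃ j, m j ≠ m₀ j := by
        by_contra hcon
        push Not at hcon
        exact h (Finsupp.ext hcon)
      apply Finset.prod_eq_zero (Finset.mem_univ j)
      rw [hfac j, if_neg]
      intro e
      exact hj (by rw [h₀ j, e])
  have hterm : ∀ m ∈ q.support,
      rho p c x (MvPolynomial.monomial m (MvPolynomial.coeff m q)) β =
        if m = m₀ then MvPolynomial.coeff m q else 0 := by
    intro m hm
    rw [rho_monomial, Pi.smul_apply, smul_eq_mul, hw m hm, mul_ite, mul_one, mul_zero]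
  conv_lhs => rw [q.as_sum]
  rw [map_sum, Finset.sum_apply, Finset.sum_congr rfl hterm, Finset.sum_ite_eq']
  split_ifs with h
  · rfl
  · exact (MvPolynomial.notMem_support_iff.mp h).symm

theorem coeff_single_linear_pow (d : Fin n → R) (i : Fin n) :
    ∀ (j l : ℕ), MvPolynomial.coeff (Finsupp.single i l)
      ((∑ i' : Fin n, MvPolynomial.C (d i') * MvPolynomial.X i') ^ j) =
        if l = j then d i ^ j else 0 := by
  classical
  intro j
  induction j with
  | zero =>
    intro l
    rw [pow_zero, MvPolynomial.coeff_one]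
    by_cases hl : l = 0
    · subst hl
      simp
    · rw [if_neg hl, if_neg]
      intro h
      exact hl (Finsupp.single_eq_zero.mp h.symm)
  | succ j ih =>
    intro l
    rw [pow_succ, Finset.mul_sum, MvPolynomial.coeff_sum]
    have hterm : ∀ i' ∈ (Finset.univ : Finset (Fin n)),
        MvPolynomial.coeff (Finsupp.single i l)
          ((∑ i'' : Fin n, MvPolynomial.C (d i'') * MvPolynomial.X i'') ^ j *
            (MvPolynomial.C (d i') * MvPolynomial.X i')) =
        if i' = i then (if l = j + 1 then d i ^ (j + 1) else 0) else 0 := by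
      intro i' _
      rw [show ∀ (P : MvPolynomial (Fin n) R), P * (MvPolynomial.C (d i') * MvPolynomial.X i') =
        MvPolynomial.C (d i') * (P * MvPolynomial.X i') from fun P => by ring]
      rw [MvPolynomial.coeff_C_mul, MvPolynomial.coeff_mul_X']
      by_cases hi : i' = i
      · rw [hi, if_pos rfl]
        by_cases hl : l = 0
        · rw [hl, if_neg (by simp), mul_zero, if_neg (by omega)]
        · rw [if_pos (by rw [Finsupp.mem_support_iff, Finsupp.single_eq_same]; exact hl)]
          rw [← Finsupp.single_tsub, ih (l - 1)]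
          by_cases hlj : l = j + 1
          · rw [if_pos hlj, if_pos (by omega), pow_succ]
            ring
          · rw [if_neg hlj, if_neg (by omega), mul_zero]
      · rw [if_neg hi, if_neg, mul_zero]
        rw [Finsupp.mem_support_iff, Finsupp.single_apply, if_neg (fun h => hi h.symm)]
        simp
    rw [Finset.sum_congr rfl hterm, Finset.sum_ite_eq' Finset.univ i, if_pos (Finset.mem_univ i)]

theorem support_linear_pow_lt (d : Fin n → R) (j : ℕ) (hj : j < p) :
    ∀ m ∈ ((∑ i' : Fin n, MvPolynomial.C (d i') * MvPolynomial.X i') ^ j).support,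
      ∀ i, m i < p := by
  classical
  intro m hm i
  have h1 : MvPolynomial.degreeOf i
      (∑ i' : Fin n, MvPolynomial.C (d i') * MvPolynomial.X i') ≤ 1 := by
    refine (MvPolynomial.degreeOf_sum_le i Finset.univ _).trans (Finset.sup_le fun i' _ => ?_)
    refine (MvPolynomial.degreeOf_C_mul_le _ i _).trans ?_
    rw [MvPolynomial.degreeOf_X]
    split_ifs <;> omega
  have h2 := MvPolynomial.degreeOf_pow_le i
    (∑ i' : Fin n, MvPolynomial.C (d i') * MvPolynomial.X i') j
  have h3 : m i ≤ MvPolynomial.degreeOf i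
      ((∑ i' : Fin n, MvPolynomial.C (d i') * MvPolynomial.X i') ^ j) :=
    (MvPolynomial.degreeOf_le_iff (n := i)).mp (le_refl _) m hm
  calc m i ≤ _ := h3
    _ ≤ j * _ := h2
    _ ≤ j * 1 := Nat.mul_le_mul_left j h1
    _ = j := mul_one j
    _ < p := hj

/-- the index `l e_i` -/
def eIdx (hp : 2 ≤ p) (i : Fin n) (l : Fin p) : Fin n → Fin p :=
  fun i' => if i' = i then l else ⟨0, by omega⟩

theorem rhobar_linear_pow (hp : 2 ≤ p) (c x d : Fin n → R) (i : Fin n) (j l : Fin p) :
    rhobar hp c x ((∑ i' : Fin n, algebraMap R (QA p c x) (d i') *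
      mkA p c x (MvPolynomial.X i')) ^ (j : ℕ)) (eIdx hp i l)
      = if l = j then d i ^ (j : ℕ) else 0 := by
  classical
  have hZ : (∑ i' : Fin n, algebraMap R (QA p c x) (d i') *
      mkA p c x (MvPolynomial.X i')) ^ (j : ℕ) =
      mkA p c x ((∑ i' : Fin n, MvPolynomial.C (d i') * MvPolynomial.X i') ^ (j : ℕ)) := by
    rw [map_pow, map_sum]
    congr 1
  have hidx : ∀ i', (Finsupp.single i (l : ℕ)) i' = ((eIdx hp i l i' : Fin p) : ℕ) := by
    intro i'
    rw [Finsupp.single_apply]
    unfold eIdx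
    by_cases h : i' = i
    · rw [if_pos h.symm, if_pos h]
    · rw [if_neg (fun e => h e.symm), if_neg h]
  rw [hZ, rhobar_mk, rho_eq_coeff hp c x _ (support_linear_pow_lt d j j.2) (eIdx hp i l)
    (Finsupp.single i (l : ℕ)) hidx, coeff_single_linear_pow]
  by_cases h : l = j
  · rw [if_pos h, if_pos (by rw [h])]
  · rw [if_neg h, if_neg (fun e => h (Fin.ext e))]

theorem coord_sum (hp : 2 ≤ p) (c x d : Fin n → R) (i : Fin n) (cf : Fin p → R) (l : Fin p) :
    rhobar hp c x (∑ j : Fin p, cf j • (∑ i' : Fin n, algebraMap R (QA p c x) (d i') *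
      mkA p c x (MvPolynomial.X i')) ^ (j : ℕ)) (eIdx hp i l)
      = cf l * d i ^ (l : ℕ) := by
  classical
  have hterm : ∀ j ∈ (Finset.univ : Finset (Fin p)),
      rhobar hp c x (cf j • (∑ i' : Fin n, algebraMap R (QA p c x) (d i') *
        mkA p c x (MvPolynomial.X i')) ^ (j : ℕ)) (eIdx hp i l) =
        if j = l then cf l * d i ^ (l : ℕ) else 0 := by
    intro j _
    rw [map_smul, Pi.smul_apply, smul_eq_mul, rhobar_linear_pow]
    by_cases h : j = l
    · rw [if_pos h, if_pos h.symm, h]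
    · rw [if_neg h, if_neg (fun e => h e.symm), mul_zero]
  rw [map_sum, Finset.sum_apply, Finset.sum_congr rfl hterm, Finset.sum_ite_eq' Finset.univ l,
    if_pos (Finset.mem_univ l)]

end Coord

end Groth.Agent.H9.WQOrt
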