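import Mathlib
import Groth.Agent.H4.WqA
import Groth.Agent.H4.WqAut
import Groth.Agent.H4.WqSpan
import Groth.Agent.H4.WqTr
import Groth.Agent.H4.MvPSVars
import Groth.Agent.Lib.Helper6.PSCotC
import Groth.Agent.Lib.Helper7.Reg1
import Groth.Agent.Lib.Helper8.Japanese.PSNormal
import Groth.Agent.Lib.Helper3.CA.ABufd2
import Groth.Agent.Lib.Helper9.Misc.WQOrtA
import Groth.Agent.Lib.Helper9.Misc.WQOrtB

set_option autoImplicit false
universe u

namespace Groth.Agent.H9.WQOrt

section Bridge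

variable {R : Type*} [CommRing R] [Nontrivial R] {n p : ℕ}

/-- coordinates on helper4's model of the quotient -/
noncomputable def coord (hp : 2 ≤ p) (b x : Fin n → R) :
    H4.WqA.QA p b x →ₗ[R] ((Fin n → Fin p) → R) :=
  WildFrob.rhobar hp (fun i => b i ^ (p - 1)) x

theorem coord_sum' (hp : 2 ≤ p) (b x d : Fin n → R) (i : Fin n) (cf : Fin p → R) (l : Fin p) :
    coord hp b x (∑ j : Fin p, cf j • (∑ i' : Fin n, algebraMap R (H4.WqA.QA p b x) (d i') *
      H4.WqA.uu p b x i') ^ (j : ℕ)) (eIdx hp i l) = cf l * d i ^ (l : ℕ) :=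
  coord_sum hp (fun i => b i ^ (p - 1)) x d i cf l

end Bridge

theorem concrete {R : Type u} [CommRing R] [IsDomain R] [IsIntegrallyClosed R]
    [UniqueFactorizationMonoid R] (p : ℕ) [hpp : Fact p.Prime] {n : ℕ}
    (a b x : Fin n → R) (μ : R) (hb : ∀ i, b i = μ * a i) (κ : ZMod p →+* R)
    [IsDomain (H4.WqA.QA p b x)] [CharP (H4.WqA.QA p b x) p]
    (hinj : Function.Injective (algebraMap R (H4.WqA.QA p b x)))
    (ha_ne : ∀ i, a i ≠ 0) (hμ : μ ≠ 0)
    (hcop : ∀ i j, i ≠ j → IsRelPrime (a i) (a j)) (hμa : ∀ i, IsRelPrime μ (a i))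
    (s : Fin n → ZMod p) (hs : s ≠ 0)
    (σ : Fin n → (H4.WqA.QA p b x ≃ₐ[R] H4.WqA.QA p b x))
    (hσ : ∀ i j, σ i (H4.WqA.uu p b x j) =
      H4.WqA.uu p b x j +
        (if i = j then algebraMap R (H4.WqA.QA p b x) (μ * a i) else 0)) :
    let c : Fin n → R := fun i => κ (s i)
    let α : R := ∏ i ∈ Finset.univ.filter (fun i => s i ≠ 0), a i
    let αi : Fin n → R := fun i => ∏ j ∈ (Finset.univ.filter (fun j => s j ≠ 0)).erase i, a j
    let z : H4.WqA.QA p b x := ∑ i ∈ Finset.univ.filter (fun i => s i ≠ 0),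
      algebraMap R (H4.WqA.QA p b x) (c i * αi i) * H4.WqA.uu p b x i
    let f : Polynomial R := Polynomial.X ^ p - Polynomial.C ((μ * α) ^ (p - 1)) * Polynomial.X
      - Polynomial.C (∑ i ∈ Finset.univ.filter (fun i => s i ≠ 0), c i * αi i ^ p * x i)
    (∀ t : H4.WqA.QA p b x, (∀ ν : Fin n → ZMod p, ∑ i, ν i * s i = 0 →
          (List.ofFn (fun i : Fin n => σ i ^ (ν i).val)).prod t = t) ↔
        t ∈ (Polynomial.aeval z : Polynomial R →ₐ[R] H4.WqA.QA p b x).range) ∧
      RingHom.ker (Polynomial.aeval z : Polynomial R →ₐ[R] H4.WqA.QA p b x) =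
        Ideal.span {f} := by
  intro c α αi z f
  classical
  have hp2 : 2 ≤ p := hpp.out.two_le
  have hcu : ∀ i ∈ Finset.univ.filter (fun i => s i ≠ 0), IsUnit (c i) := fun i hi =>
    (isUnit_iff_ne_zero.mpr (Finset.mem_filter.mp hi).2).map κ
  have hcp : ∀ i, c i ^ p = c i := fun i => by
    show κ (s i) ^ p = κ (s i)
    rw [← map_pow, ZMod.pow_card]
  have hcc : ∀ t : ZMod p, algebraMap R (H4.WqA.QA p b x) (κ t) = H4.WqAut.cc p b x t := by
    intro t
    exact RingHom.congr_fun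
      (RingHom.ext_zmod ((algebraMap R (H4.WqA.QA p b x)).comp κ) (H4.WqAut.cc p b x)) t
  have hαi : ∀ i ∈ Finset.univ.filter (fun i => s i ≠ 0), a i * αi i = α := fun i hi =>
    Finset.mul_prod_erase _ a hi
  have hb0 : ∀ i, b i ≠ 0 := fun i => by
    rw [hb i]
    exact mul_ne_zero hμ (ha_ne i)
  have hD : μ * α ≠ 0 := mul_ne_zero hμ (Finset.prod_ne_zero_iff.mpr fun i _ => ha_ne i)
  obtain ⟨ℓ, hℓ⟩ : ∃ ℓ : (Fin n → ZMod p) →ₗ[ZMod p] ZMod p, ∀ ν, ℓ ν = ∑ i, ν i * s i :=
    ⟨{ toFun := fun ν => ∑ i, ν i * s i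
       map_add' := fun ν ν' => by
         simp only [Pi.add_apply, add_mul, Finset.sum_add_distrib]
       map_smul' := fun m ν => by
         simp only [Pi.smul_apply, smul_eq_mul, RingHom.id_apply, Finset.mul_sum, mul_assoc] },
      fun ν => rfl⟩
  obtain ⟨i₀, hi₀⟩ : ∃ i₀, s i₀ ≠ 0 := by
    by_contra hcon
    push Not at hcon
    exact hs (funext hcon)
  have hi₀F : i₀ ∈ Finset.univ.filter (fun i => s i ≠ 0) :=
    Finset.mem_filter.mpr ⟨Finset.mem_univ _, hi₀⟩
  have hν₀ : ℓ (Pi.single i₀ (s i₀)⁻¹) = 1 := by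
    rw [hℓ, Finset.sum_eq_single i₀]
    · rw [Pi.single_eq_same, inv_mul_cancel₀ hi₀]
    · intro i _ hi
      rw [Pi.single_eq_of_ne hi, zero_mul]
    · intro h
      exact absurd (Finset.mem_univ _) h
  -- the action on z
  have hGz : ∀ ν, H4.WqAut.shiftEquiv p b x ν z =
      z + (ZMod.castHom (dvd_refl p) (H4.WqA.QA p b x) (ℓ ν)) *
        algebraMap R (H4.WqA.QA p b x) (μ * α) := by
    intro ν
    have hterm : ∀ i ∈ Finset.univ.filter (fun i => s i ≠ 0),
        H4.WqAut.shiftEquiv p b x ν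
          (algebraMap R (H4.WqA.QA p b x) (c i * αi i) * H4.WqA.uu p b x i) =
        algebraMap R (H4.WqA.QA p b x) (c i * αi i) * H4.WqA.uu p b x i +
          H4.WqAut.cc p b x (ν i * s i) * algebraMap R (H4.WqA.QA p b x) (μ * α) := by
      intro i hi
      have hci : algebraMap R (H4.WqA.QA p b x) (c i) = H4.WqAut.cc p b x (s i) := hcc (s i)
      have hal : H4.WqAut.al p b x i = algebraMap R (H4.WqA.QA p b x) (μ * a i) := by
        unfold H4.WqAut.al
        rw [hb i]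
      rw [map_mul, AlgEquiv.commutes, H4.WqAut.shiftEquiv_apply, H4.WqAut.shiftHom_u, hal,
        mul_add, ← hαi i hi]
      congr 1
      simp only [map_mul]
      rw [hci]
      ring
    have hsum : ∑ i ∈ Finset.univ.filter (fun i => s i ≠ 0), ν i * s i = ℓ ν := by
      rw [hℓ ν]
      exact Finset.sum_filter_of_ne (fun i _ h => right_ne_zero_of_mul h)
    show H4.WqAut.shiftEquiv p b x ν (∑ i ∈ Finset.univ.filter (fun i => s i ≠ 0),
      algebraMap R (H4.WqA.QA p b x) (c i * αi i) * H4.WqA.uu p b x i) = _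
    rw [map_sum, Finset.sum_congr rfl hterm, Finset.sum_add_distrib, ← Finset.sum_mul,
      ← map_sum, hsum]
    rfl
  -- the equation of z
  have hz : z ^ p = algebraMap R (H4.WqA.QA p b x) ((μ * α) ^ (p - 1)) * z +
      algebraMap R (H4.WqA.QA p b x)
        (∑ i ∈ Finset.univ.filter (fun i => s i ≠ 0), c i * αi i ^ p * x i) := by
    show (∑ i ∈ Finset.univ.filter (fun i => s i ≠ 0),
      algebraMap R (H4.WqA.QA p b x) (c i * αi i) * H4.WqA.uu p b x i) ^ p =
      algebraMap R (H4.WqA.QA p b x) ((μ * α) ^ (p - 1)) *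
        (∑ i ∈ Finset.univ.filter (fun i => s i ≠ 0),
          algebraMap R (H4.WqA.QA p b x) (c i * αi i) * H4.WqA.uu p b x i) + _
    rw [sum_pow_char p, Finset.mul_sum, map_sum, ← Finset.sum_add_distrib]
    refine Finset.sum_congr rfl fun i hi => ?_
    have hpow : αi i ^ p = αi i ^ (p - 1) * αi i := by
      rw [← pow_succ, Nat.sub_add_cancel (by omega : 1 ≤ p)]
    have key : (c i * αi i) ^ p * (μ * a i) ^ (p - 1) = (μ * α) ^ (p - 1) * (c i * αi i) := by
      rw [← hαi i hi, mul_pow, hcp i, hpow]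
      ring
    have key2 : (c i * αi i) ^ p = c i * αi i ^ p := by rw [mul_pow, hcp i]
    have e1 : (algebraMap R (H4.WqA.QA p b x) (c i * αi i) * H4.WqA.uu p b x i) ^ p =
        algebraMap R (H4.WqA.QA p b x) ((c i * αi i) ^ p) *
          (algebraMap R (H4.WqA.QA p b x) ((μ * a i) ^ (p - 1)) * H4.WqA.uu p b x i +
            algebraMap R (H4.WqA.QA p b x) (x i)) := by
      rw [mul_pow, ← map_pow, H4.WqA.u_pow, hb i]
    have e2 : algebraMap R (H4.WqA.QA p b x) ((c i * αi i) ^ p * (μ * a i) ^ (p - 1)) =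
        algebraMap R (H4.WqA.QA p b x) ((μ * α) ^ (p - 1)) *
          algebraMap R (H4.WqA.QA p b x) (c i * αi i) := by rw [key, map_mul]
    have e3 : algebraMap R (H4.WqA.QA p b x) ((c i * αi i) ^ p * x i) =
        algebraMap R (H4.WqA.QA p b x) (c i * αi i ^ p * x i) := by rw [key2]
    calc (algebraMap R (H4.WqA.QA p b x) (c i * αi i) * H4.WqA.uu p b x i) ^ p
        = algebraMap R (H4.WqA.QA p b x) ((c i * αi i) ^ p) *
          (algebraMap R (H4.WqA.QA p b x) ((μ * a i) ^ (p - 1)) * H4.WqA.uu p b x i +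
            algebraMap R (H4.WqA.QA p b x) (x i)) := e1
      _ = algebraMap R (H4.WqA.QA p b x) ((c i * αi i) ^ p * (μ * a i) ^ (p - 1)) *
            H4.WqA.uu p b x i +
          algebraMap R (H4.WqA.QA p b x) ((c i * αi i) ^ p * x i) := by
          rw [map_mul, map_mul]
          ring
      _ = algebraMap R (H4.WqA.QA p b x) ((μ * α) ^ (p - 1)) *
            (algebraMap R (H4.WqA.QA p b x) (c i * αi i) * H4.WqA.uu p b x i) +
          algebraMap R (H4.WqA.QA p b x) (c i * αi i ^ p * x i) := by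
          rw [e2, e3]
          ring
  -- z as a full sum
  obtain ⟨d, hd⟩ : ∃ d : Fin n → R, ∀ i, d i = if s i ≠ 0 then c i * αi i else 0 :=
    ⟨_, fun _ => rfl⟩
  have hzfull : z = ∑ i' : Fin n, algebraMap R (H4.WqA.QA p b x) (d i') * H4.WqA.uu p b x i' := by
    show ∑ i ∈ Finset.univ.filter (fun i => s i ≠ 0),
      algebraMap R (H4.WqA.QA p b x) (c i * αi i) * H4.WqA.uu p b x i = _
    rw [Finset.sum_filter]
    refine Finset.sum_congr rfl fun i _ => ?_
    rw [hd i]
    by_cases h : s i ≠ 0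
    · rw [if_pos h, if_pos h]
    · rw [if_neg h, if_neg h, map_zero, zero_mul]
  have hd0 : d i₀ ≠ 0 := by
    rw [hd i₀, if_pos hi₀]
    exact mul_ne_zero (hcu i₀ hi₀F).ne_zero
      (Finset.prod_ne_zero_iff.mpr fun j _ => ha_ne j)
  have hli : ∀ cf : Fin p → R, ∑ j : Fin p, cf j • z ^ (j : ℕ) = 0 → ∀ j, cf j = 0 := by
    intro cf h j
    have h1 := coord_sum' hp2 b x d i₀ cf j
    rw [← hzfull, h, map_zero, Pi.zero_apply] at h1
    rcases mul_eq_zero.mp h1.symm with h2 | h2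
    · exact h2
    · exact absurd h2 (pow_ne_zero _ hd0)
  have hsat : ∀ (cf : Fin p → R) (t : H4.WqA.QA p b x),
      ∑ j : Fin p, cf j • z ^ (j : ℕ) =
        algebraMap R (H4.WqA.QA p b x) ((μ * α) ^ (p - 1)) * t →
        ∀ j, (μ * α) ^ (p - 1) ∣ cf j := by
    intro cf t h j
    refine dvd_of_forall_dvd_mul (Finset.univ.filter (fun i => s i ≠ 0)) ⟨i₀, hi₀F⟩ a μ c hcu
      (fun i _ j' _ hij => hcop i j' hij) (fun i _ => hμa i) (p - 1) (j : ℕ) (cf j)
      (fun i hi => ?_)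
    have h1 := coord_sum' hp2 b x d i cf j
    rw [← hzfull, h, ← Algebra.smul_def, map_smul, Pi.smul_apply, smul_eq_mul, hd i,
      if_pos (Finset.mem_filter.mp hi).2] at h1
    exact ⟨_, h1.symm⟩
  have hG0 := H4.WqAut.shiftEquiv_zero p b x
  have hGadd : ∀ ν ν', H4.WqAut.shiftEquiv p b x (ν + ν') =
      H4.WqAut.shiftEquiv p b x ν * H4.WqAut.shiftEquiv p b x ν' :=
    fun ν ν' => (H4.WqAut.shiftEquiv_mul p b x ν ν').symm
  have hfix : ∀ y : H4.WqA.QA p b x, (∀ ν, H4.WqAut.shiftEquiv p b x ν y = y) →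
      y ∈ Set.range (algebraMap R (H4.WqA.QA p b x)) := by
    intro y hy
    refine H4.WqTr.fixed_mem p b x hinj hb0 y (fun τ => ?_)
    obtain ⟨ν, rfl⟩ := H4.WqAut.shiftEquiv_surjective p b x hinj hb0 τ
    exact hy ν
  have hσG : ∀ i, σ i = H4.WqAut.shiftEquiv p b x (Pi.single i 1) := by
    intro i
    apply AlgEquiv.coe_algHom_injective
    apply H4.WqAut.hom_ext' p b x
    intro j
    show σ i (H4.WqA.uu p b x j) = H4.WqAut.shiftHom p b x (Pi.single i 1) (H4.WqA.uu p b x j)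
    rw [hσ i j, H4.WqAut.shiftHom_u]
    congr 1
    by_cases h : i = j
    · rw [if_pos h, h, Pi.single_eq_same, map_one, one_mul]
      unfold H4.WqAut.al
      rw [hb j]
    · rw [if_neg h, Pi.single_eq_of_ne (fun e => h e.symm), map_zero, zero_mul]
  have hprod : ∀ ν : Fin n → ZMod p,
      (List.ofFn (fun i : Fin n => σ i ^ (ν i).val)).prod = H4.WqAut.shiftEquiv p b x ν := by
    intro ν
    have h1 : (fun i : Fin n => σ i ^ (ν i).val) =
        fun i => H4.WqAut.shiftEquiv p b x ((ν i).val • Pi.single i (1 : ZMod p)) := by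
      funext i
      rw [hσG i, H4.WqAut.shiftEquiv_pow]
    rw [h1]
    refine (prod_ofFn_hom (H4.WqAut.shiftEquiv p b x) hG0 hGadd n
      (fun i => (ν i).val • (Pi.single i (1 : ZMod p) : Fin n → ZMod p))).trans ?_
    congr 1
    funext j
    rw [Finset.sum_apply, Finset.sum_eq_single j]
    · rw [Pi.smul_apply, Pi.single_eq_same, nsmul_one, ZMod.natCast_zmod_val]
    · intro i _ hi
      rw [Pi.smul_apply, Pi.single_eq_of_ne hi.symm, smul_zero]
    · intro h
      exact absurd (Finset.mem_univ _) h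
  refine ⟨fun t => ⟨fun ht => ?_, fun ht ν hν => ?_⟩, ?_⟩
  · refine mem_range_of_fixed p ℓ (Pi.single i₀ (s i₀)⁻¹) hν₀ (H4.WqAut.shiftEquiv p b x) hG0
      hGadd hfix hinj z (μ * α) hD hGz _ hz hsat t (fun ν hν => ?_)
    rw [← hprod ν]
    exact ht ν ((hℓ ν).symm.trans hν)
  · rw [hprod ν]
    refine fixed_of_mem_range (H4.WqAut.shiftEquiv p b x ν) z ?_ t ht
    rw [hGz, hℓ ν, hν, map_zero, zero_mul, add_zero]
  · exact ker_eq p hp2 z ((μ * α) ^ (p - 1)) _ hz hli

theorem main (p : ℕ) [hpp : Fact p.Prime] (k : Type u) [Field k] [CharP k p] (n : ℕ) (hn : 2 ≤ n)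
    (a : Fin n → MvPowerSeries (Fin n) k) (μ : MvPowerSeries (Fin n) k)
    (ham : ∀ i, MvPowerSeries.constantCoeff (a i) = 0)
    (hcop : ∀ i j, i ≠ j → IsRelPrime (a i) (a j))
    (hμ : μ ≠ 0) (hμa : ∀ i, IsRelPrime μ (a i))
    (s : Fin n → ZMod p) (hs : s ≠ 0)
    (σ : Fin n → (H4.WqA.QA p (fun i => μ * a i) (MvPowerSeries.X (R := k))
      ≃ₐ[MvPowerSeries (Fin n) k] H4.WqA.QA p (fun i => μ * a i) (MvPowerSeries.X (R := k))))
    (hσ : ∀ i j, σ i (H4.WqA.uu p (fun i => μ * a i) (MvPowerSeries.X (R := k)) j) =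
      H4.WqA.uu p (fun i => μ * a i) (MvPowerSeries.X (R := k)) j +
        (if i = j then algebraMap (MvPowerSeries (Fin n) k)
          (H4.WqA.QA p (fun i => μ * a i) (MvPowerSeries.X (R := k))) (μ * a i) else 0)) :
    let c : Fin n → MvPowerSeries (Fin n) k :=
      fun i => algebraMap k (MvPowerSeries (Fin n) k) (ZMod.castHom (dvd_refl p) k (s i))
    let α : MvPowerSeries (Fin n) k := ∏ i ∈ Finset.univ.filter (fun i => s i ≠ 0), a i
    let αi : Fin n → MvPowerSeries (Fin n) k :=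
      fun i => ∏ j ∈ (Finset.univ.filter (fun j => s j ≠ 0)).erase i, a j
    let z : H4.WqA.QA p (fun i => μ * a i) (MvPowerSeries.X (R := k)) :=
      ∑ i ∈ Finset.univ.filter (fun i => s i ≠ 0),
        algebraMap (MvPowerSeries (Fin n) k)
          (H4.WqA.QA p (fun i => μ * a i) (MvPowerSeries.X (R := k))) (c i * αi i) *
          H4.WqA.uu p (fun i => μ * a i) (MvPowerSeries.X (R := k)) i
    let f : Polynomial (MvPowerSeries (Fin n) k) :=
      Polynomial.X ^ p - Polynomial.C ((μ * α) ^ (p - 1)) * Polynomial.X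
      - Polynomial.C (∑ i ∈ Finset.univ.filter (fun i => s i ≠ 0),
          c i * αi i ^ p * MvPowerSeries.X i)
    (∀ t : H4.WqA.QA p (fun i => μ * a i) (MvPowerSeries.X (R := k)),
      (∀ ν : Fin n → ZMod p, ∑ i, ν i * s i = 0 →
          (List.ofFn (fun i : Fin n => σ i ^ (ν i).val)).prod t = t) ↔
        t ∈ (Polynomial.aeval z : Polynomial (MvPowerSeries (Fin n) k) →ₐ[MvPowerSeries (Fin n) k]
          H4.WqA.QA p (fun i => μ * a i) (MvPowerSeries.X (R := k))).range) ∧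
      RingHom.ker (Polynomial.aeval z : Polynomial (MvPowerSeries (Fin n) k) →ₐ[MvPowerSeries (Fin n) k]
          H4.WqA.QA p (fun i => μ * a i) (MvPowerSeries.X (R := k))) = Ideal.span {f} := by
  have hp2 : 2 ≤ p := hpp.out.two_le
  haveI : IsDomain (MvPowerSeries (Fin n) k) := NoZeroDivisors.to_isDomain _
  haveI : IsIntegrallyClosed (MvPowerSeries (Fin n) k) :=
    Groth.Agent.H8.Jap.mvPowerSeries_fin_isIntegrallyClosed k n
  haveI hregP : IsRegularLocalRing (MvPowerSeries (Fin n) k) :=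
    Groth.Agent.H6.PSCot.isRegularLocalRing_mvPowerSeries (k := k) n
  haveI : UniqueFactorizationMonoid (MvPowerSeries (Fin n) k) :=
    (Groth.Agent.H3.ABufd.main (MvPowerSeries (Fin n) k)).2
  have hnonunit : ∀ i, ¬ IsUnit (a i) := by
    intro i hu
    rw [MvPowerSeries.isUnit_iff_constantCoeff, ham i] at hu
    exact not_isUnit_zero hu
  have ha_ne : ∀ i, a i ≠ 0 := by
    intro i h0
    obtain ⟨j, hj⟩ : ∃ j : Fin n, j ≠ i := by
      by_cases hi0 : i = ⟨0, by omega⟩
      · refine ⟨⟨1, by omega⟩, ?_⟩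
        rw [hi0]
        intro h
        exact absurd (congrArg Fin.val h) (by norm_num)
      · exact ⟨⟨0, by omega⟩, fun h => hi0 h.symm⟩
    have h := hcop i j hj.symm
    rw [h0] at h
    exact hnonunit j (h (dvd_zero _) dvd_rfl)
  have ha' : ∀ i, (fun i => μ * a i) i ∈
      IsLocalRing.maximalIdeal (MvPowerSeries (Fin n) k) := by
    intro i
    rw [IsLocalRing.mem_maximalIdeal, mem_nonunits_iff, MvPowerSeries.isUnit_iff_constantCoeff]
    show ¬ IsUnit (MvPowerSeries.constantCoeff (μ * a i))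
    rw [map_mul, ham i, mul_zero]
    exact not_isUnit_zero
  have hgen := Groth.Agent.H4.WqA.general (R := MvPowerSeries (Fin n) k) p (fun i => μ * a i)
    (MvPowerSeries.X) hp2 Groth.Agent.H4.MvPSVars.maximalIdeal_eq_span_range_X.symm ha'
    (Groth.Agent.H6.PSCot.ringKrullDim_mvPowerSeries_ge n)
  haveI : IsRegularLocalRing (H4.WqA.QA p (fun i => μ * a i) (MvPowerSeries.X (R := k))) := hgen.1
  haveI : IsDomain (H4.WqA.QA p (fun i => μ * a i) (MvPowerSeries.X (R := k))) :=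
    Groth.Agent.H7.Reg.isDomain _
  have hinj : Function.Injective (algebraMap (MvPowerSeries (Fin n) k)
      (H4.WqA.QA p (fun i => μ * a i) (MvPowerSeries.X (R := k)))) :=
    Groth.Agent.H4.WqA.algebraMap_injective p (fun i => μ * a i) _ hp2
  haveI : CharP (H4.WqA.QA p (fun i => μ * a i) (MvPowerSeries.X (R := k))) p :=
    charP_of_injective_ringHom (f := (algebraMap (MvPowerSeries (Fin n) k)
      (H4.WqA.QA p (fun i => μ * a i) (MvPowerSeries.X (R := k)))).comp
        (MvPowerSeries.C (σ := Fin n) (R := k)))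
      (hinj.comp (MvPowerSeries.C_injective (σ := Fin n) (R := k))) p
  exact concrete p a (fun i => μ * a i) MvPowerSeries.X μ (fun _ => rfl)
    ((algebraMap k (MvPowerSeries (Fin n) k)).comp (ZMod.castHom (dvd_refl p) k))
    hinj ha_ne hμ hcop hμa s hs σ hσ

end Groth.Agent.H9.WQOrt
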