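import Mathlib
import Groth.Agent.Lib.Helper1.RegNormal
import Groth.Agent.Lib.Helper7.Reg1
import Groth.Agent.Lib.Helper9.Misc.ValFinA
import Groth.Agent.Lib.Helper9.Misc.FinComp
import Groth.Agent.Lib.Helper9.Misc.WQInB
import Groth.Agent.Lib.Helper9.Misc.WQFixA

set_option autoImplicit false
universe u v w

namespace Groth.Agent.H9.WQSep

open IsLocalRing

attribute [local instance] FractionRing.liftAlgebra

theorem core (p : ℕ) [Fact p.Prime] (P : Type v) [CommRing P] [IsRegularLocalRing P]
    (A : Type u) [CommRing A] [IsRegularLocalRing A] [CharP A p]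
    (hdim : 2 ≤ ringKrullDim A)
    [Algebra P A] [Module.Finite P A] (hinj : Function.Injective (algebraMap P A))
    (hres : Function.Surjective (IsLocalRing.residue A ∘ algebraMap P A))
    (G : Type w) [Group G] [Finite G] [MulSemiringAction G A] (hcard : Nat.card G = p)
    [SMulCommClass G P A]
    (hram : ∀ Q : Ideal A, Q.IsPrime → Q ≠ maximalIdeal A → Q.inertia G = ⊥)
    (hcon : ∀ y : A, (∀ σ : G, σ • y = y) →
      ∃ e : ℕ, y ^ p ^ e ∈ Set.range (algebraMap P A)) :
    False := by
  classical
  have hp : p.Prime := Fact.out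
  haveI : IsDomain A := Groth.Agent.H7.Reg.isDomain A
  haveI : IsIntegrallyClosed A := Groth.Agent.H1.Reg.isIntegrallyClosed A
  haveI : IsDomain P := Groth.Agent.H7.Reg.isDomain P
  haveI : IsIntegrallyClosed P := Groth.Agent.H1.Reg.isIntegrallyClosed P
  haveI : FaithfulSMul P A := (faithfulSMul_iff_algebraMap_injective P A).mpr hinj
  haveI : Algebra.IsIntegral P A := Algebra.IsIntegral.of_finite P A
  haveI : Algebra.IsAlgebraic (FractionRing P) (FractionRing A) :=
    isAlgebraic_of_isFractionRing P A (FractionRing P) (FractionRing A)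
  haveI : CharP (FractionRing A) p :=
    charP_of_injective_algebraMap (IsFractionRing.injective A (FractionRing A)) p
  haveI : ExpChar (FractionRing A) p := ExpChar.prime hp
  haveI : ExpChar (FractionRing P) p :=
    RingHom.expChar (algebraMap (FractionRing P) (FractionRing A))
      (algebraMap (FractionRing P) (FractionRing A)).injective p
  haveI : ExpChar (separableClosure (FractionRing P) (FractionRing A)) p :=
    RingHom.expChar (algebraMap (separableClosure (FractionRing P) (FractionRing A))
      (FractionRing A))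
      (algebraMap (separableClosure (FractionRing P) (FractionRing A))
        (FractionRing A)).injective p
  -- height lemma
  have hne : ∀ Q : Ideal A, Q.height ≤ 1 → Q ≠ maximalIdeal A := by
    intro Q hQ hQm
    have h2 : ((maximalIdeal A).height : WithBot ℕ∞) = ringKrullDim A :=
      IsLocalRing.maximalIdeal_height_eq_ringKrullDim
    rw [← hQm] at h2
    have h3 : (2 : WithBot ℕ∞) ≤ (Q.height : WithBot ℕ∞) := by rw [h2]; exact hdim
    have e : (2 : WithBot ℕ∞) = ((2 : ℕ∞) : WithBot ℕ∞) := rfl
    rw [e, WithBot.coe_le_coe] at h3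
    exact absurd (le_trans h3 hQ) (by decide)
  haveI hfaithA : FaithfulSMul G A := by
    refine ⟨fun {g₁ g₂} h => ?_⟩
    have hbot : (⊥ : Ideal A).inertia G = ⊥ :=
      hram ⊥ Ideal.isPrime_bot (hne ⊥ (by rw [Ideal.height_bot]; simp))
    have hmem : g₂⁻¹ * g₁ ∈ (⊥ : Ideal A).inertia G := by
      show ∀ x : A, (g₂⁻¹ * g₁) • x - x ∈ (⊥ : Ideal A)
      intro x
      rw [mul_smul, h x, inv_smul_smul, sub_self]
      exact Ideal.zero_mem _
    rw [hbot, Subgroup.mem_bot] at hmem
    calc g₁ = g₂ * (g₂⁻¹ * g₁) := by group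
      _ = g₂ := by rw [hmem, mul_one]
  -- field facts
  have hsepK : ∀ r : P, algebraMap A (FractionRing A) (algebraMap P A r) ∈
      separableClosure (FractionRing P) (FractionRing A) := by
    intro r
    have e1 : algebraMap A (FractionRing A) (algebraMap P A r) =
        algebraMap (FractionRing P) (FractionRing A) (algebraMap P (FractionRing P) r) := by
      rw [← IsScalarTower.algebraMap_apply, ← IsScalarTower.algebraMap_apply]
    rw [e1]
    exact IntermediateField.algebraMap_mem _ _
  have hpow : ∀ a : A, ∃ e : ℕ, algebraMap A (FractionRing A) a ^ p ^ e ∈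
      separableClosure (FractionRing P) (FractionRing A) := by
    intro a
    haveI := separableClosure.isPurelyInseparable (FractionRing P) (FractionRing A)
    obtain ⟨e, he⟩ := IsPurelyInseparable.pow_mem
      (separableClosure (FractionRing P) (FractionRing A)) p
      (algebraMap A (FractionRing A) a)
    obtain ⟨y, hy⟩ := RingHom.mem_range.mp he
    refine ⟨e, ?_⟩
    rw [← hy]
    exact y.2
  have hsepfix : ∀ a : A, algebraMap A (FractionRing A) a ∈
      separableClosure (FractionRing P) (FractionRing A) →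
      (∃ e : ℕ, a ^ p ^ e ∈ Set.range (algebraMap P A)) → a ∈ Set.range (algebraMap P A) := by
    rintro a ha ⟨e, r, hr⟩
    have h1 : algebraMap A (FractionRing A) a ∈ perfectClosure (FractionRing P) (FractionRing A) := by
      rw [mem_perfectClosure_iff_pow_mem p]
      refine ⟨e, RingHom.mem_range.mpr ⟨algebraMap P (FractionRing P) r, ?_⟩⟩
      rw [← map_pow, ← hr, ← IsScalarTower.algebraMap_apply, ← IsScalarTower.algebraMap_apply]
    have h2 : algebraMap A (FractionRing A) a ∈ (⊥ : IntermediateField (FractionRing P) (FractionRing A)) := by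
      rw [← separableClosure_inf_perfectClosure]
      exact ⟨ha, h1⟩
    obtain ⟨κ, hκ⟩ := IntermediateField.mem_bot.mp h2
    have h3 : IsIntegral P κ := by
      have h4 : IsIntegral P (algebraMap A (FractionRing A) a) :=
        (Algebra.IsIntegral.isIntegral (R := P) a).map (IsScalarTower.toAlgHom P A (FractionRing A))
      rw [← hκ] at h4
      exact (isIntegral_algebraMap_iff
        (algebraMap (FractionRing P) (FractionRing A)).injective).mp h4
    obtain ⟨r', hr'⟩ := IsIntegrallyClosed.isIntegral_iff.mp h3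
    refine ⟨r', ?_⟩
    apply IsFractionRing.injective A (FractionRing A)
    rw [← hκ, ← hr', ← IsScalarTower.algebraMap_apply, ← IsScalarTower.algebraMap_apply]
  -- the subring C
  obtain ⟨C, hC⟩ : ∃ C : Subring A, ∀ a, a ∈ C ↔ algebraMap A (FractionRing A) a ∈
      separableClosure (FractionRing P) (FractionRing A) :=
    ⟨((separableClosure (FractionRing P) (FractionRing A)).toSubalgebra.toSubring).comap
      (algebraMap A (FractionRing A)), fun a => Iff.rfl⟩
  have hpowC : ∀ a : A, ∃ e : ℕ, a ^ p ^ e ∈ C := by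
    intro a
    obtain ⟨e, he⟩ := hpow a
    exact ⟨e, (hC _).mpr (by rw [map_pow]; exact he)⟩
  have hstab : ∀ (g : G) (a : A), a ∈ C → g • a ∈ C := by
    intro g a ha
    rw [hC] at ha ⊢
    rw [mem_separableClosure_iff] at ha ⊢
    have h1 := minpoly.isIntegrallyClosed_eq_field_fractions (FractionRing P) (FractionRing A)
      (Algebra.IsIntegral.isIntegral (R := P) a)
    have h2 := minpoly.isIntegrallyClosed_eq_field_fractions (FractionRing P) (FractionRing A)
      (Algebra.IsIntegral.isIntegral (R := P) (g • a))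
    have h3 : minpoly P (g • a) = minpoly P a :=
      minpoly.algEquiv_eq (MulSemiringAction.toAlgEquiv P A g) a
    unfold IsSeparable at ha ⊢
    rw [h2, h3, ← h1]
    exact ha
  have hinjC : Function.Injective (algebraMap C A) := fun x y hxy => Subtype.ext hxy
  haveI : IsDomain C := Function.Injective.isDomain (algebraMap C A) hinjC
  letI algPC : Algebra P C :=
    ((algebraMap P A).codRestrict C (fun r => (hC _).mpr (hsepK r))).toAlgebra
  haveI : IsScalarTower P C A := IsScalarTower.of_algebraMap_eq (fun r => rfl)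
  letI actC : MulSemiringAction G C :=
    { smul := fun g c => ⟨g • (c : A), hstab g c c.2⟩
      one_smul := fun c => Subtype.ext (one_smul G (c : A))
      mul_smul := fun g h c => Subtype.ext (mul_smul g h (c : A))
      smul_zero := fun g => Subtype.ext (smul_zero g)
      smul_add := fun g a b => Subtype.ext (smul_add g (a : A) (b : A))
      smul_one := fun g => Subtype.ext (smul_one g)
      smul_mul := fun g a b => Subtype.ext (smul_mul' g (a : A) (b : A)) }
  have hcoe_smul : ∀ (g : G) (c : C), ((g • c : C) : A) = g • (c : A) := fun g c => rfl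
  have hcoe_rsmul : ∀ (r : P) (c : C), ((r • c : C) : A) = r • (c : A) := by
    intro r c
    rw [Algebra.smul_def, Algebra.smul_def]
    rfl
  haveI : SMulCommClass G P C := by
    refine ⟨fun g r c => Subtype.ext ?_⟩
    rw [hcoe_smul, hcoe_rsmul, hcoe_rsmul, hcoe_smul, smul_comm]
  haveI hfaithC : FaithfulSMul G C := by
    refine ⟨fun {g₁ g₂} h => ?_⟩
    apply FaithfulSMul.eq_of_smul_eq_smul (α := A)
    intro a
    obtain ⟨e, hmem⟩ := hpowC a
    have h1 := congrArg Subtype.val (h ⟨a ^ p ^ e, hmem⟩)
    have h2 : g₁ • (a ^ p ^ e) = g₂ • (a ^ p ^ e) := h1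
    rw [smul_pow', smul_pow'] at h2
    have h3 : (g₁ • a - g₂ • a) ^ p ^ e = 0 := by rw [sub_pow_char_pow, h2, sub_self]
    exact sub_eq_zero.mp ((pow_eq_zero_iff (pow_ne_zero e hp.ne_zero)).mp h3)
  have hfixC : ∀ c : C, (∀ g : G, g • c = c) → c ∈ Set.range (algebraMap P C) := by
    intro c hc
    have hcA : ∀ g : G, g • (c : A) = c := fun g => congrArg Subtype.val (hc g)
    obtain ⟨r, hr⟩ := hsepfix (c : A) ((hC _).mp c.2) (hcon (c : A) hcA)
    exact ⟨r, Subtype.ext hr⟩
  have hdivC : ∀ (a : A) (c₁ c₂ : C), c₂ ≠ 0 → a * algebraMap C A c₂ = algebraMap C A c₁ →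
      a ∈ Set.range (algebraMap C A) := by
    intro a c₁ c₂ hc₂ hac
    have hc₂A : (c₂ : A) ≠ 0 := fun h => hc₂ (Subtype.ext h)
    have hL : algebraMap A (FractionRing A) (c₂ : A) ≠ 0 := fun h =>
      hc₂A (IsFractionRing.injective A (FractionRing A) (h.trans (map_zero _).symm))
    have hmem : a ∈ C := by
      rw [hC]
      have e1 : algebraMap A (FractionRing A) a =
          algebraMap A (FractionRing A) (c₁ : A) / algebraMap A (FractionRing A) (c₂ : A) := by
        rw [eq_div_iff hL, ← map_mul]
        exact congrArg _ hac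
      rw [e1]
      exact div_mem ((hC _).mp c₁.2) ((hC _).mp c₂.2)
    exact ⟨⟨a, hmem⟩, rfl⟩
  haveI hlocC : IsLocalRing C := Groth.Agent.H9.WQFix.isLocalRing_of_div C A hinjC hdivC
  haveI hicC : IsIntegrallyClosed C :=
    Groth.Agent.H9.WQFix.isIntegrallyClosed_of_div C A hinjC hdivC
  have hunitC : ∀ c : C, IsUnit c ↔ IsUnit (algebraMap C A c) :=
    Groth.Agent.H9.WQFix.isUnit_iff_of_div C A hinjC hdivC
  haveI : IsNoetherian P A := isNoetherian_of_isNoetherianRing_of_finite P A
  haveI : Module.Finite P C :=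
    Module.Finite.of_injective (IsScalarTower.toAlgHom P C A).toLinearMap
      (fun x y hxy => Subtype.ext hxy)
  have hinjPC : Function.Injective (algebraMap P C) := fun x y hxy =>
    hinj (congrArg Subtype.val hxy)
  have hresC : Function.Surjective (IsLocalRing.residue C ∘ algebraMap P C) := by
    intro cbar
    obtain ⟨c, rfl⟩ := Ideal.Quotient.mk_surjective cbar
    obtain ⟨r, hr⟩ := hres (IsLocalRing.residue A (c : A))
    have hr' : IsLocalRing.residue A (algebraMap P A r) = IsLocalRing.residue A (c : A) := hr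
    have h1 : algebraMap P A r - (c : A) ∈ maximalIdeal A := Ideal.Quotient.eq.mp hr'
    refine ⟨r, ?_⟩
    show Ideal.Quotient.mk (maximalIdeal C) (algebraMap P C r) =
      Ideal.Quotient.mk (maximalIdeal C) c
    apply Ideal.Quotient.eq.mpr
    rw [mem_maximalIdeal, mem_nonunits_iff, hunitC]
    exact mem_nonunits_iff.mp ((mem_maximalIdeal _).mp h1)
  have hsup := Groth.Agent.H9.WQIn.iSup_inertia_eq_top P C hinjPC hresC G hfixC
  obtain ⟨Q, hQne⟩ : ∃ Q : {Q : Ideal C // Q.IsPrime ∧ Q.height = 1}, Q.1.inertia G ≠ ⊥ := by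
    by_contra hall
    push Not at hall
    rw [iSup_eq_bot.mpr hall] at hsup
    have h3 : Nat.card (⊥ : Subgroup G) = Nat.card (⊤ : Subgroup G) := by rw [hsup]
    rw [Subgroup.card_bot, Subgroup.card_top, hcard] at h3
    exact hp.one_lt.ne h3
  obtain ⟨σ, hσQ, hσ1⟩ : ∃ σ : G, σ ∈ Q.1.inertia G ∧ σ ≠ 1 := by
    by_contra hnone
    push Not at hnone
    apply hQne
    rw [eq_bot_iff]
    intro τ hτ
    rw [Subgroup.mem_bot]
    exact hnone τ hτ
  haveI hQp : Q.1.IsPrime := Q.2.1
  haveI : Module.Finite C A := Module.Finite.of_restrictScalars_finite P C A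
  haveI : Algebra.IsIntegral C A := Algebra.IsIntegral.of_finite _ _
  obtain ⟨P', -, hP'p, hP'Q⟩ := Ideal.exists_ideal_over_prime_of_isIntegral Q.1 (⊥ : Ideal A)
    (by rw [Ideal.comap_bot_of_injective _ hinjC]; exact bot_le)
  have hP'ne : P' ≠ maximalIdeal A := by
    intro hP'm
    have hQm : Q.1 = maximalIdeal C := by
      rw [← hP'Q, hP'm]
      ext c
      rw [Ideal.mem_comap, mem_maximalIdeal, mem_maximalIdeal, mem_nonunits_iff,
        mem_nonunits_iff, hunitC]
    have hdimC : ringKrullDim C = ringKrullDim A :=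
      le_antisymm (Groth.Agent.H9.ValFin.ringKrullDim_le_of_integral_injective hinjC)
        (Groth.Agent.H9.FinComp.ringKrullDim_le_of_isIntegral C A)
    have h2 : ((maximalIdeal C).height : WithBot ℕ∞) = ringKrullDim C :=
      IsLocalRing.maximalIdeal_height_eq_ringKrullDim
    rw [← hQm, Q.2.2, hdimC] at h2
    rw [← h2] at hdim
    have e : (2 : WithBot ℕ∞) = ((2 : ℕ∞) : WithBot ℕ∞) := rfl
    rw [e, WithBot.coe_le_coe] at hdim
    exact absurd hdim (by decide)
  have hσP' : σ ∈ P'.inertia G := by
    show ∀ a : A, σ • a - a ∈ P'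
    intro a
    obtain ⟨e, hmem⟩ := hpowC a
    have h1 : σ • (⟨a ^ p ^ e, hmem⟩ : C) - ⟨a ^ p ^ e, hmem⟩ ∈ Q.1 := hσQ ⟨a ^ p ^ e, hmem⟩
    rw [← hP'Q, Ideal.mem_comap] at h1
    have h2 : σ • (a ^ p ^ e) - a ^ p ^ e ∈ P' := h1
    rw [smul_pow', ← sub_pow_char_pow] at h2
    exact hP'p.mem_of_pow_mem _ h2
  rw [hram P' hP'p hP'ne, Subgroup.mem_bot] at hσP'
  exact hσ1 hσP'

end Groth.Agent.H9.WQSep
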