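import Mathlib
import Groth.Agent.Lib.Helper1.RegNormal
import Groth.Agent.Lib.Helper7.Reg1
import Groth.Agent.Lib.Helper9.Misc.ValFinA
import Groth.Agent.Lib.Helper9.Misc.FinComp
import Groth.Agent.Lib.Helper9.Misc.WQInB
import Groth.Agent.Lib.Helper9.Misc.WQFixA
import Groth.Agent.Lib.Helper9.Misc.WQSepA
import Groth.Agent.H4.MvPSVars
import Groth.Agent.Lib.Helper6.PSCotC

set_option autoImplicit false
universe u v w

namespace Groth.Agent.H9.WQSep

open IsLocalRing

theorem map_pow_mem {B : Type u} {A : Type v} [CommRing B] [CommRing A] [Algebra B A]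
    (I : Ideal B) (m : Ideal A) (hI : ∀ y ∈ I, algebraMap B A y ∈ m) (t : ℕ) :
    ∀ y ∈ I ^ t, algebraMap B A y ∈ m ^ t := by
  intro y hy
  have h1 : I.map (algebraMap B A) ≤ m := Ideal.map_le_iff_le_comap.mpr (fun y hy => hI y hy)
  have h2 : algebraMap B A y ∈ (I ^ t).map (algebraMap B A) := Ideal.mem_map_of_mem _ hy
  rw [Ideal.map_pow] at h2
  exact Ideal.pow_right_mono h1 t h2

theorem top_le_of_complete' {B : Type u} {A : Type v} [CommRing B] [CommRing A] [Algebra B A]
    (m : Ideal A) [IsHausdorff m A]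
    (I : Ideal B) [IsPrecomplete I B] (hI : ∀ y ∈ I, algebraMap B A y ∈ m)
    {s : ℕ} (a : Fin s → A)
    (hgen : (⊤ : Submodule B A) ≤ Submodule.span B (Set.range a) ⊔ I • ⊤) :
    (⊤ : Submodule B A) ≤ Submodule.span B (Set.range a) := by
  classical
  have hIpow : ∀ t, ∀ y ∈ I ^ t, algebraMap B A y ∈ m ^ t := map_pow_mem I m hI
  have hsm : ∀ t, ∀ x ∈ (I ^ t • ⊤ : Submodule B A), x ∈ m ^ t := by
    intro t x hx
    refine Submodule.smul_induction_on hx (fun r hr n _ => ?_)
      (fun x y hx hy => (m ^ t).add_mem hx hy)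
    rw [Algebra.smul_def]
    exact Ideal.mul_mem_right _ _ (hIpow t r hr)
  have hstep : ∀ t : ℕ, (I ^ t • ⊤ : Submodule B A) ≤
      I ^ t • Submodule.span B (Set.range a) ⊔ (I ^ (t + 1) • ⊤ : Submodule B A) := by
    intro t
    have h1 : (I ^ t • ⊤ : Submodule B A) ≤
        I ^ t • (Submodule.span B (Set.range a) ⊔ I • ⊤) :=
      Submodule.smul_mono le_rfl hgen
    rw [Submodule.smul_sup, ← Submodule.mul_smul, ← pow_succ] at h1
    exact h1
  have hstep' : ∀ (t : ℕ) (x : A), ∃ c : Fin s → B, x ∈ (I ^ t • ⊤ : Submodule B A) →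
      (∀ j, c j ∈ I ^ t) ∧ x - ∑ j, c j • a j ∈ (I ^ (t + 1) • ⊤ : Submodule B A) := by
    intro t x
    by_cases hx : x ∈ (I ^ t • ⊤ : Submodule B A)
    · obtain ⟨n, hn, x', hx', rfl⟩ := Submodule.mem_sup.mp (hstep t hx)
      obtain ⟨c, hc, rfl⟩ := (Submodule.mem_ideal_smul_span_iff_exists_sum (I ^ t) a n).mp hn
      refine ⟨fun j => c j, fun _ => ⟨fun j => hc j, ?_⟩⟩
      have e1 : (c.sum fun i r => r • a i) = ∑ j, c j • a j :=
        Finsupp.sum_fintype _ _ (fun i => zero_smul _ _)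
      rw [e1, add_sub_cancel_left]
      exact hx'
    · exact ⟨fun _ => 0, fun h => absurd h hx⟩
  choose cf hcf using hstep'
  intro x₀ _
  obtain ⟨xs, hxs0, hxsS⟩ : ∃ xs : ℕ → A, xs 0 = x₀ ∧
      ∀ t, xs (t + 1) = xs t - ∑ j, cf t (xs t) j • a j :=
    ⟨fun t => Nat.rec x₀ (fun t xt => xt - ∑ j, cf t xt j • a j) t, rfl, fun t => rfl⟩
  have hxs_mem : ∀ t, xs t ∈ (I ^ t • ⊤ : Submodule B A) := by
    intro t
    induction t with
    | zero =>
      rw [pow_zero, Ideal.one_eq_top, Submodule.top_smul]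
      exact Submodule.mem_top
    | succ t ih =>
      rw [hxsS t]
      exact (hcf t (xs t) ih).2
  have hcmem : ∀ t j, cf t (xs t) j ∈ I ^ t := fun t j => (hcf t (xs t) (hxs_mem t)).1 j
  have hsum : ∀ T, x₀ - ∑ j, (∑ t ∈ Finset.range T, cf t (xs t) j) • a j = xs T := by
    intro T
    induction T with
    | zero => simp [hxs0]
    | succ T ih =>
      have e1 : ∀ j, (∑ t ∈ Finset.range (T + 1), cf t (xs t) j) • a j =
          (∑ t ∈ Finset.range T, cf t (xs t) j) • a j + cf T (xs T) j • a j := by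
        intro j
        rw [Finset.sum_range_succ, add_smul]
      rw [hxsS T]
      simp only [e1, Finset.sum_add_distrib]
      rw [← sub_sub, ih]
  have hCdiff : ∀ j, ∀ {k n : ℕ}, k ≤ n → (∑ t ∈ Finset.range n, cf t (xs t) j) -
      (∑ t ∈ Finset.range k, cf t (xs t) j) ∈ I ^ k := by
    intro j k n hkn
    rw [← Finset.sum_Ico_eq_sub _ hkn]
    exact Ideal.sum_mem _ (fun t ht =>
      Ideal.pow_le_pow_right (Finset.mem_Ico.mp ht).1 (hcmem t j))
  have hlim : ∀ j, ∃ b : B, ∀ n,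
      (∑ t ∈ Finset.range n, cf t (xs t) j) - b ∈ I ^ n := by
    intro j
    obtain ⟨b, hb⟩ := IsPrecomplete.prec (I := I) (M := B) inferInstance
      (f := fun n => ∑ t ∈ Finset.range n, cf t (xs t) j) (by
        intro k n hkn
        have h1 := hCdiff j hkn
        have h2 := (I ^ k).neg_mem h1
        rw [neg_sub] at h2
        exact (SModEq.sub_mem.mpr
          ((Groth.Agent.H9.WQFix.mem_pow_smul_top_iff I k _).mpr h2)))
    refine ⟨b, fun n => ?_⟩
    have h3 := hb n
    rwa [SModEq.sub_mem, Groth.Agent.H9.WQFix.mem_pow_smul_top_iff] at h3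
  choose bL hbL using hlim
  have hfin : x₀ - ∑ j, bL j • a j = 0 := by
    apply IsHausdorff.haus (I := m) inferInstance
    intro n
    rw [SModEq.zero, Groth.Agent.H9.WQFix.mem_pow_smul_top_iff]
    have h1 : xs n ∈ m ^ n := hsm n (xs n) (hxs_mem n)
    have h2 : x₀ - ∑ j, bL j • a j = xs n +
        ∑ j, (algebraMap B A ((∑ t ∈ Finset.range n, cf t (xs t) j) - bL j)) * a j := by
      rw [← hsum n]
      simp only [Algebra.smul_def, map_sub, sub_mul, Finset.sum_sub_distrib]
      abel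
    rw [h2]
    exact (m ^ n).add_mem h1 (Ideal.sum_mem _ (fun j _ =>
      Ideal.mul_mem_right _ _ (hIpow n _ (hbL j n))))
  rw [sub_eq_zero.mp hfin]
  exact Submodule.sum_mem _ (fun j _ => Submodule.smul_mem _ _ (Submodule.subset_span ⟨j, rfl⟩))

theorem finite_of_pow_le {B : Type u} {A : Type v} [CommRing B] [CommRing A] [Algebra B A]
    [IsNoetherianRing A] [IsLocalRing A] [IsLocalRing B]
    [IsHausdorff (maximalIdeal A) A] [IsPrecomplete (maximalIdeal B) B]
    (M : ℕ) (hM : maximalIdeal A ^ M ≤ (maximalIdeal B).map (algebraMap B A))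
    (hmB : ∀ y ∈ maximalIdeal B, algebraMap B A y ∈ maximalIdeal A)
    (h1 : ∀ x : A, ∃ b : B, x - algebraMap B A b ∈ maximalIdeal A) : Module.Finite B A := by
  obtain ⟨N, hN, hN2⟩ := Groth.Agent.H9.WQFix.exists_fg_sup_pow (maximalIdeal A) h1 M
  obtain ⟨s, a, ha⟩ := Submodule.fg_iff_exists_fin_generating_family.mp hN
  have hgen : (⊤ : Submodule B A) ≤ Submodule.span B (Set.range a) ⊔ (maximalIdeal B) • ⊤ := by
    intro x _
    have hx := hN2 x
    rw [← ha] at hx
    have hle : ((maximalIdeal A ^ M).restrictScalars B) ≤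
        (maximalIdeal B • ⊤ : Submodule B A) := by
      rw [Ideal.smul_top_eq_map]
      exact fun y hy => hM hy
    have hle2 := sup_le_sup_left hle (Submodule.span B (Set.range a))
    exact hle2 hx
  have htop := top_le_of_complete' (maximalIdeal A) (maximalIdeal B) hmB a hgen
  rw [Module.finite_def, ← eq_top_iff.mpr htop]
  exact Submodule.fg_span (Set.finite_range a)

theorem pow_le_span {A : Type u} [CommRing A] [IsLocalRing A] [IsNoetherianRing A]
    {G : Type w} [Group G] [Fintype G] [MulSemiringAction G A] {n : ℕ} (u : Fin n → A)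
    (hu : ∀ τ : Fin n → G, Ideal.span (Set.range fun i => τ i • u i) = maximalIdeal A) :
    ∃ M : ℕ, maximalIdeal A ^ M ≤ Ideal.span (Set.range fun i => ∏ σ : G, σ • u i) := by
  have hle : maximalIdeal A ≤
      (Ideal.span (Set.range fun i => ∏ σ : G, σ • u i)).radical := by
    rw [Ideal.radical_eq_sInf]
    apply le_sInf
    rintro J ⟨hJ, hJp⟩
    haveI := hJp
    have h1 : ∀ i, ∃ σ : G, σ • u i ∈ J := by
      intro i
      have h2 : ∏ σ : G, σ • u i ∈ J := hJ (Ideal.subset_span ⟨i, rfl⟩)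
      obtain ⟨σ, -, hσ⟩ := Ideal.IsPrime.prod_mem_iff.mp h2
      exact ⟨σ, hσ⟩
    choose τ hτ using h1
    rw [← hu τ, Ideal.span_le]
    rintro _ ⟨i, rfl⟩
    exact hτ i
  obtain ⟨M, hM⟩ := Ideal.exists_radical_pow_le_of_fg
    (Ideal.span (Set.range fun i => ∏ σ : G, σ • u i)) (IsNoetherian.noetherian _)
  exact ⟨M, le_trans (Ideal.pow_right_mono hle M) hM⟩

theorem map_mem_maximalIdeal (P : Type v) (A : Type u) [CommRing P] [IsLocalRing P]
    [CommRing A] [IsLocalRing A] [Algebra P A]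
    (hres : Function.Surjective (IsLocalRing.residue A ∘ algebraMap P A)) :
    ∀ y ∈ maximalIdeal P, algebraMap P A y ∈ maximalIdeal A := by
  intro y hy
  have hsurj : Function.Surjective ((IsLocalRing.residue A).comp (algebraMap P A)) := hres
  have hmax : (RingHom.ker ((IsLocalRing.residue A).comp (algebraMap P A))).IsMaximal :=
    RingHom.ker_isMaximal_of_surjective _ hsurj
  have heq := IsLocalRing.eq_maximalIdeal hmax
  rw [← heq, RingHom.mem_ker, RingHom.comp_apply] at hy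
  exact (IsLocalRing.residue_eq_zero_iff _).mp hy

theorem injective_of_dim (P : Type v) (A : Type u) [CommRing P] [IsDomain P] [CommRing A]
    [Algebra P A] [Algebra.IsIntegral P A] (n : ℕ) (hP : ringKrullDim P ≤ n)
    (hA : (n : WithBot ℕ∞) ≤ ringKrullDim A) :
    Function.Injective (algebraMap P A) := by
  rw [injective_iff_map_eq_zero]
  intro f hf
  by_contra hf0
  have hker : ∀ a ∈ Ideal.span {f}, algebraMap P A a = 0 := by
    intro a ha
    obtain ⟨c, rfl⟩ := Ideal.mem_span_singleton'.mp ha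
    rw [map_mul, hf, mul_zero]
  letI : Algebra (P ⧸ Ideal.span {f}) A :=
    (Ideal.Quotient.lift (Ideal.span {f}) (algebraMap P A) hker).toAlgebra
  haveI : IsScalarTower P (P ⧸ Ideal.span {f}) A :=
    IsScalarTower.of_algebraMap_eq (fun r => rfl)
  haveI : Algebra.IsIntegral (P ⧸ Ideal.span {f}) A := Algebra.IsIntegral.tower_top P
  have h1 : ringKrullDim A ≤ ringKrullDim (P ⧸ Ideal.span {f}) :=
    Groth.Agent.H9.FinComp.ringKrullDim_le_of_isIntegral (P ⧸ Ideal.span {f}) A
  have h3 : ringKrullDim (P ⧸ Ideal.span {f}) + 1 ≤ ringKrullDim P :=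
    ringKrullDim_quotient_succ_le_of_nonZeroDivisor (mem_nonZeroDivisors_of_ne_zero hf0)
  have h4 : (n : WithBot ℕ∞) + 1 ≤ n :=
    (add_le_add (hA.trans h1) le_rfl).trans (h3.trans hP)
  norm_cast at h4
  omega

theorem exists_sum_of_mem_mul {R : Type*} [CommRing R] {ι : Type*} [Fintype ι] (N : Ideal R)
    (v : ι → R) (h : R) (hh : h ∈ N * Ideal.span (Set.range v)) :
    ∃ c : ι → R, (∀ i, c i ∈ N) ∧ h = ∑ i, c i * v i := by
  have hh' : h ∈ N • Submodule.span R (Set.range v) := hh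
  obtain ⟨c, hc, hsum⟩ := (Submodule.mem_ideal_smul_span_iff_exists_sum N v h).mp hh'
  refine ⟨fun i => c i, fun i => hc i, ?_⟩
  rw [← hsum]
  exact Finsupp.sum_fintype _ _ (fun i => zero_smul _ _)

section PS

variable {k : Type v} [Field k] {n : ℕ}

theorem approx_step (S : Subalgebra k (MvPowerSeries (Fin n) k))
    (hX : ∀ i, (MvPowerSeries.X i : MvPowerSeries (Fin n) k) ∈ S) :
    ∀ (t : ℕ) (h : MvPowerSeries (Fin n) k),
      h ∈ maximalIdeal (MvPowerSeries (Fin n) k) ^ t →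
      ∃ g ∈ S, h - g ∈ maximalIdeal (MvPowerSeries (Fin n) k) ^ (t + 1) := by
  have hm : maximalIdeal (MvPowerSeries (Fin n) k) =
      Ideal.span (Set.range (MvPowerSeries.X : Fin n → MvPowerSeries (Fin n) k)) :=
    Groth.Agent.H4.MvPSVars.maximalIdeal_eq_span_range_X
  intro t
  induction t with
  | zero =>
    intro h _
    refine ⟨algebraMap k _ (MvPowerSeries.constantCoeff h), S.algebraMap_mem _, ?_⟩
    rw [zero_add, pow_one, hm, Groth.Agent.H4.MvPSVars.mem_span_range_X_iff, map_sub,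
      ← Groth.Agent.H6.PSCot.C_eq_algebraMap, MvPowerSeries.constantCoeff_C, sub_self]
  | succ t ih =>
    intro h hh
    have hh' : h ∈ maximalIdeal (MvPowerSeries (Fin n) k) ^ t *
        Ideal.span (Set.range (MvPowerSeries.X : Fin n → MvPowerSeries (Fin n) k)) := by
      rw [← hm, ← pow_succ]
      exact hh
    obtain ⟨c, hc, hsum⟩ := exists_sum_of_mem_mul _ _ h hh'
    have h1 := fun i => ih (c i) (hc i)
    choose g hgS hg using h1
    refine ⟨∑ i, g i * MvPowerSeries.X i,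
      S.sum_mem (fun i _ => S.mul_mem (hgS i) (hX i)), ?_⟩
    rw [hsum, ← Finset.sum_sub_distrib]
    refine Ideal.sum_mem _ (fun i _ => ?_)
    rw [← sub_mul, pow_succ _ (t + 1)]
    exact Ideal.mul_mem_mul (hg i) (Groth.Agent.H6.PSCot.X_mem_maximalIdeal i)

theorem dense (S : Subalgebra k (MvPowerSeries (Fin n) k))
    (hX : ∀ i, (MvPowerSeries.X i : MvPowerSeries (Fin n) k) ∈ S) :
    ∀ (t : ℕ) (f : MvPowerSeries (Fin n) k),
      ∃ g ∈ S, f - g ∈ maximalIdeal (MvPowerSeries (Fin n) k) ^ t := by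
  intro t
  induction t with
  | zero =>
    intro f
    refine ⟨0, S.zero_mem, ?_⟩
    rw [pow_zero, Ideal.one_eq_top]
    exact Submodule.mem_top
  | succ t ih =>
    intro f
    obtain ⟨g₀, hg₀S, hg₀⟩ := ih f
    obtain ⟨g₁, hg₁S, hg₁⟩ := approx_step S hX t (f - g₀) hg₀
    refine ⟨g₀ + g₁, S.add_mem hg₀S hg₁S, ?_⟩
    rw [sub_add_eq_sub_sub]
    exact hg₁

theorem smul_map_eq {A : Type u} [CommRing A] [IsLocalRing A]
    [IsHausdorff (maximalIdeal A) A] [Algebra k A]
    {G : Type w} [Group G] [Fintype G] [MulSemiringAction G A] [SMulCommClass G k A]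
    (u : Fin n → A) (φ : MvPowerSeries (Fin n) k →ₐ[k] A)
    (hφ : ∀ i, φ (MvPowerSeries.X i) = ∏ σ : G, σ • u i)
    (hpow : ∀ t, ∀ y ∈ maximalIdeal (MvPowerSeries (Fin n) k) ^ t, φ y ∈ maximalIdeal A ^ t) :
    ∀ (σ : G) (f : MvPowerSeries (Fin n) k), σ • φ f = φ f := by
  classical
  have hX : ∀ i, (MvPowerSeries.X i : MvPowerSeries (Fin n) k) ∈
      (FixedPoints.subalgebra k A G).comap φ := by
    intro i
    show ∀ σ : G, σ • φ (MvPowerSeries.X i) = φ (MvPowerSeries.X i)
    intro σ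
    rw [hφ i]
    have e1 : σ • ∏ τ : G, τ • u i = ∏ τ : G, σ • τ • u i :=
      map_prod (MulSemiringAction.toRingHom G A σ) (fun τ => τ • u i) Finset.univ
    rw [e1]
    exact Fintype.prod_equiv (Equiv.mulLeft σ) _ _ (fun τ => (mul_smul σ τ (u i)).symm)
  intro σ f
  have hd := fun t => dense ((FixedPoints.subalgebra k A G).comap φ) hX t f
  choose g hgS hg using hd
  refine Groth.Agent.H9.WQFix.closed_fixed G (fun t => φ (g t)) (φ f)
    (fun t τ => (show ∀ τ : G, τ • φ (g t) = φ (g t) from hgS t) τ) (fun t => ?_) σ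
  have h1 := hpow t _ (hg t)
  have h2 := (maximalIdeal A ^ t).neg_mem h1
  rw [← map_neg, neg_sub, map_sub] at h2
  exact h2

end PS

theorem main (p : ℕ) [Fact p.Prime] (A : Type u) [CommRing A] [IsRegularLocalRing A] [CharP A p]
    [IsAdicComplete (IsLocalRing.maximalIdeal A) A] (n : ℕ) (hn : ringKrullDim A = n) (h2 : 2 ≤ n)
    (k : Type v) [Field k] [Algebra k A]
    (hk : Function.Surjective (IsLocalRing.residue A ∘ algebraMap k A))
    (G : Type w) [Group G] [Fintype G] [MulSemiringAction G A] (hcard : Fintype.card G = p)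
    [SMulCommClass G k A]
    (hram : ∀ P : Ideal A, P.IsPrime → P ≠ IsLocalRing.maximalIdeal A → P.inertia G = ⊥)
    (u : Fin n → A)
    (hu : ∀ τ : Fin n → G,
      Ideal.span (Set.range fun i => τ i • u i) = IsLocalRing.maximalIdeal A)
    (φ : MvPowerSeries (Fin n) k →ₐ[k] A) (hφ : ∀ i, φ (MvPowerSeries.X i) = ∏ σ : G, σ • u i) :
    ∃ y : A, (∀ σ : G, σ • y = y) ∧ ∀ e : ℕ, y ^ p ^ e ∉ Set.range φ := by
  classical
  by_contra hcon
  push Not at hcon
  haveI hregP : IsRegularLocalRing (MvPowerSeries (Fin n) k) :=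
    Groth.Agent.H6.PSCot.isRegularLocalRing_mvPowerSeries (k := k) n
  haveI hdomP : IsDomain (MvPowerSeries (Fin n) k) := Groth.Agent.H7.Reg.isDomain _
  letI algPA : Algebra (MvPowerSeries (Fin n) k) A := φ.toRingHom.toAlgebra
  haveI : IsScalarTower k (MvPowerSeries (Fin n) k) A :=
    IsScalarTower.of_algebraMap_eq (fun c => (φ.commutes c).symm)
  have hres : Function.Surjective
      (IsLocalRing.residue A ∘ algebraMap (MvPowerSeries (Fin n) k) A) := by
    intro x
    obtain ⟨c, hc⟩ := hk x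
    refine ⟨algebraMap k _ c, ?_⟩
    rw [← hc]
    show IsLocalRing.residue A (φ (algebraMap k _ c)) = IsLocalRing.residue A (algebraMap k A c)
    rw [φ.commutes]
  have hmB := map_mem_maximalIdeal (MvPowerSeries (Fin n) k) A hres
  have h1 : ∀ x : A, ∃ b : MvPowerSeries (Fin n) k,
      x - algebraMap (MvPowerSeries (Fin n) k) A b ∈ maximalIdeal A := by
    intro x
    obtain ⟨b, hb⟩ := hres (IsLocalRing.residue A x)
    have hb' : IsLocalRing.residue A (algebraMap (MvPowerSeries (Fin n) k) A b) =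
        IsLocalRing.residue A x := hb
    exact ⟨b, Ideal.Quotient.eq.mp hb'.symm⟩
  obtain ⟨M, hM⟩ := pow_le_span u hu
  have hM' : maximalIdeal A ^ M ≤
      (maximalIdeal (MvPowerSeries (Fin n) k)).map (algebraMap (MvPowerSeries (Fin n) k) A) := by
    refine hM.trans (Ideal.span_le.mpr ?_)
    rintro _ ⟨i, rfl⟩
    show (∏ σ : G, σ • u i) ∈ _
    rw [← hφ i]
    exact Ideal.mem_map_of_mem (algebraMap (MvPowerSeries (Fin n) k) A)
      (Groth.Agent.H6.PSCot.X_mem_maximalIdeal i)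
  haveI hfin : Module.Finite (MvPowerSeries (Fin n) k) A := finite_of_pow_le M hM' hmB h1
  haveI : Algebra.IsIntegral (MvPowerSeries (Fin n) k) A :=
    Algebra.IsIntegral.of_finite (MvPowerSeries (Fin n) k) A
  have hinj : Function.Injective (algebraMap (MvPowerSeries (Fin n) k) A) :=
    injective_of_dim (MvPowerSeries (Fin n) k) A n
      (Groth.Agent.H6.PSCot.ringKrullDim_mvPowerSeries_le n) hn.ge
  have hinv : ∀ (σ : G) (f : MvPowerSeries (Fin n) k),
      σ • algebraMap (MvPowerSeries (Fin n) k) A f = algebraMap (MvPowerSeries (Fin n) k) A f :=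
    smul_map_eq u φ hφ (fun t y hy => map_pow_mem _ _ hmB t y hy)
  haveI : SMulCommClass G (MvPowerSeries (Fin n) k) A := by
    refine ⟨fun σ f a => ?_⟩
    rw [Algebra.smul_def, Algebra.smul_def, smul_mul', hinv σ f]
  have hdim : (2 : WithBot ℕ∞) ≤ ringKrullDim A := by
    rw [hn]
    exact_mod_cast h2
  have hcardN : Nat.card G = p := by
    rw [Nat.card_eq_fintype_card]
    exact hcard
  have hcon' : ∀ y : A, (∀ σ : G, σ • y = y) →
      ∃ e : ℕ, y ^ p ^ e ∈ Set.range (algebraMap (MvPowerSeries (Fin n) k) A) := by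
    intro y hy
    obtain ⟨e, f, hf⟩ := hcon y hy
    exact ⟨e, f, hf⟩
  exact core p (MvPowerSeries (Fin n) k) A hdim hinj hres G hcardN hram hcon'

end Groth.Agent.H9.WQSep
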