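import Mathlib
import Groth.Agent.Lib.Helper9.Misc.WQSepB
import Groth.Agent.Lib.Helper9.Misc.WQCopA

set_option autoImplicit false
universe u v w

namespace Groth.Agent.H9.WQPar

open IsLocalRing

theorem length_quot_congr (A : Type u) [CommRing A] (I J : Ideal A) (h : I = J) :
    Module.length A (A ⧸ I) = Module.length A (A ⧸ J) := by
  subst h
  rfl

theorem length_eq_finrank_of_free (P : Type v) (A : Type u) [CommRing P] [IsLocalRing P]
    [CommRing A] [IsLocalRing A] [Algebra P A] [IsLocalHom (algebraMap P A)]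
    [Module.Finite P A] [Module.Free P A]
    (hres : Function.Surjective (IsLocalRing.residue A ∘ algebraMap P A)) :
    Module.length A (A ⧸ (maximalIdeal P).map (algebraMap P A)) = (Module.finrank P A : ℕ∞) := by
  have h1 := IsLocalRing.length_restrictScalars P A (A ⧸ (maximalIdeal P).map (algebraMap P A))
  have h2 : Module.length (ResidueField P) (ResidueField A) = 1 := by
    have hbij : Function.Bijective (Algebra.linearMap (ResidueField P) (ResidueField A)) := by
      constructor
      · exact (algebraMap (ResidueField P) (ResidueField A)).injective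
      · intro w
        obtain ⟨b, hb⟩ := hres w
        refine ⟨IsLocalRing.residue P b, ?_⟩
        rw [← hb]
        rfl
    rw [← (LinearEquiv.ofBijective _ hbij).length_eq]
    exact Module.length_eq_one _ _
  letI := Ideal.Quotient.field (maximalIdeal P)
  have h3 : Module.length P (A ⧸ (maximalIdeal P).map (algebraMap P A)) =
      Module.length (P ⧸ maximalIdeal P) (A ⧸ (maximalIdeal P).map (algebraMap P A)) :=
    Module.length_eq_of_surjective (S := P) (R := P ⧸ maximalIdeal P)
      (M := A ⧸ (maximalIdeal P).map (algebraMap P A))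
      (fun y => by
        obtain ⟨z, rfl⟩ := Ideal.Quotient.mk_surjective y
        exact ⟨z, rfl⟩)
  haveI : Module.Finite (P ⧸ maximalIdeal P) (A ⧸ (maximalIdeal P).map (algebraMap P A)) :=
    Module.Finite.of_restrictScalars_finite P _ _
  have h4 := Module.length_eq_finrank (P ⧸ maximalIdeal P)
    (A ⧸ (maximalIdeal P).map (algebraMap P A))
  have h5 := IsLocalRing.finrank_quotient_map (R := P) (S := A)
  rw [h2, mul_one] at h1
  rw [← h1, h3, h4, h5]

theorem main (A : Type u) [CommRing A] [IsRegularLocalRing A]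
    [IsAdicComplete (IsLocalRing.maximalIdeal A) A] (n : ℕ) (hn : ringKrullDim A = n)
    (k : Type v) [Field k] [Algebra k A]
    (hk : Function.Surjective (IsLocalRing.residue A ∘ algebraMap k A))
    (x : Fin n → A) (hx : (Ideal.span (Set.range x)).radical = IsLocalRing.maximalIdeal A)
    (φ : MvPowerSeries (Fin n) k →ₐ[k] A) (hφ : ∀ i, φ (MvPowerSeries.X i) = x i) :
    ∃ (d : ℕ) (b : Fin d → A), (d : ℕ∞) = Module.length A (A ⧸ Ideal.span (Set.range x)) ∧
      Function.Bijective (fun r : Fin d → MvPowerSeries (Fin n) k => ∑ i, φ (r i) * b i) := by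
  classical
  haveI hregP : IsRegularLocalRing (MvPowerSeries (Fin n) k) :=
    Groth.Agent.H6.PSCot.isRegularLocalRing_mvPowerSeries (k := k) n
  haveI hdomP : IsDomain (MvPowerSeries (Fin n) k) := Groth.Agent.H7.Reg.isDomain _
  letI algPA : Algebra (MvPowerSeries (Fin n) k) A := φ.toRingHom.toAlgebra
  haveI : IsScalarTower k (MvPowerSeries (Fin n) k) A :=
    IsScalarTower.of_algebraMap_eq (fun c => (φ.commutes c).symm)
  have hres : Function.Surjective
      (IsLocalRing.residue A ∘ algebraMap (MvPowerSeries (Fin n) k) A) := by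
    intro y
    obtain ⟨c, hc⟩ := hk y
    refine ⟨algebraMap k _ c, ?_⟩
    rw [← hc]
    show IsLocalRing.residue A (φ (algebraMap k _ c)) = IsLocalRing.residue A (algebraMap k A c)
    rw [φ.commutes]
  have hmB := Groth.Agent.H9.WQSep.map_mem_maximalIdeal (MvPowerSeries (Fin n) k) A hres
  have h1 : ∀ y : A, ∃ b : MvPowerSeries (Fin n) k,
      y - algebraMap (MvPowerSeries (Fin n) k) A b ∈ maximalIdeal A := by
    intro y
    obtain ⟨b, hb⟩ := hres (IsLocalRing.residue A y)
    have hb' : IsLocalRing.residue A (algebraMap (MvPowerSeries (Fin n) k) A b) =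
        IsLocalRing.residue A y := hb
    exact ⟨b, Ideal.Quotient.eq.mp hb'.symm⟩
  have hcomp : (algebraMap (MvPowerSeries (Fin n) k) A) ∘
      (MvPowerSeries.X : Fin n → MvPowerSeries (Fin n) k) = x := funext fun i => hφ i
  have hJ : (maximalIdeal (MvPowerSeries (Fin n) k)).map
      (algebraMap (MvPowerSeries (Fin n) k) A) = Ideal.span (Set.range x) := by
    rw [Groth.Agent.H4.MvPSVars.maximalIdeal_eq_span_range_X, Ideal.map_span, ← Set.range_comp,
      hcomp]
  obtain ⟨M, hM⟩ := Ideal.exists_radical_pow_le_of_fg (Ideal.span (Set.range x))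
    (IsNoetherian.noetherian _)
  rw [hx] at hM
  have hM' : maximalIdeal A ^ M ≤ (maximalIdeal (MvPowerSeries (Fin n) k)).map
      (algebraMap (MvPowerSeries (Fin n) k) A) := by
    rw [hJ]
    exact hM
  haveI hfin : Module.Finite (MvPowerSeries (Fin n) k) A :=
    Groth.Agent.H9.WQSep.finite_of_pow_le M hM' hmB h1
  haveI : Algebra.IsIntegral (MvPowerSeries (Fin n) k) A :=
    Algebra.IsIntegral.of_finite (MvPowerSeries (Fin n) k) A
  have hinj : Function.Injective (algebraMap (MvPowerSeries (Fin n) k) A) :=
    Groth.Agent.H9.WQSep.injective_of_dim (MvPowerSeries (Fin n) k) A n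
      (Groth.Agent.H6.PSCot.ringKrullDim_mvPowerSeries_le n) hn.ge
  haveI hfree : Module.Free (MvPowerSeries (Fin n) k) A :=
    Groth.Agent.H9.WQCop.free_of_regular_finite (MvPowerSeries (Fin n) k) A hinj
  haveI hloc : IsLocalHom (algebraMap (MvPowerSeries (Fin n) k) A) := ⟨fun y hy => by
    by_contra h
    exact (IsLocalRing.mem_maximalIdeal _).mp
      (hmB y ((IsLocalRing.mem_maximalIdeal y).mpr h)) hy⟩
  have hlen := length_eq_finrank_of_free (MvPowerSeries (Fin n) k) A hres
  have hlen' : Module.length A (A ⧸ Ideal.span (Set.range x)) =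
      (Module.finrank (MvPowerSeries (Fin n) k) A : ℕ∞) :=
    (length_quot_congr A _ _ hJ).symm.trans hlen
  refine ⟨Module.finrank (MvPowerSeries (Fin n) k) A,
    Module.finBasis (MvPowerSeries (Fin n) k) A, hlen'.symm, ?_⟩
  have hfun : (fun r : Fin (Module.finrank (MvPowerSeries (Fin n) k) A) →
      MvPowerSeries (Fin n) k =>
        ∑ i, φ (r i) * (Module.finBasis (MvPowerSeries (Fin n) k) A) i) =
      ⇑(Module.finBasis (MvPowerSeries (Fin n) k) A).equivFun.symm := by
    funext r
    rw [Module.Basis.equivFun_symm_apply]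
    refine Finset.sum_congr rfl fun i _ => ?_
    exact (Algebra.smul_def (r i) _).symm
  rw [hfun]
  exact (Module.finBasis (MvPowerSeries (Fin n) k) A).equivFun.symm.bijective

end Groth.Agent.H9.WQPar
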