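import Mathlib
import Groth.Agent.Lib.Helper1.RegLoc
import Groth.Agent.Lib.Helper6.InertiaH2
import Groth.Agent.Lib.Helper9.Misc.WQFixB

set_option autoImplicit false
universe u v w

namespace Groth.Agent.H9.WQRegLoc

open IsLocalRing

theorem regular_of_etale_away (B T : Type u) [CommRing B] [IsNoetherianRing B] [CommRing T]
    [IsRegularLocalRing T] [Algebra B T]
    (P : Ideal B) [P.IsPrime] (QT : Ideal T) [hQT : QT.IsPrime]
    (hQP : QT.comap (algebraMap B T) = P)
    (g : T) (hg : g ∉ QT) [Algebra.Etale B (Localization.Away g)] :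
    IsRegularLocalRing (Localization.AtPrime P) := by
  have hdisj : Disjoint (Submonoid.powers g : Set T) (QT : Set T) := by
    rw [Set.disjoint_left]
    intro x hx hxQ
    obtain ⟨n, rfl⟩ := (Submonoid.mem_powers_iff x g).mp hx
    exact hg (hQT.mem_of_pow_mem n hxQ)
  obtain ⟨Q', hQ'def⟩ : ∃ Q' : Ideal (Localization.Away g),
      Q' = QT.map (algebraMap T (Localization.Away g)) := ⟨_, rfl⟩
  haveI hQ'p : Q'.IsPrime := by
    rw [hQ'def]
    exact IsLocalization.isPrime_of_isPrime_disjoint (Submonoid.powers g) _ QT hQT hdisj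
  have hcomap : Q'.comap (algebraMap T (Localization.Away g)) = QT := by
    rw [hQ'def]
    exact IsLocalization.under_map_of_isPrime_disjoint (Submonoid.powers g) _ hQT hdisj
  haveI hloc : IsLocalization.AtPrime (Localization.AtPrime Q') QT := by
    have h1 := IsLocalization.isLocalization_atPrime_localization_atPrime (Submonoid.powers g) Q'
    have hsub : (Q'.comap (algebraMap T (Localization.Away g))).primeCompl = QT.primeCompl := by
      ext x
      rw [Ideal.mem_primeCompl_iff, Ideal.mem_primeCompl_iff, hcomap]
    unfold IsLocalization.AtPrime at h1 ⊢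
    rw [hsub] at h1
    exact h1
  haveI : IsRegularLocalRing (Localization.AtPrime QT) :=
    Groth.Agent.H1.Reg.isRegularLocalRing_localization T QT
  haveI hregS : IsRegularLocalRing (Localization.AtPrime Q') :=
    IsRegularLocalRing.of_ringEquiv
      (IsLocalization.algEquiv QT.primeCompl (Localization.AtPrime QT)
        (Localization.AtPrime Q')).toRingEquiv
  have hPQ' : P = Q'.comap (algebraMap B (Localization.Away g)) := by
    rw [IsScalarTower.algebraMap_eq B T (Localization.Away g), ← Ideal.comap_comap, hcomap, hQP]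
  letI algPS : Algebra (Localization.AtPrime P) (Localization.AtPrime Q') :=
    (Localization.localRingHom P Q' (algebraMap B (Localization.Away g)) hPQ').toAlgebra
  haveI : IsLocalHom (algebraMap (Localization.AtPrime P) (Localization.AtPrime Q')) :=
    Localization.isLocalHom_localRingHom P Q' _ hPQ'
  haveI : IsScalarTower B (Localization.AtPrime P) (Localization.AtPrime Q') :=
    IsScalarTower.of_algebraMap_eq (fun b => by
      rw [IsScalarTower.algebraMap_apply B (Localization.Away g) (Localization.AtPrime Q')]
      exact (Localization.localRingHom_to_map P Q' _ hPQ' b).symm)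
  haveI : Module.Flat (Localization.Away g) (Localization.AtPrime Q') :=
    IsLocalization.flat (Localization.AtPrime Q') Q'.primeCompl
  haveI : Module.Flat B (Localization.AtPrime Q') :=
    Module.Flat.trans B (Localization.Away g) (Localization.AtPrime Q')
  haveI : Module.Flat (Localization.AtPrime P) (Localization.AtPrime Q') :=
    (Module.flat_iff_of_isLocalization (Localization.AtPrime P) P.primeCompl
      (Localization.AtPrime Q')).mpr inferInstance
  haveI : IsNoetherianRing (Localization.AtPrime P) :=
    IsLocalization.isNoetherianRing P.primeCompl _ inferInstance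
  exact Groth.Agent.H1.Reg.isRegularLocalRing_of_flat (Localization.AtPrime P)
    (Localization.AtPrime Q')

theorem regular_of_inertia_bot (B A : Type u) [CommRing B] [IsNoetherianRing B] [CommRing A]
    [IsRegularLocalRing A] [Algebra B A]
    (hinj : Function.Injective (algebraMap B A))
    (G : Type w) [Group G] [Finite G] [MulSemiringAction G A] [SMulCommClass G B A]
    [Algebra.IsInvariant B A G]
    (P : Ideal B) [P.IsPrime] (Q : Ideal A) [Q.IsPrime] (hQP : Q.comap (algebraMap B A) = P)
    (hin : Q.inertia G = ⊥) : IsRegularLocalRing (Localization.AtPrime P) := by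
  obtain ⟨g, hgQ, hEt⟩ := Groth.Agent.H6.InertiaH.exists_etale_fixedPoints B hinj Q
    (⊥ : Subgroup G) (le_of_eq hin)
  haveI := hEt
  have hmemT : ∀ a : A, a ∈ FixedPoints.subalgebra B A (⊥ : Subgroup G) := by
    intro a
    show ∀ σ : (⊥ : Subgroup G), σ • a = a
    rintro ⟨σ, hσ⟩
    have h1 : σ = 1 := Subgroup.mem_bot.mp hσ
    subst h1
    exact one_smul G a
  obtain ⟨e, -⟩ : ∃ e : A ≃+* (FixedPoints.subalgebra B A (⊥ : Subgroup G)),
      ∀ a, ((e a : FixedPoints.subalgebra B A (⊥ : Subgroup G)) : A) = a :=
    ⟨{ toFun := fun a => ⟨a, hmemT a⟩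
       invFun := fun t => (t : A)
       left_inv := fun a => rfl
       right_inv := fun t => Subtype.ext rfl
       map_mul' := fun a b => Subtype.ext rfl
       map_add' := fun a b => Subtype.ext rfl }, fun a => rfl⟩
  haveI : IsRegularLocalRing (FixedPoints.subalgebra B A (⊥ : Subgroup G)) :=
    IsRegularLocalRing.of_ringEquiv e
  refine regular_of_etale_away B (FixedPoints.subalgebra B A (⊥ : Subgroup G)) P
    (Q.comap (algebraMap (FixedPoints.subalgebra B A (⊥ : Subgroup G)) A)) ?_ g hgQ
  rw [← hQP]
  exact Ideal.ext (fun x => Iff.rfl)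

theorem main (p : ℕ) [Fact p.Prime] (A : Type u) [CommRing A] [IsRegularLocalRing A]
    [IsAdicComplete (IsLocalRing.maximalIdeal A) A] (hdim : 2 ≤ ringKrullDim A)
    (k : Type v) [Field k] [Algebra k A]
    (hk : Function.Surjective (IsLocalRing.residue A ∘ algebraMap k A))
    (G : Type w) [Group G] [Finite G] [MulSemiringAction G A] (hcard : Nat.card G = p)
    (hGk : ∀ (σ : G) (c : k), σ • algebraMap k A c = algebraMap k A c)
    (hram : ∀ P : Ideal A, P.IsPrime → P ≠ IsLocalRing.maximalIdeal A → P.inertia G = ⊥)
    (P : Ideal (FixedPoints.subring A G)) [P.IsPrime] (hP : ¬ P.IsMaximal) :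
    IsRegularLocalRing (Localization.AtPrime P) := by
  classical
  obtain ⟨hnoeth, hfin, -, -, -, -, -⟩ := Groth.Agent.H9.WQFix.main_general p A hdim k hk G hcard
    hGk hram (FixedPoints.subring A G) (fun x y hxy => Subtype.ext hxy)
    (fun a ha => ⟨⟨a, ha⟩, rfl⟩)
  haveI := hnoeth
  haveI := hfin
  haveI : Algebra.IsIntegral (FixedPoints.subring A G) A := Algebra.IsIntegral.of_finite _ _
  haveI : Algebra.IsInvariant (FixedPoints.subring A G) A G := ⟨fun b hb => ⟨⟨b, hb⟩, rfl⟩⟩
  have hinj : Function.Injective (algebraMap (FixedPoints.subring A G) A) :=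
    fun x y hxy => Subtype.ext hxy
  obtain ⟨Q, -, hQp, hQP⟩ := Ideal.exists_ideal_over_prime_of_isIntegral P (⊥ : Ideal A)
    (by rw [Ideal.comap_bot_of_injective _ hinj]; exact bot_le)
  haveI := hQp
  have hQne : Q ≠ maximalIdeal A := by
    intro hQm
    apply hP
    rw [← hQP, hQm]
    exact Ideal.isMaximal_comap_of_isIntegral_of_isMaximal (maximalIdeal A)
  exact regular_of_inertia_bot (FixedPoints.subring A G) A hinj G P Q hQP (hram Q hQp hQne)

end Groth.Agent.H9.WQRegLoc
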