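import Mathlib
import Groth.Agent.Lib.Helper1.RegDer
import Groth.Agent.Lib.Helper9.WeierRegular

set_option autoImplicit false
set_option linter.style.haveILetI false
set_option linter.unusedSectionVars false
set_option linter.unusedVariables false
set_option linter.unusedSimpArgs false

open Polynomial IsLocalRing WeierstrassCurve.Affine
open scoped Polynomial.Bivariate

namespace Groth.Agent.H9.WRG
universe u

section Der
variable {k : Type*} {S : Type*} [CommRing k] [CommRing S] [Algebra k S]

theorem derivation_mem_of_mem_sq (D : Derivation k S S) (p : Ideal S)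
    (a : S) (ha : a ∈ p ^ 2) : D a ∈ p := by
  rw [pow_two] at ha
  refine Submodule.mul_induction_on ha ?_ ?_
  · intro b hb c hc
    rw [Derivation.leibniz]
    refine p.add_mem ?_ ?_
    · rw [smul_eq_mul]; exact p.mul_mem_right (D c) hb
    · rw [smul_eq_mul]; exact p.mul_mem_right (D b) hc
  · intro x y hx hy
    rw [map_add]
    exact p.add_mem hx hy

theorem not_mem_sq_of_derivation (D : Derivation k S S) (p : Ideal S)
    [p.IsPrime] (f : S) (hf : f ∈ p) (hD : D f ∉ p) :
    algebraMap S (Localization.AtPrime p) f ∉ maximalIdeal (Localization.AtPrime p) ^ 2 := by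
  intro h
  rw [← Localization.AtPrime.map_eq_maximalIdeal, ← Ideal.map_pow,
    IsLocalization.mem_map_algebraMap_iff p.primeCompl] at h
  obtain ⟨⟨⟨a, ha⟩, ⟨s, hs⟩⟩, h⟩ := h
  simp only at h
  rw [← map_mul] at h
  obtain ⟨⟨t, ht⟩, hts⟩ := (IsLocalization.eq_iff_exists p.primeCompl _).mp h
  simp only at hts
  have h1 : t * (f * s) ∈ p ^ 2 := by rw [hts]; exact Ideal.mul_mem_left _ _ ha
  have h2 := derivation_mem_of_mem_sq D p _ h1
  have h3 : D (t * (f * s)) = (t * s) * D f + f * D (t * s) := by
    have : t * (f * s) = (t * s) * f := by ring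
    rw [this, Derivation.leibniz]
    simp [smul_eq_mul]
  rw [h3] at h2
  have h4 : (t * s) * D f ∈ p := by
    have := p.sub_mem h2 (p.mul_mem_right (D (t * s)) hf)
    simpa using this
  rcases (Ideal.IsPrime.mem_or_mem ‹p.IsPrime› h4) with h5 | h5
  · rcases (Ideal.IsPrime.mem_or_mem ‹p.IsPrime› h5) with h6 | h6
    · exact ht h6
    · exact hs h6
  · exact hD h5

end Der

section Local

/-- local form of the Jacobian criterion. -/
theorem regular_at (S : Type u) [CommRing S] [IsRegularRing S] (f : S)
    (qbar : Ideal (S ⧸ Ideal.span ({f} : Set S))) [hq : qbar.IsPrime]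
    (p : Ideal S) [p.IsPrime] (hp : p = qbar.comap (Ideal.Quotient.mk (Ideal.span ({f} : Set S))))
    (h : algebraMap S (Localization.AtPrime p) f ∉ maximalIdeal (Localization.AtPrime p) ^ 2) :
    IsRegularLocalRing (Localization.AtPrime qbar) := by
  have hsurj : Function.Surjective (Ideal.Quotient.mk (Ideal.span ({f} : Set S))) :=
    Ideal.Quotient.mk_surjective
  have hfp : f ∈ p := by
    rw [hp, Ideal.mem_comap, Ideal.Quotient.eq_zero_iff_mem.mpr (Ideal.mem_span_singleton_self f)]
    exact Ideal.zero_mem _
  have hf'm : algebraMap S (Localization.AtPrime p) f ∈ maximalIdeal (Localization.AtPrime p) :=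
    (IsLocalization.AtPrime.to_map_mem_maximal_iff (Localization.AtPrime p) p f).mpr hfp
  have hsub : Algebra.algebraMapSubmonoid (S ⧸ Ideal.span ({f} : Set S)) p.primeCompl =
      qbar.primeCompl := by
    ext y
    rw [Ideal.mem_primeCompl_iff]
    constructor
    · rintro ⟨b, hb, rfl⟩ hmem
      apply hb
      rw [hp]
      exact hmem
    · intro hy
      obtain ⟨b, rfl⟩ := hsurj y
      refine ⟨b, fun hbn => hy ?_, rfl⟩
      rw [hp] at hbn
      exact hbn
  haveI : IsLocalization.AtPrime (Localization.AtPrime p ⧸
      (Ideal.span ({f} : Set S)).map (algebraMap S (Localization.AtPrime p))) qbar := by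
    have : IsLocalization (Algebra.algebraMapSubmonoid (S ⧸ Ideal.span ({f} : Set S)) p.primeCompl)
        (Localization.AtPrime p ⧸
          (Ideal.span ({f} : Set S)).map (algebraMap S (Localization.AtPrime p))) := inferInstance
    unfold IsLocalization.AtPrime
    rw [← hsub]
    exact this
  have hmapI : (Ideal.span ({f} : Set S)).map (algebraMap S (Localization.AtPrime p)) =
      Ideal.span ({algebraMap S (Localization.AtPrime p) f} : Set (Localization.AtPrime p)) := by
    rw [Ideal.map_span, Set.image_singleton]
  haveI : IsRegularLocalRing (Localization.AtPrime p ⧸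
      Ideal.span ({algebraMap S (Localization.AtPrime p) f} : Set (Localization.AtPrime p))) :=
    Groth.Agent.H1.RegDer.isRegularLocalRing_quotient_of_not_mem_sq (Localization.AtPrime p)
      _ hf'm h
  haveI : IsRegularLocalRing (Localization.AtPrime p ⧸
      (Ideal.span ({f} : Set S)).map (algebraMap S (Localization.AtPrime p))) :=
    IsRegularLocalRing.of_ringEquiv (Ideal.quotEquivOfEq hmapI.symm)
  exact IsRegularLocalRing.of_ringEquiv
    (IsLocalization.algEquiv qbar.primeCompl (Localization.AtPrime p ⧸
      (Ideal.span ({f} : Set S)).map (algebraMap S (Localization.AtPrime p)))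
      (Localization.AtPrime qbar)).toRingEquiv

end Local

section Weier

variable {R : Type u} [CommRing R]

noncomputable def dY : Derivation R[X] R[X][Y] R[X][Y] := Polynomial.derivative'

noncomputable def dX : Derivation R R[X][Y] R[X][Y] :=
  PolynomialModule.equivPolynomialSelf.compDer (Polynomial.derivative' (R := R)).mapCoeffs

theorem dY_apply (p : R[X][Y]) : dY p = derivative p := rfl

theorem coeff_dX (p : R[X][Y]) (i : ℕ) : (dX p).coeff i = derivative (p.coeff i) := rfl

theorem dX_C (p : R[X]) : dX (C p) = C (derivative p) := by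
  ext i : 1
  rw [coeff_dX, coeff_C, coeff_C]
  split_ifs
  · rfl
  · exact map_zero _

theorem dX_Y : dX (Y : R[X][Y]) = 0 := by
  ext i : 1
  rw [coeff_dX, coeff_X, coeff_zero]
  split_ifs
  · exact derivative_one
  · exact map_zero _

theorem dY_poly (W : WeierstrassCurve.Affine R) : dY W.polynomial = W.polynomialY := by
  rw [dY_apply, WeierstrassCurve.Affine.polynomial, WeierstrassCurve.Affine.polynomialY]
  simp only [derivative_sub, derivative_add, derivative_mul, derivative_C, derivative_X_pow,
    derivative_X, zero_mul, zero_add, mul_one, Nat.cast_ofNat, Nat.add_one_sub_one, pow_one]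
  simp only [C_ofNat]
  ring

theorem dX_poly (W : WeierstrassCurve.Affine R) : dX W.polynomial = W.polynomialX := by
  rw [WeierstrassCurve.Affine.polynomial, WeierstrassCurve.Affine.polynomialX]
  simp only [map_sub, map_add, Derivation.leibniz, Derivation.leibniz_pow, dX_C, dX_Y, smul_zero,
    zero_add, add_zero, smul_eq_mul]
  simp only [derivative_add, derivative_mul, derivative_C, derivative_X_pow, derivative_X,
    zero_mul, zero_add, mul_one, Nat.cast_ofNat, Nat.add_one_sub_one, pow_one, add_zero]
  simp only [C_ofNat, C_add, C_mul, C_pow, map_ofNat, C_0, mul_zero, add_zero, sub_zero]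
  ring

/-- Jacobian case: some partial derivative is not in `P`. -/
theorem regular_of_partial [IsRegularRing R] (W : WeierstrassCurve.Affine R)
    (P : Ideal W.CoordinateRing) [P.IsPrime]
    (h : CoordinateRing.mk W W.polynomialX ∉ P ∨ CoordinateRing.mk W W.polynomialY ∉ P) :
    IsRegularLocalRing (Localization.AtPrime P) := by
  let qbar : Ideal (R[X][Y] ⧸ Ideal.span ({W.polynomial} : Set R[X][Y])) := P
  haveI : qbar.IsPrime := ‹P.IsPrime›
  set p : Ideal R[X][Y] := qbar.comap (Ideal.Quotient.mk _) with hp
  haveI : p.IsPrime := Ideal.comap_isPrime _ _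
  have hfp : W.polynomial ∈ p := by
    rw [hp, Ideal.mem_comap, Ideal.Quotient.eq_zero_iff_mem.mpr (Ideal.mem_span_singleton_self _)]
    exact Ideal.zero_mem _
  have key : algebraMap R[X][Y] (Localization.AtPrime p) W.polynomial ∉
      maximalIdeal (Localization.AtPrime p) ^ 2 := by
    rcases h with h | h
    · apply not_mem_sq_of_derivation dX p _ hfp
      rw [dX_poly]
      exact h
    · apply not_mem_sq_of_derivation dY p _ hfp
      rw [dY_poly]
      exact h
  exact regular_at R[X][Y] W.polynomial qbar p hp key

end Weier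

end Groth.Agent.H9.WRG
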