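import Mathlib
import Groth.Agent.Lib.Helper9.WeierRegular

set_option autoImplicit false
set_option linter.style.haveILetI false
set_option linter.unusedSectionVars false
set_option linter.unusedVariables false
set_option linter.unusedSimpArgs false

open Polynomial IsLocalRing WeierstrassCurve.Affine
open scoped Polynomial.Bivariate

namespace Groth.Agent.H9.WRG
universe u

section Sing

variable {R : Type u} [CommRing R] (W : WeierstrassCurve.Affine R)

theorem mk_polynomial_expand :
    CoordinateRing.mk W W.polynomial =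
      CoordinateRing.mk W Y ^ 2 +
        algebraMap R W.CoordinateRing W.a₁ * CoordinateRing.mk W (C X) * CoordinateRing.mk W Y +
        algebraMap R W.CoordinateRing W.a₃ * CoordinateRing.mk W Y -
      (CoordinateRing.mk W (C X) ^ 3 +
        algebraMap R W.CoordinateRing W.a₂ * CoordinateRing.mk W (C X) ^ 2 +
        algebraMap R W.CoordinateRing W.a₄ * CoordinateRing.mk W (C X) +
        algebraMap R W.CoordinateRing W.a₆) := by
  have hc : ∀ c : R, algebraMap R W.CoordinateRing c = CoordinateRing.mk W (C (C c)) := fun _ => rfl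
  simp only [hc]
  show CoordinateRing.mk W (Y ^ 2 + C (C W.a₁ * X + C W.a₃) * Y -
    C (X ^ 3 + C W.a₂ * X ^ 2 + C W.a₄ * X + C W.a₆)) = _
  simp only [C_add, C_mul, C_pow, map_add, map_sub, map_mul, map_pow]
  ring

theorem mk_polynomialX_expand :
    CoordinateRing.mk W W.polynomialX =
      algebraMap R W.CoordinateRing W.a₁ * CoordinateRing.mk W Y -
      (3 * CoordinateRing.mk W (C X) ^ 2 +
        2 * algebraMap R W.CoordinateRing W.a₂ * CoordinateRing.mk W (C X) +
        algebraMap R W.CoordinateRing W.a₄) := by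
  have hc : ∀ c : R, algebraMap R W.CoordinateRing c = CoordinateRing.mk W (C (C c)) := fun _ => rfl
  simp only [hc]
  show CoordinateRing.mk W (C (C W.a₁) * Y - C (C 3 * X ^ 2 + C (2 * W.a₂) * X + C W.a₄)) = _
  simp only [C_add, C_mul, C_pow, map_add, map_sub, map_mul, map_pow, C_ofNat, map_ofNat]

theorem mk_polynomialY_expand :
    CoordinateRing.mk W W.polynomialY =
      2 * CoordinateRing.mk W Y +
        algebraMap R W.CoordinateRing W.a₁ * CoordinateRing.mk W (C X) +
        algebraMap R W.CoordinateRing W.a₃ := by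
  have hc : ∀ c : R, algebraMap R W.CoordinateRing c = CoordinateRing.mk W (C (C c)) := fun _ => rfl
  simp only [hc]
  show CoordinateRing.mk W (C (C 2) * Y + C (C W.a₁ * X + C W.a₃)) = _
  simp only [C_add, C_mul, C_pow, map_add, map_sub, map_mul, map_pow, C_ofNat, map_ofNat]
  ring

theorem singular_case [IsDomain R] [IsDiscreteValuationRing R] (hΔ : W.Δ ≠ 0)
    (h3 : W.a₃ ∈ maximalIdeal R) (h4 : W.a₄ ∈ maximalIdeal R) (h6 : W.a₆ ∈ maximalIdeal R)
    (P : Ideal W.CoordinateRing) [hP : P.IsPrime]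
    (hX : CoordinateRing.mk W W.polynomialX ∈ P) (hY : CoordinateRing.mk W W.polynomialY ∈ P) :
    (∀ r ∈ maximalIdeal R, algebraMap R W.CoordinateRing r ∈ P) ∧
      CoordinateRing.mk W (C X) ∈ P ∧ CoordinateRing.mk W Y ∈ P := by
  let q := Ideal.Quotient.mk P
  let φ : R →+* (W.CoordinateRing ⧸ P) := q.comp (algebraMap R W.CoordinateRing)
  have hφ : ∀ c : R, q (algebraMap R W.CoordinateRing c) = φ c := fun _ => rfl
  set x := q (CoordinateRing.mk W (C X)) with hx
  set y := q (CoordinateRing.mk W Y) with hy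
  have hF : y ^ 2 + φ W.a₁ * x * y + φ W.a₃ * y -
      (x ^ 3 + φ W.a₂ * x ^ 2 + φ W.a₄ * x + φ W.a₆) = 0 := by
    have := congrArg q (mk_polynomial_expand W)
    rw [show CoordinateRing.mk W W.polynomial = 0 from AdjoinRoot.mk_self, map_zero] at this
    simp only [map_add, map_sub, map_mul, map_pow, hφ] at this
    exact this.symm
  have hFX : φ W.a₁ * y - (3 * x ^ 2 + 2 * φ W.a₂ * x + φ W.a₄) = 0 := by
    have := congrArg q (mk_polynomialX_expand W)
    rw [Ideal.Quotient.eq_zero_iff_mem.mpr hX] at this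
    simp only [map_add, map_sub, map_mul, map_pow, map_ofNat, hφ] at this
    exact this.symm
  have hFY : 2 * y + φ W.a₁ * x + φ W.a₃ = 0 := by
    have := congrArg q (mk_polynomialY_expand W)
    rw [Ideal.Quotient.eq_zero_iff_mem.mpr hY] at this
    simp only [map_add, map_sub, map_mul, map_pow, map_ofNat, hφ] at this
    exact this.symm
  have hΔP : φ W.Δ = 0 := by
    by_contra hne
    have hΔ' : (W.map φ).Δ ≠ 0 := by rwa [WeierstrassCurve.map_Δ]
    have heq : (W.map φ).toAffine.Equation x y := by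
      rw [equation_iff']
      simpa using hF
    have hns := (equation_iff_nonsingular_of_Δ_ne_zero hΔ').mp heq
    rw [nonsingular_iff'] at hns
    rcases hns.2 with h | h
    · exact h (by simpa using hFX)
    · exact h (by simpa using hFY)
  obtain ⟨π, hπ⟩ := IsDiscreteValuationRing.exists_irreducible R
  have hmπ := hπ.maximalIdeal_eq
  have hπP : algebraMap R W.CoordinateRing π ∈ P := by
    obtain ⟨n, hn⟩ := IsDiscreteValuationRing.associated_pow_irreducible hΔ hπ
    obtain ⟨u, hu⟩ := hn
    have h1 : algebraMap R W.CoordinateRing W.Δ ∈ P := Ideal.Quotient.eq_zero_iff_mem.mp hΔP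
    have h2 : algebraMap R W.CoordinateRing π ^ n ∈ P := by
      rw [← map_pow, ← hu, map_mul]
      exact P.mul_mem_right _ h1
    exact hP.mem_of_pow_mem n h2
  have hm : ∀ r ∈ maximalIdeal R, algebraMap R W.CoordinateRing r ∈ P := by
    intro r hr
    rw [hmπ, Ideal.mem_span_singleton] at hr
    obtain ⟨c, rfl⟩ := hr
    rw [map_mul]
    exact P.mul_mem_right _ hπP
  have hz : ∀ r ∈ maximalIdeal R, φ r = 0 := fun r hr => Ideal.Quotient.eq_zero_iff_mem.mpr (hm r hr)
  rw [hz _ h3, hz _ h4, hz _ h6] at hF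
  rw [hz _ h4] at hFX
  rw [hz _ h3] at hFY
  have h2 : 2 * x ^ 3 = 0 := by
    linear_combination (φ W.a₁ * x - (2 * y + φ W.a₁ * x)) * hFY - 2 * x * hFX + 4 * hF
  have h3' : 3 * x ^ 3 + 2 * φ W.a₂ * x ^ 2 + 2 * y ^ 2 = 0 := by
    linear_combination -x * hFX + y * hFY
  have h6x : x ^ 6 = 0 := by
    linear_combination (2 * x ^ 3 + φ W.a₂ * x ^ 2 + y ^ 2) * h2 - x ^ 3 * h3'
  haveI : IsDomain (W.CoordinateRing ⧸ P) := Ideal.Quotient.isDomain P
  have hx0 : x = 0 := pow_eq_zero_iff (n := 6) (by norm_num) |>.mp h6x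
  have hy0 : y = 0 := by
    rw [hx0] at hF
    have : y ^ 2 = 0 := by linear_combination hF
    exact pow_eq_zero_iff (n := 2) (by norm_num) |>.mp this
  exact ⟨hm, Ideal.Quotient.eq_zero_iff_mem.mp hx0, Ideal.Quotient.eq_zero_iff_mem.mp hy0⟩

theorem isMaximal_of_mem [IsDomain R] [IsDiscreteValuationRing R]
    (P : Ideal W.CoordinateRing) [hP : P.IsPrime]
    (hm : ∀ r ∈ maximalIdeal R, algebraMap R W.CoordinateRing r ∈ P)
    (hx : CoordinateRing.mk W (C X) ∈ P) (hy : CoordinateRing.mk W Y ∈ P) : P.IsMaximal := by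
  have hspanP : Ideal.span {CoordinateRing.mk W (C X), CoordinateRing.mk W Y} ≤ P := by
    rw [Ideal.span_le]
    rintro _ (rfl | rfl)
    · exact hx
    · exact hy
  rw [Ideal.isMaximal_iff]
  refine ⟨fun h1 => hP.ne_top ((Ideal.eq_top_iff_one P).mpr h1), ?_⟩
  intro J z hPJ hzP hzJ
  obtain ⟨c, hc⟩ := Groth.Agent.H9.WeierRegular.exists_const_sub_mem W z
  have hcm : c ∉ maximalIdeal R := by
    intro hcm
    apply hzP
    have := P.add_mem (hspanP hc) (hm c hcm)
    simpa using this
  have hu : IsUnit c := by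
    rwa [mem_maximalIdeal, mem_nonunits_iff, not_not] at hcm
  have hcJ : algebraMap R W.CoordinateRing c ∈ J := by
    have := J.sub_mem hzJ (hPJ (hspanP hc))
    simpa using this
  have := Ideal.eq_top_of_isUnit_mem _ hcJ (hu.map _)
  rw [this]
  trivial

end Sing

end Groth.Agent.H9.WRG
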