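import Mathlib

set_option autoImplicit false
set_option linter.unusedSectionVars false
set_option linter.unusedVariables false

universe u

namespace Groth.Agent.H9.WeierFree

open PowerSeries

section general
variable {A : Type u} [CommRing A]

/-- `Φ(c) = ∑ i, c i (φ) * b i`. -/
noncomputable def Phi (φ : A⟦X⟧) {N : ℕ} (b c : Fin N → A⟦X⟧) : A⟦X⟧ :=
  ∑ i : Fin N, PowerSeries.subst φ (c i) * b i

lemma subst_C' (φ : A⟦X⟧) (a : A) : PowerSeries.subst φ (C a : A⟦X⟧) = (C a : A⟦X⟧) :=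
  PowerSeries.subst_C a

lemma subst_decomp (φ : A⟦X⟧) (hφ : HasSubst φ) (c d : A⟦X⟧) (a : A) (h : c = C a + X * d) :
    (PowerSeries.subst φ c : A⟦X⟧) = C a + φ * (PowerSeries.subst φ d : A⟦X⟧) := by
  rw [h, subst_add hφ, subst_mul hφ, subst_X hφ, subst_C']

lemma Phi_decomp (φ : A⟦X⟧) (hφ : HasSubst φ) {N : ℕ} (b c d : Fin N → A⟦X⟧) (a : Fin N → A)
    (h : ∀ i, c i = C (a i) + X * d i) :
    Phi φ b c = (∑ i, C (a i) * b i) + φ * Phi φ b d := by
  unfold Phi
  rw [Finset.mul_sum, ← Finset.sum_add_distrib]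
  refine Finset.sum_congr rfl fun i _ => ?_
  rw [subst_decomp φ hφ (c i) (d i) (a i) (h i)]
  ring

lemma Phi_sub (φ : A⟦X⟧) (hφ : HasSubst φ) {N : ℕ} (b c c' : Fin N → A⟦X⟧) :
    Phi φ b (c - c') = Phi φ b c - Phi φ b c' := by
  unfold Phi
  rw [← Finset.sum_sub_distrib]
  refine Finset.sum_congr rfl fun i _ => ?_
  rw [Pi.sub_apply, subst_sub hφ, sub_mul]

lemma shift_decomp (c : A⟦X⟧) :
    c = C (constantCoeff c) + X * (mk fun t => coeff (t+1) c) := by
  rw [add_comm]; exact eq_X_mul_shift_add_const c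

noncomputable def rPoly {N : ℕ} (a : Fin N → A) : Polynomial A :=
  ∑ i : Fin N, Polynomial.C (a i) * Polynomial.X ^ (i : ℕ)

lemma degree_rPoly_lt {N : ℕ} (a : Fin N → A) : (rPoly a).degree < N :=
  Polynomial.degree_sum_fin_lt a

lemma coe_rPoly {N : ℕ} (a : Fin N → A) :
    ((rPoly a : Polynomial A) : A⟦X⟧) = ∑ i : Fin N, C (a i) * (X : A⟦X⟧) ^ (i : ℕ) := by
  unfold rPoly
  rw [← Polynomial.coeToPowerSeries.ringHom_apply, map_sum]
  refine Finset.sum_congr rfl fun i _ => ?_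
  simp

lemma coeff_rPoly {N : ℕ} (a : Fin N → A) (i : Fin N) : (rPoly a).coeff (i:ℕ) = a i := by
  unfold rPoly
  rw [Polynomial.finsetSum_coeff, Finset.sum_eq_single i]
  · simp
  · intro j _ hji
    rw [Polynomial.coeff_C_mul_X_pow, if_neg]
    intro h; exact hji (Fin.ext h.symm)
  · simp

lemma coeff_rPoly' {N : ℕ} (a : Fin N → A) (t : ℕ) :
    (rPoly a).coeff t = if h : t < N then a ⟨t, h⟩ else 0 := by
  split_ifs with h
  · exact coeff_rPoly a ⟨t, h⟩
  · unfold rPoly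
    rw [Polynomial.finsetSum_coeff]
    apply Finset.sum_eq_zero
    intro j _
    rw [Polynomial.coeff_C_mul_X_pow, if_neg]
    intro e; exact h (e ▸ j.2)

lemma rPoly_of_degree_lt {N : ℕ} (r : Polynomial A) (hr : r.degree < N) :
    rPoly (fun i : Fin N => r.coeff (i:ℕ)) = r := by
  ext t
  rw [coeff_rPoly']
  split_ifs with h
  · rfl
  · symm
    apply Polynomial.coeff_eq_zero_of_degree_lt
    exact lt_of_lt_of_le hr (by exact_mod_cast not_lt.mp h)

noncomputable def bX (N : ℕ) : Fin N → A⟦X⟧ := fun i => (X : A⟦X⟧) ^ (i : ℕ)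

lemma eq_zero_of_forall_pow_dvd (φ : A⟦X⟧) (h0 : constantCoeff φ = 0) (e : A⟦X⟧)
    (h : ∀ J : ℕ, ∃ u, e = φ ^ J * u) : e = 0 := by
  obtain ⟨ψ, hψ⟩ := (X_dvd_iff.mpr h0)
  ext d
  obtain ⟨u, hu⟩ := h (d+1)
  have hd : (X : A⟦X⟧)^(d+1) ∣ e := ⟨ψ^(d+1) * u, by rw [hu, hψ, mul_pow]; ring⟩
  rw [X_pow_dvd_iff] at hd
  simpa using hd d (Nat.lt_succ_self d)

end general

section loc
variable {A : Type u} [CommRing A] [IsLocalRing A]

noncomputable def ordN (φ : A⟦X⟧) : ℕ :=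
  (φ.map (Ideal.Quotient.mk (IsLocalRing.maximalIdeal A))).order.toNat

variable [IsAdicComplete (IsLocalRing.maximalIdeal A) A]

lemma Phi_zero_step
    (φ : A⟦X⟧) (hφ : HasSubst φ) (hg : φ.map (IsLocalRing.residue A) ≠ 0)
    (c : Fin (ordN φ) → A⟦X⟧) (h0 : Phi φ (bX (ordN φ)) c = 0) :
    (∀ i, constantCoeff (c i) = 0) ∧
      Phi φ (bX (ordN φ)) (fun i => mk fun t => coeff (t+1) (c i)) = 0 := by
  have hd := Phi_decomp φ hφ (bX (ordN φ)) c (fun i => mk fun t => coeff (t+1) (c i))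
    (fun i => constantCoeff (c i)) (fun i => shift_decomp (c i))
  rw [h0] at hd
  have h1 := coe_rPoly (fun i : Fin (ordN φ) => constantCoeff (c i))
  have hW : IsWeierstrassDivision (0 : A⟦X⟧) φ
      (Phi φ (bX (ordN φ)) (fun i => mk fun t => coeff (t+1) (c i)))
      (rPoly (fun i : Fin (ordN φ) => constantCoeff (c i))) := by
    refine ⟨degree_rPoly_lt _, ?_⟩
    rw [h1]
    exact hd.trans (add_comm _ _)
  obtain ⟨hq, hr⟩ := hW.eq_zero hg
  refine ⟨fun i => ?_, hq⟩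
  have h2 := coeff_rPoly (fun i : Fin (ordN φ) => constantCoeff (c i)) i
  rw [hr, Polynomial.coeff_zero] at h2
  exact h2.symm

lemma Phi_inj_aux
    (φ : A⟦X⟧) (hφ : HasSubst φ) (hg : φ.map (IsLocalRing.residue A) ≠ 0) :
    ∀ (j : ℕ) (c : Fin (ordN φ) → A⟦X⟧), Phi φ (bX (ordN φ)) c = 0 →
      ∀ i, coeff j (c i) = 0 := by
  intro j
  induction j with
  | zero =>
    intro c h0 i
    rw [coeff_zero_eq_constantCoeff_apply]
    exact (Phi_zero_step φ hφ hg c h0).1 i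
  | succ j ih =>
    intro c h0 i
    have h3 := ih _ (Phi_zero_step φ hφ hg c h0).2 i
    simp only [coeff_mk] at h3
    exact h3

noncomputable def qseq (φ g : A⟦X⟧) : ℕ → A⟦X⟧
  | 0 => g
  | (j+1) => PowerSeries.weierstrassDiv (qseq φ g j) φ

lemma qseq_zero (φ g : A⟦X⟧) : qseq φ g 0 = g := rfl

lemma qseq_succ (φ g : A⟦X⟧) (j : ℕ) :
    qseq φ g (j+1) = PowerSeries.weierstrassDiv (qseq φ g j) φ := rfl

noncomputable def rseq (φ g : A⟦X⟧) (j : ℕ) : Polynomial A :=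
  PowerSeries.weierstrassMod (qseq φ g j) φ

lemma qseq_eq (φ g : A⟦X⟧) (hg : φ.map (IsLocalRing.residue A) ≠ 0) (j : ℕ) :
    qseq φ g j = φ * qseq φ g (j+1) + (rseq φ g j : A⟦X⟧) :=
  eq_mul_weierstrassDiv_add_weierstrassMod (qseq φ g j) hg

lemma degree_rseq_lt (φ g : A⟦X⟧) (j : ℕ) : (rseq φ g j).degree < (ordN φ : ℕ) :=
  degree_weierstrassMod_lt (qseq φ g j) φ

noncomputable def cc (φ g : A⟦X⟧) (j : ℕ) : Fin (ordN φ) → A⟦X⟧ :=
  fun i => mk fun t => (rseq φ g (j + t)).coeff (i : ℕ)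

lemma cc_decomp (φ g : A⟦X⟧) (j : ℕ) (i : Fin (ordN φ)) :
    cc φ g j i = C ((rseq φ g j).coeff (i:ℕ)) + X * cc φ g (j+1) i := by
  ext t
  cases t with
  | zero => simp [cc]
  | succ t =>
    unfold cc
    rw [map_add, coeff_succ_X_mul, coeff_mk, coeff_mk, coeff_succ_C, zero_add,
      show j + (t+1) = j+1+t by omega]

lemma Phi_cc_eq (φ g : A⟦X⟧) (hφ : HasSubst φ) (j : ℕ) :
    Phi φ (bX (ordN φ)) (cc φ g j) =
      (rseq φ g j : A⟦X⟧) + φ * Phi φ (bX (ordN φ)) (cc φ g (j+1)) := by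
  have h2 := coe_rPoly (fun i : Fin (ordN φ) => (rseq φ g j).coeff (i:ℕ))
  rw [rPoly_of_degree_lt _ (degree_rseq_lt φ g j)] at h2
  have h3 : (∑ i : Fin (ordN φ), C ((rseq φ g j).coeff (i:ℕ)) * bX (ordN φ) i)
      = (rseq φ g j : A⟦X⟧) := h2.symm
  rw [Phi_decomp φ hφ (bX _) (cc φ g j) (cc φ g (j+1))
    (fun i => (rseq φ g j).coeff (i:ℕ)) (cc_decomp φ g j), h3]

lemma e_step (φ g : A⟦X⟧) (hφ : HasSubst φ) (hg : φ.map (IsLocalRing.residue A) ≠ 0) (j : ℕ) :
    Phi φ (bX (ordN φ)) (cc φ g j) - qseq φ g j =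
      φ * (Phi φ (bX (ordN φ)) (cc φ g (j+1)) - qseq φ g (j+1)) := by
  have h1 := Phi_cc_eq φ g hφ j
  have h2 := qseq_eq φ g hg j
  linear_combination h1 - h2

lemma e_pow (φ g : A⟦X⟧) (hφ : HasSubst φ) (hg : φ.map (IsLocalRing.residue A) ≠ 0) (J : ℕ) :
    Phi φ (bX (ordN φ)) (cc φ g 0) - qseq φ g 0 =
      φ ^ J * (Phi φ (bX (ordN φ)) (cc φ g J) - qseq φ g J) := by
  induction J with
  | zero => simp
  | succ J ih => rw [ih, e_step φ g hφ hg J, pow_succ]; ring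

theorem forward (φ : A⟦X⟧) (h0 : constantCoeff φ = 0)
    (hg : φ.map (IsLocalRing.residue A) ≠ 0) :
    ∀ g : A⟦X⟧, ∃! c : Fin (ordN φ) → A⟦X⟧, g = Phi φ (bX (ordN φ)) c := by
  have hφ : HasSubst φ := HasSubst.of_constantCoeff_zero' h0
  intro g
  have hex : Phi φ (bX (ordN φ)) (cc φ g 0) = g := by
    have h1 : Phi φ (bX (ordN φ)) (cc φ g 0) - qseq φ g 0 = 0 :=
      eq_zero_of_forall_pow_dvd φ h0 _ (fun J => ⟨_, e_pow φ g hφ hg J⟩)
    rw [qseq_zero] at h1
    exact sub_eq_zero.mp h1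
  refine ⟨cc φ g 0, hex.symm, fun y hy => ?_⟩
  have hz : Phi φ (bX (ordN φ)) (y - cc φ g 0) = 0 := by
    rw [Phi_sub φ hφ, ← hy, hex, sub_self]
  have h4 := Phi_inj_aux φ hφ hg
  funext i
  have hi : (y - cc φ g 0) i = 0 := by
    ext j
    rw [h4 j _ hz i]
    simp
  exact sub_eq_zero.mp hi

end loc

section back
variable {A : Type u} [CommRing A] [IsLocalRing A]

theorem backward (φ : A⟦X⟧) (hφ : HasSubst φ)
    (hm : ∀ t, coeff t φ ∈ IsLocalRing.maximalIdeal A)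
    (n : ℕ) (b : Fin n → A⟦X⟧) (hex : ∀ g : A⟦X⟧, ∃ c : Fin n → A⟦X⟧, g = Phi φ b c) :
    False := by
  have hπφ : PowerSeries.map (IsLocalRing.residue A) φ = 0 := by
    ext t
    rw [coeff_map, map_zero]
    exact (IsLocalRing.residue_eq_zero_iff _).mpr (hm t)
  have hsub : ∀ c : A⟦X⟧, PowerSeries.map (IsLocalRing.residue A) (PowerSeries.subst φ c : A⟦X⟧)
      = C (IsLocalRing.residue A (constantCoeff c)) := by
    intro c
    rw [subst_decomp φ hφ c _ _ (shift_decomp c), map_add, map_mul, hπφ, zero_mul, add_zero,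
      map_C]
  let T : (IsLocalRing.ResidueField A)⟦X⟧ →ₗ[IsLocalRing.ResidueField A]
      (Fin (n+1) → IsLocalRing.ResidueField A) :=
    LinearMap.pi (fun j : Fin (n+1) => PowerSeries.coeff (R := IsLocalRing.ResidueField A) (j:ℕ))
  let v : Fin n → (Fin (n+1) → IsLocalRing.ResidueField A) :=
    fun i => T (PowerSeries.map (IsLocalRing.residue A) (b i))
  have hspan : Submodule.span (IsLocalRing.ResidueField A) (Set.range v) = ⊤ := by
    rw [eq_top_iff]
    intro w _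
    let h : (IsLocalRing.ResidueField A)⟦X⟧ :=
      mk fun j => if hj : j < n+1 then w ⟨j, hj⟩ else 0
    let g : A⟦X⟧ := mk fun j => Function.surjInv IsLocalRing.residue_surjective (coeff j h)
    have hgh : PowerSeries.map (IsLocalRing.residue A) g = h := by
      ext j
      rw [coeff_map, coeff_mk]
      exact Function.surjInv_eq _ _
    obtain ⟨c, hc⟩ := hex g
    have hw : w = T h := by
      funext j
      show w j = coeff (j:ℕ) h
      rw [coeff_mk, dif_pos j.2]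
    have hh : h = ∑ i, (IsLocalRing.residue A (constantCoeff (c i))) •
        PowerSeries.map (IsLocalRing.residue A) (b i) := by
      rw [← hgh, hc]
      unfold Phi
      rw [map_sum]
      refine Finset.sum_congr rfl fun i _ => ?_
      rw [map_mul, hsub, smul_eq_C_mul]
    rw [hw, hh, map_sum]
    refine Submodule.sum_mem _ fun i _ => ?_
    rw [map_smul]
    exact Submodule.smul_mem _ _ (Submodule.subset_span ⟨i, rfl⟩)
  have h1 : Module.finrank (IsLocalRing.ResidueField A)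
      (Submodule.span (IsLocalRing.ResidueField A) (Set.range v)) ≤ Fintype.card (Fin n) :=
    finrank_range_le_card v
  rw [hspan, finrank_top, Module.finrank_fin_fun, Fintype.card_fin] at h1
  omega

theorem main [IsDomain A] [IsAdicComplete (IsLocalRing.maximalIdeal A) A]
    (φ : PowerSeries A) (hφ : HasSubst φ) :
    (∃ n : ℕ, PowerSeries.coeff n φ ∉ IsLocalRing.maximalIdeal A) ↔
      ∃ (n : ℕ) (b : Fin n → PowerSeries A), ∀ g : PowerSeries A,
        ∃! c : Fin n → PowerSeries A, g = ∑ i, PowerSeries.subst φ (c i) * b i := by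
  have h0 : constantCoeff φ = 0 := IsNilpotent.eq_zero hφ
  constructor
  · rintro ⟨n, hn⟩
    have hg : φ.map (IsLocalRing.residue A) ≠ 0 := by
      intro h
      apply hn
      have h1 := congrArg (coeff n) h
      rw [coeff_map, map_zero] at h1
      exact (IsLocalRing.residue_eq_zero_iff _).mp h1
    exact ⟨ordN φ, bX (ordN φ), forward φ h0 hg⟩
  · rintro ⟨n, b, hb⟩
    by_contra hcon
    push Not at hcon
    exact backward φ hφ hcon n b (fun g => (hb g).exists)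

end back

end Groth.Agent.H9.WeierFree
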