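import Mathlib
import Groth.Prelude.Def_WeilCoh
import Groth.Agent.Lib.Helper9.Misc.WeilCohA
import Groth.Agent.Lib.Helper9.Misc.WeilCohC

/-!
# Helper9: Weil cohomology, part G: points of transcendence degree zero are closed
-/

set_option autoImplicit false

universe u v w

open AlgebraicGeometry CategoryTheory

namespace Groth.Agent.H9.WeilG

open WeilCoh Groth.Agent.H9.WeilA Groth.Agent.H9.WeilC

theorem isClosed_singleton_spec_field (K : Type u) [Field K] (y : Spec (CommRingCat.of K)) :
    IsClosed ({y} : Set (Spec (CommRingCat.of K))) := by
  have : Subsingleton (Spec (CommRingCat.of K)) :=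
    inferInstanceAs (Subsingleton (PrimeSpectrum K))
  have : ({y} : Set (Spec (CommRingCat.of K))) = Set.univ := by
    ext z; simp [Subsingleton.elim z y]
  rw [this]; exact isClosed_univ

theorem isAlgClosed_residueField_spec (K : Type u) [Field K] [IsAlgClosed K]
    (y : Spec (CommRingCat.of K)) : IsAlgClosed ((Spec (CommRingCat.of K)).residueField y) := by
  have e := residueFieldIsoBase (𝟙 (Spec (CommRingCat.of K))) y (isClosed_singleton_spec_field K y)
  exact IsAlgClosed.of_ringEquiv (k := K) _ e.symm.commRingCatIsoToRingEquiv

/-- A point of a scheme locally of finite type over an algebraically closed field whose residue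
field is algebraic over the base is closed. -/
theorem isClosed_of_trdeg_zero {X : Scheme.{u}} {K : Type u} [Field K] [IsAlgClosed K]
    (f : X ⟶ Spec (.of K)) [LocallyOfFiniteType f] (x : X)
    (h : (letI := (f.residueFieldMap x).hom.toAlgebra
      Algebra.trdeg ((Spec (.of K)).residueField (f x)) (X.residueField x)) = 0) :
    IsClosed ({x} : Set X) := by
  let _ := (f.residueFieldMap x).hom.toAlgebra
  have halg : Algebra.IsAlgebraic ((Spec (.of K)).residueField (f x)) (X.residueField x) :=
    _root_.trdeg_eq_zero_iff.1 h
  have := isAlgClosed_residueField_spec K (f x)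
  have hint : Algebra.IsIntegral ((Spec (.of K)).residueField (f x)) (X.residueField x) :=
    Algebra.IsAlgebraic.isIntegral
  have hbij : Function.Bijective (f.residueFieldMap x).hom :=
    IsAlgClosed.algebraMap_bijective_of_isIntegral
  have hiso : IsIso (f.residueFieldMap x) := (ConcreteCategory.isIso_iff_bijective _).2 hbij
  have hJ : JacobsonSpace X := LocallyOfFiniteType.jacobsonSpace f
  rw [isClosed_singleton_iff_locallyOfFiniteType]
  have hcomp : X.fromSpecResidueField x ≫ f =
      Spec.map (f.residueFieldMap x) ≫ (Spec (.of K)).fromSpecResidueField (f x) :=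
    (Scheme.Hom.SpecMap_residueFieldMap_fromSpecResidueField f x).symm
  have hci : IsClosedImmersion ((Spec (.of K)).fromSpecResidueField (f x)) :=
    isClosed_singleton_iff_isClosedImmersion.1 (isClosed_singleton_spec_field K (f x))
  have : LocallyOfFiniteType (X.fromSpecResidueField x ≫ f) := by
    rw [hcomp]; infer_instance
  exact locallyOfFiniteType_of_comp (X.fromSpecResidueField x) f

end Groth.Agent.H9.WeilG
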