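import Mathlib
import Groth.Prelude.Def_WeilCoh
import Groth.Agent.Lib.Helper9.Misc.WeilCohH

/-!
# Helper9: Weil cohomology, part I: graphs, iterates and Künneth projectors from coprimality
-/

set_option autoImplicit false

universe u v w

open AlgebraicGeometry CategoryTheory CategoryTheory.Limits

namespace Groth.Agent.H9.WeilI

open WeilCoh Groth.Agent.H9.WeilA Groth.Agent.H9.WeilB Groth.Agent.H9.WeilC Groth.Agent.H9.WeilD
  Groth.Agent.H9.WeilE Groth.Agent.H9.WeilF Groth.Agent.H9.WeilH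

variable {k : Type u} [Field k]

/-- morphisms into a product -/
theorem exists_lift {X Y Q Z : Var k} (p : Q ⟶ X) (q : Q ⟶ Y) (hQ : IsProd p q) (f : Z ⟶ X)
    (g : Z ⟶ Y) : ∃ Γ : Z ⟶ Q, Γ ≫ p = f ∧ Γ ≫ q = g := by
  have hw : sm f ≫ X.obj.hom = sm g ≫ Y.obj.hom := by rw [Over.w f.hom, Over.w g.hom]
  have hl1 : hQ.lift (sm f) (sm g) hw ≫ sm p = sm f := hQ.lift_fst _ _ _
  have hl2 : hQ.lift (sm f) (sm g) hw ≫ sm q = sm g := hQ.lift_snd _ _ _
  have hlw : hQ.lift (sm f) (sm g) hw ≫ Q.obj.hom = Z.obj.hom := by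
    rw [← Over.w p.hom, ← Category.assoc]
    erw [hl1]
    exact Over.w f.hom
  refine ⟨ObjectProperty.homMk (Over.homMk (hQ.lift (sm f) (sm g) hw) hlw), ?_, ?_⟩
  · apply ObjectProperty.hom_ext
    apply Over.OverMorphism.ext
    exact hl1
  · apply ObjectProperty.hom_ext
    apply Over.OverMorphism.ext
    exact hl2

/-- iterates of an endomorphism -/
noncomputable def iter {X : Var k} (F : X ⟶ X) : ℕ → (X ⟶ X)
  | 0 => 𝟙 X
  | m + 1 => F ≫ iter F m

variable {K : Type v} [Field K] (T : TheoryOn.{u, v, w} k (IsVar k) K)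

theorem pull_iter {X : Var k} (F : X ⟶ X) (m : ℕ) (b : T.H X) :
    T.pull (iter F m) b = (T.pull F)^[m] b := by
  induction m with
  | zero => simp only [iter, Function.iterate_zero, id_eq]; exact pull_id_apply T b
  | succ m ih =>
    rw [Function.iterate_succ_apply', ← ih]
    show T.pull (F ≫ iter F m) b = _
    rw [← pull_pull]

theorem coe_pullDeg_pow {X : Var k} (F : X ⟶ X) (j : ℤ) (m : ℕ) (b : T.gr X j) :
    (((T.pullDeg F j) ^ m) b : T.H X) = (T.pull F)^[m] (b : T.H X) := by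
  induction m with
  | zero => simp
  | succ m ih =>
    rw [pow_succ', Function.iterate_succ_apply', ← ih]
    rfl

/-- the class of a graph with `Γ ≫ q = 𝟙` has degree `2 dim X` -/
theorem cl_graph_mem {X P : Var k} [IrreducibleSpace ↥X.obj.left] (p q : P ⟶ X)
    (hP : IsProd p q) (Γ : X ⟶ P) (hΓ : Γ ≫ q = 𝟙 X) :
    T.cl P (sm Γ (genericPoint ↥X.obj.left)) ∈ T.gr P (2 * (dim X.obj.left : ℤ)) := by
  have hdimP := dim_prod T p q hP
  have hcod : (codim P.obj.left (sm Γ (genericPoint ↥X.obj.left)) : ℤ) = dim X.obj.left := by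
    unfold codim
    rw [pdim_section Γ q hΓ]
    omega
  exact mem_of_eq T (by omega) (T.cl_mem P _)

/-- the action of a graph class: `tr P (p^*β · cl(Γ) · q^*b') = tr X (f^*β · b')` -/
theorem tr_graph {X P : Var k} [IrreducibleSpace ↥X.obj.left] (p q : P ⟶ X)
    (Γ : X ⟶ P) (f : X ⟶ X) (hΓp : Γ ≫ p = f) (hΓq : Γ ≫ q = 𝟙 X)
    {j j' : ℤ} (hj : j + j' = 2 * (dim X.obj.left : ℤ)) {β b' : T.H X} (hβ : β ∈ T.gr X j)
    (hb' : b' ∈ T.gr X j') :
    T.tr P (T.pull p β * T.cl P (sm Γ (genericPoint ↥X.obj.left)) * T.pull q b') =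
      T.tr X (T.pull f β * b') := by
  rw [← cl_comm T, mul_assoc, tr_cl_section T Γ q hΓq _
    (mem_of_eq T hj (mul_mem T (T.pull_mem p _ _ hβ) (T.pull_mem q _ _ hb'))),
    map_mul (T.pull Γ), pull_pull, pull_pull, hΓp, hΓq, pull_id_apply]

/-- polynomial in the graph classes acts as the polynomial in `F^*` -/
theorem action_poly {X P : Var k} [IrreducibleSpace ↥X.obj.left] (p q : P ⟶ X)
    (hP : IsProd p q) (F : X ⟶ X) (Γ : ℕ → (X ⟶ P)) (hΓp : ∀ m, Γ m ≫ p = iter F m)
    (hΓq : ∀ m, Γ m ≫ q = 𝟙 X) (Q : Polynomial K) (u : T.gr P (2 * (dim X.obj.left : ℤ)))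
    (hu : (u : T.H P) = ∑ m ∈ Finset.range (Q.natDegree + 1),
      Q.coeff m • T.cl P (sm (Γ m) (genericPoint ↥X.obj.left)))
    (j : ℤ) (b : T.gr X j) :
    (T.push q (j + 2 * (dim X.obj.left : ℤ))
        ⟨T.pull p (b : T.H X) * (u : T.H P),
          SetLike.mul_mem_graded (T.pull_mem p j b b.2) u.2⟩ : T.H X) =
      ((Polynomial.aeval (T.pullDeg F j) Q) b : T.H X) := by
  have hdimP := dim_prod T p q hP
  refine eq_of_forall_tr' T j (by omega) rfl (push_mem T q _ _) (Subtype.coe_prop _) ?_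
  intro b' hb'
  rw [tr_push_mul' T q _ _ b' (by omega) hb']
  show T.tr P (T.pull p (b : T.H X) * (u : T.H P) * T.pull q b') = _
  rw [hu, Finset.mul_sum, Finset.sum_mul, map_sum, Polynomial.aeval_eq_sum_range,
    LinearMap.sum_apply, Submodule.coe_sum, Finset.sum_mul, map_sum]
  refine Finset.sum_congr rfl (fun m _ => ?_)
  rw [mul_smul_comm, smul_mul_assoc, map_smul, LinearMap.smul_apply, Submodule.coe_smul,
    smul_mul_assoc, map_smul,
    tr_graph T p q (Γ m) (iter F m) (hΓp m) (hΓq m) (by omega) b.2 hb', pull_iter,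
    coe_pullDeg_pow]

theorem kunneth_projector {X P : Var k} (p q : P ⟶ X)
    (hP : IsProd p q) (F : X ⟶ X)
    (hF : ∀ i j : ℤ, i ≠ j → IsCoprime (T.pullDeg F i).charpoly (T.pullDeg F j).charpoly)
    (i : ℤ) :
    ∃ u : ↥(T.gr P (2 * (dim X.obj.left : ℤ))),
      (u : T.H P) ∈ Submodule.span K (Set.range (T.cl P)) ∧
        ∀ (j : ℤ) (b : ↥(T.gr X j)),
          (T.push q (j + 2 * (dim X.obj.left : ℤ))
              ⟨T.pull p (b : T.H X) * (u : T.H P),
                SetLike.mul_mem_graded (T.pull_mem p j b b.2) u.2⟩ : T.H X) =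
            if j = i then (b : T.H X) else 0 := by
  have : IrreducibleSpace ↥X.obj.left := X.property.2.2
  have hex : ∀ m : ℕ, ∃ Γ : X ⟶ P, Γ ≫ p = iter F m ∧ Γ ≫ q = 𝟙 X :=
    fun m => exists_lift p q hP (iter F m) (𝟙 X)
  choose Γ hΓp hΓq using hex
  -- the polynomial
  set S : Finset ℤ := (Finset.Icc (0 : ℤ) (2 * (dim X.obj.left : ℤ))).erase i with hS
  set R : Polynomial K := ∏ j ∈ S, (T.pullDeg F j).charpoly with hR
  have hcop : IsCoprime (T.pullDeg F i).charpoly R := by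
    apply IsCoprime.prod_right
    intro j hj
    exact hF i j (fun h => (Finset.ne_of_mem_erase hj) h.symm)
  obtain ⟨A, B, hAB⟩ := hcop
  set Q : Polynomial K := B * R with hQ
  have hmem : ∀ m, T.cl P (sm (Γ m) (genericPoint ↥X.obj.left)) ∈
      T.gr P (2 * (dim X.obj.left : ℤ)) := fun m => cl_graph_mem T p q hP (Γ m) (hΓq m)
  refine ⟨⟨∑ m ∈ Finset.range (Q.natDegree + 1),
      Q.coeff m • T.cl P (sm (Γ m) (genericPoint ↥X.obj.left)), ?_⟩, ?_, ?_⟩
  · exact Submodule.sum_mem _ (fun m _ => Submodule.smul_mem _ _ (hmem m))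
  · show (∑ m ∈ Finset.range (Q.natDegree + 1),
      Q.coeff m • T.cl P (sm (Γ m) (genericPoint ↥X.obj.left))) ∈
        Submodule.span K (Set.range (T.cl P))
    exact Submodule.sum_mem _ (fun m _ => Submodule.smul_mem _ _
      (Submodule.subset_span (Set.mem_range_self _)))
  · intro j b
    rw [action_poly T p q hP F Γ hΓp hΓq Q _ rfl j b]
    split_ifs with hji
    · subst hji
      have hQ' : Q = 1 - A * (T.pullDeg F j).charpoly := by rw [hQ, ← hAB]; ring
      rw [hQ', map_sub, map_one, map_mul, LinearMap.aeval_self_charpoly, mul_zero]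
      simp
    · by_cases hj : j ∈ Finset.Icc (0 : ℤ) (2 * (dim X.obj.left : ℤ))
      · have hjS : j ∈ S := Finset.mem_erase.2 ⟨hji, hj⟩
        obtain ⟨c, hc⟩ := Finset.dvd_prod_of_mem (fun j => (T.pullDeg F j).charpoly) hjS
        have : Polynomial.aeval (T.pullDeg F j) Q = 0 := by
          rw [hQ, hR, hc, map_mul, map_mul, LinearMap.aeval_self_charpoly, zero_mul, mul_zero]
        rw [this]
        rfl
      · have hb : (b : T.H X) = 0 := by
          apply eq_zero_of_mem_of_lt T b.2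
          rw [Finset.mem_Icc] at hj
          omega
        have hb' : b = 0 := Subtype.ext hb
        rw [hb', map_zero]
        rfl

end Groth.Agent.H9.WeilI
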