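import Mathlib
import Groth.Prelude.Def_WeilCoh
import Groth.Agent.Lib.Helper9.Misc.WeilCohI

/-!
# Helper9: Weil cohomology, part J: correspondences acting on cohomology
-/

set_option autoImplicit false

universe u v w

open AlgebraicGeometry CategoryTheory CategoryTheory.Limits

namespace Groth.Agent.H9.WeilJ

open WeilCoh Groth.Agent.H9.WeilA Groth.Agent.H9.WeilB Groth.Agent.H9.WeilC Groth.Agent.H9.WeilD
  Groth.Agent.H9.WeilE Groth.Agent.H9.WeilF Groth.Agent.H9.WeilH Groth.Agent.H9.WeilI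

variable {k : Type u} [Field k] {P : ObjectProperty (Over (Spec (CommRingCat.of k)))}
variable {K : Type v} [Field K] (T : TheoryOn.{u, v, w} k P K)

/-- the action of a class on a product as a correspondence: `x ↦ q_*(p^*x · φ)` -/
noncomputable def act {X Y Q : P.FullSubcategory} (p : Q ⟶ X) (q : Q ⟶ Y) {d : ℤ}
    (φ : T.gr Q d) (i : ℤ) :
    T.gr X i →ₗ[K] T.gr Y (i + d + 2 * (dim Y.obj.left : ℤ) - 2 * (dim Q.obj.left : ℤ)) :=
  (T.push q (i + d)) ∘ₗ
    ((LinearMap.mulRight K (φ : T.H Q)).restrict (p := T.gr Q i) (q := T.gr Q (i + d))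
      (fun _ hx => SetLike.mul_mem_graded hx φ.2)) ∘ₗ (T.pullDeg p i)

theorem tr_act {X Y Q : P.FullSubcategory} (p : Q ⟶ X) (q : Q ⟶ Y) {d : ℤ}
    (φ : T.gr Q d) (i : ℤ) (x : T.gr X i) {j : ℤ} (y : T.H Y) (hy : y ∈ T.gr Y j)
    (hj : j = 2 * (dim Q.obj.left : ℤ) - (i + d)) :
    T.tr Y ((act T p q φ i x : T.H Y) * y) =
      T.tr Q (T.pull p (x : T.H X) * (φ : T.H Q) * T.pull q y) :=
  tr_push_mul' T q (i + d) _ y hj hy

/-- moving a homogeneous class past another -/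
theorem tr_act' {X Y Q : P.FullSubcategory} (p : Q ⟶ X) (q : Q ⟶ Y) {d : ℤ}
    (φ : T.gr Q d) (i : ℤ) (x : T.gr X i) {j : ℤ} (y : T.H Y) (hy : y ∈ T.gr Y j)
    (hj : j = 2 * (dim Q.obj.left : ℤ) - (i + d)) :
    T.tr Y ((act T p q φ i x : T.H Y) * y) =
      (-1 : K) ^ (i.natAbs * d.natAbs) *
        T.tr Q ((φ : T.H Q) * (T.pull p (x : T.H X) * T.pull q y)) := by
  rw [tr_act T p q φ i x y hy hj,
    T.gradedComm Q i d _ _ (T.pull_mem p i _ x.2) φ.2, smul_mul_assoc, map_smul, smul_eq_mul,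
    mul_assoc]

theorem act_injective {X Y Q : P.FullSubcategory} (p : Q ⟶ X) (q : Q ⟶ Y) (hQ : IsProd p q)
    {d : ℤ} (φ φ' : T.gr Q d) (h : ∀ i, act T p q φ i = act T p q φ' i) : φ = φ' := by
  apply Subtype.ext
  refine eq_of_forall_tr T d φ.2 φ'.2 (fun b _ => ?_)
  refine tr_ext_kunneth T p q hQ _ _ ?_ b
  intro s t x y hx hy
  by_cases hst : t = 2 * (dim Q.obj.left : ℤ) - (s + d)
  · have h1 := tr_act' T p q φ s ⟨x, hx⟩ y hy hst
    have h2 := tr_act' T p q φ' s ⟨x, hx⟩ y hy hst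
    rw [h s] at h1
    rw [h1] at h2
    have hne : (-1 : K) ^ (s.natAbs * d.natAbs) ≠ 0 := pow_ne_zero _ (by simp)
    exact mul_left_cancel₀ hne h2
  · rw [T.tr_vanish Q (d + (s + t)) _
      (mul_mem T φ.2 (mul_mem T (T.pull_mem p _ _ hx) (T.pull_mem q _ _ hy))) (by omega),
      T.tr_vanish Q (d + (s + t)) _
      (mul_mem T φ'.2 (mul_mem T (T.pull_mem p _ _ hx) (T.pull_mem q _ _ hy))) (by omega)]

theorem neg_one_pow_self_mul {s n : ℤ} (h0 : 0 ≤ s) (hn : s ≤ 2 * n) :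
    (-1 : K) ^ s.natAbs * (-1 : K) ^ (s.natAbs * (2 * n - s).natAbs) = 1 := by
  rw [← pow_add]
  apply Even.neg_one_pow
  have h1 : (2 * n - s).natAbs = 2 * n.natAbs - s.natAbs := by omega
  rw [h1]
  rcases Nat.even_or_odd s.natAbs with he | ho
  · exact Even.add he (Even.mul_right he _)
  · have : Odd (2 * n.natAbs - s.natAbs) := by
      have hle : s.natAbs ≤ 2 * n.natAbs := by omega
      exact Nat.Even.sub_odd hle (even_two_mul _) ho
    exact Odd.add_odd ho (Odd.mul ho this)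

/-- a class given by a Künneth expansion along a basis and a dual family acts as prescribed -/
theorem act_of_expansion {X Y Q : P.FullSubcategory} (p : Q ⟶ X) (q : Q ⟶ Y) (hQ : IsProd p q)
    (d : ℤ) (ι : ℤ → Type) [∀ i, Fintype (ι i)] [∀ i, DecidableEq (ι i)]
    (e : (i : ℤ) → Module.Basis (ι i) K ↥(T.gr X i))
    (f : (i : ℤ) → ι i → ↥(T.gr X (2 * (dim X.obj.left : ℤ) - i)))
    (hf : ∀ (i : ℤ) (a l : ι i),
      T.tr X ((f i l : T.H X) * (e i a : T.H X)) = if a = l then 1 else 0)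
    (L : (i : ℤ) → T.gr X i →ₗ[K] T.gr Y (i + d +
      2 * (dim Y.obj.left : ℤ) - 2 * (dim Q.obj.left : ℤ)))
    (φ : T.gr Q d)
    (hφ : (φ : T.H Q) = ∑ i ∈ Finset.Icc (0 : ℤ) (2 * (dim X.obj.left : ℤ)), ∑ l : ι i,
      ((-1 : K) ^ i.natAbs) • (T.pull p (f i l : T.H X) * T.pull q (L i (e i l) : T.H Y))) :
    ∀ i, act T p q φ i = L i := by
  have hdim := dim_prod T p q hQ
  intro s
  by_cases hs : s ∈ Finset.Icc (0 : ℤ) (2 * (dim X.obj.left : ℤ))
  swap
  · ext x
    have hx : (x : T.H X) = 0 := by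
      apply eq_zero_of_mem_of_lt T x.2
      rw [Finset.mem_Icc] at hs
      omega
    have hx' : x = 0 := Subtype.ext hx
    rw [hx', map_zero, map_zero]
  · ext x
    refine eq_of_forall_tr T _ (Subtype.coe_prop _) (Subtype.coe_prop _) (fun y hy => ?_)
    rw [tr_act T p q _ s x y hy (by omega), hφ]
    rw [Finset.mul_sum, Finset.sum_mul, map_sum, Finset.sum_eq_single s]
    · rw [Finset.mul_sum, Finset.sum_mul, map_sum]
      have hx_eq : x = ∑ l : ι s, (e s).repr x l • e s l := ((e s).sum_repr x).symm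
      conv_rhs => rw [hx_eq, map_sum, Submodule.coe_sum, Finset.sum_mul, map_sum]
      refine Finset.sum_congr rfl (fun l _ => ?_)
      rw [mul_smul_comm, smul_mul_assoc, map_smul, smul_eq_mul,
        show T.pull p (x : T.H X) * (T.pull p (f s l : T.H X) * T.pull q (L s (e s l) : T.H Y)) *
          T.pull q y = T.pull p ((x : T.H X) * (f s l : T.H X)) *
            T.pull q ((L s (e s l) : T.H Y) * y) by
          rw [map_mul, map_mul]; noncomm_ring,
        tr_prod_all T p q hQ, T.gradedComm X _ _ _ _ x.2 (f s l).2, map_smul, smul_eq_mul,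
        tr_dual_mul T (e s) (f s) (hf s), map_smul, Submodule.coe_smul, smul_mul_assoc, map_smul,
        smul_eq_mul, ← mul_assoc, ← mul_assoc]
      rw [Finset.mem_Icc] at hs
      rw [neg_one_pow_self_mul hs.1 hs.2, one_mul]
    · intro i _ his
      rw [Finset.mul_sum, Finset.sum_mul, map_sum]
      refine Finset.sum_eq_zero (fun l _ => ?_)
      rw [mul_smul_comm, smul_mul_assoc, map_smul,
        show T.pull p (x : T.H X) * (T.pull p (f i l : T.H X) * T.pull q (L i (e i l) : T.H Y)) *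
          T.pull q y = T.pull p ((x : T.H X) * (f i l : T.H X)) *
            T.pull q ((L i (e i l) : T.H Y) * y) by
          rw [map_mul, map_mul]; noncomm_ring,
        tr_prod_all T p q hQ, T.tr_vanish X _ _ (mul_mem T x.2 (f i l).2) (by omega), zero_mul,
        smul_zero]
    · intro h; exact absurd hs h

theorem expansion_mem {X Y Q : P.FullSubcategory} (p : Q ⟶ X) (q : Q ⟶ Y) (hQ : IsProd p q)
    (d : ℤ) (ι : ℤ → Type) [∀ i, Fintype (ι i)]
    (e : (i : ℤ) → Module.Basis (ι i) K ↥(T.gr X i))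
    (f : (i : ℤ) → ι i → ↥(T.gr X (2 * (dim X.obj.left : ℤ) - i)))
    (L : (i : ℤ) → T.gr X i →ₗ[K] T.gr Y (i + d +
      2 * (dim Y.obj.left : ℤ) - 2 * (dim Q.obj.left : ℤ))) :
    (∑ i ∈ Finset.Icc (0 : ℤ) (2 * (dim X.obj.left : ℤ)), ∑ l : ι i,
      ((-1 : K) ^ i.natAbs) • (T.pull p (f i l : T.H X) * T.pull q (L i (e i l) : T.H Y))) ∈
      T.gr Q d := by
  have hdim := dim_prod T p q hQ
  exact Submodule.sum_mem _ (fun i _ => Submodule.sum_mem _ (fun l _ =>
    Submodule.smul_mem _ _ (mem_of_eq T (by omega)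
      (mul_mem T (T.pull_mem p _ _ (f i l).2) (T.pull_mem q _ _ (L i (e i l)).2)))))

theorem act_surjective {X Y Q : P.FullSubcategory} (p : Q ⟶ X) (q : Q ⟶ Y) (hQ : IsProd p q)
    (d : ℤ)
    (L : (i : ℤ) → T.gr X i →ₗ[K] T.gr Y (i + d +
      2 * (dim Y.obj.left : ℤ) - 2 * (dim Q.obj.left : ℤ))) :
    ∃ φ : T.gr Q d, ∀ i, act T p q φ i = L i := by
  classical
  let ι : ℤ → Type := fun i => Fin (Module.finrank K ↥(T.gr X i))
  let e : (i : ℤ) → Module.Basis (ι i) K ↥(T.gr X i) := fun i => Module.finBasis K _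
  have hex : ∀ i : ℤ, ∃ f : ι i → ↥(T.gr X (2 * (dim X.obj.left : ℤ) - i)), ∀ a l : ι i,
      T.tr X ((f l : T.H X) * (e i a : T.H X)) = if a = l then 1 else 0 :=
    fun i => exists_dual_family T i _ (by omega) (e i)
  choose f hf using hex
  exact ⟨⟨_, expansion_mem T p q hQ d ι e f L⟩, act_of_expansion T p q hQ d ι e f hf L _ rfl⟩

/-- Künneth expansion of a class on a product along a basis and dual family -/
theorem kunneth_expand {X Y Q : P.FullSubcategory} (p : Q ⟶ X) (q : Q ⟶ Y) (hQ : IsProd p q)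
    (d : ℤ) (ι : ℤ → Type) [∀ i, Fintype (ι i)] [∀ i, DecidableEq (ι i)]
    (e : (i : ℤ) → Module.Basis (ι i) K ↥(T.gr X i))
    (f : (i : ℤ) → ι i → ↥(T.gr X (2 * (dim X.obj.left : ℤ) - i)))
    (hf : ∀ (i : ℤ) (a l : ι i),
      T.tr X ((f i l : T.H X) * (e i a : T.H X)) = if a = l then 1 else 0)
    (φ : T.gr Q d) :
    (φ : T.H Q) = ∑ i ∈ Finset.Icc (0 : ℤ) (2 * (dim X.obj.left : ℤ)), ∑ l : ι i,
      ((-1 : K) ^ i.natAbs) •
        (T.pull p (f i l : T.H X) * T.pull q (act T p q φ i (e i l) : T.H Y)) := by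
  have h := act_of_expansion T p q hQ d ι e f hf (fun i => act T p q φ i)
    ⟨_, expansion_mem T p q hQ d ι e f (fun i => act T p q φ i)⟩ rfl
  exact congrArg Subtype.val (act_injective T p q hQ φ _ (fun i => (h i).symm))

end Groth.Agent.H9.WeilJ
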