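import Mathlib
import Groth.Prelude.Def_WeilCoh
import Groth.Agent.Lib.Helper9.Misc.WeilCohJ

/-!
# Helper9: Weil cohomology, part K: trace formula for correspondences
-/

set_option autoImplicit false

universe u v w

open AlgebraicGeometry CategoryTheory CategoryTheory.Limits

namespace Groth.Agent.H9.WeilK

open WeilCoh Groth.Agent.H9.WeilA Groth.Agent.H9.WeilB Groth.Agent.H9.WeilC Groth.Agent.H9.WeilD
  Groth.Agent.H9.WeilE Groth.Agent.H9.WeilF Groth.Agent.H9.WeilH Groth.Agent.H9.WeilI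
  Groth.Agent.H9.WeilJ

variable {k : Type u} [Field k] {P : ObjectProperty (Over (Spec (CommRingCat.of k)))}
variable {K : Type v} [Field K] (T : TheoryOn.{u, v, w} k P K)

/-- the trace is invariant under pull-back along the swap -/
theorem tr_pull_swap {X Y Q Q' : P.FullSubcategory} (p : Q ⟶ X) (q : Q ⟶ Y) (hQ : IsProd p q)
    (p' : Q' ⟶ Y) (q' : Q' ⟶ X) (hQ' : IsProd p' q') (σ : Q ⟶ Q') (h1 : σ ≫ p' = q)
    (h2 : σ ≫ q' = p) (ω : T.H Q') : T.tr Q (T.pull σ ω) = T.tr Q' ω := by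
  obtain ⟨z, rfl⟩ := (T.kunneth p' q' hQ').2 ω
  induction z using TensorProduct.induction_on with
  | zero => simp
  | add z z' hz hz' => simp only [map_add, hz, hz']
  | tmul c d =>
    have hk : kunnethMap K (T.pull p') (T.pull q') (c ⊗ₜ[K] d) = T.pull p' c * T.pull q' d := rfl
    rw [hk, tr_prod_all T p' q' hQ', map_mul, pull_pull, pull_pull, h1, h2]
    refine hom_induction T Y (C := fun c => T.tr Q (T.pull q c * T.pull p d) =
      T.tr Y c * T.tr X d) c ?_ ?_ ?_
    · simp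
    · intro a a' h h'
      simp only [map_add, add_mul, h, h']
    · intro γ c hc
      refine hom_induction T X (C := fun d => T.tr Q (T.pull q c * T.pull p d) =
        T.tr Y c * T.tr X d) d ?_ ?_ ?_
      · simp
      · intro a a' h h'
        simp only [map_add, mul_add, h, h']
      · intro δ d hd
        rw [T.gradedComm Q γ δ _ _ (T.pull_mem q _ _ hc) (T.pull_mem p _ _ hd), map_smul,
          smul_eq_mul, tr_prod_all T p q hQ]
        by_cases hγ : γ = 2 * (dim Y.obj.left : ℤ)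
        · have : Even (γ.natAbs * δ.natAbs) := by
            apply Even.mul_right
            rw [hγ, Int.natAbs_mul]
            exact Even.mul_right (by decide) _
          rw [this.neg_one_pow, one_mul, mul_comm]
        · rw [T.tr_vanish Y γ c hc hγ, mul_zero, mul_zero, zero_mul]

theorem sum_Icc_eq_sum_range {M : Type*} [AddCommMonoid M] (g : ℤ → M) {N : ℤ} (n : ℕ)
    (hN : N = n) :
    ∑ i ∈ Finset.Icc (0 : ℤ) N, g i = ∑ m ∈ Finset.range (n + 1), g (m : ℤ) := by
  subst hN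
  refine Finset.sum_nbij' (fun i => i.toNat) (fun m => (m : ℤ)) ?_ ?_ ?_ ?_ ?_
  · intro i hi
    rw [Finset.mem_Icc] at hi
    rw [Finset.mem_range]
    omega
  · intro m hm
    rw [Finset.mem_range] at hm
    rw [Finset.mem_Icc]
    omega
  · intro i hi
    rw [Finset.mem_Icc] at hi
    omega
  · intro m _
    simp
  · intro i hi
    rw [Finset.mem_Icc] at hi
    congr 1
    omega

theorem sign_cancel {i n m : ℤ} (h0 : 0 ≤ i) (_hn : i ≤ 2 * n) (hm : 0 ≤ m) :
    (-1 : K) ^ ((2 * n - i).natAbs * (i + 2 * m).natAbs) *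
      (-1 : K) ^ (i.natAbs * (2 * n - i).natAbs) = 1 := by
  rw [← pow_add]
  apply Even.neg_one_pow
  have h1 : (i + 2 * m).natAbs = i.natAbs + 2 * m.natAbs := by omega
  rw [h1, mul_comm i.natAbs, ← mul_add]
  apply Even.mul_left
  exact ⟨i.natAbs + m.natAbs, by ring⟩

/-- trace formula for a pair of correspondences -/
theorem tr_correspondence {X Y Q Q' : P.FullSubcategory} (p : Q ⟶ X) (q : Q ⟶ Y)
    (hQ : IsProd p q) (p' : Q' ⟶ Y) (q' : Q' ⟶ X) (hQ' : IsProd p' q') (σ : Q ⟶ Q')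
    (h1 : σ ≫ p' = q) (h2 : σ ≫ q' = p) (d d' : ℤ)
    (hdim : ∀ i : ℤ, ((i + d + 2 * (dim Y.obj.left : ℤ) -
      2 * (dim Q.obj.left : ℤ)) + d' + 2 * (dim X.obj.left : ℤ) -
      2 * (dim Q'.obj.left : ℤ)) = i)
    (φ : T.gr Q d) (ψ : T.gr Q' d') :
    T.tr Q ((φ : T.H Q) * T.pull σ (ψ : T.H Q')) =
      ∑ i ∈ Finset.range (2 * dim X.obj.left + 1),
        (-1 : K) ^ i * LinearMap.trace K ↥(T.gr X (i : ℤ))
          ((LinearEquiv.ofEq _ _ (congrArg (T.gr X) (hdim (i : ℤ)))).toLinearMap ∘ₗ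
            (act T p' q' ψ ((i : ℤ) + d +
              2 * (dim Y.obj.left : ℤ) - 2 * (dim Q.obj.left : ℤ))) ∘ₗ (act T p q φ (i : ℤ))) := by
  classical
  have hdQ := dim_prod T p q hQ
  have hdQ' := dim_prod T p' q' hQ'
  let ι : ℤ → Type := fun i => Fin (Module.finrank K ↥(T.gr X i))
  let e : (i : ℤ) → Module.Basis (ι i) K ↥(T.gr X i) := fun i => Module.finBasis K _
  have hex : ∀ i : ℤ, ∃ f : ι i → ↥(T.gr X (2 * (dim X.obj.left : ℤ) - i)), ∀ a l : ι i,
      T.tr X ((f l : T.H X) * (e i a : T.H X)) = if a = l then 1 else 0 :=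
    fun i => exists_dual_family T i _ (by omega) (e i)
  choose f hf using hex
  conv_lhs => rw [kunneth_expand T p q hQ d ι e f hf φ]
  rw [Finset.sum_mul, map_sum]
  rw [sum_Icc_eq_sum_range _ (2 * dim X.obj.left) (by push_cast; rfl)]
  refine Finset.sum_congr rfl (fun n hn => ?_)
  rw [Finset.mem_range] at hn
  set i : ℤ := (n : ℤ) with hi
  have hi0 : 0 ≤ i := by omega
  have hi1 : i ≤ 2 * (dim X.obj.left : ℤ) := by omega
  rw [Finset.sum_mul, map_sum]
  rw [← sum_tr_dual_eq_trace T (e i) (f i) (hf i), Finset.mul_sum]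
  refine Finset.sum_congr rfl (fun l _ => ?_)
  rw [smul_mul_assoc, map_smul, smul_eq_mul]
  have hnat : i.natAbs = n := by omega
  rw [hnat]
  congr 1
  -- the key term
  set y' := act T p q φ i (e i l) with hy'
  have hdd := hdim 0
  have hy'mem : (y' : T.H Y) ∈ T.gr Y (i + d - 2 * (dim X.obj.left : ℤ)) :=
    mem_of_eq T (by omega) y'.2
  have hσ : T.pull p (f i l : T.H X) * T.pull q (y' : T.H Y) * T.pull σ (ψ : T.H Q') =
      T.pull σ (T.pull q' (f i l : T.H X) * (T.pull p' (y' : T.H Y) * (ψ : T.H Q'))) := by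
    rw [map_mul, map_mul, pull_pull, pull_pull, h1, h2, mul_assoc]
  rw [hσ, tr_pull_swap T p q hQ p' q' hQ' σ h1 h2]
  have hmem2 : T.pull p' (y' : T.H Y) * (ψ : T.H Q') ∈ T.gr Q' (i + 2 * (dim Y.obj.left : ℤ)) :=
    mem_of_eq T (by omega) (mul_mem T (T.pull_mem p' _ _ hy'mem) ψ.2)
  rw [T.gradedComm Q' _ _ _ _ (T.pull_mem q' _ _ (f i l).2) hmem2, map_smul, smul_eq_mul,
    ← tr_act T p' q' ψ _ y' (f i l : T.H X) (f i l).2 (by omega)]
  have hmem3 : (act T p' q' ψ _ y' : T.H X) ∈ T.gr X i :=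
    mem_of_eq T (hdim i) (Subtype.coe_prop _)
  rw [T.gradedComm X _ _ _ _ hmem3 (f i l).2, map_smul, smul_eq_mul, ← mul_assoc,
    sign_cancel hi0 hi1 (by omega), one_mul]
  rfl

end Groth.Agent.H9.WeilK
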