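import Mathlib
import Groth.Prelude.Def_WeilCoh
import Groth.Agent.Lib.Helper9.Misc.WeilCohK

/-!
# Helper9: Weil cohomology, part L: swap involution, radical correspondences are numerically trivial
-/

set_option autoImplicit false

universe u v w

open AlgebraicGeometry CategoryTheory CategoryTheory.Limits

namespace Groth.Agent.H9.WeilL

open WeilCoh Groth.Agent.H9.WeilA Groth.Agent.H9.WeilB Groth.Agent.H9.WeilC Groth.Agent.H9.WeilD
  Groth.Agent.H9.WeilE Groth.Agent.H9.WeilF Groth.Agent.H9.WeilH Groth.Agent.H9.WeilI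
  Groth.Agent.H9.WeilJ Groth.Agent.H9.WeilK

variable {k : Type u} [Field k]

/-- morphisms into a product are determined by their components -/
theorem hom_ext_prod {X Y Q Z : Var k} (p : Q ⟶ X) (q : Q ⟶ Y) (hQ : IsProd p q) (Γ Γ' : Z ⟶ Q)
    (h1 : Γ ≫ p = Γ' ≫ p) (h2 : Γ ≫ q = Γ' ≫ q) : Γ = Γ' := by
  apply ObjectProperty.hom_ext
  apply Over.OverMorphism.ext
  apply hQ.hom_ext
  · exact congrArg sm h1
  · exact congrArg sm h2

theorem swap_swap {X Q : Var k} (p q : Q ⟶ X) (hQ : IsProd p q) (σ : Q ⟶ Q) (hσp : σ ≫ p = q)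
    (hσq : σ ≫ q = p) : σ ≫ σ = 𝟙 Q := by
  apply hom_ext_prod p q hQ
  · rw [Category.assoc, hσp, hσq, Category.id_comp]
  · rw [Category.assoc, hσq, hσp, Category.id_comp]

variable {K : Type v} [Field K] (T : TheoryOn.{u, v, w} k (IsVar k) K)

/-- pull-back of a class along an involution whose pull-back preserves traces -/
theorem pull_cl_of_involution {Q : Var k} (σ : Q ⟶ Q) (hσ : σ ≫ σ = 𝟙 Q)
    (htr : ∀ ω : T.H Q, T.tr Q (T.pull σ ω) = T.tr Q ω) (ζ : Q.obj.left) :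
    T.pull σ (T.cl Q ζ) = T.cl Q (sm σ ζ) := by
  have hcl := isClosedImmersion_of_section σ σ hσ
  have hpd : pdim Q.obj.left (sm σ ζ) = pdim Q.obj.left ζ := pdim_of_isClosedImmersion (sm σ) ζ
  have hcod : codim Q.obj.left (sm σ ζ) = codim Q.obj.left ζ := by unfold codim; rw [hpd]
  have hc := codim_add_pdim Q ζ
  have hres : (sm σ).residueDegree ζ = 1 := by
    have h' : sm σ ≫ sm σ = 𝟙 Q.obj.left := by rw [← sm_comp, hσ, sm_id]
    exact residueDegree_section (sm σ) (sm σ) h' ζ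
  symm
  refine eq_of_forall_tr' T (2 * (codim Q.obj.left ζ : ℤ)) (by rw [hcod]) rfl (T.cl_mem Q _)
    (T.pull_mem σ _ _ (T.cl_mem Q ζ)) ?_
  intro b hb
  have hb' : b ∈ T.gr Q (2 * (pdim Q.obj.left ζ : ℤ)) := mem_of_eq T (by omega) hb
  have h1 := T.cl_push σ ζ b hb'
  rw [hres, Nat.cast_one, one_mul] at h1
  have h2 := htr (T.cl Q ζ * T.pull σ b)
  rw [map_mul, pull_pull, hσ, pull_id_apply] at h2
  rw [h2, ← h1]

theorem pull_span_of_involution {Q : Var k} (σ : Q ⟶ Q) (hσ : σ ≫ σ = 𝟙 Q)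
    (htr : ∀ ω : T.H Q, T.tr Q (T.pull σ ω) = T.tr Q ω) (v : T.H Q)
    (hv : v ∈ Submodule.span K (Set.range (T.cl Q))) :
    T.pull σ v ∈ Submodule.span K (Set.range (T.cl Q)) := by
  induction hv using Submodule.span_induction with
  | mem x hx =>
    obtain ⟨ζ, rfl⟩ := hx
    rw [pull_cl_of_involution T σ hσ htr]
    exact Submodule.subset_span (Set.mem_range_self _)
  | zero => rw [map_zero]; exact Submodule.zero_mem _
  | add x y _ _ hx hy => rw [map_add]; exact Submodule.add_mem _ hx hy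
  | smul c x _ hx => rw [map_smul]; exact Submodule.smul_mem _ c hx

theorem act_transport {X Y Q : Var k} (p : Q ⟶ X) (q : Q ⟶ Y) {d : ℤ} (ψ : T.gr Q d) {a i : ℤ}
    (h : a = i) (x : T.gr X a) :
    (act T p q ψ a x : T.H Y) =
      (act T p q ψ i (LinearEquiv.ofEq _ _ (congrArg (T.gr X) h) x) : T.H Y) := by
  subst h; rfl

/-- a degree-0 correspondence whose composites with all algebraic degree-0 correspondences
are nilpotent is numerically trivial against algebraic classes -/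
theorem radical_num_trivial {X Q : Var k} (p q : Q ⟶ X) (hQ : IsProd p q) (σ : Q ⟶ Q)
    (hσp : σ ≫ p = q) (hσq : σ ≫ q = p)
    (hdim : ∀ j : ℤ, j + 2 * (dim X.obj.left : ℤ) + 2 * (dim X.obj.left : ℤ) -
      2 * (dim Q.obj.left : ℤ) = j)
    (u v : T.gr Q (2 * (dim X.obj.left : ℤ)))
    (hv : (v : T.H Q) ∈ Submodule.span K (Set.range (T.cl Q)))
    (hnil : ∀ w : T.gr Q (2 * (dim X.obj.left : ℤ)),
      (w : T.H Q) ∈ Submodule.span K (Set.range (T.cl Q)) → ∀ j : ℕ, j < 2 * dim X.obj.left + 1 →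
        IsNilpotent (((LinearEquiv.ofEq _ _ (congrArg (T.gr X) (hdim (j : ℤ)))).toLinearMap ∘ₗ
            act T p q w (j : ℤ) : Module.End K (T.gr X (j : ℤ))) *
          ((LinearEquiv.ofEq _ _ (congrArg (T.gr X) (hdim (j : ℤ)))).toLinearMap ∘ₗ
            act T p q u (j : ℤ)))) :
    T.tr Q ((u : T.H Q) * (v : T.H Q)) = 0 := by
  have hσσ := swap_swap p q hQ σ hσp hσq
  have htr := tr_pull_swap T p q hQ p q hQ σ hσp hσq
  set ψ : T.gr Q (2 * (dim X.obj.left : ℤ)) := ⟨T.pull σ v, T.pull_mem σ _ _ v.2⟩ with hψdef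
  have hψ : (ψ : T.H Q) ∈ Submodule.span K (Set.range (T.cl Q)) :=
    pull_span_of_involution T σ hσσ htr _ hv
  have hvψ : (v : T.H Q) = T.pull σ (ψ : T.H Q) := by
    show _ = T.pull σ (T.pull σ v)
    rw [pull_pull, hσσ, pull_id_apply]
  have hdim' : ∀ i : ℤ, ((i + 2 * (dim X.obj.left : ℤ) + 2 * (dim X.obj.left : ℤ) -
      2 * (dim Q.obj.left : ℤ)) + 2 * (dim X.obj.left : ℤ) + 2 * (dim X.obj.left : ℤ) -
      2 * (dim Q.obj.left : ℤ)) = i := fun i => by have := hdim i; omega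
  rw [hvψ, tr_correspondence T p q hQ p q hQ σ hσp hσq _ _ hdim' u ψ]
  refine Finset.sum_eq_zero (fun i hi => ?_)
  rw [Finset.mem_range] at hi
  have hn := hnil ψ hψ i hi
  have h0 := (LinearMap.isNilpotent_trace_of_isNilpotent hn).eq_zero
  have heq : ((LinearEquiv.ofEq _ _ (congrArg (T.gr X) (hdim' (i : ℤ)))).toLinearMap ∘ₗ
      (act T p q ψ ((i : ℤ) + 2 * (dim X.obj.left : ℤ) + 2 * (dim X.obj.left : ℤ) -
        2 * (dim Q.obj.left : ℤ))) ∘ₗ (act T p q u (i : ℤ))) =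
      (((LinearEquiv.ofEq _ _ (congrArg (T.gr X) (hdim (i : ℤ)))).toLinearMap ∘ₗ
            act T p q ψ (i : ℤ) : Module.End K (T.gr X (i : ℤ))) *
          ((LinearEquiv.ofEq _ _ (congrArg (T.gr X) (hdim (i : ℤ)))).toLinearMap ∘ₗ
            act T p q u (i : ℤ))) := by
    ext x
    exact act_transport T p q ψ (hdim (i : ℤ)) (act T p q u (i : ℤ) x)
  rw [heq, h0, mul_zero]

end Groth.Agent.H9.WeilL
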