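import Mathlib
import Groth.Agent.Lib.Helper9.Misc.PicLift

set_option linter.style.longLine false
set_option linter.unusedVariables false
set_option linter.unusedSectionVars false

namespace Groth.Agent.H9.WeilPic

open CommRing Polynomial

universe u v w

/-- Quotient form of `PicLift.pic_surj`. -/
theorem pic_surj_quot {P : Type u} [CommRing P] {Iw Iv : Ideal P} (hle : Iw ≤ Iv)
    {ι : Type*} [Finite ι] (L : ι → Type v) [∀ i, Field (L i)] [∀ i, CharZero (L i)]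
    {C : Type w} [CommRing C]
    (β : P →+* (∀ i, L i)) (γ : P →+* C)
    (hβ : RingHom.ker β = Iv) (hβγ : ∀ x, β x = 0 → γ x = 0 → x ∈ Iw) (hγw : Iw ≤ RingHom.ker γ)
    (hfin : Finite (P ⧸ (Iv ⊔ RingHom.ker γ)))
    (n : ℤ) (hn : n ≠ 0) (hnmem : (n : P) ∈ Iv ⊔ RingHom.ker γ) :
    Function.Surjective (Pic.mapRingHom (Ideal.Quotient.factor hle)) := by
  have hβv : ∀ x ∈ Iv, β x = 0 := fun x hx => by rw [← hβ] at hx; exact hx
  have hβw : ∀ x ∈ Iw, β x = 0 := fun x hx => hβv x (hle hx)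
  have hγw' : ∀ x ∈ Iw, γ x = 0 := fun x hx => hγw hx
  letI algRS : Algebra (P ⧸ Iw) (P ⧸ Iv) := (Ideal.Quotient.factor hle).toAlgebra
  letI algSB : Algebra (P ⧸ Iv) (∀ i, L i) := (Ideal.Quotient.lift Iv β hβv).toAlgebra
  letI algRB : Algebra (P ⧸ Iw) (∀ i, L i) := (Ideal.Quotient.lift Iw β hβw).toAlgebra
  letI algRC : Algebra (P ⧸ Iw) C := (Ideal.Quotient.lift Iw γ hγw').toAlgebra
  have hRSmk : ∀ x : P, algebraMap (P ⧸ Iw) (P ⧸ Iv) (Ideal.Quotient.mk Iw x) =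
      Ideal.Quotient.mk Iv x := fun x => rfl
  have hSBmk : ∀ x : P, algebraMap (P ⧸ Iv) (∀ i, L i) (Ideal.Quotient.mk Iv x) = β x :=
    fun x => rfl
  have hRBmk : ∀ x : P, algebraMap (P ⧸ Iw) (∀ i, L i) (Ideal.Quotient.mk Iw x) = β x :=
    fun x => rfl
  have hRCmk : ∀ x : P, algebraMap (P ⧸ Iw) C (Ideal.Quotient.mk Iw x) = γ x := fun x => rfl
  haveI tower : IsScalarTower (P ⧸ Iw) (P ⧸ Iv) (∀ i, L i) :=
    IsScalarTower.of_algebraMap_eq (fun x => by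
      obtain ⟨x, rfl⟩ := Ideal.Quotient.mk_surjective x
      rw [hRSmk, hSBmk, hRBmk])
  haveI faith : FaithfulSMul (P ⧸ Iv) (∀ i, L i) := by
    rw [faithfulSMul_iff_algebraMap_injective, injective_iff_map_eq_zero]
    intro x hx
    obtain ⟨x, rfl⟩ := Ideal.Quotient.mk_surjective x
    rw [hSBmk] at hx
    rw [Ideal.Quotient.eq_zero_iff_mem, ← hβ]
    exact hx
  have hRS : Function.Surjective (algebraMap (P ⧸ Iw) (P ⧸ Iv)) := by
    intro y
    obtain ⟨y, rfl⟩ := Ideal.Quotient.mk_surjective y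
    exact ⟨Ideal.Quotient.mk Iw y, hRSmk y⟩
  have hinj : ∀ r : P ⧸ Iw, algebraMap (P ⧸ Iw) (P ⧸ Iv) r = 0 →
      algebraMap (P ⧸ Iw) C r = 0 → r = 0 := by
    intro r h1 h2
    obtain ⟨r, rfl⟩ := Ideal.Quotient.mk_surjective r
    rw [hRSmk, Ideal.Quotient.eq_zero_iff_mem] at h1
    rw [hRCmk] at h2
    rw [Ideal.Quotient.eq_zero_iff_mem]
    exact hβγ r (hβv r h1) h2
  have hcmem : ∀ b ∈ RingHom.ker γ, Ideal.Quotient.mk Iv b ∈
      Ideal.map (algebraMap (P ⧸ Iw) (P ⧸ Iv)) (RingHom.ker (algebraMap (P ⧸ Iw) C)) := by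
    intro b hb
    rw [← hRSmk]
    apply Ideal.mem_map_of_mem
    rw [RingHom.mem_ker, hRCmk]; exact hb
  have hsupmem : ∀ x ∈ Iv ⊔ RingHom.ker γ, Ideal.Quotient.mk Iv x ∈
      Ideal.map (algebraMap (P ⧸ Iw) (P ⧸ Iv)) (RingHom.ker (algebraMap (P ⧸ Iw) C)) := by
    intro x hx
    obtain ⟨a, ha, b, hb, rfl⟩ := Submodule.mem_sup.mp hx
    rw [map_add, Ideal.Quotient.eq_zero_iff_mem.mpr ha, zero_add]
    exact hcmem b hb
  have hnc : ((n : ℤ) : P ⧸ Iv) ∈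
      Ideal.map (algebraMap (P ⧸ Iw) (P ⧸ Iv)) (RingHom.ker (algebraMap (P ⧸ Iw) C)) := by
    have h3 := hsupmem _ hnmem
    rwa [map_intCast] at h3
  haveI hfinq : Finite ((P ⧸ Iv) ⧸
      Ideal.map (algebraMap (P ⧸ Iw) (P ⧸ Iv)) (RingHom.ker (algebraMap (P ⧸ Iw) C))) := by
    let q : P ⧸ (Iv ⊔ RingHom.ker γ) →+* (P ⧸ Iv) ⧸
        Ideal.map (algebraMap (P ⧸ Iw) (P ⧸ Iv)) (RingHom.ker (algebraMap (P ⧸ Iw) C)) :=
      Ideal.Quotient.lift _ ((Ideal.Quotient.mk _).comp (Ideal.Quotient.mk Iv)) (fun x hx => by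
        rw [RingHom.comp_apply, Ideal.Quotient.eq_zero_iff_mem]; exact hsupmem x hx)
    refine Finite.of_surjective q ?_
    intro y
    obtain ⟨y, rfl⟩ := Ideal.Quotient.mk_surjective y
    obtain ⟨y, rfl⟩ := Ideal.Quotient.mk_surjective y
    exact ⟨Ideal.Quotient.mk _ y, rfl⟩
  exact PicLift.pic_surj L (C := C) hRS hinj n hn hnc

theorem poly_aeval_pi {ι : Type*} {A : ι → Type*} [∀ i, CommRing (A i)] (x : ∀ i, A i)
    (q : ℤ[X]) (i : ι) : (Polynomial.aeval x q) i = Polynomial.aeval (x i) q :=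
  (Polynomial.aeval_algHom_apply (Pi.evalAlgHom ℤ A i) x q).symm

theorem mv_aeval_pi {σ ι : Type*} {A : ι → Type*} [∀ i, CommRing (A i)] (f : σ → ∀ i, A i)
    (x : MvPolynomial σ ℤ) (i : ι) :
    (MvPolynomial.aeval f x) i = MvPolynomial.aeval (fun s => f s i) x := by
  have h := congrArg (fun g : MvPolynomial σ ℤ →ₐ[ℤ] A i => g x)
    (MvPolynomial.algHom_ext (f := (Pi.evalAlgHom ℤ A i).comp (MvPolynomial.aeval f))
      (g := MvPolynomial.aeval (fun s => f s i)) (fun s => by simp))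
  exact h

theorem mv_aeval_pi2 {ι : Type*} {A : ι → Type*} [∀ i, CommRing (A i)] (a b : ∀ i, A i)
    (x : MvPolynomial (Fin 2) ℤ) (i : ι) :
    (MvPolynomial.aeval ![a, b] x) i = MvPolynomial.aeval ![a i, b i] x := by
  rw [mv_aeval_pi]
  have hfun : (fun s : Fin 2 => (![a, b] : Fin 2 → ∀ i, A i) s i) = ![a i, b i] := by
    funext s; fin_cases s <;> rfl
  rw [hfun]

theorem isIntegral_pi {ι : Type*} [Fintype ι] {A : ι → Type*} [∀ i, CommRing (A i)]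
    (x : ∀ i, A i) (hx : ∀ i, IsIntegral ℤ (x i)) : IsIntegral ℤ x := by
  classical
  refine ⟨∏ i, minpoly ℤ (x i),
    Polynomial.monic_prod_of_monic _ _ (fun i _ => minpoly.monic (hx i)), ?_⟩
  rw [← Polynomial.aeval_def]
  funext i
  rw [poly_aeval_pi, Pi.zero_apply, map_prod]
  exact Finset.prod_eq_zero (Finset.mem_univ i) (minpoly.aeval ℤ (x i))

/-- For a Weil number, `q / ϖ` is again integral. -/
theorem isIntegral_conj {K : Type u} [Field K] [CharZero K] (p e : ℕ) (hp : 0 < p) (ϖ : K)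
    (hint : IsIntegral ℤ ϖ)
    (hweil : ∀ z ∈ (minpoly ℤ ϖ).aroots ℂ, ‖z‖ = Real.sqrt ((p : ℝ) ^ e)) :
    IsIntegral ℤ (((p : K) ^ e) / ϖ) := by
  have hmonic : (minpoly ℤ ϖ).Monic := minpoly.monic hint
  have hne : minpoly ℤ ϖ ≠ 0 := hmonic.ne_zero
  have hdeg : (minpoly ℤ ϖ).degree ≠ 0 := (minpoly.degree_pos hint).ne'
  obtain ⟨z, hz⟩ := IsAlgClosed.exists_aeval_eq_zero ℂ (minpoly ℤ ϖ) hdeg
  have hzn : ‖z‖ = Real.sqrt ((p : ℝ) ^ e) := hweil z (Polynomial.mem_aroots.mpr ⟨hne, hz⟩)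
  have hq : (0 : ℝ) < (p : ℝ) ^ e := pow_pos (Nat.cast_pos.mpr hp) e
  have hz0 : z ≠ 0 := by
    intro h
    rw [h, norm_zero] at hzn
    exact (Real.sqrt_pos.mpr hq).ne hzn
  have hconj : (starRingEnd ℂ) z = ((p : ℂ) ^ e) / z := by
    rw [eq_div_iff hz0, mul_comm, Complex.mul_conj, Complex.normSq_eq_norm_sq, hzn,
      Real.sq_sqrt hq.le, Complex.ofReal_pow, Complex.ofReal_natCast]
  have hz' : Polynomial.aeval (((p : ℂ) ^ e) / z) (minpoly ℤ ϖ) = 0 := by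
    rw [← hconj]
    have h1 := Polynomial.aeval_algHom_apply ((starRingEnd ℂ).toIntAlgHom) z (minpoly ℤ ϖ)
    rw [hz, map_zero] at h1
    exact h1
  have hintQ : IsIntegral ℚ ϖ := hint.tower_top
  have hfQ : minpoly ℚ ϖ = (minpoly ℤ ϖ).map (algebraMap ℤ ℚ) :=
    minpoly.isIntegrallyClosed_eq_field_fractions' ℚ hint
  haveI hirr : Fact (Irreducible (minpoly ℚ ϖ)) := ⟨minpoly.irreducible hintQ⟩
  have hKroot : Polynomial.eval₂ (algebraMap ℚ K) ϖ (minpoly ℚ ϖ) = 0 := by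
    rw [← Polynomial.aeval_def]; exact minpoly.aeval ℚ ϖ
  have hCroot : Polynomial.eval₂ (algebraMap ℚ ℂ) z (minpoly ℚ ϖ) = 0 := by
    rw [hfQ, Polynomial.eval₂_map,
      Subsingleton.elim ((algebraMap ℚ ℂ).comp (algebraMap ℤ ℚ)) (algebraMap ℤ ℂ),
      ← Polynomial.aeval_def]
    exact hz
  obtain ⟨fa, hfa⟩ : ∃ fa : AdjoinRoot (minpoly ℚ ϖ) →+* K,
      fa (AdjoinRoot.root (minpoly ℚ ϖ)) = ϖ :=
    ⟨AdjoinRoot.lift (algebraMap ℚ K) ϖ hKroot, AdjoinRoot.lift_root hKroot⟩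
  obtain ⟨fb, hfb⟩ : ∃ fb : AdjoinRoot (minpoly ℚ ϖ) →+* ℂ,
      fb (AdjoinRoot.root (minpoly ℚ ϖ)) = z :=
    ⟨AdjoinRoot.lift (algebraMap ℚ ℂ) z hCroot, AdjoinRoot.lift_root hCroot⟩
  have hay : fa (((p : AdjoinRoot (minpoly ℚ ϖ)) ^ e) / AdjoinRoot.root (minpoly ℚ ϖ)) =
      ((p : K) ^ e) / ϖ := by
    rw [map_div₀, map_pow, map_natCast, hfa]
  have hby : fb (((p : AdjoinRoot (minpoly ℚ ϖ)) ^ e) / AdjoinRoot.root (minpoly ℚ ϖ)) =
      ((p : ℂ) ^ e) / z := by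
    rw [map_div₀, map_pow, map_natCast, hfb]
  have hE : Polynomial.eval₂ (algebraMap ℤ (AdjoinRoot (minpoly ℚ ϖ)))
      (((p : AdjoinRoot (minpoly ℚ ϖ)) ^ e) / AdjoinRoot.root (minpoly ℚ ϖ))
      (minpoly ℤ ϖ) = 0 := by
    apply fb.injective
    rw [Polynomial.hom_eval₂, map_zero, hby,
      Subsingleton.elim (fb.comp (algebraMap ℤ (AdjoinRoot (minpoly ℚ ϖ)))) (algebraMap ℤ ℂ),
      ← Polynomial.aeval_def]
    exact hz'
  refine ⟨minpoly ℤ ϖ, hmonic, ?_⟩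
  have h2 := congrArg fa hE
  rw [Polynomial.hom_eval₂, map_zero, hay,
    Subsingleton.elim (fa.comp (algebraMap ℤ (AdjoinRoot (minpoly ℚ ϖ)))) (algebraMap ℤ K)] at h2
  exact h2

/-- Coprime over `ℚ` implies a nonzero integer in the ideal generated over `ℤ`. -/
theorem exists_int_comb (f g : ℤ[X])
    (h : IsCoprime (f.map (algebraMap ℤ ℚ)) (g.map (algebraMap ℤ ℚ))) :
    ∃ n : ℤ, n ≠ 0 ∧ ∃ a b : ℤ[X], a * f + b * g = Polynomial.C n := by
  obtain ⟨a, b, hab⟩ := h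
  obtain ⟨m₁, hm₁, ha⟩ := IsLocalization.integerNormalization_spec (nonZeroDivisors ℤ) a
  obtain ⟨m₂, hm₂, hb⟩ := IsLocalization.integerNormalization_spec (nonZeroDivisors ℤ) b
  refine ⟨m₁ * m₂, mul_ne_zero (nonZeroDivisors.ne_zero hm₁) (nonZeroDivisors.ne_zero hm₂),
    Polynomial.C m₂ * IsLocalization.integerNormalization (nonZeroDivisors ℤ) a,
    Polynomial.C m₁ * IsLocalization.integerNormalization (nonZeroDivisors ℤ) b, ?_⟩
  apply Polynomial.map_injective (algebraMap ℤ ℚ) (RingHom.injective_int _)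
  simp only [Polynomial.map_add, Polynomial.map_mul, Polynomial.map_C, ha, hb]
  rw [Algebra.smul_def, Algebra.smul_def, Polynomial.algebraMap_apply,
    Polynomial.algebraMap_apply, map_mul, Polynomial.C_mul]
  linear_combination (Polynomial.C (algebraMap ℤ ℚ m₁) * Polynomial.C (algebraMap ℤ ℚ m₂)) * hab

theorem main_aux (p e : ℕ) (hp : 0 < p) (J J' : Type) [Fintype J] [Fintype J'] (emb : J' → J)
    (K : J → Type u) [∀ j, Field (K j)] [∀ j, CharZero (K j)] (ϖ : ∀ j, K j)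
    (hint : ∀ j, IsIntegral ℤ (ϖ j))
    (hweil : ∀ j, ∀ z ∈ (minpoly ℤ (ϖ j)).aroots ℂ, ‖z‖ = Real.sqrt ((p : ℝ) ^ e))
    (hinj : ∀ i j, minpoly ℤ (ϖ i) = minpoly ℤ (ϖ j) → i = j)
    (φJ : MvPolynomial (Fin 2) ℤ →ₐ[ℤ] ((j : J) → K j))
    (φJ' : MvPolynomial (Fin 2) ℤ →ₐ[ℤ] ((j' : J') → K (emb j')))
    (hφJ : ∀ x j, φJ x j = MvPolynomial.aeval ![ϖ j, ((p : K j) ^ e) / ϖ j] x)
    (hφJ' : ∀ x j', φJ' x j' =
      MvPolynomial.aeval ![ϖ (emb j'), ((p : K (emb j')) ^ e) / ϖ (emb j')] x)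
    (hle : RingHom.ker φJ ≤ RingHom.ker φJ') :
    Function.Surjective (Pic.mapRingHom (Ideal.Quotient.factor hle)) := by
  classical
  have hconj : ∀ j, IsIntegral ℤ (((p : K j) ^ e) / ϖ j) :=
    fun j => isIntegral_conj p e hp (ϖ j) (hint j) (hweil j)
  haveI : Fintype {j : J // j ∉ Set.range emb} := Fintype.ofFinite _
  obtain ⟨γ, hγ⟩ : ∃ γ : MvPolynomial (Fin 2) ℤ →ₐ[ℤ]
      ((t : {j : J // j ∉ Set.range emb}) → K t.1),
      ∀ x t, γ x t = MvPolynomial.aeval ![ϖ t.1, ((p : K t.1) ^ e) / ϖ t.1] x :=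
    ⟨MvPolynomial.aeval ![fun t : {j : J // j ∉ Set.range emb} => ϖ t.1,
        fun t : {j : J // j ∉ Set.range emb} => ((p : K t.1) ^ e) / ϖ t.1],
      fun x t => mv_aeval_pi2 _ _ x t⟩
  have hX0 : φJ' (MvPolynomial.X 0) = fun j' => ϖ (emb j') := by
    funext j'; rw [hφJ', MvPolynomial.aeval_X]; rfl
  have hX1 : φJ' (MvPolynomial.X 1) = fun j' => ((p : K (emb j')) ^ e) / ϖ (emb j') := by
    funext j'; rw [hφJ', MvPolynomial.aeval_X]; rfl
  have hγX0 : γ (MvPolynomial.X 0) = fun t : {j : J // j ∉ Set.range emb} => ϖ t.1 := by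
    funext t; rw [hγ, MvPolynomial.aeval_X]; rfl
  -- integrality of the order
  have hXint : ∀ s : Fin 2,
      IsIntegral ℤ (Ideal.Quotient.mk (RingHom.ker φJ') (MvPolynomial.X s)) := by
    intro s
    rw [← isIntegral_algHom_iff (Ideal.kerLiftAlg φJ') (Ideal.kerLiftAlg_injective φJ'),
      Ideal.kerLiftAlg_mk]
    fin_cases s
    · show IsIntegral ℤ (φJ' (MvPolynomial.X 0))
      rw [hX0]; exact isIntegral_pi _ (fun j' => hint (emb j'))
    · show IsIntegral ℤ (φJ' (MvPolynomial.X 1))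
      rw [hX1]; exact isIntegral_pi _ (fun j' => hconj (emb j'))
  have hintQ : Algebra.IsIntegral ℤ (MvPolynomial (Fin 2) ℤ ⧸ RingHom.ker φJ') := by
    refine ⟨fun x => ?_⟩
    obtain ⟨x, rfl⟩ := Ideal.Quotient.mk_surjective x
    induction x using MvPolynomial.induction_on with
    | C a =>
      have h : Ideal.Quotient.mk (RingHom.ker φJ') (MvPolynomial.C a) =
          algebraMap ℤ (MvPolynomial (Fin 2) ℤ ⧸ RingHom.ker φJ') a := by
        rw [eq_intCast (algebraMap ℤ (MvPolynomial (Fin 2) ℤ ⧸ RingHom.ker φJ')) a,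
          eq_intCast (MvPolynomial.C : ℤ →+* MvPolynomial (Fin 2) ℤ) a, map_intCast]
      rw [h]; exact isIntegral_algebraMap
    | add q r hq hr => rw [map_add]; exact hq.add hr
    | mul_X q s hq => rw [map_mul]; exact hq.mul (hXint s)
  haveI hft : Algebra.FiniteType ℤ (MvPolynomial (Fin 2) ℤ ⧸ RingHom.ker φJ') :=
    Algebra.FiniteType.of_surjective (Ideal.Quotient.mkₐ ℤ (RingHom.ker φJ'))
      (Ideal.Quotient.mkₐ_surjective ℤ _)
  haveI hmf : Module.Finite ℤ (MvPolynomial (Fin 2) ℤ ⧸ RingHom.ker φJ') :=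
    Algebra.IsIntegral.finite
  -- coprimality
  obtain ⟨n, hn, a, b, hab⟩ := exists_int_comb (∏ j' : J', minpoly ℤ (ϖ (emb j')))
      (∏ t : {j : J // j ∉ Set.range emb}, minpoly ℤ (ϖ t.1)) (by
    rw [Polynomial.map_prod, Polynomial.map_prod]
    refine IsCoprime.prod_left (fun j' _ => IsCoprime.prod_right (fun t _ => ?_))
    have h1 : IsIntegral ℚ (ϖ (emb j')) := (hint (emb j')).tower_top
    have h2 : IsIntegral ℚ (ϖ t.1) := (hint t.1).tower_top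
    rw [← minpoly.isIntegrallyClosed_eq_field_fractions' ℚ (hint (emb j')),
      ← minpoly.isIntegrallyClosed_eq_field_fractions' ℚ (hint t.1)]
    rw [(minpoly.irreducible h1).coprime_iff_not_dvd]
    intro hdvd
    have hassoc := (minpoly.irreducible h1).associated_of_dvd (minpoly.irreducible h2) hdvd
    have heq := Polynomial.eq_of_monic_of_associated (minpoly.monic h1) (minpoly.monic h2) hassoc
    rw [minpoly.isIntegrallyClosed_eq_field_fractions' ℚ (hint (emb j')),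
      minpoly.isIntegrallyClosed_eq_field_fractions' ℚ (hint t.1)] at heq
    have heq' := Polynomial.map_injective (algebraMap ℤ ℚ) (RingHom.injective_int _) heq
    exact t.2 ⟨j', hinj _ _ heq'⟩)
  have hPv : Polynomial.aeval (MvPolynomial.X 0 : MvPolynomial (Fin 2) ℤ)
      (∏ j' : J', minpoly ℤ (ϖ (emb j'))) ∈ RingHom.ker φJ' := by
    rw [RingHom.mem_ker, ← Polynomial.aeval_algHom_apply, hX0]
    funext j'
    rw [poly_aeval_pi, Pi.zero_apply, map_prod]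
    exact Finset.prod_eq_zero (Finset.mem_univ j') (minpoly.aeval ℤ _)
  have hPt : Polynomial.aeval (MvPolynomial.X 0 : MvPolynomial (Fin 2) ℤ)
      (∏ t : {j : J // j ∉ Set.range emb}, minpoly ℤ (ϖ t.1)) ∈
      RingHom.ker γ.toRingHom := by
    rw [RingHom.mem_ker]
    show γ _ = 0
    rw [← Polynomial.aeval_algHom_apply, hγX0]
    funext t
    rw [poly_aeval_pi, Pi.zero_apply, map_prod]
    exact Finset.prod_eq_zero (Finset.mem_univ t) (minpoly.aeval ℤ _)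
  have hnmem : ((n : ℤ) : MvPolynomial (Fin 2) ℤ) ∈
      RingHom.ker φJ' ⊔ RingHom.ker γ.toRingHom := by
    have h3 := congrArg (Polynomial.aeval (MvPolynomial.X 0 : MvPolynomial (Fin 2) ℤ)) hab
    rw [map_add, map_mul, map_mul, Polynomial.aeval_C] at h3
    have h4 : algebraMap ℤ (MvPolynomial (Fin 2) ℤ) n = ((n : ℤ) : MvPolynomial (Fin 2) ℤ) :=
      eq_intCast _ n
    rw [← h4, ← h3]
    exact Submodule.add_mem_sup (Ideal.mul_mem_left _ _ hPv) (Ideal.mul_mem_left _ _ hPt)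
  have hle2 : RingHom.ker φJ' ≤ RingHom.ker φJ' ⊔ RingHom.ker γ.toRingHom := le_sup_left
  have hfin : Finite (MvPolynomial (Fin 2) ℤ ⧸
      (RingHom.ker φJ' ⊔ RingHom.ker γ.toRingHom)) := by
    haveI : Module.Finite ℤ (MvPolynomial (Fin 2) ℤ ⧸
        (RingHom.ker φJ' ⊔ RingHom.ker γ.toRingHom)) :=
      Module.Finite.of_surjective
        (Ideal.Quotient.factor hle2).toIntAlgHom.toLinearMap
        (Ideal.Quotient.factor_surjective hle2)
    refine Module.finite_of_fg_torsion _ ?_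
    intro x
    refine ⟨⟨n, mem_nonZeroDivisors_of_ne_zero hn⟩, ?_⟩
    obtain ⟨x, rfl⟩ := Ideal.Quotient.mk_surjective x
    show n • Ideal.Quotient.mk _ x = 0
    rw [zsmul_eq_mul,
      ← map_intCast (Ideal.Quotient.mk (RingHom.ker φJ' ⊔ RingHom.ker γ.toRingHom)) n, ← map_mul,
      Ideal.Quotient.eq_zero_iff_mem]
    exact Ideal.mul_mem_right _ _ hnmem
  have hβγ : ∀ x, φJ'.toRingHom x = 0 →
      γ.toRingHom x = 0 → x ∈ RingHom.ker φJ := by
    intro x h1 h2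
    rw [RingHom.mem_ker]
    funext j
    by_cases hj : j ∈ Set.range emb
    · obtain ⟨j', rfl⟩ := hj
      rw [hφJ, ← hφJ']
      exact congrFun h1 j'
    · rw [hφJ, ← hγ x ⟨j, hj⟩]
      exact congrFun h2 ⟨j, hj⟩
  have hγw : RingHom.ker φJ ≤ RingHom.ker γ.toRingHom := by
    intro x hx
    rw [RingHom.mem_ker] at hx ⊢
    funext t
    show γ x t = 0
    rw [hγ, ← hφJ x t.1, hx]; rfl
  exact pic_surj_quot hle (fun j' => K (emb j')) φJ'.toRingHom
    γ.toRingHom rfl hβγ hγw hfin n hn hnmem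

/-- The statement of S17999. -/
theorem main (p e : ℕ) [Fact p.Prime] (he : 0 < e)
    (J J' : Type) [Fintype J] [Fintype J'] (emb : J' → J) (hemb : Function.Injective emb)
    (K : J → Type u) [∀ j, Field (K j)] [∀ j, CharZero (K j)] (ϖ : ∀ j, K j)
    (hint : ∀ j, IsIntegral ℤ (ϖ j))
    (hweil : ∀ j, ∀ z ∈ (minpoly ℤ (ϖ j)).aroots ℂ, ‖z‖ = Real.sqrt ((p : ℝ) ^ e))
    (hinj : ∀ i j, minpoly ℤ (ϖ i) = minpoly ℤ (ϖ j) → i = j)
    (hle : RingHom.ker (MvPolynomial.aeval ![fun j => ϖ j, fun j => ((p : K j) ^ e) / ϖ j] :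
          MvPolynomial (Fin 2) ℤ →ₐ[ℤ] ((j : J) → K j)) ≤
        RingHom.ker (MvPolynomial.aeval ![fun j' => ϖ (emb j'), fun j' => ((p : K (emb j')) ^ e) / ϖ (emb j')] :
          MvPolynomial (Fin 2) ℤ →ₐ[ℤ] ((j' : J') → K (emb j')))) :
    Function.Surjective (CommRing.Pic.mapRingHom (Ideal.Quotient.factor hle)) :=
  main_aux p e (Fact.out : p.Prime).pos J J' emb K ϖ hint hweil hinj _ _
    (fun x j => mv_aeval_pi2 _ _ x j) (fun x j' => mv_aeval_pi2 _ _ x j') hle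

end Groth.Agent.H9.WeilPic
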