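import Mathlib
import Groth.Agent.Lib.Helper9.Misc.Sl2Mod
import Groth.Agent.Lib.Helper9.Misc.Sl2JM
import Groth.Agent.Lib.Helper9.Misc.Sl2Der

set_option autoImplicit false
set_option linter.unusedSectionVars false
set_option linter.unusedVariables false

open MvPolynomial

noncomputable section

namespace Groth.Agent.H9.Sl2

universe u

section Weitz
variable {k : Type u} [Field k] {n : ℕ}

def E2 : Matrix (Fin 2) (Fin 2) k := !![0, 1; 0, 0]
def F2 : Matrix (Fin 2) (Fin 2) k := !![0, 0; 1, 0]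
def H2 : Matrix (Fin 2) (Fin 2) k := !![1, 0; 0, -1]

lemma e2f2 : (E2 : Matrix (Fin 2) (Fin 2) k) * F2 - F2 * E2 = H2 := by
  ext i j
  fin_cases i <;> fin_cases j <;> simp [E2, F2, H2, Matrix.mul_apply, Fin.sum_univ_two]

lemma h2e2 : (H2 : Matrix (Fin 2) (Fin 2) k) * E2 - E2 * H2 = (2 : k) • E2 := by
  ext i j
  fin_cases i <;> fin_cases j <;> simp [E2, H2, Matrix.mul_apply, Fin.sum_univ_two] <;> norm_num

lemma h2f2 : (H2 : Matrix (Fin 2) (Fin 2) k) * F2 - F2 * H2 = (-2 : k) • F2 := by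
  ext i j
  fin_cases i <;> fin_cases j <;> simp [F2, H2, Matrix.mul_apply, Fin.sum_univ_two] <;> norm_num

lemma blk_sub (A A' : Matrix (Fin n) (Fin n) k) (B B' : Matrix (Fin 2) (Fin 2) k) :
    Matrix.fromBlocks A 0 0 B - Matrix.fromBlocks A' 0 0 B' =
      Matrix.fromBlocks (A - A') 0 0 (B - B') := by
  ext i j
  rcases i with i | i <;> rcases j with j | j <;> simp

lemma blk_mul (A A' : Matrix (Fin n) (Fin n) k) (B B' : Matrix (Fin 2) (Fin 2) k) :
    Matrix.fromBlocks A 0 0 B * Matrix.fromBlocks A' 0 0 B' =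
      Matrix.fromBlocks (A * A') 0 0 (B * B') := by
  rw [Matrix.fromBlocks_multiply]
  simp

lemma blk_smul (a : k) (A : Matrix (Fin n) (Fin n) k) (B : Matrix (Fin 2) (Fin 2) k) :
    a • Matrix.fromBlocks A 0 0 B = Matrix.fromBlocks (a • A) 0 0 (a • B) := by
  rw [Matrix.fromBlocks_smul]
  simp

abbrev PP (n : ℕ) (k : Type u) [Field k] := MvPolynomial (Fin n ⊕ Fin 2) k

lemma dM_blk_inl (A : Matrix (Fin n) (Fin n) k) (B : Matrix (Fin 2) (Fin 2) k) (j : Fin n) :
    dM (Matrix.fromBlocks A 0 0 B) (X (Sum.inl j)) =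
      ∑ i, A i j • (X (Sum.inl i) : PP n k) := by
  rw [dM_X, Fintype.sum_sum_type]
  simp

lemma dM_blk_inr (A : Matrix (Fin n) (Fin n) k) (B : Matrix (Fin 2) (Fin 2) k) (a : Fin 2) :
    dM (Matrix.fromBlocks A 0 0 B) (X (Sum.inr a)) =
      ∑ b, B b a • (X (Sum.inr b) : PP n k) := by
  rw [dM_X, Fintype.sum_sum_type]
  simp

/-- linear forms in the first block of variables -/
def ell1 : (Fin n → k) →ₗ[k] PP n k :=
  Fintype.linearCombination k (fun i : Fin n => (X (Sum.inl i) : PP n k))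

lemma ell1_apply (c : Fin n → k) : ell1 c = ∑ j, c j • (X (Sum.inl j) : PP n k) :=
  Fintype.linearCombination_apply k _ c

lemma ell1_single (j : Fin n) : ell1 (Pi.single j (1 : k)) = (X (Sum.inl j) : PP n k) := by
  rw [ell1_apply, Finset.sum_eq_single j]
  · simp
  · intro i _ hij
    simp [hij]
  · intro h
    exact absurd (Finset.mem_univ _) h

lemma dM_ell1 (A : Matrix (Fin n) (Fin n) k) (B : Matrix (Fin 2) (Fin 2) k) (c : Fin n → k) :
    dM (Matrix.fromBlocks A 0 0 B) (ell1 c) = ell1 (A.mulVec c) := by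
  rw [ell1_apply, ell1_apply, map_sum]
  simp only [Derivation.map_smul, dM_blk_inl, Finset.smul_sum, smul_smul]
  rw [Finset.sum_comm]
  refine Finset.sum_congr rfl fun i _ => ?_
  rw [← Finset.sum_smul]
  congr 1
  simp [Matrix.mulVec, dotProduct, mul_comm]

lemma X_mem_ws_blk (Hm : Matrix (Fin n) (Fin n) k)
    (hdiag : (⨆ μ : k, Module.End.eigenspace (Matrix.toLin' Hm) μ) = ⊤) :
    ∀ i, (X i : PP n k) ∈ WS (Matrix.fromBlocks Hm 0 0 H2) := by
  rintro (j | a)
  · rw [← ell1_single]
    have h1 : (Pi.single j (1 : k) : Fin n → k) ∈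
        ⨆ μ : k, Module.End.eigenspace (Matrix.toLin' Hm) μ := by rw [hdiag]; trivial
    refine Submodule.iSup_induction (motive := fun c =>
      ell1 c ∈ WS (Matrix.fromBlocks Hm 0 0 (H2 : Matrix (Fin 2) (Fin 2) k))) _ h1 ?_ ?_ ?_
    · intro μ c hc
      refine Submodule.mem_iSup_of_mem μ ?_
      rw [Module.End.mem_eigenspace_iff] at hc ⊢
      change dM _ (ell1 c) = _
      rw [dM_ell1, ← map_smul, ← hc]
      rfl
    · simp only [map_zero]
      exact Submodule.zero_mem _
    · intro a b ha hb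
      rw [map_add]
      exact Submodule.add_mem _ ha hb
  · refine Submodule.mem_iSup_of_mem (if a = 0 then 1 else -1) ?_
    rw [Module.End.mem_eigenspace_iff]
    change dM _ (X (Sum.inr a)) = _
    rw [dM_blk_inr, Fin.sum_univ_two]
    fin_cases a <;> simp [H2]

/-- the data attached to an `sl₂`-triple of matrices extending `M` -/
def mkData (M Ym Hm : Matrix (Fin n) (Fin n) k) (ef : M * Ym - Ym * M = Hm)
    (he : Hm * M - M * Hm = (2 : k) • M) (hf : Hm * Ym - Ym * Hm = (-2 : k) • Ym)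
    (hdiag : (⨆ μ : k, Module.End.eigenspace (Matrix.toLin' Hm) μ) = ⊤) :
    Data (Fin n ⊕ Fin 2) k where
  ME := Matrix.fromBlocks M 0 0 E2
  MF := Matrix.fromBlocks Ym 0 0 F2
  MH := Matrix.fromBlocks Hm 0 0 H2
  ef := by rw [blk_mul, blk_mul, blk_sub, ef, e2f2]
  he := by rw [blk_mul, blk_mul, blk_sub, he, h2e2, blk_smul]
  hf := by rw [blk_mul, blk_mul, blk_sub, hf, h2f2, blk_smul]
  hws := X_mem_ws_blk Hm hdiag

def evf : Fin n ⊕ Fin 2 → MvPolynomial (Fin n) k := Sum.elim X ![0, 1]

/-- evaluation at `x = 0`, `y = 1` -/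
def ev : PP n k →ₐ[k] MvPolynomial (Fin n) k := aeval evf

/-- the inclusion -/
def iot : MvPolynomial (Fin n) k →ₐ[k] PP n k := rename Sum.inl

lemma ev_X_inl (j : Fin n) : ev (X (Sum.inl j) : PP n k) = X j := by simp [ev, evf]
lemma ev_x : ev (X (Sum.inr 0) : PP n k) = 0 := by simp [ev, evf]
lemma ev_y : ev (X (Sum.inr 1) : PP n k) = 1 := by simp [ev, evf]
lemma ev_C (a : k) : ev (C a : PP n k) = C a := by simp [ev]
lemma iot_X (j : Fin n) : iot (X j : MvPolynomial (Fin n) k) = (X (Sum.inl j) : PP n k) := by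
  simp [iot]
lemma iot_C (a : k) : iot (C a : MvPolynomial (Fin n) k) = (C a : PP n k) := by simp [iot]

lemma ev_iot (f : MvPolynomial (Fin n) k) : ev (iot f) = f := by
  induction f using MvPolynomial.induction_on with
  | C a => rw [iot_C, ev_C]
  | add p q hp hq => rw [map_add, map_add, hp, hq]
  | mul_X p j hp => rw [map_mul, map_mul, hp, iot_X, ev_X_inl]

lemma ev_dME (M : Matrix (Fin n) (Fin n) k) (p : PP n k) :
    ev (dM (Matrix.fromBlocks M 0 0 E2) p) = dM M (ev p) := by
  induction p using MvPolynomial.induction_on with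
  | C a => rw [dM_C, map_zero, ev_C, dM_C]
  | add p q hp hq => simp only [map_add, hp, hq]
  | mul_X p i hp =>
    rw [Derivation.leibniz, map_add, map_mul, Derivation.leibniz, smul_eq_mul, smul_eq_mul,
      map_mul, map_mul, hp, smul_eq_mul, smul_eq_mul]
    congr 2
    rcases i with j | a
    · rw [dM_blk_inl, map_sum, ev_X_inl, dM_X]
      refine Finset.sum_congr rfl fun i _ => ?_
      rw [map_smul, ev_X_inl]
    · rw [dM_blk_inr, Fin.sum_univ_two]
      fin_cases a
      · simp [E2, ev_x]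
      · simp [E2, ev_x, ev_y]

lemma dME_iot (M : Matrix (Fin n) (Fin n) k) (f : MvPolynomial (Fin n) k) :
    dM (Matrix.fromBlocks M 0 0 E2) (iot f) = iot (dM M f) := by
  induction f using MvPolynomial.induction_on with
  | C a => rw [iot_C, dM_C, dM_C, map_zero]
  | add p q hp hq => simp only [map_add, hp, hq]
  | mul_X p j hp =>
    rw [map_mul, Derivation.leibniz, hp, Derivation.leibniz, map_add, smul_eq_mul, smul_eq_mul,
      smul_eq_mul, smul_eq_mul, map_mul, map_mul]
    congr 2
    rw [iot_X, dM_blk_inl, dM_X, map_sum]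
    refine Finset.sum_congr rfl fun i _ => ?_
    rw [map_smul, iot_X]

lemma prim_lift [CharZero k] (D : Data (Fin n ⊕ Fin 2) k)
    (hEx : dM D.ME (X (Sum.inr 0)) = 0) (hEy : dM D.ME (X (Sum.inr 1)) = X (Sum.inr 0))
    (hFx : dM D.MF (X (Sum.inr 0)) = X (Sum.inr 1)) (hFy : dM D.MF (X (Sum.inr 1)) = 0)
    (q : PP n k) (i : ℕ) (hE : dM D.ME q = 0) (hH : dM D.MH q = (i : k) • q)
    (hF : ((dL D.MF) ^ (i + 1)) q = 0) :
    ∃ G : PP n k, dM D.ME G = 0 ∧ dM D.MF G = 0 ∧ ev G = ev q := by
  set x : PP n k := X (Sum.inr 0) with hxdef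
  set y : PP n k := X (Sum.inr 1) with hydef
  let u : ℕ → PP n k := fun j => ((dL D.MF) ^ j) q
  have hu0 : u 0 = q := by simp [u]
  have huF : ∀ j, dM D.MF (u j) = u (j + 1) := fun j => by
    simp only [u]
    rw [pow_succ', Module.End.mul_apply]
    rfl
  have huE : ∀ j : ℕ, dM D.ME (u (j + 1)) = (((j : k) + 1) * ((i : k) - j)) • u j := fun j =>
    E_F_pow D.triple hE hH j
  have hulast : u (i + 1) = 0 := hF
  let c : ℕ → k := fun j => (-1) ^ j / (j.factorial : k)
  have hc_succ : ∀ j : ℕ, c (j + 1) * ((j : k) + 1) = - c j := by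
    intro j
    simp only [c]
    have h1 : ((j.factorial : ℕ) : k) ≠ 0 := Nat.cast_ne_zero.mpr (Nat.factorial_ne_zero j)
    have h2 : ((j : k) + 1) ≠ 0 := Nat.cast_add_one_ne_zero j
    rw [Nat.factorial_succ]
    push_cast
    field_simp
    ring
  have hCs : ∀ j : ℕ, (C (c (j + 1)) : PP n k) * ((j : PP n k) + 1) = - C (c j) := by
    intro j
    have h := congrArg (C : k → PP n k) (hc_succ j)
    simpa [map_mul, map_add, map_neg] using h
  have hEz : ∀ j m : ℕ, dM D.ME (x ^ j * y ^ m) = (m : k) • (x ^ (j + 1) * y ^ (m - 1)) := by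
    intro j m
    rw [Derivation.leibniz, Derivation.leibniz_pow, Derivation.leibniz_pow, hEx, hEy, smul_zero,
      smul_zero, smul_zero, add_zero, ← Nat.cast_smul_eq_nsmul k m, smul_eq_mul, smul_eq_mul,
      mul_smul_comm]
    congr 1
    ring
  have hFz : ∀ j m : ℕ, dM D.MF (x ^ j * y ^ m) = (j : k) • (x ^ (j - 1) * y ^ (m + 1)) := by
    intro j m
    rw [Derivation.leibniz, Derivation.leibniz_pow, Derivation.leibniz_pow, hFx, hFy, smul_zero,
      smul_zero, smul_zero, zero_add, ← Nat.cast_smul_eq_nsmul k j, smul_eq_mul, smul_eq_mul,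
      mul_smul_comm]
    congr 1
    ring
  let t : ℕ → PP n k := fun j => c j • (u j * (x ^ j * y ^ (i - j)))
  let A : ℕ → PP n k := fun j => match j with
    | 0 => 0
    | (j + 1) => (c j * ((i : k) - j)) • (u j * (x ^ (j + 1) * y ^ (i - j - 1)))
  let B : ℕ → PP n k := fun j => match j with
    | 0 => 0
    | (j + 1) => c j • (u (j + 1) * (x ^ j * y ^ (i - j)))
  have hEt : ∀ j ∈ Finset.range (i + 1), dM D.ME (t j) = A (j + 1) - A j := by
    intro j hj
    have hji : j ≤ i := by rw [Finset.mem_range] at hj; omega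
    rcases j with _ | j'
    · simp only [t, A]
      rw [Derivation.map_smul, Derivation.leibniz, hEz, hu0, hE]
      simp only [Nat.sub_zero, Nat.cast_zero, sub_zero, smul_zero, add_zero, zero_add,
        smul_eq_mul, mul_smul_comm, smul_smul, mul_zero]
    · have hcast : ((i - (j' + 1) : ℕ) : k) = (i : k) - ((j' : k) + 1) := by
        rw [Nat.cast_sub hji]
        push_cast
        ring
      have e1 : i - (j' + 1) = i - j' - 1 := by omega
      simp only [t, A]
      rw [Derivation.map_smul, Derivation.leibniz, hEz, huE j', hcast, e1]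
      simp only [smul_eq_C_mul, smul_eq_mul, map_mul, map_sub, map_add, map_natCast, map_one]
      push_cast
      linear_combination (exp := 1)
        (((i : PP n k) - (j' : PP n k)) * u j' * (x ^ (j' + 1) * y ^ (i - j' - 1))) * hCs j'
  have hFt : ∀ j ∈ Finset.range (i + 1), dM D.MF (t j) = B (j + 1) - B j := by
    intro j hj
    have hji : j ≤ i := by rw [Finset.mem_range] at hj; omega
    rcases j with _ | j'
    · simp only [t, B]
      rw [Derivation.map_smul, Derivation.leibniz, hFz, huF]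
      simp only [Nat.cast_zero, zero_smul, smul_zero, zero_add, sub_zero, smul_eq_mul]
      congr 1
      ring
    · have e1 : i - (j' + 1) + 1 = i - j' := by omega
      simp only [t, B]
      rw [Derivation.map_smul, Derivation.leibniz, hFz, huF, e1]
      simp only [Nat.add_sub_cancel, smul_eq_C_mul, smul_eq_mul, map_mul, map_sub, map_add,
        map_natCast, map_one]
      push_cast
      linear_combination (exp := 1) (u (j' + 1) * (x ^ j' * y ^ (i - j'))) * hCs j'
  refine ⟨∑ j ∈ Finset.range (i + 1), t j, ?_, ?_, ?_⟩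
  · rw [map_sum, Finset.sum_congr rfl hEt, Finset.sum_range_sub]
    simp [A]
  · rw [map_sum, Finset.sum_congr rfl hFt, Finset.sum_range_sub]
    simp only [B]
    rw [hulast]
    simp
  · rw [map_sum, Finset.sum_eq_single 0]
    · simp only [t, c, hu0]
      rw [map_smul, map_mul, map_mul, map_pow, map_pow, ev_y]
      simp
    · intro j _ hj
      simp only [t]
      rw [map_smul, map_mul, map_mul, map_pow, ev_x, zero_pow hj]
      simp
    · intro h
      exact absurd (Finset.mem_range.mpr (Nat.succ_pos i)) h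

lemma rE_pow_coe (T : Matrix (Fin n ⊕ Fin 2) (Fin n ⊕ Fin 2) k) (d : ℕ) (m : ℕ)
    (x : homogeneousSubmodule (Fin n ⊕ Fin 2) k d) :
    ((((rE T d) ^ m) x : homogeneousSubmodule (Fin n ⊕ Fin 2) k d) : PP n k) =
      ((dL T) ^ m) (x : PP n k) := by
  induction m generalizing x with
  | zero => simp
  | succ m ih =>
    rw [pow_succ, Module.End.mul_apply, ih, rE_coe, pow_succ, Module.End.mul_apply]
    rfl

/-- **Weitzenböck's theorem**: the kernel of a linear locally nilpotent derivation of a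
polynomial ring over a field of characteristic zero is a finitely generated algebra. -/
theorem weitzenbock (k : Type u) [Field k] [CharZero k] (n : ℕ) (M : Matrix (Fin n) (Fin n) k)
    (hM : IsNilpotent M) :
    ∃ S : Subalgebra k (MvPolynomial (Fin n) k), S.FG ∧
      ∀ f : MvPolynomial (Fin n) k, f ∈ S ↔
        MvPolynomial.mkDerivation k (fun j : Fin n =>
          ∑ i : Fin n, M i j • (MvPolynomial.X i : MvPolynomial (Fin n) k)) f = 0 := by
  have hN : IsNilpotent (Matrix.toLin' M) := by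
    obtain ⟨m, hm⟩ := hM
    exact ⟨m, by rw [← Matrix.toLin'_pow, hm, map_zero]⟩
  obtain ⟨Hl, Yl, htr, hdiagl⟩ := exists_triple (Fin n → k) (Matrix.toLin' M) hN
  set Hm : Matrix (Fin n) (Fin n) k := LinearMap.toMatrix' Hl with hHm
  set Ym : Matrix (Fin n) (Fin n) k := LinearMap.toMatrix' Yl with hYm
  have hHl : Matrix.toLin' Hm = Hl := Matrix.toLin'_toMatrix' Hl
  have hYl : Matrix.toLin' Ym = Yl := Matrix.toLin'_toMatrix' Yl
  have ef : M * Ym - Ym * M = Hm := by
    apply Matrix.toLin'.injective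
    rw [map_sub, Matrix.toLin'_mul, Matrix.toLin'_mul, hHl, hYl]
    refine LinearMap.ext fun w => ?_
    exact htr.ef w
  have he : Hm * M - M * Hm = (2 : k) • M := by
    apply Matrix.toLin'.injective
    rw [map_sub, Matrix.toLin'_mul, Matrix.toLin'_mul, map_smul, hHl]
    refine LinearMap.ext fun w => ?_
    exact htr.he w
  have hf : Hm * Ym - Ym * Hm = (-2 : k) • Ym := by
    apply Matrix.toLin'.injective
    rw [map_sub, Matrix.toLin'_mul, Matrix.toLin'_mul, map_smul, hHl, hYl]
    refine LinearMap.ext fun w => ?_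
    have h := htr.hf w
    rw [LinearMap.sub_apply, LinearMap.comp_apply, LinearMap.comp_apply, LinearMap.smul_apply,
      neg_smul]
    exact h
  have hdiag : (⨆ μ : k, Module.End.eigenspace (Matrix.toLin' Hm) μ) = ⊤ := by
    rw [hHl]
    exact hdiagl
  let D : Data (Fin n ⊕ Fin 2) k := mkData M Ym Hm ef he hf hdiag
  have hDE : D.ME = Matrix.fromBlocks M 0 0 E2 := rfl
  have hDF : D.MF = Matrix.fromBlocks Ym 0 0 F2 := rfl
  have hEx : dM D.ME (X (Sum.inr 0)) = 0 := by
    rw [hDE, dM_blk_inr, Fin.sum_univ_two]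
    simp [E2]
  have hEy : dM D.ME (X (Sum.inr 1)) = X (Sum.inr 0) := by
    rw [hDE, dM_blk_inr, Fin.sum_univ_two]
    simp [E2]
  have hFx : dM D.MF (X (Sum.inr 0)) = X (Sum.inr 1) := by
    rw [hDF, dM_blk_inr, Fin.sum_univ_two]
    simp [F2]
  have hFy : dM D.MF (X (Sum.inr 1)) = 0 := by
    rw [hDF, dM_blk_inr, Fin.sum_univ_two]
    simp [F2]
  obtain ⟨s, hsQ, hsgen⟩ := D.hilbert
  refine ⟨(Algebra.adjoin k (s : Set (PP n k))).map ev, ?_, ?_⟩
  · exact Subalgebra.FG.map _ (Subalgebra.fg_adjoin_finset s)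
  intro f
  change f ∈ _ ↔ dM M f = 0
  rw [Subalgebra.mem_map]
  constructor
  · rintro ⟨G, hG, rfl⟩
    have hGQ : G ∈ D.Q :=
      Algebra.adjoin_le (fun g hg => hsQ g (Finset.mem_coe.mp hg)) hG
    have h1 : dM (Matrix.fromBlocks M 0 0 E2) G = 0 := (D.mem_Q.mp hGQ).1
    rw [← ev_dME, h1, map_zero]
  · intro hf0
    have hEq0 : dM D.ME (iot f) = 0 := by
      change dM (Matrix.fromBlocks M 0 0 E2) (iot f) = 0
      rw [dME_iot, hf0, map_zero]
    have key : ∀ d : ℕ, ∃ G : PP n k, dM D.ME G = 0 ∧ dM D.MF G = 0 ∧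
        ev G = ev (homogeneousComponent d (iot f)) := by
      intro d
      have hind := ker_E_induction (D.triple_d d) (D.diag_d d)
        (p := fun x : homogeneousSubmodule (Fin n ⊕ Fin 2) k d =>
          ∃ G : PP n k, dM D.ME G = 0 ∧ dM D.MF G = 0 ∧ ev G = ev (x : PP n k))
        ⟨0, map_zero _, map_zero _, by simp⟩
        (by
          rintro a b ⟨Ga, h1, h2, h3⟩ ⟨Gb, h4, h5, h6⟩
          exact ⟨Ga + Gb, by rw [map_add, h1, h4, add_zero], by rw [map_add, h2, h5, add_zero],
            by rw [map_add, h3, h6, Submodule.coe_add, map_add]⟩)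
        (by
          intro v i hEv hHv hFv
          have h1 : dM D.ME (v : PP n k) = 0 := congrArg Subtype.val hEv
          have h2 : dM D.MH (v : PP n k) = (i : k) • (v : PP n k) := congrArg Subtype.val hHv
          have h3 : ((dL D.MF) ^ (i + 1)) (v : PP n k) = 0 := by
            rw [← rE_pow_coe, hFv]
            rfl
          exact prim_lift D hEx hEy hFx hFy (v : PP n k) i h1 h2 h3)
      have hmem : homogeneousComponent d (iot f) ∈ homogeneousSubmodule (Fin n ⊕ Fin 2) k d :=
        homogeneousComponent_isHomogeneous d (iot f)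
      exact hind ⟨homogeneousComponent d (iot f), hmem⟩ (Subtype.ext (by
        rw [rE_coe]
        change dM D.ME (homogeneousComponent d (iot f)) = 0
        rw [← dM_hc, hEq0, map_zero]))
    choose G hGE hGF hGev using key
    have hGtQ : (∑ d ∈ Finset.range ((iot f).totalDegree + 1), G d) ∈ D.Q :=
      D.mem_Q.mpr ⟨by rw [map_sum]; exact Finset.sum_eq_zero fun d _ => hGE d,
        by rw [map_sum]; exact Finset.sum_eq_zero fun d _ => hGF d⟩
    refine ⟨∑ d ∈ Finset.range ((iot f).totalDegree + 1), G d, hsgen _ hGtQ, ?_⟩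
    rw [map_sum, Finset.sum_congr rfl (fun d _ => hGev d), ← map_sum, sum_homogeneousComponent,
      ev_iot]

end Weitz

end Groth.Agent.H9.Sl2
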