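import Mathlib

set_option linter.unusedSectionVars false
set_option linter.unusedVariables false
set_option linter.style.longLine false

namespace Groth.Agent.H9.WildFrob

open SkewMonoidAlgebra

/-- The skew group ring of a commutative Frobenius algebra with a group-invariant Frobenius form
is a symmetric algebra. -/
theorem skew_symm {R : Type*} {A : Type*} {G : Type*} [CommRing R] [CommRing A] [Algebra R A]
    [Group G] [Finite G] [MulSemiringAction G A] [SMulCommClass G R A]
    (τ : A →ₗ[R] R) (hinv : ∀ (h : G) (b : A), τ (h • b) = τ b)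
    (hinj : ∀ y : A, (∀ b, τ (b * y) = 0) → y = 0)
    (hsurj : ∀ f : A →ₗ[R] R, ∃ y : A, ∀ b, f b = τ (b * y)) :
    ∃ φ : SkewMonoidAlgebra A G →ₗ[R] R,
      (∀ x y : SkewMonoidAlgebra A G, φ (x * y) = φ (y * x)) ∧
      Function.Injective
        (fun y : SkewMonoidAlgebra A G => fun x : SkewMonoidAlgebra A G => φ (x * y)) ∧
      ∀ ψ : SkewMonoidAlgebra A G →ₗ[R] R, ∃ y : SkewMonoidAlgebra A G, ∀ x, ψ x = φ (x * y) := by
  classical
  let φ : SkewMonoidAlgebra A G →ₗ[R] R :=
    { toFun := fun x => τ (x.coeff 1)
      map_add' := fun x y => by rw [coeff_add, Finsupp.add_apply, map_add]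
      map_smul' := fun r x => by
        rw [coeff_smul, Finsupp.smul_apply, map_smul, RingHom.id_apply] }
  have hφ : ∀ x, φ x = τ (x.coeff 1) := fun x => rfl
  have hsingle : ∀ (h : G) (b : A), φ (single h b) = if h = 1 then τ b else 0 := by
    intro h b
    rw [hφ, coeff_single_apply]
    split_ifs <;> simp
  refine ⟨φ, ?_, ?_, ?_⟩
  · intro x y
    induction x using SkewMonoidAlgebra.induction_on with
    | zero => simp
    | single h b =>
      induction y using SkewMonoidAlgebra.induction_on with
      | zero => simp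
      | single h' b' =>
        rw [single_mul_single, single_mul_single, hsingle, hsingle]
        by_cases hh : h * h' = 1
        · have hh' : h' * h = 1 := mul_eq_one_comm.1 hh
          rw [if_pos hh, if_pos hh']
          have e : h' = h⁻¹ := eq_inv_of_mul_eq_one_right hh
          subst e
          calc τ (b * h • b') = τ (h⁻¹ • (b * h • b')) := (hinv _ _).symm
            _ = τ (b' * h⁻¹ • b) := by rw [smul_mul', inv_smul_smul, mul_comm]
        · have hh' : ¬ h' * h = 1 := fun e => hh (mul_eq_one_comm.1 e)
          rw [if_neg hh, if_neg hh']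
      | add y1 y2 h1 h2 => rw [mul_add, add_mul, map_add, map_add, h1, h2]
    | add x1 x2 h1 h2 => rw [add_mul, mul_add, map_add, map_add, h1, h2]
  · intro y y' hyy
    have hfun : ∀ x, φ (x * y) = φ (x * y') := fun x => congrFun hyy x
    ext h
    have h2 : ∀ b : A, τ (b * (h⁻¹ • (y.coeff h) - h⁻¹ • (y'.coeff h))) = 0 := by
      intro b
      have h3 := hfun (single h⁻¹ b)
      rw [hφ, hφ, coeff_single_mul, coeff_single_mul, inv_inv, mul_one] at h3
      rw [mul_sub, map_sub, h3, sub_self]
    have h3 := hinj _ h2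
    have h4 : h⁻¹ • (y.coeff h) = h⁻¹ • (y'.coeff h) := sub_eq_zero.1 h3
    exact smul_left_cancel _ h4
  · intro ψ
    have hex : ∀ h : G, ∃ cc : A, ∀ b, ψ (single h b) = τ (b * cc) := by
      intro h
      obtain ⟨cc, hcc⟩ := hsurj (ψ.comp (lsingle R h))
      exact ⟨cc, fun b => hcc b⟩
    choose cf hcf using hex
    refine ⟨⟨Finsupp.equivFunOnFinite.symm (fun h => h • cf h⁻¹)⟩, fun x => ?_⟩
    induction x using SkewMonoidAlgebra.induction_on with
    | zero => simp
    | single h b =>
      rw [hcf, hφ, coeff_single_mul, mul_one]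
      simp only [coeff_ofCoeff, Finsupp.equivFunOnFinite_symm_apply_apply, inv_inv,
        smul_inv_smul]
    | add x1 x2 h1 h2 => rw [add_mul, map_add, map_add, h1, h2]

end Groth.Agent.H9.WildFrob
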