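import Groth.Agent.Lib.Helper9.Misc.WildFrobA
import Groth.Agent.Lib.Helper9.Misc.WildFrobB

set_option linter.unusedSectionVars false
set_option linter.unusedVariables false
set_option linter.style.longLine false

namespace Groth.Agent.H9.WildFrob

/-- every element of a cyclic group generated by a translation acts by a translation -/
theorem translations {R : Type*} {A : Type*} {G : Type*} [CommRing R] [CommRing A] [Algebra R A]
    [Group G] [MulSemiringAction G A] [SMulCommClass G R A] {ι : Type*} (u : ι → A) (g : G)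
    (a : ι → R) (hgen : ∀ h : G, h ∈ Subgroup.zpowers g)
    (hact : ∀ i, g • u i = u i + algebraMap R A (a i)) :
    ∀ h : G, ∃ r : ι → R, ∀ i, h • u i = u i + algebraMap R A (r i) := by
  let S : Subgroup G :=
    { carrier := {h | ∃ r : ι → R, ∀ i, h • u i = u i + algebraMap R A (r i)}
      mul_mem' := by
        rintro h1 h2 ⟨r1, hr1⟩ ⟨r2, hr2⟩
        refine ⟨fun i => r1 i + r2 i, fun i => ?_⟩
        rw [mul_smul, hr2, smul_add, hr1, smul_algebraMap, map_add, add_assoc]
      one_mem' := ⟨fun _ => 0, fun i => by rw [one_smul, map_zero, add_zero]⟩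
      inv_mem' := by
        rintro h ⟨r, hr⟩
        refine ⟨fun i => - r i, fun i => ?_⟩
        rw [inv_smul_eq_iff, smul_add, hr, smul_algebraMap, map_neg, add_neg_cancel_right] }
  have hgS : g ∈ S := ⟨a, hact⟩
  intro h
  exact (Subgroup.zpowers_le.2 hgS) (hgen h)

theorem skew_main {R : Type*} [CommRing R] [Nontrivial R] {n p : ℕ} (hp : 2 ≤ p)
    (c x : Fin n → R) (I : Ideal (MvPolynomial (Fin n) R)) (hI : I = II p c x)
    {G : Type*} [Group G] [Finite G] [MulSemiringAction G (MvPolynomial (Fin n) R ⧸ I)]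
    [SMulCommClass G R (MvPolynomial (Fin n) R ⧸ I)] (g : G) (a : Fin n → R)
    (hgen : ∀ h : G, h ∈ Subgroup.zpowers g)
    (hact : ∀ i, g • (Ideal.Quotient.mk I (MvPolynomial.X i)) =
      Ideal.Quotient.mk I (MvPolynomial.X i) + algebraMap R (MvPolynomial (Fin n) R ⧸ I) (a i)) :
    ∃ φ : SkewMonoidAlgebra (MvPolynomial (Fin n) R ⧸ I) G →ₗ[R] R,
      (∀ x y : SkewMonoidAlgebra (MvPolynomial (Fin n) R ⧸ I) G, φ (x * y) = φ (y * x)) ∧
      Function.Injective
        (fun y : SkewMonoidAlgebra (MvPolynomial (Fin n) R ⧸ I) G =>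
          fun x : SkewMonoidAlgebra (MvPolynomial (Fin n) R ⧸ I) G => φ (x * y)) ∧
      ∀ ψ : SkewMonoidAlgebra (MvPolynomial (Fin n) R ⧸ I) G →ₗ[R] R,
        ∃ y : SkewMonoidAlgebra (MvPolynomial (Fin n) R ⧸ I) G, ∀ x, ψ x = φ (x * y) := by
  obtain ⟨τ, hsurj, hinj, hinv⟩ := frob_exists' hp c x I hI
  have htr := translations (fun i => Ideal.Quotient.mk I (MvPolynomial.X i)) g a hgen hact
  have hG : ∀ (h : G) (b : MvPolynomial (Fin n) R ⧸ I), τ (h • b) = τ b := by
    intro h b
    obtain ⟨r, hr⟩ := htr h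
    exact hinv (MulSemiringAction.toAlgHom R (MvPolynomial (Fin n) R ⧸ I) h) r hr b
  exact skew_symm τ hG hinj hsurj

end Groth.Agent.H9.WildFrob
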