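import Mathlib

/-! Helper9: product expansion of power series with constant term 1 (big Witt vectors), for S20018. -/

open PowerSeries

namespace Groth.Agent.H9.WittProd

variable {R : Type*} [CommRing R]

/-- partial product -/
noncomputable def P (α : ℕ → R) (N : ℕ) : PowerSeries R :=
  ∏ i ∈ Finset.range N, (1 - C (α i) * X ^ (i + 1) : PowerSeries R)

theorem P_succ (α : ℕ → R) (N : ℕ) : P α (N + 1) = P α N * (1 - C (α N) * X ^ (N + 1)) :=
  Finset.prod_range_succ _ _

theorem constantCoeff_P (α : ℕ → R) (N : ℕ) : constantCoeff (P α N) = 1 := by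
  induction N with
  | zero => simp [P]
  | succ N ih => rw [P_succ, map_mul, ih]; simp

theorem P_congr {α β : ℕ → R} {N : ℕ} (h : ∀ i < N, α i = β i) : P α N = P β N := by
  apply Finset.prod_congr rfl
  intro i hi
  rw [h i (Finset.mem_range.1 hi)]

theorem coeff_mul_factor (A : PowerSeries R) (a : R) (n j : ℕ) (hj : j ≤ n + 1) :
    coeff j (A * (1 - C a * X ^ (n + 1))) =
      if j = n + 1 then coeff (n + 1) A - a * constantCoeff A else coeff j A := by
  rw [mul_sub, mul_one, map_sub]
  have : A * (C a * X ^ (n + 1)) = C a * (X ^ (n + 1) * A) := by ring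
  rw [this, coeff_C_mul, coeff_X_pow_mul']
  rcases hj.lt_or_eq with h | h
  · rw [if_neg (by omega), if_neg (by omega)]
    simp
  · subst h
    rw [if_pos le_rfl, if_pos rfl]
    simp

variable (x : PowerSeries R)

/-- the recursively constructed partial products -/
noncomputable def Q : ℕ → PowerSeries R
  | 0 => 1
  | (N + 1) => Q N * (1 - C (coeff (N + 1) (Q N) - coeff (N + 1) x) * X ^ (N + 1))

/-- the coefficients -/
noncomputable def α (N : ℕ) : R := coeff (N + 1) (Q x N) - coeff (N + 1) x

theorem Q_eq_P (N : ℕ) : Q x N = P (α x) N := by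
  induction N with
  | zero => simp [Q, P]
  | succ N ih =>
    rw [P_succ, ← ih]
    rfl

theorem coeff_P_α (hx : constantCoeff x = 1) (N j : ℕ) (hj : j ≤ N) :
    coeff j (P (α x) N) = coeff j x := by
  induction N generalizing j with
  | zero =>
    obtain rfl : j = 0 := by omega
    rw [coeff_zero_eq_constantCoeff_apply, coeff_zero_eq_constantCoeff_apply, constantCoeff_P, hx]
  | succ N ih =>
    rw [P_succ, coeff_mul_factor _ _ _ _ hj]
    split_ifs with h
    · rw [constantCoeff_P, mul_one, h]
      have : α x N = coeff (N + 1) (P (α x) N) - coeff (N + 1) x := by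
        rw [← Q_eq_P]; rfl
      rw [this]
      ring
    · exact ih j (by omega)

theorem exists_unique (hx : constantCoeff x = 1) :
    ∃! α : ℕ → R, ∀ N : ℕ,
      trunc (N + 2) x =
        trunc (N + 2) (∏ i ∈ Finset.range (N + 1),
          (1 - C (α i) * X ^ (i + 1) : PowerSeries R)) := by
  refine ⟨α x, ?_, ?_⟩
  · intro N
    ext j
    rw [coeff_trunc, coeff_trunc]
    split_ifs with h
    · exact (coeff_P_α x hx (N + 1) j (by omega)).symm
    · rfl
  · intro β hβ
    have key : ∀ γ : ℕ → R, (∀ N : ℕ, trunc (N + 2) x = trunc (N + 2) (P γ (N + 1))) →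
        ∀ n, γ n = coeff (n + 1) (P γ n) - coeff (n + 1) x := by
      intro γ hγ n
      have h1 := congrArg (fun q => Polynomial.coeff q (n + 1)) (hγ n)
      simp only [coeff_trunc] at h1
      rw [if_pos (by omega), if_pos (by omega), P_succ, coeff_mul_factor _ _ _ _ le_rfl, if_pos rfl,
        constantCoeff_P, mul_one] at h1
      rw [h1]; ring
    have hα := key (α x) (fun N => by
      ext j
      rw [coeff_trunc, coeff_trunc]
      split_ifs with h
      · exact (coeff_P_α x hx (N + 1) j (by omega)).symm
      · rfl)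
    have hβ' := key β hβ
    funext n
    induction n using Nat.strong_induction_on with
    | _ n ih =>
      rw [hβ' n, hα n, P_congr (fun i hi => ih i hi)]

end Groth.Agent.H9.WittProd
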