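import Mathlib
import Groth.Agent.Lib.Helper9.Misc.WnF
set_option autoImplicit false
set_option linter.unusedSectionVars false
set_option linter.unusedVariables false

namespace Groth.Agent.H9.Wn
open Polynomial

universe u

/-- the action ring hom of a module structure, valued in `ℤ`-linear endomorphisms. -/
noncomputable def actHom (R : Type*) [Ring R] (T : Type*) [AddCommGroup T] [Module R T] :
    R →+* Module.End ℤ T where
  toFun r :=
    { toFun := fun t => r • t
      map_add' := smul_add r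
      map_smul' := fun n t => by
        simp only [eq_intCast, Int.cast_id]
        exact map_zsmul (smulAddHom R T r) n t }
  map_one' := by ext t; simp
  map_mul' := fun a b => by ext t; simp [mul_smul]
  map_zero' := by ext t; simp
  map_add' := fun a b => by ext t; simp [add_smul]

lemma actHom_apply (R : Type*) [Ring R] (T : Type*) [AddCommGroup T] [Module R T] (r : R) (t : T) :
    actHom R T r t = r • t := rfl

lemma ringHom_aeval {R S : Type*} [Ring R] [Ring S] [Algebra ℤ R] [Algebra ℤ S] (Θ : R →+* S)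
    (x : R) (P : ℤ[X]) : Θ (aeval x P) = aeval (Θ x) P := by
  rw [aeval_def, aeval_def, hom_eval₂]
  congr 1
  exact Subsingleton.elim _ _

end Groth.Agent.H9.Wn

namespace Groth.Agent.H9.Wn
open Polynomial

universe u

open scoped IsMulCommutative in
theorem main3 (p e : ℕ) [Fact p.Prime] (he : 0 < e)
    (ι : Type) [Fintype ι] (K : ι → Type u) [∀ i, Field (K i)] [∀ i, CharZero (K i)]
    (π : ∀ i, K i)
    (hint : ∀ i, IsIntegral ℤ (π i))
    (hweil : ∀ i, ∀ z ∈ (minpoly ℤ (π i)).aroots ℂ, ‖z‖ = Real.sqrt ((p : ℝ) ^ e))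
    (hinj : ∀ i j, minpoly ℤ (π i) = minpoly ℤ (π j) → i = j)
    (D : ℕ) (hD : ∑ i, (minpoly ℤ (π i)).natDegree = 2 * D)
    (T : Type) [AddCommGroup T] [Module.Finite ℤ T] [Module.Free ℤ T] (FT : T →ₗ[ℤ] T) :
    (∃ _ : Module (MvPolynomial.aeval ![fun i => π i, fun i => ((p : K i) ^ e) / π i] :
        MvPolynomial (Fin 2) ℤ →ₐ[ℤ] ((i : ι) → K i)).range T,
        ∀ t : T, (⟨(MvPolynomial.aeval ![fun i => π i, fun i => ((p : K i) ^ e) / π i] :
        MvPolynomial (Fin 2) ℤ →ₐ[ℤ] ((i : ι) → K i)) (MvPolynomial.X 0),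
          AlgHom.mem_range_self _ _⟩ : (MvPolynomial.aeval
            ![fun i => π i, fun i => ((p : K i) ^ e) / π i] :
        MvPolynomial (Fin 2) ℤ →ₐ[ℤ] ((i : ι) → K i)).range) • t = FT t) ↔
      (Polynomial.aeval FT (∏ i, minpoly ℤ (π i)) = 0 ∧
        ∃ VT : T →ₗ[ℤ] T, FT ∘ₗ VT = ((p : ℤ) ^ e) • LinearMap.id) := by
  obtain ⟨hfe, ⟨ε, hε, hc0⟩, hπ0⟩ := weil_data p e ι K π hint hweil D hD
  set q : ℤ := (p : ℤ) ^ e with hq
  have hp : (p : ℤ) ≠ 0 := by exact_mod_cast (Fact.out : p.Prime).ne_zero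
  have hq0 : q ≠ 0 := pow_ne_zero _ hp
  set Pw := ∏ i, minpoly ℤ (π i) with hPw
  have hmonic : Pw.Monic := monic_prod_of_monic _ _ (fun i _ => minpoly.monic (hint i))
  have hdeg : Pw.natDegree = 2 * D := by
    rw [hPw, natDegree_prod_of_monic _ _ (fun i _ => minpoly.monic (hint i)), hD]
  set h : A := nf (hA D Pw) (hB D ε Pw) with hh
  have hhI : MvPolynomial.X 0 ^ D * h - aeval (MvPolynomial.X 0 : A) Pw ∈ I q :=
    h_exists q hq0 D Pw hdeg ε hε hc0 hfe
  obtain ⟨hker, -⟩ := main p e he ι K π hint hweil hinj D hD h hhI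
  set φ : A →ₐ[ℤ] ((i : ι) → K i) :=
    MvPolynomial.aeval ![fun i => π i, fun i => ((p : K i) ^ e) / π i] with hφ
  let ρ : A →+* φ.range := (φ.rangeRestrict : A →+* φ.range)
  have hρs : Function.Surjective ρ := φ.rangeRestrict_surjective
  have hρk : RingHom.ker ρ = J q h := by
    have : RingHom.ker ρ = RingHom.ker φ := φ.ker_rangeRestrict
    rw [this]; exact hker
  have hgenk : MvPolynomial.X 0 * MvPolynomial.X 1 - MvPolynomial.C q ∈ RingHom.ker ρ := by
    rw [hρk]; exact I_le_J q h (gen_mem_I q)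
  have hPwk : aeval (MvPolynomial.X 0 : A) Pw ∈ RingHom.ker ρ := by
    rw [hρk]
    have h1 : MvPolynomial.X 0 ^ D * h ∈ J q h := Ideal.mul_mem_left _ _ (h_mem_J q h)
    have h2 := I_le_J q h hhI
    have : aeval (MvPolynomial.X 0 : A) Pw = MvPolynomial.X 0 ^ D * h -
        (MvPolynomial.X 0 ^ D * h - aeval (MvPolynomial.X 0 : A) Pw) := by ring
    rw [this]
    exact Ideal.sub_mem _ h1 h2
  have hρC : ρ (MvPolynomial.C q) = ((q : ℤ) : φ.range) := by
    rw [← MvPolynomial.algebraMap_eq, eq_intCast, map_intCast]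
  constructor
  · rintro ⟨inst, hF⟩
    letI := inst
    let Θ : φ.range →+* Module.End ℤ T := actHom φ.range T
    have hΘF : Θ (ρ (MvPolynomial.X 0)) = FT := LinearMap.ext (fun t => hF t)
    refine ⟨?_, Θ (ρ (MvPolynomial.X 1)), ?_⟩
    · rw [← hΘF, ← ringHom_aeval Θ, ← ringHom_aeval ρ, (RingHom.mem_ker).1 hPwk, map_zero]
    · apply LinearMap.ext
      intro t
      rw [LinearMap.comp_apply, ← hΘF]
      show ρ (MvPolynomial.X 0) • (ρ (MvPolynomial.X 1) • t) = _
      rw [← mul_smul, ← map_mul]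
      have h1 : ρ (MvPolynomial.X 0 * MvPolynomial.X 1) = ρ (MvPolynomial.C q) := by
        rw [RingHom.mem_ker, map_sub, sub_eq_zero] at hgenk
        exact hgenk
      rw [h1, hρC, Int.cast_smul_eq_zsmul]
      rfl
  · rintro ⟨hP, VT, hFV⟩
    have hc0ne : Pw.coeff 0 ≠ 0 := by
      rw [hc0]
      have h3 : ε ≠ 0 := by
        intro h; rw [h] at hε; simp at hε
      exact mul_ne_zero h3 (pow_ne_zero D hq0)
    have hinjF : Function.Injective FT := by
      rw [← LinearMap.ker_eq_bot, LinearMap.ker_eq_bot']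
      intro t ht
      by_contra hne
      have hev : Module.End.HasEigenvector FT (0 : ℤ) t := by
        refine ⟨?_, hne⟩
        rw [Module.End.mem_eigenspace_iff, ht, zero_smul]
      have h1 := Module.End.aeval_apply_of_hasEigenvector (p := Pw) hev
      rw [hP, ← coeff_zero_eq_eval_zero] at h1
      have h2 : Pw.coeff 0 • t = 0 := by rw [← h1]; rfl
      rcases smul_eq_zero.1 h2 with h3 | h3
      · exact hc0ne h3
      · exact hne h3
    have hVF : VT ∘ₗ FT = q • LinearMap.id := by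
      apply LinearMap.ext
      intro t
      apply hinjF
      have h1 := LinearMap.congr_fun hFV (FT t)
      simp only [LinearMap.comp_apply, LinearMap.smul_apply, LinearMap.id_apply] at h1 ⊢
      rw [h1, map_zsmul]
    have hcomm : FT * VT = VT * FT := by
      rw [Module.End.mul_eq_comp, Module.End.mul_eq_comp, hFV, hVF]
    let s : Set (Module.End ℤ T) := {FT, VT}
    have hcomm_s : ∀ a ∈ s, ∀ b ∈ s, a * b = b * a := by
      intro a ha b hb
      rcases ha with rfl | ha <;> rcases hb with rfl | hb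
      · rfl
      · rw [Set.mem_singleton_iff] at hb; rw [hb]; exact hcomm
      · rw [Set.mem_singleton_iff] at ha; rw [ha]; exact hcomm.symm
      · rw [Set.mem_singleton_iff] at ha hb; rw [ha, hb]
    haveI := Algebra.isMulCommutative_adjoin ℤ hcomm_s
    let F0 : Algebra.adjoin ℤ s := ⟨FT, Algebra.subset_adjoin (Set.mem_insert _ _)⟩
    let V0 : Algebra.adjoin ℤ s :=
      ⟨VT, Algebra.subset_adjoin (Set.mem_insert_of_mem _ (Set.mem_singleton _))⟩
    let θ : A →ₐ[ℤ] Algebra.adjoin ℤ s := MvPolynomial.aeval ![F0, V0]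
    let θ' : A →+* Module.End ℤ T :=
      ((Algebra.adjoin ℤ s).val : Algebra.adjoin ℤ s →+* Module.End ℤ T).comp
        (θ : A →+* Algebra.adjoin ℤ s)
    have hθ'0 : θ' (MvPolynomial.X 0) = FT := by
      show ((θ (MvPolynomial.X 0) : Algebra.adjoin ℤ s) : Module.End ℤ T) = FT
      simp [θ, F0]
    have hθ'1 : θ' (MvPolynomial.X 1) = VT := by
      show ((θ (MvPolynomial.X 1) : Algebra.adjoin ℤ s) : Module.End ℤ T) = VT
      simp [θ, V0]
    have hθ'C : θ' (MvPolynomial.C q) = q • (1 : Module.End ℤ T) := by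
      rw [← MvPolynomial.algebraMap_eq, eq_intCast, map_intCast]
      simp
    have hIle : I q ≤ RingHom.ker θ' := by
      unfold I
      rw [Ideal.span_le]
      intro x hx
      rw [Set.mem_singleton_iff] at hx
      rw [hx, SetLike.mem_coe, RingHom.mem_ker, map_sub, map_mul, hθ'0, hθ'1, hθ'C,
        Module.End.mul_eq_comp, hFV]
      exact sub_self _
    have hhle : h ∈ RingHom.ker θ' := by
      have h1 := hIle hhI
      rw [RingHom.mem_ker, map_sub, map_mul, map_pow, hθ'0, ringHom_aeval θ', hθ'0, hP,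
        sub_zero] at h1
      rw [RingHom.mem_ker]
      apply LinearMap.ext
      intro t
      have h2 := LinearMap.congr_fun h1 t
      rw [Module.End.mul_apply, Module.End.pow_apply] at h2
      exact (hinjF.iterate D) (by rw [h2]; simp)
    have hle : RingHom.ker ρ ≤ RingHom.ker θ' := by
      rw [hρk]; exact J_le q h _ hIle hhle
    let Θ : φ.range →+* Module.End ℤ T := ρ.liftOfSurjective hρs ⟨θ', hle⟩
    have hΘ : ∀ x, Θ (ρ x) = θ' x := fun x =>
      RingHom.liftOfRightInverse_comp_apply ρ _ _ ⟨θ', hle⟩ x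
    refine ⟨Module.compHom T Θ, fun t => ?_⟩
    show (Θ (ρ (MvPolynomial.X 0))) t = FT t
    rw [hΘ, hθ'0]

end Groth.Agent.H9.Wn
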