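import Mathlib
import Groth.Agent.Lib.Helper9.WeilRecip

set_option autoImplicit false
set_option linter.unusedSectionVars false
set_option linter.unusedVariables false
open Polynomial

namespace Groth.Agent.H9.Wn

section Ultra
variable {L : Type*} [NormedField L] [IsUltrametricDist L]

lemma norm_sum_lt_one {ι : Type*} (s : Finset ι) (f : ι → L) (h : ∀ i ∈ s, ‖f i‖ < 1) :
    ‖∑ i ∈ s, f i‖ < 1 := by
  classical
  induction s using Finset.induction_on with
  | empty => simp
  | insert a s ha ih =>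
    rw [Finset.sum_insert ha]
    exact lt_of_le_of_lt (IsUltrametricDist.norm_add_le_max _ _)
      (max_lt (h a (Finset.mem_insert_self a s))
        (ih (fun i hi => h i (Finset.mem_insert_of_mem hi))))

lemma norm_sub_le_max' (a b : L) : ‖a - b‖ ≤ max ‖a‖ ‖b‖ := by
  rw [sub_eq_add_neg]
  have := IsUltrametricDist.norm_add_le_max a (-b)
  rwa [norm_neg] at this

/-- the monic polynomial with prescribed roots -/
noncomputable def prodX (T : Multiset L) : L[X] := (T.map (fun a => X - C a)).prod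

lemma prodX_zero : prodX (0 : Multiset L) = 1 := by simp [prodX]

lemma prodX_cons (a : L) (T : Multiset L) : prodX (a ::ₘ T) = (X - C a) * prodX T := by
  simp [prodX]

lemma prodX_add (S T : Multiset L) : prodX (S + T) = prodX S * prodX T := by
  simp [prodX]

lemma prodX_monic (T : Multiset L) : (prodX T).Monic := by
  unfold prodX
  apply monic_multiset_prod_of_monic
  intro a _
  exact monic_X_sub_C a

lemma prodX_natDegree (T : Multiset L) : (prodX T).natDegree = Multiset.card T := by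
  unfold prodX
  exact natDegree_multiset_prod_X_sub_C_eq_card T

lemma coeff_X_sub_C_mul_zero (a : L) (g : L[X]) : ((X - C a) * g).coeff 0 = - (a * g.coeff 0) := by
  rw [sub_mul, coeff_sub, coeff_X_mul_zero, coeff_C_mul, zero_sub]

lemma coeff_X_sub_C_mul_succ (a : L) (g : L[X]) (k : ℕ) :
    ((X - C a) * g).coeff (k + 1) = g.coeff k - a * g.coeff (k + 1) := by
  rw [sub_mul, coeff_sub, coeff_X_mul, coeff_C_mul]

lemma prodX_coeff_le (T : Multiset L) (h : ∀ a ∈ T, ‖a‖ ≤ 1) : ∀ k, ‖(prodX T).coeff k‖ ≤ 1 := by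
  induction T using Multiset.induction_on with
  | empty =>
    intro k
    rw [prodX_zero, coeff_one]
    split_ifs <;> simp
  | cons a T ih =>
    have ih' := ih (fun b hb => h b (Multiset.mem_cons_of_mem hb))
    have ha := h a (Multiset.mem_cons_self a T)
    intro k
    rw [prodX_cons]
    cases k with
    | zero =>
      rw [coeff_X_sub_C_mul_zero, norm_neg, norm_mul]
      exact mul_le_one₀ ha (norm_nonneg _) (ih' 0)
    | succ k =>
      rw [coeff_X_sub_C_mul_succ]
      refine (norm_sub_le_max' _ _).trans (max_le (ih' k) ?_)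
      rw [norm_mul]
      exact mul_le_one₀ ha (norm_nonneg _) (ih' (k + 1))

lemma prodX_coeff_lt (T : Multiset L) (h : ∀ a ∈ T, ‖a‖ < 1) :
    ∀ k < Multiset.card T, ‖(prodX T).coeff k‖ < 1 := by
  induction T using Multiset.induction_on with
  | empty =>
    intro k hk
    simp at hk
  | cons a T ih =>
    have ih' := ih (fun b hb => h b (Multiset.mem_cons_of_mem hb))
    have hle := prodX_coeff_le T (fun b hb => (h b (Multiset.mem_cons_of_mem hb)).le)
    have ha := h a (Multiset.mem_cons_self a T)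
    intro k hk
    rw [Multiset.card_cons] at hk
    rw [prodX_cons]
    cases k with
    | zero =>
      rw [coeff_X_sub_C_mul_zero, norm_neg, norm_mul]
      calc ‖a‖ * ‖(prodX T).coeff 0‖ ≤ ‖a‖ * 1 :=
            mul_le_mul_of_nonneg_left (hle 0) (norm_nonneg _)
        _ < 1 := by rw [mul_one]; exact ha
    | succ k =>
      rw [coeff_X_sub_C_mul_succ]
      refine lt_of_le_of_lt (norm_sub_le_max' _ _) (max_lt (ih' k (by omega)) ?_)
      rw [norm_mul]
      calc ‖a‖ * ‖(prodX T).coeff (k + 1)‖ ≤ ‖a‖ * 1 :=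
            mul_le_mul_of_nonneg_left (hle (k + 1)) (norm_nonneg _)
        _ < 1 := by rw [mul_one]; exact ha

lemma prodX_coeff_zero_norm (T : Multiset L) (h : ∀ a ∈ T, ‖a‖ = 1) :
    ‖(prodX T).coeff 0‖ = 1 := by
  induction T using Multiset.induction_on with
  | empty => rw [prodX_zero, coeff_one]; simp
  | cons a T ih =>
    rw [prodX_cons, coeff_X_sub_C_mul_zero, norm_neg, norm_mul,
      ih (fun b hb => h b (Multiset.mem_cons_of_mem hb)), h a (Multiset.mem_cons_self a T), mul_one]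

/-- coefficients of a product `U * N` with `N` "distinguished" -/
lemma coeff_mul_dist (U N : L[X]) (m : ℕ) (hN : N.Monic) (hm : N.natDegree = m)
    (hNlt : ∀ j < m, ‖N.coeff j‖ < 1) (hU : ∀ i, ‖U.coeff i‖ ≤ 1) (hU0 : ‖U.coeff 0‖ = 1) :
    ‖(U * N).coeff m‖ = 1 ∧ ∀ k < m, ‖(U * N).coeff k‖ < 1 := by
  classical
  constructor
  · rw [coeff_mul]
    have hmem : ((0, m) : ℕ × ℕ) ∈ Finset.HasAntidiagonal.antidiagonal m := by simp
    rw [← Finset.add_sum_erase _ _ hmem]
    have h1 : U.coeff 0 * N.coeff m = U.coeff 0 := by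
      rw [← hm, hN.coeff_natDegree, mul_one]
    have h2 : ‖∑ x ∈ (Finset.HasAntidiagonal.antidiagonal m).erase (0, m), U.coeff x.1 * N.coeff x.2‖ < 1 := by
      apply norm_sum_lt_one
      intro x hx
      obtain ⟨hne, hx'⟩ := Finset.mem_erase.mp hx
      rw [Finset.HasAntidiagonal.mem_antidiagonal] at hx'
      have hx2 : x.2 < m := by
        by_contra hcon
        have h3 : x.2 = m := by omega
        have h4 : x.1 = 0 := by omega
        exact hne (Prod.ext h4 h3)
      rw [norm_mul]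
      calc ‖U.coeff x.1‖ * ‖N.coeff x.2‖ ≤ 1 * ‖N.coeff x.2‖ :=
            mul_le_mul_of_nonneg_right (hU _) (norm_nonneg _)
        _ < 1 := by rw [one_mul]; exact hNlt _ hx2
    show ‖U.coeff (0, m).1 * N.coeff (0, m).2 +
      ∑ x ∈ (Finset.HasAntidiagonal.antidiagonal m).erase (0, m), U.coeff x.1 * N.coeff x.2‖ = 1
    rw [show U.coeff ((0, m) : ℕ × ℕ).1 * N.coeff ((0, m) : ℕ × ℕ).2 = U.coeff 0 from h1,
      IsUltrametricDist.norm_add_eq_max_of_norm_ne_norm (by rw [hU0]; exact h2.ne'), hU0]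
    exact max_eq_left h2.le
  · intro k hk
    rw [coeff_mul]
    apply norm_sum_lt_one
    intro x hx
    rw [Finset.HasAntidiagonal.mem_antidiagonal] at hx
    rw [norm_mul]
    calc ‖U.coeff x.1‖ * ‖N.coeff x.2‖ ≤ 1 * ‖N.coeff x.2‖ :=
          mul_le_mul_of_nonneg_right (hU _) (norm_nonneg _)
      _ < 1 := by rw [one_mul]; exact hNlt _ (by omega)

/-- roots of a monic polynomial with coefficients of norm `≤ 1` have norm `≤ 1` -/
lemma norm_root_le_one (f : L[X]) (hf : f.Monic) (hc : ∀ k, ‖f.coeff k‖ ≤ 1) (α : L)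
    (hα : f.eval α = 0) : ‖α‖ ≤ 1 := by
  by_contra hcon
  push Not at hcon
  set n := f.natDegree with hn
  rw [eval_eq_sum_range, ← hn, Finset.sum_range_succ, hn, hf.coeff_natDegree, one_mul, ← hn] at hα
  have h1 : α ^ n = - ∑ k ∈ Finset.range n, f.coeff k * α ^ k := by
    rw [eq_neg_iff_add_eq_zero, add_comm]; exact hα
  have hn0 : n ≠ 0 := by
    intro h0
    rw [h0] at h1
    simp at h1
  have h2 : ‖∑ k ∈ Finset.range n, f.coeff k * α ^ k‖ ≤ ‖α‖ ^ (n - 1) := by
    apply IsUltrametricDist.norm_sum_le_of_forall_le_of_nonneg (pow_nonneg (norm_nonneg _) _)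
    intro k hk
    rw [Finset.mem_range] at hk
    rw [norm_mul, norm_pow]
    calc ‖f.coeff k‖ * ‖α‖ ^ k ≤ 1 * ‖α‖ ^ k :=
          mul_le_mul_of_nonneg_right (hc k) (pow_nonneg (norm_nonneg _) _)
      _ = ‖α‖ ^ k := one_mul _
      _ ≤ ‖α‖ ^ (n - 1) := pow_le_pow_right₀ hcon.le (by omega)
  have h3 : ‖α‖ ^ n ≤ ‖α‖ ^ (n - 1) := by
    rw [← norm_pow, h1, norm_neg]; exact h2
  have h4 : ‖α‖ ^ (n - 1) < ‖α‖ ^ n := pow_lt_pow_right₀ hcon (by omega)
  exact absurd h3 (not_le.mpr h4)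

end Ultra

section Main

variable (p : ℕ) [Fact p.Prime]

lemma norm_intCast_le_one (z : ℤ) : ‖(z : PadicAlgCl p)‖ ≤ 1 := by
  have h : (z : PadicAlgCl p) = ((z : ℚ_[p]) : PadicAlgCl p) := by
    exact (map_intCast (algebraMap ℚ_[p] (PadicAlgCl p)) z).symm
  rw [h, PadicAlgCl.norm_extends]
  exact Padic.norm_int_le_one z

lemma norm_intCast_lt_one_iff (z : ℤ) : ‖(z : PadicAlgCl p)‖ < 1 ↔ (p : ℤ) ∣ z := by
  have h : (z : PadicAlgCl p) = ((z : ℚ_[p]) : PadicAlgCl p) := by
    exact (map_intCast (algebraMap ℚ_[p] (PadicAlgCl p)) z).symm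
  rw [h, PadicAlgCl.norm_extends]
  exact Padic.norm_intCast_lt_one_iff

theorem ordinary_iff (e : ℕ) (he : 0 < e) (P : ℤ[X]) (hP : P.Monic)
    (hweil : ∀ z ∈ P.aroots ℂ, ‖z‖ = Real.sqrt ((p : ℝ) ^ e))
    (hnr : ∀ z ∈ P.aroots ℂ, z.im ≠ 0) :
    2 * Multiset.card ((P.aroots (PadicAlgCl p)).filter (fun z => ‖z‖ = 1)) = P.natDegree ↔
      ¬ ((p : ℤ) ∣ P.coeff (P.natDegree / 2)) := by
  classical
  have hqpos : 0 < p ^ e := pow_pos (Fact.out : p.Prime).pos e
  have hw : ∀ z ∈ P.aroots ℂ, ‖z‖ = Real.sqrt ((p ^ e : ℕ) : ℝ) := by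
    intro z hz
    rw [hweil z hz]
    push_cast
    rfl
  obtain ⟨heven, hfe⟩ := Groth.Agent.H9.WeilRecip.weil P hP (p ^ e) hqpos hw hnr
  set d := P.natDegree / 2 with hd
  have hdeg : P.natDegree = 2 * d := by
    obtain ⟨r, hr⟩ := heven
    omega
  set PL : (PadicAlgCl p)[X] := P.map (algebraMap ℤ (PadicAlgCl p)) with hPL
  have hmon : PL.Monic := hP.map _
  have hsplit : PL.Splits := IsAlgClosed.splits PL
  set S : Multiset (PadicAlgCl p) := PL.roots with hS
  have hSa : P.aroots (PadicAlgCl p) = S := rfl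
  rw [hSa]
  have hn : PL.natDegree = 2 * d := by rw [hP.natDegree_map, hdeg]
  have hcard : Multiset.card S = 2 * d := by
    rw [← hn]; exact hsplit.natDegree_eq_card_roots.symm
  have hcoeff : ∀ i, PL.coeff i = ((P.coeff i : ℤ) : PadicAlgCl p) := by
    intro i; rw [hPL, coeff_map]; simp
  have hPLprod : PL = prodX S := by
    have := hsplit.eq_prod_roots
    rw [hmon.leadingCoeff, map_one, one_mul] at this
    exact this
  have hcle : ∀ k, ‖PL.coeff k‖ ≤ 1 := by
    intro k; rw [hcoeff]; exact norm_intCast_le_one p _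
  have hroot_le : ∀ α ∈ S, ‖α‖ ≤ 1 := by
    intro α hα
    exact norm_root_le_one PL hmon hcle α (isRoot_of_mem_roots hα)
  set Su := S.filter (fun z => ‖z‖ = 1) with hSu
  set Sn := S.filter (fun z => ¬ ‖z‖ = 1) with hSn
  have hsplitS : Su + Sn = S := Multiset.filter_add_not _ S
  have hSn_lt : ∀ α ∈ Sn, ‖α‖ < 1 := by
    intro α hα
    obtain ⟨h1, h2⟩ := Multiset.mem_filter.mp hα
    exact lt_of_le_of_ne (hroot_le α h1) h2
  have hSu_eq : ∀ α ∈ Su, ‖α‖ = 1 := fun α hα => (Multiset.mem_filter.mp hα).2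
  set u := Multiset.card Su with hu
  set m := Multiset.card Sn with hm
  have hum : u + m = 2 * d := by
    rw [hu, hm, ← Multiset.card_add, hsplitS, hcard]
  have hfact : PL = prodX Su * prodX Sn := by
    rw [hPLprod, ← prodX_add, hsplitS]
  obtain ⟨hkey1, hkey2⟩ := coeff_mul_dist (prodX Su) (prodX Sn) m (prodX_monic Sn)
    (prodX_natDegree Sn) (prodX_coeff_lt Sn hSn_lt)
    (prodX_coeff_le Su (fun a ha => (hSu_eq a ha).le)) (prodX_coeff_zero_norm Su hSu_eq)
  rw [← hfact] at hkey1 hkey2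
  -- the norm of `q`
  have hq_lt : ‖((p ^ e : ℕ) : PadicAlgCl p)‖ < 1 := by
    have h1 : ((p ^ e : ℕ) : PadicAlgCl p) = (((p ^ e : ℕ) : ℤ) : PadicAlgCl p) := by push_cast; rfl
    rw [h1, norm_intCast_lt_one_iff]
    push_cast
    exact dvd_pow_self _ he.ne'
  -- below the middle, coefficients are small
  have hsmall : ∀ k < d, ‖PL.coeff k‖ < 1 := by
    intro k hk
    have h1 := hfe (d - k) (by omega)
    have e1 : d - (d - k) = k := by omega
    rw [e1] at h1
    rw [hcoeff, h1]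
    push_cast
    rw [norm_mul, norm_pow]
    have h2 : ‖((P.coeff (d + (d - k)) : ℤ) : PadicAlgCl p)‖ ≤ 1 := norm_intCast_le_one p _
    have h3 : ‖(p : PadicAlgCl p) ^ e‖ < 1 := by
      have : ((p ^ e : ℕ) : PadicAlgCl p) = (p : PadicAlgCl p) ^ e := by push_cast; rfl
      rw [← this]; exact hq_lt
    have h4 : ‖(p : PadicAlgCl p) ^ e‖ ^ (d - k) < 1 :=
      pow_lt_one₀ (norm_nonneg _) h3 (by omega)
    calc ‖(p : PadicAlgCl p) ^ e‖ ^ (d - k) * ‖((P.coeff (d + (d - k)) : ℤ) : PadicAlgCl p)‖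
        ≤ ‖(p : PadicAlgCl p) ^ e‖ ^ (d - k) * 1 :=
          mul_le_mul_of_nonneg_left h2 (pow_nonneg (norm_nonneg _) _)
      _ < 1 := by rw [mul_one]; exact h4
  have hmd : d ≤ m := by
    by_contra hcon
    push Not at hcon
    have := hsmall m hcon
    rw [hkey1] at this
    exact lt_irrefl _ this
  have hnormd : ‖PL.coeff d‖ < 1 ↔ (p : ℤ) ∣ P.coeff d := by
    rw [hcoeff]; exact norm_intCast_lt_one_iff p _
  constructor
  · intro h
    have hud : u = d := by omega
    have hmd' : m = d := by omega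
    rw [← hnormd, ← hmd', hkey1]
    exact lt_irrefl _
  · intro h
    rw [← hnormd] at h
    have hmd' : ¬ d < m := fun hlt => h (hkey2 d hlt)
    omega

end Main

end Groth.Agent.H9.Wn
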