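import Mathlib

set_option autoImplicit false
set_option linter.unusedSectionVars false
set_option linter.unusedVariables false

namespace Groth.Agent.H9.Wronsk

open Polynomial

variable {k : Type*} [Field k] [CharZero k]

noncomputable def Lop (a b : ℕ) (M : k[X]) : k[X] :=
  X * (X - 1) * derivative M - (((a : k[X]) + (b : k[X])) * X - (a : k[X])) * M

lemma Lop_zero (a b : ℕ) : Lop a b (0 : k[X]) = 0 := by simp [Lop]

lemma Lop_add (a b : ℕ) (M N : k[X]) : Lop a b (M + N) = Lop a b M + Lop a b N := by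
  unfold Lop; rw [derivative_add]; ring

lemma Lop_sub (a b : ℕ) (M N : k[X]) : Lop a b (M - N) = Lop a b M - Lop a b N := by
  unfold Lop; rw [derivative_sub]; ring

lemma Lop_C_mul (a b : ℕ) (c : k) (M : k[X]) : Lop a b (C c * M) = C c * Lop a b M := by
  unfold Lop; rw [derivative_C_mul]; ring

lemma deriv_pow_succ (p : k[X]) (n : ℕ) :
    derivative (p ^ (n+1)) = ((n : k[X]) + 1) * p ^ n * derivative p := by
  rw [derivative_pow, Nat.add_sub_cancel, C_eq_natCast]; push_cast; ring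

lemma Lop_X_pow_mul (a b : ℕ) (ha : 0 < a) (G : k[X]) :
    Lop a b (X ^ a * G) = X ^ (a+1) * ((X - 1) * derivative G - (b : k[X]) * G) := by
  obtain ⟨a', rfl⟩ : ∃ a', a = a' + 1 := ⟨a - 1, by omega⟩
  unfold Lop
  rw [derivative_mul, deriv_pow_succ, derivative_X]
  push_cast
  ring

lemma Lop_X_sub_one_pow_mul (a b : ℕ) (hb : 0 < b) (H : k[X]) :
    Lop a b ((X - 1) ^ b * H) = (X - 1) ^ (b+1) * (X * derivative H - (a : k[X]) * H) := by
  obtain ⟨b', rfl⟩ : ∃ b', b = b' + 1 := ⟨b - 1, by omega⟩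
  unfold Lop
  rw [derivative_mul, deriv_pow_succ, derivative_sub, derivative_X, derivative_one, sub_zero]
  push_cast
  ring

lemma Lop_D (a b : ℕ) (ha : 0 < a) (hb : 0 < b) :
    Lop a b ((X:k[X]) ^ a * (X - 1) ^ b) = 0 := by
  rw [Lop_X_pow_mul a b ha]
  obtain ⟨b', rfl⟩ : ∃ b', b = b' + 1 := ⟨b - 1, by omega⟩
  rw [deriv_pow_succ, derivative_sub, derivative_X, derivative_one, sub_zero]
  push_cast
  ring

lemma Lop_XD (a b : ℕ) (ha : 0 < a) (hb : 0 < b) :
    Lop a b ((X:k[X]) ^ (a+1) * (X - 1) ^ b) = X ^ (a+1) * (X - 1) ^ (b+1) := by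
  obtain ⟨b', rfl⟩ : ∃ b', b = b' + 1 := ⟨b - 1, by omega⟩
  unfold Lop
  rw [derivative_mul, deriv_pow_succ, deriv_pow_succ, derivative_sub, derivative_X,
    derivative_one, sub_zero]
  push_cast
  ring

lemma coeff_X_mul_derivative (H : k[X]) (n : ℕ) :
    (X * derivative H).coeff n = (n:k) * H.coeff n := by
  cases n with
  | zero => simp
  | succ n => rw [coeff_X_mul, coeff_derivative]; push_cast; ring

lemma exists_H (a : ℕ) (h : k[X]) (hh : h.natDegree < a) :
    ∃ H : k[X], H.natDegree < a ∧ X * derivative H - (a : k[X]) * H = h := by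
  have hc : ∀ n, (∑ t ∈ Finset.range a, monomial t (h.coeff t / ((t:k) - a))).coeff n
      = if n < a then h.coeff n / ((n:k) - a) else 0 := by
    intro n
    simp only [finsetSum_coeff, coeff_monomial, Finset.sum_ite_eq', Finset.mem_range]
  refine ⟨∑ t ∈ Finset.range a, monomial t (h.coeff t / ((t:k) - a)), ?_, ?_⟩
  · have h1 : (∑ t ∈ Finset.range a, monomial t (h.coeff t / ((t:k) - a))).natDegree ≤ a - 1 := by
      rw [natDegree_le_iff_coeff_eq_zero]
      intro N hN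
      rw [hc, if_neg (by omega)]
    omega
  · ext n
    rw [coeff_sub, coeff_X_mul_derivative, ← C_eq_natCast, coeff_C_mul, hc]
    split_ifs with hn
    · have hne : ((n:k) - a) ≠ 0 := sub_ne_zero.mpr (by exact_mod_cast (ne_of_lt hn))
      field_simp
    · rw [coeff_eq_zero_of_natDegree_lt (by omega)]; ring

lemma natDegree_X_add_one : ((X : k[X]) + 1).natDegree = 1 := by
  rw [← C_1]; exact natDegree_X_add_C 1

lemma natDegree_X_sub_one : ((X : k[X]) - 1).natDegree = 1 := by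
  rw [← C_1]; exact natDegree_X_sub_C 1

lemma X_sub_one_ne : ((X : k[X]) - 1) ≠ 0 := by
  intro h0
  have := natDegree_X_sub_one (k := k)
  rw [h0] at this
  simp at this

lemma exists_G (b : ℕ) (g : k[X]) (hg : g.natDegree < b) :
    ∃ G : k[X], G.natDegree < b ∧ (X - 1) * derivative G - (b : k[X]) * G = g := by
  obtain ⟨H, hH, hHe⟩ := exists_H b (g.comp (X + 1))
    (by rw [natDegree_comp, natDegree_X_add_one, mul_one]; exact hg)
  refine ⟨H.comp (X - 1), by rw [natDegree_comp, natDegree_X_sub_one, mul_one]; exact hH, ?_⟩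
  have e1 : (X * derivative H - (b : k[X]) * H).comp (X - 1) = g := by
    rw [hHe, comp_assoc]
    simp
  rw [← e1, sub_comp, mul_comp, mul_comp, X_comp, natCast_comp, derivative_comp]
  simp

lemma piece1 (a b : ℕ) (ha : 0 < a) (hb : 0 < b) (y : k[X]) (hdvd : (X:k[X]) ^ (a+1) ∣ y)
    (hdeg : y.natDegree ≤ a + b) : ∃ N : k[X], N.natDegree ≤ a + b + 1 ∧ Lop a b N = y := by
  obtain ⟨g, rfl⟩ := hdvd
  by_cases hg : g = 0
  · exact ⟨0, by simp, by rw [hg, mul_zero, Lop_zero]⟩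
  · have h1 : ((X:k[X]) ^ (a+1) * g).natDegree = (a+1) + g.natDegree := by
      rw [natDegree_mul (pow_ne_zero _ X_ne_zero) hg, natDegree_X_pow]
    obtain ⟨G, hG, hGe⟩ := exists_G b g (by omega)
    refine ⟨X ^ a * G, ?_, ?_⟩
    · calc (X ^ a * G).natDegree ≤ (X ^ a : k[X]).natDegree + G.natDegree := natDegree_mul_le
        _ ≤ a + b + 1 := by rw [natDegree_X_pow]; omega
    · rw [Lop_X_pow_mul a b ha, hGe]

lemma piece2 (a b : ℕ) (ha : 0 < a) (hb : 0 < b) (y : k[X])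
    (hdvd : ((X:k[X]) - 1) ^ (b+1) ∣ y)
    (hdeg : y.natDegree ≤ a + b) : ∃ N : k[X], N.natDegree ≤ a + b + 1 ∧ Lop a b N = y := by
  obtain ⟨h, rfl⟩ := hdvd
  by_cases hh : h = 0
  · exact ⟨0, by simp, by rw [hh, mul_zero, Lop_zero]⟩
  · have h1 : (((X:k[X]) - 1) ^ (b+1) * h).natDegree = (b+1) + h.natDegree := by
      rw [natDegree_mul (pow_ne_zero _ X_sub_one_ne) hh, natDegree_pow, natDegree_X_sub_one,
        mul_one]
    obtain ⟨H, hH, hHe⟩ := exists_H a h (by omega)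
    refine ⟨(X - 1) ^ b * H, ?_, ?_⟩
    · calc ((X - 1) ^ b * H).natDegree ≤ ((X - 1 : k[X]) ^ b).natDegree + H.natDegree :=
            natDegree_mul_le
        _ ≤ a + b + 1 := by rw [natDegree_pow, natDegree_X_sub_one, mul_one]; omega
    · rw [Lop_X_sub_one_pow_mul a b hb, hHe]

lemma claimA (a b : ℕ) (ha : 0 < a) (hb : 0 < b) (v : k[X])
    (hv : v ∈ ((Ideal.span {(X : k[X]) ^ (a + 1)}).restrictScalars k ⊓
        Polynomial.degreeLE k ↑(a + b)) ⊔
      ((Ideal.span {((X : k[X]) - 1) ^ (b + 1)}).restrictScalars k ⊓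
        Polynomial.degreeLE k ↑(a + b)) ⊔
      Submodule.span k {(X : k[X]) ^ (a + 1) * (X - 1) ^ (b + 1)}) :
    ∃ N : k[X], N.natDegree ≤ a + b + 1 ∧ Lop a b N = v := by
  rw [Submodule.mem_sup] at hv
  obtain ⟨y, hy, z, hz, rfl⟩ := hv
  rw [Submodule.mem_sup] at hy
  obtain ⟨y₁, hy₁, y₂, hy₂, rfl⟩ := hy
  rw [Submodule.mem_inf, Submodule.restrictScalars_mem, Ideal.mem_span_singleton,
    mem_degreeLE] at hy₁ hy₂
  obtain ⟨N₁, hN₁, hL₁⟩ := piece1 a b ha hb y₁ hy₁.1 (natDegree_le_of_degree_le hy₁.2)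
  obtain ⟨N₂, hN₂, hL₂⟩ := piece2 a b ha hb y₂ hy₂.1 (natDegree_le_of_degree_le hy₂.2)
  rw [Submodule.mem_span_singleton] at hz
  obtain ⟨c, rfl⟩ := hz
  refine ⟨N₁ + N₂ + C c * (X ^ (a+1) * (X - 1) ^ b), ?_, ?_⟩
  · refine (natDegree_add_le _ _).trans
      (max_le ((natDegree_add_le _ _).trans (max_le hN₁ hN₂)) ?_)
    refine (natDegree_C_mul_le _ _).trans ?_
    refine natDegree_mul_le.trans ?_
    rw [natDegree_X_pow, natDegree_pow, natDegree_X_sub_one, mul_one]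
    omega
  · rw [Lop_add, Lop_add, hL₁, hL₂, Lop_C_mul, Lop_XD a b ha hb, smul_eq_C_mul]

lemma X_sub_C_mul_deriv_pow (ρ : k) (t : ℕ) :
    (X - C ρ) * derivative ((X - C ρ) ^ t) = (t : k[X]) * (X - C ρ) ^ t := by
  cases t with
  | zero => simp
  | succ t =>
    rw [deriv_pow_succ, derivative_sub, derivative_X, derivative_C, sub_zero]
    push_cast
    ring

lemma stepG (P₁ Q M : k[X]) (ρ : k) (t m : ℕ) (hm : t + 1 ≤ m)
    (hne : (t:k) * P₁.eval ρ - Q.eval ρ ≠ 0)
    (hdiv : (X - C ρ) ^ m ∣ (X - C ρ) * P₁ * derivative M - Q * M)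
    (hM : (X - C ρ) ^ t ∣ M) : (X - C ρ) ^ (t+1) ∣ M := by
  obtain ⟨M₁, rfl⟩ := hM
  have hd := X_sub_C_mul_deriv_pow ρ t
  have key : (X - C ρ) * P₁ * derivative ((X - C ρ) ^ t * M₁) - Q * ((X - C ρ) ^ t * M₁) =
      (X - C ρ) ^ t * ((t : k[X]) * P₁ * M₁ + (X - C ρ) * P₁ * derivative M₁ - Q * M₁) := by
    rw [derivative_mul]
    linear_combination (P₁ * M₁) * hd
  rw [key] at hdiv
  have h1 : (X - C ρ) ^ t * (X - C ρ) ∣ (X - C ρ) ^ t *
      ((t : k[X]) * P₁ * M₁ + (X - C ρ) * P₁ * derivative M₁ - Q * M₁) := by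
    rw [← pow_succ]
    exact (pow_dvd_pow _ hm).trans hdiv
  rw [mul_dvd_mul_iff_left (pow_ne_zero _ (X_sub_C_ne_zero ρ))] at h1
  rw [dvd_iff_isRoot, IsRoot.def] at h1
  simp only [eval_add, eval_sub, eval_mul, eval_natCast, eval_X, eval_C] at h1
  have h2 : ((t:k) * P₁.eval ρ - Q.eval ρ) * M₁.eval ρ = 0 := by linear_combination h1
  have h3 : M₁.eval ρ = 0 := (mul_eq_zero.mp h2).resolve_left hne
  rw [pow_succ]
  exact mul_dvd_mul_left _ (dvd_iff_isRoot.mpr h3)

lemma climb (P₁ Q M : k[X]) (ρ : k) (t₀ m : ℕ)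
    (hne : ∀ t, t₀ ≤ t → t < m → (t:k) * P₁.eval ρ - Q.eval ρ ≠ 0)
    (hdiv : (X - C ρ) ^ m ∣ (X - C ρ) * P₁ * derivative M - Q * M)
    (hM : (X - C ρ) ^ t₀ ∣ M) (h0m : t₀ ≤ m) : (X - C ρ) ^ m ∣ M := by
  have : ∀ t, t₀ ≤ t → t ≤ m → (X - C ρ) ^ t ∣ M := by
    intro t ht
    induction t, ht using Nat.le_induction with
    | base => intro _; exact hM
    | succ t ht ih =>
      intro htm
      exact stepG P₁ Q M ρ t m htm (hne t ht (by omega)) hdiv (ih (by omega))
  exact this m h0m le_rfl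

lemma climb0 (a b : ℕ) (M : k[X]) (t₀ m : ℕ) (hne : ∀ t, t₀ ≤ t → t < m → t ≠ a)
    (hdiv : (X:k[X]) ^ m ∣ Lop a b M) (hM : (X:k[X]) ^ t₀ ∣ M) (h0m : t₀ ≤ m) :
    (X:k[X]) ^ m ∣ M := by
  have hX : (X - C (0:k)) = X := by simp
  have := climb (X - 1) (((a : k[X]) + (b : k[X])) * X - (a : k[X])) M (0:k) t₀ m ?_ ?_ ?_ h0m
  · rwa [hX] at this
  · intro t ht htm
    simp only [eval_sub, eval_X, eval_one, eval_mul, eval_add, eval_natCast]
    have h1 : (t:k) ≠ (a:k) := by exact_mod_cast hne t ht htm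
    intro h0
    apply h1
    linear_combination -h0
  · rw [hX]; exact hdiv
  · rw [hX]; exact hM

lemma climb1 (a b : ℕ) (M : k[X]) (t₀ m : ℕ) (hne : ∀ t, t₀ ≤ t → t < m → t ≠ b)
    (hdiv : ((X:k[X]) - 1) ^ m ∣ Lop a b M) (hM : ((X:k[X]) - 1) ^ t₀ ∣ M) (h0m : t₀ ≤ m) :
    ((X:k[X]) - 1) ^ m ∣ M := by
  have hX : (X - C (1:k)) = X - 1 := by simp
  have := climb X (((a : k[X]) + (b : k[X])) * X - (a : k[X])) M (1:k) t₀ m ?_ ?_ ?_ h0m
  · rwa [hX] at this
  · intro t ht htm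
    simp only [eval_sub, eval_X, eval_mul, eval_add, eval_natCast]
    have h1 : (t:k) ≠ (b:k) := by exact_mod_cast hne t ht htm
    intro h0
    apply h1
    linear_combination h0
  · rw [hX]
    have e : (X - 1) * X * derivative M - (((a : k[X]) + (b : k[X])) * X - (a : k[X])) * M
        = Lop a b M := by
      unfold Lop; ring
    rw [e]; exact hdiv
  · rw [hX]; exact hM

lemma climbq (a b : ℕ) (M : k[X]) (q : k) (hq0 : q ≠ 0) (hq1 : q ≠ 1) (j : ℕ)
    (hdiv : (X - C q) ^ j ∣ Lop a b M) (hM : (X - C q) ∣ M) : (X - C q) ^ (j+1) ∣ M := by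
  refine climb (X * (X - 1)) ((X - C q) * (((a : k[X]) + (b : k[X])) * X - (a : k[X]))) M q 1
    (j+1) ?_ ?_ ?_ (by omega)
  · intro t ht htm
    simp only [eval_sub, eval_X, eval_mul, eval_add, eval_natCast, eval_C, eval_one, sub_self,
      zero_mul, sub_zero]
    have ht0 : (t:k) ≠ 0 := by exact_mod_cast (by omega : t ≠ 0)
    exact mul_ne_zero ht0 (mul_ne_zero hq0 (sub_ne_zero.mpr hq1))
  · have e : (X - C q) * (X * (X - 1)) * derivative M -
        (X - C q) * (((a : k[X]) + (b : k[X])) * X - (a : k[X])) * M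
        = (X - C q) * Lop a b M := by unfold Lop; ring
    rw [e, pow_succ']
    exact mul_dvd_mul_left _ hdiv
  · rw [pow_one]; exact hM

lemma natDegree_D (a b : ℕ) : ((X:k[X]) ^ a * (X - 1) ^ b).natDegree = a + b := by
  rw [natDegree_mul (pow_ne_zero _ X_ne_zero) (pow_ne_zero _ X_sub_one_ne), natDegree_X_pow,
    natDegree_pow, natDegree_X_sub_one, mul_one]

lemma final (a b i j : ℕ) (ha : 0 < a) (hb : 0 < b) (hia : i ≤ a) (hj : i + j = a + b + 2)
    (q : k) (N : k[X]) (hN : N.natDegree ≤ a + b + 1)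
    (hL : Lop a b N = X ^ i * (X - C q) ^ j) : False := by
  have hv0 : (X:k[X]) ^ i * (X - C q) ^ j ≠ 0 :=
    mul_ne_zero (pow_ne_zero _ X_ne_zero) (pow_ne_zero _ (X_sub_C_ne_zero q))
  have hLM : ∀ lam : k,
      Lop a b (N - C lam * (X ^ a * (X - 1) ^ b)) = X ^ i * (X - C q) ^ j := by
    intro lam
    rw [Lop_sub, Lop_C_mul, Lop_D a b ha hb, mul_zero, sub_zero, hL]
  have hMdeg : ∀ lam : k, (N - C lam * (X ^ a * (X - 1) ^ b)).natDegree ≤ a + b + 1 := by
    intro lam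
    refine (natDegree_sub_le _ _).trans (max_le hN ?_)
    refine (natDegree_C_mul_le _ _).trans ?_
    rw [natDegree_D]; omega
  have hMne : ∀ lam : k, (N - C lam * (X ^ a * (X - 1) ^ b)) ≠ 0 := by
    intro lam h0
    have h9 := hLM lam
    rw [h0, Lop_zero] at h9
    exact hv0 h9.symm
  have hdegcon : ∀ (lam : k) (T : k[X]), T ∣ (N - C lam * (X ^ a * (X - 1) ^ b)) →
      a + b + 2 ≤ T.natDegree → False := by
    intro lam T hT hdeg
    have h7 := natDegree_le_of_dvd hT (hMne lam)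
    have h8 := hMdeg lam
    omega
  by_cases hq0 : q = 0
  · subst hq0
    have hX : (X - C (0:k)) = X := by simp
    simp only [hX] at hL hLM
    have s1 : (X:k[X]) ^ a ∣ N := climb0 a b N 0 a (fun t _ ht => by omega)
      (by rw [hL, ← pow_add]; exact pow_dvd_pow _ (by omega)) (by simp) (by omega)
    obtain ⟨N₂, hN₂⟩ := s1
    obtain ⟨lam, hlam⟩ : ∃ lam : k, lam = N₂.eval 0 * (-1) ^ b := ⟨_, rfl⟩
    have hsq : ((-1:k)) ^ b * (-1) ^ b = 1 := by rw [← mul_pow]; simp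
    have hM1 : (X:k[X]) ^ (a+1) ∣ N - C lam * (X ^ a * (X - 1) ^ b) := by
      have e : N - C lam * (X ^ a * (X - 1) ^ b) = X ^ a * (N₂ - C lam * (X - 1) ^ b) := by
        rw [hN₂]; ring
      rw [e, pow_succ]
      apply mul_dvd_mul_left
      rw [X_dvd_iff, coeff_zero_eq_eval_zero]
      simp only [eval_sub, eval_mul, eval_C, eval_pow, eval_X, eval_one, zero_sub]
      rw [hlam]
      linear_combination (-(N₂.eval 0)) * hsq
    have s2 : (X:k[X]) ^ (a+b+2) ∣ N - C lam * (X ^ a * (X - 1) ^ b) :=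
      climb0 a b _ (a+1) (a+b+2) (fun t ht _ => by omega)
        (by rw [hLM lam, ← pow_add, hj]) hM1 (by omega)
    exact hdegcon lam _ s2 (by rw [natDegree_X_pow])
  by_cases hq1 : q = 1
  · subst hq1
    have hX : (X - C (1:k)) = X - 1 := by simp
    simp only [hX] at hL hLM
    have s1 : ((X:k[X]) - 1) ^ b ∣ N := climb1 a b N 0 b (fun t _ ht => by omega)
      (by rw [hL]; exact Dvd.dvd.mul_left (pow_dvd_pow _ (by omega)) _) (by simp) (by omega)
    obtain ⟨N₂, hN₂⟩ := s1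
    obtain ⟨lam, hlam⟩ : ∃ lam : k, lam = N₂.eval 1 := ⟨_, rfl⟩
    have hM1 : ((X:k[X]) - 1) ^ (b+1) ∣ N - C lam * (X ^ a * (X - 1) ^ b) := by
      have e : N - C lam * (X ^ a * (X - 1) ^ b) = (X - 1) ^ b * (N₂ - C lam * X ^ a) := by
        rw [hN₂]; ring
      rw [e, pow_succ]
      apply mul_dvd_mul_left
      have hX' : ((X:k[X]) - 1) = X - C (1:k) := by simp
      rw [hX', dvd_iff_isRoot, IsRoot.def]
      simp only [eval_sub, eval_mul, eval_C, eval_pow, eval_X, one_pow, mul_one]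
      rw [hlam]; ring
    have s2 : ((X:k[X]) - 1) ^ j ∣ N - C lam * (X ^ a * (X - 1) ^ b) :=
      climb1 a b _ (b+1) j (fun t ht _ => by omega)
        (by rw [hLM lam]; exact dvd_mul_left _ _) hM1 (by omega)
    have s3 : (X:k[X]) ^ i ∣ N - C lam * (X ^ a * (X - 1) ^ b) :=
      climb0 a b _ 0 i (fun t _ ht => by omega)
        (by rw [hLM lam]; exact dvd_mul_right _ _) (by simp) (by omega)
    have hcop : IsCoprime ((X:k[X]) ^ i) ((X - 1) ^ j) := by
      apply IsCoprime.pow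
      exact ⟨1, -1, by ring⟩
    have s4 := hcop.mul_dvd s3 s2
    refine hdegcon lam _ s4 ?_
    rw [natDegree_mul (pow_ne_zero _ X_ne_zero) (pow_ne_zero _ X_sub_one_ne), natDegree_X_pow,
      natDegree_pow, natDegree_X_sub_one, mul_one]
    omega
  · have hDq : ((X:k[X]) ^ a * (X - 1) ^ b).eval q ≠ 0 := by
      simp only [eval_mul, eval_pow, eval_X, eval_sub, eval_one]
      exact mul_ne_zero (pow_ne_zero _ hq0) (pow_ne_zero _ (sub_ne_zero.mpr hq1))
    obtain ⟨lam, hlam⟩ : ∃ lam : k,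
        lam = N.eval q / ((X:k[X]) ^ a * (X - 1) ^ b).eval q := ⟨_, rfl⟩
    have hMq : (X - C q) ∣ N - C lam * (X ^ a * (X - 1) ^ b) := by
      rw [dvd_iff_isRoot, IsRoot.def, eval_sub, eval_mul, eval_C, hlam,
        div_mul_cancel₀ _ hDq, sub_self]
    have s2 : (X - C q) ^ (j+1) ∣ N - C lam * (X ^ a * (X - 1) ^ b) :=
      climbq a b _ q hq0 hq1 j (by rw [hLM lam]; exact dvd_mul_left _ _) hMq
    have s3 : (X:k[X]) ^ i ∣ N - C lam * (X ^ a * (X - 1) ^ b) :=
      climb0 a b _ 0 i (fun t _ ht => by omega)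
        (by rw [hLM lam]; exact dvd_mul_right _ _) (by simp) (by omega)
    have hcop : IsCoprime ((X:k[X]) ^ i) ((X - C q) ^ (j+1)) := by
      apply IsCoprime.pow
      refine ⟨C q⁻¹, -C q⁻¹, ?_⟩
      have h5 : C q⁻¹ * C q = (1 : k[X]) := by rw [← C_mul, inv_mul_cancel₀ hq0, C_1]
      linear_combination h5
    have s4 := hcop.mul_dvd s3 s2
    refine hdegcon lam _ s4 ?_
    rw [natDegree_mul (pow_ne_zero _ X_ne_zero) (pow_ne_zero _ (X_sub_C_ne_zero q)),
      natDegree_X_pow, natDegree_pow, natDegree_X_sub_C, mul_one]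
    omega

lemma natDegree_Lop_le (a b : ℕ) (N : k[X]) (hN : N.natDegree ≤ a + b + 1) :
    (Lop a b N).natDegree ≤ a + b + 2 := by
  unfold Lop
  refine (natDegree_sub_le _ _).trans (max_le ?_ ?_)
  · refine natDegree_mul_le.trans ?_
    have h1 : ((X:k[X]) * (X - 1)).natDegree ≤ 2 := by
      refine natDegree_mul_le.trans ?_
      rw [natDegree_X, natDegree_X_sub_one]
    have h2 : (derivative N).natDegree ≤ N.natDegree - 1 := natDegree_derivative_le N
    omega
  · refine natDegree_mul_le.trans ?_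
    have h1 : (((a : k[X]) + (b : k[X])) * X - (a : k[X])).natDegree ≤ 1 := by
      refine (natDegree_sub_le _ _).trans (max_le ?_ ?_)
      · refine natDegree_mul_le.trans ?_
        rw [natDegree_X]
        have h3 : ((a : k[X]) + (b : k[X])).natDegree = 0 := by
          rw [← Nat.cast_add]; exact natDegree_natCast _
        omega
      · rw [natDegree_natCast]; omega
    omega

theorem main (k : Type*) [Field k] [CharZero k] (a b i j : ℕ) (ha : 0 < a) (hb : 0 < b)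
    (hi : 0 < i) (hiab : i ≤ a + b)
    (hj : i + j = a + b + 2)
    (V : Submodule k (Polynomial k))
    (hV : V = ((Ideal.span {(X : Polynomial k) ^ (a + 1)}).restrictScalars k ⊓
        Polynomial.degreeLE k ↑(a + b)) ⊔
      ((Ideal.span {((X : Polynomial k) - 1) ^ (b + 1)}).restrictScalars k ⊓
        Polynomial.degreeLE k ↑(a + b)) ⊔
      Submodule.span k {(X : Polynomial k) ^ (a + 1) * (X - 1) ^ (b + 1)})
    (q : k)
    (h1 : 1 ≤ Module.finrank k
      ↥(V ⊓ (Ideal.span {(X : Polynomial k) ^ i * (X - C q) ^ j}).restrictScalars k)) :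
    a + 1 ≤ i := by
  by_contra hcon
  have hia : i ≤ a := by omega
  have hex : ∃ v ∈ V ⊓ (Ideal.span {(X : Polynomial k) ^ i * (X - C q) ^ j}).restrictScalars k,
      v ≠ 0 := by
    by_contra hno
    push Not at hno
    have hbot : V ⊓ (Ideal.span {(X : Polynomial k) ^ i * (X - C q) ^ j}).restrictScalars k
        = ⊥ := (Submodule.eq_bot_iff _).mpr hno
    rw [hbot, finrank_bot] at h1
    omega
  obtain ⟨v, hv, hv0⟩ := hex
  rw [Submodule.mem_inf, Submodule.restrictScalars_mem, Ideal.mem_span_singleton] at hv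
  obtain ⟨hvV, w, hw⟩ := hv
  rw [hV] at hvV
  obtain ⟨N, hN, hLN⟩ := claimA a b ha hb v hvV
  have hvdeg : v.natDegree ≤ a + b + 2 := by
    rw [← hLN]; exact natDegree_Lop_le a b N hN
  have hwne : w ≠ 0 := by rintro rfl; exact hv0 (by rw [hw, mul_zero])
  have hT : ((X:k[X]) ^ i * (X - C q) ^ j).natDegree = i + j := by
    rw [natDegree_mul (pow_ne_zero _ X_ne_zero) (pow_ne_zero _ (X_sub_C_ne_zero q)),
      natDegree_X_pow, natDegree_pow, natDegree_X_sub_C, mul_one]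
  have hwdeg : w.natDegree = 0 := by
    have h6 := natDegree_mul
      (mul_ne_zero (pow_ne_zero i (X_ne_zero (R := k))) (pow_ne_zero j (X_sub_C_ne_zero q))) hwne
    rw [← hw, hT] at h6
    omega
  obtain ⟨c, hc⟩ := natDegree_eq_zero.mp hwdeg
  have hc0 : c ≠ 0 := by rintro rfl; exact hwne (by rw [← hc, C_0])
  apply final a b i j ha hb hia hj q (C c⁻¹ * N) ((natDegree_C_mul_le _ _).trans hN)
  rw [Lop_C_mul, hLN, hw, ← hc]
  have h5 : C c⁻¹ * C c = (1 : k[X]) := by rw [← C_mul, inv_mul_cancel₀ hc0, C_1]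
  linear_combination (X ^ i * (X - C q) ^ j) * h5

end Groth.Agent.H9.Wronsk
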