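import Mathlib
import Groth.Agent.Lib.Helper9.Misc.WronskPair

set_option autoImplicit false
set_option linter.unusedSectionVars false
set_option linter.unusedVariables false

namespace Groth.Agent.H9.Wronsk

open Polynomial

variable {k : Type*} [Field k] [CharZero k]

noncomputable def Kop (p q : k) (m n : ℕ) (M : k[X]) : k[X] :=
  (X - C p) * (X - C q) * derivative M - ((m:k[X]) * (X - C q) + (n:k[X]) * (X - C p)) * M

lemma Kop_zero (p q : k) (m n : ℕ) : Kop p q m n (0 : k[X]) = 0 := by simp [Kop]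

lemma Kop_add (p q : k) (m n : ℕ) (M N : k[X]) :
    Kop p q m n (M + N) = Kop p q m n M + Kop p q m n N := by
  unfold Kop; rw [derivative_add]; ring

lemma Kop_sub (p q : k) (m n : ℕ) (M N : k[X]) :
    Kop p q m n (M - N) = Kop p q m n M - Kop p q m n N := by
  unfold Kop; rw [derivative_sub]; ring

lemma Kop_C_mul (p q : k) (m n : ℕ) (c : k) (M : k[X]) :
    Kop p q m n (C c * M) = C c * Kop p q m n M := by
  unfold Kop; rw [derivative_C_mul]; ring

lemma Kop_T_mul (p q : k) (m n : ℕ) (M : k[X]) :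
    Kop p q (m+1) (n+1) ((X - C p) * (X - C q) * M) =
      (X - C p) * (X - C q) * Kop p q m n M := by
  unfold Kop
  simp only [derivative_mul, derivative_sub, derivative_X, derivative_C, sub_zero]
  push_cast
  ring

lemma Kop_pow_pow (p q : k) (m n : ℕ) :
    Kop p q m n ((X - C p) ^ m * (X - C q) ^ n) = 0 := by
  unfold Kop
  rw [derivative_mul]
  have h1 := X_sub_C_mul_deriv_pow p m
  have h2 := X_sub_C_mul_deriv_pow q n
  linear_combination ((X - C q) * (X - C q) ^ n) * h1 + ((X - C p) * (X - C p) ^ m) * h2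

lemma natDegree_T_le (p q : k) : ((X - C p) * (X - C q)).natDegree ≤ 2 := by
  refine natDegree_mul_le.trans ?_
  rw [natDegree_X_sub_C, natDegree_X_sub_C]

lemma natDegree_R_le (p q : k) (m n : ℕ) :
    ((m:k[X]) * (X - C q) + (n:k[X]) * (X - C p)).natDegree ≤ 1 := by
  refine (natDegree_add_le _ _).trans (max_le ?_ ?_)
  · refine natDegree_mul_le.trans ?_
    have e1 : ((m:k[X])).natDegree = 0 := natDegree_natCast m
    have e2 : (X - C q : k[X]).natDegree = 1 := natDegree_X_sub_C q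
    omega
  · refine natDegree_mul_le.trans ?_
    have e1 : ((n:k[X])).natDegree = 0 := natDegree_natCast n
    have e2 : (X - C p : k[X]).natDegree = 1 := natDegree_X_sub_C p
    omega

lemma natDegree_Kop_le (p q : k) (m n : ℕ) (M : k[X]) :
    (Kop p q m n M).natDegree ≤ M.natDegree + 1 := by
  unfold Kop
  refine (natDegree_sub_le _ _).trans (max_le ?_ ?_)
  · by_cases hM : M.natDegree = 0
    · obtain ⟨c, hc⟩ := natDegree_eq_zero.mp hM
      rw [← hc, derivative_C, mul_zero]; simp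
    · refine natDegree_mul_le.trans ?_
      have h1 := natDegree_T_le p q
      have h2 := natDegree_derivative_le M
      omega
  · refine natDegree_mul_le.trans ?_
    have h1 := natDegree_R_le p q m n
    omega

lemma decomp (a b : ℕ) (v : k[X])
    (hv : v ∈ ((Ideal.span {(X : k[X]) ^ (a + 1)}).restrictScalars k ⊓
        Polynomial.degreeLE k ↑(a + b)) ⊔
      ((Ideal.span {((X : k[X]) - 1) ^ (b + 1)}).restrictScalars k ⊓
        Polynomial.degreeLE k ↑(a + b)) ⊔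
      Submodule.span k {(X : k[X]) ^ (a + 1) * (X - 1) ^ (b + 1)}) :
    ∃ g h : k[X], ∃ c : k,
      v = X ^ (a+1) * g + (X - 1) ^ (b+1) * h + C c * (X ^ (a+1) * (X - 1) ^ (b+1)) ∧
      (X ^ (a+1) * g).natDegree ≤ a + b ∧ ((X - 1) ^ (b+1) * h).natDegree ≤ a + b := by
  rw [Submodule.mem_sup] at hv
  obtain ⟨y, hy, z, hz, rfl⟩ := hv
  rw [Submodule.mem_sup] at hy
  obtain ⟨y₁, hy₁, y₂, hy₂, rfl⟩ := hy
  rw [Submodule.mem_inf, Submodule.restrictScalars_mem, Ideal.mem_span_singleton,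
    mem_degreeLE] at hy₁ hy₂
  obtain ⟨⟨g, rfl⟩, hd₁⟩ := hy₁
  obtain ⟨⟨h, rfl⟩, hd₂⟩ := hy₂
  rw [Submodule.mem_span_singleton] at hz
  obtain ⟨c, rfl⟩ := hz
  exact ⟨g, h, c, by rw [smul_eq_C_mul], natDegree_le_of_degree_le hd₁,
    natDegree_le_of_degree_le hd₂⟩

lemma Pi_monic (a b : ℕ) : ((X:k[X]) ^ (a+1) * (X - 1) ^ (b+1)).Monic := by
  have h1 : ((X:k[X]) - 1) = X - C 1 := by simp
  rw [h1]
  exact (monic_X_pow _).mul ((monic_X_sub_C 1).pow _)

lemma natDegree_Pi (a b : ℕ) :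
    ((X:k[X]) ^ (a+1) * (X - 1) ^ (b+1)).natDegree = a + b + 2 := by
  rw [natDegree_mul (pow_ne_zero _ X_ne_zero) (pow_ne_zero _ X_sub_one_ne), natDegree_X_pow,
    natDegree_pow, natDegree_X_sub_one, mul_one]
  omega

lemma coeff_Pi (a b : ℕ) : ((X:k[X]) ^ (a+1) * (X - 1) ^ (b+1)).coeff (a + b + 2) = 1 := by
  have h := (Pi_monic (k := k) a b).coeff_natDegree
  rwa [natDegree_Pi] at h

lemma top_coeff (a b : ℕ) (v A B : k[X]) (c : k)
    (hv : v = A + B + C c * (X ^ (a+1) * (X - 1) ^ (b+1)))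
    (hA : A.natDegree ≤ a + b) (hB : B.natDegree ≤ a + b) : v.coeff (a + b + 2) = c := by
  rw [hv, coeff_add, coeff_add, coeff_C_mul, coeff_Pi,
    coeff_eq_zero_of_natDegree_lt (by omega), coeff_eq_zero_of_natDegree_lt (by omega)]
  ring

lemma mem_of_dvd_of_natDegree_le (V : Submodule k k[X]) (f w : k[X]) (hf0 : f ≠ 0)
    (hw : w ∈ V) (hw0 : w ≠ 0)
    (hdvd : f ∣ w) (hdeg : w.natDegree ≤ f.natDegree) : f ∈ V := by
  obtain ⟨Q, rfl⟩ := hdvd
  have hQ0 : Q ≠ 0 := by rintro rfl; exact hw0 (mul_zero _)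
  have h1 := natDegree_mul hf0 hQ0
  have hQd : Q.natDegree = 0 := by omega
  obtain ⟨c, hc⟩ := natDegree_eq_zero.mp hQd
  have hc0 : c ≠ 0 := by rintro rfl; exact hQ0 (by rw [← hc, C_0])
  have e : f = c⁻¹ • (f * Q) := by
    rw [smul_eq_C_mul, ← hc]
    have h5 : C c⁻¹ * C c = (1 : k[X]) := by rw [← C_mul, inv_mul_cancel₀ hc0, C_1]
    linear_combination (-f) * h5
  rw [e]
  exact V.smul_mem _ hw

lemma mem_of_finrank_one (V : Submodule k k[X]) (f : k[X]) (hf0 : f ≠ 0)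
    (hVdeg : ∀ w ∈ V, w.natDegree ≤ f.natDegree)
    (h1 : 1 ≤ Module.finrank k ↥(V ⊓ (Ideal.span {f}).restrictScalars k)) : f ∈ V := by
  have hex : ∃ w ∈ V ⊓ (Ideal.span {f}).restrictScalars k, w ≠ 0 := by
    by_contra hno
    push Not at hno
    have hbot : V ⊓ (Ideal.span {f}).restrictScalars k = ⊥ := (Submodule.eq_bot_iff _).mpr hno
    rw [hbot, finrank_bot] at h1
    omega
  obtain ⟨w, hw, hw0⟩ := hex
  rw [Submodule.mem_inf, Submodule.restrictScalars_mem, Ideal.mem_span_singleton] at hw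
  exact mem_of_dvd_of_natDegree_le V f w hf0 hw.1 hw0 hw.2 (hVdeg w hw.1)

lemma mem_of_finrank_two (V : Submodule k k[X]) (f : k[X]) (hf0 : f ≠ 0) (d : ℕ)
    (hVtop : ∀ w ∈ V, w.coeff d = 0 → w.natDegree ≤ f.natDegree)
    (h2 : 2 ≤ Module.finrank k ↥(V ⊓ (Ideal.span {f}).restrictScalars k)) : f ∈ V := by
  have : Module.Finite k ↥(V ⊓ (Ideal.span {f}).restrictScalars k) :=
    Module.finite_of_finrank_pos (by omega)
  let φ : ↥(V ⊓ (Ideal.span {f}).restrictScalars k) →ₗ[k] k :=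
    (lcoeff k d) ∘ₗ (Submodule.subtype _)
  have hrk := LinearMap.finrank_range_add_finrank_ker φ
  have hr1 : Module.finrank k (LinearMap.range φ) ≤ 1 := by
    have h3 := Submodule.finrank_le (LinearMap.range φ)
    rwa [Module.finrank_self] at h3
  have hker : 1 ≤ Module.finrank k (LinearMap.ker φ) := by omega
  have hex : ∃ x ∈ LinearMap.ker φ, x ≠ 0 := by
    by_contra hno
    push Not at hno
    have hbot : LinearMap.ker φ = ⊥ := (Submodule.eq_bot_iff _).mpr hno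
    rw [hbot, finrank_bot] at hker
    omega
  obtain ⟨⟨w, hw⟩, hwker, hw0⟩ := hex
  have hw0' : w ≠ 0 := fun h => hw0 (Subtype.ext h)
  have hcoef : w.coeff d = 0 := by
    have h4 := LinearMap.mem_ker.mp hwker
    simpa [φ] using h4
  rw [Submodule.mem_inf, Submodule.restrictScalars_mem, Ideal.mem_span_singleton] at hw
  exact mem_of_dvd_of_natDegree_le V f w hf0 hw.1 hw0' hw.2 (hVtop w hw.1 hcoef)

lemma natDegree_cofactor_le (b a : ℕ) (ha : 0 < a) (h : k[X])
    (hU : ((X - 1) ^ (b+1) * h).natDegree ≤ a + b) : h.natDegree ≤ a - 1 := by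
  by_cases hh : h = 0
  · rw [hh, natDegree_zero]; omega
  · rw [natDegree_mul (pow_ne_zero _ X_sub_one_ne) hh, natDegree_pow, natDegree_X_sub_one,
      mul_one] at hU
    omega

lemma eq_C_mul_X_pow (n : ℕ) (Z : k[X]) (hd : X ^ n ∣ Z) (hdeg : Z.natDegree ≤ n) :
    ∃ κ : k, Z = C κ * X ^ n := by
  obtain ⟨R, rfl⟩ := hd
  by_cases hR : R = 0
  · exact ⟨0, by rw [hR]; simp⟩
  · rw [natDegree_mul (pow_ne_zero _ X_ne_zero) hR, natDegree_X_pow] at hdeg
    obtain ⟨κ, hκ⟩ := natDegree_eq_zero.mp (by omega : R.natDegree = 0)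
    exact ⟨κ, by rw [← hκ]; ring⟩

lemma eq_zero_of_Kop_eq_zero (p q : k) (m n : ℕ) (ρ : k) (hρp : ρ ≠ p) (hρq : ρ ≠ q)
    (M : k[X]) (hK : Kop p q m n M = 0) (hM : (X - C ρ) ∣ M) : M = 0 := by
  by_contra hM0
  have h := climb ((X - C p) * (X - C q))
    ((X - C ρ) * ((m:k[X]) * (X - C q) + (n:k[X]) * (X - C p))) M ρ 1 (M.natDegree + 1)
    ?_ ?_ (by rwa [pow_one]) (by omega)
  · have h1 := natDegree_le_of_dvd h hM0
    rw [natDegree_pow, natDegree_X_sub_C, mul_one] at h1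
    omega
  · intro t ht _
    simp only [eval_mul, eval_sub, eval_X, eval_C, eval_add, eval_natCast, sub_self, zero_mul,
      sub_zero]
    have ht0 : (t:k) ≠ 0 := by exact_mod_cast (by omega : t ≠ 0)
    exact mul_ne_zero ht0 (mul_ne_zero (sub_ne_zero.mpr hρp) (sub_ne_zero.mpr hρq))
  · have e : (X - C ρ) * ((X - C p) * (X - C q)) * derivative M -
        (X - C ρ) * ((m:k[X]) * (X - C q) + (n:k[X]) * (X - C p)) * M
        = (X - C ρ) * Kop p q m n M := by unfold Kop; ring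
    rw [e, hK, mul_zero]
    exact dvd_zero _

theorem main2 (k : Type*) [Field k] [CharZero k] (a b i j : ℕ) (ha : 0 < a) (hb : 0 < b)
    (hi : 0 < i) (hiab : i ≤ a + b)
    (hj : i + j = a + b + 2)
    (V : Submodule k (Polynomial k))
    (hV : V = ((Ideal.span {(X : Polynomial k) ^ (a + 1)}).restrictScalars k ⊓
        Polynomial.degreeLE k ↑(a + b)) ⊔
      ((Ideal.span {((X : Polynomial k) - 1) ^ (b + 1)}).restrictScalars k ⊓
        Polynomial.degreeLE k ↑(a + b)) ⊔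
      Submodule.span k {(X : Polynomial k) ^ (a + 1) * (X - 1) ^ (b + 1)})
    (p q : k) (hp0 : p ≠ 0) (hp1 : p ≠ 1) (hq0 : q ≠ 0) (hq1 : q ≠ 1) :
    ¬ (1 ≤ Module.finrank k
        ↥(V ⊓ (Ideal.span {(X - C p) ^ i * (X - C q) ^ j}).restrictScalars k) ∧
       2 ≤ Module.finrank k
        ↥(V ⊓ (Ideal.span {(X - C p) ^ (i - 1) * (X - C q) ^ (j - 1)}).restrictScalars k)) := by
  rintro ⟨h1, h2⟩
  obtain ⟨i', rfl⟩ : ∃ i', i = i' + 1 := ⟨i - 1, by omega⟩
  obtain ⟨j', rfl⟩ : ∃ j', j = j' + 1 := ⟨j - 1, by omega⟩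
  rw [show i' + 1 - 1 = i' from rfl, show j' + 1 - 1 = j' from rfl] at h2
  have hij : i' + j' = a + b := by omega
  have hdec : ∀ w ∈ V, ∃ g h : k[X], ∃ c : k,
      w = X ^ (a+1) * g + (X - 1) ^ (b+1) * h + C c * (X ^ (a+1) * (X - 1) ^ (b+1)) ∧
      (X ^ (a+1) * g).natDegree ≤ a + b ∧ ((X - 1) ^ (b+1) * h).natDegree ≤ a + b := by
    intro w hw
    rw [hV] at hw
    exact decomp a b w hw
  have hu0 : (X - C p) ^ i' * (X - C q) ^ j' ≠ 0 :=
    mul_ne_zero (pow_ne_zero _ (X_sub_C_ne_zero p)) (pow_ne_zero _ (X_sub_C_ne_zero q))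
  have hu0deg : ((X - C p) ^ i' * (X - C q) ^ j').natDegree = a + b := by
    rw [natDegree_mul (pow_ne_zero _ (X_sub_C_ne_zero p)) (pow_ne_zero _ (X_sub_C_ne_zero q)),
      natDegree_pow, natDegree_pow, natDegree_X_sub_C, natDegree_X_sub_C, mul_one, mul_one, hij]
  have hv0 : (X - C p) ^ (i'+1) * (X - C q) ^ (j'+1) ≠ 0 :=
    mul_ne_zero (pow_ne_zero _ (X_sub_C_ne_zero p)) (pow_ne_zero _ (X_sub_C_ne_zero q))
  have hv0deg : ((X - C p) ^ (i'+1) * (X - C q) ^ (j'+1)).natDegree = a + b + 2 := by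
    rw [natDegree_mul (pow_ne_zero _ (X_sub_C_ne_zero p)) (pow_ne_zero _ (X_sub_C_ne_zero q)),
      natDegree_pow, natDegree_pow, natDegree_X_sub_C, natDegree_X_sub_C, mul_one, mul_one]
    omega
  have hv0monic : ((X - C p) ^ (i'+1) * (X - C q) ^ (j'+1)).Monic :=
    ((monic_X_sub_C p).pow _).mul ((monic_X_sub_C q).pow _)
  have huV : (X - C p) ^ i' * (X - C q) ^ j' ∈ V := by
    apply mem_of_finrank_two V _ hu0 (a + b + 2) _ h2
    intro w hw hcoef
    obtain ⟨g, h, c, hwe, hA, hB⟩ := hdec w hw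
    have hc := top_coeff a b w _ _ c hwe hA hB
    rw [hcoef] at hc
    rw [hu0deg, hwe, ← hc, C_0, zero_mul, add_zero]
    exact (natDegree_add_le _ _).trans (max_le hA hB)
  have hvV : (X - C p) ^ (i'+1) * (X - C q) ^ (j'+1) ∈ V := by
    apply mem_of_finrank_one V _ hv0 _ h1
    intro w hw
    obtain ⟨g, h, c, hwe, hA, hB⟩ := hdec w hw
    rw [hv0deg, hwe]
    refine (natDegree_add_le _ _).trans
      (max_le ((natDegree_add_le _ _).trans (max_le (by omega) (by omega))) ?_)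
    refine (natDegree_C_mul_le _ _).trans ?_
    rw [natDegree_Pi]
  obtain ⟨g, h, c, hu, hU₁, hU₂⟩ := hdec _ huV
  obtain ⟨g', h', c', hv, hU₁', hU₂'⟩ := hdec _ hvV
  have hc : c = 0 := by
    have h3 := top_coeff a b _ _ _ c hu hU₁ hU₂
    rw [coeff_eq_zero_of_natDegree_lt (by rw [hu0deg]; omega)] at h3
    exact h3.symm
  have hc' : c' = 1 := by
    have h3 := top_coeff a b _ _ _ c' hv hU₁' hU₂'
    have h4 := hv0monic.coeff_natDegree
    rw [hv0deg] at h4
    rw [h4] at h3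
    exact h3.symm
  rw [hc, C_0, zero_mul, add_zero] at hu
  rw [hc', C_1, one_mul] at hv
  have hrel : X ^ (a+1) * ((X - C p) * (X - C q) * g - g' - (X - 1) ^ (b+1)) =
      (X - 1) ^ (b+1) * (h' - (X - C p) * (X - C q) * h) := by
    have hTu : (X - C p) ^ (i'+1) * (X - C q) ^ (j'+1) =
        (X - C p) * (X - C q) * ((X - C p) ^ i' * (X - C q) ^ j') := by ring
    rw [hu] at hTu
    rw [hTu] at hv
    linear_combination hv
  have hcopAB : IsCoprime ((X:k[X]) ^ (a+1)) ((X - 1) ^ (b+1)) :=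
    IsCoprime.pow ⟨1, -1, by ring⟩
  have hdvdZ : (X:k[X]) ^ (a+1) ∣ h' - (X - C p) * (X - C q) * h :=
    hcopAB.dvd_of_dvd_mul_left (Dvd.intro _ hrel)
  have hhdeg : h.natDegree ≤ a - 1 := natDegree_cofactor_le b a ha h hU₂
  have hh'deg : h'.natDegree ≤ a - 1 := natDegree_cofactor_le b a ha h' hU₂'
  have hZdeg : (h' - (X - C p) * (X - C q) * h).natDegree ≤ a + 1 := by
    refine (natDegree_sub_le _ _).trans (max_le (by omega) ?_)
    refine natDegree_mul_le.trans ?_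
    have h6 := natDegree_T_le p q
    omega
  obtain ⟨κ, hκ⟩ := eq_C_mul_X_pow (a+1) _ hdvdZ hZdeg
  have hTU₂ : (X - C p) * (X - C q) * ((X - 1) ^ (b+1) * h) =
      (X - 1) ^ (b+1) * h' - C κ * (X ^ (a+1) * (X - 1) ^ (b+1)) := by
    linear_combination (-(X - 1) ^ (b+1)) * hκ
  have hKu := Kop_pow_pow p q i' j'
  have hKv := Kop_pow_pow p q (i'+1) (j'+1)
  rw [hu, Kop_add] at hKu
  rw [hv, Kop_add, Kop_add] at hKv
  have hTK := Kop_T_mul p q i' j' ((X - 1) ^ (b+1) * h)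
  rw [hTU₂, Kop_sub, Kop_C_mul] at hTK
  have hTK' : (X - C p) * (X - C q) * Kop p q i' j' ((X - 1) ^ (b+1) * h) =
      Kop p q (i'+1) (j'+1) ((X - 1) ^ (b+1) * h') +
        C κ * (Kop p q (i'+1) (j'+1) (X ^ (a+1) * g') +
          Kop p q (i'+1) (j'+1) ((X - 1) ^ (b+1) * h')) := by
    linear_combination (-1 : k[X]) * hTK - (C κ) * hKv
  have hdegR : ((X - C p) * (X - C q) *
      Kop p q i' j' ((X - 1) ^ (b+1) * h)).natDegree ≤ a + b + 1 := by
    rw [hTK']
    have d1 := natDegree_Kop_le p q (i'+1) (j'+1) ((X - 1) ^ (b+1) * h')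
    have d2 := natDegree_Kop_le p q (i'+1) (j'+1) (X ^ (a+1) * g')
    refine (natDegree_add_le _ _).trans (max_le (by omega) ?_)
    refine (natDegree_C_mul_le _ _).trans ?_
    exact (natDegree_add_le _ _).trans (max_le (by omega) (by omega))
  have hXa : (X:k[X]) ^ a ∣ Kop p q i' j' (X ^ (a+1) * g) := by
    refine ⟨(X - C p) * (X - C q) * (((a:k[X]) + 1) * g + X * derivative g) -
      ((i':k[X]) * (X - C q) + (j':k[X]) * (X - C p)) * X * g, ?_⟩
    unfold Kop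
    rw [derivative_mul, deriv_pow_succ, derivative_X]
    ring
  have hX1b : ((X:k[X]) - 1) ^ b ∣ Kop p q i' j' ((X - 1) ^ (b+1) * h) := by
    refine ⟨(X - C p) * (X - C q) * (((b:k[X]) + 1) * h + (X - 1) * derivative h) -
      ((i':k[X]) * (X - C q) + (j':k[X]) * (X - C p)) * (X - 1) * h, ?_⟩
    unfold Kop
    rw [derivative_mul, deriv_pow_succ, derivative_sub, derivative_X, derivative_one, sub_zero]
    ring
  have hKU₂ : Kop p q i' j' ((X - 1) ^ (b+1) * h) = 0 := by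
    by_contra hne
    have hneg : Kop p q i' j' ((X - 1) ^ (b+1) * h) = - Kop p q i' j' (X ^ (a+1) * g) :=
      eq_neg_of_add_eq_zero_right hKu
    have hXa' : (X:k[X]) ^ a ∣ Kop p q i' j' ((X - 1) ^ (b+1) * h) := by
      rw [hneg]; exact (dvd_neg.mpr hXa)
    have hcop : IsCoprime ((X:k[X]) ^ a) ((X - 1) ^ b) := IsCoprime.pow ⟨1, -1, by ring⟩
    have hD := hcop.mul_dvd hXa' hX1b
    have d1 := natDegree_le_of_dvd hD hne
    rw [natDegree_D] at d1
    have hT0 : (X - C p) * (X - C q) ≠ (0:k[X]) :=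
      mul_ne_zero (X_sub_C_ne_zero p) (X_sub_C_ne_zero q)
    have d2 := natDegree_mul hT0 hne
    have d3 : ((X - C p) * (X - C q) : k[X]).natDegree = 2 := by
      rw [natDegree_mul (X_sub_C_ne_zero p) (X_sub_C_ne_zero q), natDegree_X_sub_C,
        natDegree_X_sub_C]
    omega
  have hKU₁ : Kop p q i' j' (X ^ (a+1) * g) = 0 := by
    rw [hKU₂, add_zero] at hKu; exact hKu
  have hU₂0 : (X - 1) ^ (b+1) * h = 0 := by
    apply eq_zero_of_Kop_eq_zero p q i' j' 1 hp1.symm hq1.symm _ hKU₂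
    have e1 : (X - C (1:k)) = X - 1 := by simp
    rw [e1]
    exact Dvd.dvd.mul_right (dvd_pow_self _ (by omega)) _
  have hU₁0 : X ^ (a+1) * g = 0 := by
    apply eq_zero_of_Kop_eq_zero p q i' j' 0 hp0.symm hq0.symm _ hKU₁
    have e1 : (X - C (0:k)) = X := by simp
    rw [e1]
    exact Dvd.dvd.mul_right (dvd_pow_self _ (by omega)) _
  rw [hU₁0, hU₂0, add_zero] at hu
  exact hu0 hu

end Groth.Agent.H9.Wronsk
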