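import Mathlib
import Groth.Prelude.Def_WeilCoh
import Groth.Agent.Lib.Helper9.Misc.WeilCohH

set_option autoImplicit false
set_option linter.style.haveILetI false
set_option linter.unusedSectionVars false
set_option linter.unusedVariables false

universe u v w

open AlgebraicGeometry CategoryTheory CategoryTheory.Limits

namespace Groth.Agent.H9.ZTA

open WeilCoh Groth.Agent.H9.WeilA Groth.Agent.H9.WeilB Groth.Agent.H9.WeilC Groth.Agent.H9.WeilD
  Groth.Agent.H9.WeilH

variable {k : Type u} [Field k] [IsAlgClosed k] {K : Type v} [Field K] [CharZero K]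
variable (T : Theory k K)

theorem tr_cl_of_isClosed (X : Var k) (x : ↥X.obj.left)
    (hx : IsClosed ({x} : Set ↥X.obj.left)) : T.tr X (T.cl X x) = 1 := by
  have hpt := T.point (pt k) dim_pt
  have h1 : (1 : T.H (pt k)) ∈ T.gr (pt k) (2 * (WeilCoh.pdim X.obj.left x : ℤ)) := by
    rw [pdim_of_isClosed _ x hx]; exact one_mem T (pt k)
  have h := T.cl_push (toPt k X) x 1 h1
  have hlft : LocallyOfFiniteType X.obj.hom := by
    have : Smooth X.obj.hom := X.property.1
    infer_instance
  have hdeg : (WeilCoh.sm (toPt k X)).residueDegree x = 1 :=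
    residueDegree_eq_one_of_isClosed X.obj.hom x hx
  rw [map_one, mul_one, hpt.1, mul_one, hpt.2, hdeg] at h
  simpa using h

theorem closure_section {X P : Var k} [IrreducibleSpace ↥X.obj.left] (j : X ⟶ P) (p : P ⟶ X)
    (h : j ≫ p = 𝟙 X) :
    closure ({sm j (genericPoint ↥X.obj.left)} : Set P.obj.left) = Set.range (sm j) := by
  have hj := isClosedImmersion_of_section j p h
  have hemb : Topology.IsClosedEmbedding (sm j) := (sm j).isClosedEmbedding
  have := hemb.closure_image_eq ({genericPoint ↥X.obj.left} : Set X.obj.left)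
  rw [Set.image_singleton] at this
  rw [this, show closure {genericPoint ↥X.obj.left} = Set.univ from
    genericPoint_spec ↥X.obj.left, Set.image_univ]

theorem mem_preimage_iff {X P : Var k} [IrreducibleSpace ↥X.obj.left] (j d : X ⟶ P) (p : P ⟶ X)
    (hjp : j ≫ p = 𝟙 X) (hdp : d ≫ p = 𝟙 X) (x : X.obj.left) :
    x ∈ (sm d) ⁻¹' closure ({sm j (genericPoint ↥X.obj.left)} : Set P.obj.left) ↔
      sm j x = sm d x := by
  rw [closure_section j p hjp, Set.mem_preimage, Set.mem_range]
  constructor
  · rintro ⟨y, hy⟩
    have h1 : sm p (sm j y) = y := by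
      have : sm j ≫ sm p = 𝟙 X.obj.left := by rw [← sm_comp, hjp, sm_id]
      have := congrArg (fun f => f y) this
      simpa using this
    have h2 : sm p (sm d x) = x := by
      have : sm d ≫ sm p = 𝟙 X.obj.left := by rw [← sm_comp, hdp, sm_id]
      have := congrArg (fun f => f x) this
      simpa using this
    have : y = x := by rw [← h1, hy, h2]
    rw [← hy, this]
  · intro h; exact ⟨x, h⟩

/-- Lefschetz number of transversal fixed points. -/
theorem tr_graph_diag_eq_card (X P : Var k) [IrreducibleSpace ↥X.obj.left] (p q : P ⟶ X)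
    (hP : IsProd p q) (j d : X ⟶ P) (hjp : j ≫ p = 𝟙 X) (hdp : d ≫ p = 𝟙 X)
    (hclosed : ∀ x : X.obj.left, sm j x = sm d x → IsClosed ({x} : Set X.obj.left))
    (hfin : {x : X.obj.left | sm j x = sm d x}.Finite)
    (hmult : ∀ (x : X.obj.left)
      (hx : sm d x ∈ closure ({sm j (genericPoint ↥X.obj.left)} : Set P.obj.left)),
      preimMult (sm d) (sm j (genericPoint ↥X.obj.left)) x hx = 1) :
    T.tr P (T.cl P (sm j (genericPoint ↥X.obj.left)) * T.cl P (sm d (genericPoint ↥X.obj.left))) =
      (Nat.card {x : X.obj.left // sm j x = sm d x} : K) := by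
  have hdimP := dim_prod T p q hP
  have hpdj := pdim_section j p hjp
  have hmem : T.cl P (sm j (genericPoint ↥X.obj.left)) ∈ T.gr P (2 * (dim X.obj.left : ℤ)) := by
    have hcod : (codim P.obj.left (sm j (genericPoint ↥X.obj.left)) : ℤ) = dim X.obj.left := by
      unfold codim
      rw [hpdj]
      omega
    exact mem_of_eq T (by omega) (T.cl_mem P _)
  rw [cl_comm T, tr_cl_section T d p hdp _ hmem]
  set Fset := (sm d) ⁻¹' closure ({sm j (genericPoint ↥X.obj.left)} : Set P.obj.left) with hFset
  have hF : ∀ x, x ∈ Fset ↔ sm j x = sm d x := mem_preimage_iff j d p hjp hdp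
  have hcomp : ∀ w, IsCompPt Fset w ↔ sm j w = sm d w := by
    intro w
    constructor
    · intro h; exact (hF w).1 h.1
    · intro h
      refine ⟨(hF w).2 h, ?_⟩
      intro w' hw' hsp
      have hcl := hclosed w' ((hF w').1 hw')
      have : w ∈ closure ({w'} : Set X.obj.left) := specializes_iff_mem_closure.mp hsp
      rw [hcl.closure_eq] at this
      exact (Set.mem_singleton_iff.mp this).symm
  have hpull := T.cl_pull d (sm j (genericPoint ↥X.obj.left)) ?_ ?_
  · rw [hpull]
    haveI : Finite {x : X.obj.left // sm j x = sm d x} := hfin.to_subtype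
    haveI : Finite {w : X.obj.left // IsCompPt Fset w} := by
      refine Finite.of_injective (fun w => (⟨w.1, (hcomp w.1).1 w.2⟩ :
        {x : X.obj.left // sm j x = sm d x})) ?_
      intro a b hab
      have h0 : (a : X.obj.left) = b := congrArg (fun t => t.1) hab
      exact Subtype.ext h0
    haveI := Fintype.ofFinite {w : X.obj.left // IsCompPt Fset w}
    rw [finsum_eq_sum_of_fintype, map_sum]
    have h1 : ∀ w : {w : X.obj.left // IsCompPt Fset w},
        T.tr X ((preimMult (sm d) (sm j (genericPoint ↥X.obj.left)) w.1 w.2.1 : K) • T.cl X w.1) =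
          1 := by
      intro w
      rw [hmult w.1 w.2.1, Nat.cast_one, one_smul]
      exact tr_cl_of_isClosed T X w.1 (hclosed w.1 ((hcomp w.1).1 w.2))
    rw [Finset.sum_congr rfl (fun w _ => h1 w), Finset.sum_const, Finset.card_univ, nsmul_eq_mul,
      mul_one, ← Nat.card_eq_fintype_card]
    congr 1
    exact Nat.card_congr (Equiv.subtypeEquivRight hcomp)
  · intro w hw
    have hw' := (hcomp w).1 hw
    rw [pdim_of_isClosed _ w (hclosed w hw'), hpdj]
    push_cast
    omega
  · right
    intro w hw
    exact hmult w hw.1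

end Groth.Agent.H9.ZTA
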