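import Mathlib
import Groth.Prelude.Def_WeilCoh

set_option autoImplicit false
set_option linter.style.haveILetI false
set_option linter.unusedSectionVars false
set_option linter.unusedVariables false

universe u

open AlgebraicGeometry CategoryTheory CategoryTheory.Limits

namespace Groth.Agent.H9.ZTA

/-- stalk map at a point whose image is propositionally a given point. -/
noncomputable def smEq {A B : Scheme.{u}} (f : A ⟶ B) (a : A) (b : B) (h : f a = b) :
    B.presheaf.stalk b ⟶ A.presheaf.stalk a :=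
  B.presheaf.stalkSpecializes (specializes_of_eq h) ≫ f.stalkMap a

theorem smEq_rfl {A B : Scheme.{u}} (f : A ⟶ B) (a : A) : smEq f a (f a) rfl = f.stalkMap a := by
  unfold smEq
  rw [TopCat.Presheaf.stalkSpecializes_refl, Category.id_comp]

theorem smEq_id {A : Scheme.{u}} (a : A) : smEq (𝟙 A) a a rfl = 𝟙 _ := by
  change A.presheaf.stalkSpecializes (specializes_refl a) ≫ (𝟙 A : A ⟶ A).stalkMap a = _
  rw [TopCat.Presheaf.stalkSpecializes_refl, Category.id_comp, Scheme.Hom.stalkMap_id]

theorem smEq_comp {A B C : Scheme.{u}} (f : A ⟶ B) (g : B ⟶ C) (a : A) (b : B) (c : C)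
    (hf : f a = b) (hg : g b = c) (hfg : (f ≫ g) a = c) :
    smEq (f ≫ g) a c hfg = smEq g b c hg ≫ smEq f a b hf := by
  subst hf
  subst hg
  rw [smEq_rfl, smEq_rfl]
  change C.presheaf.stalkSpecializes (specializes_refl _) ≫ (f ≫ g).stalkMap a = _
  rw [TopCat.Presheaf.stalkSpecializes_refl, Category.id_comp, Scheme.Hom.stalkMap_comp]

theorem smEq_congr {A B : Scheme.{u}} {f f' : A ⟶ B} (hff : f = f') (a : A) (b : B) (h : f a = b)
    (h' : f' a = b) : smEq f a b h = smEq f' a b h' := by
  subst hff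
  rfl

instance {A B : Scheme.{u}} (f : A ⟶ B) (a : A) (b : B) (h : f a = b) :
    IsLocalHom (smEq f a b h).hom := by
  subst h
  rw [smEq_rfl]
  infer_instance

/-- naturality of `smEq` with respect to specialization. -/
theorem smEq_specializes {A B : Scheme.{u}} (f : A ⟶ B) (a a' : A) (b : B) (h : f a' = b)
    (hs : a ⤳ a') :
    smEq f a' b h ≫ A.presheaf.stalkSpecializes hs =
      B.presheaf.stalkSpecializes (h ▸ f.base.hom.map_specializes hs) ≫ f.stalkMap a := by
  subst h
  rw [smEq_rfl, Scheme.Hom.stalkSpecializes_stalkMap]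

/-- the kernel of the stalk map of `j` at `w` lies in the prime of the image of a generization. -/
theorem ker_smEq_le {X P : Scheme.{u}} (j : X ⟶ P) (w η : X) (y : P) (h : j w = y) (hs : η ⤳ w)
    (hsp : j η ⤳ y) :
    RingHom.ker (smEq j w y h).hom ≤ RingHom.ker (Cyc.specMap y (j η) hsp) := by
  intro t ht
  rw [RingHom.mem_ker] at ht ⊢
  have hnat := smEq_specializes j η w y h hs
  have h1 : (j.stalkMap η).hom ((P.presheaf.stalkSpecializes hsp).hom t) = 0 := by
    have := congrArg (fun F => F.hom t) hnat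
    simp only [CommRingCat.hom_comp, RingHom.comp_apply] at this
    rw [ht, map_zero] at this
    exact this.symm
  unfold Cyc.specMap
  rw [CommRingCat.hom_comp, RingHom.comp_apply]
  -- the germ is a non-unit, so its residue is zero
  have hnu : ¬ IsUnit ((P.presheaf.stalkSpecializes hsp).hom t) := by
    intro hu
    have hu' := hu.map (j.stalkMap η).hom
    rw [h1] at hu'
    exact not_isUnit_zero hu'
  exact (IsLocalRing.residue_eq_zero_iff _).mpr ((IsLocalRing.mem_maximalIdeal _).mpr hnu)

/-- Multiplicity one criterion. -/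
theorem preimMult_eq_one {X P : Scheme.{u}} (j d : X ⟶ P) (p q : P ⟶ X) (φ : X ⟶ X)
    (hjp : j ≫ p = 𝟙 X) (hjq : j ≫ q = φ) (hdp : d ≫ p = 𝟙 X) (hdq : d ≫ q = 𝟙 X)
    (w η : X) (hs : η ⤳ w) (hw : j w = d w) (hφ : φ w = w)
    (H : IsLocalRing.maximalIdeal (X.presheaf.stalk w) ≤
      Ideal.span {g | ∃ γ : X.presheaf.stalk w, g = γ - (smEq φ w w hφ).hom γ})
    (h : d w ∈ closure ({j η} : Set P)) :
    WeilCoh.preimMult d (j η) w h = 1 := by
  set y := d w with hy
  have e₂ : p y = w := by
    have := congrArg (fun f => f w) hdp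
    simpa using this
  have e₃ : q y = w := by
    have := congrArg (fun f => f w) hdq
    simpa using this
  set D := smEq d w y rfl with hD
  set J := smEq j w y hw with hJ
  set Pp := smEq p y w e₂ with hPp
  set Q := smEq q y w e₃ with hQ
  set Φ := smEq φ w w hφ with hΦ
  have r1 : Pp ≫ D = 𝟙 _ := by
    rw [hPp, hD, ← smEq_comp d p w y w rfl e₂ (by rw [hdp]; rfl), smEq_congr hdp w w _ rfl, smEq_id]
  have r2 : Q ≫ D = 𝟙 _ := by
    rw [hQ, hD, ← smEq_comp d q w y w rfl e₃ (by rw [hdq]; rfl), smEq_congr hdq w w _ rfl, smEq_id]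
  have r3 : Pp ≫ J = 𝟙 _ := by
    rw [hPp, hJ, ← smEq_comp j p w y w hw e₂ (by rw [hjp]; rfl), smEq_congr hjp w w _ rfl, smEq_id]
  have r4 : Q ≫ J = Φ := by
    rw [hQ, hJ, ← smEq_comp j q w y w hw e₃ (by rw [hjq]; exact hφ), smEq_congr hjq w w _ hφ]
  have hsp : j η ⤳ y := specializes_iff_mem_closure.mpr h
  set 𝔭 := RingHom.ker (Cyc.specMap y (j η) hsp) with h𝔭
  have hker : RingHom.ker J.hom ≤ 𝔭 := ker_smEq_le j w η y hw hs hsp
  have hDd : D = d.stalkMap w := smEq_rfl d w
  -- the extended ideal is the maximal ideal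
  have hI : Ideal.map (d.stalkMap w).hom 𝔭 = IsLocalRing.maximalIdeal (X.presheaf.stalk w) := by
    apply le_antisymm
    · rw [Ideal.map_le_iff_le_comap]
      intro t ht
      rw [Ideal.mem_comap, IsLocalRing.mem_maximalIdeal]
      intro hu
      have hu' : IsUnit t := (isUnit_map_iff (d.stalkMap w).hom t).mp hu
      have : 𝔭 = ⊤ := Ideal.eq_top_of_isUnit_mem _ ht hu'
      exact (RingHom.ker_ne_top _) this
    · refine H.trans ?_
      rw [Ideal.span_le]
      rintro g ⟨γ, rfl⟩
      have hτ : Q.hom γ - Pp.hom (Φ.hom γ) ∈ 𝔭 := by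
        apply hker
        rw [RingHom.mem_ker, map_sub]
        have a1 : J.hom (Q.hom γ) = Φ.hom γ := by
          have := congrArg (fun F => F.hom γ) r4
          simpa using this
        have a2 : J.hom (Pp.hom (Φ.hom γ)) = Φ.hom γ := by
          have := congrArg (fun F => F.hom (Φ.hom γ)) r3
          simpa using this
        rw [a1, a2, sub_self]
      have hDτ : (d.stalkMap w).hom (Q.hom γ - Pp.hom (Φ.hom γ)) = γ - Φ.hom γ := by
        rw [← hDd, map_sub]
        have a1 : D.hom (Q.hom γ) = γ := by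
          have := congrArg (fun F => F.hom γ) r2
          simpa using this
        have a2 : D.hom (Pp.hom (Φ.hom γ)) = Φ.hom γ := by
          have := congrArg (fun F => F.hom (Φ.hom γ)) r1
          simpa using this
        rw [a1, a2]
      rw [← hDτ]
      exact Ideal.mem_map_of_mem _ hτ
  unfold WeilCoh.preimMult
  have : Ideal.map (d.stalkMap w).hom (RingHom.ker (Cyc.specMap (d w) (j η)
      (specializes_iff_mem_closure.mpr h))) =
      IsLocalRing.maximalIdeal (X.presheaf.stalk w) := hI
  rw [this]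
  have hsimple : IsSimpleModule (X.presheaf.stalk w)
      (X.presheaf.stalk w ⧸ IsLocalRing.maximalIdeal (X.presheaf.stalk w)) := by
    rw [isSimpleModule_iff_quot_maximal]
    exact ⟨_, IsLocalRing.maximalIdeal.isMaximal _, ⟨LinearEquiv.refl _ _⟩⟩
  rw [Module.length_eq_one_iff.mpr hsimple]
  rfl

end Groth.Agent.H9.ZTA
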