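import Mathlib

set_option autoImplicit false
set_option linter.style.haveILetI false
set_option linter.unusedSectionVars false
set_option linter.unusedVariables false

namespace Groth.Agent.H9.ZTB
universe u

/-- the maximal ideal at a Frobenius fixed rational point is generated by `γ - Φ γ`. -/
theorem maximalIdeal_le_span_sub
    {C L : Type*} [CommRing C] [CommRing L] [IsLocalRing L] [Algebra C L] (𝔫 : Ideal C)
    [h𝔫 : 𝔫.IsPrime] [IsLocalization.AtPrime L 𝔫]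
    (p : ℕ) [Fact p.Prime] [CharP C p] (r : ℕ) (hr : 0 < r)
    (φC : C →+* C) (Φ : L →+* L) [IsLocalHom Φ]
    (hΦ : ∀ c, Φ (algebraMap C L c) = algebraMap C L (φC c))
    {k B : Type*} [Field k] [CommRing B] (κ : k →+* C) (β : B →+* C)
    (hgen : Subring.closure (Set.range β ∪ Set.range κ) = ⊤)
    (hβ : ∀ b, φC (β b) = β b ^ (p ^ r)) (hκ : ∀ c, φC (κ c) = κ c)
    (hev : ∀ b : B, ∃ c : k, β b - κ c ∈ 𝔫) :
    IsLocalRing.maximalIdeal L ≤ Ideal.span {g | ∃ γ : L, g = γ - Φ γ} := by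
  set T : Set C := {t | ∃ (b : B) (c : k), t = β b - κ c ∧ t ∈ 𝔫} with hT
  set J : Ideal C := Ideal.span T with hJ
  have hJ𝔫 : J ≤ 𝔫 := by
    rw [hJ, Ideal.span_le]
    rintro t ⟨b, c, -, ht⟩
    exact ht
  -- every element is congruent to a constant modulo J
  have hA : ∀ x : C, ∃ c : k, x - κ c ∈ J := by
    intro x
    have hx : x ∈ Subring.closure (Set.range β ∪ Set.range κ) := by rw [hgen]; trivial
    induction hx using Subring.closure_induction with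
    | mem y hy =>
      rcases hy with ⟨b, rfl⟩ | ⟨c, rfl⟩
      · obtain ⟨c, hc⟩ := hev b
        exact ⟨c, Ideal.subset_span ⟨b, c, rfl, hc⟩⟩
      · exact ⟨c, by rw [sub_self]; exact J.zero_mem⟩
    | zero => exact ⟨0, by rw [map_zero, sub_self]; exact J.zero_mem⟩
    | one => exact ⟨1, by rw [map_one, sub_self]; exact J.zero_mem⟩
    | add x y _ _ hx hy =>
      obtain ⟨c₁, h₁⟩ := hx
      obtain ⟨c₂, h₂⟩ := hy
      refine ⟨c₁ + c₂, ?_⟩
      have : x + y - κ (c₁ + c₂) = (x - κ c₁) + (y - κ c₂) := by rw [map_add]; ring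
      rw [this]; exact J.add_mem h₁ h₂
    | neg x _ hx =>
      obtain ⟨c₁, h₁⟩ := hx
      refine ⟨-c₁, ?_⟩
      have : -x - κ (-c₁) = -(x - κ c₁) := by rw [map_neg]; ring
      rw [this]; exact J.neg_mem h₁
    | mul x y _ _ hx hy =>
      obtain ⟨c₁, h₁⟩ := hx
      obtain ⟨c₂, h₂⟩ := hy
      refine ⟨c₁ * c₂, ?_⟩
      have : x * y - κ (c₁ * c₂) = (x - κ c₁) * y + κ c₁ * (y - κ c₂) := by rw [map_mul]; ring
      rw [this]
      exact J.add_mem (J.mul_mem_right _ h₁) (J.mul_mem_left _ h₂)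
  have hκ𝔫 : ∀ c : k, κ c ∈ 𝔫 → c = 0 := by
    intro c hc
    by_contra hne
    have hu : IsUnit (κ c) := (IsUnit.mk0 c hne).map κ
    exact h𝔫.ne_top (Ideal.eq_top_of_isUnit_mem _ hc hu)
  have h𝔫J : 𝔫 ≤ J := by
    intro x hx
    obtain ⟨c, hc⟩ := hA x
    have h1 : κ c ∈ 𝔫 := by
      have : κ c = x - (x - κ c) := by ring
      rw [this]
      exact 𝔫.sub_mem hx (hJ𝔫 hc)
    rw [hκ𝔫 c h1, map_zero, sub_zero] at hc
    exact hc
  have hEq : 𝔫 = J := le_antisymm h𝔫J hJ𝔫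
  have hmax : IsLocalRing.maximalIdeal L = Ideal.map (algebraMap C L) 𝔫 :=
    (IsLocalization.AtPrime.map_eq_maximalIdeal 𝔫 L).symm
  rw [hmax, hEq, hJ, Ideal.map_span, Ideal.span_le]
  rintro _ ⟨t, ⟨b, c, rfl, ht⟩, rfl⟩
  set t := β b - κ c with htdef
  set γ := algebraMap C L t with hγ
  have hγm : γ ∈ IsLocalRing.maximalIdeal L := by
    rw [hmax]; exact Ideal.mem_map_of_mem _ ht
  have hΦγm : Φ γ ∈ IsLocalRing.maximalIdeal L := by
    rw [IsLocalRing.mem_maximalIdeal, mem_nonunits_iff] at hγm ⊢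
    intro hu
    exact hγm ((isUnit_map_iff Φ γ).mp hu)
  have hφt : φC t ∈ 𝔫 := by
    rw [hγ, hΦ] at hΦγm
    exact (IsLocalization.AtPrime.to_map_mem_maximal_iff L 𝔫 _).mp hΦγm
  have htQ : t ^ (p ^ r) = β b ^ (p ^ r) - κ c ^ (p ^ r) := sub_pow_char_pow (β b) (κ c) r
  have hφt' : φC t = β b ^ (p ^ r) - κ c := by
    rw [htdef, map_sub, hβ, hκ]
  have hcQ : c ^ (p ^ r) - c = 0 := by
    apply hκ𝔫
    have : κ (c ^ (p ^ r) - c) = φC t - t ^ (p ^ r) := by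
      rw [hφt', htQ, map_sub, map_pow]; ring
    rw [this]
    exact 𝔫.sub_mem hφt (𝔫.pow_mem_of_mem ht _ (pow_pos (Nat.Prime.pos Fact.out) r))
  have hφtQ : φC t = t ^ (p ^ r) := by
    rw [hφt', htQ, ← map_pow κ, sub_eq_zero.mp hcQ]
  have hΦγ : Φ γ = γ ^ (p ^ r) := by
    rw [hγ, hΦ, hφtQ, map_pow]
  -- γ = (γ - Φ γ) * unit⁻¹
  have hQ2 : 1 ≤ p ^ r - 1 := by
    have : 2 ≤ p ^ r := by
      calc 2 ≤ p := (Fact.out : p.Prime).two_le
        _ = p ^ 1 := (pow_one p).symm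
        _ ≤ p ^ r := Nat.pow_le_pow_right (Nat.Prime.pos Fact.out) hr
    omega
  have hunit : IsUnit (1 - γ ^ (p ^ r - 1)) := by
    have hm : γ ^ (p ^ r - 1) ∈ IsLocalRing.maximalIdeal L :=
      Ideal.pow_mem_of_mem _ hγm _ hQ2
    have := IsLocalRing.isUnit_one_sub_self_of_mem_nonunits _
      ((IsLocalRing.mem_maximalIdeal _).mp hm)
    exact this
  obtain ⟨v, hv⟩ := hunit
  have hfac : γ - Φ γ = γ * (1 - γ ^ (p ^ r - 1)) := by
    rw [hΦγ, mul_sub, mul_one, ← pow_succ']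
    congr 2
    have : 1 ≤ p ^ r := Nat.one_le_pow _ _ (Nat.Prime.pos Fact.out)
    omega
  have hγeq : γ = (γ - Φ γ) * (v⁻¹ : Lˣ) := by
    rw [hfac, ← hv, mul_assoc, Units.mul_inv, mul_one]
  rw [hγeq]
  exact Ideal.mul_mem_right _ _ (Ideal.subset_span ⟨γ, rfl⟩)

end Groth.Agent.H9.ZTB
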