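import Mathlib
import Groth.Prelude.Def_WeilCoh
import Groth.Agent.Lib.Helper9.Misc.ZTA2
import Groth.Agent.Lib.Helper9.Misc.ZTB1

set_option autoImplicit false
set_option linter.style.haveILetI false
set_option linter.unusedSectionVars false
set_option linter.unusedVariables false

universe u

open AlgebraicGeometry CategoryTheory CategoryTheory.Limits

namespace Groth.Agent.H9.ZTB

open Groth.Agent.H9.ZTA

/-- the two legs of a pushout of commutative rings generate. -/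
theorem closure_of_isPushout {A B C P : CommRingCat.{u}} {f : A ⟶ B} {g : A ⟶ C} {inl : B ⟶ P}
    {inr : C ⟶ P} (h : IsPushout f g inl inr) :
    Subring.closure (Set.range inl.hom ∪ Set.range inr.hom) = ⊤ := by
  set S : Subring P := Subring.closure (Set.range inl.hom ∪ Set.range inr.hom) with hS
  let P' : CommRingCat.{u} := CommRingCat.of S
  let ι : P' ⟶ P := CommRingCat.ofHom S.subtype
  let inl' : B ⟶ P' := CommRingCat.ofHom (inl.hom.codRestrict S (fun b =>
    Subring.subset_closure (Or.inl ⟨b, rfl⟩)))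
  let inr' : C ⟶ P' := CommRingCat.ofHom (inr.hom.codRestrict S (fun c =>
    Subring.subset_closure (Or.inr ⟨c, rfl⟩)))
  have hι : Function.Injective ι.hom := Subtype.val_injective
  have hl : inl' ≫ ι = inl := by ext b; rfl
  have hr : inr' ≫ ι = inr := by ext c; rfl
  have hw : f ≫ inl' = g ≫ inr' := by
    ext a
    exact congrArg (fun F => F.hom a) h.w
  let r : P ⟶ P' := h.desc inl' inr' hw
  have hrι : r ≫ ι = 𝟙 P := by
    apply h.hom_ext
    · rw [← Category.assoc, h.inl_desc, hl, Category.comp_id]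
    · rw [← Category.assoc, h.inr_desc, hr, Category.comp_id]
  rw [eq_top_iff]
  intro x _
  have := congrArg (fun F => F.hom x) hrι
  simp only [CommRingCat.hom_comp, RingHom.comp_apply, CommRingCat.hom_id, RingHom.id_apply] at this
  rw [← this]
  exact (r.hom x).2

theorem appLE_congr_hom {X Y : Scheme.{u}} {f f' : X ⟶ Y} (h : f = f') (U : Y.Opens)
    (V : X.Opens) (e : V ≤ f ⁻¹ᵁ U) (e' : V ≤ f' ⁻¹ᵁ U) : f.appLE U V e = f'.appLE U V e' := by
  subst h
  rfl

/-- `smEq` on germs. -/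
theorem smEq_germ {Y : Scheme.{u}} (φ : Y ⟶ Y) (w : Y) (hφw : φ w = w) (U : Y.Opens) (hw : w ∈ U)
    (hle : U ≤ φ ⁻¹ᵁ U) (c : Γ(Y, U)) :
    (smEq φ w w hφw).hom ((Y.presheaf.germ U w hw).hom c) =
      (Y.presheaf.germ U w hw).hom ((φ.appLE U U hle).hom c) := by
  have hφwU : φ w ∈ U := by rw [hφw]; exact hw
  have h1 : Y.presheaf.germ U w hw ≫ smEq φ w w hφw =
      φ.appLE U U hle ≫ Y.presheaf.germ U w hw := by
    unfold smEq
    rw [← Category.assoc, TopCat.Presheaf.germ_stalkSpecializes, Scheme.Hom.germ_stalkMap,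
      Scheme.Hom.appLE, Category.assoc, TopCat.Presheaf.germ_res]
  have := congrArg (fun F => F.hom c) h1
  simpa using this

section main

variable {k₀ k : Type u} [Field k₀] [Field k] [Algebra k₀ k] (p r : ℕ) [Fact p.Prime] [CharP k p]
  (hr : 0 < r)
  {X Y : Scheme.{u}} (f : X ⟶ Spec (CommRingCat.of k₀)) (g : Y ⟶ Spec (CommRingCat.of k))
  (π : Y ⟶ X) (hπ : IsPullback π g f (Spec.map (CommRingCat.ofHom (algebraMap k₀ k))))
  (Ψ : X ⟶ X) (hΨb : Ψ.base = 𝟙 _) (hΨle : ∀ U : X.Opens, U ≤ Ψ ⁻¹ᵁ U)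
  (hΨ : ∀ (U : X.Opens) (s : Γ(X, U)), (Ψ.appLE U U (hΨle U)).hom s = s ^ (p ^ r))
  (φ : Y ⟶ Y) (hφg : φ ≫ g = g) (hφπ : φ ≫ π = π ≫ Ψ)
  (s : Spec (CommRingCat.of k) ⟶ Y) (hs : s ≫ g = 𝟙 _)

include hr hπ hΨb hΨ hφg hφπ hs in
theorem maximalIdeal_le_span (pt : Spec (CommRingCat.of k)) (hφw : φ (s pt) = s pt) :
    IsLocalRing.maximalIdeal (Y.presheaf.stalk (s pt)) ≤
      Ideal.span {γ' | ∃ γ : Y.presheaf.stalk (s pt), γ' = γ - (smEq φ (s pt) (s pt) hφw).hom γ} := by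
  set w := s pt with hw
  -- affine neighbourhood
  obtain ⟨_, ⟨U₀, hU₀, rfl⟩, hxU₀, -⟩ :=
    X.isBasis_affineOpens.exists_subset_of_mem_open (Set.mem_univ (π w)) isOpen_univ
  set Ū : Y.Opens := π ⁻¹ᵁ U₀ ⊓ g ⁻¹ᵁ ⊤ with hŪ
  have hwŪ : w ∈ Ū := ⟨hxU₀, trivial⟩
  haveI : IsAffineHom π :=
    MorphismProperty.of_isPullback (P := @IsAffineHom) hπ.flip inferInstance
  have hŪaff : IsAffineOpen Ū := by
    have : Ū = π ⁻¹ᵁ U₀ := by
      rw [hŪ]; ext x; simp
    rw [this]
    exact hU₀.preimage π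
  have hST : (⊤ : (Spec (CommRingCat.of k)).Opens) ≤
      (Spec.map (CommRingCat.ofHom (algebraMap k₀ k))) ⁻¹ᵁ ⊤ := le_top
  have hSX : U₀ ≤ f ⁻¹ᵁ ⊤ := le_top
  have hpush := (isIso_pushoutSection_iff hπ hST hSX hŪ).mp
    (isIso_pushoutSection_of_isAffineOpen hπ hST hSX hŪ (isAffineOpen_top _) (isAffineOpen_top _)
      hU₀)
  have hgen := closure_of_isPushout hpush
  -- the ring-level data
  have hleπ : Ū ≤ π ⁻¹ᵁ U₀ := inf_le_left
  have hleg : Ū ≤ g ⁻¹ᵁ ⊤ := inf_le_right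
  have hleφ : Ū ≤ φ ⁻¹ᵁ Ū := by
    intro x hx
    refine ⟨?_, trivial⟩
    change π (φ x) ∈ U₀
    have h1 : π (φ x) = Ψ (π x) := by
      have := congrArg (fun F => F x) hφπ
      simpa using this
    have h2 : Ψ (π x) = π x := by
      have := congrArg (fun F => F (π x)) hΨb
      exact this
    rw [h1, h2]
    exact hx.1
  let := Y.presheaf.algebra_section_stalk ⟨w, hwŪ⟩
  have hloc := hŪaff.isLocalization_stalk ⟨w, hwŪ⟩
  set 𝔫 := (hŪaff.primeIdealOf ⟨w, hwŪ⟩).asIdeal with h𝔫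
  let e := (Scheme.ΓSpecIso (CommRingCat.of k)).commRingCatIsoToRingEquiv
  let κ : k →+* Γ(Y, Ū) := (g.appLE ⊤ Ū hleg).hom.comp e.symm.toRingHom
  let β : Γ(X, U₀) →+* Γ(Y, Ū) := (π.appLE U₀ Ū hleπ).hom
  have hrangeκ : Set.range κ = Set.range (g.appLE ⊤ Ū hleg).hom := by
    ext x
    constructor
    · rintro ⟨c, rfl⟩; exact ⟨_, rfl⟩
    · rintro ⟨c, rfl⟩
      refine ⟨e c, ?_⟩
      change (g.appLE ⊤ Ū hleg).hom (e.symm (e c)) = _
      rw [e.symm_apply_apply]
  have hgen' : Subring.closure (Set.range β ∪ Set.range κ) = ⊤ := by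
    rw [hrangeκ]; exact hgen
  haveI : Nontrivial Γ(Y, Ū) := by
    have : Nonempty Ū := ⟨⟨w, hwŪ⟩⟩
    haveI : Nonempty (Ū : Y.Opens).toScheme := this
    exact (inferInstance : Nontrivial Γ(Y, Ū))
  haveI : CharP Γ(Y, Ū) p := charP_of_injective_ringHom κ.injective p
  -- Frobenius compatibilities
  have hβφ : ∀ b, (φ.appLE Ū Ū hleφ).hom (β b) = β b ^ (p ^ r) := by
    intro b
    have e1 : π.appLE U₀ Ū hleπ ≫ φ.appLE Ū Ū hleφ = Ψ.appLE U₀ U₀ (hΨle U₀) ≫ π.appLE U₀ Ū hleπ := by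
      rw [Scheme.Hom.appLE_comp_appLE, Scheme.Hom.appLE_comp_appLE]
      exact appLE_congr_hom hφπ _ _ _ _
    have := congrArg (fun F => F.hom b) e1
    simp only [CommRingCat.hom_comp, RingHom.comp_apply] at this
    rw [hΨ, map_pow] at this
    exact this
  have hκφ : ∀ c, (φ.appLE Ū Ū hleφ).hom (κ c) = κ c := by
    intro c
    have e1 : g.appLE ⊤ Ū hleg ≫ φ.appLE Ū Ū hleφ = g.appLE ⊤ Ū hleg := by
      rw [Scheme.Hom.appLE_comp_appLE]
      exact appLE_congr_hom hφg _ _ _ _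
    have := congrArg (fun F => F.hom (e.symm c)) e1
    simp only [CommRingCat.hom_comp, RingHom.comp_apply] at this
    exact this
  -- evaluation at the rational point
  have hles : (⊤ : (Spec (CommRingCat.of k)).Opens) ≤ s ⁻¹ᵁ Ū := by
    intro x _
    have : x = pt := Subsingleton.elim _ _
    rw [this]
    exact hwŪ
  let ε : Γ(Y, Ū) →+* k := e.toRingHom.comp (s.appLE Ū ⊤ hles).hom
  have hεκ : ∀ c, ε (κ c) = c := by
    intro c
    have e1 : g.appLE ⊤ Ū hleg ≫ s.appLE Ū ⊤ hles = 𝟙 _ := by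
      rw [Scheme.Hom.appLE_comp_appLE, appLE_congr_hom hs ⊤ ⊤ _ le_top]
      simp [Scheme.Hom.appLE]
    have := congrArg (fun F => F.hom (e.symm c)) e1
    simp only [CommRingCat.hom_comp, RingHom.comp_apply, CommRingCat.hom_id,
      RingHom.id_apply] at this
    change e ((s.appLE Ū ⊤ hles).hom ((g.appLE ⊤ Ū hleg).hom (e.symm c))) = c
    rw [this, e.apply_symm_apply]
  have hkerε : ∀ x, ε x = 0 → x ∈ 𝔫 := by
    intro x hx
    rw [h𝔫, ← IsLocalization.AtPrime.to_map_mem_maximal_iff (Y.presheaf.stalk w) _ x,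
      IsLocalRing.mem_maximalIdeal, mem_nonunits_iff]
    intro hu
    have hx0 : (s.appLE Ū ⊤ hles).hom x = 0 := by
      apply e.injective
      rw [map_zero]
      exact hx
    have hu' := hu.map (s.stalkMap pt).hom
    have hcomp : (s.stalkMap pt).hom ((Y.presheaf.germ Ū w hwŪ).hom x) =
        ((Spec (CommRingCat.of k)).presheaf.germ (s ⁻¹ᵁ Ū) pt hwŪ).hom ((s.app Ū).hom x) := by
      have := congrArg (fun F => F.hom x) (Scheme.Hom.germ_stalkMap s Ū pt hwŪ)
      simp only [CommRingCat.hom_comp, RingHom.comp_apply] at this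
      exact this
    have happ : (s.app Ū).hom x = 0 := by
      have e2 : s.appLE Ū ⊤ hles = s.app Ū ≫ (Spec (CommRingCat.of k)).presheaf.map
          (homOfLE hles).op := rfl
      have hinj : Function.Injective ((Spec (CommRingCat.of k)).presheaf.map
          (homOfLE hles).op).hom := by
        have htop : s ⁻¹ᵁ Ū = ⊤ := top_le_iff.mp hles
        have : IsIso ((Spec (CommRingCat.of k)).presheaf.map (homOfLE hles).op) := by
          have : IsIso (homOfLE hles) := by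
            refine ⟨homOfLE le_top, Subsingleton.elim _ _, Subsingleton.elim _ _⟩
          infer_instance
        exact ((ConcreteCategory.isIso_iff_bijective _).1 this).1
      apply hinj
      rw [map_zero]
      have := congrArg (fun F => F.hom x) e2
      simp only [CommRingCat.hom_comp, RingHom.comp_apply] at this
      rw [← this]
      exact hx0
    change IsUnit ((s.stalkMap pt).hom ((Y.presheaf.germ Ū w hwŪ).hom x)) at hu'
    rw [hcomp, happ, map_zero] at hu'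
    exact not_isUnit_zero hu'
  have hev : ∀ b, ∃ c : k, β b - κ c ∈ 𝔫 := by
    intro b
    refine ⟨ε (β b), hkerε _ ?_⟩
    rw [map_sub, hεκ, sub_self]
  -- apply the ring-level lemma
  have hΦ : ∀ c : Γ(Y, Ū), (smEq φ w w hφw).hom (algebraMap Γ(Y, Ū) (Y.presheaf.stalk w) c) =
      algebraMap Γ(Y, Ū) (Y.presheaf.stalk w) ((φ.appLE Ū Ū hleφ).hom c) :=
    fun c => smEq_germ φ w hφw Ū hwŪ hleφ c
  exact maximalIdeal_le_span_sub 𝔫 p r hr (φ.appLE Ū Ū hleφ).hom (smEq φ w w hφw).hom hΦ κ β hgen'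
    hβφ hκφ hev

end main

end Groth.Agent.H9.ZTB
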