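import Mathlib
import Groth.Prelude.Def_WeilCoh
import Groth.Agent.Lib.Helper9.Misc.ZTA1
import Groth.Agent.Lib.Helper9.Misc.ZTA2

set_option autoImplicit false
set_option linter.style.haveILetI false
set_option linter.unusedSectionVars false
set_option linter.unusedVariables false

universe u v w

open AlgebraicGeometry CategoryTheory CategoryTheory.Limits

namespace Groth.Agent.H9.ZTB

open WeilCoh Groth.Agent.H9.WeilA Groth.Agent.H9.WeilB Groth.Agent.H9.WeilC Groth.Agent.H9.WeilD
  Groth.Agent.H9.WeilH Groth.Agent.H9.ZTA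

variable {k : Type u} [Field k] [IsAlgClosed k]

/-- `k`-points fixed by `φ`. -/
def Fixk (X : Var k) (φ : X ⟶ X) : Type u :=
  {s : Spec (CommRingCat.of k) ⟶ X.obj.left // s ≫ X.obj.hom = 𝟙 _ ∧ s ≫ sm φ = s}

theorem lft (X : Var k) : LocallyOfFiniteType X.obj.hom := by
  have : Smooth X.obj.hom := X.property.1
  infer_instance

section

variable {X P : Var k} (p q : P ⟶ X) (hP : IsProd p q) (φ : X ⟶ X) (j d : X ⟶ P)
  (hjp : j ≫ p = 𝟙 X) (hjq : j ≫ q = φ) (hdp : d ≫ p = 𝟙 X) (hdq : d ≫ q = 𝟙 X)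

include hP hjp hjq hdp hdq in
theorem sm_j_eq_sm_d_of_fix (s : Spec (CommRingCat.of k) ⟶ X.obj.left)
    (hsφ : s ≫ sm φ = s) (a : Spec (CommRingCat.of k)) : sm j (s a) = sm d (s a) := by
  have : s ≫ sm j = s ≫ sm d := by
    apply hP.hom_ext
    · rw [Category.assoc, Category.assoc, ← sm_comp, ← sm_comp, hjp, hdp]
    · rw [Category.assoc, Category.assoc, ← sm_comp, ← sm_comp, hjq, hdq, sm_id, Category.comp_id,
        hsφ]
  have := congrArg (fun f => f a) this
  simpa using this

include hjq hdq in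
theorem point_fix (x : X.obj.left) (hx : IsClosed ({x} : Set X.obj.left))
    (h : sm j x = sm d x) :
    haveI := lft X
    pointOfClosedPoint X.obj.hom x hx ≫ sm φ = pointOfClosedPoint X.obj.hom x hx := by
  haveI := lft X
  haveI := lft P
  set s := pointOfClosedPoint X.obj.hom x hx with hsdef
  have hs : s ≫ X.obj.hom = 𝟙 _ := pointOfClosedPoint_comp _ _ _
  have e : s ≫ sm j = s ≫ sm d := by
    refine ext_of_apply_closedPoint_eq P.obj.hom ?_ ?_ ?_
    · rw [Category.assoc]
      have : sm j ≫ P.obj.hom = X.obj.hom := Over.w j.hom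
      rw [this]; exact hs
    · rw [Category.assoc]
      have : sm d ≫ P.obj.hom = X.obj.hom := Over.w d.hom
      rw [this]; exact hs
    · have h1 : s (IsLocalRing.closedPoint k) = x := pointOfClosedPoint_apply _ _ _ _
      simp only [Scheme.Hom.comp_apply]
      rw [h1]; exact h
  calc s ≫ sm φ = s ≫ sm j ≫ sm q := by rw [← sm_comp, hjq]
    _ = s ≫ sm d ≫ sm q := by rw [← Category.assoc, e, Category.assoc]
    _ = s := by rw [← sm_comp, hdq, sm_id, Category.comp_id]

variable {K : Type v} [Field K] [CharZero K] (T : Theory k K)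

include hP hjp hjq hdp hdq in
/-- Lefschetz number as number of fixed `k`-points, assuming finiteness and transversality. -/
theorem tr_graph_diag_eq_card_fixk [IrreducibleSpace ↥X.obj.left]
    (hfin : Finite (Fixk X φ))
    (H : ∀ (s : Spec (CommRingCat.of k) ⟶ X.obj.left) (hs : s ≫ X.obj.hom = 𝟙 _)
      (hsφ : s ≫ sm φ = s) (hφw : sm φ (s (IsLocalRing.closedPoint k)) = s (IsLocalRing.closedPoint k)),
      IsLocalRing.maximalIdeal (X.obj.left.presheaf.stalk (s (IsLocalRing.closedPoint k))) ≤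
        Ideal.span {g | ∃ γ : X.obj.left.presheaf.stalk (s (IsLocalRing.closedPoint k)),
          g = γ - (smEq (sm φ) _ _ hφw).hom γ}) :
    T.tr P (T.cl P (sm j (genericPoint ↥X.obj.left)) * T.cl P (sm d (genericPoint ↥X.obj.left))) =
      (Nat.card (Fixk X φ) : K) := by
  haveI := lft X
  haveI : JacobsonSpace ↥X.obj.left := LocallyOfFiniteType.jacobsonSpace X.obj.hom
  set FixPt : Set X.obj.left := {x | sm j x = sm d x} with hFixPt
  have hFixPt_eq : FixPt =
      (sm d) ⁻¹' closure ({sm j (genericPoint ↥X.obj.left)} : Set P.obj.left) := by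
    ext x; exact (mem_preimage_iff j d p hjp hdp x).symm
  have hFclosed : IsClosed FixPt := by
    rw [hFixPt_eq]; exact isClosed_closure.preimage (sm d).continuous
  -- closed fixed points ↪ Fixk
  let Φ : {x : X.obj.left // x ∈ FixPt ∧ IsClosed ({x} : Set X.obj.left)} → Fixk X φ := fun x =>
    ⟨pointOfClosedPoint X.obj.hom x.1 x.2.2, pointOfClosedPoint_comp _ _ _,
      point_fix q φ j d hjq hdq x.1 x.2.2 x.2.1⟩
  have hΦinj : Function.Injective Φ := by
    intro a b hab
    have h1 : (Φ a).1 (IsLocalRing.closedPoint k) = (Φ b).1 (IsLocalRing.closedPoint k) := by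
      rw [hab]
    have h2 : (Φ a).1 (IsLocalRing.closedPoint k) = a.1 := pointOfClosedPoint_apply _ _ _ _
    have h3 : (Φ b).1 (IsLocalRing.closedPoint k) = b.1 := pointOfClosedPoint_apply _ _ _ _
    exact Subtype.ext (by rw [← h2, ← h3, h1])
  have hfinC : (FixPt ∩ closedPoints X.obj.left).Finite := by
    haveI : Finite {x : X.obj.left // x ∈ FixPt ∧ IsClosed ({x} : Set X.obj.left)} :=
      Finite.of_injective Φ hΦinj
    exact Set.finite_coe_iff.mp ‹_›
  -- all fixed points are closed
  have hclosed : ∀ x : X.obj.left, sm j x = sm d x → IsClosed ({x} : Set X.obj.left) := by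
    intro x hx
    set Z := closure ({x} : Set X.obj.left) with hZ
    have hZF : Z ⊆ FixPt := hFclosed.closure_subset_iff.mpr (Set.singleton_subset_iff.mpr hx)
    have hfinZ : (Z ∩ closedPoints X.obj.left).Finite :=
      hfinC.subset (Set.inter_subset_inter_left _ hZF)
    have hclZ : IsClosed (Z ∩ closedPoints X.obj.left) := by
      rw [← Set.biUnion_of_singleton (Z ∩ closedPoints X.obj.left)]
      exact hfinZ.isClosed_biUnion fun i hi => hi.2
    have := JacobsonSpace.closure_inter_closedPoints (isClosed_closure : IsClosed Z)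
    rw [hclZ.closure_eq] at this
    have hxZ : x ∈ Z ∩ closedPoints X.obj.left := by
      rw [this]; exact subset_closure rfl
    exact hxZ.2
  have hfin' : {x : X.obj.left | sm j x = sm d x}.Finite := by
    refine hfinC.subset ?_
    intro x hx
    exact ⟨hx, hclosed x hx⟩
  have hjp' : sm j ≫ sm p = 𝟙 X.obj.left := by rw [← sm_comp, hjp, sm_id]
  have hjq' : sm j ≫ sm q = sm φ := by rw [← sm_comp, hjq]
  have hdp' : sm d ≫ sm p = 𝟙 X.obj.left := by rw [← sm_comp, hdp, sm_id]
  have hdq' : sm d ≫ sm q = 𝟙 X.obj.left := by rw [← sm_comp, hdq, sm_id]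
  have hmult : ∀ (x : X.obj.left)
      (hx : sm d x ∈ closure ({sm j (genericPoint ↥X.obj.left)} : Set P.obj.left)),
      preimMult (sm d) (sm j (genericPoint ↥X.obj.left)) x hx = 1 := by
    intro x hx
    have hx' : sm j x = sm d x := (mem_preimage_iff j d p hjp hdp x).1 hx
    have hcx := hclosed x hx'
    obtain ⟨s, hs, hsφ, hsx⟩ : ∃ s : Spec (CommRingCat.of k) ⟶ X.obj.left,
        s ≫ X.obj.hom = 𝟙 _ ∧ s ≫ sm φ = s ∧ s (IsLocalRing.closedPoint k) = x :=
      ⟨pointOfClosedPoint X.obj.hom x hcx, pointOfClosedPoint_comp _ _ _,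
        point_fix q φ j d hjq hdq x hcx hx', pointOfClosedPoint_apply _ _ _ _⟩
    subst hsx
    have hφw : sm φ (s (IsLocalRing.closedPoint k)) = s (IsLocalRing.closedPoint k) := by
      have := congrArg (fun f => f (IsLocalRing.closedPoint k)) hsφ
      simpa using this
    have hsp : genericPoint ↥X.obj.left ⤳ s (IsLocalRing.closedPoint k) := by
      rw [specializes_iff_mem_closure, genericPoint_spec]; trivial
    exact preimMult_eq_one (sm j) (sm d) (sm p) (sm q) (sm φ) hjp' hjq' hdp' hdq' _ _ hsp hx' hφw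
      (H s hs hsφ hφw) hx
  rw [tr_graph_diag_eq_card T X P p q hP j d hjp hdp hclosed hfin' hmult]
  congr 1
  let f : {x : X.obj.left // sm j x = sm d x} → Fixk X φ := fun x =>
    Φ ⟨x.1, x.2, hclosed x.1 x.2⟩
  refine Nat.card_congr (Equiv.ofBijective f ⟨?_, ?_⟩)
  · intro a b hab
    have := hΦinj hab
    exact Subtype.ext (congrArg (fun t => t.1) this)
  · intro s
    have hx' : sm j (s.1 (IsLocalRing.closedPoint k)) = sm d (s.1 (IsLocalRing.closedPoint k)) :=
      sm_j_eq_sm_d_of_fix p q hP φ j d hjp hjq hdp hdq s.1 s.2.2 _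
    refine ⟨⟨s.1 (IsLocalRing.closedPoint k), hx'⟩, ?_⟩
    apply Subtype.ext
    exact ext_of_apply_closedPoint_eq X.obj.hom (pointOfClosedPoint_comp _ _ _) s.2.1
      (pointOfClosedPoint_apply _ _ _ _)

end

end Groth.Agent.H9.ZTB
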