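import Mathlib
import Groth.Prelude.Def_WeilCoh
import Groth.Prelude.Def_W4c1zetahwZeta
import Groth.Agent.Lib.Helper9.Misc.ZTB2
import Groth.Agent.Lib.Helper9.Misc.ZTB3
import Groth.Agent.Lib.Helper9.Misc.ZTC3

set_option autoImplicit false
set_option linter.style.haveILetI false
set_option linter.unusedSectionVars false
set_option linter.unusedVariables false

universe u v w

open AlgebraicGeometry CategoryTheory CategoryTheory.Limits

namespace Groth.Agent.H9.ZTD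

open WeilCoh Groth.Agent.H9.WeilA Groth.Agent.H9.WeilB Groth.Agent.H9.WeilC Groth.Agent.H9.WeilD
  Groth.Agent.H9.WeilH Groth.Agent.H9.ZTA Groth.Agent.H9.ZTB Groth.Agent.H9.ZTC

variable {k₀ k : Type u} [Field k₀] [Field k] [IsAlgClosed k] [Algebra k₀ k]
  {X : Scheme.{u}} (f : X ⟶ Spec (CommRingCat.of k₀))
  (Ψ : X ⟶ X)
  (Xb : Var k) (π : Xb.obj.left ⟶ X)
  (hπ : IsPullback π Xb.obj.hom f (Spec.map (CommRingCat.ofHom (algebraMap k₀ k))))
  (φ : Xb ⟶ Xb) (hφπ : sm φ ≫ π = π ≫ Ψ)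

/-- fixed `k`-points of `Xb` correspond to fixed `k`-points of `X` over `k₀` -/
noncomputable def fixEquiv : Fixk Xb φ ≃ FixN k f Ψ where
  toFun s := ⟨s.1 ≫ π, by
      rw [Category.assoc, hπ.w, ← Category.assoc, s.2.1, Category.id_comp], by
      rw [Category.assoc, ← hφπ, ← Category.assoc, s.2.2]⟩
  invFun u := ⟨hπ.lift u.1 (𝟙 _) (by rw [u.2.1, Category.id_comp]), hπ.lift_snd _ _ _, by
      apply hπ.hom_ext
      · rw [Category.assoc, hφπ, ← Category.assoc, hπ.lift_fst, u.2.2]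
      · have : sm φ ≫ Xb.obj.hom = Xb.obj.hom := Over.w φ.hom
        rw [Category.assoc, this]⟩
  left_inv s := by
    apply Subtype.ext
    apply hπ.hom_ext
    · exact hπ.lift_fst _ _ _
    · rw [hπ.lift_snd]; exact s.2.1.symm
  right_inv u := by
    apply Subtype.ext
    exact hπ.lift_fst _ _ _

variable {K : Type v} [Field K] [CharZero K] (T : WeilCoh.Theory k K)
  (p n : ℕ) [Fact p.Prime] [CharP k p] (hn : 0 < n) (hk₀ : ∀ c : k₀, c ^ (p ^ n) = c)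
  (hΨb : Ψ.base = 𝟙 _) (hΨle : ∀ U : X.Opens, U ≤ Ψ ⁻¹ᵁ U)
  (hΨ : ∀ (U : X.Opens) (s : Γ(X, U)), (Ψ.appLE U U (hΨle U)).hom s = s ^ (p ^ n))

include hπ hφπ hn hk₀ hΨb hΨ in
/-- The Lefschetz number of a Frobenius power counts points. -/
theorem lefschetz_count [Finite k₀] [LocallyOfFiniteType f] [QuasiCompact f]
    [IrreducibleSpace ↥Xb.obj.left] (m : ℕ) (hm : p ^ n = Nat.card k₀ ^ m)
    (Pb : Var k) (pp q : Pb ⟶ Xb) (hP : IsProd pp q) (j d : Xb ⟶ Pb)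
    (hjp : j ≫ pp = 𝟙 Xb) (hjq : j ≫ q = φ) (hdp : d ≫ pp = 𝟙 Xb) (hdq : d ≫ q = 𝟙 Xb) :
    T.tr Pb (T.cl Pb (sm j (genericPoint ↥Xb.obj.left)) *
        T.cl Pb (sm d (genericPoint ↥Xb.obj.left))) = (Zeta.nPts f m : K) := by
  obtain ⟨hfinN, hcardN⟩ := card_fixN k p n hk₀ f Ψ hΨb hΨle hΨ hn.ne' m hm
  have hfin : Finite (Fixk Xb φ) := Finite.of_equiv _ (fixEquiv f Ψ Xb π hπ φ hφπ).symm
  have hφg : sm φ ≫ Xb.obj.hom = Xb.obj.hom := Over.w φ.hom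
  rw [tr_graph_diag_eq_card_fixk pp q hP φ j d hjp hjq hdp hdq T hfin
    (fun s hs hsφ hφw => ZTB.maximalIdeal_le_span p n hn f Xb.obj.hom π hπ Ψ hΨb hΨle hΨ (sm φ) hφg
      hφπ s hs _ hφw),
    Nat.card_congr (fixEquiv f Ψ Xb π hπ φ hφπ), hcardN]

end Groth.Agent.H9.ZTD
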