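import Mathlib

set_option autoImplicit false
set_option linter.style.haveILetI false
set_option linter.unusedSectionVars false
set_option linter.unusedVariables false

open Polynomial Matrix

namespace Groth.Agent.H9.ZTF
universe u

variable {n : Type*} [Fintype n] [DecidableEq n]

/-- directional derivative of the determinant at an invertible matrix. -/
theorem coeff_one_det_add {S : Type*} [CommRing S] (A N B : Matrix n n S) (h : A * N = 1) :
    (det (A.map (C : S →+* S[X]) + (X : S[X]) • B.map (C : S →+* S[X]))).coeff 1 =
      det A * trace (N * B) := by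
  have e : A.map (C : S →+* S[X]) + (X : S[X]) • B.map (C : S →+* S[X]) =
      A.map (C : S →+* S[X]) * (1 + (X : S[X]) • (N * B).map (C : S →+* S[X])) := by
    rw [mul_add, mul_one, Matrix.mul_smul, ← Matrix.map_mul, ← mul_assoc, h, one_mul]
  rw [e, det_mul]
  have e2 : det (A.map (C : S →+* S[X])) = C (det A) := by
    rw [← RingHom.mapMatrix_apply, ← RingHom.map_det]
  rw [e2, coeff_C_mul, coeff_det_one_add_X_smul_one]

/-- the derivative of `det (1 - X M)` as a directional derivative. -/
theorem derivative_charpolyRev {R : Type*} [CommRing R] (M : Matrix n n R) :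
    derivative M.charpolyRev =
      (det ((1 - (X : R[X]) • M.map (C : R →+* R[X])).map (C : R[X] →+* R[X][X]) +
        (X : R[X][X]) • (-(M.map (C : R →+* R[X]))).map (C : R[X] →+* R[X][X]))).coeff 1 := by
  let θ : R[X] →+* R[X][X] :=
    (compRingHom ((X : R[X][X]) + C (X : R[X]))).comp (mapRingHom (C : R →+* R[X]))
  have hθ : ∀ P : R[X], θ P = taylor (X : R[X]) (P.map (C : R →+* R[X])) := fun P => rfl
  have h1 : (θ M.charpolyRev).coeff 1 = derivative M.charpolyRev := by
    rw [hθ, taylor_coeff_one, derivative_map, eval_map, eval₂_C_X]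
  rw [← h1, charpolyRev, RingHom.map_det]
  congr 2
  refine Matrix.ext fun i j => ?_
  simp only [RingHom.mapMatrix_apply, Matrix.map_apply, Matrix.sub_apply, Matrix.smul_apply,
    Matrix.add_apply, Matrix.neg_apply, smul_eq_mul, map_sub, map_mul, map_neg]
  have hX : θ X = X + C X := by
    simp [θ]
  have hC : ∀ c : R, θ (C c) = C (C c) := by
    intro c; simp [θ]
  rw [hX, hC]
  by_cases hij : i = j
  · subst hij
    simp only [Matrix.one_apply_eq, map_one]
    ring
  · simp only [Matrix.one_apply_ne hij, map_zero]
    ring

section geom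

variable {R : Type*} [CommRing R]

/-- the matrix of power series `Σ t^m M^m`. -/
noncomputable def geom (M : Matrix n n R) : Matrix n n (PowerSeries R) :=
  Matrix.of fun i j => PowerSeries.mk fun m => (M ^ m) i j

theorem one_sub_mul_geom (M : Matrix n n R) :
    (1 - (PowerSeries.X : PowerSeries R) • M.map (PowerSeries.C : R →+* PowerSeries R)) * geom M
      = 1 := by
  rw [sub_mul, one_mul, Matrix.smul_mul]
  refine Matrix.ext fun i j => ?_
  refine PowerSeries.ext fun m => ?_
  rw [Matrix.sub_apply, Matrix.smul_apply, smul_eq_mul, map_sub, Matrix.mul_apply]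
  cases m with
  | zero =>
    rw [PowerSeries.coeff_zero_X_mul, sub_zero]
    simp only [geom, Matrix.of_apply, PowerSeries.coeff_mk, pow_zero]
    by_cases hij : i = j
    · subst hij; simp
    · simp [Matrix.one_apply_ne hij]
  | succ m =>
    rw [PowerSeries.coeff_succ_X_mul, map_sum]
    have h1 : ∀ l, PowerSeries.coeff m ((M.map (PowerSeries.C : R →+* PowerSeries R)) i l *
        geom M l j) = M i l * (M ^ m) l j := by
      intro l
      simp only [Matrix.map_apply, geom, Matrix.of_apply, PowerSeries.coeff_C_mul,
        PowerSeries.coeff_mk]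
    simp only [h1]
    have h2 : PowerSeries.coeff (m + 1) (geom M i j) = (M ^ (m + 1)) i j := by
      simp only [geom, Matrix.of_apply, PowerSeries.coeff_mk]
    rw [h2, pow_succ', Matrix.mul_apply, sub_self]
    by_cases hij : i = j
    · subst hij; simp [PowerSeries.coeff_one]
    · simp [Matrix.one_apply_ne hij]

theorem trace_geom_mul (M : Matrix n n R) :
    trace (geom M * M.map (PowerSeries.C : R →+* PowerSeries R)) =
      PowerSeries.mk fun m => trace (M ^ (m + 1)) := by
  refine PowerSeries.ext fun m => ?_
  rw [PowerSeries.coeff_mk, Matrix.trace, map_sum, Matrix.trace]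
  refine Finset.sum_congr rfl fun i _ => ?_
  rw [Matrix.diag_apply, Matrix.diag_apply, Matrix.mul_apply, map_sum, pow_succ, Matrix.mul_apply]
  refine Finset.sum_congr rfl fun l _ => ?_
  simp only [Matrix.map_apply, geom, Matrix.of_apply, PowerSeries.coeff_mul_C,
    PowerSeries.coeff_mk]

/-- Jacobi's formula for `det (1 - t M)` in power series. -/
theorem derivative_coe_charpolyRev (M : Matrix n n R) :
    PowerSeries.derivative R (M.charpolyRev : PowerSeries R) =
      -((M.charpolyRev : PowerSeries R) * PowerSeries.mk fun m => trace (M ^ (m + 1))) := by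
  rw [PowerSeries.derivative_coe, derivative_charpolyRev]
  set ι : R[X] →+* PowerSeries R := Polynomial.coeToPowerSeries.ringHom with hι
  set D := det ((1 - (X : R[X]) • M.map (C : R →+* R[X])).map (C : R[X] →+* R[X][X]) +
        (X : R[X][X]) • (-(M.map (C : R →+* R[X]))).map (C : R[X] →+* R[X][X])) with hD
  have h1 : ((D.coeff 1 : R[X]) : PowerSeries R) = ((D.map ι).coeff 1) := by
    rw [Polynomial.coeff_map]; rfl
  rw [h1, hD, ← Polynomial.coe_mapRingHom, RingHom.map_det]
  have h2 : (mapRingHom ι).mapMatrix ((1 - (X : R[X]) • M.map (C : R →+* R[X])).map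
      (C : R[X] →+* R[X][X]) + (X : R[X][X]) • (-(M.map (C : R →+* R[X]))).map
      (C : R[X] →+* R[X][X])) =
      (1 - (PowerSeries.X : PowerSeries R) • M.map (PowerSeries.C : R →+* PowerSeries R)).map
        (C : PowerSeries R →+* (PowerSeries R)[X]) + (X : (PowerSeries R)[X]) •
        (-(M.map (PowerSeries.C : R →+* PowerSeries R))).map
          (C : PowerSeries R →+* (PowerSeries R)[X]) := by
    refine Matrix.ext fun i j => ?_
    have e1 : ι (X : R[X]) = PowerSeries.X := Polynomial.coe_X
    have e2 : ι (C (M i j)) = PowerSeries.C (M i j) := Polynomial.coe_C _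
    simp only [RingHom.mapMatrix_apply, Matrix.map_apply, Matrix.sub_apply, Matrix.smul_apply,
      Matrix.add_apply, Matrix.neg_apply, smul_eq_mul, map_sub, map_mul, map_neg, map_add,
      Polynomial.coe_mapRingHom, Polynomial.map_C, Polynomial.map_X, Polynomial.map_sub,
      Polynomial.map_mul, Polynomial.map_add, Polynomial.map_neg, e1, e2]
    by_cases hij : i = j
    · subst hij
      simp only [Matrix.one_apply_eq, map_one]
    · simp only [Matrix.one_apply_ne hij, map_zero]
  rw [h2, coeff_one_det_add _ (geom M) _ (one_sub_mul_geom M), Matrix.mul_neg, Matrix.trace_neg,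
    trace_geom_mul, mul_neg]
  congr 2
  change _ = ι (det (1 - (X : R[X]) • M.map (C : R →+* R[X])))
  rw [RingHom.map_det]
  congr 1
  refine Matrix.ext fun i j => ?_
  simp only [RingHom.mapMatrix_apply, Matrix.map_apply, Matrix.sub_apply, Matrix.smul_apply,
    smul_eq_mul, map_sub, map_mul]
  have e1 : ι (X : R[X]) = PowerSeries.X := Polynomial.coe_X
  have e2 : ι (C (M i j)) = PowerSeries.C (M i j) := Polynomial.coe_C _
  rw [e1, e2]
  by_cases hij : i = j
  · subst hij
    simp only [Matrix.one_apply_eq, map_one]
  · simp only [Matrix.one_apply_ne hij, map_zero]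

end geom

end Groth.Agent.H9.ZTF
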