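import Mathlib
import Groth.Agent.Lib.Helper9.Misc.ZTF1

set_option autoImplicit false
set_option linter.style.haveILetI false
set_option linter.unusedSectionVars false
set_option linter.unusedVariables false

open Polynomial

namespace Groth.Agent.H9.ZTF
universe u

section LA

variable {K : Type*} [Field K] {V : Type*} [AddCommGroup V] [Module K V] [Module.Finite K V]

/-- Jacobi's formula for the reversed characteristic polynomial of an endomorphism. -/
theorem derivative_reverse_charpoly (φ : V →ₗ[K] V) :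
    PowerSeries.derivative K ((φ.charpoly.reverse : K[X]) : PowerSeries K) =
      -(((φ.charpoly.reverse : K[X]) : PowerSeries K) *
        PowerSeries.mk fun m => LinearMap.trace K V (φ ^ (m + 1))) := by
  classical
  let b := Module.finBasis K V
  have h1 : φ.charpoly = (LinearMap.toMatrix b b φ).charpoly := (LinearMap.charpoly_toMatrix φ b).symm
  have h2 : ∀ m : ℕ, LinearMap.trace K V (φ ^ m) = Matrix.trace ((LinearMap.toMatrix b b φ) ^ m) := by
    intro m
    rw [LinearMap.trace_eq_matrix_trace K b, LinearMap.toMatrix_pow]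
  rw [h1, Matrix.reverse_charpoly, derivative_coe_charpolyRev]
  simp only [h2]

theorem constantCoeff_reverse_charpoly (φ : V →ₗ[K] V) :
    PowerSeries.constantCoeff ((φ.charpoly.reverse : K[X]) : PowerSeries K) = 1 := by
  rw [← PowerSeries.coeff_zero_eq_constantCoeff_apply, Polynomial.coeff_coe,
    Polynomial.coeff_zero_reverse, (LinearMap.charpoly_monic φ).leadingCoeff]

end LA

section PS

variable {K : Type*} [Field K] [CharZero K]

/-- uniqueness for `y' = y L`. -/
theorem eq_of_derivative_eq_mul {f g L : PowerSeries K}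
    (hf : PowerSeries.constantCoeff f = 1) (hg : PowerSeries.constantCoeff g = 1)
    (hdf : PowerSeries.derivative K f = f * L) (hdg : PowerSeries.derivative K g = g * L) :
    f = g := by
  have hg0 : PowerSeries.constantCoeff g ≠ 0 := by rw [hg]; exact one_ne_zero
  have hd : PowerSeries.derivative K (f * g⁻¹) = PowerSeries.derivative K (1 : PowerSeries K) := by
    rw [Derivation.leibniz, PowerSeries.derivative_inv', smul_eq_mul, smul_eq_mul, hdf, hdg]
    have h2 := PowerSeries.mul_inv_cancel g hg0
    calc f * (-g⁻¹ ^ 2 * (g * L)) + g⁻¹ * (f * L)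
        = L * f * g⁻¹ * (1 - g * g⁻¹) := by ring
      _ = PowerSeries.derivative K (1 : PowerSeries K) := by rw [h2]; simp
  have hc : PowerSeries.constantCoeff (f * g⁻¹) =
      PowerSeries.constantCoeff (1 : PowerSeries K) := by
    rw [map_mul, PowerSeries.constantCoeff_inv, hf, hg, map_one, inv_one, mul_one]
  have h1 : f * g⁻¹ = 1 := PowerSeries.derivative.ext hd hc
  calc f = f * (g⁻¹ * g) := by rw [PowerSeries.inv_mul_cancel g hg0, mul_one]
    _ = (f * g⁻¹) * g := by ring
    _ = g := by rw [h1, one_mul]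

theorem derivative_prod {ι : Type*} (s : Finset ι) (P L : ι → PowerSeries K)
    (h : ∀ i ∈ s, PowerSeries.derivative K (P i) = -(P i * L i)) :
    PowerSeries.derivative K (∏ i ∈ s, P i) = -((∏ i ∈ s, P i) * ∑ i ∈ s, L i) := by
  classical
  induction s using Finset.induction_on with
  | empty => simp
  | insert a s ha ih =>
    rw [Finset.prod_insert ha, Finset.sum_insert ha, Derivation.leibniz, smul_eq_mul, smul_eq_mul,
      ih (fun i hi => h i (Finset.mem_insert_of_mem hi)), h a (Finset.mem_insert_self a s)]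
    ring

theorem constantCoeff_prod_eq_one {ι : Type*} (s : Finset ι) (P : ι → PowerSeries K)
    (h : ∀ i ∈ s, PowerSeries.constantCoeff (P i) = 1) :
    PowerSeries.constantCoeff (∏ i ∈ s, P i) = 1 := by
  rw [map_prod]
  exact Finset.prod_eq_one h

theorem sum_alt_split' {A : Type*} [CommRing A] (n : ℕ) (b : ℕ → A) :
    ∑ i ∈ Finset.range (2 * n + 1), (-1 : A) ^ i * b i =
      ∑ i ∈ Finset.range (n + 1), b (2 * i) - ∑ i ∈ Finset.range n, b (2 * i + 1) := by
  induction n with
  | zero => simp
  | succ n ih =>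
    have e : 2 * (n + 1) + 1 = (2 * n + 1) + 1 + 1 := by ring
    have h1 : (-1 : A) ^ (2 * n + 1) = -1 := by
      rw [pow_succ, pow_mul]; simp
    have h2 : (-1 : A) ^ (2 * n + 1 + 1) = 1 := by
      rw [pow_succ, h1]; simp
    have r1 : ∑ i ∈ Finset.range (n + 1 + 1), b (2 * i) =
        ∑ i ∈ Finset.range (n + 1), b (2 * i) + b (2 * (n + 1)) := Finset.sum_range_succ _ _
    have r2 : ∑ i ∈ Finset.range (n + 1), b (2 * i + 1) =
        ∑ i ∈ Finset.range n, b (2 * i + 1) + b (2 * n + 1) := Finset.sum_range_succ _ _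
    rw [e, Finset.sum_range_succ, Finset.sum_range_succ, ih, h1, h2, r1, r2]
    have e2 : 2 * n + 1 + 1 = 2 * (n + 1) := by ring
    rw [e2]
    ring

/-- the formal identity behind the cohomological expression of the zeta function. -/
theorem zeta_mul_even_eq_odd (Z : PowerSeries ℚ) (N : ℕ → ℚ)
    (hZ0 : PowerSeries.constantCoeff Z = 1)
    (hZ : PowerSeries.derivative ℚ Z = Z * PowerSeries.mk fun m => N (m + 1))
    (n : ℕ) (V : ℕ → Type*) [∀ i, AddCommGroup (V i)] [∀ i, Module K (V i)]
    [∀ i, Module.Finite K (V i)] (φ : ∀ i, V i →ₗ[K] V i)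
    (htr : ∀ m : ℕ, 1 ≤ m → (algebraMap ℚ K (N m)) =
      ∑ i ∈ Finset.range (2 * n + 1), (-1 : K) ^ i * LinearMap.trace K (V i) ((φ i) ^ m)) :
    PowerSeries.map (algebraMap ℚ K) Z *
        (∏ i ∈ Finset.range (n + 1), (((φ (2 * i)).charpoly.reverse : K[X]) : PowerSeries K)) =
      ∏ i ∈ Finset.range n, (((φ (2 * i + 1)).charpoly.reverse : K[X]) : PowerSeries K) := by
  set Lf : ℕ → PowerSeries K := fun i =>
    PowerSeries.mk fun m => LinearMap.trace K (V i) ((φ i) ^ (m + 1)) with hLf
  set Pf : ℕ → PowerSeries K := fun i => (((φ i).charpoly.reverse : K[X]) : PowerSeries K) with hPf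
  have hP : ∀ i, PowerSeries.derivative K (Pf i) = -(Pf i * Lf i) :=
    fun i => derivative_reverse_charpoly (φ i)
  have hP0 : ∀ i, PowerSeries.constantCoeff (Pf i) = 1 := fun i =>
    constantCoeff_reverse_charpoly (φ i)
  set Zk := PowerSeries.map (algebraMap ℚ K) Z with hZk
  have hZk0 : PowerSeries.constantCoeff Zk = 1 := by
    rw [hZk, ← PowerSeries.coeff_zero_eq_constantCoeff_apply, PowerSeries.coeff_map,
      PowerSeries.coeff_zero_eq_constantCoeff_apply, hZ0, map_one]
  set Lz : PowerSeries K := PowerSeries.mk fun m => algebraMap ℚ K (N (m + 1)) with hLz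
  have hZk' : PowerSeries.derivative K Zk = Zk * Lz := by
    have e1 : PowerSeries.derivative K Zk =
        PowerSeries.map (algebraMap ℚ K) (PowerSeries.derivative ℚ Z) := by
      refine PowerSeries.ext fun m => ?_
      rw [PowerSeries.coeff_derivative, PowerSeries.coeff_map, PowerSeries.coeff_map,
        PowerSeries.coeff_derivative, map_mul]
      congr 1
      simp
    rw [e1, hZ, map_mul]
    congr 1
  set Le : PowerSeries K := ∑ i ∈ Finset.range (n + 1), Lf (2 * i) with hLe
  set Lo : PowerSeries K := ∑ i ∈ Finset.range n, Lf (2 * i + 1) with hLo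
  have hL : Lz = Le - Lo := by
    refine PowerSeries.ext fun m => ?_
    rw [hLz, PowerSeries.coeff_mk, htr (m + 1) (Nat.succ_le_succ (Nat.zero_le m)), map_sub, hLe,
      hLo, map_sum, map_sum]
    simp only [hLf, PowerSeries.coeff_mk]
    exact sum_alt_split' n _
  have hE : PowerSeries.derivative K (∏ i ∈ Finset.range (n + 1), Pf (2 * i)) =
      -((∏ i ∈ Finset.range (n + 1), Pf (2 * i)) * Le) :=
    derivative_prod _ (fun i => Pf (2 * i)) (fun i => Lf (2 * i)) (fun i _ => hP _)
  have hO : PowerSeries.derivative K (∏ i ∈ Finset.range n, Pf (2 * i + 1)) =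
      -((∏ i ∈ Finset.range n, Pf (2 * i + 1)) * Lo) :=
    derivative_prod _ (fun i => Pf (2 * i + 1)) (fun i => Lf (2 * i + 1)) (fun i _ => hP _)
  refine eq_of_derivative_eq_mul (L := -Lo) ?_ ?_ ?_ ?_
  · rw [map_mul, hZk0, one_mul]
    exact constantCoeff_prod_eq_one _ _ (fun i _ => hP0 _)
  · exact constantCoeff_prod_eq_one _ _ (fun i _ => hP0 _)
  · rw [Derivation.leibniz, smul_eq_mul, smul_eq_mul, hE, hZk', hL]
    ring
  · rw [hO]; ring

end PS

end Groth.Agent.H9.ZTF
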