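import Mathlib

set_option autoImplicit false
set_option linter.style.haveILetI false
set_option linter.unusedSectionVars false
set_option linter.unusedVariables false

open Polynomial

namespace Groth.Agent.H9.ZTF
universe u

variable {K : Type*} [Field K] [CharZero K]

/-- apply a `ℚ`-linear functional to the coefficients of a polynomial -/
noncomputable def mapL (l : K →ₗ[ℚ] ℚ) (p : K[X]) : ℚ[X] :=
  ∑ i ∈ Finset.range (p.natDegree + 1), Polynomial.monomial i (l (p.coeff i))

theorem coeff_mapL (l : K →ₗ[ℚ] ℚ) (p : K[X]) (i : ℕ) : (mapL l p).coeff i = l (p.coeff i) := by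
  unfold mapL
  rw [Polynomial.finsetSum_coeff]
  simp only [Polynomial.coeff_monomial]
  by_cases hi : i ∈ Finset.range (p.natDegree + 1)
  · rw [Finset.sum_eq_single i]
    · simp
    · intro j _ hji; simp [hji]
    · intro h; exact absurd hi h
  · rw [Finset.sum_eq_zero]
    · rw [Finset.mem_range, not_lt] at hi
      rw [Polynomial.coeff_eq_zero_of_natDegree_lt (by omega), map_zero]
    · intro j hj
      have : j ≠ i := fun h => hi (h ▸ hj)
      simp [this]

/-- rationality descends from `K` to `ℚ`. -/
theorem rational_descent (Z : PowerSeries ℚ) (E O : K[X]) (hE : E ≠ 0)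
    (h : PowerSeries.map (algebraMap ℚ K) Z * (E : PowerSeries K) = (O : PowerSeries K)) :
    ∃ P Q : ℚ[X], Q ≠ 0 ∧ Z * (Q : PowerSeries ℚ) = (P : PowerSeries ℚ) := by
  -- choose a functional not vanishing on some coefficient
  obtain ⟨i₀, hi₀⟩ : ∃ i, E.coeff i ≠ 0 := by
    by_contra hcon
    push Not at hcon
    exact hE (Polynomial.ext fun i => by rw [hcon i, Polynomial.coeff_zero])
  let b := Module.Basis.ofVectorSpace ℚ K
  obtain ⟨j₀, hj₀⟩ : ∃ j, b.repr (E.coeff i₀) j ≠ 0 := by
    by_contra hcon
    push Not at hcon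
    apply hi₀
    have : b.repr (E.coeff i₀) = 0 := Finsupp.ext hcon
    exact (LinearEquiv.map_eq_zero_iff b.repr).mp this
  let l : K →ₗ[ℚ] ℚ := b.coord j₀
  refine ⟨mapL l O, mapL l E, ?_, ?_⟩
  · intro h0
    have := congrArg (fun p => p.coeff i₀) h0
    simp only [coeff_mapL, Polynomial.coeff_zero] at this
    exact hj₀ this
  · refine PowerSeries.ext fun N => ?_
    have hN := congrArg (fun s => l (PowerSeries.coeff N s)) h
    simp only [Polynomial.coeff_coe] at hN
    rw [Polynomial.coeff_coe, coeff_mapL, ← hN, PowerSeries.coeff_mul, PowerSeries.coeff_mul,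
      map_sum]
    refine Finset.sum_congr rfl fun x _ => ?_
    rw [Polynomial.coeff_coe, coeff_mapL, PowerSeries.coeff_map, Polynomial.coeff_coe,
      ← Algebra.smul_def, map_smul, smul_eq_mul]

end Groth.Agent.H9.ZTF
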