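import Mathlib
import Groth.Prelude.Def_WeilCoh
import Groth.Prelude.Def_W4c1zetahwZeta
import Groth.Agent.Lib.Helper6.ZetaFormal
import Groth.Agent.Lib.Helper9.Misc.WeilCohI
import Groth.Agent.Lib.Helper9.Misc.ZTF2
import Groth.Agent.Lib.Helper9.Misc.ZTF3
import Groth.Agent.Lib.Helper9.Misc.ZTD1

set_option autoImplicit false
set_option linter.style.haveILetI false
set_option linter.unusedSectionVars false
set_option linter.unusedVariables false

universe u v w

open AlgebraicGeometry CategoryTheory CategoryTheory.Limits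

namespace Groth.Agent.H9.ZTD

open WeilCoh Groth.Agent.H9.WeilA Groth.Agent.H9.WeilB Groth.Agent.H9.WeilC Groth.Agent.H9.WeilD
  Groth.Agent.H9.WeilH Groth.Agent.H9.WeilI Groth.Agent.H9.ZTA Groth.Agent.H9.ZTB
  Groth.Agent.H9.ZTC Groth.Agent.H9.FrobDegB

section frob
variable (X : Scheme.{u}) (p : ℕ) [Fact p.Prime] [FrobSch.IsCharP X p]

theorem frobIter_add (a b : ℕ) : frobIter X p (a + b) = frobIter X p a ≫ frobIter X p b := by
  induction b with
  | zero => simp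
  | succ b ih => rw [← add_assoc, frobIter_succ, frobIter_succ, ih, Category.assoc]

end frob

section iter

variable {k : Type u} [Field k] {K : Type v} [Field K] (T : TheoryOn.{u, v, w} k (IsVar k) K)

theorem pullDeg_iter {X : Var k} (F : X ⟶ X) (i : ℤ) (m : ℕ) :
    T.pullDeg (iter F m) i = (T.pullDeg F i) ^ m := by
  apply LinearMap.ext
  intro b
  apply Subtype.ext
  rw [coe_pullDeg_pow]
  exact pull_iter T F m b

end iter

section main

open PowerSeries in
theorem derivative_logZeta {k₀ : Type u} [Field k₀] {X : Scheme.{u}}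
    (f : X ⟶ Spec (CommRingCat.of k₀)) :
    d⁄dX ℚ (Zeta.logZeta f) = PowerSeries.mk fun m => (Zeta.nPts f (m + 1) : ℚ) := by
  ext m
  rw [coeff_derivative, coeff_mk]
  unfold Zeta.logZeta
  rw [coeff_mk]
  have : ((m + 1 : ℕ) : ℚ) ≠ 0 := by positivity
  push_cast at this ⊢
  field_simp

theorem zeta_main (k₀ : Type u) [Field k₀] [Finite k₀] (k : Type u) [Field k] [IsAlgClosed k]
    [Algebra k₀ k] (K : Type v) [Field K] [CharZero K] (T : WeilCoh.Theory k K)
    {X : Scheme.{u}} (f : X ⟶ Spec (CommRingCat.of k₀)) [LocallyOfFiniteType f] [QuasiCompact f]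
    (FX : X ⟶ X) (hFb : FX.base = 𝟙 _) (hle : ∀ U : X.Opens, U ≤ FX ⁻¹ᵁ U)
    (hFapp : ∀ (U : X.Opens) (s : Γ(X, U)), (FX.appLE U U (hle U)).hom s = s ^ Nat.card k₀)
    (Xb : WeilCoh.Var k) (π : Xb.obj.left ⟶ X)
    (hπ : IsPullback π Xb.obj.hom f (Spec.map (CommRingCat.ofHom (algebraMap k₀ k))))
    (F : Xb ⟶ Xb) (hF : WeilCoh.sm F ≫ π = π ≫ FX)
    (Pb : WeilCoh.Var k) (p q : Pb ⟶ Xb) (hP : WeilCoh.IsProd p q)
    [IrreducibleSpace ↥Xb.obj.left]
    (htrace : ∀ (φ : Xb ⟶ Xb) (j d : Xb ⟶ Pb), j ≫ p = 𝟙 Xb → j ≫ q = φ → d ≫ p = 𝟙 Xb →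
      d ≫ q = 𝟙 Xb →
      T.tr Pb (T.cl Pb (sm j (genericPoint ↥Xb.obj.left)) *
          T.cl Pb (sm d (genericPoint ↥Xb.obj.left))) =
        ∑ i ∈ Finset.range (2 * WeilCoh.dim Xb.obj.left + 1),
          (-1 : K) ^ i * LinearMap.trace K ↥(T.gr Xb (i : ℤ)) (T.pullDeg φ (i : ℤ))) :
    PowerSeries.map (algebraMap ℚ K) (Zeta.zetaFun f) *
        (∏ i ∈ Finset.range (WeilCoh.dim Xb.obj.left + 1),
          ((LinearMap.charpoly (T.pullDeg F ((2 * i : ℕ) : ℤ))).reverse : PowerSeries K)) =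
      ∏ i ∈ Finset.range (WeilCoh.dim Xb.obj.left),
        ((LinearMap.charpoly (T.pullDeg F ((2 * i + 1 : ℕ) : ℤ))).reverse : PowerSeries K) := by
  classical
  haveI := Fintype.ofFinite k₀
  obtain ⟨pp, hchar⟩ := CharP.exists k₀
  obtain ⟨e, hpp, hcard⟩ := FiniteField.card k₀ pp
  haveI : Fact pp.Prime := ⟨hpp⟩
  haveI : CharP k pp := charP_of_injective_algebraMap (algebraMap k₀ k).injective pp
  haveI : FrobSch.IsCharP X pp := FrobSch.IsCharP.of_hom f pp
  have hq : Nat.card k₀ = pp ^ (e : ℕ) := by rw [Nat.card_eq_fintype_card, hcard]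
  have hFX : FX = frobIter X pp e :=
    eq_of_isQFrob (pp ^ (e : ℕ)) FX (frobIter X pp e) hFb (frobIter_base X pp e) hle
      (frobIter_le X pp e) (by intro U s; rw [hFapp, hq]) (frobIter_appLE X pp e)
  have hiter : ∀ m : ℕ, sm (iter F m) ≫ π = π ≫ frobIter X pp (e * m) := by
    intro m
    induction m with
    | zero =>
      show 𝟙 _ ≫ π = π ≫ frobIter X pp (e * 0)
      rw [Nat.mul_zero, frobIter_zero, Category.id_comp, Category.comp_id]
    | succ m ih =>
      show sm (F ≫ iter F m) ≫ π = _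
      rw [sm_comp, Category.assoc, ih, ← Category.assoc, hF, Category.assoc, hFX, ← frobIter_add,
        Nat.mul_succ, add_comm]
  obtain ⟨d, hdp, hdq⟩ := exists_lift p q hP (𝟙 Xb) (𝟙 Xb)
  have htr : ∀ m : ℕ, 1 ≤ m → algebraMap ℚ K ((Zeta.nPts f m : ℚ)) =
      ∑ i ∈ Finset.range (2 * WeilCoh.dim Xb.obj.left + 1),
        (-1 : K) ^ i * LinearMap.trace K ↥(T.gr Xb (i : ℤ)) ((T.pullDeg F (i : ℤ)) ^ m) := by
    intro m hm
    obtain ⟨j, hjp, hjq⟩ := exists_lift p q hP (𝟙 Xb) (iter F m)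
    have hk₀ : ∀ c : k₀, c ^ (pp ^ ((e : ℕ) * m)) = c := by
      intro c
      rw [pow_mul, ← hcard]
      exact FiniteField.pow_card_pow m c
    have hm' : pp ^ ((e : ℕ) * m) = Nat.card k₀ ^ m := by rw [pow_mul, hq]
    have h1 := lefschetz_count f (frobIter X pp (e * m)) Xb π hπ (iter F m) (hiter m) T pp
      ((e : ℕ) * m) (Nat.mul_pos e.pos hm) hk₀ (frobIter_base X pp _) (frobIter_le X pp _)
      (frobIter_appLE X pp _) m hm' Pb p q hP j d hjp hjq hdp hdq
    rw [htrace (iter F m) j d hjp hjq hdp hdq] at h1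
    simp_rw [pullDeg_iter] at h1
    rw [h1]
    simp
  exact Groth.Agent.H9.ZTF.zeta_mul_even_eq_odd (Zeta.zetaFun f) (fun m => (Zeta.nPts f m : ℚ))
    (Groth.Agent.H6.ZF.constantCoeff_zetaFun f)
    (by rw [Groth.Agent.H6.ZF.derivative_zetaFun, derivative_logZeta])
    (WeilCoh.dim Xb.obj.left) (fun i => ↥(T.gr Xb (i : ℤ))) (fun i => T.pullDeg F (i : ℤ)) htr

theorem coe_prod_poly {R : Type*} [CommRing R] {ι : Type*} (s : Finset ι) (g : ι → Polynomial R) :
    ((∏ i ∈ s, g i : Polynomial R) : PowerSeries R) = ∏ i ∈ s, (g i : PowerSeries R) := by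
  rw [← Polynomial.coeToPowerSeries.ringHom_apply, map_prod]
  rfl

theorem reverse_charpoly_ne_zero {K : Type*} [Field K] {V : Type*} [AddCommGroup V] [Module K V] [Module.Finite K V]
    (φ : V →ₗ[K] V) : (LinearMap.charpoly φ).reverse ≠ 0 := by
  intro h
  have h1 := Groth.Agent.H9.ZTF.constantCoeff_reverse_charpoly φ
  rw [h] at h1
  simp at h1

theorem zeta_rational {K : Type*} [Field K] [CharZero K] (Z : PowerSeries ℚ) (n : ℕ) (V : ℕ → Type*) [∀ i, AddCommGroup (V i)]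
    [∀ i, Module K (V i)] [∀ i, Module.Finite K (V i)] (φ : ∀ i, V i →ₗ[K] V i)
    (h : PowerSeries.map (algebraMap ℚ K) Z *
        (∏ i ∈ Finset.range (n + 1), (((φ (2 * i)).charpoly.reverse : Polynomial K) : PowerSeries K)) =
      ∏ i ∈ Finset.range n, (((φ (2 * i + 1)).charpoly.reverse : Polynomial K) : PowerSeries K)) :
    ∃ P Q : Polynomial ℚ, Q ≠ 0 ∧ Z * (Q : PowerSeries ℚ) = (P : PowerSeries ℚ) := by
  refine Groth.Agent.H9.ZTF.rational_descent Z
    (∏ i ∈ Finset.range (n + 1), (φ (2 * i)).charpoly.reverse)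
    (∏ i ∈ Finset.range n, (φ (2 * i + 1)).charpoly.reverse) ?_ ?_
  · rw [Finset.prod_ne_zero_iff]
    intro i _
    exact reverse_charpoly_ne_zero _
  · rw [coe_prod_poly, coe_prod_poly]
    exact h

end main

end Groth.Agent.H9.ZTD
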