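import Mathlib
import Groth.Agent.Lib.Helper9.Misc.ZTA2

set_option autoImplicit false
set_option linter.style.haveILetI false
set_option linter.unusedSectionVars false
set_option linter.unusedVariables false

universe u

open AlgebraicGeometry CategoryTheory CategoryTheory.Limits

namespace Groth.Agent.H9.ZTE

open Groth.Agent.H9.ZTA

/-- a point whose local ring has zero maximal ideal has no proper generizations -/
theorem eq_of_specializes_of_maximalIdeal_eq_bot {Z : Scheme.{u}} (z z' : Z) (h : z' ⤳ z)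
    (hz : IsLocalRing.maximalIdeal (Z.presheaf.stalk z) = ⊥) : z' = z := by
  have h1 : z' ∈ Set.range (Z.fromSpecStalk z) := by
    rw [Scheme.range_fromSpecStalk]; exact h
  obtain ⟨y, hy⟩ := h1
  have h2 : y = IsLocalRing.closedPoint (Z.presheaf.stalk z) := by
    apply PrimeSpectrum.ext
    have hle : y.asIdeal ≤ IsLocalRing.maximalIdeal (Z.presheaf.stalk z) :=
      IsLocalRing.le_maximalIdeal y.2.ne_top
    rw [hz] at hle
    show y.asIdeal = IsLocalRing.maximalIdeal (Z.presheaf.stalk z)
    rw [hz]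
    exact le_bot_iff.mp hle
  rw [← hy, h2]
  exact Scheme.fromSpecStalk_closedPoint

/-- A scheme locally of finite type over a field whose local rings at closed points have zero
maximal ideal is reduced and all its points are closed. -/
theorem isReduced_of_stalks {k : Type u} [Field k] {Z : Scheme.{u}}
    (g : Z ⟶ Spec (CommRingCat.of k)) [LocallyOfFiniteType g]
    (H : ∀ z : Z, IsClosed ({z} : Set Z) → IsLocalRing.maximalIdeal (Z.presheaf.stalk z) = ⊥) :
    IsReduced Z ∧ ∀ z : Z, IsClosed ({z} : Set Z) := by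
  haveI : JacobsonSpace Z := LocallyOfFiniteType.jacobsonSpace g
  have hclosed : ∀ z : Z, IsClosed ({z} : Set Z) := by
    intro z'
    have h1 := JacobsonSpace.closure_inter_closedPoints
      (isClosed_closure : IsClosed (closure ({z'} : Set Z)))
    have hne : (closure ({z'} : Set Z) ∩ closedPoints Z).Nonempty := by
      by_contra hcon
      rw [Set.not_nonempty_iff_eq_empty] at hcon
      rw [hcon, closure_empty] at h1
      have : z' ∈ closure ({z'} : Set Z) := subset_closure rfl
      rw [← h1] at this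
      exact this
    obtain ⟨z, hz1, hz2⟩ := hne
    have hsp : z' ⤳ z := specializes_iff_mem_closure.mpr hz1
    have := eq_of_specializes_of_maximalIdeal_eq_bot z z' hsp (H z hz2)
    rw [this]; exact hz2
  refine ⟨?_, hclosed⟩
  haveI : ∀ z : Z, _root_.IsReduced (Z.presheaf.stalk z) := by
    intro z
    have hf : IsField (Z.presheaf.stalk z) :=
      IsLocalRing.isField_iff_maximalIdeal_eq.mpr (H z (hclosed z))
    letI := hf.toField
    infer_instance
  exact isReduced_of_isReduced_stalk Z

/-- the local ring of an equalizer at a transversal fixed point -/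
theorem maximalIdeal_eq_bot_of_equalizer {Y Z : Scheme.{u}} (ι : Z ⟶ Y) [IsPreimmersion ι]
    (φ : Y ⟶ Y) (hι : ι ≫ φ = ι) (z : Z) (hφ : φ (ι z) = ι z)
    (H : IsLocalRing.maximalIdeal (Y.presheaf.stalk (ι z)) ≤
      Ideal.span {g | ∃ γ : Y.presheaf.stalk (ι z), g = γ - (smEq φ (ι z) (ι z) hφ).hom γ}) :
    IsLocalRing.maximalIdeal (Z.presheaf.stalk z) = ⊥ := by
  have hsurj : Function.Surjective (ι.stalkMap z).hom := ι.stalkMap_surjective z
  have hcomp : (ι ≫ φ) z = ι z := by rw [hι]
  have h1 : smEq (ι ≫ φ) z (ι z) hcomp = smEq φ (ι z) (ι z) hφ ≫ smEq ι z (ι z) rfl :=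
    smEq_comp ι φ z (ι z) (ι z) rfl hφ hcomp
  have h2 : smEq (ι ≫ φ) z (ι z) hcomp = smEq ι z (ι z) rfl := smEq_congr hι z (ι z) hcomp rfl
  rw [smEq_rfl] at h1 h2
  have h3 : ∀ γ : Y.presheaf.stalk (ι z),
      (ι.stalkMap z).hom ((smEq φ (ι z) (ι z) hφ).hom γ) = (ι.stalkMap z).hom γ := by
    intro γ
    have := congrArg (fun t => t.hom γ) (h1.symm.trans h2)
    simpa using this
  have hker : Ideal.span {g | ∃ γ : Y.presheaf.stalk (ι z),
      g = γ - (smEq φ (ι z) (ι z) hφ).hom γ} ≤ RingHom.ker (ι.stalkMap z).hom := by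
    rw [Ideal.span_le]
    rintro g ⟨γ, rfl⟩
    show (ι.stalkMap z).hom _ = 0
    rw [map_sub, h3, sub_self]
  rw [eq_bot_iff]
  intro x hx
  obtain ⟨y, rfl⟩ := hsurj x
  have hy : y ∈ IsLocalRing.maximalIdeal (Y.presheaf.stalk (ι z)) := by
    rw [IsLocalRing.mem_maximalIdeal, mem_nonunits_iff] at hx ⊢
    intro hu
    exact hx (hu.map _)
  have := hker (H hy)
  exact this

end Groth.Agent.H9.ZTE
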