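import Mathlib
import Groth.Prelude.Def_FinFr
import Groth.Agent.Lib.Helper9.Misc.ZTB2
import Groth.Agent.Lib.Helper9.Misc.ZTC3
import Groth.Agent.Lib.Helper9.Misc.ZTE1

set_option autoImplicit false
set_option linter.style.haveILetI false
set_option linter.unusedSectionVars false
set_option linter.unusedVariables false

universe u

open AlgebraicGeometry CategoryTheory CategoryTheory.Limits

namespace Groth.Agent.H9.ZTE

open Groth.Agent.H9.ZTA Groth.Agent.H9.ZTB Groth.Agent.H9.ZTC

section general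

variable {k : Type u} [Field k] {Y : Scheme.{u}} (p : Y ⟶ Spec (CommRingCat.of k)) (F : Y ⟶ Y)
  (hF : F ≫ p = p)

theorem isImmersion_aux {S : Scheme.{u}} (p : Y ⟶ S) (F : Y ⟶ Y) (hF : F ≫ p = p) :
    IsImmersion (pullback.fst
      (pullback.lift (𝟙 Y) F (by rw [hF, Category.id_comp]) : Y ⟶ pullback p p)
      (pullback.lift (𝟙 Y) (𝟙 Y) rfl : Y ⟶ pullback p p)) := by
  have h : IsImmersion (pullback.lift (𝟙 Y) (𝟙 Y) rfl : Y ⟶ pullback p p) :=
    inferInstanceAs (IsImmersion (pullback.diagonal p))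
  exact MorphismProperty.pullback_fst (P := @IsImmersion) _ _ h

theorem comp_aux {S : Scheme.{u}} (p : Y ⟶ S) (F : Y ⟶ Y) (hF : F ≫ p = p) :
    pullback.fst
      (pullback.lift (𝟙 Y) F (by rw [hF, Category.id_comp]) : Y ⟶ pullback p p)
      (pullback.lift (𝟙 Y) (𝟙 Y) rfl : Y ⟶ pullback p p) ≫ F =
    pullback.fst
      (pullback.lift (𝟙 Y) F (by rw [hF, Category.id_comp]) : Y ⟶ pullback p p)
      (pullback.lift (𝟙 Y) (𝟙 Y) rfl : Y ⟶ pullback p p) := by
  have hc := pullback.condition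
    (f := (pullback.lift (𝟙 Y) F (by rw [hF, Category.id_comp]) : Y ⟶ pullback p p))
    (g := (pullback.lift (𝟙 Y) (𝟙 Y) rfl : Y ⟶ pullback p p))
  have h1 := congrArg (fun t => t ≫ pullback.fst p p) hc
  have h2 := congrArg (fun t => t ≫ pullback.snd p p) hc
  simp only [Category.assoc, pullback.lift_fst, pullback.lift_snd, Category.comp_id] at h1 h2
  rw [h2, ← h1]

/-- the inclusion of the fixed-point scheme -/
noncomputable def fixι : FinFr.fixScheme p F hF ⟶ Y :=
  pullback.fst
    (pullback.lift (𝟙 Y) F (by rw [hF, Category.id_comp]) : Y ⟶ pullback p p)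
    (pullback.lift (𝟙 Y) (𝟙 Y) rfl : Y ⟶ pullback p p)

instance : IsImmersion (fixι p F hF) := isImmersion_aux p F hF

theorem fixι_comp : fixι p F hF ≫ F = fixι p F hF := comp_aux p F hF

end general

section main

variable {k : Type u} [Field k] [Finite k] {X : Scheme.{u}} (f : X ⟶ Spec (CommRingCat.of k))
  [LocallyOfFiniteType f]
  (FX : X ⟶ X) (hFb : FX.base = 𝟙 _) (hle : ∀ U : X.Opens, U ≤ FX ⁻¹ᵁ U)
  (hFapp : ∀ (U : X.Opens) (s : Γ(X, U)), (FX.appLE U U (hle U)).hom s = s ^ Nat.card k)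
  (F : FinFr.ext (AlgebraicClosure k) f ⟶ FinFr.ext (AlgebraicClosure k) f)
  (hF1 : F ≫ FinFr.extπ (AlgebraicClosure k) f = FinFr.extπ (AlgebraicClosure k) f ≫ FX)
  (hF2 : F ≫ FinFr.extStr (AlgebraicClosure k) f = FinFr.extStr (AlgebraicClosure k) f)

instance lft_fix : LocallyOfFiniteType
    (fixι (FinFr.extStr (AlgebraicClosure k) f) F hF2 ≫ FinFr.extStr (AlgebraicClosure k) f) :=
  inferInstance

include hFb hFapp hF1 in
theorem stalk_fix (z : FinFr.fixScheme (FinFr.extStr (AlgebraicClosure k) f) F hF2)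
    (hz : IsClosed ({z} : Set (FinFr.fixScheme (FinFr.extStr (AlgebraicClosure k) f) F hF2))) :
    IsLocalRing.maximalIdeal
      ((FinFr.fixScheme (FinFr.extStr (AlgebraicClosure k) f) F hF2).presheaf.stalk z) = ⊥ := by
  classical
  haveI := Fintype.ofFinite k
  obtain ⟨pp, hchar⟩ := CharP.exists k
  obtain ⟨e, hpp, hcard⟩ := FiniteField.card k pp
  haveI : Fact pp.Prime := ⟨hpp⟩
  haveI : CharP (AlgebraicClosure k) pp :=
    charP_of_injective_algebraMap (algebraMap k (AlgebraicClosure k)).injective pp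
  have hq : Nat.card k = pp ^ (e : ℕ) := by rw [Nat.card_eq_fintype_card, hcard]
  have hπ : IsPullback (FinFr.extπ (AlgebraicClosure k) f) (FinFr.extStr (AlgebraicClosure k) f) f
      (Spec.map (CommRingCat.ofHom (algebraMap k (AlgebraicClosure k)))) :=
    IsPullback.of_hasPullback f _
  obtain ⟨t, ht1, ht2⟩ : ∃ t : Spec (CommRingCat.of (AlgebraicClosure k)) ⟶
      FinFr.fixScheme (FinFr.extStr (AlgebraicClosure k) f) F hF2,
      t ≫ (fixι (FinFr.extStr (AlgebraicClosure k) f) F hF2 ≫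
        FinFr.extStr (AlgebraicClosure k) f) = 𝟙 _ ∧
      t (IsLocalRing.closedPoint (AlgebraicClosure k)) = z :=
    ⟨pointOfClosedPoint _ z hz, pointOfClosedPoint_comp _ _ _, pointOfClosedPoint_apply _ _ _ _⟩
  subst ht2
  set s := t ≫ fixι (FinFr.extStr (AlgebraicClosure k) f) F hF2 with hs_def
  have hs : s ≫ FinFr.extStr (AlgebraicClosure k) f = 𝟙 _ := by
    rw [hs_def, Category.assoc]; exact ht1
  have hφw : F (s (IsLocalRing.closedPoint (AlgebraicClosure k))) =
      s (IsLocalRing.closedPoint (AlgebraicClosure k)) := by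
    have h1 : s ≫ F = s := by
      rw [hs_def, Category.assoc, fixι_comp]
    have := congrArg (fun u => u (IsLocalRing.closedPoint (AlgebraicClosure k))) h1
    simpa using this
  have H := ZTB.maximalIdeal_le_span pp (e : ℕ) e.pos f (FinFr.extStr (AlgebraicClosure k) f)
    (FinFr.extπ (AlgebraicClosure k) f) hπ FX hFb hle (fun U s => by rw [hFapp, hq]) F hF2 hF1 s hs
    (IsLocalRing.closedPoint (AlgebraicClosure k)) hφw
  exact maximalIdeal_eq_bot_of_equalizer (fixι (FinFr.extStr (AlgebraicClosure k) f) F hF2) F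
    (fixι_comp _ F hF2) (t (IsLocalRing.closedPoint (AlgebraicClosure k))) hφw H

include hFb hFapp hF1 in
theorem isReduced_fixScheme :
    IsReduced (FinFr.fixScheme (FinFr.extStr (AlgebraicClosure k) f) F hF2) ∧
      ∀ z : FinFr.fixScheme (FinFr.extStr (AlgebraicClosure k) f) F hF2, IsClosed ({z} : Set _) :=
  isReduced_of_stalks
    (fixι (FinFr.extStr (AlgebraicClosure k) f) F hF2 ≫ FinFr.extStr (AlgebraicClosure k) f)
    (stalk_fix f FX hFb hle hFapp F hF1 hF2)

include hFb hFapp hF1 in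
theorem finite_fixScheme [QuasiCompact f] :
    Finite (FinFr.fixScheme (FinFr.extStr (AlgebraicClosure k) f) F hF2) := by
  classical
  haveI := Fintype.ofFinite k
  obtain ⟨pp, hchar⟩ := CharP.exists k
  obtain ⟨e, hpp, hcard⟩ := FiniteField.card k pp
  haveI : Fact pp.Prime := ⟨hpp⟩
  haveI : CharP (AlgebraicClosure k) pp :=
    charP_of_injective_algebraMap (algebraMap k (AlgebraicClosure k)).injective pp
  have hq : Nat.card k = pp ^ (e : ℕ) := by rw [Nat.card_eq_fintype_card, hcard]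
  have hk₀ : ∀ c : k, c ^ (pp ^ (e : ℕ)) = c := by
    intro c
    rw [← hcard]
    exact FiniteField.pow_card c
  obtain ⟨hfinN, -⟩ := card_fixN (AlgebraicClosure k) pp (e : ℕ) hk₀ f FX hFb hle
    (fun U s => by rw [hFapp, hq]) e.ne_zero 1 (by rw [pow_one, hq])
  have hcl := (isReduced_fixScheme f FX hFb hle hFapp F hF1 hF2).2
  set ι := fixι (FinFr.extStr (AlgebraicClosure k) f) F hF2 with hι
  have hc : FinFr.extπ (AlgebraicClosure k) f ≫ f =
      FinFr.extStr (AlgebraicClosure k) f ≫ FinFr.specι k (AlgebraicClosure k) :=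
    pullback.condition
  have hA : ∀ t : Spec (CommRingCat.of (AlgebraicClosure k)) ⟶
      FinFr.fixScheme (FinFr.extStr (AlgebraicClosure k) f) F hF2,
      t ≫ ι ≫ FinFr.extStr (AlgebraicClosure k) f = 𝟙 _ →
      (t ≫ ι ≫ FinFr.extπ (AlgebraicClosure k) f) ≫ f =
        Spec.map (CommRingCat.ofHom (algebraMap k (AlgebraicClosure k))) := by
    intro t ht
    simp only [Category.assoc]
    rw [hc, reassoc_of% ht]
  have hB : ∀ t : Spec (CommRingCat.of (AlgebraicClosure k)) ⟶
      FinFr.fixScheme (FinFr.extStr (AlgebraicClosure k) f) F hF2,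
      (t ≫ ι ≫ FinFr.extπ (AlgebraicClosure k) f) ≫ FX =
        t ≫ ι ≫ FinFr.extπ (AlgebraicClosure k) f := by
    intro t
    simp only [Category.assoc]
    rw [← hF1, reassoc_of% (fixι_comp (FinFr.extStr (AlgebraicClosure k) f) F hF2)]
  let Θ : FinFr.fixScheme (FinFr.extStr (AlgebraicClosure k) f) F hF2 →
      FixN (AlgebraicClosure k) f FX := fun z =>
    ⟨pointOfClosedPoint (ι ≫ FinFr.extStr (AlgebraicClosure k) f) z (hcl z) ≫
      ι ≫ FinFr.extπ (AlgebraicClosure k) f,
      hA _ (pointOfClosedPoint_comp (ι ≫ FinFr.extStr (AlgebraicClosure k) f) z (hcl z)), hB _⟩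
  have hΘ : Function.Injective Θ := by
    intro z z' h
    have h1 : pointOfClosedPoint (ι ≫ FinFr.extStr (AlgebraicClosure k) f) z (hcl z) ≫
        ι ≫ FinFr.extπ (AlgebraicClosure k) f =
        pointOfClosedPoint (ι ≫ FinFr.extStr (AlgebraicClosure k) f) z' (hcl z') ≫
        ι ≫ FinFr.extπ (AlgebraicClosure k) f :=
      congrArg Subtype.val h
    have a1 := pointOfClosedPoint_comp (ι ≫ FinFr.extStr (AlgebraicClosure k) f) z (hcl z)
    have a2 := pointOfClosedPoint_comp (ι ≫ FinFr.extStr (AlgebraicClosure k) f) z' (hcl z')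
    have h2 : pointOfClosedPoint (ι ≫ FinFr.extStr (AlgebraicClosure k) f) z (hcl z) ≫ ι =
        pointOfClosedPoint (ι ≫ FinFr.extStr (AlgebraicClosure k) f) z' (hcl z') ≫ ι := by
      apply pullback.hom_ext
      · simpa only [Category.assoc] using h1
      · rw [Category.assoc, Category.assoc]
        exact a1.trans a2.symm
    have h3 := (cancel_mono ι).1 h2
    have h4 := congrArg (fun u => u (IsLocalRing.closedPoint (AlgebraicClosure k))) h3
    simpa using h4
  exact Finite.of_injective Θ hΘ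

end main

end Groth.Agent.H9.ZTE
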