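import Mathlib
import Groth.Agent.Lib.Helper9.Misc.ZTG1

set_option autoImplicit false
set_option linter.style.haveILetI false
set_option linter.unusedSectionVars false
set_option linter.unusedVariables false

universe u

open AlgebraicGeometry CategoryTheory CategoryTheory.Limits

namespace Groth.Agent.H9.ZTG

theorem zetaFun_closed_open {k : Type u} [Field k] [Finite k]
    {X Y : Scheme.{u}} (f : X ⟶ Spec (CommRingCat.of k)) [LocallyOfFiniteType f] [QuasiCompact f]
    (U : X.Opens) (i : Y ⟶ X) [IsClosedImmersion i] (hY : Set.range i.base = (U : Set X)ᶜ) :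
    Zeta.zetaFun f = Zeta.zetaFun (i ≫ f) * Zeta.zetaFun (U.ι ≫ f) := by
  let Y' : ULift.{u} Bool → Scheme.{u} := fun b => match b with
    | ⟨true⟩ => Y
    | ⟨false⟩ => U.toScheme
  let g' : ∀ b, Y' b ⟶ X := fun b => match b with
    | ⟨true⟩ => i
    | ⟨false⟩ => U.ι
  haveI : ∀ b, IsImmersion (g' b) := by
    rintro ⟨b⟩
    cases b
    · show IsImmersion U.ι; infer_instance
    · show IsImmersion i; infer_instance
  have hpart : ∀ x : X, IsClosed ({x} : Set X) → ∃! b, x ∈ Set.range (g' b).base := by
    intro x _
    by_cases hx : x ∈ U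
    · refine ⟨⟨false⟩, ?_, ?_⟩
      · show x ∈ Set.range U.ι.base
        rw [Scheme.Opens.range_ι]; exact hx
      · rintro ⟨b⟩ hb
        cases b
        · rfl
        · exfalso
          have : x ∈ Set.range i.base := hb
          rw [hY] at this
          exact this hx
    · refine ⟨⟨true⟩, ?_, ?_⟩
      · show x ∈ Set.range i.base
        rw [hY]; exact hx
      · rintro ⟨b⟩ hb
        cases b
        · exfalso
          have : x ∈ Set.range U.ι.base := hb
          rw [Scheme.Opens.range_ι] at this
          exact hx this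
        · rfl
  have := zetaFun_partition f Y' g' hpart
  rw [this]
  have e : ∀ F : ULift.{u} Bool → PowerSeries ℚ, ∏ b, F b = F ⟨true⟩ * F ⟨false⟩ := by
    intro F
    rw [← Equiv.prod_comp Equiv.ulift.symm, Fintype.prod_bool]
    rfl
  rw [e]

end Groth.Agent.H9.ZTG
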