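import Mathlib
import Groth.Agent.Lib.Helper9.Misc.ZTF2

set_option autoImplicit false
set_option linter.style.haveILetI false
set_option linter.unusedSectionVars false
set_option linter.unusedVariables false

namespace Groth.Agent.H9.ZTH

open PowerSeries Groth.Agent.H9.ZTF

theorem derivative_rescale {K : Type*} [CommRing K] (a : K) (F : K⟦X⟧) :
    d⁄dX K (rescale a F) = C a * rescale a (d⁄dX K F) := by
  ext n
  rw [coeff_derivative, coeff_rescale, coeff_C_mul, coeff_rescale, coeff_derivative]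
  ring

theorem derivative_map {K L : Type*} [CommRing K] [CommRing L] (φ : K →+* L) (F : K⟦X⟧) :
    d⁄dX L (map φ F) = map φ (d⁄dX K F) := by
  ext n
  rw [coeff_derivative, coeff_map, coeff_map, coeff_derivative, map_mul, map_add, map_natCast,
    map_one]

theorem sum_pow_primitiveRoot {r : ℕ} (hr : 1 ≤ r) {ξ : ℂ} (hξ : IsPrimitiveRoot ξ r) (j : ℕ) :
    ∑ i ∈ Finset.range r, (ξ ^ i) ^ j = if r ∣ j then (r : ℂ) else 0 := by
  have e : ∀ i, (ξ ^ i) ^ j = (ξ ^ j) ^ i := fun i => by rw [← pow_mul, ← pow_mul, mul_comm]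
  simp_rw [e]
  split_ifs with h
  · rw [(hξ.pow_eq_one_iff_dvd j).2 h]
    simp
  · have hne : ξ ^ j ≠ 1 := fun h1 => h ((hξ.pow_eq_one_iff_dvd j).1 h1)
    rw [geom_sum_eq hne, ← pow_mul, mul_comm, pow_mul, hξ.pow_eq_one, one_pow, sub_self, zero_div]

theorem zeta_base_ext_formal (r : ℕ) (hr : 1 ≤ r) (ξ : ℂ) (hξ : IsPrimitiveRoot ξ r)
    (Z Z' : ℚ⟦X⟧) (N N' : ℕ → ℚ)
    (hZ0 : constantCoeff Z = 1) (hZ'0 : constantCoeff Z' = 1)
    (hZ : d⁄dX ℚ Z = Z * mk (fun m => N (m + 1)))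
    (hZ' : d⁄dX ℚ Z' = Z' * mk (fun m => N' (m + 1)))
    (hN : ∀ m, N' m = N (r * m)) :
    subst ((X : ℂ⟦X⟧) ^ r) (map (algebraMap ℚ ℂ) Z') =
      ∏ i ∈ Finset.range r, rescale (ξ ^ i) (map (algebraMap ℚ ℂ) Z) := by
  have hr0 : r ≠ 0 := by omega
  set Zc := map (algebraMap ℚ ℂ) Z with hZc
  set Zc' := map (algebraMap ℚ ℂ) Z' with hZc'
  set Λ : ℂ⟦X⟧ := mk (fun m => ((N (m + 1) : ℚ) : ℂ)) with hΛ
  set Λ' : ℂ⟦X⟧ := mk (fun m => ((N' (m + 1) : ℚ) : ℂ)) with hΛ'
  have hmapΛ : map (algebraMap ℚ ℂ) (mk (fun m => N (m + 1))) = Λ := by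
    ext n; simp [hΛ]
  have hmapΛ' : map (algebraMap ℚ ℂ) (mk (fun m => N' (m + 1))) = Λ' := by
    ext n; simp [hΛ']
  have hdZc : d⁄dX ℂ Zc = Zc * Λ := by
    rw [hZc, derivative_map, hZ, map_mul, hmapΛ]
  have hdZc' : d⁄dX ℂ Zc' = Zc' * Λ' := by
    rw [hZc', derivative_map, hZ', map_mul, hmapΛ']
  have hsub : HasSubst ((X : ℂ⟦X⟧) ^ r) := HasSubst.X_pow hr0
  set L : ℂ⟦X⟧ := subst ((X : ℂ⟦X⟧) ^ r) Λ' * d⁄dX ℂ ((X : ℂ⟦X⟧) ^ r) with hL
  have hLeq : L = ∑ i ∈ Finset.range r, C (ξ ^ i) * rescale (ξ ^ i) Λ := by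
    ext n
    rw [hL, map_sum]
    have h1 : ∀ i ∈ Finset.range r, coeff n (C (ξ ^ i) * rescale (ξ ^ i) Λ) =
        ((N (n + 1) : ℚ) : ℂ) * (ξ ^ i) ^ (n + 1) := by
      intro i _
      rw [coeff_C_mul, coeff_rescale, hΛ, coeff_mk]
      ring
    rw [Finset.sum_congr rfl h1, ← Finset.mul_sum, sum_pow_primitiveRoot hr hξ]
    have hd : d⁄dX ℂ ((X : ℂ⟦X⟧) ^ r) = C (r : ℂ) * X ^ (r - 1) := by
      rw [Derivation.leibniz_pow, derivative_X, smul_eq_mul, mul_one, nsmul_eq_mul]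
      simp
    rw [hd, ← mul_assoc, coeff_mul_X_pow', mul_comm _ (C (r : ℂ)), coeff_C_mul,
      coeff_subst_X_pow hr0]
    by_cases hdvd : r ∣ n + 1
    · obtain ⟨c, hc⟩ := hdvd
      have hc1 : 1 ≤ c := by
        rcases Nat.eq_zero_or_pos c with rfl | h
        · omega
        · exact h
      obtain ⟨c', rfl⟩ : ∃ c', c = c' + 1 := ⟨c - 1, by omega⟩
      have hn : n = r * c' + (r - 1) := by
        have : r * (c' + 1) = r * c' + r := by ring
        omega
      have hle : r - 1 ≤ n := by omega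
      have hsub' : n - (r - 1) = r * c' := by omega
      rw [if_pos hle, hsub', if_pos (dvd_mul_right r _), if_pos ⟨c' + 1, hc⟩,
        Nat.mul_div_cancel_left _ (by omega : 0 < r), hΛ', coeff_mk, hN (c' + 1), ← hc]
      simp
      ring
    · rw [if_neg hdvd, mul_zero]
      by_cases hle : r - 1 ≤ n
      · rw [if_pos hle]
        have : ¬ r ∣ n - (r - 1) := by
          intro ⟨c, hc⟩
          apply hdvd
          refine ⟨c + 1, ?_⟩
          have : n + 1 = (n - (r - 1)) + r := by omega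
          rw [this, hc]; ring
        rw [if_neg this, mul_zero]
      · rw [if_neg hle]
  apply eq_of_derivative_eq_mul (L := L)
  · rw [constantCoeff_subst_X_pow hr0, hZc', ← coeff_zero_eq_constantCoeff_apply, coeff_map,
      coeff_zero_eq_constantCoeff_apply, hZ'0]
    simp
  · apply constantCoeff_prod_eq_one
    intro i _
    rw [← coeff_zero_eq_constantCoeff_apply, coeff_rescale, hZc, coeff_map,
      coeff_zero_eq_constantCoeff_apply, hZ0]
    simp
  · rw [derivative_subst hsub, hdZc', hL, ← mul_assoc]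
    congr 1
    rw [← coe_substAlgHom hsub, map_mul]
  · rw [hLeq]
    have := derivative_prod (Finset.range r) (fun i => rescale (ξ ^ i) Zc)
      (fun i => -(C (ξ ^ i) * rescale (ξ ^ i) Λ)) (by
        intro i _
        rw [derivative_rescale, hdZc, map_mul]
        ring)
    rw [this, Finset.sum_neg_distrib]
    ring

end Groth.Agent.H9.ZTH
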