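import Mathlib
import Groth.Agent.Lib.Helper9.Misc.ZTG1
import Groth.Agent.Lib.Helper9.Misc.ZTH1
import Groth.Agent.Lib.Helper9.Misc.ZTD2

set_option autoImplicit false
set_option linter.style.haveILetI false
set_option linter.unusedSectionVars false
set_option linter.unusedVariables false

universe u

open AlgebraicGeometry CategoryTheory CategoryTheory.Limits

namespace Groth.Agent.H9.ZTH

open Groth.Agent.H9.ZTC Groth.Agent.H9.ZTG

variable {k : Type u} [Field k] {X : Scheme.{u}} (f : X ⟶ Spec (CommRingCat.of k))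
  (k' : Type u) [Field k'] [Algebra k k']

/-- points of a base extension -/
noncomputable def ptsBaseExt (L : Type u) [Field L] [Algebra k' L] [Algebra k L]
    [IsScalarTower k k' L] :
    Pts (pullback.snd f (Spec.map (CommRingCat.ofHom (algebraMap k k')))) L ≃ Pts f L where
  toFun h := ⟨h.1 ≫ pullback.fst f _, by
    rw [Category.assoc, pullback.condition, ← Category.assoc, h.2, ← Spec.map_comp,
      ← CommRingCat.ofHom_comp, ← IsScalarTower.algebraMap_eq]⟩
  invFun u := ⟨pullback.lift u.1 (Spec.map (CommRingCat.ofHom (algebraMap k' L))) (by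
      rw [u.2, ← Spec.map_comp, ← CommRingCat.ofHom_comp, ← IsScalarTower.algebraMap_eq]),
    pullback.lift_snd _ _ _⟩
  left_inv h := by
    apply Subtype.ext
    apply pullback.hom_ext
    · exact pullback.lift_fst _ _ _
    · rw [pullback.lift_snd]; exact h.2.symm
  right_inv u := by
    apply Subtype.ext
    exact pullback.lift_fst _ _ _

theorem nPts_base_ext [Finite k] [Finite k'] [LocallyOfFiniteType f] [QuasiCompact f] (m : ℕ) :
    Zeta.nPts (pullback.snd f (Spec.map (CommRingCat.ofHom (algebraMap k k')))) m =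
      Zeta.nPts f (Module.finrank k k' * m) := by
  rcases Nat.eq_zero_or_pos m with rfl | hm
  · unfold Zeta.nPts
    simp
  obtain ⟨L, _, _, _, hL⟩ := exists_field_of_degree (k := k') m hm
  letI : Algebra k L := ((algebraMap k' L).comp (algebraMap k k')).toAlgebra
  haveI : IsScalarTower k k' L := IsScalarTower.of_algebraMap_eq (fun _ => rfl)
  rw [← hL, Module.finrank_mul_finrank k k' L,
    ← card_pts (pullback.snd f (Spec.map (CommRingCat.ofHom (algebraMap k k')))) L,
    ← card_pts f L]
  exact Nat.card_congr (ptsBaseExt f k' L)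

theorem zeta_base_ext [Finite k] [Finite k'] [LocallyOfFiniteType f] [QuasiCompact f] (ξ : ℂ)
    (hξ : IsPrimitiveRoot ξ (Module.finrank k k')) :
    PowerSeries.subst ((PowerSeries.X : PowerSeries ℂ) ^ Module.finrank k k')
        (PowerSeries.map (algebraMap ℚ ℂ) (Zeta.zetaFun
          (pullback.snd f (Spec.map (CommRingCat.ofHom (algebraMap k k')))))) =
      ∏ i ∈ Finset.range (Module.finrank k k'),
        PowerSeries.rescale (ξ ^ i) (PowerSeries.map (algebraMap ℚ ℂ) (Zeta.zetaFun f)) := by
  refine zeta_base_ext_formal (Module.finrank k k') Module.finrank_pos ξ hξ (Zeta.zetaFun f)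
    (Zeta.zetaFun (pullback.snd f (Spec.map (CommRingCat.ofHom (algebraMap k k')))))
    (fun m => (Zeta.nPts f m : ℚ))
    (fun m => (Zeta.nPts (pullback.snd f (Spec.map (CommRingCat.ofHom (algebraMap k k')))) m : ℚ))
    (Groth.Agent.H6.ZF.constantCoeff_zetaFun _) (Groth.Agent.H6.ZF.constantCoeff_zetaFun _)
    (by rw [Groth.Agent.H6.ZF.derivative_zetaFun, Groth.Agent.H9.ZTD.derivative_logZeta])
    (by rw [Groth.Agent.H6.ZF.derivative_zetaFun, Groth.Agent.H9.ZTD.derivative_logZeta])
    (fun m => by rw [nPts_base_ext])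

end Groth.Agent.H9.ZTH
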